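import Cfsg.Agent.Helper17.ONTC.Fin12

set_option autoImplicit false
set_option linter.all false
set_option maxRecDepth 100000

noncomputable section

namespace Cfsg.Agent.Helper17.ONTC

theorem N120001 : nd 120001 = n223260 := ndS (p := 99467) (l := 5) rfl N99467 D223260
theorem N120002 : nd 120002 = n223261 := ndS (p := 99469) (l := 0) rfl N99469 D223261
theorem N120003 : nd 120003 = n223262 := ndS (p := 99476) (l := 1) rfl N99476 D223262
theorem N120004 : nd 120004 = n223263 := ndS (p := 99476) (l := 5) rfl N99476 D223263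
theorem N120005 : nd 120005 = n223264 := ndS (p := 99491) (l := 5) rfl N99491 D223264
theorem N120006 : nd 120006 = n223265 := ndS (p := 99492) (l := 1) rfl N99492 D223265
theorem N120007 : nd 120007 = n223266 := ndS (p := 99516) (l := 6) rfl N99516 D223266
theorem N120008 : nd 120008 = n223267 := ndS (p := 99518) (l := 0) rfl N99518 D223267
theorem N120009 : nd 120009 = n223268 := ndS (p := 99524) (l := 2) rfl N99524 D223268
theorem N120010 : nd 120010 = n223269 := ndS (p := 99527) (l := 0) rfl N99527 D223269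
theorem N120011 : nd 120011 = n223270 := ndS (p := 99529) (l := 3) rfl N99529 D223270
theorem N120012 : nd 120012 = n223271 := ndS (p := 99546) (l := 0) rfl N99546 D223271
theorem N120013 : nd 120013 = n223272 := ndS (p := 99548) (l := 5) rfl N99548 D223272
theorem N120014 : nd 120014 = n223273 := ndS (p := 99549) (l := 6) rfl N99549 D223273
theorem N120015 : nd 120015 = n223274 := ndS (p := 99582) (l := 0) rfl N99582 D223274
theorem N120016 : nd 120016 = n223275 := ndS (p := 99585) (l := 5) rfl N99585 D223275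
theorem N120017 : nd 120017 = n223276 := ndS (p := 99588) (l := 5) rfl N99588 D223276
theorem N120018 : nd 120018 = n223277 := ndS (p := 99589) (l := 5) rfl N99589 D223277
theorem N120019 : nd 120019 = n223278 := ndS (p := 99593) (l := 5) rfl N99593 D223278
theorem N120020 : nd 120020 = n223279 := ndS (p := 99596) (l := 6) rfl N99596 D223279
theorem N120021 : nd 120021 = n223280 := ndS (p := 99597) (l := 6) rfl N99597 D223280
theorem N120022 : nd 120022 = n223281 := ndS (p := 99614) (l := 1) rfl N99614 D223281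
theorem N120023 : nd 120023 = n223282 := ndS (p := 99619) (l := 1) rfl N99619 D223282
theorem N120024 : nd 120024 = n223283 := ndS (p := 99619) (l := 5) rfl N99619 D223283
theorem N120025 : nd 120025 = n223284 := ndS (p := 99620) (l := 0) rfl N99620 D223284
theorem N120026 : nd 120026 = n223285 := ndS (p := 99620) (l := 5) rfl N99620 D223285
theorem N120027 : nd 120027 = n223286 := ndS (p := 99642) (l := 5) rfl N99642 D223286
theorem N120028 : nd 120028 = n223287 := ndS (p := 99643) (l := 3) rfl N99643 D223287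
theorem N120029 : nd 120029 = n223288 := ndS (p := 99643) (l := 4) rfl N99643 D223288
theorem N120030 : nd 120030 = n223289 := ndS (p := 99643) (l := 5) rfl N99643 D223289
theorem N120031 : nd 120031 = n223290 := ndS (p := 99645) (l := 0) rfl N99645 D223290
theorem N120032 : nd 120032 = n223291 := ndS (p := 99645) (l := 1) rfl N99645 D223291
theorem N120033 : nd 120033 = n223292 := ndS (p := 99646) (l := 1) rfl N99646 D223292
theorem N120034 : nd 120034 = n223293 := ndS (p := 99649) (l := 6) rfl N99649 D223293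
theorem N120035 : nd 120035 = n223294 := ndS (p := 99655) (l := 0) rfl N99655 D223294
theorem N120036 : nd 120036 = n223295 := ndS (p := 99655) (l := 7) rfl N99655 D223295
theorem N120037 : nd 120037 = n223296 := ndS (p := 99657) (l := 5) rfl N99657 D223296
theorem N120038 : nd 120038 = n223297 := ndS (p := 99658) (l := 5) rfl N99658 D223297
theorem N120039 : nd 120039 = n223298 := ndS (p := 99659) (l := 5) rfl N99659 D223298
theorem N120040 : nd 120040 = n223299 := ndS (p := 99660) (l := 4) rfl N99660 D223299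
theorem N120041 : nd 120041 = n223300 := ndS (p := 99663) (l := 3) rfl N99663 D223300
theorem N120042 : nd 120042 = n223301 := ndS (p := 99664) (l := 0) rfl N99664 D223301
theorem N120043 : nd 120043 = n223302 := ndS (p := 99664) (l := 7) rfl N99664 D223302
theorem N120044 : nd 120044 = n223303 := ndS (p := 99677) (l := 4) rfl N99677 D223303
theorem N120045 : nd 120045 = n223304 := ndS (p := 99678) (l := 5) rfl N99678 D223304
theorem N120046 : nd 120046 = n223305 := ndS (p := 99679) (l := 5) rfl N99679 D223305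
theorem N120047 : nd 120047 = n223306 := ndS (p := 99680) (l := 0) rfl N99680 D223306
theorem N120048 : nd 120048 = n223307 := ndS (p := 99680) (l := 1) rfl N99680 D223307
theorem N120049 : nd 120049 = n223308 := ndS (p := 99693) (l := 1) rfl N99693 D223308
theorem N120050 : nd 120050 = n223309 := ndS (p := 99693) (l := 4) rfl N99693 D223309
theorem N120051 : nd 120051 = n223310 := ndS (p := 99693) (l := 7) rfl N99693 D223310
theorem N120052 : nd 120052 = n223311 := ndS (p := 99720) (l := 5) rfl N99720 D223311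
theorem N120053 : nd 120053 = n223312 := ndS (p := 99721) (l := 5) rfl N99721 D223312
theorem N120054 : nd 120054 = n223313 := ndS (p := 99723) (l := 1) rfl N99723 D223313
theorem N120055 : nd 120055 = n223314 := ndS (p := 99734) (l := 0) rfl N99734 D223314
theorem N120056 : nd 120056 = n223315 := ndS (p := 99742) (l := 4) rfl N99742 D223315
theorem N120057 : nd 120057 = n223316 := ndS (p := 99761) (l := 1) rfl N99761 D223316
theorem N120058 : nd 120058 = n223317 := ndS (p := 99767) (l := 0) rfl N99767 D223317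
theorem N120059 : nd 120059 = n223318 := ndS (p := 99767) (l := 7) rfl N99767 D223318
theorem N120060 : nd 120060 = n223319 := ndS (p := 99771) (l := 0) rfl N99771 D223319
theorem N120061 : nd 120061 = n223320 := ndS (p := 99776) (l := 5) rfl N99776 D223320
theorem N120062 : nd 120062 = n223321 := ndS (p := 99777) (l := 6) rfl N99777 D223321
theorem N120063 : nd 120063 = n223322 := ndS (p := 99779) (l := 0) rfl N99779 D223322
theorem N120064 : nd 120064 = n223323 := ndS (p := 99779) (l := 1) rfl N99779 D223323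
theorem N120065 : nd 120065 = n223324 := ndS (p := 99782) (l := 6) rfl N99782 D223324
theorem N120066 : nd 120066 = n223325 := ndS (p := 99784) (l := 6) rfl N99784 D223325
theorem N120067 : nd 120067 = n223326 := ndS (p := 99786) (l := 5) rfl N99786 D223326
theorem N120068 : nd 120068 = n223327 := ndS (p := 99824) (l := 1) rfl N99824 D223327
theorem N120069 : nd 120069 = n223328 := ndS (p := 99824) (l := 7) rfl N99824 D223328
theorem N120070 : nd 120070 = n223329 := ndS (p := 99836) (l := 5) rfl N99836 D223329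
theorem N120071 : nd 120071 = n223330 := ndS (p := 99843) (l := 4) rfl N99843 D223330
theorem N120072 : nd 120072 = n223331 := ndS (p := 99844) (l := 5) rfl N99844 D223331
theorem N120073 : nd 120073 = n223332 := ndS (p := 99852) (l := 5) rfl N99852 D223332
theorem N120074 : nd 120074 = n223333 := ndS (p := 99873) (l := 7) rfl N99873 D223333
theorem N120075 : nd 120075 = n223334 := ndS (p := 99874) (l := 0) rfl N99874 D223334
theorem N120076 : nd 120076 = n223335 := ndS (p := 99874) (l := 4) rfl N99874 D223335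
theorem N120077 : nd 120077 = n223336 := ndS (p := 99874) (l := 7) rfl N99874 D223336
theorem N120078 : nd 120078 = n223337 := ndS (p := 99882) (l := 5) rfl N99882 D223337
theorem N120079 : nd 120079 = n223338 := ndS (p := 99911) (l := 1) rfl N99911 D223338
theorem N120080 : nd 120080 = n223339 := ndS (p := 99911) (l := 7) rfl N99911 D223339
theorem N120081 : nd 120081 = n223340 := ndS (p := 99915) (l := 3) rfl N99915 D223340
theorem N120082 : nd 120082 = n223341 := ndS (p := 99915) (l := 5) rfl N99915 D223341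
theorem N120083 : nd 120083 = n223342 := ndS (p := 99921) (l := 6) rfl N99921 D223342
theorem N120084 : nd 120084 = n223343 := ndS (p := 99922) (l := 1) rfl N99922 D223343
theorem N120085 : nd 120085 = n223344 := ndS (p := 99922) (l := 7) rfl N99922 D223344
theorem N120086 : nd 120086 = n223345 := ndS (p := 99934) (l := 5) rfl N99934 D223345
theorem N120087 : nd 120087 = n223346 := ndS (p := 99937) (l := 4) rfl N99937 D223346
theorem N120088 : nd 120088 = n223347 := ndS (p := 99937) (l := 6) rfl N99937 D223347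
theorem N120089 : nd 120089 = n223348 := ndS (p := 99940) (l := 4) rfl N99940 D223348
theorem N120090 : nd 120090 = n223349 := ndS (p := 99941) (l := 4) rfl N99941 D223349
theorem N120091 : nd 120091 = n223350 := ndS (p := 99942) (l := 4) rfl N99942 D223350
theorem N120092 : nd 120092 = n223351 := ndS (p := 99949) (l := 6) rfl N99949 D223351
theorem N120093 : nd 120093 = n223352 := ndS (p := 99952) (l := 6) rfl N99952 D223352
theorem N120094 : nd 120094 = n223353 := ndS (p := 99958) (l := 6) rfl N99958 D223353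
theorem N120095 : nd 120095 = n223354 := ndS (p := 99961) (l := 4) rfl N99961 D223354
theorem N120096 : nd 120096 = n223355 := ndS (p := 99962) (l := 5) rfl N99962 D223355
theorem N120097 : nd 120097 = n223356 := ndS (p := 99965) (l := 0) rfl N99965 D223356
theorem N120098 : nd 120098 = n223357 := ndS (p := 99965) (l := 6) rfl N99965 D223357
theorem N120099 : nd 120099 = n223358 := ndS (p := 99968) (l := 6) rfl N99968 D223358
theorem N120100 : nd 120100 = n223359 := ndS (p := 99969) (l := 5) rfl N99969 D223359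
theorem N120101 : nd 120101 = n223360 := ndS (p := 99971) (l := 0) rfl N99971 D223360
theorem N120102 : nd 120102 = n223361 := ndS (p := 99971) (l := 1) rfl N99971 D223361
theorem N120103 : nd 120103 = n223362 := ndS (p := 99971) (l := 7) rfl N99971 D223362
theorem N120104 : nd 120104 = n223363 := ndS (p := 99975) (l := 0) rfl N99975 D223363
theorem N120105 : nd 120105 = n223364 := ndS (p := 99975) (l := 1) rfl N99975 D223364
theorem N120106 : nd 120106 = n223365 := ndS (p := 99975) (l := 7) rfl N99975 D223365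
theorem N120107 : nd 120107 = n223366 := ndS (p := 99981) (l := 6) rfl N99981 D223366
theorem N120108 : nd 120108 = n223367 := ndS (p := 99983) (l := 4) rfl N99983 D223367
theorem N120109 : nd 120109 = n223368 := ndS (p := 99984) (l := 4) rfl N99984 D223368
theorem N120110 : nd 120110 = n223369 := ndS (p := 99990) (l := 5) rfl N99990 D223369
theorem N120111 : nd 120111 = n223370 := ndS (p := 99994) (l := 4) rfl N99994 D223370
theorem N120112 : nd 120112 = n223371 := ndS (p := 99999) (l := 0) rfl N99999 D223371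
theorem N120113 : nd 120113 = n223372 := ndS (p := 99999) (l := 1) rfl N99999 D223372
theorem N120114 : nd 120114 = n223373 := ndS (p := 100009) (l := 0) rfl N100009 D223373
theorem N120115 : nd 120115 = n223374 := ndS (p := 100009) (l := 1) rfl N100009 D223374
theorem N120116 : nd 120116 = n223375 := ndS (p := 100031) (l := 5) rfl N100031 D223375
theorem N120117 : nd 120117 = n223376 := ndS (p := 100036) (l := 5) rfl N100036 D223376
theorem N120118 : nd 120118 = n223377 := ndS (p := 100036) (l := 7) rfl N100036 D223377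
theorem N120119 : nd 120119 = n223378 := ndS (p := 100041) (l := 4) rfl N100041 D223378
theorem N120120 : nd 120120 = n223379 := ndS (p := 100041) (l := 7) rfl N100041 D223379
theorem N120121 : nd 120121 = n223380 := ndS (p := 100043) (l := 0) rfl N100043 D223380
theorem N120122 : nd 120122 = n223381 := ndS (p := 100048) (l := 0) rfl N100048 D223381
theorem N120123 : nd 120123 = n223382 := ndS (p := 100048) (l := 7) rfl N100048 D223382
theorem N120124 : nd 120124 = n223383 := ndS (p := 100050) (l := 1) rfl N100050 D223383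
theorem N120125 : nd 120125 = n223384 := ndS (p := 100050) (l := 3) rfl N100050 D223384
theorem N120126 : nd 120126 = n223385 := ndS (p := 100050) (l := 5) rfl N100050 D223385
theorem N120127 : nd 120127 = n223386 := ndS (p := 100051) (l := 7) rfl N100051 D223386
theorem N120128 : nd 120128 = n223387 := ndS (p := 100057) (l := 5) rfl N100057 D223387
theorem N120129 : nd 120129 = n223388 := ndS (p := 100060) (l := 6) rfl N100060 D223388
theorem N120130 : nd 120130 = n223389 := ndS (p := 100063) (l := 4) rfl N100063 D223389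
theorem N120131 : nd 120131 = n223390 := ndS (p := 100064) (l := 4) rfl N100064 D223390
theorem N120132 : nd 120132 = n223391 := ndS (p := 100065) (l := 3) rfl N100065 D223391
theorem N120133 : nd 120133 = n223392 := ndS (p := 100065) (l := 6) rfl N100065 D223392
theorem N120134 : nd 120134 = n223393 := ndS (p := 100066) (l := 1) rfl N100066 D223393
theorem N120135 : nd 120135 = n223394 := ndS (p := 100066) (l := 7) rfl N100066 D223394
theorem N120136 : nd 120136 = n223395 := ndS (p := 100069) (l := 5) rfl N100069 D223395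
theorem N120137 : nd 120137 = n223396 := ndS (p := 100070) (l := 6) rfl N100070 D223396
theorem N120138 : nd 120138 = n223397 := ndS (p := 100092) (l := 6) rfl N100092 D223397
theorem N120139 : nd 120139 = n223398 := ndS (p := 100093) (l := 5) rfl N100093 D223398
theorem N120140 : nd 120140 = n223399 := ndS (p := 100094) (l := 0) rfl N100094 D223399
theorem N120141 : nd 120141 = n223400 := ndS (p := 100094) (l := 1) rfl N100094 D223400
theorem N120142 : nd 120142 = n223401 := ndS (p := 100094) (l := 5) rfl N100094 D223401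
theorem N120143 : nd 120143 = n223402 := ndS (p := 100094) (l := 7) rfl N100094 D223402
theorem N120144 : nd 120144 = n223403 := ndS (p := 100095) (l := 4) rfl N100095 D223403
theorem N120145 : nd 120145 = n223404 := ndS (p := 100097) (l := 0) rfl N100097 D223404
theorem N120146 : nd 120146 = n223405 := ndS (p := 100097) (l := 1) rfl N100097 D223405
theorem N120147 : nd 120147 = n223406 := ndS (p := 100099) (l := 5) rfl N100099 D223406
theorem N120148 : nd 120148 = n223407 := ndS (p := 100104) (l := 5) rfl N100104 D223407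
theorem N120149 : nd 120149 = n223408 := ndS (p := 100105) (l := 5) rfl N100105 D223408
theorem N120150 : nd 120150 = n223409 := ndS (p := 100105) (l := 6) rfl N100105 D223409
theorem N120151 : nd 120151 = n223410 := ndS (p := 100109) (l := 1) rfl N100109 D223410
theorem N120152 : nd 120152 = n223411 := ndS (p := 100109) (l := 7) rfl N100109 D223411
theorem N120153 : nd 120153 = n223412 := ndS (p := 100110) (l := 2) rfl N100110 D223412
theorem N120154 : nd 120154 = n223413 := ndS (p := 100110) (l := 6) rfl N100110 D223413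
theorem N120155 : nd 120155 = n223414 := ndS (p := 100111) (l := 0) rfl N100111 D223414
theorem N120156 : nd 120156 = n223415 := ndS (p := 100111) (l := 1) rfl N100111 D223415
theorem N120157 : nd 120157 = n223416 := ndS (p := 100111) (l := 5) rfl N100111 D223416
theorem N120158 : nd 120158 = n223417 := ndS (p := 100111) (l := 7) rfl N100111 D223417
theorem N120159 : nd 120159 = n223418 := ndS (p := 100113) (l := 3) rfl N100113 D223418
theorem N120160 : nd 120160 = n223419 := ndS (p := 100115) (l := 3) rfl N100115 D223419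
theorem N120161 : nd 120161 = n223420 := ndS (p := 100129) (l := 1) rfl N100129 D223420
theorem N120162 : nd 120162 = n223421 := ndS (p := 100130) (l := 0) rfl N100130 D223421
theorem N120163 : nd 120163 = n223422 := ndS (p := 100132) (l := 0) rfl N100132 D223422
theorem N120164 : nd 120164 = n223423 := ndS (p := 100163) (l := 6) rfl N100163 D223423
theorem N120165 : nd 120165 = n223424 := ndS (p := 100173) (l := 5) rfl N100173 D223424
theorem N120166 : nd 120166 = n223425 := ndS (p := 100178) (l := 6) rfl N100178 D223425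
theorem N120167 : nd 120167 = n223426 := ndS (p := 100180) (l := 1) rfl N100180 D223426
theorem N120168 : nd 120168 = n223427 := ndS (p := 100187) (l := 3) rfl N100187 D223427
theorem N120169 : nd 120169 = n223428 := ndS (p := 100191) (l := 0) rfl N100191 D223428
theorem N120170 : nd 120170 = n223429 := ndS (p := 100191) (l := 1) rfl N100191 D223429
theorem N120171 : nd 120171 = n223430 := ndS (p := 100191) (l := 4) rfl N100191 D223430
theorem N120172 : nd 120172 = n223431 := ndS (p := 100192) (l := 6) rfl N100192 D223431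
theorem N120173 : nd 120173 = n223432 := ndS (p := 100210) (l := 1) rfl N100210 D223432
theorem N120174 : nd 120174 = n223433 := ndS (p := 100210) (l := 2) rfl N100210 D223433
theorem N120175 : nd 120175 = n223434 := ndS (p := 100210) (l := 5) rfl N100210 D223434
theorem N120176 : nd 120176 = n223435 := ndS (p := 100216) (l := 0) rfl N100216 D223435
theorem N120177 : nd 120177 = n223436 := ndS (p := 100216) (l := 2) rfl N100216 D223436
theorem N120178 : nd 120178 = n223437 := ndS (p := 100219) (l := 5) rfl N100219 D223437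
theorem N120179 : nd 120179 = n223438 := ndS (p := 100222) (l := 5) rfl N100222 D223438
theorem N120180 : nd 120180 = n223439 := ndS (p := 100223) (l := 6) rfl N100223 D223439
theorem N120181 : nd 120181 = n223440 := ndS (p := 100224) (l := 4) rfl N100224 D223440
theorem N120182 : nd 120182 = n223441 := ndS (p := 100230) (l := 5) rfl N100230 D223441
theorem N120183 : nd 120183 = n223442 := ndS (p := 100238) (l := 5) rfl N100238 D223442
theorem N120184 : nd 120184 = n223443 := ndS (p := 100240) (l := 5) rfl N100240 D223443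
theorem N120185 : nd 120185 = n223444 := ndS (p := 100242) (l := 6) rfl N100242 D223444
theorem N120186 : nd 120186 = n223445 := ndS (p := 100244) (l := 0) rfl N100244 D223445
theorem N120187 : nd 120187 = n223446 := ndS (p := 100252) (l := 1) rfl N100252 D223446
theorem N120188 : nd 120188 = n223447 := ndS (p := 100259) (l := 6) rfl N100259 D223447
theorem N120189 : nd 120189 = n223448 := ndS (p := 100262) (l := 5) rfl N100262 D223448
theorem N120190 : nd 120190 = n223449 := ndS (p := 100263) (l := 1) rfl N100263 D223449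
theorem N120191 : nd 120191 = n223450 := ndS (p := 100263) (l := 4) rfl N100263 D223450
theorem N120192 : nd 120192 = n223451 := ndS (p := 100263) (l := 6) rfl N100263 D223451
theorem N120193 : nd 120193 = n223452 := ndS (p := 100265) (l := 1) rfl N100265 D223452
theorem N120194 : nd 120194 = n223453 := ndS (p := 100272) (l := 1) rfl N100272 D223453
theorem N120195 : nd 120195 = n223454 := ndS (p := 100274) (l := 0) rfl N100274 D223454
theorem N120196 : nd 120196 = n223455 := ndS (p := 100285) (l := 4) rfl N100285 D223455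
theorem N120197 : nd 120197 = n223456 := ndS (p := 100285) (l := 6) rfl N100285 D223456
theorem N120198 : nd 120198 = n223457 := ndS (p := 100286) (l := 1) rfl N100286 D223457
theorem N120199 : nd 120199 = n223458 := ndS (p := 100287) (l := 4) rfl N100287 D223458
theorem N120200 : nd 120200 = n223459 := ndS (p := 100288) (l := 4) rfl N100288 D223459
theorem N120201 : nd 120201 = n223460 := ndS (p := 100290) (l := 5) rfl N100290 D223460
theorem N120202 : nd 120202 = n223461 := ndS (p := 100291) (l := 6) rfl N100291 D223461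
theorem N120203 : nd 120203 = n223462 := ndS (p := 100295) (l := 6) rfl N100295 D223462
theorem N120204 : nd 120204 = n223463 := ndS (p := 100353) (l := 0) rfl N100353 D223463
theorem N120205 : nd 120205 = n223464 := ndS (p := 100371) (l := 6) rfl N100371 D223464
theorem N120206 : nd 120206 = n223465 := ndS (p := 100387) (l := 6) rfl N100387 D223465
theorem N120207 : nd 120207 = n223466 := ndS (p := 100411) (l := 3) rfl N100411 D223466
theorem N120208 : nd 120208 = n223467 := ndS (p := 100424) (l := 6) rfl N100424 D223467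
theorem N120209 : nd 120209 = n223468 := ndS (p := 100440) (l := 4) rfl N100440 D223468
theorem N120210 : nd 120210 = n223469 := ndS (p := 100441) (l := 4) rfl N100441 D223469
theorem N120211 : nd 120211 = n223470 := ndS (p := 100450) (l := 5) rfl N100450 D223470
theorem N120212 : nd 120212 = n223471 := ndS (p := 100451) (l := 4) rfl N100451 D223471
theorem N120213 : nd 120213 = n223472 := ndS (p := 100452) (l := 4) rfl N100452 D223472
theorem N120214 : nd 120214 = n223473 := ndS (p := 100454) (l := 0) rfl N100454 D223473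
theorem N120215 : nd 120215 = n223474 := ndS (p := 100454) (l := 1) rfl N100454 D223474
theorem N120216 : nd 120216 = n223475 := ndS (p := 100455) (l := 1) rfl N100455 D223475
theorem N120217 : nd 120217 = n223476 := ndS (p := 100460) (l := 5) rfl N100460 D223476
theorem N120218 : nd 120218 = n223477 := ndS (p := 100462) (l := 5) rfl N100462 D223477
theorem N120219 : nd 120219 = n223478 := ndS (p := 100463) (l := 5) rfl N100463 D223478
theorem N120220 : nd 120220 = n223479 := ndS (p := 100463) (l := 6) rfl N100463 D223479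
theorem N120221 : nd 120221 = n223480 := ndS (p := 100464) (l := 0) rfl N100464 D223480
theorem N120222 : nd 120222 = n223481 := ndS (p := 100464) (l := 4) rfl N100464 D223481
theorem N120223 : nd 120223 = n223482 := ndS (p := 100464) (l := 6) rfl N100464 D223482
theorem N120224 : nd 120224 = n223483 := ndS (p := 100465) (l := 0) rfl N100465 D223483
theorem N120225 : nd 120225 = n223484 := ndS (p := 100465) (l := 1) rfl N100465 D223484
theorem N120226 : nd 120226 = n223485 := ndS (p := 100466) (l := 5) rfl N100466 D223485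
theorem N120227 : nd 120227 = n223486 := ndS (p := 100467) (l := 4) rfl N100467 D223486
theorem N120228 : nd 120228 = n223487 := ndS (p := 100469) (l := 5) rfl N100469 D223487
theorem N120229 : nd 120229 = n223488 := ndS (p := 100470) (l := 1) rfl N100470 D223488
theorem N120230 : nd 120230 = n223489 := ndS (p := 100471) (l := 6) rfl N100471 D223489
theorem N120231 : nd 120231 = n223490 := ndS (p := 100474) (l := 6) rfl N100474 D223490
theorem N120232 : nd 120232 = n223491 := ndS (p := 100475) (l := 1) rfl N100475 D223491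
theorem N120233 : nd 120233 = n223492 := ndS (p := 100475) (l := 3) rfl N100475 D223492
theorem N120234 : nd 120234 = n223493 := ndS (p := 100478) (l := 6) rfl N100478 D223493
theorem N120235 : nd 120235 = n223494 := ndS (p := 100479) (l := 0) rfl N100479 D223494
theorem N120236 : nd 120236 = n223495 := ndS (p := 100479) (l := 5) rfl N100479 D223495
theorem N120237 : nd 120237 = n223496 := ndS (p := 100480) (l := 0) rfl N100480 D223496
theorem N120238 : nd 120238 = n223497 := ndS (p := 100480) (l := 1) rfl N100480 D223497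
theorem N120239 : nd 120239 = n223498 := ndS (p := 100537) (l := 4) rfl N100537 D223498
theorem N120240 : nd 120240 = n223499 := ndS (p := 100545) (l := 7) rfl N100545 D223499
theorem N120241 : nd 120241 = n223500 := ndS (p := 100550) (l := 4) rfl N100550 D223500
theorem N120242 : nd 120242 = n223501 := ndS (p := 100558) (l := 4) rfl N100558 D223501
theorem N120243 : nd 120243 = n223502 := ndS (p := 100576) (l := 0) rfl N100576 D223502
theorem N120244 : nd 120244 = n223503 := ndS (p := 100576) (l := 1) rfl N100576 D223503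
theorem N120245 : nd 120245 = n223504 := ndS (p := 100578) (l := 0) rfl N100578 D223504
theorem N120246 : nd 120246 = n223505 := ndS (p := 100578) (l := 1) rfl N100578 D223505
theorem N120247 : nd 120247 = n223506 := ndS (p := 100579) (l := 0) rfl N100579 D223506
theorem N120248 : nd 120248 = n223507 := ndS (p := 100579) (l := 2) rfl N100579 D223507
theorem N120249 : nd 120249 = n223508 := ndS (p := 100580) (l := 4) rfl N100580 D223508
theorem N120250 : nd 120250 = n223509 := ndS (p := 100580) (l := 6) rfl N100580 D223509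
theorem N120251 : nd 120251 = n223510 := ndS (p := 100585) (l := 4) rfl N100585 D223510
theorem N120252 : nd 120252 = n223511 := ndS (p := 100585) (l := 6) rfl N100585 D223511
theorem N120253 : nd 120253 = n223512 := ndS (p := 100587) (l := 3) rfl N100587 D223512
theorem N120254 : nd 120254 = n223513 := ndS (p := 100613) (l := 5) rfl N100613 D223513
theorem N120255 : nd 120255 = n223514 := ndS (p := 100615) (l := 3) rfl N100615 D223514
theorem N120256 : nd 120256 = n223515 := ndS (p := 100616) (l := 4) rfl N100616 D223515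
theorem N120257 : nd 120257 = n223516 := ndS (p := 100623) (l := 5) rfl N100623 D223516
theorem N120258 : nd 120258 = n223517 := ndS (p := 100623) (l := 7) rfl N100623 D223517
theorem N120259 : nd 120259 = n223518 := ndS (p := 100626) (l := 4) rfl N100626 D223518
theorem N120260 : nd 120260 = n223519 := ndS (p := 100626) (l := 7) rfl N100626 D223519
theorem N120261 : nd 120261 = n223520 := ndS (p := 100629) (l := 3) rfl N100629 D223520
theorem N120262 : nd 120262 = n223521 := ndS (p := 100634) (l := 3) rfl N100634 D223521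
theorem N120263 : nd 120263 = n223522 := ndS (p := 100635) (l := 4) rfl N100635 D223522
theorem N120264 : nd 120264 = n223523 := ndS (p := 100663) (l := 0) rfl N100663 D223523
theorem N120265 : nd 120265 = n223524 := ndS (p := 100713) (l := 4) rfl N100713 D223524
theorem N120266 : nd 120266 = n223525 := ndS (p := 100715) (l := 6) rfl N100715 D223525
theorem N120267 : nd 120267 = n223526 := ndS (p := 100716) (l := 5) rfl N100716 D223526
theorem N120268 : nd 120268 = n223527 := ndS (p := 100717) (l := 4) rfl N100717 D223527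
theorem N120269 : nd 120269 = n223528 := ndS (p := 100719) (l := 6) rfl N100719 D223528
theorem N120270 : nd 120270 = n223529 := ndS (p := 100726) (l := 7) rfl N100726 D223529
theorem N120271 : nd 120271 = n223530 := ndS (p := 100729) (l := 1) rfl N100729 D223530
theorem N120272 : nd 120272 = n223531 := ndS (p := 100731) (l := 4) rfl N100731 D223531
theorem N120273 : nd 120273 = n223532 := ndS (p := 100750) (l := 4) rfl N100750 D223532
theorem N120274 : nd 120274 = n223533 := ndS (p := 100761) (l := 6) rfl N100761 D223533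
theorem N120275 : nd 120275 = n223534 := ndS (p := 100775) (l := 4) rfl N100775 D223534
theorem N120276 : nd 120276 = n223535 := ndS (p := 100776) (l := 4) rfl N100776 D223535
theorem N120277 : nd 120277 = n223536 := ndS (p := 100789) (l := 5) rfl N100789 D223536
theorem N120278 : nd 120278 = n223537 := ndS (p := 100794) (l := 0) rfl N100794 D223537
theorem N120279 : nd 120279 = n223538 := ndS (p := 100810) (l := 5) rfl N100810 D223538
theorem N120280 : nd 120280 = n223539 := ndS (p := 100823) (l := 1) rfl N100823 D223539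
theorem N120281 : nd 120281 = n223540 := ndS (p := 100827) (l := 3) rfl N100827 D223540
theorem N120282 : nd 120282 = n223541 := ndS (p := 100833) (l := 4) rfl N100833 D223541
theorem N120283 : nd 120283 = n223542 := ndS (p := 100833) (l := 6) rfl N100833 D223542
theorem N120284 : nd 120284 = n223543 := ndS (p := 100837) (l := 0) rfl N100837 D223543
theorem N120285 : nd 120285 = n223544 := ndS (p := 100837) (l := 1) rfl N100837 D223544
theorem N120286 : nd 120286 = n223545 := ndS (p := 100838) (l := 4) rfl N100838 D223545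
theorem N120287 : nd 120287 = n223546 := ndS (p := 100838) (l := 6) rfl N100838 D223546
theorem N120288 : nd 120288 = n223547 := ndS (p := 100839) (l := 4) rfl N100839 D223547
theorem N120289 : nd 120289 = n223548 := ndS (p := 100843) (l := 0) rfl N100843 D223548
theorem N120290 : nd 120290 = n223549 := ndS (p := 100843) (l := 1) rfl N100843 D223549
theorem N120291 : nd 120291 = n223550 := ndS (p := 100849) (l := 4) rfl N100849 D223550
theorem N120292 : nd 120292 = n223551 := ndS (p := 100855) (l := 0) rfl N100855 D223551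
theorem N120293 : nd 120293 = n223552 := ndS (p := 100855) (l := 7) rfl N100855 D223552
theorem N120294 : nd 120294 = n223553 := ndS (p := 100856) (l := 6) rfl N100856 D223553
theorem N120295 : nd 120295 = n223554 := ndS (p := 100858) (l := 3) rfl N100858 D223554
theorem N120296 : nd 120296 = n223555 := ndS (p := 100858) (l := 6) rfl N100858 D223555
theorem N120297 : nd 120297 = n223556 := ndS (p := 100859) (l := 0) rfl N100859 D223556
theorem N120298 : nd 120298 = n223557 := ndS (p := 100860) (l := 3) rfl N100860 D223557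
theorem N120299 : nd 120299 = n223558 := ndS (p := 100860) (l := 6) rfl N100860 D223558
theorem N120300 : nd 120300 = n223559 := ndS (p := 100861) (l := 7) rfl N100861 D223559
theorem N120301 : nd 120301 = n223560 := ndS (p := 100865) (l := 3) rfl N100865 D223560
theorem N120302 : nd 120302 = n223561 := ndS (p := 100865) (l := 4) rfl N100865 D223561
theorem N120303 : nd 120303 = n223562 := ndS (p := 100866) (l := 4) rfl N100866 D223562
theorem N120304 : nd 120304 = n223563 := ndS (p := 100869) (l := 7) rfl N100869 D223563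
theorem N120305 : nd 120305 = n223564 := ndS (p := 100876) (l := 4) rfl N100876 D223564
theorem N120306 : nd 120306 = n223565 := ndS (p := 100877) (l := 3) rfl N100877 D223565
theorem N120307 : nd 120307 = n223566 := ndS (p := 100877) (l := 4) rfl N100877 D223566
theorem N120308 : nd 120308 = n223567 := ndS (p := 100877) (l := 5) rfl N100877 D223567
theorem N120309 : nd 120309 = n223568 := ndS (p := 100879) (l := 1) rfl N100879 D223568
theorem N120310 : nd 120310 = n223569 := ndS (p := 100879) (l := 2) rfl N100879 D223569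
theorem N120311 : nd 120311 = n223570 := ndS (p := 100881) (l := 0) rfl N100881 D223570
theorem N120312 : nd 120312 = n223571 := ndS (p := 100881) (l := 1) rfl N100881 D223571
theorem N120313 : nd 120313 = n223572 := ndS (p := 100881) (l := 2) rfl N100881 D223572
theorem N120314 : nd 120314 = n223573 := ndS (p := 100881) (l := 4) rfl N100881 D223573
theorem N120315 : nd 120315 = n223574 := ndS (p := 100881) (l := 6) rfl N100881 D223574
theorem N120316 : nd 120316 = n223575 := ndS (p := 100882) (l := 7) rfl N100882 D223575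
theorem N120317 : nd 120317 = n223576 := ndS (p := 100883) (l := 5) rfl N100883 D223576
theorem N120318 : nd 120318 = n223577 := ndS (p := 100884) (l := 5) rfl N100884 D223577
theorem N120319 : nd 120319 = n223578 := ndS (p := 100884) (l := 6) rfl N100884 D223578
theorem N120320 : nd 120320 = n223579 := ndS (p := 100888) (l := 2) rfl N100888 D223579
theorem N120321 : nd 120321 = n223580 := ndS (p := 100889) (l := 5) rfl N100889 D223580
theorem N120322 : nd 120322 = n223581 := ndS (p := 100892) (l := 4) rfl N100892 D223581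
theorem N120323 : nd 120323 = n223582 := ndS (p := 100895) (l := 4) rfl N100895 D223582
theorem N120324 : nd 120324 = n223583 := ndS (p := 100895) (l := 6) rfl N100895 D223583
theorem N120325 : nd 120325 = n223584 := ndS (p := 100896) (l := 0) rfl N100896 D223584
theorem N120326 : nd 120326 = n223585 := ndS (p := 100896) (l := 3) rfl N100896 D223585
theorem N120327 : nd 120327 = n223586 := ndS (p := 100896) (l := 6) rfl N100896 D223586
theorem N120328 : nd 120328 = n223587 := ndS (p := 100897) (l := 0) rfl N100897 D223587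
theorem N120329 : nd 120329 = n223588 := ndS (p := 100897) (l := 1) rfl N100897 D223588
theorem N120330 : nd 120330 = n223589 := ndS (p := 100897) (l := 7) rfl N100897 D223589
theorem N120331 : nd 120331 = n223590 := ndS (p := 100899) (l := 1) rfl N100899 D223590
theorem N120332 : nd 120332 = n223591 := ndS (p := 100899) (l := 2) rfl N100899 D223591
theorem N120333 : nd 120333 = n223592 := ndS (p := 100899) (l := 6) rfl N100899 D223592
theorem N120334 : nd 120334 = n223593 := ndS (p := 100900) (l := 7) rfl N100900 D223593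
theorem N120335 : nd 120335 = n223594 := ndS (p := 100903) (l := 4) rfl N100903 D223594
theorem N120336 : nd 120336 = n223595 := ndS (p := 100905) (l := 4) rfl N100905 D223595
theorem N120337 : nd 120337 = n223596 := ndS (p := 100906) (l := 0) rfl N100906 D223596
theorem N120338 : nd 120338 = n223597 := ndS (p := 100906) (l := 1) rfl N100906 D223597
theorem N120339 : nd 120339 = n223598 := ndS (p := 100906) (l := 3) rfl N100906 D223598
theorem N120340 : nd 120340 = n223599 := ndS (p := 100909) (l := 0) rfl N100909 D223599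
theorem N120341 : nd 120341 = n223600 := ndS (p := 100909) (l := 1) rfl N100909 D223600
theorem N120342 : nd 120342 = n223601 := ndS (p := 100909) (l := 2) rfl N100909 D223601
theorem N120343 : nd 120343 = n223602 := ndS (p := 100910) (l := 6) rfl N100910 D223602
theorem N120344 : nd 120344 = n223603 := ndS (p := 100920) (l := 4) rfl N100920 D223603
theorem N120345 : nd 120345 = n223604 := ndS (p := 100920) (l := 6) rfl N100920 D223604
theorem N120346 : nd 120346 = n223605 := ndS (p := 100921) (l := 5) rfl N100921 D223605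
theorem N120347 : nd 120347 = n223606 := ndS (p := 100923) (l := 6) rfl N100923 D223606
theorem N120348 : nd 120348 = n223607 := ndS (p := 100925) (l := 4) rfl N100925 D223607
theorem N120349 : nd 120349 = n223608 := ndS (p := 100925) (l := 6) rfl N100925 D223608
theorem N120350 : nd 120350 = n223609 := ndS (p := 100926) (l := 4) rfl N100926 D223609
theorem N120351 : nd 120351 = n223610 := ndS (p := 100927) (l := 6) rfl N100927 D223610
theorem N120352 : nd 120352 = n223611 := ndS (p := 100928) (l := 0) rfl N100928 D223611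
theorem N120353 : nd 120353 = n223612 := ndS (p := 100928) (l := 1) rfl N100928 D223612
theorem N120354 : nd 120354 = n223613 := ndS (p := 100938) (l := 6) rfl N100938 D223613
theorem N120355 : nd 120355 = n223614 := ndS (p := 100951) (l := 4) rfl N100951 D223614
theorem N120356 : nd 120356 = n223615 := ndS (p := 100953) (l := 4) rfl N100953 D223615
theorem N120357 : nd 120357 = n223616 := ndS (p := 100953) (l := 6) rfl N100953 D223616
theorem N120358 : nd 120358 = n223617 := ndS (p := 100958) (l := 0) rfl N100958 D223617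
theorem N120359 : nd 120359 = n223618 := ndS (p := 100958) (l := 5) rfl N100958 D223618
theorem N120360 : nd 120360 = n223619 := ndS (p := 100961) (l := 6) rfl N100961 D223619
theorem N120361 : nd 120361 = n223620 := ndS (p := 100962) (l := 1) rfl N100962 D223620
theorem N120362 : nd 120362 = n223621 := ndS (p := 100962) (l := 7) rfl N100962 D223621
theorem N120363 : nd 120363 = n223622 := ndS (p := 100966) (l := 6) rfl N100966 D223622
theorem N120364 : nd 120364 = n223623 := ndS (p := 100969) (l := 6) rfl N100969 D223623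
theorem N120365 : nd 120365 = n223624 := ndS (p := 100970) (l := 4) rfl N100970 D223624
theorem N120366 : nd 120366 = n223625 := ndS (p := 100974) (l := 7) rfl N100974 D223625
theorem N120367 : nd 120367 = n223626 := ndS (p := 100980) (l := 4) rfl N100980 D223626
theorem N120368 : nd 120368 = n223627 := ndS (p := 100981) (l := 4) rfl N100981 D223627
theorem N120369 : nd 120369 = n223628 := ndS (p := 100989) (l := 3) rfl N100989 D223628
theorem N120370 : nd 120370 = n223629 := ndS (p := 100990) (l := 3) rfl N100990 D223629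
theorem N120371 : nd 120371 = n223630 := ndS (p := 100995) (l := 5) rfl N100995 D223630
theorem N120372 : nd 120372 = n223631 := ndS (p := 101003) (l := 4) rfl N101003 D223631
theorem N120373 : nd 120373 = n223632 := ndS (p := 101014) (l := 4) rfl N101014 D223632
theorem N120374 : nd 120374 = n223633 := ndS (p := 101014) (l := 6) rfl N101014 D223633
theorem N120375 : nd 120375 = n223634 := ndS (p := 101041) (l := 5) rfl N101041 D223634
theorem N120376 : nd 120376 = n223635 := ndS (p := 101042) (l := 4) rfl N101042 D223635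
theorem N120377 : nd 120377 = n223636 := ndS (p := 101047) (l := 6) rfl N101047 D223636
theorem N120378 : nd 120378 = n223637 := ndS (p := 101051) (l := 5) rfl N101051 D223637
theorem N120379 : nd 120379 = n223638 := ndS (p := 101058) (l := 6) rfl N101058 D223638
theorem N120380 : nd 120380 = n223639 := ndS (p := 101061) (l := 6) rfl N101061 D223639
theorem N120381 : nd 120381 = n223640 := ndS (p := 101062) (l := 5) rfl N101062 D223640
theorem N120382 : nd 120382 = n223641 := ndS (p := 101076) (l := 0) rfl N101076 D223641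
theorem N120383 : nd 120383 = n223642 := ndS (p := 101076) (l := 1) rfl N101076 D223642
theorem N120384 : nd 120384 = n223643 := ndS (p := 101087) (l := 2) rfl N101087 D223643
theorem N120385 : nd 120385 = n223644 := ndS (p := 101102) (l := 6) rfl N101102 D223644
theorem N120386 : nd 120386 = n223645 := ndS (p := 101132) (l := 3) rfl N101132 D223645
theorem N120387 : nd 120387 = n223646 := ndS (p := 101134) (l := 4) rfl N101134 D223646
theorem N120388 : nd 120388 = n223647 := ndS (p := 101148) (l := 5) rfl N101148 D223647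
theorem N120389 : nd 120389 = n223648 := ndS (p := 101162) (l := 4) rfl N101162 D223648
theorem N120390 : nd 120390 = n223649 := ndS (p := 101164) (l := 4) rfl N101164 D223649
theorem N120391 : nd 120391 = n223650 := ndS (p := 101164) (l := 6) rfl N101164 D223650
theorem N120392 : nd 120392 = n223651 := ndS (p := 101165) (l := 1) rfl N101165 D223651
theorem N120393 : nd 120393 = n223652 := ndS (p := 101169) (l := 6) rfl N101169 D223652
theorem N120394 : nd 120394 = n223653 := ndS (p := 101183) (l := 3) rfl N101183 D223653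
theorem N120395 : nd 120395 = n223654 := ndS (p := 101192) (l := 6) rfl N101192 D223654
theorem N120396 : nd 120396 = n223655 := ndS (p := 101194) (l := 1) rfl N101194 D223655
theorem N120397 : nd 120397 = n223656 := ndS (p := 101204) (l := 0) rfl N101204 D223656
theorem N120398 : nd 120398 = n223657 := ndS (p := 101204) (l := 4) rfl N101204 D223657
theorem N120399 : nd 120399 = n223658 := ndS (p := 101205) (l := 5) rfl N101205 D223658
theorem N120400 : nd 120400 = n223659 := ndS (p := 101220) (l := 5) rfl N101220 D223659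
theorem N120401 : nd 120401 = n223660 := ndS (p := 101221) (l := 6) rfl N101221 D223660
theorem N120402 : nd 120402 = n223661 := ndS (p := 101229) (l := 3) rfl N101229 D223661
theorem N120403 : nd 120403 = n223662 := ndS (p := 101240) (l := 1) rfl N101240 D223662
theorem N120404 : nd 120404 = n223663 := ndS (p := 101243) (l := 0) rfl N101243 D223663
theorem N120405 : nd 120405 = n223664 := ndS (p := 101243) (l := 4) rfl N101243 D223664
theorem N120406 : nd 120406 = n223665 := ndS (p := 101247) (l := 2) rfl N101247 D223665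
theorem N120407 : nd 120407 = n223666 := ndS (p := 101247) (l := 7) rfl N101247 D223666
theorem N120408 : nd 120408 = n223667 := ndS (p := 101248) (l := 6) rfl N101248 D223667
theorem N120409 : nd 120409 = n223668 := ndS (p := 101251) (l := 1) rfl N101251 D223668
theorem N120410 : nd 120410 = n223669 := ndS (p := 101260) (l := 4) rfl N101260 D223669
theorem N120411 : nd 120411 = n223670 := ndS (p := 101261) (l := 4) rfl N101261 D223670
theorem N120412 : nd 120412 = n223671 := ndS (p := 101263) (l := 0) rfl N101263 D223671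
theorem N120413 : nd 120413 = n223672 := ndS (p := 101263) (l := 1) rfl N101263 D223672
theorem N120414 : nd 120414 = n223673 := ndS (p := 101268) (l := 0) rfl N101268 D223673
theorem N120415 : nd 120415 = n223674 := ndS (p := 101286) (l := 6) rfl N101286 D223674
theorem N120416 : nd 120416 = n223675 := ndS (p := 101287) (l := 3) rfl N101287 D223675
theorem N120417 : nd 120417 = n223676 := ndS (p := 101304) (l := 6) rfl N101304 D223676
theorem N120418 : nd 120418 = n223677 := ndS (p := 101307) (l := 3) rfl N101307 D223677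
theorem N120419 : nd 120419 = n223678 := ndS (p := 101307) (l := 6) rfl N101307 D223678
theorem N120420 : nd 120420 = n223679 := ndS (p := 101308) (l := 7) rfl N101308 D223679
theorem N120421 : nd 120421 = n223680 := ndS (p := 101309) (l := 3) rfl N101309 D223680
theorem N120422 : nd 120422 = n223681 := ndS (p := 101311) (l := 6) rfl N101311 D223681
theorem N120423 : nd 120423 = n223682 := ndS (p := 101316) (l := 1) rfl N101316 D223682
theorem N120424 : nd 120424 = n223683 := ndS (p := 101318) (l := 6) rfl N101318 D223683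
theorem N120425 : nd 120425 = n223684 := ndS (p := 101321) (l := 3) rfl N101321 D223684
theorem N120426 : nd 120426 = n223685 := ndS (p := 101321) (l := 5) rfl N101321 D223685
theorem N120427 : nd 120427 = n223686 := ndS (p := 101324) (l := 0) rfl N101324 D223686
theorem N120428 : nd 120428 = n223687 := ndS (p := 101328) (l := 6) rfl N101328 D223687
theorem N120429 : nd 120429 = n223688 := ndS (p := 101331) (l := 0) rfl N101331 D223688
theorem N120430 : nd 120430 = n223689 := ndS (p := 101331) (l := 1) rfl N101331 D223689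
theorem N120431 : nd 120431 = n223690 := ndS (p := 101333) (l := 3) rfl N101333 D223690
theorem N120432 : nd 120432 = n223691 := ndS (p := 101335) (l := 6) rfl N101335 D223691
theorem N120433 : nd 120433 = n223692 := ndS (p := 101345) (l := 4) rfl N101345 D223692
theorem N120434 : nd 120434 = n223693 := ndS (p := 101352) (l := 6) rfl N101352 D223693
theorem N120435 : nd 120435 = n223694 := ndS (p := 101357) (l := 1) rfl N101357 D223694
theorem N120436 : nd 120436 = n223695 := ndS (p := 101357) (l := 6) rfl N101357 D223695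
theorem N120437 : nd 120437 = n223696 := ndS (p := 101364) (l := 0) rfl N101364 D223696
theorem N120438 : nd 120438 = n223697 := ndS (p := 101378) (l := 1) rfl N101378 D223697
theorem N120439 : nd 120439 = n223698 := ndS (p := 101378) (l := 7) rfl N101378 D223698
theorem N120440 : nd 120440 = n223699 := ndS (p := 101381) (l := 6) rfl N101381 D223699
theorem N120441 : nd 120441 = n223700 := ndS (p := 101382) (l := 5) rfl N101382 D223700
theorem N120442 : nd 120442 = n223701 := ndS (p := 101385) (l := 4) rfl N101385 D223701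
theorem N120443 : nd 120443 = n223702 := ndS (p := 101385) (l := 7) rfl N101385 D223702
theorem N120444 : nd 120444 = n223703 := ndS (p := 101389) (l := 3) rfl N101389 D223703
theorem N120445 : nd 120445 = n223704 := ndS (p := 101389) (l := 6) rfl N101389 D223704
theorem N120446 : nd 120446 = n223705 := ndS (p := 101390) (l := 1) rfl N101390 D223705
theorem N120447 : nd 120447 = n223706 := ndS (p := 101390) (l := 7) rfl N101390 D223706
theorem N120448 : nd 120448 = n223707 := ndS (p := 101392) (l := 0) rfl N101392 D223707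
theorem N120449 : nd 120449 = n223708 := ndS (p := 101392) (l := 5) rfl N101392 D223708
theorem N120450 : nd 120450 = n223709 := ndS (p := 101392) (l := 7) rfl N101392 D223709
theorem N120451 : nd 120451 = n223710 := ndS (p := 101395) (l := 1) rfl N101395 D223710
theorem N120452 : nd 120452 = n223711 := ndS (p := 101396) (l := 0) rfl N101396 D223711
theorem N120453 : nd 120453 = n223712 := ndS (p := 101413) (l := 3) rfl N101413 D223712
theorem N120454 : nd 120454 = n223713 := ndS (p := 101414) (l := 4) rfl N101414 D223713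
theorem N120455 : nd 120455 = n223714 := ndS (p := 101417) (l := 4) rfl N101417 D223714
theorem N120456 : nd 120456 = n223715 := ndS (p := 101421) (l := 4) rfl N101421 D223715
theorem N120457 : nd 120457 = n223716 := ndS (p := 101430) (l := 4) rfl N101430 D223716
theorem N120458 : nd 120458 = n223717 := ndS (p := 101431) (l := 4) rfl N101431 D223717
theorem N120459 : nd 120459 = n223718 := ndS (p := 101433) (l := 0) rfl N101433 D223718
theorem N120460 : nd 120460 = n223719 := ndS (p := 101433) (l := 5) rfl N101433 D223719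
theorem N120461 : nd 120461 = n223720 := ndS (p := 101434) (l := 1) rfl N101434 D223720
theorem N120462 : nd 120462 = n223721 := ndS (p := 101435) (l := 4) rfl N101435 D223721
theorem N120463 : nd 120463 = n223722 := ndS (p := 101435) (l := 6) rfl N101435 D223722
theorem N120464 : nd 120464 = n223723 := ndS (p := 101436) (l := 6) rfl N101436 D223723
theorem N120465 : nd 120465 = n223724 := ndS (p := 101437) (l := 3) rfl N101437 D223724
theorem N120466 : nd 120466 = n223725 := ndS (p := 101437) (l := 5) rfl N101437 D223725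
theorem N120467 : nd 120467 = n223726 := ndS (p := 101439) (l := 4) rfl N101439 D223726
theorem N120468 : nd 120468 = n223727 := ndS (p := 101440) (l := 4) rfl N101440 D223727
theorem N120469 : nd 120469 = n223728 := ndS (p := 101447) (l := 3) rfl N101447 D223728
theorem N120470 : nd 120470 = n223729 := ndS (p := 101447) (l := 5) rfl N101447 D223729
theorem N120471 : nd 120471 = n223730 := ndS (p := 101447) (l := 6) rfl N101447 D223730
theorem N120472 : nd 120472 = n223731 := ndS (p := 101460) (l := 0) rfl N101460 D223731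
theorem N120473 : nd 120473 = n223732 := ndS (p := 101460) (l := 4) rfl N101460 D223732
theorem N120474 : nd 120474 = n223733 := ndS (p := 101460) (l := 6) rfl N101460 D223733
theorem N120475 : nd 120475 = n223734 := ndS (p := 101462) (l := 7) rfl N101462 D223734
theorem N120476 : nd 120476 = n223735 := ndS (p := 101463) (l := 4) rfl N101463 D223735
theorem N120477 : nd 120477 = n223736 := ndS (p := 101464) (l := 4) rfl N101464 D223736
theorem N120478 : nd 120478 = n223737 := ndS (p := 101472) (l := 4) rfl N101472 D223737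
theorem N120479 : nd 120479 = n223738 := ndS (p := 101474) (l := 7) rfl N101474 D223738
theorem N120480 : nd 120480 = n223739 := ndS (p := 101477) (l := 0) rfl N101477 D223739
theorem N120481 : nd 120481 = n223740 := ndS (p := 101477) (l := 1) rfl N101477 D223740
theorem N120482 : nd 120482 = n223741 := ndS (p := 101478) (l := 4) rfl N101478 D223741
theorem N120483 : nd 120483 = n223742 := ndS (p := 101478) (l := 5) rfl N101478 D223742
theorem N120484 : nd 120484 = n223743 := ndS (p := 101479) (l := 4) rfl N101479 D223743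
theorem N120485 : nd 120485 = n223744 := ndS (p := 101483) (l := 0) rfl N101483 D223744
theorem N120486 : nd 120486 = n223745 := ndS (p := 101483) (l := 5) rfl N101483 D223745
theorem N120487 : nd 120487 = n223746 := ndS (p := 101484) (l := 3) rfl N101484 D223746
theorem N120488 : nd 120488 = n223747 := ndS (p := 101485) (l := 4) rfl N101485 D223747
theorem N120489 : nd 120489 = n223748 := ndS (p := 101490) (l := 5) rfl N101490 D223748
theorem N120490 : nd 120490 = n223749 := ndS (p := 101493) (l := 2) rfl N101493 D223749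
theorem N120491 : nd 120491 = n223750 := ndS (p := 101499) (l := 5) rfl N101499 D223750
theorem N120492 : nd 120492 = n223751 := ndS (p := 101500) (l := 6) rfl N101500 D223751
theorem N120493 : nd 120493 = n223752 := ndS (p := 101505) (l := 4) rfl N101505 D223752
theorem N120494 : nd 120494 = n223753 := ndS (p := 101506) (l := 4) rfl N101506 D223753
theorem N120495 : nd 120495 = n223754 := ndS (p := 101507) (l := 5) rfl N101507 D223754
theorem N120496 : nd 120496 = n223755 := ndS (p := 101529) (l := 6) rfl N101529 D223755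
theorem N120497 : nd 120497 = n223756 := ndS (p := 101532) (l := 5) rfl N101532 D223756
theorem N120498 : nd 120498 = n223757 := ndS (p := 101535) (l := 1) rfl N101535 D223757
theorem N120499 : nd 120499 = n223758 := ndS (p := 101535) (l := 4) rfl N101535 D223758
theorem N120500 : nd 120500 = n223759 := ndS (p := 101535) (l := 6) rfl N101535 D223759
theorem N120501 : nd 120501 = n223760 := ndS (p := 101538) (l := 3) rfl N101538 D223760
theorem N120502 : nd 120502 = n223761 := ndS (p := 101547) (l := 4) rfl N101547 D223761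
theorem N120503 : nd 120503 = n223762 := ndS (p := 101547) (l := 6) rfl N101547 D223762
theorem N120504 : nd 120504 = n223763 := ndS (p := 101548) (l := 4) rfl N101548 D223763
theorem N120505 : nd 120505 = n223764 := ndS (p := 101556) (l := 6) rfl N101556 D223764
theorem N120506 : nd 120506 = n223765 := ndS (p := 101557) (l := 0) rfl N101557 D223765
theorem N120507 : nd 120507 = n223766 := ndS (p := 101557) (l := 1) rfl N101557 D223766
theorem N120508 : nd 120508 = n223767 := ndS (p := 101557) (l := 6) rfl N101557 D223767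
theorem N120509 : nd 120509 = n223768 := ndS (p := 101560) (l := 5) rfl N101560 D223768
theorem N120510 : nd 120510 = n223769 := ndS (p := 101571) (l := 6) rfl N101571 D223769
theorem N120511 : nd 120511 = n223770 := ndS (p := 101572) (l := 3) rfl N101572 D223770
theorem N120512 : nd 120512 = n223771 := ndS (p := 101572) (l := 6) rfl N101572 D223771
theorem N120513 : nd 120513 = n223772 := ndS (p := 101574) (l := 6) rfl N101574 D223772
theorem N120514 : nd 120514 = n223773 := ndS (p := 101578) (l := 6) rfl N101578 D223773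
theorem N120515 : nd 120515 = n223774 := ndS (p := 101581) (l := 1) rfl N101581 D223774
theorem N120516 : nd 120516 = n223775 := ndS (p := 101587) (l := 0) rfl N101587 D223775
theorem N120517 : nd 120517 = n223776 := ndS (p := 101587) (l := 1) rfl N101587 D223776
theorem N120518 : nd 120518 = n223777 := ndS (p := 101587) (l := 2) rfl N101587 D223777
theorem N120519 : nd 120519 = n223778 := ndS (p := 101595) (l := 4) rfl N101595 D223778
theorem N120520 : nd 120520 = n223779 := ndS (p := 101595) (l := 6) rfl N101595 D223779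
theorem N120521 : nd 120521 = n223780 := ndS (p := 101596) (l := 4) rfl N101596 D223780
theorem N120522 : nd 120522 = n223781 := ndS (p := 101598) (l := 7) rfl N101598 D223781
theorem N120523 : nd 120523 = n223782 := ndS (p := 101601) (l := 7) rfl N101601 D223782
theorem N120524 : nd 120524 = n223783 := ndS (p := 101610) (l := 1) rfl N101610 D223783
theorem N120525 : nd 120525 = n223784 := ndS (p := 101616) (l := 7) rfl N101616 D223784
theorem N120526 : nd 120526 = n223785 := ndS (p := 101618) (l := 6) rfl N101618 D223785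
theorem N120527 : nd 120527 = n223786 := ndS (p := 101619) (l := 3) rfl N101619 D223786
theorem N120528 : nd 120528 = n223787 := ndS (p := 101624) (l := 1) rfl N101624 D223787
theorem N120529 : nd 120529 = n223788 := ndS (p := 101632) (l := 1) rfl N101632 D223788
theorem N120530 : nd 120530 = n223789 := ndS (p := 101632) (l := 6) rfl N101632 D223789
theorem N120531 : nd 120531 = n223790 := ndS (p := 101633) (l := 6) rfl N101633 D223790
theorem N120532 : nd 120532 = n223791 := ndS (p := 101634) (l := 7) rfl N101634 D223791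
theorem N120533 : nd 120533 = n223792 := ndS (p := 101639) (l := 6) rfl N101639 D223792
theorem N120534 : nd 120534 = n223793 := ndS (p := 101642) (l := 0) rfl N101642 D223793
theorem N120535 : nd 120535 = n223794 := ndS (p := 101646) (l := 5) rfl N101646 D223794
theorem N120536 : nd 120536 = n223795 := ndS (p := 101652) (l := 6) rfl N101652 D223795
theorem N120537 : nd 120537 = n223796 := ndS (p := 101658) (l := 1) rfl N101658 D223796
theorem N120538 : nd 120538 = n223797 := ndS (p := 101662) (l := 7) rfl N101662 D223797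
theorem N120539 : nd 120539 = n223798 := ndS (p := 101719) (l := 1) rfl N101719 D223798
theorem N120540 : nd 120540 = n223799 := ndS (p := 101723) (l := 6) rfl N101723 D223799
theorem N120541 : nd 120541 = n223800 := ndS (p := 101728) (l := 6) rfl N101728 D223800
theorem N120542 : nd 120542 = n223801 := ndS (p := 101738) (l := 4) rfl N101738 D223801
theorem N120543 : nd 120543 = n223802 := ndS (p := 101765) (l := 6) rfl N101765 D223802
theorem N120544 : nd 120544 = n223803 := ndS (p := 101767) (l := 1) rfl N101767 D223803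
theorem N120545 : nd 120545 = n223804 := ndS (p := 101767) (l := 7) rfl N101767 D223804
theorem N120546 : nd 120546 = n223805 := ndS (p := 101785) (l := 6) rfl N101785 D223805
theorem N120547 : nd 120547 = n223806 := ndS (p := 101826) (l := 5) rfl N101826 D223806
theorem N120548 : nd 120548 = n223807 := ndS (p := 101828) (l := 1) rfl N101828 D223807
theorem N120549 : nd 120549 = n223808 := ndS (p := 101866) (l := 5) rfl N101866 D223808
theorem N120550 : nd 120550 = n223809 := ndS (p := 101869) (l := 4) rfl N101869 D223809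
theorem N120551 : nd 120551 = n223810 := ndS (p := 101874) (l := 5) rfl N101874 D223810
theorem N120552 : nd 120552 = n223811 := ndS (p := 101875) (l := 5) rfl N101875 D223811
theorem N120553 : nd 120553 = n223812 := ndS (p := 101876) (l := 4) rfl N101876 D223812
theorem N120554 : nd 120554 = n223813 := ndS (p := 101880) (l := 4) rfl N101880 D223813
theorem N120555 : nd 120555 = n223814 := ndS (p := 101882) (l := 5) rfl N101882 D223814
theorem N120556 : nd 120556 = n223815 := ndS (p := 101889) (l := 5) rfl N101889 D223815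
theorem N120557 : nd 120557 = n223816 := ndS (p := 101891) (l := 4) rfl N101891 D223816
theorem N120558 : nd 120558 = n223817 := ndS (p := 101893) (l := 4) rfl N101893 D223817
theorem N120559 : nd 120559 = n223818 := ndS (p := 101893) (l := 6) rfl N101893 D223818
theorem N120560 : nd 120560 = n223819 := ndS (p := 101894) (l := 5) rfl N101894 D223819
theorem N120561 : nd 120561 = n223820 := ndS (p := 101896) (l := 1) rfl N101896 D223820
theorem N120562 : nd 120562 = n223821 := ndS (p := 101906) (l := 7) rfl N101906 D223821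
theorem N120563 : nd 120563 = n223822 := ndS (p := 101910) (l := 3) rfl N101910 D223822
theorem N120564 : nd 120564 = n223823 := ndS (p := 101911) (l := 6) rfl N101911 D223823
theorem N120565 : nd 120565 = n223824 := ndS (p := 101916) (l := 5) rfl N101916 D223824
theorem N120566 : nd 120566 = n223825 := ndS (p := 101931) (l := 0) rfl N101931 D223825
theorem N120567 : nd 120567 = n223826 := ndS (p := 101931) (l := 1) rfl N101931 D223826
theorem N120568 : nd 120568 = n223827 := ndS (p := 101931) (l := 3) rfl N101931 D223827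
theorem N120569 : nd 120569 = n223828 := ndS (p := 101932) (l := 0) rfl N101932 D223828
theorem N120570 : nd 120570 = n223829 := ndS (p := 101934) (l := 4) rfl N101934 D223829
theorem N120571 : nd 120571 = n223830 := ndS (p := 101939) (l := 5) rfl N101939 D223830
theorem N120572 : nd 120572 = n223831 := ndS (p := 101940) (l := 7) rfl N101940 D223831
theorem N120573 : nd 120573 = n223832 := ndS (p := 101942) (l := 5) rfl N101942 D223832
theorem N120574 : nd 120574 = n223833 := ndS (p := 101947) (l := 5) rfl N101947 D223833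
theorem N120575 : nd 120575 = n223834 := ndS (p := 101963) (l := 4) rfl N101963 D223834
theorem N120576 : nd 120576 = n223835 := ndS (p := 101969) (l := 3) rfl N101969 D223835
theorem N120577 : nd 120577 = n223836 := ndS (p := 101969) (l := 5) rfl N101969 D223836
theorem N120578 : nd 120578 = n223837 := ndS (p := 101969) (l := 6) rfl N101969 D223837
theorem N120579 : nd 120579 = n223838 := ndS (p := 101970) (l := 5) rfl N101970 D223838
theorem N120580 : nd 120580 = n223839 := ndS (p := 101975) (l := 6) rfl N101975 D223839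
theorem N120581 : nd 120581 = n223840 := ndS (p := 101987) (l := 6) rfl N101987 D223840
theorem N120582 : nd 120582 = n223841 := ndS (p := 101994) (l := 4) rfl N101994 D223841
theorem N120583 : nd 120583 = n223842 := ndS (p := 101997) (l := 6) rfl N101997 D223842
theorem N120584 : nd 120584 = n223843 := ndS (p := 102005) (l := 4) rfl N102005 D223843
theorem N120585 : nd 120585 = n223844 := ndS (p := 102014) (l := 1) rfl N102014 D223844
theorem N120586 : nd 120586 = n223845 := ndS (p := 102016) (l := 5) rfl N102016 D223845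
theorem N120587 : nd 120587 = n223846 := ndS (p := 102037) (l := 0) rfl N102037 D223846
theorem N120588 : nd 120588 = n223847 := ndS (p := 102037) (l := 6) rfl N102037 D223847
theorem N120589 : nd 120589 = n223848 := ndS (p := 102038) (l := 1) rfl N102038 D223848
theorem N120590 : nd 120590 = n223849 := ndS (p := 102040) (l := 0) rfl N102040 D223849
theorem N120591 : nd 120591 = n223850 := ndS (p := 102054) (l := 4) rfl N102054 D223850
theorem N120592 : nd 120592 = n223851 := ndS (p := 102069) (l := 0) rfl N102069 D223851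
theorem N120593 : nd 120593 = n223852 := ndS (p := 102074) (l := 4) rfl N102074 D223852
theorem N120594 : nd 120594 = n223853 := ndS (p := 102074) (l := 5) rfl N102074 D223853
theorem N120595 : nd 120595 = n223854 := ndS (p := 102121) (l := 6) rfl N102121 D223854
theorem N120596 : nd 120596 = n223855 := ndS (p := 102126) (l := 4) rfl N102126 D223855
theorem N120597 : nd 120597 = n223856 := ndS (p := 102127) (l := 0) rfl N102127 D223856
theorem N120598 : nd 120598 = n223857 := ndS (p := 102127) (l := 1) rfl N102127 D223857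
theorem N120599 : nd 120599 = n223858 := ndS (p := 102139) (l := 2) rfl N102139 D223858
theorem N120600 : nd 120600 = n223859 := ndS (p := 102190) (l := 0) rfl N102190 D223859
theorem N120601 : nd 120601 = n223860 := ndS (p := 102190) (l := 1) rfl N102190 D223860
theorem N120602 : nd 120602 = n223861 := ndS (p := 102195) (l := 6) rfl N102195 D223861
theorem N120603 : nd 120603 = n223862 := ndS (p := 102198) (l := 1) rfl N102198 D223862
theorem N120604 : nd 120604 = n223863 := ndS (p := 102203) (l := 4) rfl N102203 D223863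
theorem N120605 : nd 120605 = n223864 := ndS (p := 102207) (l := 5) rfl N102207 D223864
theorem N120606 : nd 120606 = n223865 := ndS (p := 102247) (l := 3) rfl N102247 D223865
theorem N120607 : nd 120607 = n223866 := ndS (p := 102270) (l := 5) rfl N102270 D223866
theorem N120608 : nd 120608 = n223867 := ndS (p := 102296) (l := 3) rfl N102296 D223867
theorem N120609 : nd 120609 = n223868 := ndS (p := 102296) (l := 6) rfl N102296 D223868
theorem N120610 : nd 120610 = n223869 := ndS (p := 102307) (l := 5) rfl N102307 D223869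
theorem N120611 : nd 120611 = n223870 := ndS (p := 102307) (l := 7) rfl N102307 D223870
theorem N120612 : nd 120612 = n223871 := ndS (p := 102310) (l := 7) rfl N102310 D223871
theorem N120613 : nd 120613 = n223872 := ndS (p := 102317) (l := 5) rfl N102317 D223872
theorem N120614 : nd 120614 = n223873 := ndS (p := 102322) (l := 3) rfl N102322 D223873
theorem N120615 : nd 120615 = n223874 := ndS (p := 102382) (l := 6) rfl N102382 D223874
theorem N120616 : nd 120616 = n223875 := ndS (p := 102383) (l := 0) rfl N102383 D223875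
theorem N120617 : nd 120617 = n223876 := ndS (p := 102383) (l := 1) rfl N102383 D223876
theorem N120618 : nd 120618 = n223877 := ndS (p := 102383) (l := 5) rfl N102383 D223877
theorem N120619 : nd 120619 = n223878 := ndS (p := 102383) (l := 7) rfl N102383 D223878
theorem N120620 : nd 120620 = n223879 := ndS (p := 102412) (l := 3) rfl N102412 D223879
theorem N120621 : nd 120621 = n223880 := ndS (p := 102416) (l := 0) rfl N102416 D223880
theorem N120622 : nd 120622 = n223881 := ndS (p := 102428) (l := 5) rfl N102428 D223881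
theorem N120623 : nd 120623 = n223882 := ndS (p := 102428) (l := 6) rfl N102428 D223882
theorem N120624 : nd 120624 = n223883 := ndS (p := 102429) (l := 0) rfl N102429 D223883
theorem N120625 : nd 120625 = n223884 := ndS (p := 102431) (l := 5) rfl N102431 D223884
theorem N120626 : nd 120626 = n223885 := ndS (p := 102431) (l := 7) rfl N102431 D223885
theorem N120627 : nd 120627 = n223886 := ndS (p := 102434) (l := 6) rfl N102434 D223886
theorem N120628 : nd 120628 = n223887 := ndS (p := 102439) (l := 1) rfl N102439 D223887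
theorem N120629 : nd 120629 = n223888 := ndS (p := 102439) (l := 6) rfl N102439 D223888
theorem N120630 : nd 120630 = n223889 := ndS (p := 102443) (l := 5) rfl N102443 D223889
theorem N120631 : nd 120631 = n223890 := ndS (p := 102444) (l := 0) rfl N102444 D223890
theorem N120632 : nd 120632 = n223891 := ndS (p := 102445) (l := 5) rfl N102445 D223891
theorem N120633 : nd 120633 = n223892 := ndS (p := 102446) (l := 6) rfl N102446 D223892
theorem N120634 : nd 120634 = n223893 := ndS (p := 102447) (l := 0) rfl N102447 D223893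
theorem N120635 : nd 120635 = n223894 := ndS (p := 102447) (l := 1) rfl N102447 D223894
theorem N120636 : nd 120636 = n223895 := ndS (p := 102448) (l := 6) rfl N102448 D223895
theorem N120637 : nd 120637 = n223896 := ndS (p := 102450) (l := 5) rfl N102450 D223896
theorem N120638 : nd 120638 = n223897 := ndS (p := 102451) (l := 4) rfl N102451 D223897
theorem N120639 : nd 120639 = n223898 := ndS (p := 102451) (l := 5) rfl N102451 D223898
theorem N120640 : nd 120640 = n223899 := ndS (p := 102452) (l := 3) rfl N102452 D223899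
theorem N120641 : nd 120641 = n223900 := ndS (p := 102452) (l := 4) rfl N102452 D223900
theorem N120642 : nd 120642 = n223901 := ndS (p := 102452) (l := 5) rfl N102452 D223901
theorem N120643 : nd 120643 = n223902 := ndS (p := 102452) (l := 6) rfl N102452 D223902
theorem N120644 : nd 120644 = n223903 := ndS (p := 102462) (l := 6) rfl N102462 D223903
theorem N120645 : nd 120645 = n223904 := ndS (p := 102465) (l := 5) rfl N102465 D223904
theorem N120646 : nd 120646 = n223905 := ndS (p := 102467) (l := 5) rfl N102467 D223905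
theorem N120647 : nd 120647 = n223906 := ndS (p := 102470) (l := 6) rfl N102470 D223906
theorem N120648 : nd 120648 = n223907 := ndS (p := 102471) (l := 6) rfl N102471 D223907
theorem N120649 : nd 120649 = n223908 := ndS (p := 102472) (l := 0) rfl N102472 D223908
theorem N120650 : nd 120650 = n223909 := ndS (p := 102472) (l := 5) rfl N102472 D223909
theorem N120651 : nd 120651 = n223910 := ndS (p := 102475) (l := 4) rfl N102475 D223910
theorem N120652 : nd 120652 = n223911 := ndS (p := 102479) (l := 6) rfl N102479 D223911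
theorem N120653 : nd 120653 = n223912 := ndS (p := 102481) (l := 3) rfl N102481 D223912
theorem N120654 : nd 120654 = n223913 := ndS (p := 102481) (l := 6) rfl N102481 D223913
theorem N120655 : nd 120655 = n223914 := ndS (p := 102487) (l := 1) rfl N102487 D223914
theorem N120656 : nd 120656 = n223915 := ndS (p := 102487) (l := 5) rfl N102487 D223915
theorem N120657 : nd 120657 = n223916 := ndS (p := 102488) (l := 0) rfl N102488 D223916
theorem N120658 : nd 120658 = n223917 := ndS (p := 102492) (l := 7) rfl N102492 D223917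
theorem N120659 : nd 120659 = n223918 := ndS (p := 102494) (l := 5) rfl N102494 D223918
theorem N120660 : nd 120660 = n223919 := ndS (p := 102496) (l := 5) rfl N102496 D223919
theorem N120661 : nd 120661 = n223920 := ndS (p := 102499) (l := 5) rfl N102499 D223920
theorem N120662 : nd 120662 = n223921 := ndS (p := 102501) (l := 7) rfl N102501 D223921
theorem N120663 : nd 120663 = n223922 := ndS (p := 102505) (l := 5) rfl N102505 D223922
theorem N120664 : nd 120664 = n223923 := ndS (p := 102506) (l := 0) rfl N102506 D223923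
theorem N120665 : nd 120665 = n223924 := ndS (p := 102507) (l := 6) rfl N102507 D223924
theorem N120666 : nd 120666 = n223925 := ndS (p := 102508) (l := 1) rfl N102508 D223925
theorem N120667 : nd 120667 = n223926 := ndS (p := 102508) (l := 7) rfl N102508 D223926
theorem N120668 : nd 120668 = n223927 := ndS (p := 102514) (l := 1) rfl N102514 D223927
theorem N120669 : nd 120669 = n223928 := ndS (p := 102515) (l := 5) rfl N102515 D223928
theorem N120670 : nd 120670 = n223929 := ndS (p := 102516) (l := 6) rfl N102516 D223929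
theorem N120671 : nd 120671 = n223930 := ndS (p := 102517) (l := 5) rfl N102517 D223930
theorem N120672 : nd 120672 = n223931 := ndS (p := 102518) (l := 6) rfl N102518 D223931
theorem N120673 : nd 120673 = n223932 := ndS (p := 102519) (l := 3) rfl N102519 D223932
theorem N120674 : nd 120674 = n223933 := ndS (p := 102519) (l := 4) rfl N102519 D223933
theorem N120675 : nd 120675 = n223934 := ndS (p := 102520) (l := 4) rfl N102520 D223934
theorem N120676 : nd 120676 = n223935 := ndS (p := 102521) (l := 1) rfl N102521 D223935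
theorem N120677 : nd 120677 = n223936 := ndS (p := 102522) (l := 6) rfl N102522 D223936
theorem N120678 : nd 120678 = n223937 := ndS (p := 102523) (l := 6) rfl N102523 D223937
theorem N120679 : nd 120679 = n223938 := ndS (p := 102525) (l := 3) rfl N102525 D223938
theorem N120680 : nd 120680 = n223939 := ndS (p := 102529) (l := 6) rfl N102529 D223939
theorem N120681 : nd 120681 = n223940 := ndS (p := 102532) (l := 5) rfl N102532 D223940
theorem N120682 : nd 120682 = n223941 := ndS (p := 102533) (l := 5) rfl N102533 D223941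
theorem N120683 : nd 120683 = n223942 := ndS (p := 102535) (l := 1) rfl N102535 D223942
theorem N120684 : nd 120684 = n223943 := ndS (p := 102535) (l := 7) rfl N102535 D223943
theorem N120685 : nd 120685 = n223944 := ndS (p := 102545) (l := 5) rfl N102545 D223944
theorem N120686 : nd 120686 = n223945 := ndS (p := 102552) (l := 6) rfl N102552 D223945
theorem N120687 : nd 120687 = n223946 := ndS (p := 102553) (l := 1) rfl N102553 D223946
theorem N120688 : nd 120688 = n223947 := ndS (p := 102559) (l := 5) rfl N102559 D223947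
theorem N120689 : nd 120689 = n223948 := ndS (p := 102565) (l := 6) rfl N102565 D223948
theorem N120690 : nd 120690 = n223949 := ndS (p := 102566) (l := 0) rfl N102566 D223949
theorem N120691 : nd 120691 = n223950 := ndS (p := 102571) (l := 5) rfl N102571 D223950
theorem N120692 : nd 120692 = n223951 := ndS (p := 102582) (l := 6) rfl N102582 D223951
theorem N120693 : nd 120693 = n223952 := ndS (p := 102583) (l := 1) rfl N102583 D223952
theorem N120694 : nd 120694 = n223953 := ndS (p := 102593) (l := 5) rfl N102593 D223953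
theorem N120695 : nd 120695 = n223954 := ndS (p := 102597) (l := 5) rfl N102597 D223954
theorem N120696 : nd 120696 = n223955 := ndS (p := 102605) (l := 5) rfl N102605 D223955
theorem N120697 : nd 120697 = n223956 := ndS (p := 102610) (l := 5) rfl N102610 D223956
theorem N120698 : nd 120698 = n223957 := ndS (p := 102611) (l := 1) rfl N102611 D223957
theorem N120699 : nd 120699 = n223958 := ndS (p := 102611) (l := 4) rfl N102611 D223958
theorem N120700 : nd 120700 = n223959 := ndS (p := 102620) (l := 5) rfl N102620 D223959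
theorem N120701 : nd 120701 = n223960 := ndS (p := 102621) (l := 0) rfl N102621 D223960
theorem N120702 : nd 120702 = n223961 := ndS (p := 102622) (l := 5) rfl N102622 D223961
theorem N120703 : nd 120703 = n223962 := ndS (p := 102623) (l := 6) rfl N102623 D223962
theorem N120704 : nd 120704 = n223963 := ndS (p := 102624) (l := 5) rfl N102624 D223963
theorem N120705 : nd 120705 = n223964 := ndS (p := 102626) (l := 3) rfl N102626 D223964
theorem N120706 : nd 120706 = n223965 := ndS (p := 102626) (l := 4) rfl N102626 D223965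
theorem N120707 : nd 120707 = n223966 := ndS (p := 102626) (l := 6) rfl N102626 D223966
theorem N120708 : nd 120708 = n223967 := ndS (p := 102627) (l := 3) rfl N102627 D223967
theorem N120709 : nd 120709 = n223968 := ndS (p := 102627) (l := 4) rfl N102627 D223968
theorem N120710 : nd 120710 = n223969 := ndS (p := 102628) (l := 0) rfl N102628 D223969
theorem N120711 : nd 120711 = n223970 := ndS (p := 102628) (l := 1) rfl N102628 D223970
theorem N120712 : nd 120712 = n223971 := ndS (p := 102628) (l := 3) rfl N102628 D223971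
theorem N120713 : nd 120713 = n223972 := ndS (p := 102629) (l := 6) rfl N102629 D223972
theorem N120714 : nd 120714 = n223973 := ndS (p := 102630) (l := 6) rfl N102630 D223973
theorem N120715 : nd 120715 = n223974 := ndS (p := 102632) (l := 3) rfl N102632 D223974
theorem N120716 : nd 120716 = n223975 := ndS (p := 102641) (l := 4) rfl N102641 D223975
theorem N120717 : nd 120717 = n223976 := ndS (p := 102655) (l := 0) rfl N102655 D223976
theorem N120718 : nd 120718 = n223977 := ndS (p := 102662) (l := 5) rfl N102662 D223977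
theorem N120719 : nd 120719 = n223978 := ndS (p := 102665) (l := 5) rfl N102665 D223978
theorem N120720 : nd 120720 = n223979 := ndS (p := 102671) (l := 6) rfl N102671 D223979
theorem N120721 : nd 120721 = n223980 := ndS (p := 102672) (l := 5) rfl N102672 D223980
theorem N120722 : nd 120722 = n223981 := ndS (p := 102677) (l := 5) rfl N102677 D223981
theorem N120723 : nd 120723 = n223982 := ndS (p := 102682) (l := 4) rfl N102682 D223982
theorem N120724 : nd 120724 = n223983 := ndS (p := 102693) (l := 4) rfl N102693 D223983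
theorem N120725 : nd 120725 = n223984 := ndS (p := 102708) (l := 5) rfl N102708 D223984
theorem N120726 : nd 120726 = n223985 := ndS (p := 102723) (l := 0) rfl N102723 D223985
theorem N120727 : nd 120727 = n223986 := ndS (p := 102727) (l := 6) rfl N102727 D223986
theorem N120728 : nd 120728 = n223987 := ndS (p := 102730) (l := 5) rfl N102730 D223987
theorem N120729 : nd 120729 = n223988 := ndS (p := 102731) (l := 6) rfl N102731 D223988
theorem N120730 : nd 120730 = n223989 := ndS (p := 102735) (l := 0) rfl N102735 D223989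
theorem N120731 : nd 120731 = n223990 := ndS (p := 102738) (l := 1) rfl N102738 D223990
theorem N120732 : nd 120732 = n223991 := ndS (p := 102738) (l := 7) rfl N102738 D223991
theorem N120733 : nd 120733 = n223992 := ndS (p := 102741) (l := 0) rfl N102741 D223992
theorem N120734 : nd 120734 = n223993 := ndS (p := 102741) (l := 7) rfl N102741 D223993
theorem N120735 : nd 120735 = n223994 := ndS (p := 102742) (l := 6) rfl N102742 D223994
theorem N120736 : nd 120736 = n223995 := ndS (p := 102755) (l := 4) rfl N102755 D223995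
theorem N120737 : nd 120737 = n223996 := ndS (p := 102790) (l := 2) rfl N102790 D223996
theorem N120738 : nd 120738 = n223997 := ndS (p := 102809) (l := 6) rfl N102809 D223997
theorem N120739 : nd 120739 = n223998 := ndS (p := 102812) (l := 5) rfl N102812 D223998
theorem N120740 : nd 120740 = n223999 := ndS (p := 102826) (l := 6) rfl N102826 D223999
theorem N120741 : nd 120741 = n224000 := ndS (p := 102838) (l := 4) rfl N102838 D224000
theorem N120742 : nd 120742 = n224001 := ndS (p := 102853) (l := 5) rfl N102853 D224001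
theorem N120743 : nd 120743 = n224002 := ndS (p := 102856) (l := 5) rfl N102856 D224002
theorem N120744 : nd 120744 = n224003 := ndS (p := 102899) (l := 5) rfl N102899 D224003
theorem N120745 : nd 120745 = n224004 := ndS (p := 102899) (l := 7) rfl N102899 D224004
theorem N120746 : nd 120746 = n224005 := ndS (p := 102907) (l := 5) rfl N102907 D224005
theorem N120747 : nd 120747 = n224006 := ndS (p := 102907) (l := 7) rfl N102907 D224006
theorem N120748 : nd 120748 = n224007 := ndS (p := 102908) (l := 6) rfl N102908 D224007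
theorem N120749 : nd 120749 = n224008 := ndS (p := 102910) (l := 0) rfl N102910 D224008
theorem N120750 : nd 120750 = n224009 := ndS (p := 102915) (l := 6) rfl N102915 D224009
theorem N120751 : nd 120751 = n224010 := ndS (p := 102918) (l := 0) rfl N102918 D224010
theorem N120752 : nd 120752 = n224011 := ndS (p := 102921) (l := 3) rfl N102921 D224011
theorem N120753 : nd 120753 = n224012 := ndS (p := 102925) (l := 6) rfl N102925 D224012
theorem N120754 : nd 120754 = n224013 := ndS (p := 102940) (l := 6) rfl N102940 D224013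
theorem N120755 : nd 120755 = n224014 := ndS (p := 102972) (l := 4) rfl N102972 D224014
theorem N120756 : nd 120756 = n224015 := ndS (p := 102973) (l := 5) rfl N102973 D224015
theorem N120757 : nd 120757 = n224016 := ndS (p := 102974) (l := 6) rfl N102974 D224016
theorem N120758 : nd 120758 = n224017 := ndS (p := 102976) (l := 4) rfl N102976 D224017
theorem N120759 : nd 120759 = n224018 := ndS (p := 102976) (l := 6) rfl N102976 D224018
theorem N120760 : nd 120760 = n224019 := ndS (p := 102977) (l := 0) rfl N102977 D224019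
theorem N120761 : nd 120761 = n224020 := ndS (p := 102977) (l := 1) rfl N102977 D224020
theorem N120762 : nd 120762 = n224021 := ndS (p := 102977) (l := 3) rfl N102977 D224021
theorem N120763 : nd 120763 = n224022 := ndS (p := 102982) (l := 1) rfl N102982 D224022
theorem N120764 : nd 120764 = n224023 := ndS (p := 102982) (l := 2) rfl N102982 D224023
theorem N120765 : nd 120765 = n224024 := ndS (p := 102984) (l := 6) rfl N102984 D224024
theorem N120766 : nd 120766 = n224025 := ndS (p := 103005) (l := 5) rfl N103005 D224025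
theorem N120767 : nd 120767 = n224026 := ndS (p := 103020) (l := 6) rfl N103020 D224026
theorem N120768 : nd 120768 = n224027 := ndS (p := 103022) (l := 2) rfl N103022 D224027
theorem N120769 : nd 120769 = n224028 := ndS (p := 103025) (l := 3) rfl N103025 D224028
theorem N120770 : nd 120770 = n224029 := ndS (p := 103034) (l := 7) rfl N103034 D224029
theorem N120771 : nd 120771 = n224030 := ndS (p := 103046) (l := 4) rfl N103046 D224030
theorem N120772 : nd 120772 = n224031 := ndS (p := 103066) (l := 6) rfl N103066 D224031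
theorem N120773 : nd 120773 = n224032 := ndS (p := 103071) (l := 1) rfl N103071 D224032
theorem N120774 : nd 120774 = n224033 := ndS (p := 103076) (l := 6) rfl N103076 D224033
theorem N120775 : nd 120775 = n224034 := ndS (p := 103082) (l := 4) rfl N103082 D224034
theorem N120776 : nd 120776 = n224035 := ndS (p := 103089) (l := 5) rfl N103089 D224035
theorem N120777 : nd 120777 = n224036 := ndS (p := 103090) (l := 5) rfl N103090 D224036
theorem N120778 : nd 120778 = n224037 := ndS (p := 103107) (l := 3) rfl N103107 D224037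
theorem N120779 : nd 120779 = n224038 := ndS (p := 103135) (l := 3) rfl N103135 D224038
theorem N120780 : nd 120780 = n224039 := ndS (p := 103171) (l := 6) rfl N103171 D224039
theorem N120781 : nd 120781 = n224040 := ndS (p := 103178) (l := 0) rfl N103178 D224040
theorem N120782 : nd 120782 = n224041 := ndS (p := 103178) (l := 1) rfl N103178 D224041
theorem N120783 : nd 120783 = n224042 := ndS (p := 103187) (l := 3) rfl N103187 D224042
theorem N120784 : nd 120784 = n224043 := ndS (p := 103191) (l := 5) rfl N103191 D224043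
theorem N120785 : nd 120785 = n224044 := ndS (p := 103195) (l := 4) rfl N103195 D224044
theorem N120786 : nd 120786 = n224045 := ndS (p := 103196) (l := 5) rfl N103196 D224045
theorem N120787 : nd 120787 = n224046 := ndS (p := 103201) (l := 5) rfl N103201 D224046
theorem N120788 : nd 120788 = n224047 := ndS (p := 103202) (l := 3) rfl N103202 D224047
theorem N120789 : nd 120789 = n224048 := ndS (p := 103206) (l := 5) rfl N103206 D224048
theorem N120790 : nd 120790 = n224049 := ndS (p := 103207) (l := 1) rfl N103207 D224049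
theorem N120791 : nd 120791 = n224050 := ndS (p := 103207) (l := 7) rfl N103207 D224050
theorem N120792 : nd 120792 = n224051 := ndS (p := 103211) (l := 5) rfl N103211 D224051
theorem N120793 : nd 120793 = n224052 := ndS (p := 103224) (l := 6) rfl N103224 D224052
theorem N120794 : nd 120794 = n224053 := ndS (p := 103225) (l := 1) rfl N103225 D224053
theorem N120795 : nd 120795 = n224054 := ndS (p := 103225) (l := 7) rfl N103225 D224054
theorem N120796 : nd 120796 = n224055 := ndS (p := 103291) (l := 3) rfl N103291 D224055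
theorem N120797 : nd 120797 = n224056 := ndS (p := 103297) (l := 4) rfl N103297 D224056
theorem N120798 : nd 120798 = n224057 := ndS (p := 103301) (l := 4) rfl N103301 D224057
theorem N120799 : nd 120799 = n224058 := ndS (p := 103303) (l := 4) rfl N103303 D224058
theorem N120800 : nd 120800 = n224059 := ndS (p := 103314) (l := 3) rfl N103314 D224059
theorem N120801 : nd 120801 = n224060 := ndS (p := 103317) (l := 7) rfl N103317 D224060
theorem N120802 : nd 120802 = n224061 := ndS (p := 103345) (l := 4) rfl N103345 D224061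
theorem N120803 : nd 120803 = n224062 := ndS (p := 103347) (l := 5) rfl N103347 D224062
theorem N120804 : nd 120804 = n224063 := ndS (p := 103349) (l := 5) rfl N103349 D224063
theorem N120805 : nd 120805 = n224064 := ndS (p := 103357) (l := 6) rfl N103357 D224064
theorem N120806 : nd 120806 = n224065 := ndS (p := 103385) (l := 5) rfl N103385 D224065
theorem N120807 : nd 120807 = n224066 := ndS (p := 103386) (l := 0) rfl N103386 D224066
theorem N120808 : nd 120808 = n224067 := ndS (p := 103392) (l := 6) rfl N103392 D224067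
theorem N120809 : nd 120809 = n224068 := ndS (p := 103394) (l := 6) rfl N103394 D224068
theorem N120810 : nd 120810 = n224069 := ndS (p := 103395) (l := 5) rfl N103395 D224069
theorem N120811 : nd 120811 = n224070 := ndS (p := 103402) (l := 5) rfl N103402 D224070
theorem N120812 : nd 120812 = n224071 := ndS (p := 103440) (l := 1) rfl N103440 D224071
theorem N120813 : nd 120813 = n224072 := ndS (p := 103462) (l := 4) rfl N103462 D224072
theorem N120814 : nd 120814 = n224073 := ndS (p := 103466) (l := 4) rfl N103466 D224073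
theorem N120815 : nd 120815 = n224074 := ndS (p := 103469) (l := 4) rfl N103469 D224074
theorem N120816 : nd 120816 = n224075 := ndS (p := 103477) (l := 1) rfl N103477 D224075
theorem N120817 : nd 120817 = n224076 := ndS (p := 103490) (l := 7) rfl N103490 D224076
theorem N120818 : nd 120818 = n224077 := ndS (p := 103495) (l := 6) rfl N103495 D224077
theorem N120819 : nd 120819 = n224078 := ndS (p := 103500) (l := 5) rfl N103500 D224078
theorem N120820 : nd 120820 = n224079 := ndS (p := 103502) (l := 5) rfl N103502 D224079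
theorem N120821 : nd 120821 = n224080 := ndS (p := 103505) (l := 1) rfl N103505 D224080
theorem N120822 : nd 120822 = n224081 := ndS (p := 103505) (l := 5) rfl N103505 D224081
theorem N120823 : nd 120823 = n224082 := ndS (p := 103505) (l := 7) rfl N103505 D224082
theorem N120824 : nd 120824 = n224083 := ndS (p := 103506) (l := 4) rfl N103506 D224083
theorem N120825 : nd 120825 = n224084 := ndS (p := 103517) (l := 6) rfl N103517 D224084
theorem N120826 : nd 120826 = n224085 := ndS (p := 103519) (l := 0) rfl N103519 D224085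
theorem N120827 : nd 120827 = n224086 := ndS (p := 103524) (l := 1) rfl N103524 D224086
theorem N120828 : nd 120828 = n224087 := ndS (p := 103524) (l := 5) rfl N103524 D224087
theorem N120829 : nd 120829 = n224088 := ndS (p := 103526) (l := 6) rfl N103526 D224088
theorem N120830 : nd 120830 = n224089 := ndS (p := 103527) (l := 5) rfl N103527 D224089
theorem N120831 : nd 120831 = n224090 := ndS (p := 103528) (l := 5) rfl N103528 D224090
theorem N120832 : nd 120832 = n224091 := ndS (p := 103529) (l := 4) rfl N103529 D224091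
theorem N120833 : nd 120833 = n224092 := ndS (p := 103535) (l := 0) rfl N103535 D224092
theorem N120834 : nd 120834 = n224093 := ndS (p := 103535) (l := 5) rfl N103535 D224093
theorem N120835 : nd 120835 = n224094 := ndS (p := 103535) (l := 7) rfl N103535 D224094
theorem N120836 : nd 120836 = n224095 := ndS (p := 103538) (l := 5) rfl N103538 D224095
theorem N120837 : nd 120837 = n224096 := ndS (p := 103544) (l := 6) rfl N103544 D224096
theorem N120838 : nd 120838 = n224097 := ndS (p := 103549) (l := 5) rfl N103549 D224097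
theorem N120839 : nd 120839 = n224098 := ndS (p := 103550) (l := 0) rfl N103550 D224098
theorem N120840 : nd 120840 = n224099 := ndS (p := 103551) (l := 6) rfl N103551 D224099
theorem N120841 : nd 120841 = n224100 := ndS (p := 103556) (l := 5) rfl N103556 D224100
theorem N120842 : nd 120842 = n224101 := ndS (p := 103561) (l := 3) rfl N103561 D224101
theorem N120843 : nd 120843 = n224102 := ndS (p := 103564) (l := 5) rfl N103564 D224102
theorem N120844 : nd 120844 = n224103 := ndS (p := 103565) (l := 0) rfl N103565 D224103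
theorem N120845 : nd 120845 = n224104 := ndS (p := 103565) (l := 5) rfl N103565 D224104
theorem N120846 : nd 120846 = n224105 := ndS (p := 103567) (l := 4) rfl N103567 D224105
theorem N120847 : nd 120847 = n224106 := ndS (p := 103579) (l := 5) rfl N103579 D224106
theorem N120848 : nd 120848 = n224107 := ndS (p := 103580) (l := 6) rfl N103580 D224107
theorem N120849 : nd 120849 = n224108 := ndS (p := 103594) (l := 5) rfl N103594 D224108
theorem N120850 : nd 120850 = n224109 := ndS (p := 103615) (l := 5) rfl N103615 D224109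
theorem N120851 : nd 120851 = n224110 := ndS (p := 103616) (l := 6) rfl N103616 D224110
theorem N120852 : nd 120852 = n224111 := ndS (p := 103630) (l := 5) rfl N103630 D224111
theorem N120853 : nd 120853 = n224112 := ndS (p := 103631) (l := 3) rfl N103631 D224112
theorem N120854 : nd 120854 = n224113 := ndS (p := 103635) (l := 0) rfl N103635 D224113
theorem N120855 : nd 120855 = n224114 := ndS (p := 103636) (l := 5) rfl N103636 D224114
theorem N120856 : nd 120856 = n224115 := ndS (p := 103637) (l := 3) rfl N103637 D224115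
theorem N120857 : nd 120857 = n224116 := ndS (p := 103638) (l := 1) rfl N103638 D224116
theorem N120858 : nd 120858 = n224117 := ndS (p := 103643) (l := 4) rfl N103643 D224117
theorem N120859 : nd 120859 = n224118 := ndS (p := 103644) (l := 6) rfl N103644 D224118
theorem N120860 : nd 120860 = n224119 := ndS (p := 103645) (l := 1) rfl N103645 D224119
theorem N120861 : nd 120861 = n224120 := ndS (p := 103648) (l := 4) rfl N103648 D224120
theorem N120862 : nd 120862 = n224121 := ndS (p := 103649) (l := 3) rfl N103649 D224121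
theorem N120863 : nd 120863 = n224122 := ndS (p := 103649) (l := 4) rfl N103649 D224122
theorem N120864 : nd 120864 = n224123 := ndS (p := 103649) (l := 6) rfl N103649 D224123
theorem N120865 : nd 120865 = n224124 := ndS (p := 103652) (l := 5) rfl N103652 D224124
theorem N120866 : nd 120866 = n224125 := ndS (p := 103654) (l := 3) rfl N103654 D224125
theorem N120867 : nd 120867 = n224126 := ndS (p := 103655) (l := 6) rfl N103655 D224126
theorem N120868 : nd 120868 = n224127 := ndS (p := 103662) (l := 0) rfl N103662 D224127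
theorem N120869 : nd 120869 = n224128 := ndS (p := 103663) (l := 3) rfl N103663 D224128
theorem N120870 : nd 120870 = n224129 := ndS (p := 103664) (l := 6) rfl N103664 D224129
theorem N120871 : nd 120871 = n224130 := ndS (p := 103673) (l := 6) rfl N103673 D224130
theorem N120872 : nd 120872 = n224131 := ndS (p := 103674) (l := 0) rfl N103674 D224131
theorem N120873 : nd 120873 = n224132 := ndS (p := 103674) (l := 1) rfl N103674 D224132
theorem N120874 : nd 120874 = n224133 := ndS (p := 103675) (l := 7) rfl N103675 D224133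
theorem N120875 : nd 120875 = n224134 := ndS (p := 103676) (l := 3) rfl N103676 D224134
theorem N120876 : nd 120876 = n224135 := ndS (p := 103676) (l := 5) rfl N103676 D224135
theorem N120877 : nd 120877 = n224136 := ndS (p := 103677) (l := 5) rfl N103677 D224136
theorem N120878 : nd 120878 = n224137 := ndS (p := 103682) (l := 7) rfl N103682 D224137
theorem N120879 : nd 120879 = n224138 := ndS (p := 103685) (l := 6) rfl N103685 D224138
theorem N120880 : nd 120880 = n224139 := ndS (p := 103686) (l := 5) rfl N103686 D224139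
theorem N120881 : nd 120881 = n224140 := ndS (p := 103688) (l := 5) rfl N103688 D224140
theorem N120882 : nd 120882 = n224141 := ndS (p := 103693) (l := 4) rfl N103693 D224141
theorem N120883 : nd 120883 = n224142 := ndS (p := 103699) (l := 3) rfl N103699 D224142
theorem N120884 : nd 120884 = n224143 := ndS (p := 103702) (l := 6) rfl N103702 D224143
theorem N120885 : nd 120885 = n224144 := ndS (p := 103707) (l := 3) rfl N103707 D224144
theorem N120886 : nd 120886 = n224145 := ndS (p := 103712) (l := 0) rfl N103712 D224145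
theorem N120887 : nd 120887 = n224146 := ndS (p := 103712) (l := 5) rfl N103712 D224146
theorem N120888 : nd 120888 = n224147 := ndS (p := 103716) (l := 0) rfl N103716 D224147
theorem N120889 : nd 120889 = n224148 := ndS (p := 103721) (l := 5) rfl N103721 D224148
theorem N120890 : nd 120890 = n224149 := ndS (p := 103722) (l := 4) rfl N103722 D224149
theorem N120891 : nd 120891 = n224150 := ndS (p := 103722) (l := 6) rfl N103722 D224150
theorem N120892 : nd 120892 = n224151 := ndS (p := 103723) (l := 4) rfl N103723 D224151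
theorem N120893 : nd 120893 = n224152 := ndS (p := 103723) (l := 6) rfl N103723 D224152
theorem N120894 : nd 120894 = n224153 := ndS (p := 103731) (l := 6) rfl N103731 D224153
theorem N120895 : nd 120895 = n224154 := ndS (p := 103732) (l := 0) rfl N103732 D224154
theorem N120896 : nd 120896 = n224155 := ndS (p := 103738) (l := 6) rfl N103738 D224155
theorem N120897 : nd 120897 = n224156 := ndS (p := 103739) (l := 0) rfl N103739 D224156
theorem N120898 : nd 120898 = n224157 := ndS (p := 103739) (l := 1) rfl N103739 D224157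
theorem N120899 : nd 120899 = n224158 := ndS (p := 103743) (l := 5) rfl N103743 D224158
theorem N120900 : nd 120900 = n224159 := ndS (p := 103747) (l := 5) rfl N103747 D224159
theorem N120901 : nd 120901 = n224160 := ndS (p := 103751) (l := 5) rfl N103751 D224160
theorem N120902 : nd 120902 = n224161 := ndS (p := 103759) (l := 6) rfl N103759 D224161
theorem N120903 : nd 120903 = n224162 := ndS (p := 103765) (l := 6) rfl N103765 D224162
theorem N120904 : nd 120904 = n224163 := ndS (p := 103766) (l := 6) rfl N103766 D224163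
theorem N120905 : nd 120905 = n224164 := ndS (p := 103768) (l := 1) rfl N103768 D224164
theorem N120906 : nd 120906 = n224165 := ndS (p := 103768) (l := 5) rfl N103768 D224165
theorem N120907 : nd 120907 = n224166 := ndS (p := 103769) (l := 5) rfl N103769 D224166
theorem N120908 : nd 120908 = n224167 := ndS (p := 103770) (l := 0) rfl N103770 D224167
theorem N120909 : nd 120909 = n224168 := ndS (p := 103781) (l := 6) rfl N103781 D224168
theorem N120910 : nd 120910 = n224169 := ndS (p := 103811) (l := 5) rfl N103811 D224169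
theorem N120911 : nd 120911 = n224170 := ndS (p := 103818) (l := 3) rfl N103818 D224170
theorem N120912 : nd 120912 = n224171 := ndS (p := 103820) (l := 3) rfl N103820 D224171
theorem N120913 : nd 120913 = n224172 := ndS (p := 103827) (l := 4) rfl N103827 D224172
theorem N120914 : nd 120914 = n224173 := ndS (p := 103828) (l := 6) rfl N103828 D224173
theorem N120915 : nd 120915 = n224174 := ndS (p := 103839) (l := 1) rfl N103839 D224174
theorem N120916 : nd 120916 = n224175 := ndS (p := 103843) (l := 7) rfl N103843 D224175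
theorem N120917 : nd 120917 = n224176 := ndS (p := 103844) (l := 7) rfl N103844 D224176
theorem N120918 : nd 120918 = n224177 := ndS (p := 103845) (l := 3) rfl N103845 D224177
theorem N120919 : nd 120919 = n224178 := ndS (p := 103846) (l := 5) rfl N103846 D224178
theorem N120920 : nd 120920 = n224179 := ndS (p := 103851) (l := 3) rfl N103851 D224179
theorem N120921 : nd 120921 = n224180 := ndS (p := 103856) (l := 1) rfl N103856 D224180
theorem N120922 : nd 120922 = n224181 := ndS (p := 103868) (l := 2) rfl N103868 D224181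
theorem N120923 : nd 120923 = n224182 := ndS (p := 103869) (l := 1) rfl N103869 D224182
theorem N120924 : nd 120924 = n224183 := ndS (p := 103869) (l := 5) rfl N103869 D224183
theorem N120925 : nd 120925 = n224184 := ndS (p := 103871) (l := 2) rfl N103871 D224184
theorem N120926 : nd 120926 = n224185 := ndS (p := 103877) (l := 0) rfl N103877 D224185
theorem N120927 : nd 120927 = n224186 := ndS (p := 103879) (l := 6) rfl N103879 D224186
theorem N120928 : nd 120928 = n224187 := ndS (p := 103884) (l := 6) rfl N103884 D224187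
theorem N120929 : nd 120929 = n224188 := ndS (p := 103941) (l := 4) rfl N103941 D224188
theorem N120930 : nd 120930 = n224189 := ndS (p := 103943) (l := 0) rfl N103943 D224189
theorem N120931 : nd 120931 = n224190 := ndS (p := 103943) (l := 1) rfl N103943 D224190
theorem N120932 : nd 120932 = n224191 := ndS (p := 103943) (l := 6) rfl N103943 D224191
theorem N120933 : nd 120933 = n224192 := ndS (p := 103944) (l := 0) rfl N103944 D224192
theorem N120934 : nd 120934 = n224193 := ndS (p := 103944) (l := 1) rfl N103944 D224193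
theorem N120935 : nd 120935 = n224194 := ndS (p := 103944) (l := 7) rfl N103944 D224194
theorem N120936 : nd 120936 = n224195 := ndS (p := 103945) (l := 3) rfl N103945 D224195
theorem N120937 : nd 120937 = n224196 := ndS (p := 103946) (l := 5) rfl N103946 D224196
theorem N120938 : nd 120938 = n224197 := ndS (p := 103947) (l := 6) rfl N103947 D224197
theorem N120939 : nd 120939 = n224198 := ndS (p := 103974) (l := 5) rfl N103974 D224198
theorem N120940 : nd 120940 = n224199 := ndS (p := 103976) (l := 6) rfl N103976 D224199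
theorem N120941 : nd 120941 = n224200 := ndS (p := 104034) (l := 5) rfl N104034 D224200
theorem N120942 : nd 120942 = n224201 := ndS (p := 104036) (l := 0) rfl N104036 D224201
theorem N120943 : nd 120943 = n224202 := ndS (p := 104036) (l := 7) rfl N104036 D224202
theorem N120944 : nd 120944 = n224203 := ndS (p := 104038) (l := 5) rfl N104038 D224203
theorem N120945 : nd 120945 = n224204 := ndS (p := 104039) (l := 1) rfl N104039 D224204
theorem N120946 : nd 120946 = n224205 := ndS (p := 104042) (l := 3) rfl N104042 D224205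
theorem N120947 : nd 120947 = n224206 := ndS (p := 104042) (l := 4) rfl N104042 D224206
theorem N120948 : nd 120948 = n224207 := ndS (p := 104055) (l := 4) rfl N104055 D224207
theorem N120949 : nd 120949 = n224208 := ndS (p := 104057) (l := 4) rfl N104057 D224208
theorem N120950 : nd 120950 = n224209 := ndS (p := 104098) (l := 5) rfl N104098 D224209
theorem N120951 : nd 120951 = n224210 := ndS (p := 104102) (l := 4) rfl N104102 D224210
theorem N120952 : nd 120952 = n224211 := ndS (p := 104130) (l := 3) rfl N104130 D224211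
theorem N120953 : nd 120953 = n224212 := ndS (p := 104135) (l := 4) rfl N104135 D224212
theorem N120954 : nd 120954 = n224213 := ndS (p := 104138) (l := 5) rfl N104138 D224213
theorem N120955 : nd 120955 = n224214 := ndS (p := 104170) (l := 1) rfl N104170 D224214
theorem N120956 : nd 120956 = n224215 := ndS (p := 104170) (l := 7) rfl N104170 D224215
theorem N120957 : nd 120957 = n224216 := ndS (p := 104180) (l := 7) rfl N104180 D224216
theorem N120958 : nd 120958 = n224217 := ndS (p := 104183) (l := 6) rfl N104183 D224217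
theorem N120959 : nd 120959 = n224218 := ndS (p := 104229) (l := 1) rfl N104229 D224218
theorem N120960 : nd 120960 = n224219 := ndS (p := 104244) (l := 4) rfl N104244 D224219
theorem N120961 : nd 120961 = n224220 := ndS (p := 104246) (l := 3) rfl N104246 D224220
theorem N120962 : nd 120962 = n224221 := ndS (p := 104275) (l := 7) rfl N104275 D224221
theorem N120963 : nd 120963 = n224222 := ndS (p := 104287) (l := 0) rfl N104287 D224222
theorem N120964 : nd 120964 = n224223 := ndS (p := 104287) (l := 1) rfl N104287 D224223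
theorem N120965 : nd 120965 = n224224 := ndS (p := 104290) (l := 5) rfl N104290 D224224
theorem N120966 : nd 120966 = n224225 := ndS (p := 104292) (l := 1) rfl N104292 D224225
theorem N120967 : nd 120967 = n224226 := ndS (p := 104295) (l := 5) rfl N104295 D224226
theorem N120968 : nd 120968 = n224227 := ndS (p := 104297) (l := 5) rfl N104297 D224227
theorem N120969 : nd 120969 = n224228 := ndS (p := 104301) (l := 4) rfl N104301 D224228
theorem N120970 : nd 120970 = n224229 := ndS (p := 104309) (l := 6) rfl N104309 D224229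
theorem N120971 : nd 120971 = n224230 := ndS (p := 104321) (l := 6) rfl N104321 D224230
theorem N120972 : nd 120972 = n224231 := ndS (p := 104323) (l := 5) rfl N104323 D224231
theorem N120973 : nd 120973 = n224232 := ndS (p := 104329) (l := 5) rfl N104329 D224232
theorem N120974 : nd 120974 = n224233 := ndS (p := 104332) (l := 3) rfl N104332 D224233
theorem N120975 : nd 120975 = n224234 := ndS (p := 104340) (l := 1) rfl N104340 D224234
theorem N120976 : nd 120976 = n224235 := ndS (p := 104342) (l := 0) rfl N104342 D224235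
theorem N120977 : nd 120977 = n224236 := ndS (p := 104342) (l := 1) rfl N104342 D224236
theorem N120978 : nd 120978 = n224237 := ndS (p := 104357) (l := 5) rfl N104357 D224237
theorem N120979 : nd 120979 = n224238 := ndS (p := 104359) (l := 4) rfl N104359 D224238
theorem N120980 : nd 120980 = n224239 := ndS (p := 104360) (l := 4) rfl N104360 D224239
theorem N120981 : nd 120981 = n224240 := ndS (p := 104366) (l := 6) rfl N104366 D224240
theorem N120982 : nd 120982 = n224241 := ndS (p := 104369) (l := 4) rfl N104369 D224241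
theorem N120983 : nd 120983 = n224242 := ndS (p := 104379) (l := 5) rfl N104379 D224242
theorem N120984 : nd 120984 = n224243 := ndS (p := 104380) (l := 5) rfl N104380 D224243
theorem N120985 : nd 120985 = n224244 := ndS (p := 104385) (l := 6) rfl N104385 D224244
theorem N120986 : nd 120986 = n224245 := ndS (p := 104387) (l := 0) rfl N104387 D224245
theorem N120987 : nd 120987 = n224246 := ndS (p := 104405) (l := 5) rfl N104405 D224246
theorem N120988 : nd 120988 = n224247 := ndS (p := 104412) (l := 6) rfl N104412 D224247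
theorem N120989 : nd 120989 = n224248 := ndS (p := 104413) (l := 0) rfl N104413 D224248
theorem N120990 : nd 120990 = n224249 := ndS (p := 104413) (l := 5) rfl N104413 D224249
theorem N120991 : nd 120991 = n224250 := ndS (p := 104420) (l := 0) rfl N104420 D224250
theorem N120992 : nd 120992 = n224251 := ndS (p := 104436) (l := 3) rfl N104436 D224251
theorem N120993 : nd 120993 = n224252 := ndS (p := 104441) (l := 6) rfl N104441 D224252
theorem N120994 : nd 120994 = n224253 := ndS (p := 104443) (l := 5) rfl N104443 D224253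
theorem N120995 : nd 120995 = n224254 := ndS (p := 104445) (l := 0) rfl N104445 D224254
theorem N120996 : nd 120996 = n224255 := ndS (p := 104446) (l := 4) rfl N104446 D224255
theorem N120997 : nd 120997 = n224256 := ndS (p := 104446) (l := 7) rfl N104446 D224256
theorem N120998 : nd 120998 = n224257 := ndS (p := 104450) (l := 0) rfl N104450 D224257
theorem N120999 : nd 120999 = n224258 := ndS (p := 104451) (l := 0) rfl N104451 D224258
theorem N121000 : nd 121000 = n224259 := ndS (p := 104453) (l := 6) rfl N104453 D224259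
theorem N121001 : nd 121001 = n224260 := ndS (p := 104455) (l := 6) rfl N104455 D224260
theorem N121002 : nd 121002 = n224261 := ndS (p := 104466) (l := 6) rfl N104466 D224261
theorem N121003 : nd 121003 = n224262 := ndS (p := 104467) (l := 5) rfl N104467 D224262
theorem N121004 : nd 121004 = n224263 := ndS (p := 104471) (l := 6) rfl N104471 D224263
theorem N121005 : nd 121005 = n224264 := ndS (p := 104476) (l := 6) rfl N104476 D224264
theorem N121006 : nd 121006 = n224265 := ndS (p := 104492) (l := 6) rfl N104492 D224265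
theorem N121007 : nd 121007 = n224266 := ndS (p := 104500) (l := 6) rfl N104500 D224266
theorem N121008 : nd 121008 = n224267 := ndS (p := 104503) (l := 1) rfl N104503 D224267
theorem N121009 : nd 121009 = n224268 := ndS (p := 104511) (l := 2) rfl N104511 D224268
theorem N121010 : nd 121010 = n224269 := ndS (p := 104515) (l := 6) rfl N104515 D224269
theorem N121011 : nd 121011 = n224270 := ndS (p := 104517) (l := 0) rfl N104517 D224270
theorem N121012 : nd 121012 = n224271 := ndS (p := 104518) (l := 3) rfl N104518 D224271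
theorem N121013 : nd 121013 = n224272 := ndS (p := 104518) (l := 5) rfl N104518 D224272
theorem N121014 : nd 121014 = n224273 := ndS (p := 104519) (l := 5) rfl N104519 D224273
theorem N121015 : nd 121015 = n224274 := ndS (p := 104520) (l := 0) rfl N104520 D224274
theorem N121016 : nd 121016 = n224275 := ndS (p := 104520) (l := 1) rfl N104520 D224275
theorem N121017 : nd 121017 = n224276 := ndS (p := 104520) (l := 7) rfl N104520 D224276
theorem N121018 : nd 121018 = n224277 := ndS (p := 104522) (l := 5) rfl N104522 D224277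
theorem N121019 : nd 121019 = n224278 := ndS (p := 104523) (l := 5) rfl N104523 D224278
theorem N121020 : nd 121020 = n224279 := ndS (p := 104526) (l := 5) rfl N104526 D224279
theorem N121021 : nd 121021 = n224280 := ndS (p := 104530) (l := 5) rfl N104530 D224280
theorem N121022 : nd 121022 = n224281 := ndS (p := 104538) (l := 6) rfl N104538 D224281
theorem N121023 : nd 121023 = n224282 := ndS (p := 104539) (l := 1) rfl N104539 D224282
theorem N121024 : nd 121024 = n224283 := ndS (p := 104551) (l := 6) rfl N104551 D224283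
theorem N121025 : nd 121025 = n224284 := ndS (p := 104552) (l := 6) rfl N104552 D224284
theorem N121026 : nd 121026 = n224285 := ndS (p := 104553) (l := 1) rfl N104553 D224285
theorem N121027 : nd 121027 = n224286 := ndS (p := 104553) (l := 5) rfl N104553 D224286
theorem N121028 : nd 121028 = n224287 := ndS (p := 104612) (l := 4) rfl N104612 D224287
theorem N121029 : nd 121029 = n224288 := ndS (p := 104626) (l := 5) rfl N104626 D224288
theorem N121030 : nd 121030 = n224289 := ndS (p := 104636) (l := 5) rfl N104636 D224289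
theorem N121031 : nd 121031 = n224290 := ndS (p := 104647) (l := 6) rfl N104647 D224290
theorem N121032 : nd 121032 = n224291 := ndS (p := 104648) (l := 3) rfl N104648 D224291
theorem N121033 : nd 121033 = n224292 := ndS (p := 104654) (l := 4) rfl N104654 D224292
theorem N121034 : nd 121034 = n224293 := ndS (p := 104677) (l := 3) rfl N104677 D224293
theorem N121035 : nd 121035 = n224294 := ndS (p := 104677) (l := 6) rfl N104677 D224294
theorem N121036 : nd 121036 = n224295 := ndS (p := 104680) (l := 5) rfl N104680 D224295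
theorem N121037 : nd 121037 = n224296 := ndS (p := 104682) (l := 5) rfl N104682 D224296
theorem N121038 : nd 121038 = n224297 := ndS (p := 104683) (l := 0) rfl N104683 D224297
theorem N121039 : nd 121039 = n224298 := ndS (p := 104698) (l := 1) rfl N104698 D224298
theorem N121040 : nd 121040 = n224299 := ndS (p := 104698) (l := 7) rfl N104698 D224299
theorem N121041 : nd 121041 = n224300 := ndS (p := 104723) (l := 3) rfl N104723 D224300
theorem N121042 : nd 121042 = n224301 := ndS (p := 104727) (l := 5) rfl N104727 D224301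
theorem N121043 : nd 121043 = n224302 := ndS (p := 104734) (l := 5) rfl N104734 D224302
theorem N121044 : nd 121044 = n224303 := ndS (p := 104740) (l := 3) rfl N104740 D224303
theorem N121045 : nd 121045 = n224304 := ndS (p := 104747) (l := 0) rfl N104747 D224304
theorem N121046 : nd 121046 = n224305 := ndS (p := 104751) (l := 4) rfl N104751 D224305
theorem N121047 : nd 121047 = n224306 := ndS (p := 104769) (l := 6) rfl N104769 D224306
theorem N121048 : nd 121048 = n224307 := ndS (p := 104776) (l := 3) rfl N104776 D224307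
theorem N121049 : nd 121049 = n224308 := ndS (p := 104776) (l := 5) rfl N104776 D224308
theorem N121050 : nd 121050 = n224309 := ndS (p := 104790) (l := 0) rfl N104790 D224309
theorem N121051 : nd 121051 = n224310 := ndS (p := 104790) (l := 1) rfl N104790 D224310
theorem N121052 : nd 121052 = n224311 := ndS (p := 104813) (l := 6) rfl N104813 D224311
theorem N121053 : nd 121053 = n224312 := ndS (p := 104815) (l := 0) rfl N104815 D224312
theorem N121054 : nd 121054 = n224313 := ndS (p := 104815) (l := 6) rfl N104815 D224313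
theorem N121055 : nd 121055 = n224314 := ndS (p := 104816) (l := 0) rfl N104816 D224314
theorem N121056 : nd 121056 = n224315 := ndS (p := 104816) (l := 1) rfl N104816 D224315
theorem N121057 : nd 121057 = n224316 := ndS (p := 104816) (l := 7) rfl N104816 D224316
theorem N121058 : nd 121058 = n224317 := ndS (p := 104835) (l := 5) rfl N104835 D224317
theorem N121059 : nd 121059 = n224318 := ndS (p := 104845) (l := 3) rfl N104845 D224318
theorem N121060 : nd 121060 = n224319 := ndS (p := 104857) (l := 3) rfl N104857 D224319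
theorem N121061 : nd 121061 = n224320 := ndS (p := 104859) (l := 4) rfl N104859 D224320
theorem N121062 : nd 121062 = n224321 := ndS (p := 104873) (l := 6) rfl N104873 D224321
theorem N121063 : nd 121063 = n224322 := ndS (p := 104887) (l := 5) rfl N104887 D224322
theorem N121064 : nd 121064 = n224323 := ndS (p := 104891) (l := 3) rfl N104891 D224323
theorem N121065 : nd 121065 = n224324 := ndS (p := 104894) (l := 5) rfl N104894 D224324
theorem N121066 : nd 121066 = n224325 := ndS (p := 104895) (l := 1) rfl N104895 D224325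
theorem N121067 : nd 121067 = n224326 := ndS (p := 104900) (l := 4) rfl N104900 D224326
theorem N121068 : nd 121068 = n224327 := ndS (p := 104903) (l := 3) rfl N104903 D224327
theorem N121069 : nd 121069 = n224328 := ndS (p := 104905) (l := 4) rfl N104905 D224328
theorem N121070 : nd 121070 = n224329 := ndS (p := 104915) (l := 6) rfl N104915 D224329
theorem N121071 : nd 121071 = n224330 := ndS (p := 104984) (l := 5) rfl N104984 D224330
theorem N121072 : nd 121072 = n224331 := ndS (p := 104988) (l := 1) rfl N104988 D224331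
theorem N121073 : nd 121073 = n224332 := ndS (p := 104991) (l := 3) rfl N104991 D224332
theorem N121074 : nd 121074 = n224333 := ndS (p := 105000) (l := 1) rfl N105000 D224333
theorem N121075 : nd 121075 = n224334 := ndS (p := 105005) (l := 4) rfl N105005 D224334
theorem N121076 : nd 121076 = n224335 := ndS (p := 105006) (l := 2) rfl N105006 D224335
theorem N121077 : nd 121077 = n224336 := ndS (p := 105044) (l := 4) rfl N105044 D224336
theorem N121078 : nd 121078 = n224337 := ndS (p := 105053) (l := 5) rfl N105053 D224337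
theorem N121079 : nd 121079 = n224338 := ndS (p := 105063) (l := 1) rfl N105063 D224338
theorem N121080 : nd 121080 = n224339 := ndS (p := 105069) (l := 5) rfl N105069 D224339
theorem N121081 : nd 121081 = n224340 := ndS (p := 105071) (l := 5) rfl N105071 D224340
theorem N121082 : nd 121082 = n224341 := ndS (p := 105072) (l := 0) rfl N105072 D224341
theorem N121083 : nd 121083 = n224342 := ndS (p := 105072) (l := 4) rfl N105072 D224342
theorem N121084 : nd 121084 = n224343 := ndS (p := 105072) (l := 7) rfl N105072 D224343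
theorem N121085 : nd 121085 = n224344 := ndS (p := 105075) (l := 3) rfl N105075 D224344
theorem N121086 : nd 121086 = n224345 := ndS (p := 105090) (l := 5) rfl N105090 D224345
theorem N121087 : nd 121087 = n224346 := ndS (p := 105126) (l := 6) rfl N105126 D224346
theorem N121088 : nd 121088 = n224347 := ndS (p := 105135) (l := 5) rfl N105135 D224347
theorem N121089 : nd 121089 = n224348 := ndS (p := 105136) (l := 5) rfl N105136 D224348
theorem N121090 : nd 121090 = n224349 := ndS (p := 105137) (l := 0) rfl N105137 D224349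
theorem N121091 : nd 121091 = n224350 := ndS (p := 105139) (l := 3) rfl N105139 D224350
theorem N121092 : nd 121092 = n224351 := ndS (p := 105145) (l := 6) rfl N105145 D224351
theorem N121093 : nd 121093 = n224352 := ndS (p := 105156) (l := 5) rfl N105156 D224352
theorem N121094 : nd 121094 = n224353 := ndS (p := 105162) (l := 5) rfl N105162 D224353
theorem N121095 : nd 121095 = n224354 := ndS (p := 105163) (l := 5) rfl N105163 D224354
theorem N121096 : nd 121096 = n224355 := ndS (p := 105164) (l := 4) rfl N105164 D224355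
theorem N121097 : nd 121097 = n224356 := ndS (p := 105166) (l := 3) rfl N105166 D224356
theorem N121098 : nd 121098 = n224357 := ndS (p := 105175) (l := 3) rfl N105175 D224357
theorem N121099 : nd 121099 = n224358 := ndS (p := 105188) (l := 6) rfl N105188 D224358
theorem N121100 : nd 121100 = n224359 := ndS (p := 105189) (l := 6) rfl N105189 D224359
theorem N121101 : nd 121101 = n224360 := ndS (p := 105193) (l := 6) rfl N105193 D224360
theorem N121102 : nd 121102 = n224361 := ndS (p := 105196) (l := 6) rfl N105196 D224361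
theorem N121103 : nd 121103 = n224362 := ndS (p := 105241) (l := 5) rfl N105241 D224362
theorem N121104 : nd 121104 = n224363 := ndS (p := 105242) (l := 4) rfl N105242 D224363
theorem N121105 : nd 121105 = n224364 := ndS (p := 105245) (l := 6) rfl N105245 D224364
theorem N121106 : nd 121106 = n224365 := ndS (p := 105248) (l := 6) rfl N105248 D224365
theorem N121107 : nd 121107 = n224366 := ndS (p := 105255) (l := 5) rfl N105255 D224366
theorem N121108 : nd 121108 = n224367 := ndS (p := 105256) (l := 5) rfl N105256 D224367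
theorem N121109 : nd 121109 = n224368 := ndS (p := 105266) (l := 5) rfl N105266 D224368
theorem N121110 : nd 121110 = n224369 := ndS (p := 105267) (l := 0) rfl N105267 D224369
theorem N121111 : nd 121111 = n224370 := ndS (p := 105267) (l := 7) rfl N105267 D224370
theorem N121112 : nd 121112 = n224371 := ndS (p := 105275) (l := 3) rfl N105275 D224371
theorem N121113 : nd 121113 = n224372 := ndS (p := 105285) (l := 6) rfl N105285 D224372
theorem N121114 : nd 121114 = n224373 := ndS (p := 105299) (l := 1) rfl N105299 D224373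
theorem N121115 : nd 121115 = n224374 := ndS (p := 105299) (l := 3) rfl N105299 D224374
theorem N121116 : nd 121116 = n224375 := ndS (p := 105300) (l := 3) rfl N105300 D224375
theorem N121117 : nd 121117 = n224376 := ndS (p := 105300) (l := 6) rfl N105300 D224376
theorem N121118 : nd 121118 = n224377 := ndS (p := 105302) (l := 3) rfl N105302 D224377
theorem N121119 : nd 121119 = n224378 := ndS (p := 105306) (l := 3) rfl N105306 D224378
theorem N121120 : nd 121120 = n224379 := ndS (p := 105308) (l := 6) rfl N105308 D224379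
theorem N121121 : nd 121121 = n224380 := ndS (p := 105309) (l := 4) rfl N105309 D224380
theorem N121122 : nd 121122 = n224381 := ndS (p := 105312) (l := 6) rfl N105312 D224381
theorem N121123 : nd 121123 = n224382 := ndS (p := 105321) (l := 3) rfl N105321 D224382
theorem N121124 : nd 121124 = n224383 := ndS (p := 105326) (l := 0) rfl N105326 D224383
theorem N121125 : nd 121125 = n224384 := ndS (p := 105334) (l := 6) rfl N105334 D224384
theorem N121126 : nd 121126 = n224385 := ndS (p := 105336) (l := 6) rfl N105336 D224385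
theorem N121127 : nd 121127 = n224386 := ndS (p := 105376) (l := 4) rfl N105376 D224386
theorem N121128 : nd 121128 = n224387 := ndS (p := 105385) (l := 6) rfl N105385 D224387
theorem N121129 : nd 121129 = n224388 := ndS (p := 105390) (l := 1) rfl N105390 D224388
theorem N121130 : nd 121130 = n224389 := ndS (p := 105408) (l := 6) rfl N105408 D224389
theorem N121131 : nd 121131 = n224390 := ndS (p := 105409) (l := 5) rfl N105409 D224390
theorem N121132 : nd 121132 = n224391 := ndS (p := 105420) (l := 6) rfl N105420 D224391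
theorem N121133 : nd 121133 = n224392 := ndS (p := 105423) (l := 4) rfl N105423 D224392
theorem N121134 : nd 121134 = n224393 := ndS (p := 105432) (l := 1) rfl N105432 D224393
theorem N121135 : nd 121135 = n224394 := ndS (p := 105434) (l := 5) rfl N105434 D224394
theorem N121136 : nd 121136 = n224395 := ndS (p := 105435) (l := 6) rfl N105435 D224395
theorem N121137 : nd 121137 = n224396 := ndS (p := 105438) (l := 6) rfl N105438 D224396
theorem N121138 : nd 121138 = n224397 := ndS (p := 105459) (l := 3) rfl N105459 D224397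
theorem N121139 : nd 121139 = n224398 := ndS (p := 105482) (l := 3) rfl N105482 D224398
theorem N121140 : nd 121140 = n224399 := ndS (p := 105484) (l := 2) rfl N105484 D224399
theorem N121141 : nd 121141 = n224400 := ndS (p := 105497) (l := 6) rfl N105497 D224400
theorem N121142 : nd 121142 = n224401 := ndS (p := 105499) (l := 0) rfl N105499 D224401
theorem N121143 : nd 121143 = n224402 := ndS (p := 105499) (l := 7) rfl N105499 D224402
theorem N121144 : nd 121144 = n224403 := ndS (p := 105500) (l := 5) rfl N105500 D224403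
theorem N121145 : nd 121145 = n224404 := ndS (p := 105500) (l := 7) rfl N105500 D224404
theorem N121146 : nd 121146 = n224405 := ndS (p := 105502) (l := 4) rfl N105502 D224405
theorem N121147 : nd 121147 = n224406 := ndS (p := 105517) (l := 5) rfl N105517 D224406
theorem N121148 : nd 121148 = n224407 := ndS (p := 105530) (l := 5) rfl N105530 D224407
theorem N121149 : nd 121149 = n224408 := ndS (p := 105531) (l := 5) rfl N105531 D224408
theorem N121150 : nd 121150 = n224409 := ndS (p := 105532) (l := 4) rfl N105532 D224409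
theorem N121151 : nd 121151 = n224410 := ndS (p := 105544) (l := 6) rfl N105544 D224410
theorem N121152 : nd 121152 = n224411 := ndS (p := 105545) (l := 1) rfl N105545 D224411
theorem N121153 : nd 121153 = n224412 := ndS (p := 105546) (l := 5) rfl N105546 D224412
theorem N121154 : nd 121154 = n224413 := ndS (p := 105549) (l := 0) rfl N105549 D224413
theorem N121155 : nd 121155 = n224414 := ndS (p := 105549) (l := 1) rfl N105549 D224414
theorem N121156 : nd 121156 = n224415 := ndS (p := 105549) (l := 7) rfl N105549 D224415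
theorem N121157 : nd 121157 = n224416 := ndS (p := 105552) (l := 7) rfl N105552 D224416
theorem N121158 : nd 121158 = n224417 := ndS (p := 105560) (l := 0) rfl N105560 D224417
theorem N121159 : nd 121159 = n224418 := ndS (p := 105565) (l := 5) rfl N105565 D224418
theorem N121160 : nd 121160 = n224419 := ndS (p := 105574) (l := 5) rfl N105574 D224419
theorem N121161 : nd 121161 = n224420 := ndS (p := 105580) (l := 7) rfl N105580 D224420
theorem N121162 : nd 121162 = n224421 := ndS (p := 105596) (l := 5) rfl N105596 D224421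
theorem N121163 : nd 121163 = n224422 := ndS (p := 105597) (l := 4) rfl N105597 D224422
theorem N121164 : nd 121164 = n224423 := ndS (p := 105618) (l := 1) rfl N105618 D224423
theorem N121165 : nd 121165 = n224424 := ndS (p := 105630) (l := 6) rfl N105630 D224424
theorem N121166 : nd 121166 = n224425 := ndS (p := 105638) (l := 0) rfl N105638 D224425
theorem N121167 : nd 121167 = n224426 := ndS (p := 105643) (l := 3) rfl N105643 D224426
theorem N121168 : nd 121168 = n224427 := ndS (p := 105644) (l := 6) rfl N105644 D224427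
theorem N121169 : nd 121169 = n224428 := ndS (p := 105653) (l := 3) rfl N105653 D224428
theorem N121170 : nd 121170 = n224429 := ndS (p := 105655) (l := 0) rfl N105655 D224429
theorem N121171 : nd 121171 = n224430 := ndS (p := 105655) (l := 1) rfl N105655 D224430
theorem N121172 : nd 121172 = n224431 := ndS (p := 105655) (l := 3) rfl N105655 D224431
theorem N121173 : nd 121173 = n224432 := ndS (p := 105658) (l := 3) rfl N105658 D224432
theorem N121174 : nd 121174 = n224433 := ndS (p := 105658) (l := 6) rfl N105658 D224433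
theorem N121175 : nd 121175 = n224434 := ndS (p := 105664) (l := 3) rfl N105664 D224434
theorem N121176 : nd 121176 = n224435 := ndS (p := 105668) (l := 3) rfl N105668 D224435
theorem N121177 : nd 121177 = n224436 := ndS (p := 105669) (l := 0) rfl N105669 D224436
theorem N121178 : nd 121178 = n224437 := ndS (p := 105691) (l := 5) rfl N105691 D224437
theorem N121179 : nd 121179 = n224438 := ndS (p := 105697) (l := 5) rfl N105697 D224438
theorem N121180 : nd 121180 = n224439 := ndS (p := 105698) (l := 7) rfl N105698 D224439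
theorem N121181 : nd 121181 = n224440 := ndS (p := 105715) (l := 4) rfl N105715 D224440
theorem N121182 : nd 121182 = n224441 := ndS (p := 105721) (l := 0) rfl N105721 D224441
theorem N121183 : nd 121183 = n224442 := ndS (p := 105721) (l := 1) rfl N105721 D224442
theorem N121184 : nd 121184 = n224443 := ndS (p := 105726) (l := 1) rfl N105726 D224443
theorem N121185 : nd 121185 = n224444 := ndS (p := 105726) (l := 7) rfl N105726 D224444
theorem N121186 : nd 121186 = n224445 := ndS (p := 105730) (l := 5) rfl N105730 D224445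
theorem N121187 : nd 121187 = n224446 := ndS (p := 105734) (l := 0) rfl N105734 D224446
theorem N121188 : nd 121188 = n224447 := ndS (p := 105734) (l := 1) rfl N105734 D224447
theorem N121189 : nd 121189 = n224448 := ndS (p := 105734) (l := 7) rfl N105734 D224448
theorem N121190 : nd 121190 = n224449 := ndS (p := 105735) (l := 1) rfl N105735 D224449
theorem N121191 : nd 121191 = n224450 := ndS (p := 105735) (l := 7) rfl N105735 D224450
theorem N121192 : nd 121192 = n224451 := ndS (p := 105739) (l := 0) rfl N105739 D224451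
theorem N121193 : nd 121193 = n224452 := ndS (p := 105749) (l := 6) rfl N105749 D224452
theorem N121194 : nd 121194 = n224453 := ndS (p := 105753) (l := 7) rfl N105753 D224453
theorem N121195 : nd 121195 = n224454 := ndS (p := 105806) (l := 3) rfl N105806 D224454
theorem N121196 : nd 121196 = n224455 := ndS (p := 105807) (l := 5) rfl N105807 D224455
theorem N121197 : nd 121197 = n224456 := ndS (p := 105808) (l := 6) rfl N105808 D224456
theorem N121198 : nd 121198 = n224457 := ndS (p := 105814) (l := 3) rfl N105814 D224457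
theorem N121199 : nd 121199 = n224458 := ndS (p := 105822) (l := 5) rfl N105822 D224458
theorem N121200 : nd 121200 = n224459 := ndS (p := 105832) (l := 5) rfl N105832 D224459
theorem N121201 : nd 121201 = n224460 := ndS (p := 105846) (l := 7) rfl N105846 D224460
theorem N121202 : nd 121202 = n224461 := ndS (p := 105856) (l := 6) rfl N105856 D224461
theorem N121203 : nd 121203 = n224462 := ndS (p := 105857) (l := 5) rfl N105857 D224462
theorem N121204 : nd 121204 = n224463 := ndS (p := 105861) (l := 6) rfl N105861 D224463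
theorem N121205 : nd 121205 = n224464 := ndS (p := 105891) (l := 0) rfl N105891 D224464
theorem N121206 : nd 121206 = n224465 := ndS (p := 105907) (l := 4) rfl N105907 D224465
theorem N121207 : nd 121207 = n224466 := ndS (p := 105919) (l := 2) rfl N105919 D224466
theorem N121208 : nd 121208 = n224467 := ndS (p := 105920) (l := 6) rfl N105920 D224467
theorem N121209 : nd 121209 = n224468 := ndS (p := 105935) (l := 5) rfl N105935 D224468
theorem N121210 : nd 121210 = n224469 := ndS (p := 105936) (l := 6) rfl N105936 D224469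
theorem N121211 : nd 121211 = n224470 := ndS (p := 105941) (l := 3) rfl N105941 D224470
theorem N121212 : nd 121212 = n224471 := ndS (p := 105941) (l := 6) rfl N105941 D224471
theorem N121213 : nd 121213 = n224472 := ndS (p := 105951) (l := 2) rfl N105951 D224472
theorem N121214 : nd 121214 = n224473 := ndS (p := 105953) (l := 2) rfl N105953 D224473
theorem N121215 : nd 121215 = n224474 := ndS (p := 105953) (l := 6) rfl N105953 D224474
theorem N121216 : nd 121216 = n224475 := ndS (p := 105954) (l := 4) rfl N105954 D224475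
theorem N121217 : nd 121217 = n224476 := ndS (p := 105959) (l := 6) rfl N105959 D224476
theorem N121218 : nd 121218 = n224477 := ndS (p := 105961) (l := 5) rfl N105961 D224477
theorem N121219 : nd 121219 = n224478 := ndS (p := 105963) (l := 4) rfl N105963 D224478
theorem N121220 : nd 121220 = n224479 := ndS (p := 105966) (l := 4) rfl N105966 D224479
theorem N121221 : nd 121221 = n224480 := ndS (p := 105966) (l := 5) rfl N105966 D224480
theorem N121222 : nd 121222 = n224481 := ndS (p := 105967) (l := 1) rfl N105967 D224481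
theorem N121223 : nd 121223 = n224482 := ndS (p := 105975) (l := 3) rfl N105975 D224482
theorem N121224 : nd 121224 = n224483 := ndS (p := 105978) (l := 1) rfl N105978 D224483
theorem N121225 : nd 121225 = n224484 := ndS (p := 105978) (l := 4) rfl N105978 D224484
theorem N121226 : nd 121226 = n224485 := ndS (p := 105978) (l := 7) rfl N105978 D224485
theorem N121227 : nd 121227 = n224486 := ndS (p := 105986) (l := 0) rfl N105986 D224486
theorem N121228 : nd 121228 = n224487 := ndS (p := 105991) (l := 2) rfl N105991 D224487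
theorem N121229 : nd 121229 = n224488 := ndS (p := 106007) (l := 5) rfl N106007 D224488
theorem N121230 : nd 121230 = n224489 := ndS (p := 106008) (l := 5) rfl N106008 D224489
theorem N121231 : nd 121231 = n224490 := ndS (p := 106009) (l := 0) rfl N106009 D224490
theorem N121232 : nd 121232 = n224491 := ndS (p := 106010) (l := 3) rfl N106010 D224491
theorem N121233 : nd 121233 = n224492 := ndS (p := 106011) (l := 5) rfl N106011 D224492
theorem N121234 : nd 121234 = n224493 := ndS (p := 106013) (l := 4) rfl N106013 D224493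
theorem N121235 : nd 121235 = n224494 := ndS (p := 106015) (l := 6) rfl N106015 D224494
theorem N121236 : nd 121236 = n224495 := ndS (p := 106020) (l := 4) rfl N106020 D224495
theorem N121237 : nd 121237 = n224496 := ndS (p := 106021) (l := 3) rfl N106021 D224496
theorem N121238 : nd 121238 = n224497 := ndS (p := 106025) (l := 2) rfl N106025 D224497
theorem N121239 : nd 121239 = n224498 := ndS (p := 106025) (l := 4) rfl N106025 D224498
theorem N121240 : nd 121240 = n224499 := ndS (p := 106026) (l := 3) rfl N106026 D224499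
theorem N121241 : nd 121241 = n224500 := ndS (p := 106028) (l := 3) rfl N106028 D224500
theorem N121242 : nd 121242 = n224501 := ndS (p := 106033) (l := 3) rfl N106033 D224501
theorem N121243 : nd 121243 = n224502 := ndS (p := 106051) (l := 2) rfl N106051 D224502
theorem N121244 : nd 121244 = n224503 := ndS (p := 106052) (l := 6) rfl N106052 D224503
theorem N121245 : nd 121245 = n224504 := ndS (p := 106053) (l := 1) rfl N106053 D224504
theorem N121246 : nd 121246 = n224505 := ndS (p := 106059) (l := 0) rfl N106059 D224505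
theorem N121247 : nd 121247 = n224506 := ndS (p := 106064) (l := 4) rfl N106064 D224506
theorem N121248 : nd 121248 = n224507 := ndS (p := 106065) (l := 0) rfl N106065 D224507
theorem N121249 : nd 121249 = n224508 := ndS (p := 106067) (l := 1) rfl N106067 D224508
theorem N121250 : nd 121250 = n224509 := ndS (p := 106073) (l := 5) rfl N106073 D224509
theorem N121251 : nd 121251 = n224510 := ndS (p := 106073) (l := 7) rfl N106073 D224510
theorem N121252 : nd 121252 = n224511 := ndS (p := 106082) (l := 4) rfl N106082 D224511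
theorem N121253 : nd 121253 = n224512 := ndS (p := 106090) (l := 1) rfl N106090 D224512
theorem N121254 : nd 121254 = n224513 := ndS (p := 106104) (l := 0) rfl N106104 D224513
theorem N121255 : nd 121255 = n224514 := ndS (p := 106134) (l := 0) rfl N106134 D224514
theorem N121256 : nd 121256 = n224515 := ndS (p := 106140) (l := 5) rfl N106140 D224515
theorem N121257 : nd 121257 = n224516 := ndS (p := 106168) (l := 3) rfl N106168 D224516
theorem N121258 : nd 121258 = n224517 := ndS (p := 106178) (l := 6) rfl N106178 D224517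
theorem N121259 : nd 121259 = n224518 := ndS (p := 106199) (l := 5) rfl N106199 D224518
theorem N121260 : nd 121260 = n224519 := ndS (p := 106200) (l := 4) rfl N106200 D224519
theorem N121261 : nd 121261 = n224520 := ndS (p := 106200) (l := 5) rfl N106200 D224520
theorem N121262 : nd 121262 = n224521 := ndS (p := 106201) (l := 4) rfl N106201 D224521
theorem N121263 : nd 121263 = n224522 := ndS (p := 106204) (l := 3) rfl N106204 D224522
theorem N121264 : nd 121264 = n224523 := ndS (p := 106205) (l := 3) rfl N106205 D224523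
theorem N121265 : nd 121265 = n224524 := ndS (p := 106205) (l := 4) rfl N106205 D224524
theorem N121266 : nd 121266 = n224525 := ndS (p := 106206) (l := 3) rfl N106206 D224525
theorem N121267 : nd 121267 = n224526 := ndS (p := 106207) (l := 5) rfl N106207 D224526
theorem N121268 : nd 121268 = n224527 := ndS (p := 106208) (l := 0) rfl N106208 D224527
theorem N121269 : nd 121269 = n224528 := ndS (p := 106208) (l := 1) rfl N106208 D224528
theorem N121270 : nd 121270 = n224529 := ndS (p := 106208) (l := 4) rfl N106208 D224529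
theorem N121271 : nd 121271 = n224530 := ndS (p := 106211) (l := 2) rfl N106211 D224530
theorem N121272 : nd 121272 = n224531 := ndS (p := 106211) (l := 4) rfl N106211 D224531
theorem N121273 : nd 121273 = n224532 := ndS (p := 106212) (l := 3) rfl N106212 D224532
theorem N121274 : nd 121274 = n224533 := ndS (p := 106212) (l := 6) rfl N106212 D224533
theorem N121275 : nd 121275 = n224534 := ndS (p := 106238) (l := 0) rfl N106238 D224534
theorem N121276 : nd 121276 = n224535 := ndS (p := 106239) (l := 4) rfl N106239 D224535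
theorem N121277 : nd 121277 = n224536 := ndS (p := 106258) (l := 5) rfl N106258 D224536
theorem N121278 : nd 121278 = n224537 := ndS (p := 106285) (l := 4) rfl N106285 D224537
theorem N121279 : nd 121279 = n224538 := ndS (p := 106286) (l := 4) rfl N106286 D224538
theorem N121280 : nd 121280 = n224539 := ndS (p := 106287) (l := 0) rfl N106287 D224539
theorem N121281 : nd 121281 = n224540 := ndS (p := 106287) (l := 1) rfl N106287 D224540
theorem N121282 : nd 121282 = n224541 := ndS (p := 106321) (l := 0) rfl N106321 D224541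
theorem N121283 : nd 121283 = n224542 := ndS (p := 106324) (l := 1) rfl N106324 D224542
theorem N121284 : nd 121284 = n224543 := ndS (p := 106330) (l := 7) rfl N106330 D224543
theorem N121285 : nd 121285 = n224544 := ndS (p := 106333) (l := 0) rfl N106333 D224544
theorem N121286 : nd 121286 = n224545 := ndS (p := 106338) (l := 4) rfl N106338 D224545
theorem N121287 : nd 121287 = n224546 := ndS (p := 106340) (l := 3) rfl N106340 D224546
theorem N121288 : nd 121288 = n224547 := ndS (p := 106341) (l := 6) rfl N106341 D224547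
theorem N121289 : nd 121289 = n224548 := ndS (p := 106345) (l := 0) rfl N106345 D224548
theorem N121290 : nd 121290 = n224549 := ndS (p := 106345) (l := 1) rfl N106345 D224549
theorem N121291 : nd 121291 = n224550 := ndS (p := 106345) (l := 3) rfl N106345 D224550
theorem N121292 : nd 121292 = n224551 := ndS (p := 106345) (l := 7) rfl N106345 D224551
theorem N121293 : nd 121293 = n224552 := ndS (p := 106347) (l := 7) rfl N106347 D224552
theorem N121294 : nd 121294 = n224553 := ndS (p := 106348) (l := 6) rfl N106348 D224553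
theorem N121295 : nd 121295 = n224554 := ndS (p := 106349) (l := 6) rfl N106349 D224554
theorem N121296 : nd 121296 = n224555 := ndS (p := 106357) (l := 0) rfl N106357 D224555
theorem N121297 : nd 121297 = n224556 := ndS (p := 106357) (l := 1) rfl N106357 D224556
theorem N121298 : nd 121298 = n224557 := ndS (p := 106370) (l := 3) rfl N106370 D224557
theorem N121299 : nd 121299 = n224558 := ndS (p := 106375) (l := 6) rfl N106375 D224558
theorem N121300 : nd 121300 = n224559 := ndS (p := 106377) (l := 0) rfl N106377 D224559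
theorem N121301 : nd 121301 = n224560 := ndS (p := 106377) (l := 5) rfl N106377 D224560
theorem N121302 : nd 121302 = n224561 := ndS (p := 106385) (l := 0) rfl N106385 D224561
theorem N121303 : nd 121303 = n224562 := ndS (p := 106396) (l := 6) rfl N106396 D224562
theorem N121304 : nd 121304 = n224563 := ndS (p := 106405) (l := 0) rfl N106405 D224563
theorem N121305 : nd 121305 = n224564 := ndS (p := 106433) (l := 7) rfl N106433 D224564
theorem N121306 : nd 121306 = n224565 := ndS (p := 106436) (l := 5) rfl N106436 D224565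
theorem N121307 : nd 121307 = n224566 := ndS (p := 106437) (l := 6) rfl N106437 D224566
theorem N121308 : nd 121308 = n224567 := ndS (p := 106440) (l := 6) rfl N106440 D224567
theorem N121309 : nd 121309 = n224568 := ndS (p := 106452) (l := 5) rfl N106452 D224568
theorem N121310 : nd 121310 = n224569 := ndS (p := 106453) (l := 0) rfl N106453 D224569
theorem N121311 : nd 121311 = n224570 := ndS (p := 106453) (l := 1) rfl N106453 D224570
theorem N121312 : nd 121312 = n224571 := ndS (p := 106456) (l := 7) rfl N106456 D224571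
theorem N121313 : nd 121313 = n224572 := ndS (p := 106458) (l := 6) rfl N106458 D224572
theorem N121314 : nd 121314 = n224573 := ndS (p := 106463) (l := 6) rfl N106463 D224573
theorem N121315 : nd 121315 = n224574 := ndS (p := 106464) (l := 5) rfl N106464 D224574
theorem N121316 : nd 121316 = n224575 := ndS (p := 106475) (l := 3) rfl N106475 D224575
theorem N121317 : nd 121317 = n224576 := ndS (p := 106479) (l := 2) rfl N106479 D224576
theorem N121318 : nd 121318 = n224577 := ndS (p := 106479) (l := 4) rfl N106479 D224577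
theorem N121319 : nd 121319 = n224578 := ndS (p := 106480) (l := 3) rfl N106480 D224578
theorem N121320 : nd 121320 = n224579 := ndS (p := 106481) (l := 7) rfl N106481 D224579
theorem N121321 : nd 121321 = n224580 := ndS (p := 106490) (l := 0) rfl N106490 D224580
theorem N121322 : nd 121322 = n224581 := ndS (p := 106490) (l := 5) rfl N106490 D224581
theorem N121323 : nd 121323 = n224582 := ndS (p := 106494) (l := 3) rfl N106494 D224582
theorem N121324 : nd 121324 = n224583 := ndS (p := 106496) (l := 5) rfl N106496 D224583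
theorem N121325 : nd 121325 = n224584 := ndS (p := 106508) (l := 3) rfl N106508 D224584
theorem N121326 : nd 121326 = n224585 := ndS (p := 106518) (l := 4) rfl N106518 D224585
theorem N121327 : nd 121327 = n224586 := ndS (p := 106519) (l := 4) rfl N106519 D224586
theorem N121328 : nd 121328 = n224587 := ndS (p := 106524) (l := 0) rfl N106524 D224587
theorem N121329 : nd 121329 = n224588 := ndS (p := 106525) (l := 4) rfl N106525 D224588
theorem N121330 : nd 121330 = n224589 := ndS (p := 106532) (l := 5) rfl N106532 D224589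
theorem N121331 : nd 121331 = n224590 := ndS (p := 106540) (l := 1) rfl N106540 D224590
theorem N121332 : nd 121332 = n224591 := ndS (p := 106540) (l := 5) rfl N106540 D224591
theorem N121333 : nd 121333 = n224592 := ndS (p := 106541) (l := 4) rfl N106541 D224592
theorem N121334 : nd 121334 = n224593 := ndS (p := 106544) (l := 5) rfl N106544 D224593
theorem N121335 : nd 121335 = n224594 := ndS (p := 106546) (l := 0) rfl N106546 D224594
theorem N121336 : nd 121336 = n224595 := ndS (p := 106546) (l := 1) rfl N106546 D224595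
theorem N121337 : nd 121337 = n224596 := ndS (p := 106548) (l := 0) rfl N106548 D224596
theorem N121338 : nd 121338 = n224597 := ndS (p := 106548) (l := 5) rfl N106548 D224597
theorem N121339 : nd 121339 = n224598 := ndS (p := 106549) (l := 4) rfl N106549 D224598
theorem N121340 : nd 121340 = n224599 := ndS (p := 106549) (l := 6) rfl N106549 D224599
theorem N121341 : nd 121341 = n224600 := ndS (p := 106551) (l := 5) rfl N106551 D224600
theorem N121342 : nd 121342 = n224601 := ndS (p := 106552) (l := 4) rfl N106552 D224601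
theorem N121343 : nd 121343 = n224602 := ndS (p := 106553) (l := 4) rfl N106553 D224602
theorem N121344 : nd 121344 = n224603 := ndS (p := 106555) (l := 0) rfl N106555 D224603
theorem N121345 : nd 121345 = n224604 := ndS (p := 106559) (l := 6) rfl N106559 D224604
theorem N121346 : nd 121346 = n224605 := ndS (p := 106562) (l := 7) rfl N106562 D224605
theorem N121347 : nd 121347 = n224606 := ndS (p := 106565) (l := 4) rfl N106565 D224606
theorem N121348 : nd 121348 = n224607 := ndS (p := 106567) (l := 4) rfl N106567 D224607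
theorem N121349 : nd 121349 = n224608 := ndS (p := 106572) (l := 0) rfl N106572 D224608
theorem N121350 : nd 121350 = n224609 := ndS (p := 106572) (l := 5) rfl N106572 D224609
theorem N121351 : nd 121351 = n224610 := ndS (p := 106590) (l := 5) rfl N106590 D224610
theorem N121352 : nd 121352 = n224611 := ndS (p := 106591) (l := 6) rfl N106591 D224611
theorem N121353 : nd 121353 = n224612 := ndS (p := 106597) (l := 3) rfl N106597 D224612
theorem N121354 : nd 121354 = n224613 := ndS (p := 106601) (l := 4) rfl N106601 D224613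
theorem N121355 : nd 121355 = n224614 := ndS (p := 106604) (l := 1) rfl N106604 D224614
theorem N121356 : nd 121356 = n224615 := ndS (p := 106604) (l := 3) rfl N106604 D224615
theorem N121357 : nd 121357 = n224616 := ndS (p := 106607) (l := 0) rfl N106607 D224616
theorem N121358 : nd 121358 = n224617 := ndS (p := 106607) (l := 5) rfl N106607 D224617
theorem N121359 : nd 121359 = n224618 := ndS (p := 106613) (l := 6) rfl N106613 D224618
theorem N121360 : nd 121360 = n224619 := ndS (p := 106617) (l := 4) rfl N106617 D224619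
theorem N121361 : nd 121361 = n224620 := ndS (p := 106618) (l := 0) rfl N106618 D224620
theorem N121362 : nd 121362 = n224621 := ndS (p := 106618) (l := 1) rfl N106618 D224621
theorem N121363 : nd 121363 = n224622 := ndS (p := 106618) (l := 3) rfl N106618 D224622
theorem N121364 : nd 121364 = n224623 := ndS (p := 106618) (l := 5) rfl N106618 D224623
theorem N121365 : nd 121365 = n224624 := ndS (p := 106620) (l := 3) rfl N106620 D224624
theorem N121366 : nd 121366 = n224625 := ndS (p := 106621) (l := 0) rfl N106621 D224625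
theorem N121367 : nd 121367 = n224626 := ndS (p := 106623) (l := 5) rfl N106623 D224626
theorem N121368 : nd 121368 = n224627 := ndS (p := 106626) (l := 4) rfl N106626 D224627
theorem N121369 : nd 121369 = n224628 := ndS (p := 106630) (l := 5) rfl N106630 D224628
theorem N121370 : nd 121370 = n224629 := ndS (p := 106631) (l := 0) rfl N106631 D224629
theorem N121371 : nd 121371 = n224630 := ndS (p := 106631) (l := 1) rfl N106631 D224630
theorem N121372 : nd 121372 = n224631 := ndS (p := 106636) (l := 4) rfl N106636 D224631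
theorem N121373 : nd 121373 = n224632 := ndS (p := 106641) (l := 6) rfl N106641 D224632
theorem N121374 : nd 121374 = n224633 := ndS (p := 106642) (l := 3) rfl N106642 D224633
theorem N121375 : nd 121375 = n224634 := ndS (p := 106642) (l := 6) rfl N106642 D224634
theorem N121376 : nd 121376 = n224635 := ndS (p := 106643) (l := 0) rfl N106643 D224635
theorem N121377 : nd 121377 = n224636 := ndS (p := 106644) (l := 5) rfl N106644 D224636
theorem N121378 : nd 121378 = n224637 := ndS (p := 106647) (l := 3) rfl N106647 D224637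
theorem N121379 : nd 121379 = n224638 := ndS (p := 106647) (l := 6) rfl N106647 D224638
theorem N121380 : nd 121380 = n224639 := ndS (p := 106649) (l := 0) rfl N106649 D224639
theorem N121381 : nd 121381 = n224640 := ndS (p := 106649) (l := 1) rfl N106649 D224640
theorem N121382 : nd 121382 = n224641 := ndS (p := 106649) (l := 2) rfl N106649 D224641
theorem N121383 : nd 121383 = n224642 := ndS (p := 106652) (l := 1) rfl N106652 D224642
theorem N121384 : nd 121384 = n224643 := ndS (p := 106652) (l := 2) rfl N106652 D224643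
theorem N121385 : nd 121385 = n224644 := ndS (p := 106656) (l := 1) rfl N106656 D224644
theorem N121386 : nd 121386 = n224645 := ndS (p := 106658) (l := 0) rfl N106658 D224645
theorem N121387 : nd 121387 = n224646 := ndS (p := 106667) (l := 4) rfl N106667 D224646
theorem N121388 : nd 121388 = n224647 := ndS (p := 106667) (l := 6) rfl N106667 D224647
theorem N121389 : nd 121389 = n224648 := ndS (p := 106668) (l := 6) rfl N106668 D224648
theorem N121390 : nd 121390 = n224649 := ndS (p := 106673) (l := 4) rfl N106673 D224649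
theorem N121391 : nd 121391 = n224650 := ndS (p := 106674) (l := 6) rfl N106674 D224650
theorem N121392 : nd 121392 = n224651 := ndS (p := 106675) (l := 1) rfl N106675 D224651
theorem N121393 : nd 121393 = n224652 := ndS (p := 106680) (l := 5) rfl N106680 D224652
theorem N121394 : nd 121394 = n224653 := ndS (p := 106681) (l := 5) rfl N106681 D224653
theorem N121395 : nd 121395 = n224654 := ndS (p := 106682) (l := 1) rfl N106682 D224654
theorem N121396 : nd 121396 = n224655 := ndS (p := 106682) (l := 7) rfl N106682 D224655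
theorem N121397 : nd 121397 = n224656 := ndS (p := 106687) (l := 1) rfl N106687 D224656
theorem N121398 : nd 121398 = n224657 := ndS (p := 106687) (l := 5) rfl N106687 D224657
theorem N121399 : nd 121399 = n224658 := ndS (p := 106694) (l := 1) rfl N106694 D224658
theorem N121400 : nd 121400 = n224659 := ndS (p := 106694) (l := 5) rfl N106694 D224659
theorem N121401 : nd 121401 = n224660 := ndS (p := 106698) (l := 5) rfl N106698 D224660
theorem N121402 : nd 121402 = n224661 := ndS (p := 106699) (l := 1) rfl N106699 D224661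
theorem N121403 : nd 121403 = n224662 := ndS (p := 106701) (l := 3) rfl N106701 D224662
theorem N121404 : nd 121404 = n224663 := ndS (p := 106705) (l := 5) rfl N106705 D224663
theorem N121405 : nd 121405 = n224664 := ndS (p := 106709) (l := 6) rfl N106709 D224664
theorem N121406 : nd 121406 = n224665 := ndS (p := 106746) (l := 3) rfl N106746 D224665
theorem N121407 : nd 121407 = n224666 := ndS (p := 106774) (l := 0) rfl N106774 D224666
theorem N121408 : nd 121408 = n224667 := ndS (p := 106774) (l := 1) rfl N106774 D224667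
theorem N121409 : nd 121409 = n224668 := ndS (p := 106811) (l := 4) rfl N106811 D224668
theorem N121410 : nd 121410 = n224669 := ndS (p := 106813) (l := 6) rfl N106813 D224669
theorem N121411 : nd 121411 = n224670 := ndS (p := 106814) (l := 3) rfl N106814 D224670
theorem N121412 : nd 121412 = n224671 := ndS (p := 106830) (l := 0) rfl N106830 D224671
theorem N121413 : nd 121413 = n224672 := ndS (p := 106848) (l := 1) rfl N106848 D224672
theorem N121414 : nd 121414 = n224673 := ndS (p := 106852) (l := 6) rfl N106852 D224673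
theorem N121415 : nd 121415 = n224674 := ndS (p := 106867) (l := 3) rfl N106867 D224674
theorem N121416 : nd 121416 = n224675 := ndS (p := 106867) (l := 6) rfl N106867 D224675
theorem N121417 : nd 121417 = n224676 := ndS (p := 106875) (l := 6) rfl N106875 D224676
theorem N121418 : nd 121418 = n224677 := ndS (p := 106876) (l := 7) rfl N106876 D224677
theorem N121419 : nd 121419 = n224678 := ndS (p := 106886) (l := 6) rfl N106886 D224678
theorem N121420 : nd 121420 = n224679 := ndS (p := 106889) (l := 5) rfl N106889 D224679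
theorem N121421 : nd 121421 = n224680 := ndS (p := 106910) (l := 5) rfl N106910 D224680
theorem N121422 : nd 121422 = n224681 := ndS (p := 106912) (l := 3) rfl N106912 D224681
theorem N121423 : nd 121423 = n224682 := ndS (p := 106917) (l := 5) rfl N106917 D224682
theorem N121424 : nd 121424 = n224683 := ndS (p := 106917) (l := 7) rfl N106917 D224683
theorem N121425 : nd 121425 = n224684 := ndS (p := 106922) (l := 4) rfl N106922 D224684
theorem N121426 : nd 121426 = n224685 := ndS (p := 106925) (l := 6) rfl N106925 D224685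
theorem N121427 : nd 121427 = n224686 := ndS (p := 106926) (l := 6) rfl N106926 D224686
theorem N121428 : nd 121428 = n224687 := ndS (p := 106927) (l := 0) rfl N106927 D224687
theorem N121429 : nd 121429 = n224688 := ndS (p := 106966) (l := 7) rfl N106966 D224688
theorem N121430 : nd 121430 = n224689 := ndS (p := 106967) (l := 6) rfl N106967 D224689
theorem N121431 : nd 121431 = n224690 := ndS (p := 106968) (l := 6) rfl N106968 D224690
theorem N121432 : nd 121432 = n224691 := ndS (p := 106969) (l := 5) rfl N106969 D224691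
theorem N121433 : nd 121433 = n224692 := ndS (p := 106985) (l := 6) rfl N106985 D224692
theorem N121434 : nd 121434 = n224693 := ndS (p := 107014) (l := 5) rfl N107014 D224693
theorem N121435 : nd 121435 = n224694 := ndS (p := 107032) (l := 0) rfl N107032 D224694
theorem N121436 : nd 121436 = n224695 := ndS (p := 107036) (l := 5) rfl N107036 D224695
theorem N121437 : nd 121437 = n224696 := ndS (p := 107049) (l := 5) rfl N107049 D224696
theorem N121438 : nd 121438 = n224697 := ndS (p := 107051) (l := 6) rfl N107051 D224697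
theorem N121439 : nd 121439 = n224698 := ndS (p := 107054) (l := 5) rfl N107054 D224698
theorem N121440 : nd 121440 = n224699 := ndS (p := 107056) (l := 5) rfl N107056 D224699
theorem N121441 : nd 121441 = n224700 := ndS (p := 107064) (l := 0) rfl N107064 D224700
theorem N121442 : nd 121442 = n224701 := ndS (p := 107073) (l := 6) rfl N107073 D224701
theorem N121443 : nd 121443 = n224702 := ndS (p := 107076) (l := 6) rfl N107076 D224702
theorem N121444 : nd 121444 = n224703 := ndS (p := 107082) (l := 3) rfl N107082 D224703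
theorem N121445 : nd 121445 = n224704 := ndS (p := 107085) (l := 5) rfl N107085 D224704
theorem N121446 : nd 121446 = n224705 := ndS (p := 107086) (l := 1) rfl N107086 D224705
theorem N121447 : nd 121447 = n224706 := ndS (p := 107086) (l := 2) rfl N107086 D224706
theorem N121448 : nd 121448 = n224707 := ndS (p := 107086) (l := 5) rfl N107086 D224707
theorem N121449 : nd 121449 = n224708 := ndS (p := 107105) (l := 3) rfl N107105 D224708
theorem N121450 : nd 121450 = n224709 := ndS (p := 107150) (l := 6) rfl N107150 D224709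
theorem N121451 : nd 121451 = n224710 := ndS (p := 107171) (l := 2) rfl N107171 D224710
theorem N121452 : nd 121452 = n224711 := ndS (p := 107187) (l := 5) rfl N107187 D224711
theorem N121453 : nd 121453 = n224712 := ndS (p := 107193) (l := 4) rfl N107193 D224712
theorem N121454 : nd 121454 = n224713 := ndS (p := 107194) (l := 3) rfl N107194 D224713
theorem N121455 : nd 121455 = n224714 := ndS (p := 107195) (l := 4) rfl N107195 D224714
theorem N121456 : nd 121456 = n224715 := ndS (p := 107196) (l := 3) rfl N107196 D224715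
theorem N121457 : nd 121457 = n224716 := ndS (p := 107198) (l := 6) rfl N107198 D224716
theorem N121458 : nd 121458 = n224717 := ndS (p := 107199) (l := 0) rfl N107199 D224717
theorem N121459 : nd 121459 = n224718 := ndS (p := 107199) (l := 1) rfl N107199 D224718
theorem N121460 : nd 121460 = n224719 := ndS (p := 107199) (l := 7) rfl N107199 D224719
theorem N121461 : nd 121461 = n224720 := ndS (p := 107204) (l := 1) rfl N107204 D224720
theorem N121462 : nd 121462 = n224721 := ndS (p := 107204) (l := 2) rfl N107204 D224721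
theorem N121463 : nd 121463 = n224722 := ndS (p := 107204) (l := 5) rfl N107204 D224722
theorem N121464 : nd 121464 = n224723 := ndS (p := 107207) (l := 5) rfl N107207 D224723
theorem N121465 : nd 121465 = n224724 := ndS (p := 107215) (l := 0) rfl N107215 D224724
theorem N121466 : nd 121466 = n224725 := ndS (p := 107215) (l := 1) rfl N107215 D224725
theorem N121467 : nd 121467 = n224726 := ndS (p := 107215) (l := 4) rfl N107215 D224726
theorem N121468 : nd 121468 = n224727 := ndS (p := 107238) (l := 5) rfl N107238 D224727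
theorem N121469 : nd 121469 = n224728 := ndS (p := 107240) (l := 3) rfl N107240 D224728
theorem N121470 : nd 121470 = n224729 := ndS (p := 107248) (l := 5) rfl N107248 D224729
theorem N121471 : nd 121471 = n224730 := ndS (p := 107249) (l := 7) rfl N107249 D224730
theorem N121472 : nd 121472 = n224731 := ndS (p := 107251) (l := 1) rfl N107251 D224731
theorem N121473 : nd 121473 = n224732 := ndS (p := 107290) (l := 3) rfl N107290 D224732
theorem N121474 : nd 121474 = n224733 := ndS (p := 107294) (l := 0) rfl N107294 D224733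
theorem N121475 : nd 121475 = n224734 := ndS (p := 107294) (l := 1) rfl N107294 D224734
theorem N121476 : nd 121476 = n224735 := ndS (p := 107294) (l := 7) rfl N107294 D224735
theorem N121477 : nd 121477 = n224736 := ndS (p := 107302) (l := 6) rfl N107302 D224736
theorem N121478 : nd 121478 = n224737 := ndS (p := 107305) (l := 0) rfl N107305 D224737
theorem N121479 : nd 121479 = n224738 := ndS (p := 107305) (l := 1) rfl N107305 D224738
theorem N121480 : nd 121480 = n224739 := ndS (p := 107305) (l := 5) rfl N107305 D224739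
theorem N121481 : nd 121481 = n224740 := ndS (p := 107305) (l := 7) rfl N107305 D224740
theorem N121482 : nd 121482 = n224741 := ndS (p := 107309) (l := 5) rfl N107309 D224741
theorem N121483 : nd 121483 = n224742 := ndS (p := 107317) (l := 6) rfl N107317 D224742
theorem N121484 : nd 121484 = n224743 := ndS (p := 107328) (l := 4) rfl N107328 D224743
theorem N121485 : nd 121485 = n224744 := ndS (p := 107329) (l := 1) rfl N107329 D224744
theorem N121486 : nd 121486 = n224745 := ndS (p := 107329) (l := 3) rfl N107329 D224745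
theorem N121487 : nd 121487 = n224746 := ndS (p := 107329) (l := 5) rfl N107329 D224746
theorem N121488 : nd 121488 = n224747 := ndS (p := 107333) (l := 3) rfl N107333 D224747
theorem N121489 : nd 121489 = n224748 := ndS (p := 107341) (l := 3) rfl N107341 D224748
theorem N121490 : nd 121490 = n224749 := ndS (p := 107343) (l := 7) rfl N107343 D224749
theorem N121491 : nd 121491 = n224750 := ndS (p := 107350) (l := 3) rfl N107350 D224750
theorem N121492 : nd 121492 = n224751 := ndS (p := 107358) (l := 6) rfl N107358 D224751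
theorem N121493 : nd 121493 = n224752 := ndS (p := 107359) (l := 6) rfl N107359 D224752
theorem N121494 : nd 121494 = n224753 := ndS (p := 107362) (l := 5) rfl N107362 D224753
theorem N121495 : nd 121495 = n224754 := ndS (p := 107363) (l := 7) rfl N107363 D224754
theorem N121496 : nd 121496 = n224755 := ndS (p := 107369) (l := 5) rfl N107369 D224755
theorem N121497 : nd 121497 = n224756 := ndS (p := 107370) (l := 0) rfl N107370 D224756
theorem N121498 : nd 121498 = n224757 := ndS (p := 107377) (l := 6) rfl N107377 D224757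
theorem N121499 : nd 121499 = n224758 := ndS (p := 107379) (l := 3) rfl N107379 D224758
theorem N121500 : nd 121500 = n224759 := ndS (p := 107379) (l := 4) rfl N107379 D224759
theorem N121501 : nd 121501 = n224760 := ndS (p := 107381) (l := 3) rfl N107381 D224760
theorem N121502 : nd 121502 = n224761 := ndS (p := 107381) (l := 5) rfl N107381 D224761
theorem N121503 : nd 121503 = n224762 := ndS (p := 107381) (l := 7) rfl N107381 D224762
theorem N121504 : nd 121504 = n224763 := ndS (p := 107384) (l := 6) rfl N107384 D224763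
theorem N121505 : nd 121505 = n224764 := ndS (p := 107386) (l := 4) rfl N107386 D224764
theorem N121506 : nd 121506 = n224765 := ndS (p := 107399) (l := 4) rfl N107399 D224765
theorem N121507 : nd 121507 = n224766 := ndS (p := 107399) (l := 7) rfl N107399 D224766
theorem N121508 : nd 121508 = n224767 := ndS (p := 107408) (l := 5) rfl N107408 D224767
theorem N121509 : nd 121509 = n224768 := ndS (p := 107412) (l := 5) rfl N107412 D224768
theorem N121510 : nd 121510 = n224769 := ndS (p := 107416) (l := 5) rfl N107416 D224769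
theorem N121511 : nd 121511 = n224770 := ndS (p := 107422) (l := 3) rfl N107422 D224770
theorem N121512 : nd 121512 = n224771 := ndS (p := 107423) (l := 3) rfl N107423 D224771
theorem N121513 : nd 121513 = n224772 := ndS (p := 107423) (l := 5) rfl N107423 D224772
theorem N121514 : nd 121514 = n224773 := ndS (p := 107425) (l := 3) rfl N107425 D224773
theorem N121515 : nd 121515 = n224774 := ndS (p := 107442) (l := 6) rfl N107442 D224774
theorem N121516 : nd 121516 = n224775 := ndS (p := 107443) (l := 5) rfl N107443 D224775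
theorem N121517 : nd 121517 = n224776 := ndS (p := 107445) (l := 5) rfl N107445 D224776
theorem N121518 : nd 121518 = n224777 := ndS (p := 107454) (l := 3) rfl N107454 D224777
theorem N121519 : nd 121519 = n224778 := ndS (p := 107457) (l := 0) rfl N107457 D224778
theorem N121520 : nd 121520 = n224779 := ndS (p := 107466) (l := 3) rfl N107466 D224779
theorem N121521 : nd 121521 = n224780 := ndS (p := 107467) (l := 0) rfl N107467 D224780
theorem N121522 : nd 121522 = n224781 := ndS (p := 107467) (l := 1) rfl N107467 D224781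
theorem N121523 : nd 121523 = n224782 := ndS (p := 107467) (l := 7) rfl N107467 D224782
theorem N121524 : nd 121524 = n224783 := ndS (p := 107472) (l := 4) rfl N107472 D224783
theorem N121525 : nd 121525 = n224784 := ndS (p := 107472) (l := 7) rfl N107472 D224784
theorem N121526 : nd 121526 = n224785 := ndS (p := 107475) (l := 6) rfl N107475 D224785
theorem N121527 : nd 121527 = n224786 := ndS (p := 107476) (l := 1) rfl N107476 D224786
theorem N121528 : nd 121528 = n224787 := ndS (p := 107476) (l := 7) rfl N107476 D224787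
theorem N121529 : nd 121529 = n224788 := ndS (p := 107481) (l := 0) rfl N107481 D224788
theorem N121530 : nd 121530 = n224789 := ndS (p := 107489) (l := 5) rfl N107489 D224789
theorem N121531 : nd 121531 = n224790 := ndS (p := 107518) (l := 0) rfl N107518 D224790
theorem N121532 : nd 121532 = n224791 := ndS (p := 107522) (l := 5) rfl N107522 D224791
theorem N121533 : nd 121533 = n224792 := ndS (p := 107523) (l := 3) rfl N107523 D224792
theorem N121534 : nd 121534 = n224793 := ndS (p := 107528) (l := 0) rfl N107528 D224793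
theorem N121535 : nd 121535 = n224794 := ndS (p := 107528) (l := 7) rfl N107528 D224794
theorem N121536 : nd 121536 = n224795 := ndS (p := 107533) (l := 4) rfl N107533 D224795
theorem N121537 : nd 121537 = n224796 := ndS (p := 107534) (l := 3) rfl N107534 D224796
theorem N121538 : nd 121538 = n224797 := ndS (p := 107534) (l := 4) rfl N107534 D224797
theorem N121539 : nd 121539 = n224798 := ndS (p := 107534) (l := 6) rfl N107534 D224798
theorem N121540 : nd 121540 = n224799 := ndS (p := 107538) (l := 1) rfl N107538 D224799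
theorem N121541 : nd 121541 = n224800 := ndS (p := 107538) (l := 5) rfl N107538 D224800
theorem N121542 : nd 121542 = n224801 := ndS (p := 107541) (l := 3) rfl N107541 D224801
theorem N121543 : nd 121543 = n224802 := ndS (p := 107543) (l := 6) rfl N107543 D224802
theorem N121544 : nd 121544 = n224803 := ndS (p := 107544) (l := 4) rfl N107544 D224803
theorem N121545 : nd 121545 = n224804 := ndS (p := 107547) (l := 6) rfl N107547 D224804
theorem N121546 : nd 121546 = n224805 := ndS (p := 107548) (l := 1) rfl N107548 D224805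
theorem N121547 : nd 121547 = n224806 := ndS (p := 107555) (l := 5) rfl N107555 D224806
theorem N121548 : nd 121548 = n224807 := ndS (p := 107557) (l := 6) rfl N107557 D224807
theorem N121549 : nd 121549 = n224808 := ndS (p := 107559) (l := 7) rfl N107559 D224808
theorem N121550 : nd 121550 = n224809 := ndS (p := 107565) (l := 3) rfl N107565 D224809
theorem N121551 : nd 121551 = n224810 := ndS (p := 107573) (l := 5) rfl N107573 D224810
theorem N121552 : nd 121552 = n224811 := ndS (p := 107577) (l := 0) rfl N107577 D224811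
theorem N121553 : nd 121553 = n224812 := ndS (p := 107578) (l := 5) rfl N107578 D224812
theorem N121554 : nd 121554 = n224813 := ndS (p := 107579) (l := 3) rfl N107579 D224813
theorem N121555 : nd 121555 = n224814 := ndS (p := 107581) (l := 4) rfl N107581 D224814
theorem N121556 : nd 121556 = n224815 := ndS (p := 107583) (l := 5) rfl N107583 D224815
theorem N121557 : nd 121557 = n224816 := ndS (p := 107584) (l := 5) rfl N107584 D224816
theorem N121558 : nd 121558 = n224817 := ndS (p := 107587) (l := 7) rfl N107587 D224817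
theorem N121559 : nd 121559 = n224818 := ndS (p := 107589) (l := 0) rfl N107589 D224818
theorem N121560 : nd 121560 = n224819 := ndS (p := 107589) (l := 5) rfl N107589 D224819
theorem N121561 : nd 121561 = n224820 := ndS (p := 107590) (l := 4) rfl N107590 D224820
theorem N121562 : nd 121562 = n224821 := ndS (p := 107591) (l := 1) rfl N107591 D224821
theorem N121563 : nd 121563 = n224822 := ndS (p := 107591) (l := 5) rfl N107591 D224822
theorem N121564 : nd 121564 = n224823 := ndS (p := 107592) (l := 6) rfl N107592 D224823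
theorem N121565 : nd 121565 = n224824 := ndS (p := 107593) (l := 3) rfl N107593 D224824
theorem N121566 : nd 121566 = n224825 := ndS (p := 107593) (l := 4) rfl N107593 D224825
theorem N121567 : nd 121567 = n224826 := ndS (p := 107593) (l := 6) rfl N107593 D224826
theorem N121568 : nd 121568 = n224827 := ndS (p := 107594) (l := 0) rfl N107594 D224827
theorem N121569 : nd 121569 = n224828 := ndS (p := 107594) (l := 7) rfl N107594 D224828
theorem N121570 : nd 121570 = n224829 := ndS (p := 107595) (l := 6) rfl N107595 D224829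
theorem N121571 : nd 121571 = n224830 := ndS (p := 107598) (l := 5) rfl N107598 D224830
theorem N121572 : nd 121572 = n224831 := ndS (p := 107599) (l := 0) rfl N107599 D224831
theorem N121573 : nd 121573 = n224832 := ndS (p := 107599) (l := 2) rfl N107599 D224832
theorem N121574 : nd 121574 = n224833 := ndS (p := 107599) (l := 5) rfl N107599 D224833
theorem N121575 : nd 121575 = n224834 := ndS (p := 107600) (l := 4) rfl N107600 D224834
theorem N121576 : nd 121576 = n224835 := ndS (p := 107611) (l := 5) rfl N107611 D224835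
theorem N121577 : nd 121577 = n224836 := ndS (p := 107614) (l := 0) rfl N107614 D224836
theorem N121578 : nd 121578 = n224837 := ndS (p := 107614) (l := 7) rfl N107614 D224837
theorem N121579 : nd 121579 = n224838 := ndS (p := 107641) (l := 5) rfl N107641 D224838
theorem N121580 : nd 121580 = n224839 := ndS (p := 107642) (l := 4) rfl N107642 D224839
theorem N121581 : nd 121581 = n224840 := ndS (p := 107644) (l := 3) rfl N107644 D224840
theorem N121582 : nd 121582 = n224841 := ndS (p := 107645) (l := 3) rfl N107645 D224841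
theorem N121583 : nd 121583 = n224842 := ndS (p := 107657) (l := 5) rfl N107657 D224842
theorem N121584 : nd 121584 = n224843 := ndS (p := 107661) (l := 6) rfl N107661 D224843
theorem N121585 : nd 121585 = n224844 := ndS (p := 107662) (l := 0) rfl N107662 D224844
theorem N121586 : nd 121586 = n224845 := ndS (p := 107664) (l := 3) rfl N107664 D224845
theorem N121587 : nd 121587 = n224846 := ndS (p := 107664) (l := 6) rfl N107664 D224846
theorem N121588 : nd 121588 = n224847 := ndS (p := 107665) (l := 1) rfl N107665 D224847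
theorem N121589 : nd 121589 = n224848 := ndS (p := 107665) (l := 7) rfl N107665 D224848
theorem N121590 : nd 121590 = n224849 := ndS (p := 107666) (l := 4) rfl N107666 D224849
theorem N121591 : nd 121591 = n224850 := ndS (p := 107666) (l := 6) rfl N107666 D224850
theorem N121592 : nd 121592 = n224851 := ndS (p := 107667) (l := 3) rfl N107667 D224851
theorem N121593 : nd 121593 = n224852 := ndS (p := 107668) (l := 1) rfl N107668 D224852
theorem N121594 : nd 121594 = n224853 := ndS (p := 107673) (l := 7) rfl N107673 D224853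
theorem N121595 : nd 121595 = n224854 := ndS (p := 107682) (l := 6) rfl N107682 D224854
theorem N121596 : nd 121596 = n224855 := ndS (p := 107691) (l := 6) rfl N107691 D224855
theorem N121597 : nd 121597 = n224856 := ndS (p := 107694) (l := 0) rfl N107694 D224856
theorem N121598 : nd 121598 = n224857 := ndS (p := 107698) (l := 0) rfl N107698 D224857
theorem N121599 : nd 121599 = n224858 := ndS (p := 107711) (l := 3) rfl N107711 D224858
theorem N121600 : nd 121600 = n224859 := ndS (p := 107712) (l := 6) rfl N107712 D224859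
theorem N121601 : nd 121601 = n224860 := ndS (p := 107719) (l := 4) rfl N107719 D224860
theorem N121602 : nd 121602 = n224861 := ndS (p := 107720) (l := 6) rfl N107720 D224861
theorem N121603 : nd 121603 = n224862 := ndS (p := 107790) (l := 4) rfl N107790 D224862
theorem N121604 : nd 121604 = n224863 := ndS (p := 107793) (l := 4) rfl N107793 D224863
theorem N121605 : nd 121605 = n224864 := ndS (p := 107806) (l := 1) rfl N107806 D224864
theorem N121606 : nd 121606 = n224865 := ndS (p := 107808) (l := 6) rfl N107808 D224865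
theorem N121607 : nd 121607 = n224866 := ndS (p := 107812) (l := 1) rfl N107812 D224866
theorem N121608 : nd 121608 = n224867 := ndS (p := 107831) (l := 2) rfl N107831 D224867
theorem N121609 : nd 121609 = n224868 := ndS (p := 107831) (l := 6) rfl N107831 D224868
theorem N121610 : nd 121610 = n224869 := ndS (p := 107851) (l := 5) rfl N107851 D224869
theorem N121611 : nd 121611 = n224870 := ndS (p := 107860) (l := 3) rfl N107860 D224870
theorem N121612 : nd 121612 = n224871 := ndS (p := 107866) (l := 3) rfl N107866 D224871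
theorem N121613 : nd 121613 = n224872 := ndS (p := 107871) (l := 0) rfl N107871 D224872
theorem N121614 : nd 121614 = n224873 := ndS (p := 107871) (l := 5) rfl N107871 D224873
theorem N121615 : nd 121615 = n224874 := ndS (p := 107873) (l := 5) rfl N107873 D224874
theorem N121616 : nd 121616 = n224875 := ndS (p := 107875) (l := 3) rfl N107875 D224875
theorem N121617 : nd 121617 = n224876 := ndS (p := 107883) (l := 5) rfl N107883 D224876
theorem N121618 : nd 121618 = n224877 := ndS (p := 107893) (l := 5) rfl N107893 D224877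
theorem N121619 : nd 121619 = n224878 := ndS (p := 107927) (l := 2) rfl N107927 D224878
theorem N121620 : nd 121620 = n224879 := ndS (p := 107944) (l := 1) rfl N107944 D224879
theorem N121621 : nd 121621 = n224880 := ndS (p := 107972) (l := 0) rfl N107972 D224880
theorem N121622 : nd 121622 = n224881 := ndS (p := 107972) (l := 1) rfl N107972 D224881
theorem N121623 : nd 121623 = n224882 := ndS (p := 107972) (l := 4) rfl N107972 D224882
theorem N121624 : nd 121624 = n224883 := ndS (p := 107982) (l := 4) rfl N107982 D224883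
theorem N121625 : nd 121625 = n224884 := ndS (p := 108001) (l := 4) rfl N108001 D224884
theorem N121626 : nd 121626 = n224885 := ndS (p := 108007) (l := 4) rfl N108007 D224885
theorem N121627 : nd 121627 = n224886 := ndS (p := 108009) (l := 4) rfl N108009 D224886
theorem N121628 : nd 121628 = n224887 := ndS (p := 108010) (l := 4) rfl N108010 D224887
theorem N121629 : nd 121629 = n224888 := ndS (p := 108011) (l := 4) rfl N108011 D224888
theorem N121630 : nd 121630 = n224889 := ndS (p := 108012) (l := 3) rfl N108012 D224889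
theorem N121631 : nd 121631 = n224890 := ndS (p := 108012) (l := 7) rfl N108012 D224890
theorem N121632 : nd 121632 = n224891 := ndS (p := 108024) (l := 5) rfl N108024 D224891
theorem N121633 : nd 121633 = n224892 := ndS (p := 108033) (l := 3) rfl N108033 D224892
theorem N121634 : nd 121634 = n224893 := ndS (p := 108043) (l := 7) rfl N108043 D224893
theorem N121635 : nd 121635 = n224894 := ndS (p := 108074) (l := 5) rfl N108074 D224894
theorem N121636 : nd 121636 = n224895 := ndS (p := 108086) (l := 5) rfl N108086 D224895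
theorem N121637 : nd 121637 = n224896 := ndS (p := 108086) (l := 7) rfl N108086 D224896
theorem N121638 : nd 121638 = n224897 := ndS (p := 108092) (l := 5) rfl N108092 D224897
theorem N121639 : nd 121639 = n224898 := ndS (p := 108100) (l := 6) rfl N108100 D224898
theorem N121640 : nd 121640 = n224899 := ndS (p := 108107) (l := 4) rfl N108107 D224899
theorem N121641 : nd 121641 = n224900 := ndS (p := 108112) (l := 3) rfl N108112 D224900
theorem N121642 : nd 121642 = n224901 := ndS (p := 108114) (l := 1) rfl N108114 D224901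
theorem N121643 : nd 121643 = n224902 := ndS (p := 108133) (l := 5) rfl N108133 D224902
theorem N121644 : nd 121644 = n224903 := ndS (p := 108133) (l := 7) rfl N108133 D224903
theorem N121645 : nd 121645 = n224904 := ndS (p := 108137) (l := 5) rfl N108137 D224904
theorem N121646 : nd 121646 = n224905 := ndS (p := 108147) (l := 6) rfl N108147 D224905
theorem N121647 : nd 121647 = n224906 := ndS (p := 108148) (l := 6) rfl N108148 D224906
theorem N121648 : nd 121648 = n224907 := ndS (p := 108152) (l := 5) rfl N108152 D224907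
theorem N121649 : nd 121649 = n224908 := ndS (p := 108153) (l := 5) rfl N108153 D224908
theorem N121650 : nd 121650 = n224909 := ndS (p := 108154) (l := 5) rfl N108154 D224909
theorem N121651 : nd 121651 = n224910 := ndS (p := 108155) (l := 0) rfl N108155 D224910
theorem N121652 : nd 121652 = n224911 := ndS (p := 108155) (l := 1) rfl N108155 D224911
theorem N121653 : nd 121653 = n224912 := ndS (p := 108155) (l := 4) rfl N108155 D224912
theorem N121654 : nd 121654 = n224913 := ndS (p := 108159) (l := 1) rfl N108159 D224913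
theorem N121655 : nd 121655 = n224914 := ndS (p := 108163) (l := 2) rfl N108163 D224914
theorem N121656 : nd 121656 = n224915 := ndS (p := 108166) (l := 1) rfl N108166 D224915
theorem N121657 : nd 121657 = n224916 := ndS (p := 108168) (l := 3) rfl N108168 D224916
theorem N121658 : nd 121658 = n224917 := ndS (p := 108170) (l := 5) rfl N108170 D224917
theorem N121659 : nd 121659 = n224918 := ndS (p := 108173) (l := 4) rfl N108173 D224918
theorem N121660 : nd 121660 = n224919 := ndS (p := 108174) (l := 4) rfl N108174 D224919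
theorem N121661 : nd 121661 = n224920 := ndS (p := 108177) (l := 1) rfl N108177 D224920
theorem N121662 : nd 121662 = n224921 := ndS (p := 108177) (l := 5) rfl N108177 D224921
theorem N121663 : nd 121663 = n224922 := ndS (p := 108177) (l := 7) rfl N108177 D224922
theorem N121664 : nd 121664 = n224923 := ndS (p := 108181) (l := 5) rfl N108181 D224923
theorem N121665 : nd 121665 = n224924 := ndS (p := 108190) (l := 4) rfl N108190 D224924
theorem N121666 : nd 121666 = n224925 := ndS (p := 108193) (l := 6) rfl N108193 D224925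
theorem N121667 : nd 121667 = n224926 := ndS (p := 108197) (l := 6) rfl N108197 D224926
theorem N121668 : nd 121668 = n224927 := ndS (p := 108198) (l := 3) rfl N108198 D224927
theorem N121669 : nd 121669 = n224928 := ndS (p := 108198) (l := 6) rfl N108198 D224928
theorem N121670 : nd 121670 = n224929 := ndS (p := 108199) (l := 0) rfl N108199 D224929
theorem N121671 : nd 121671 = n224930 := ndS (p := 108204) (l := 1) rfl N108204 D224930
theorem N121672 : nd 121672 = n224931 := ndS (p := 108204) (l := 2) rfl N108204 D224931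
theorem N121673 : nd 121673 = n224932 := ndS (p := 108211) (l := 4) rfl N108211 D224932
theorem N121674 : nd 121674 = n224933 := ndS (p := 108215) (l := 4) rfl N108215 D224933
theorem N121675 : nd 121675 = n224934 := ndS (p := 108216) (l := 3) rfl N108216 D224934
theorem N121676 : nd 121676 = n224935 := ndS (p := 108216) (l := 5) rfl N108216 D224935
theorem N121677 : nd 121677 = n224936 := ndS (p := 108219) (l := 6) rfl N108219 D224936
theorem N121678 : nd 121678 = n224937 := ndS (p := 108223) (l := 3) rfl N108223 D224937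
theorem N121679 : nd 121679 = n224938 := ndS (p := 108236) (l := 6) rfl N108236 D224938
theorem N121680 : nd 121680 = n224939 := ndS (p := 108305) (l := 5) rfl N108305 D224939
theorem N121681 : nd 121681 = n224940 := ndS (p := 108316) (l := 6) rfl N108316 D224940
theorem N121682 : nd 121682 = n224941 := ndS (p := 108367) (l := 1) rfl N108367 D224941
theorem N121683 : nd 121683 = n224942 := ndS (p := 108367) (l := 2) rfl N108367 D224942
theorem N121684 : nd 121684 = n224943 := ndS (p := 108379) (l := 3) rfl N108379 D224943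
theorem N121685 : nd 121685 = n224944 := ndS (p := 108395) (l := 6) rfl N108395 D224944
theorem N121686 : nd 121686 = n224945 := ndS (p := 108396) (l := 5) rfl N108396 D224945
theorem N121687 : nd 121687 = n224946 := ndS (p := 108403) (l := 4) rfl N108403 D224946
theorem N121688 : nd 121688 = n224947 := ndS (p := 108405) (l := 5) rfl N108405 D224947
theorem N121689 : nd 121689 = n224948 := ndS (p := 108407) (l := 5) rfl N108407 D224948
theorem N121690 : nd 121690 = n224949 := ndS (p := 108410) (l := 4) rfl N108410 D224949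
theorem N121691 : nd 121691 = n224950 := ndS (p := 108413) (l := 5) rfl N108413 D224950
theorem N121692 : nd 121692 = n224951 := ndS (p := 108419) (l := 5) rfl N108419 D224951
theorem N121693 : nd 121693 = n224952 := ndS (p := 108419) (l := 7) rfl N108419 D224952
theorem N121694 : nd 121694 = n224953 := ndS (p := 108429) (l := 6) rfl N108429 D224953
theorem N121695 : nd 121695 = n224954 := ndS (p := 108459) (l := 6) rfl N108459 D224954
theorem N121696 : nd 121696 = n224955 := ndS (p := 108460) (l := 5) rfl N108460 D224955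
theorem N121697 : nd 121697 = n224956 := ndS (p := 108474) (l := 6) rfl N108474 D224956
theorem N121698 : nd 121698 = n224957 := ndS (p := 108491) (l := 7) rfl N108491 D224957
theorem N121699 : nd 121699 = n224958 := ndS (p := 108495) (l := 5) rfl N108495 D224958
theorem N121700 : nd 121700 = n224959 := ndS (p := 108501) (l := 0) rfl N108501 D224959
theorem N121701 : nd 121701 = n224960 := ndS (p := 108507) (l := 4) rfl N108507 D224960
theorem N121702 : nd 121702 = n224961 := ndS (p := 108512) (l := 6) rfl N108512 D224961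
theorem N121703 : nd 121703 = n224962 := ndS (p := 108518) (l := 6) rfl N108518 D224962
theorem N121704 : nd 121704 = n224963 := ndS (p := 108519) (l := 6) rfl N108519 D224963
theorem N121705 : nd 121705 = n224964 := ndS (p := 108529) (l := 1) rfl N108529 D224964
theorem N121706 : nd 121706 = n224965 := ndS (p := 108534) (l := 5) rfl N108534 D224965
theorem N121707 : nd 121707 = n224966 := ndS (p := 108535) (l := 7) rfl N108535 D224966
theorem N121708 : nd 121708 = n224967 := ndS (p := 108538) (l := 0) rfl N108538 D224967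
theorem N121709 : nd 121709 = n224968 := ndS (p := 108542) (l := 3) rfl N108542 D224968
theorem N121710 : nd 121710 = n224969 := ndS (p := 108543) (l := 5) rfl N108543 D224969
theorem N121711 : nd 121711 = n224970 := ndS (p := 108545) (l := 0) rfl N108545 D224970
theorem N121712 : nd 121712 = n224971 := ndS (p := 108550) (l := 5) rfl N108550 D224971
theorem N121713 : nd 121713 = n224972 := ndS (p := 108551) (l := 4) rfl N108551 D224972
theorem N121714 : nd 121714 = n224973 := ndS (p := 108551) (l := 7) rfl N108551 D224973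
theorem N121715 : nd 121715 = n224974 := ndS (p := 108554) (l := 0) rfl N108554 D224974
theorem N121716 : nd 121716 = n224975 := ndS (p := 108558) (l := 4) rfl N108558 D224975
theorem N121717 : nd 121717 = n224976 := ndS (p := 108566) (l := 3) rfl N108566 D224976
theorem N121718 : nd 121718 = n224977 := ndS (p := 108575) (l := 5) rfl N108575 D224977
theorem N121719 : nd 121719 = n224978 := ndS (p := 108579) (l := 5) rfl N108579 D224978
theorem N121720 : nd 121720 = n224979 := ndS (p := 108587) (l := 5) rfl N108587 D224979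
theorem N121721 : nd 121721 = n224980 := ndS (p := 108592) (l := 6) rfl N108592 D224980
theorem N121722 : nd 121722 = n224981 := ndS (p := 108596) (l := 7) rfl N108596 D224981
theorem N121723 : nd 121723 = n224982 := ndS (p := 108618) (l := 3) rfl N108618 D224982
theorem N121724 : nd 121724 = n224983 := ndS (p := 108618) (l := 6) rfl N108618 D224983
theorem N121725 : nd 121725 = n224984 := ndS (p := 108646) (l := 7) rfl N108646 D224984
theorem N121726 : nd 121726 = n224985 := ndS (p := 108683) (l := 4) rfl N108683 D224985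
theorem N121727 : nd 121727 = n224986 := ndS (p := 108692) (l := 4) rfl N108692 D224986
theorem N121728 : nd 121728 = n224987 := ndS (p := 108693) (l := 6) rfl N108693 D224987
theorem N121729 : nd 121729 = n224988 := ndS (p := 108698) (l := 1) rfl N108698 D224988
theorem N121730 : nd 121730 = n224989 := ndS (p := 108704) (l := 7) rfl N108704 D224989
theorem N121731 : nd 121731 = n224990 := ndS (p := 108732) (l := 6) rfl N108732 D224990
theorem N121732 : nd 121732 = n224991 := ndS (p := 108733) (l := 7) rfl N108733 D224991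
theorem N121733 : nd 121733 = n224992 := ndS (p := 108744) (l := 6) rfl N108744 D224992
theorem N121734 : nd 121734 = n224993 := ndS (p := 108759) (l := 5) rfl N108759 D224993
theorem N121735 : nd 121735 = n224994 := ndS (p := 108760) (l := 4) rfl N108760 D224994
theorem N121736 : nd 121736 = n224995 := ndS (p := 108761) (l := 6) rfl N108761 D224995
theorem N121737 : nd 121737 = n224996 := ndS (p := 108770) (l := 2) rfl N108770 D224996
theorem N121738 : nd 121738 = n224997 := ndS (p := 108770) (l := 4) rfl N108770 D224997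
theorem N121739 : nd 121739 = n224998 := ndS (p := 108770) (l := 6) rfl N108770 D224998
theorem N121740 : nd 121740 = n224999 := ndS (p := 108771) (l := 0) rfl N108771 D224999
theorem N121741 : nd 121741 = n225000 := ndS (p := 108771) (l := 1) rfl N108771 D225000
theorem N121742 : nd 121742 = n225001 := ndS (p := 108771) (l := 7) rfl N108771 D225001
theorem N121743 : nd 121743 = n225002 := ndS (p := 108772) (l := 6) rfl N108772 D225002
theorem N121744 : nd 121744 = n225003 := ndS (p := 108783) (l := 3) rfl N108783 D225003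
theorem N121745 : nd 121745 = n225004 := ndS (p := 108805) (l := 0) rfl N108805 D225004
theorem N121746 : nd 121746 = n225005 := ndS (p := 108823) (l := 6) rfl N108823 D225005
theorem N121747 : nd 121747 = n225006 := ndS (p := 108824) (l := 0) rfl N108824 D225006
theorem N121748 : nd 121748 = n225007 := ndS (p := 108824) (l := 5) rfl N108824 D225007
theorem N121749 : nd 121749 = n225008 := ndS (p := 108827) (l := 7) rfl N108827 D225008
theorem N121750 : nd 121750 = n225009 := ndS (p := 108829) (l := 6) rfl N108829 D225009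
theorem N121751 : nd 121751 = n225010 := ndS (p := 108850) (l := 3) rfl N108850 D225010
theorem N121752 : nd 121752 = n225011 := ndS (p := 108856) (l := 3) rfl N108856 D225011
theorem N121753 : nd 121753 = n225012 := ndS (p := 108860) (l := 6) rfl N108860 D225012
theorem N121754 : nd 121754 = n225013 := ndS (p := 108863) (l := 6) rfl N108863 D225013
theorem N121755 : nd 121755 = n225014 := ndS (p := 108865) (l := 4) rfl N108865 D225014
theorem N121756 : nd 121756 = n225015 := ndS (p := 108869) (l := 0) rfl N108869 D225015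
theorem N121757 : nd 121757 = n225016 := ndS (p := 108874) (l := 3) rfl N108874 D225016
theorem N121758 : nd 121758 = n225017 := ndS (p := 108895) (l := 6) rfl N108895 D225017
theorem N121759 : nd 121759 = n225018 := ndS (p := 108896) (l := 0) rfl N108896 D225018
theorem N121760 : nd 121760 = n225019 := ndS (p := 108912) (l := 7) rfl N108912 D225019
theorem N121761 : nd 121761 = n225020 := ndS (p := 108948) (l := 0) rfl N108948 D225020
theorem N121762 : nd 121762 = n225021 := ndS (p := 108964) (l := 5) rfl N108964 D225021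
theorem N121763 : nd 121763 = n225022 := ndS (p := 108965) (l := 1) rfl N108965 D225022
theorem N121764 : nd 121764 = n225023 := ndS (p := 108969) (l := 5) rfl N108969 D225023
theorem N121765 : nd 121765 = n225024 := ndS (p := 108990) (l := 1) rfl N108990 D225024
theorem N121766 : nd 121766 = n225025 := ndS (p := 109043) (l := 5) rfl N109043 D225025
theorem N121767 : nd 121767 = n225026 := ndS (p := 109047) (l := 4) rfl N109047 D225026
theorem N121768 : nd 121768 = n225027 := ndS (p := 109080) (l := 4) rfl N109080 D225027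
theorem N121769 : nd 121769 = n225028 := ndS (p := 109081) (l := 3) rfl N109081 D225028
theorem N121770 : nd 121770 = n225029 := ndS (p := 109099) (l := 5) rfl N109099 D225029
theorem N121771 : nd 121771 = n225030 := ndS (p := 109105) (l := 3) rfl N109105 D225030
theorem N121772 : nd 121772 = n225031 := ndS (p := 109143) (l := 5) rfl N109143 D225031
theorem N121773 : nd 121773 = n225032 := ndS (p := 109187) (l := 6) rfl N109187 D225032
theorem N121774 : nd 121774 = n225033 := ndS (p := 109188) (l := 6) rfl N109188 D225033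
theorem N121775 : nd 121775 = n225034 := ndS (p := 109203) (l := 1) rfl N109203 D225034
theorem N121776 : nd 121776 = n225035 := ndS (p := 109203) (l := 7) rfl N109203 D225035
theorem N121777 : nd 121777 = n225036 := ndS (p := 109208) (l := 6) rfl N109208 D225036
theorem N121778 : nd 121778 = n225037 := ndS (p := 109209) (l := 6) rfl N109209 D225037
theorem N121779 : nd 121779 = n225038 := ndS (p := 109211) (l := 5) rfl N109211 D225038
theorem N121780 : nd 121780 = n225039 := ndS (p := 109212) (l := 1) rfl N109212 D225039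
theorem N121781 : nd 121781 = n225040 := ndS (p := 109221) (l := 5) rfl N109221 D225040
theorem N121782 : nd 121782 = n225041 := ndS (p := 109238) (l := 5) rfl N109238 D225041
theorem N121783 : nd 121783 = n225042 := ndS (p := 109323) (l := 0) rfl N109323 D225042
theorem N121784 : nd 121784 = n225043 := ndS (p := 109330) (l := 5) rfl N109330 D225043
theorem N121785 : nd 121785 = n225044 := ndS (p := 109338) (l := 5) rfl N109338 D225044
theorem N121786 : nd 121786 = n225045 := ndS (p := 109339) (l := 0) rfl N109339 D225045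
theorem N121787 : nd 121787 = n225046 := ndS (p := 109352) (l := 6) rfl N109352 D225046
theorem N121788 : nd 121788 = n225047 := ndS (p := 109368) (l := 3) rfl N109368 D225047
theorem N121789 : nd 121789 = n225048 := ndS (p := 109391) (l := 5) rfl N109391 D225048
theorem N121790 : nd 121790 = n225049 := ndS (p := 109392) (l := 0) rfl N109392 D225049
theorem N121791 : nd 121791 = n225050 := ndS (p := 109392) (l := 7) rfl N109392 D225050
theorem N121792 : nd 121792 = n225051 := ndS (p := 109395) (l := 3) rfl N109395 D225051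
theorem N121793 : nd 121793 = n225052 := ndS (p := 109445) (l := 3) rfl N109445 D225052
theorem N121794 : nd 121794 = n225053 := ndS (p := 109451) (l := 0) rfl N109451 D225053
theorem N121795 : nd 121795 = n225054 := ndS (p := 109451) (l := 5) rfl N109451 D225054
theorem N121796 : nd 121796 = n225055 := ndS (p := 109462) (l := 7) rfl N109462 D225055
theorem N121797 : nd 121797 = n225056 := ndS (p := 109479) (l := 3) rfl N109479 D225056
theorem N121798 : nd 121798 = n225057 := ndS (p := 109484) (l := 4) rfl N109484 D225057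
theorem N121799 : nd 121799 = n225058 := ndS (p := 109498) (l := 4) rfl N109498 D225058
theorem N121800 : nd 121800 = n225059 := ndS (p := 109500) (l := 1) rfl N109500 D225059
theorem N121801 : nd 121801 = n225060 := ndS (p := 109509) (l := 4) rfl N109509 D225060
theorem N121802 : nd 121802 = n225061 := ndS (p := 109510) (l := 6) rfl N109510 D225061
theorem N121803 : nd 121803 = n225062 := ndS (p := 109514) (l := 0) rfl N109514 D225062
theorem N121804 : nd 121804 = n225063 := ndS (p := 109519) (l := 0) rfl N109519 D225063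
theorem N121805 : nd 121805 = n225064 := ndS (p := 109520) (l := 4) rfl N109520 D225064
theorem N121806 : nd 121806 = n225065 := ndS (p := 109526) (l := 3) rfl N109526 D225065
theorem N121807 : nd 121807 = n225066 := ndS (p := 109540) (l := 6) rfl N109540 D225066
theorem N121808 : nd 121808 = n225067 := ndS (p := 109543) (l := 3) rfl N109543 D225067
theorem N121809 : nd 121809 = n225068 := ndS (p := 109547) (l := 3) rfl N109547 D225068
theorem N121810 : nd 121810 = n225069 := ndS (p := 109570) (l := 1) rfl N109570 D225069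
theorem N121811 : nd 121811 = n225070 := ndS (p := 109571) (l := 7) rfl N109571 D225070
theorem N121812 : nd 121812 = n225071 := ndS (p := 109572) (l := 4) rfl N109572 D225071
theorem N121813 : nd 121813 = n225072 := ndS (p := 109576) (l := 5) rfl N109576 D225072
theorem N121814 : nd 121814 = n225073 := ndS (p := 109577) (l := 4) rfl N109577 D225073
theorem N121815 : nd 121815 = n225074 := ndS (p := 109583) (l := 7) rfl N109583 D225074
theorem N121816 : nd 121816 = n225075 := ndS (p := 109585) (l := 1) rfl N109585 D225075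
theorem N121817 : nd 121817 = n225076 := ndS (p := 109585) (l := 7) rfl N109585 D225076
theorem N121818 : nd 121818 = n225077 := ndS (p := 109588) (l := 6) rfl N109588 D225077
theorem N121819 : nd 121819 = n225078 := ndS (p := 109595) (l := 0) rfl N109595 D225078
theorem N121820 : nd 121820 = n225079 := ndS (p := 109615) (l := 1) rfl N109615 D225079
theorem N121821 : nd 121821 = n225080 := ndS (p := 109632) (l := 6) rfl N109632 D225080
theorem N121822 : nd 121822 = n225081 := ndS (p := 109637) (l := 1) rfl N109637 D225081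
theorem N121823 : nd 121823 = n225082 := ndS (p := 109655) (l := 7) rfl N109655 D225082
theorem N121824 : nd 121824 = n225083 := ndS (p := 109659) (l := 6) rfl N109659 D225083
theorem N121825 : nd 121825 = n225084 := ndS (p := 109668) (l := 4) rfl N109668 D225084
theorem N121826 : nd 121826 = n225085 := ndS (p := 109672) (l := 4) rfl N109672 D225085
theorem N121827 : nd 121827 = n225086 := ndS (p := 109691) (l := 0) rfl N109691 D225086
theorem N121828 : nd 121828 = n225087 := ndS (p := 109691) (l := 2) rfl N109691 D225087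
theorem N121829 : nd 121829 = n225088 := ndS (p := 109706) (l := 1) rfl N109706 D225088
theorem N121830 : nd 121830 = n225089 := ndS (p := 109760) (l := 6) rfl N109760 D225089
theorem N121831 : nd 121831 = n225090 := ndS (p := 109761) (l := 7) rfl N109761 D225090
theorem N121832 : nd 121832 = n225091 := ndS (p := 109783) (l := 5) rfl N109783 D225091
theorem N121833 : nd 121833 = n225092 := ndS (p := 109802) (l := 4) rfl N109802 D225092
theorem N121834 : nd 121834 = n225093 := ndS (p := 109825) (l := 4) rfl N109825 D225093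
theorem N121835 : nd 121835 = n225094 := ndS (p := 109829) (l := 0) rfl N109829 D225094
theorem N121836 : nd 121836 = n225095 := ndS (p := 109829) (l := 1) rfl N109829 D225095
theorem N121837 : nd 121837 = n225096 := ndS (p := 109834) (l := 5) rfl N109834 D225096
theorem N121838 : nd 121838 = n225097 := ndS (p := 109837) (l := 6) rfl N109837 D225097
theorem N121839 : nd 121839 = n225098 := ndS (p := 109838) (l := 1) rfl N109838 D225098
theorem N121840 : nd 121840 = n225099 := ndS (p := 109838) (l := 7) rfl N109838 D225099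
theorem N121841 : nd 121841 = n225100 := ndS (p := 109870) (l := 0) rfl N109870 D225100
theorem N121842 : nd 121842 = n225101 := ndS (p := 109878) (l := 3) rfl N109878 D225101
theorem N121843 : nd 121843 = n225102 := ndS (p := 109878) (l := 6) rfl N109878 D225102
theorem N121844 : nd 121844 = n225103 := ndS (p := 109879) (l := 0) rfl N109879 D225103
theorem N121845 : nd 121845 = n225104 := ndS (p := 109879) (l := 7) rfl N109879 D225104
theorem N121846 : nd 121846 = n225105 := ndS (p := 109882) (l := 0) rfl N109882 D225105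
theorem N121847 : nd 121847 = n225106 := ndS (p := 109885) (l := 6) rfl N109885 D225106
theorem N121848 : nd 121848 = n225107 := ndS (p := 109906) (l := 6) rfl N109906 D225107
theorem N121849 : nd 121849 = n225108 := ndS (p := 109909) (l := 1) rfl N109909 D225108
theorem N121850 : nd 121850 = n225109 := ndS (p := 109909) (l := 7) rfl N109909 D225109
theorem N121851 : nd 121851 = n225110 := ndS (p := 109911) (l := 1) rfl N109911 D225110
theorem N121852 : nd 121852 = n225111 := ndS (p := 109928) (l := 4) rfl N109928 D225111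
theorem N121853 : nd 121853 = n225112 := ndS (p := 109932) (l := 5) rfl N109932 D225112
theorem N121854 : nd 121854 = n225113 := ndS (p := 109936) (l := 6) rfl N109936 D225113
theorem N121855 : nd 121855 = n225114 := ndS (p := 109937) (l := 5) rfl N109937 D225114
theorem N121856 : nd 121856 = n225115 := ndS (p := 109940) (l := 5) rfl N109940 D225115
theorem N121857 : nd 121857 = n225116 := ndS (p := 109943) (l := 4) rfl N109943 D225116
theorem N121858 : nd 121858 = n225117 := ndS (p := 109943) (l := 6) rfl N109943 D225117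
theorem N121859 : nd 121859 = n225118 := ndS (p := 109944) (l := 4) rfl N109944 D225118
theorem N121860 : nd 121860 = n225119 := ndS (p := 109946) (l := 4) rfl N109946 D225119
theorem N121861 : nd 121861 = n225120 := ndS (p := 109947) (l := 0) rfl N109947 D225120
theorem N121862 : nd 121862 = n225121 := ndS (p := 109948) (l := 1) rfl N109948 D225121
theorem N121863 : nd 121863 = n225122 := ndS (p := 109952) (l := 4) rfl N109952 D225122
theorem N121864 : nd 121864 = n225123 := ndS (p := 109957) (l := 4) rfl N109957 D225123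
theorem N121865 : nd 121865 = n225124 := ndS (p := 109957) (l := 6) rfl N109957 D225124
theorem N121866 : nd 121866 = n225125 := ndS (p := 109958) (l := 6) rfl N109958 D225125
theorem N121867 : nd 121867 = n225126 := ndS (p := 109959) (l := 4) rfl N109959 D225126
theorem N121868 : nd 121868 = n225127 := ndS (p := 109962) (l := 5) rfl N109962 D225127
theorem N121869 : nd 121869 = n225128 := ndS (p := 109963) (l := 6) rfl N109963 D225128
theorem N121870 : nd 121870 = n225129 := ndS (p := 109973) (l := 0) rfl N109973 D225129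
theorem N121871 : nd 121871 = n225130 := ndS (p := 109973) (l := 1) rfl N109973 D225130
theorem N121872 : nd 121872 = n225131 := ndS (p := 109974) (l := 4) rfl N109974 D225131
theorem N121873 : nd 121873 = n225132 := ndS (p := 109974) (l := 6) rfl N109974 D225132
theorem N121874 : nd 121874 = n225133 := ndS (p := 109976) (l := 0) rfl N109976 D225133
theorem N121875 : nd 121875 = n225134 := ndS (p := 109977) (l := 7) rfl N109977 D225134
theorem N121876 : nd 121876 = n225135 := ndS (p := 109987) (l := 5) rfl N109987 D225135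
theorem N121877 : nd 121877 = n225136 := ndS (p := 109988) (l := 5) rfl N109988 D225136
theorem N121878 : nd 121878 = n225137 := ndS (p := 109993) (l := 3) rfl N109993 D225137
theorem N121879 : nd 121879 = n225138 := ndS (p := 109993) (l := 6) rfl N109993 D225138
theorem N121880 : nd 121880 = n225139 := ndS (p := 109994) (l := 6) rfl N109994 D225139
theorem N121881 : nd 121881 = n225140 := ndS (p := 110000) (l := 6) rfl N110000 D225140
theorem N121882 : nd 121882 = n225141 := ndS (p := 110002) (l := 6) rfl N110002 D225141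
theorem N121883 : nd 121883 = n225142 := ndS (p := 110006) (l := 5) rfl N110006 D225142
theorem N121884 : nd 121884 = n225143 := ndS (p := 110007) (l := 5) rfl N110007 D225143
theorem N121885 : nd 121885 = n225144 := ndS (p := 110036) (l := 5) rfl N110036 D225144
theorem N121886 : nd 121886 = n225145 := ndS (p := 110037) (l := 5) rfl N110037 D225145
theorem N121887 : nd 121887 = n225146 := ndS (p := 110068) (l := 6) rfl N110068 D225146
theorem N121888 : nd 121888 = n225147 := ndS (p := 110086) (l := 4) rfl N110086 D225147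
theorem N121889 : nd 121889 = n225148 := ndS (p := 110091) (l := 6) rfl N110091 D225148
theorem N121890 : nd 121890 = n225149 := ndS (p := 110114) (l := 3) rfl N110114 D225149
theorem N121891 : nd 121891 = n225150 := ndS (p := 110119) (l := 4) rfl N110119 D225150
theorem N121892 : nd 121892 = n225151 := ndS (p := 110120) (l := 4) rfl N110120 D225151
theorem N121893 : nd 121893 = n225152 := ndS (p := 110121) (l := 0) rfl N110121 D225152
theorem N121894 : nd 121894 = n225153 := ndS (p := 110121) (l := 1) rfl N110121 D225153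
theorem N121895 : nd 121895 = n225154 := ndS (p := 110121) (l := 4) rfl N110121 D225154
theorem N121896 : nd 121896 = n225155 := ndS (p := 110121) (l := 6) rfl N110121 D225155
theorem N121897 : nd 121897 = n225156 := ndS (p := 110122) (l := 4) rfl N110122 D225156
theorem N121898 : nd 121898 = n225157 := ndS (p := 110123) (l := 3) rfl N110123 D225157
theorem N121899 : nd 121899 = n225158 := ndS (p := 110123) (l := 4) rfl N110123 D225158
theorem N121900 : nd 121900 = n225159 := ndS (p := 110123) (l := 6) rfl N110123 D225159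
theorem N121901 : nd 121901 = n225160 := ndS (p := 110124) (l := 0) rfl N110124 D225160
theorem N121902 : nd 121902 = n225161 := ndS (p := 110124) (l := 3) rfl N110124 D225161
theorem N121903 : nd 121903 = n225162 := ndS (p := 110124) (l := 6) rfl N110124 D225162
theorem N121904 : nd 121904 = n225163 := ndS (p := 110125) (l := 7) rfl N110125 D225163
theorem N121905 : nd 121905 = n225164 := ndS (p := 110128) (l := 6) rfl N110128 D225164
theorem N121906 : nd 121906 = n225165 := ndS (p := 110129) (l := 0) rfl N110129 D225165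
theorem N121907 : nd 121907 = n225166 := ndS (p := 110129) (l := 5) rfl N110129 D225166
theorem N121908 : nd 121908 = n225167 := ndS (p := 110129) (l := 7) rfl N110129 D225167
theorem N121909 : nd 121909 = n225168 := ndS (p := 110138) (l := 5) rfl N110138 D225168
theorem N121910 : nd 121910 = n225169 := ndS (p := 110142) (l := 6) rfl N110142 D225169
theorem N121911 : nd 121911 = n225170 := ndS (p := 110143) (l := 1) rfl N110143 D225170
theorem N121912 : nd 121912 = n225171 := ndS (p := 110165) (l := 6) rfl N110165 D225171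
theorem N121913 : nd 121913 = n225172 := ndS (p := 110171) (l := 0) rfl N110171 D225172
theorem N121914 : nd 121914 = n225173 := ndS (p := 110175) (l := 0) rfl N110175 D225173
theorem N121915 : nd 121915 = n225174 := ndS (p := 110180) (l := 6) rfl N110180 D225174
theorem N121916 : nd 121916 = n225175 := ndS (p := 110207) (l := 4) rfl N110207 D225175
theorem N121917 : nd 121917 = n225176 := ndS (p := 110209) (l := 5) rfl N110209 D225176
theorem N121918 : nd 121918 = n225177 := ndS (p := 110210) (l := 4) rfl N110210 D225177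
theorem N121919 : nd 121919 = n225178 := ndS (p := 110224) (l := 4) rfl N110224 D225178
theorem N121920 : nd 121920 = n225179 := ndS (p := 110226) (l := 4) rfl N110226 D225179
theorem N121921 : nd 121921 = n225180 := ndS (p := 110231) (l := 3) rfl N110231 D225180
theorem N121922 : nd 121922 = n225181 := ndS (p := 110234) (l := 3) rfl N110234 D225181
theorem N121923 : nd 121923 = n225182 := ndS (p := 110246) (l := 6) rfl N110246 D225182
theorem N121924 : nd 121924 = n225183 := ndS (p := 110250) (l := 0) rfl N110250 D225183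
theorem N121925 : nd 121925 = n225184 := ndS (p := 110262) (l := 7) rfl N110262 D225184
theorem N121926 : nd 121926 = n225185 := ndS (p := 110284) (l := 3) rfl N110284 D225185
theorem N121927 : nd 121927 = n225186 := ndS (p := 110329) (l := 6) rfl N110329 D225186
theorem N121928 : nd 121928 = n225187 := ndS (p := 110330) (l := 3) rfl N110330 D225187
theorem N121929 : nd 121929 = n225188 := ndS (p := 110341) (l := 0) rfl N110341 D225188
theorem N121930 : nd 121930 = n225189 := ndS (p := 110350) (l := 3) rfl N110350 D225189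
theorem N121931 : nd 121931 = n225190 := ndS (p := 110353) (l := 3) rfl N110353 D225190
theorem N121932 : nd 121932 = n225191 := ndS (p := 110371) (l := 0) rfl N110371 D225191
theorem N121933 : nd 121933 = n225192 := ndS (p := 110371) (l := 2) rfl N110371 D225192
theorem N121934 : nd 121934 = n225193 := ndS (p := 110375) (l := 3) rfl N110375 D225193
theorem N121935 : nd 121935 = n225194 := ndS (p := 110377) (l := 0) rfl N110377 D225194
theorem N121936 : nd 121936 = n225195 := ndS (p := 110381) (l := 3) rfl N110381 D225195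
theorem N121937 : nd 121937 = n225196 := ndS (p := 110386) (l := 4) rfl N110386 D225196
theorem N121938 : nd 121938 = n225197 := ndS (p := 110388) (l := 0) rfl N110388 D225197
theorem N121939 : nd 121939 = n225198 := ndS (p := 110388) (l := 1) rfl N110388 D225198
theorem N121940 : nd 121940 = n225199 := ndS (p := 110388) (l := 7) rfl N110388 D225199
theorem N121941 : nd 121941 = n225200 := ndS (p := 110390) (l := 6) rfl N110390 D225200
theorem N121942 : nd 121942 = n225201 := ndS (p := 110398) (l := 3) rfl N110398 D225201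
theorem N121943 : nd 121943 = n225202 := ndS (p := 110398) (l := 5) rfl N110398 D225202
theorem N121944 : nd 121944 = n225203 := ndS (p := 110411) (l := 5) rfl N110411 D225203
theorem N121945 : nd 121945 = n225204 := ndS (p := 110416) (l := 6) rfl N110416 D225204
theorem N121946 : nd 121946 = n225205 := ndS (p := 110426) (l := 6) rfl N110426 D225205
theorem N121947 : nd 121947 = n225206 := ndS (p := 110437) (l := 5) rfl N110437 D225206
theorem N121948 : nd 121948 = n225207 := ndS (p := 110438) (l := 4) rfl N110438 D225207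
theorem N121949 : nd 121949 = n225208 := ndS (p := 110446) (l := 0) rfl N110446 D225208
theorem N121950 : nd 121950 = n225209 := ndS (p := 110446) (l := 1) rfl N110446 D225209
theorem N121951 : nd 121951 = n225210 := ndS (p := 110464) (l := 4) rfl N110464 D225210
theorem N121952 : nd 121952 = n225211 := ndS (p := 110465) (l := 4) rfl N110465 D225211
theorem N121953 : nd 121953 = n225212 := ndS (p := 110465) (l := 6) rfl N110465 D225212
theorem N121954 : nd 121954 = n225213 := ndS (p := 110466) (l := 5) rfl N110466 D225213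
theorem N121955 : nd 121955 = n225214 := ndS (p := 110467) (l := 7) rfl N110467 D225214
theorem N121956 : nd 121956 = n225215 := ndS (p := 110488) (l := 5) rfl N110488 D225215
theorem N121957 : nd 121957 = n225216 := ndS (p := 110514) (l := 6) rfl N110514 D225216
theorem N121958 : nd 121958 = n225217 := ndS (p := 110531) (l := 3) rfl N110531 D225217
theorem N121959 : nd 121959 = n225218 := ndS (p := 110569) (l := 0) rfl N110569 D225218
theorem N121960 : nd 121960 = n225219 := ndS (p := 110569) (l := 5) rfl N110569 D225219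
theorem N121961 : nd 121961 = n225220 := ndS (p := 110571) (l := 4) rfl N110571 D225220
theorem N121962 : nd 121962 = n225221 := ndS (p := 110586) (l := 5) rfl N110586 D225221
theorem N121963 : nd 121963 = n225222 := ndS (p := 110590) (l := 3) rfl N110590 D225222
theorem N121964 : nd 121964 = n225223 := ndS (p := 110595) (l := 5) rfl N110595 D225223
theorem N121965 : nd 121965 = n225224 := ndS (p := 110597) (l := 1) rfl N110597 D225224
theorem N121966 : nd 121966 = n225225 := ndS (p := 110612) (l := 6) rfl N110612 D225225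
theorem N121967 : nd 121967 = n225226 := ndS (p := 110613) (l := 6) rfl N110613 D225226
theorem N121968 : nd 121968 = n225227 := ndS (p := 110623) (l := 6) rfl N110623 D225227
theorem N121969 : nd 121969 = n225228 := ndS (p := 110640) (l := 1) rfl N110640 D225228
theorem N121970 : nd 121970 = n225229 := ndS (p := 110640) (l := 5) rfl N110640 D225229
theorem N121971 : nd 121971 = n225230 := ndS (p := 110648) (l := 0) rfl N110648 D225230
theorem N121972 : nd 121972 = n225231 := ndS (p := 110656) (l := 5) rfl N110656 D225231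
theorem N121973 : nd 121973 = n225232 := ndS (p := 110669) (l := 6) rfl N110669 D225232
theorem N121974 : nd 121974 = n225233 := ndS (p := 110673) (l := 5) rfl N110673 D225233
theorem N121975 : nd 121975 = n225234 := ndS (p := 110676) (l := 1) rfl N110676 D225234
theorem N121976 : nd 121976 = n225235 := ndS (p := 110679) (l := 5) rfl N110679 D225235
theorem N121977 : nd 121977 = n225236 := ndS (p := 110680) (l := 0) rfl N110680 D225236
theorem N121978 : nd 121978 = n225237 := ndS (p := 110680) (l := 1) rfl N110680 D225237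
theorem N121979 : nd 121979 = n225238 := ndS (p := 110684) (l := 4) rfl N110684 D225238
theorem N121980 : nd 121980 = n225239 := ndS (p := 110702) (l := 6) rfl N110702 D225239
theorem N121981 : nd 121981 = n225240 := ndS (p := 110709) (l := 5) rfl N110709 D225240
theorem N121982 : nd 121982 = n225241 := ndS (p := 110711) (l := 5) rfl N110711 D225241
theorem N121983 : nd 121983 = n225242 := ndS (p := 110712) (l := 6) rfl N110712 D225242
theorem N121984 : nd 121984 = n225243 := ndS (p := 110715) (l := 6) rfl N110715 D225243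
theorem N121985 : nd 121985 = n225244 := ndS (p := 110718) (l := 1) rfl N110718 D225244
theorem N121986 : nd 121986 = n225245 := ndS (p := 110723) (l := 6) rfl N110723 D225245
theorem N121987 : nd 121987 = n225246 := ndS (p := 110724) (l := 0) rfl N110724 D225246
theorem N121988 : nd 121988 = n225247 := ndS (p := 110724) (l := 1) rfl N110724 D225247
theorem N121989 : nd 121989 = n225248 := ndS (p := 110732) (l := 5) rfl N110732 D225248
theorem N121990 : nd 121990 = n225249 := ndS (p := 110734) (l := 5) rfl N110734 D225249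
theorem N121991 : nd 121991 = n225250 := ndS (p := 110735) (l := 4) rfl N110735 D225250
theorem N121992 : nd 121992 = n225251 := ndS (p := 110737) (l := 3) rfl N110737 D225251
theorem N121993 : nd 121993 = n225252 := ndS (p := 110737) (l := 4) rfl N110737 D225252
theorem N121994 : nd 121994 = n225253 := ndS (p := 110739) (l := 1) rfl N110739 D225253
theorem N121995 : nd 121995 = n225254 := ndS (p := 110741) (l := 3) rfl N110741 D225254
theorem N121996 : nd 121996 = n225255 := ndS (p := 110745) (l := 0) rfl N110745 D225255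
theorem N121997 : nd 121997 = n225256 := ndS (p := 110746) (l := 0) rfl N110746 D225256
theorem N121998 : nd 121998 = n225257 := ndS (p := 110746) (l := 1) rfl N110746 D225257
theorem N121999 : nd 121999 = n225258 := ndS (p := 110747) (l := 1) rfl N110747 D225258
theorem N122000 : nd 122000 = n225259 := ndS (p := 110749) (l := 5) rfl N110749 D225259
theorem N122001 : nd 122001 = n225260 := ndS (p := 110759) (l := 3) rfl N110759 D225260
theorem N122002 : nd 122002 = n225261 := ndS (p := 110759) (l := 6) rfl N110759 D225261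
theorem N122003 : nd 122003 = n225262 := ndS (p := 110761) (l := 5) rfl N110761 D225262
theorem N122004 : nd 122004 = n225263 := ndS (p := 110777) (l := 4) rfl N110777 D225263
theorem N122005 : nd 122005 = n225264 := ndS (p := 110777) (l := 7) rfl N110777 D225264
theorem N122006 : nd 122006 = n225265 := ndS (p := 110784) (l := 7) rfl N110784 D225265
theorem N122007 : nd 122007 = n225266 := ndS (p := 110786) (l := 0) rfl N110786 D225266
theorem N122008 : nd 122008 = n225267 := ndS (p := 110786) (l := 2) rfl N110786 D225267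
theorem N122009 : nd 122009 = n225268 := ndS (p := 110789) (l := 0) rfl N110789 D225268
theorem N122010 : nd 122010 = n225269 := ndS (p := 110794) (l := 0) rfl N110794 D225269
theorem N122011 : nd 122011 = n225270 := ndS (p := 110798) (l := 4) rfl N110798 D225270
theorem N122012 : nd 122012 = n225271 := ndS (p := 110806) (l := 5) rfl N110806 D225271
theorem N122013 : nd 122013 = n225272 := ndS (p := 110810) (l := 3) rfl N110810 D225272
theorem N122014 : nd 122014 = n225273 := ndS (p := 110815) (l := 5) rfl N110815 D225273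
theorem N122015 : nd 122015 = n225274 := ndS (p := 110867) (l := 3) rfl N110867 D225274
theorem N122016 : nd 122016 = n225275 := ndS (p := 110869) (l := 5) rfl N110869 D225275
theorem N122017 : nd 122017 = n225276 := ndS (p := 110870) (l := 6) rfl N110870 D225276
theorem N122018 : nd 122018 = n225277 := ndS (p := 110871) (l := 6) rfl N110871 D225277
theorem N122019 : nd 122019 = n225278 := ndS (p := 110879) (l := 6) rfl N110879 D225278
theorem N122020 : nd 122020 = n225279 := ndS (p := 110882) (l := 5) rfl N110882 D225279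
theorem N122021 : nd 122021 = n225280 := ndS (p := 110883) (l := 6) rfl N110883 D225280
theorem N122022 : nd 122022 = n225281 := ndS (p := 110886) (l := 2) rfl N110886 D225281
theorem N122023 : nd 122023 = n225282 := ndS (p := 110921) (l := 1) rfl N110921 D225282
theorem N122024 : nd 122024 = n225283 := ndS (p := 110931) (l := 5) rfl N110931 D225283
theorem N122025 : nd 122025 = n225284 := ndS (p := 110932) (l := 0) rfl N110932 D225284
theorem N122026 : nd 122026 = n225285 := ndS (p := 110948) (l := 5) rfl N110948 D225285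
theorem N122027 : nd 122027 = n225286 := ndS (p := 110959) (l := 3) rfl N110959 D225286
theorem N122028 : nd 122028 = n225287 := ndS (p := 110963) (l := 5) rfl N110963 D225287
theorem N122029 : nd 122029 = n225288 := ndS (p := 110964) (l := 4) rfl N110964 D225288
theorem N122030 : nd 122030 = n225289 := ndS (p := 110964) (l := 6) rfl N110964 D225289
theorem N122031 : nd 122031 = n225290 := ndS (p := 110976) (l := 6) rfl N110976 D225290
theorem N122032 : nd 122032 = n225291 := ndS (p := 111002) (l := 5) rfl N111002 D225291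
theorem N122033 : nd 122033 = n225292 := ndS (p := 111004) (l := 4) rfl N111004 D225292
theorem N122034 : nd 122034 = n225293 := ndS (p := 111016) (l := 5) rfl N111016 D225293
theorem N122035 : nd 122035 = n225294 := ndS (p := 111045) (l := 4) rfl N111045 D225294
theorem N122036 : nd 122036 = n225295 := ndS (p := 111051) (l := 0) rfl N111051 D225295
theorem N122037 : nd 122037 = n225296 := ndS (p := 111051) (l := 7) rfl N111051 D225296
theorem N122038 : nd 122038 = n225297 := ndS (p := 111052) (l := 0) rfl N111052 D225297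
theorem N122039 : nd 122039 = n225298 := ndS (p := 111052) (l := 1) rfl N111052 D225298
theorem N122040 : nd 122040 = n225299 := ndS (p := 111061) (l := 5) rfl N111061 D225299
theorem N122041 : nd 122041 = n225300 := ndS (p := 111083) (l := 6) rfl N111083 D225300
theorem N122042 : nd 122042 = n225301 := ndS (p := 111110) (l := 0) rfl N111110 D225301
theorem N122043 : nd 122043 = n225302 := ndS (p := 111113) (l := 2) rfl N111113 D225302
theorem N122044 : nd 122044 = n225303 := ndS (p := 111120) (l := 1) rfl N111120 D225303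
theorem N122045 : nd 122045 = n225304 := ndS (p := 111136) (l := 4) rfl N111136 D225304
theorem N122046 : nd 122046 = n225305 := ndS (p := 111137) (l := 6) rfl N111137 D225305
theorem N122047 : nd 122047 = n225306 := ndS (p := 111152) (l := 6) rfl N111152 D225306
theorem N122048 : nd 122048 = n225307 := ndS (p := 111159) (l := 7) rfl N111159 D225307
theorem N122049 : nd 122049 = n225308 := ndS (p := 111164) (l := 6) rfl N111164 D225308
theorem N122050 : nd 122050 = n225309 := ndS (p := 111193) (l := 5) rfl N111193 D225309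
theorem N122051 : nd 122051 = n225310 := ndS (p := 111199) (l := 5) rfl N111199 D225310
theorem N122052 : nd 122052 = n225311 := ndS (p := 111208) (l := 2) rfl N111208 D225311
theorem N122053 : nd 122053 = n225312 := ndS (p := 111210) (l := 4) rfl N111210 D225312
theorem N122054 : nd 122054 = n225313 := ndS (p := 111214) (l := 3) rfl N111214 D225313
theorem N122055 : nd 122055 = n225314 := ndS (p := 111215) (l := 6) rfl N111215 D225314
theorem N122056 : nd 122056 = n225315 := ndS (p := 111226) (l := 6) rfl N111226 D225315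
theorem N122057 : nd 122057 = n225316 := ndS (p := 111270) (l := 1) rfl N111270 D225316
theorem N122058 : nd 122058 = n225317 := ndS (p := 111278) (l := 4) rfl N111278 D225317
theorem N122059 : nd 122059 = n225318 := ndS (p := 111278) (l := 6) rfl N111278 D225318
theorem N122060 : nd 122060 = n225319 := ndS (p := 111291) (l := 5) rfl N111291 D225319
theorem N122061 : nd 122061 = n225320 := ndS (p := 111307) (l := 4) rfl N111307 D225320
theorem N122062 : nd 122062 = n225321 := ndS (p := 111352) (l := 1) rfl N111352 D225321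
theorem N122063 : nd 122063 = n225322 := ndS (p := 111356) (l := 4) rfl N111356 D225322
theorem N122064 : nd 122064 = n225323 := ndS (p := 111356) (l := 6) rfl N111356 D225323
theorem N122065 : nd 122065 = n225324 := ndS (p := 111358) (l := 4) rfl N111358 D225324
theorem N122066 : nd 122066 = n225325 := ndS (p := 111378) (l := 7) rfl N111378 D225325
theorem N122067 : nd 122067 = n225326 := ndS (p := 111379) (l := 5) rfl N111379 D225326
theorem N122068 : nd 122068 = n225327 := ndS (p := 111385) (l := 6) rfl N111385 D225327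
theorem N122069 : nd 122069 = n225328 := ndS (p := 111404) (l := 7) rfl N111404 D225328
theorem N122070 : nd 122070 = n225329 := ndS (p := 111412) (l := 6) rfl N111412 D225329
theorem N122071 : nd 122071 = n225330 := ndS (p := 111428) (l := 5) rfl N111428 D225330
theorem N122072 : nd 122072 = n225331 := ndS (p := 111429) (l := 1) rfl N111429 D225331
theorem N122073 : nd 122073 = n225332 := ndS (p := 111435) (l := 3) rfl N111435 D225332
theorem N122074 : nd 122074 = n225333 := ndS (p := 111444) (l := 5) rfl N111444 D225333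
theorem N122075 : nd 122075 = n225334 := ndS (p := 111445) (l := 4) rfl N111445 D225334
theorem N122076 : nd 122076 = n225335 := ndS (p := 111447) (l := 7) rfl N111447 D225335
theorem N122077 : nd 122077 = n225336 := ndS (p := 111454) (l := 0) rfl N111454 D225336
theorem N122078 : nd 122078 = n225337 := ndS (p := 111455) (l := 6) rfl N111455 D225337
theorem N122079 : nd 122079 = n225338 := ndS (p := 111460) (l := 3) rfl N111460 D225338
theorem N122080 : nd 122080 = n225339 := ndS (p := 111481) (l := 0) rfl N111481 D225339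
theorem N122081 : nd 122081 = n225340 := ndS (p := 111483) (l := 6) rfl N111483 D225340
theorem N122082 : nd 122082 = n225341 := ndS (p := 111486) (l := 6) rfl N111486 D225341
theorem N122083 : nd 122083 = n225342 := ndS (p := 111491) (l := 6) rfl N111491 D225342
theorem N122084 : nd 122084 = n225343 := ndS (p := 111494) (l := 1) rfl N111494 D225343
theorem N122085 : nd 122085 = n225344 := ndS (p := 111501) (l := 4) rfl N111501 D225344
theorem N122086 : nd 122086 = n225345 := ndS (p := 111506) (l := 5) rfl N111506 D225345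
theorem N122087 : nd 122087 = n225346 := ndS (p := 111509) (l := 5) rfl N111509 D225346
theorem N122088 : nd 122088 = n225347 := ndS (p := 111511) (l := 5) rfl N111511 D225347
theorem N122089 : nd 122089 = n225348 := ndS (p := 111518) (l := 6) rfl N111518 D225348
theorem N122090 : nd 122090 = n225349 := ndS (p := 111519) (l := 3) rfl N111519 D225349
theorem N122091 : nd 122091 = n225350 := ndS (p := 111521) (l := 4) rfl N111521 D225350
theorem N122092 : nd 122092 = n225351 := ndS (p := 111556) (l := 5) rfl N111556 D225351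
theorem N122093 : nd 122093 = n225352 := ndS (p := 111566) (l := 1) rfl N111566 D225352
theorem N122094 : nd 122094 = n225353 := ndS (p := 111571) (l := 6) rfl N111571 D225353
theorem N122095 : nd 122095 = n225354 := ndS (p := 111601) (l := 3) rfl N111601 D225354
theorem N122096 : nd 122096 = n225355 := ndS (p := 111626) (l := 6) rfl N111626 D225355
theorem N122097 : nd 122097 = n225356 := ndS (p := 111628) (l := 0) rfl N111628 D225356
theorem N122098 : nd 122098 = n225357 := ndS (p := 111638) (l := 6) rfl N111638 D225357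
theorem N122099 : nd 122099 = n225358 := ndS (p := 111644) (l := 0) rfl N111644 D225358
theorem N122100 : nd 122100 = n225359 := ndS (p := 111654) (l := 6) rfl N111654 D225359
theorem N122101 : nd 122101 = n225360 := ndS (p := 111655) (l := 1) rfl N111655 D225360
theorem N122102 : nd 122102 = n225361 := ndS (p := 111655) (l := 6) rfl N111655 D225361
theorem N122103 : nd 122103 = n225362 := ndS (p := 111702) (l := 6) rfl N111702 D225362
theorem N122104 : nd 122104 = n225363 := ndS (p := 111706) (l := 4) rfl N111706 D225363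
theorem N122105 : nd 122105 = n225364 := ndS (p := 111707) (l := 0) rfl N111707 D225364
theorem N122106 : nd 122106 = n225365 := ndS (p := 111707) (l := 5) rfl N111707 D225365
theorem N122107 : nd 122107 = n225366 := ndS (p := 111712) (l := 5) rfl N111712 D225366
theorem N122108 : nd 122108 = n225367 := ndS (p := 111719) (l := 5) rfl N111719 D225367
theorem N122109 : nd 122109 = n225368 := ndS (p := 111736) (l := 6) rfl N111736 D225368
theorem N122110 : nd 122110 = n225369 := ndS (p := 111776) (l := 0) rfl N111776 D225369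
theorem N122111 : nd 122111 = n225370 := ndS (p := 111786) (l := 4) rfl N111786 D225370
theorem N122112 : nd 122112 = n225371 := ndS (p := 111793) (l := 0) rfl N111793 D225371
theorem N122113 : nd 122113 = n225372 := ndS (p := 111793) (l := 5) rfl N111793 D225372
theorem N122114 : nd 122114 = n225373 := ndS (p := 111794) (l := 5) rfl N111794 D225373
theorem N122115 : nd 122115 = n225374 := ndS (p := 111795) (l := 5) rfl N111795 D225374
theorem N122116 : nd 122116 = n225375 := ndS (p := 111806) (l := 0) rfl N111806 D225375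
theorem N122117 : nd 122117 = n225376 := ndS (p := 111820) (l := 6) rfl N111820 D225376
theorem N122118 : nd 122118 = n225377 := ndS (p := 111823) (l := 7) rfl N111823 D225377
theorem N122119 : nd 122119 = n225378 := ndS (p := 111834) (l := 6) rfl N111834 D225378
theorem N122120 : nd 122120 = n225379 := ndS (p := 111853) (l := 6) rfl N111853 D225379
theorem N122121 : nd 122121 = n225380 := ndS (p := 111854) (l := 0) rfl N111854 D225380
theorem N122122 : nd 122122 = n225381 := ndS (p := 111861) (l := 5) rfl N111861 D225381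
theorem N122123 : nd 122123 = n225382 := ndS (p := 111883) (l := 3) rfl N111883 D225382
theorem N122124 : nd 122124 = n225383 := ndS (p := 111883) (l := 6) rfl N111883 D225383
theorem N122125 : nd 122125 = n225384 := ndS (p := 111887) (l := 3) rfl N111887 D225384
theorem N122126 : nd 122126 = n225385 := ndS (p := 111888) (l := 3) rfl N111888 D225385
theorem N122127 : nd 122127 = n225386 := ndS (p := 111897) (l := 3) rfl N111897 D225386
theorem N122128 : nd 122128 = n225387 := ndS (p := 111899) (l := 6) rfl N111899 D225387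
theorem N122129 : nd 122129 = n225388 := ndS (p := 111903) (l := 4) rfl N111903 D225388
theorem N122130 : nd 122130 = n225389 := ndS (p := 111912) (l := 3) rfl N111912 D225389
theorem N122131 : nd 122131 = n225390 := ndS (p := 111913) (l := 6) rfl N111913 D225390
theorem N122132 : nd 122132 = n225391 := ndS (p := 111917) (l := 3) rfl N111917 D225391
theorem N122133 : nd 122133 = n225392 := ndS (p := 111917) (l := 4) rfl N111917 D225392
theorem N122134 : nd 122134 = n225393 := ndS (p := 111948) (l := 5) rfl N111948 D225393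
theorem N122135 : nd 122135 = n225394 := ndS (p := 111948) (l := 7) rfl N111948 D225394
theorem N122136 : nd 122136 = n225395 := ndS (p := 111951) (l := 6) rfl N111951 D225395
theorem N122137 : nd 122137 = n225396 := ndS (p := 111952) (l := 1) rfl N111952 D225396
theorem N122138 : nd 122138 = n225397 := ndS (p := 111952) (l := 7) rfl N111952 D225397
theorem N122139 : nd 122139 = n225398 := ndS (p := 111953) (l := 0) rfl N111953 D225398
theorem N122140 : nd 122140 = n225399 := ndS (p := 111953) (l := 5) rfl N111953 D225399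
theorem N122141 : nd 122141 = n225400 := ndS (p := 111953) (l := 7) rfl N111953 D225400
theorem N122142 : nd 122142 = n225401 := ndS (p := 111959) (l := 5) rfl N111959 D225401
theorem N122143 : nd 122143 = n225402 := ndS (p := 111959) (l := 6) rfl N111959 D225402
theorem N122144 : nd 122144 = n225403 := ndS (p := 111960) (l := 4) rfl N111960 D225403
theorem N122145 : nd 122145 = n225404 := ndS (p := 111968) (l := 1) rfl N111968 D225404
theorem N122146 : nd 122146 = n225405 := ndS (p := 111979) (l := 1) rfl N111979 D225405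
theorem N122147 : nd 122147 = n225406 := ndS (p := 111983) (l := 4) rfl N111983 D225406
theorem N122148 : nd 122148 = n225407 := ndS (p := 111984) (l := 4) rfl N111984 D225407
theorem N122149 : nd 122149 = n225408 := ndS (p := 112000) (l := 5) rfl N112000 D225408
theorem N122150 : nd 122150 = n225409 := ndS (p := 112018) (l := 5) rfl N112018 D225409
theorem N122151 : nd 122151 = n225410 := ndS (p := 112021) (l := 5) rfl N112021 D225410
theorem N122152 : nd 122152 = n225411 := ndS (p := 112026) (l := 0) rfl N112026 D225411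
theorem N122153 : nd 122153 = n225412 := ndS (p := 112026) (l := 1) rfl N112026 D225412
theorem N122154 : nd 122154 = n225413 := ndS (p := 112035) (l := 3) rfl N112035 D225413
theorem N122155 : nd 122155 = n225414 := ndS (p := 112035) (l := 6) rfl N112035 D225414
theorem N122156 : nd 122156 = n225415 := ndS (p := 112037) (l := 5) rfl N112037 D225415
theorem N122157 : nd 122157 = n225416 := ndS (p := 112052) (l := 5) rfl N112052 D225416
theorem N122158 : nd 122158 = n225417 := ndS (p := 112053) (l := 7) rfl N112053 D225417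
theorem N122159 : nd 122159 = n225418 := ndS (p := 112054) (l := 5) rfl N112054 D225418
theorem N122160 : nd 122160 = n225419 := ndS (p := 112056) (l := 3) rfl N112056 D225419
theorem N122161 : nd 122161 = n225420 := ndS (p := 112057) (l := 3) rfl N112057 D225420
theorem N122162 : nd 122162 = n225421 := ndS (p := 112064) (l := 6) rfl N112064 D225421
theorem N122163 : nd 122163 = n225422 := ndS (p := 112069) (l := 4) rfl N112069 D225422
theorem N122164 : nd 122164 = n225423 := ndS (p := 112069) (l := 6) rfl N112069 D225423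
theorem N122165 : nd 122165 = n225424 := ndS (p := 112084) (l := 5) rfl N112084 D225424
theorem N122166 : nd 122166 = n225425 := ndS (p := 112098) (l := 5) rfl N112098 D225425
theorem N122167 : nd 122167 = n225426 := ndS (p := 112099) (l := 6) rfl N112099 D225426
theorem N122168 : nd 122168 = n225427 := ndS (p := 112108) (l := 6) rfl N112108 D225427
theorem N122169 : nd 122169 = n225428 := ndS (p := 112179) (l := 7) rfl N112179 D225428
theorem N122170 : nd 122170 = n225429 := ndS (p := 112186) (l := 5) rfl N112186 D225429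
theorem N122171 : nd 122171 = n225430 := ndS (p := 112195) (l := 1) rfl N112195 D225430
theorem N122172 : nd 122172 = n225431 := ndS (p := 112195) (l := 2) rfl N112195 D225431
theorem N122173 : nd 122173 = n225432 := ndS (p := 112197) (l := 4) rfl N112197 D225432
theorem N122174 : nd 122174 = n225433 := ndS (p := 112209) (l := 3) rfl N112209 D225433
theorem N122175 : nd 122175 = n225434 := ndS (p := 112219) (l := 6) rfl N112219 D225434
theorem N122176 : nd 122176 = n225435 := ndS (p := 112243) (l := 4) rfl N112243 D225435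
theorem N122177 : nd 122177 = n225436 := ndS (p := 112258) (l := 3) rfl N112258 D225436
theorem N122178 : nd 122178 = n225437 := ndS (p := 112332) (l := 0) rfl N112332 D225437
theorem N122179 : nd 122179 = n225438 := ndS (p := 112332) (l := 7) rfl N112332 D225438
theorem N122180 : nd 122180 = n225439 := ndS (p := 112340) (l := 0) rfl N112340 D225439
theorem N122181 : nd 122181 = n225440 := ndS (p := 112368) (l := 5) rfl N112368 D225440
theorem N122182 : nd 122182 = n225441 := ndS (p := 112370) (l := 5) rfl N112370 D225441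
theorem N122183 : nd 122183 = n225442 := ndS (p := 112419) (l := 5) rfl N112419 D225442
theorem N122184 : nd 122184 = n225443 := ndS (p := 112420) (l := 5) rfl N112420 D225443
theorem N122185 : nd 122185 = n225444 := ndS (p := 112423) (l := 5) rfl N112423 D225444
theorem N122186 : nd 122186 = n225445 := ndS (p := 112425) (l := 4) rfl N112425 D225445
theorem N122187 : nd 122187 = n225446 := ndS (p := 112442) (l := 5) rfl N112442 D225446
theorem N122188 : nd 122188 = n225447 := ndS (p := 112443) (l := 1) rfl N112443 D225447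
theorem N122189 : nd 122189 = n225448 := ndS (p := 112443) (l := 4) rfl N112443 D225448
theorem N122190 : nd 122190 = n225449 := ndS (p := 112452) (l := 5) rfl N112452 D225449
theorem N122191 : nd 122191 = n225450 := ndS (p := 112454) (l := 5) rfl N112454 D225450
theorem N122192 : nd 122192 = n225451 := ndS (p := 112455) (l := 0) rfl N112455 D225451
theorem N122193 : nd 122193 = n225452 := ndS (p := 112455) (l := 4) rfl N112455 D225452
theorem N122194 : nd 122194 = n225453 := ndS (p := 112466) (l := 5) rfl N112466 D225453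
theorem N122195 : nd 122195 = n225454 := ndS (p := 112520) (l := 5) rfl N112520 D225454
theorem N122196 : nd 122196 = n225455 := ndS (p := 112525) (l := 0) rfl N112525 D225455
theorem N122197 : nd 122197 = n225456 := ndS (p := 112543) (l := 0) rfl N112543 D225456
theorem N122198 : nd 122198 = n225457 := ndS (p := 112543) (l := 1) rfl N112543 D225457
theorem N122199 : nd 122199 = n225458 := ndS (p := 112553) (l := 5) rfl N112553 D225458
theorem N122200 : nd 122200 = n225459 := ndS (p := 112575) (l := 3) rfl N112575 D225459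
theorem N122201 : nd 122201 = n225460 := ndS (p := 112580) (l := 4) rfl N112580 D225460
theorem N122202 : nd 122202 = n225461 := ndS (p := 112590) (l := 3) rfl N112590 D225461
theorem N122203 : nd 122203 = n225462 := ndS (p := 112595) (l := 0) rfl N112595 D225462
theorem N122204 : nd 122204 = n225463 := ndS (p := 112603) (l := 6) rfl N112603 D225463
theorem N122205 : nd 122205 = n225464 := ndS (p := 112669) (l := 5) rfl N112669 D225464
theorem N122206 : nd 122206 = n225465 := ndS (p := 112679) (l := 5) rfl N112679 D225465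
theorem N122207 : nd 122207 = n225466 := ndS (p := 112685) (l := 6) rfl N112685 D225466
theorem N122208 : nd 122208 = n225467 := ndS (p := 112687) (l := 5) rfl N112687 D225467
theorem N122209 : nd 122209 = n225468 := ndS (p := 112690) (l := 4) rfl N112690 D225468
theorem N122210 : nd 122210 = n225469 := ndS (p := 112735) (l := 5) rfl N112735 D225469
theorem N122211 : nd 122211 = n225470 := ndS (p := 112739) (l := 4) rfl N112739 D225470
theorem N122212 : nd 122212 = n225471 := ndS (p := 112741) (l := 0) rfl N112741 D225471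
theorem N122213 : nd 122213 = n225472 := ndS (p := 112741) (l := 7) rfl N112741 D225472
theorem N122214 : nd 122214 = n225473 := ndS (p := 112743) (l := 2) rfl N112743 D225473
theorem N122215 : nd 122215 = n225474 := ndS (p := 112745) (l := 4) rfl N112745 D225474
theorem N122216 : nd 122216 = n225475 := ndS (p := 112748) (l := 5) rfl N112748 D225475
theorem N122217 : nd 122217 = n225476 := ndS (p := 112749) (l := 6) rfl N112749 D225476
theorem N122218 : nd 122218 = n225477 := ndS (p := 112752) (l := 0) rfl N112752 D225477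
theorem N122219 : nd 122219 = n225478 := ndS (p := 112763) (l := 6) rfl N112763 D225478
theorem N122220 : nd 122220 = n225479 := ndS (p := 112771) (l := 4) rfl N112771 D225479
theorem N122221 : nd 122221 = n225480 := ndS (p := 112772) (l := 5) rfl N112772 D225480
theorem N122222 : nd 122222 = n225481 := ndS (p := 112776) (l := 5) rfl N112776 D225481
theorem N122223 : nd 122223 = n225482 := ndS (p := 112777) (l := 4) rfl N112777 D225482
theorem N122224 : nd 122224 = n225483 := ndS (p := 112778) (l := 3) rfl N112778 D225483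
theorem N122225 : nd 122225 = n225484 := ndS (p := 112780) (l := 5) rfl N112780 D225484
theorem N122226 : nd 122226 = n225485 := ndS (p := 112781) (l := 5) rfl N112781 D225485
theorem N122227 : nd 122227 = n225486 := ndS (p := 112782) (l := 3) rfl N112782 D225486
theorem N122228 : nd 122228 = n225487 := ndS (p := 112782) (l := 5) rfl N112782 D225487
theorem N122229 : nd 122229 = n225488 := ndS (p := 112783) (l := 2) rfl N112783 D225488
theorem N122230 : nd 122230 = n225489 := ndS (p := 112788) (l := 0) rfl N112788 D225489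
theorem N122231 : nd 122231 = n225490 := ndS (p := 112788) (l := 2) rfl N112788 D225490
theorem N122232 : nd 122232 = n225491 := ndS (p := 112789) (l := 7) rfl N112789 D225491
theorem N122233 : nd 122233 = n225492 := ndS (p := 112795) (l := 6) rfl N112795 D225492
theorem N122234 : nd 122234 = n225493 := ndS (p := 112859) (l := 4) rfl N112859 D225493
theorem N122235 : nd 122235 = n225494 := ndS (p := 112886) (l := 7) rfl N112886 D225494
theorem N122236 : nd 122236 = n225495 := ndS (p := 112893) (l := 1) rfl N112893 D225495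
theorem N122237 : nd 122237 = n225496 := ndS (p := 112901) (l := 0) rfl N112901 D225496
theorem N122238 : nd 122238 = n225497 := ndS (p := 112902) (l := 5) rfl N112902 D225497
theorem N122239 : nd 122239 = n225498 := ndS (p := 112903) (l := 2) rfl N112903 D225498
theorem N122240 : nd 122240 = n225499 := ndS (p := 112903) (l := 5) rfl N112903 D225499
theorem N122241 : nd 122241 = n225500 := ndS (p := 112904) (l := 1) rfl N112904 D225500
theorem N122242 : nd 122242 = n225501 := ndS (p := 112916) (l := 6) rfl N112916 D225501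
theorem N122243 : nd 122243 = n225502 := ndS (p := 112919) (l := 0) rfl N112919 D225502
theorem N122244 : nd 122244 = n225503 := ndS (p := 112920) (l := 5) rfl N112920 D225503
theorem N122245 : nd 122245 = n225504 := ndS (p := 112927) (l := 3) rfl N112927 D225504
theorem N122246 : nd 122246 = n225505 := ndS (p := 112929) (l := 6) rfl N112929 D225505
theorem N122247 : nd 122247 = n225506 := ndS (p := 112935) (l := 6) rfl N112935 D225506
theorem N122248 : nd 122248 = n225507 := ndS (p := 112936) (l := 2) rfl N112936 D225507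
theorem N122249 : nd 122249 = n225508 := ndS (p := 112936) (l := 6) rfl N112936 D225508
theorem N122250 : nd 122250 = n225509 := ndS (p := 112938) (l := 5) rfl N112938 D225509
theorem N122251 : nd 122251 = n225510 := ndS (p := 112946) (l := 4) rfl N112946 D225510
theorem N122252 : nd 122252 = n225511 := ndS (p := 112947) (l := 4) rfl N112947 D225511
theorem N122253 : nd 122253 = n225512 := ndS (p := 112952) (l := 3) rfl N112952 D225512
theorem N122254 : nd 122254 = n225513 := ndS (p := 112956) (l := 3) rfl N112956 D225513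
theorem N122255 : nd 122255 = n225514 := ndS (p := 112956) (l := 6) rfl N112956 D225514
theorem N122256 : nd 122256 = n225515 := ndS (p := 112957) (l := 0) rfl N112957 D225515
theorem N122257 : nd 122257 = n225516 := ndS (p := 112960) (l := 0) rfl N112960 D225516
theorem N122258 : nd 122258 = n225517 := ndS (p := 112960) (l := 2) rfl N112960 D225517
theorem N122259 : nd 122259 = n225518 := ndS (p := 112960) (l := 6) rfl N112960 D225518
theorem N122260 : nd 122260 = n225519 := ndS (p := 112961) (l := 0) rfl N112961 D225519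
theorem N122261 : nd 122261 = n225520 := ndS (p := 112961) (l := 1) rfl N112961 D225520
theorem N122262 : nd 122262 = n225521 := ndS (p := 112962) (l := 4) rfl N112962 D225521
theorem N122263 : nd 122263 = n225522 := ndS (p := 112963) (l := 4) rfl N112963 D225522
theorem N122264 : nd 122264 = n225523 := ndS (p := 112966) (l := 4) rfl N112966 D225523
theorem N122265 : nd 122265 = n225524 := ndS (p := 112967) (l := 4) rfl N112967 D225524
theorem N122266 : nd 122266 = n225525 := ndS (p := 112971) (l := 0) rfl N112971 D225525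
theorem N122267 : nd 122267 = n225526 := ndS (p := 112972) (l := 3) rfl N112972 D225526
theorem N122268 : nd 122268 = n225527 := ndS (p := 112973) (l := 3) rfl N112973 D225527
theorem N122269 : nd 122269 = n225528 := ndS (p := 112976) (l := 0) rfl N112976 D225528
theorem N122270 : nd 122270 = n225529 := ndS (p := 112978) (l := 3) rfl N112978 D225529
theorem N122271 : nd 122271 = n225530 := ndS (p := 112982) (l := 3) rfl N112982 D225530
theorem N122272 : nd 122272 = n225531 := ndS (p := 112983) (l := 7) rfl N112983 D225531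
theorem N122273 : nd 122273 = n225532 := ndS (p := 112989) (l := 3) rfl N112989 D225532
theorem N122274 : nd 122274 = n225533 := ndS (p := 112991) (l := 6) rfl N112991 D225533
theorem N122275 : nd 122275 = n225534 := ndS (p := 113027) (l := 1) rfl N113027 D225534
theorem N122276 : nd 122276 = n225535 := ndS (p := 113061) (l := 6) rfl N113061 D225535
theorem N122277 : nd 122277 = n225536 := ndS (p := 113068) (l := 3) rfl N113068 D225536
theorem N122278 : nd 122278 = n225537 := ndS (p := 113070) (l := 0) rfl N113070 D225537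
theorem N122279 : nd 122279 = n225538 := ndS (p := 113070) (l := 1) rfl N113070 D225538
theorem N122280 : nd 122280 = n225539 := ndS (p := 113087) (l := 6) rfl N113087 D225539
theorem N122281 : nd 122281 = n225540 := ndS (p := 113118) (l := 5) rfl N113118 D225540
theorem N122282 : nd 122282 = n225541 := ndS (p := 113130) (l := 4) rfl N113130 D225541
theorem N122283 : nd 122283 = n225542 := ndS (p := 113167) (l := 7) rfl N113167 D225542
theorem N122284 : nd 122284 = n225543 := ndS (p := 113176) (l := 5) rfl N113176 D225543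
theorem N122285 : nd 122285 = n225544 := ndS (p := 113199) (l := 3) rfl N113199 D225544
theorem N122286 : nd 122286 = n225545 := ndS (p := 113211) (l := 7) rfl N113211 D225545
theorem N122287 : nd 122287 = n225546 := ndS (p := 113233) (l := 5) rfl N113233 D225546
theorem N122288 : nd 122288 = n225547 := ndS (p := 113235) (l := 6) rfl N113235 D225547
theorem N122289 : nd 122289 = n225548 := ndS (p := 113236) (l := 1) rfl N113236 D225548
theorem N122290 : nd 122290 = n225549 := ndS (p := 113246) (l := 5) rfl N113246 D225549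
theorem N122291 : nd 122291 = n225550 := ndS (p := 113256) (l := 6) rfl N113256 D225550
theorem N122292 : nd 122292 = n225551 := ndS (p := 113290) (l := 6) rfl N113290 D225551
theorem N122293 : nd 122293 = n225552 := ndS (p := 113340) (l := 5) rfl N113340 D225552
theorem N122294 : nd 122294 = n225553 := ndS (p := 113345) (l := 4) rfl N113345 D225553
theorem N122295 : nd 122295 = n225554 := ndS (p := 113346) (l := 3) rfl N113346 D225554
theorem N122296 : nd 122296 = n225555 := ndS (p := 113351) (l := 3) rfl N113351 D225555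
theorem N122297 : nd 122297 = n225556 := ndS (p := 113354) (l := 5) rfl N113354 D225556
theorem N122298 : nd 122298 = n225557 := ndS (p := 113355) (l := 1) rfl N113355 D225557
theorem N122299 : nd 122299 = n225558 := ndS (p := 113358) (l := 5) rfl N113358 D225558
theorem N122300 : nd 122300 = n225559 := ndS (p := 113359) (l := 3) rfl N113359 D225559
theorem N122301 : nd 122301 = n225560 := ndS (p := 113360) (l := 4) rfl N113360 D225560
theorem N122302 : nd 122302 = n225561 := ndS (p := 113361) (l := 0) rfl N113361 D225561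
theorem N122303 : nd 122303 = n225562 := ndS (p := 113361) (l := 1) rfl N113361 D225562
theorem N122304 : nd 122304 = n225563 := ndS (p := 113362) (l := 0) rfl N113362 D225563
theorem N122305 : nd 122305 = n225564 := ndS (p := 113389) (l := 2) rfl N113389 D225564
theorem N122306 : nd 122306 = n225565 := ndS (p := 113392) (l := 1) rfl N113392 D225565
theorem N122307 : nd 122307 = n225566 := ndS (p := 113392) (l := 2) rfl N113392 D225566
theorem N122308 : nd 122308 = n225567 := ndS (p := 113394) (l := 6) rfl N113394 D225567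
theorem N122309 : nd 122309 = n225568 := ndS (p := 113395) (l := 1) rfl N113395 D225568
theorem N122310 : nd 122310 = n225569 := ndS (p := 113395) (l := 2) rfl N113395 D225569
theorem N122311 : nd 122311 = n225570 := ndS (p := 113402) (l := 5) rfl N113402 D225570
theorem N122312 : nd 122312 = n225571 := ndS (p := 113403) (l := 5) rfl N113403 D225571
theorem N122313 : nd 122313 = n225572 := ndS (p := 113406) (l := 0) rfl N113406 D225572
theorem N122314 : nd 122314 = n225573 := ndS (p := 113413) (l := 4) rfl N113413 D225573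
theorem N122315 : nd 122315 = n225574 := ndS (p := 113434) (l := 6) rfl N113434 D225574
theorem N122316 : nd 122316 = n225575 := ndS (p := 113438) (l := 2) rfl N113438 D225575
theorem N122317 : nd 122317 = n225576 := ndS (p := 113486) (l := 6) rfl N113486 D225576
theorem N122318 : nd 122318 = n225577 := ndS (p := 113491) (l := 4) rfl N113491 D225577
theorem N122319 : nd 122319 = n225578 := ndS (p := 113493) (l := 3) rfl N113493 D225578
theorem N122320 : nd 122320 = n225579 := ndS (p := 113494) (l := 6) rfl N113494 D225579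
theorem N122321 : nd 122321 = n225580 := ndS (p := 113498) (l := 3) rfl N113498 D225580
theorem N122322 : nd 122322 = n225581 := ndS (p := 113501) (l := 7) rfl N113501 D225581
theorem N122323 : nd 122323 = n225582 := ndS (p := 113513) (l := 5) rfl N113513 D225582
theorem N122324 : nd 122324 = n225583 := ndS (p := 113535) (l := 5) rfl N113535 D225583
theorem N122325 : nd 122325 = n225584 := ndS (p := 113536) (l := 3) rfl N113536 D225584
theorem N122326 : nd 122326 = n225585 := ndS (p := 113537) (l := 5) rfl N113537 D225585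
theorem N122327 : nd 122327 = n225586 := ndS (p := 113539) (l := 5) rfl N113539 D225586
theorem N122328 : nd 122328 = n225587 := ndS (p := 113551) (l := 6) rfl N113551 D225587
theorem N122329 : nd 122329 = n225588 := ndS (p := 113553) (l := 7) rfl N113553 D225588
theorem N122330 : nd 122330 = n225589 := ndS (p := 113562) (l := 5) rfl N113562 D225589
theorem N122331 : nd 122331 = n225590 := ndS (p := 113569) (l := 4) rfl N113569 D225590
theorem N122332 : nd 122332 = n225591 := ndS (p := 113599) (l := 6) rfl N113599 D225591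
theorem N122333 : nd 122333 = n225592 := ndS (p := 113601) (l := 6) rfl N113601 D225592
theorem N122334 : nd 122334 = n225593 := ndS (p := 113642) (l := 5) rfl N113642 D225593
theorem N122335 : nd 122335 = n225594 := ndS (p := 113648) (l := 5) rfl N113648 D225594
theorem N122336 : nd 122336 = n225595 := ndS (p := 113653) (l := 5) rfl N113653 D225595
theorem N122337 : nd 122337 = n225596 := ndS (p := 113657) (l := 3) rfl N113657 D225596
theorem N122338 : nd 122338 = n225597 := ndS (p := 113657) (l := 6) rfl N113657 D225597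
theorem N122339 : nd 122339 = n225598 := ndS (p := 113670) (l := 5) rfl N113670 D225598
theorem N122340 : nd 122340 = n225599 := ndS (p := 113672) (l := 6) rfl N113672 D225599
theorem N122341 : nd 122341 = n225600 := ndS (p := 113680) (l := 4) rfl N113680 D225600
theorem N122342 : nd 122342 = n225601 := ndS (p := 113688) (l := 4) rfl N113688 D225601
theorem N122343 : nd 122343 = n225602 := ndS (p := 113689) (l := 5) rfl N113689 D225602
theorem N122344 : nd 122344 = n225603 := ndS (p := 113710) (l := 6) rfl N113710 D225603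
theorem N122345 : nd 122345 = n225604 := ndS (p := 113730) (l := 0) rfl N113730 D225604
theorem N122346 : nd 122346 = n225605 := ndS (p := 113732) (l := 6) rfl N113732 D225605
theorem N122347 : nd 122347 = n225606 := ndS (p := 113733) (l := 0) rfl N113733 D225606
theorem N122348 : nd 122348 = n225607 := ndS (p := 113734) (l := 3) rfl N113734 D225607
theorem N122349 : nd 122349 = n225608 := ndS (p := 113738) (l := 2) rfl N113738 D225608
theorem N122350 : nd 122350 = n225609 := ndS (p := 113738) (l := 4) rfl N113738 D225609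
theorem N122351 : nd 122351 = n225610 := ndS (p := 113739) (l := 6) rfl N113739 D225610
theorem N122352 : nd 122352 = n225611 := ndS (p := 113755) (l := 5) rfl N113755 D225611
theorem N122353 : nd 122353 = n225612 := ndS (p := 113758) (l := 1) rfl N113758 D225612
theorem N122354 : nd 122354 = n225613 := ndS (p := 113789) (l := 1) rfl N113789 D225613
theorem N122355 : nd 122355 = n225614 := ndS (p := 113789) (l := 7) rfl N113789 D225614
theorem N122356 : nd 122356 = n225615 := ndS (p := 113793) (l := 6) rfl N113793 D225615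
theorem N122357 : nd 122357 = n225616 := ndS (p := 113794) (l := 7) rfl N113794 D225616
theorem N122358 : nd 122358 = n225617 := ndS (p := 113797) (l := 5) rfl N113797 D225617
theorem N122359 : nd 122359 = n225618 := ndS (p := 113798) (l := 4) rfl N113798 D225618
theorem N122360 : nd 122360 = n225619 := ndS (p := 113814) (l := 4) rfl N113814 D225619
theorem N122361 : nd 122361 = n225620 := ndS (p := 113827) (l := 3) rfl N113827 D225620
theorem N122362 : nd 122362 = n225621 := ndS (p := 113849) (l := 5) rfl N113849 D225621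
theorem N122363 : nd 122363 = n225622 := ndS (p := 113849) (l := 6) rfl N113849 D225622
theorem N122364 : nd 122364 = n225623 := ndS (p := 113852) (l := 4) rfl N113852 D225623
theorem N122365 : nd 122365 = n225624 := ndS (p := 113873) (l := 7) rfl N113873 D225624
theorem N122366 : nd 122366 = n225625 := ndS (p := 113876) (l := 1) rfl N113876 D225625
theorem N122367 : nd 122367 = n225626 := ndS (p := 113899) (l := 7) rfl N113899 D225626
theorem N122368 : nd 122368 = n225627 := ndS (p := 113905) (l := 3) rfl N113905 D225627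
theorem N122369 : nd 122369 = n225628 := ndS (p := 113922) (l := 3) rfl N113922 D225628
theorem N122370 : nd 122370 = n225629 := ndS (p := 113937) (l := 6) rfl N113937 D225629
theorem N122371 : nd 122371 = n225630 := ndS (p := 113942) (l := 4) rfl N113942 D225630
theorem N122372 : nd 122372 = n225631 := ndS (p := 113942) (l := 6) rfl N113942 D225631
theorem N122373 : nd 122373 = n225632 := ndS (p := 113955) (l := 7) rfl N113955 D225632
theorem N122374 : nd 122374 = n225633 := ndS (p := 113958) (l := 1) rfl N113958 D225633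
theorem N122375 : nd 122375 = n225634 := ndS (p := 113965) (l := 3) rfl N113965 D225634
theorem N122376 : nd 122376 = n225635 := ndS (p := 113975) (l := 3) rfl N113975 D225635
theorem N122377 : nd 122377 = n225636 := ndS (p := 113983) (l := 6) rfl N113983 D225636
theorem N122378 : nd 122378 = n225637 := ndS (p := 113984) (l := 7) rfl N113984 D225637
theorem N122379 : nd 122379 = n225638 := ndS (p := 114000) (l := 1) rfl N114000 D225638
theorem N122380 : nd 122380 = n225639 := ndS (p := 114044) (l := 7) rfl N114044 D225639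
theorem N122381 : nd 122381 = n225640 := ndS (p := 114049) (l := 6) rfl N114049 D225640
theorem N122382 : nd 122382 = n225641 := ndS (p := 114068) (l := 3) rfl N114068 D225641
theorem N122383 : nd 122383 = n225642 := ndS (p := 114087) (l := 0) rfl N114087 D225642
theorem N122384 : nd 122384 = n225643 := ndS (p := 114090) (l := 3) rfl N114090 D225643
theorem N122385 : nd 122385 = n225644 := ndS (p := 114092) (l := 6) rfl N114092 D225644
theorem N122386 : nd 122386 = n225645 := ndS (p := 114093) (l := 3) rfl N114093 D225645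
theorem N122387 : nd 122387 = n225646 := ndS (p := 114093) (l := 6) rfl N114093 D225646
theorem N122388 : nd 122388 = n225647 := ndS (p := 114094) (l := 0) rfl N114094 D225647
theorem N122389 : nd 122389 = n225648 := ndS (p := 114094) (l := 7) rfl N114094 D225648
theorem N122390 : nd 122390 = n225649 := ndS (p := 114095) (l := 3) rfl N114095 D225649
theorem N122391 : nd 122391 = n225650 := ndS (p := 114095) (l := 6) rfl N114095 D225650
theorem N122392 : nd 122392 = n225651 := ndS (p := 114096) (l := 7) rfl N114096 D225651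
theorem N122393 : nd 122393 = n225652 := ndS (p := 114105) (l := 0) rfl N114105 D225652
theorem N122394 : nd 122394 = n225653 := ndS (p := 114107) (l := 5) rfl N114107 D225653
theorem N122395 : nd 122395 = n225654 := ndS (p := 114113) (l := 4) rfl N114113 D225654
theorem N122396 : nd 122396 = n225655 := ndS (p := 114114) (l := 4) rfl N114114 D225655
theorem N122397 : nd 122397 = n225656 := ndS (p := 114128) (l := 5) rfl N114128 D225656
theorem N122398 : nd 122398 = n225657 := ndS (p := 114130) (l := 5) rfl N114130 D225657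
theorem N122399 : nd 122399 = n225658 := ndS (p := 114139) (l := 3) rfl N114139 D225658
theorem N122400 : nd 122400 = n225659 := ndS (p := 114149) (l := 2) rfl N114149 D225659
theorem N122401 : nd 122401 = n225660 := ndS (p := 114152) (l := 6) rfl N114152 D225660
theorem N122402 : nd 122402 = n225661 := ndS (p := 114160) (l := 6) rfl N114160 D225661
theorem N122403 : nd 122403 = n225662 := ndS (p := 114167) (l := 3) rfl N114167 D225662
theorem N122404 : nd 122404 = n225663 := ndS (p := 114167) (l := 6) rfl N114167 D225663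
theorem N122405 : nd 122405 = n225664 := ndS (p := 114171) (l := 3) rfl N114171 D225664
theorem N122406 : nd 122406 = n225665 := ndS (p := 114171) (l := 6) rfl N114171 D225665
theorem N122407 : nd 122407 = n225666 := ndS (p := 114173) (l := 6) rfl N114173 D225666
theorem N122408 : nd 122408 = n225667 := ndS (p := 114175) (l := 4) rfl N114175 D225667
theorem N122409 : nd 122409 = n225668 := ndS (p := 114190) (l := 4) rfl N114190 D225668
theorem N122410 : nd 122410 = n225669 := ndS (p := 114206) (l := 4) rfl N114206 D225669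
theorem N122411 : nd 122411 = n225670 := ndS (p := 114224) (l := 4) rfl N114224 D225670
theorem N122412 : nd 122412 = n225671 := ndS (p := 114226) (l := 5) rfl N114226 D225671
theorem N122413 : nd 122413 = n225672 := ndS (p := 114269) (l := 1) rfl N114269 D225672
theorem N122414 : nd 122414 = n225673 := ndS (p := 114276) (l := 5) rfl N114276 D225673
theorem N122415 : nd 122415 = n225674 := ndS (p := 114287) (l := 5) rfl N114287 D225674
theorem N122416 : nd 122416 = n225675 := ndS (p := 114328) (l := 5) rfl N114328 D225675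
theorem N122417 : nd 122417 = n225676 := ndS (p := 114365) (l := 0) rfl N114365 D225676
theorem N122418 : nd 122418 = n225677 := ndS (p := 114374) (l := 6) rfl N114374 D225677
theorem N122419 : nd 122419 = n225678 := ndS (p := 114381) (l := 3) rfl N114381 D225678
theorem N122420 : nd 122420 = n225679 := ndS (p := 114389) (l := 6) rfl N114389 D225679
theorem N122421 : nd 122421 = n225680 := ndS (p := 114403) (l := 5) rfl N114403 D225680
theorem N122422 : nd 122422 = n225681 := ndS (p := 114488) (l := 5) rfl N114488 D225681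
theorem N122423 : nd 122423 = n225682 := ndS (p := 114525) (l := 5) rfl N114525 D225682
theorem N122424 : nd 122424 = n225683 := ndS (p := 114537) (l := 3) rfl N114537 D225683
theorem N122425 : nd 122425 = n225684 := ndS (p := 114570) (l := 5) rfl N114570 D225684
theorem N122426 : nd 122426 = n225685 := ndS (p := 114576) (l := 5) rfl N114576 D225685
theorem N122427 : nd 122427 = n225686 := ndS (p := 114583) (l := 6) rfl N114583 D225686
theorem N122428 : nd 122428 = n225687 := ndS (p := 114614) (l := 0) rfl N114614 D225687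
theorem N122429 : nd 122429 = n225688 := ndS (p := 114614) (l := 7) rfl N114614 D225688
theorem N122430 : nd 122430 = n225689 := ndS (p := 114618) (l := 5) rfl N114618 D225689
theorem N122431 : nd 122431 = n225690 := ndS (p := 114619) (l := 5) rfl N114619 D225690
theorem N122432 : nd 122432 = n225691 := ndS (p := 114628) (l := 1) rfl N114628 D225691
theorem N122433 : nd 122433 = n225692 := ndS (p := 114678) (l := 5) rfl N114678 D225692
theorem N122434 : nd 122434 = n225693 := ndS (p := 114691) (l := 0) rfl N114691 D225693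
theorem N122435 : nd 122435 = n225694 := ndS (p := 114691) (l := 1) rfl N114691 D225694
theorem N122436 : nd 122436 = n225695 := ndS (p := 114693) (l := 5) rfl N114693 D225695
theorem N122437 : nd 122437 = n225696 := ndS (p := 114694) (l := 1) rfl N114694 D225696
theorem N122438 : nd 122438 = n225697 := ndS (p := 114696) (l := 3) rfl N114696 D225697
theorem N122439 : nd 122439 = n225698 := ndS (p := 114698) (l := 2) rfl N114698 D225698
theorem N122440 : nd 122440 = n225699 := ndS (p := 114698) (l := 4) rfl N114698 D225699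
theorem N122441 : nd 122441 = n225700 := ndS (p := 114702) (l := 1) rfl N114702 D225700
theorem N122442 : nd 122442 = n225701 := ndS (p := 114729) (l := 5) rfl N114729 D225701
theorem N122443 : nd 122443 = n225702 := ndS (p := 114732) (l := 7) rfl N114732 D225702
theorem N122444 : nd 122444 = n225703 := ndS (p := 114782) (l := 5) rfl N114782 D225703
theorem N122445 : nd 122445 = n225704 := ndS (p := 114803) (l := 3) rfl N114803 D225704
theorem N122446 : nd 122446 = n225705 := ndS (p := 114847) (l := 5) rfl N114847 D225705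
theorem N122447 : nd 122447 = n225706 := ndS (p := 114848) (l := 5) rfl N114848 D225706
theorem N122448 : nd 122448 = n225707 := ndS (p := 114850) (l := 5) rfl N114850 D225707
theorem N122449 : nd 122449 = n225708 := ndS (p := 114883) (l := 4) rfl N114883 D225708
theorem N122450 : nd 122450 = n225709 := ndS (p := 114889) (l := 1) rfl N114889 D225709
theorem N122451 : nd 122451 = n225710 := ndS (p := 114958) (l := 1) rfl N114958 D225710
theorem N122452 : nd 122452 = n225711 := ndS (p := 114960) (l := 6) rfl N114960 D225711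
theorem N122453 : nd 122453 = n225712 := ndS (p := 114988) (l := 6) rfl N114988 D225712
theorem N122454 : nd 122454 = n225713 := ndS (p := 114994) (l := 4) rfl N114994 D225713
theorem N122455 : nd 122455 = n225714 := ndS (p := 115002) (l := 6) rfl N115002 D225714
theorem N122456 : nd 122456 = n225715 := ndS (p := 115004) (l := 6) rfl N115004 D225715
theorem N122457 : nd 122457 = n225716 := ndS (p := 115102) (l := 5) rfl N115102 D225716
theorem N122458 : nd 122458 = n225717 := ndS (p := 115125) (l := 6) rfl N115125 D225717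
theorem N122459 : nd 122459 = n225718 := ndS (p := 115132) (l := 4) rfl N115132 D225718
theorem N122460 : nd 122460 = n225719 := ndS (p := 115148) (l := 3) rfl N115148 D225719
theorem N122461 : nd 122461 = n225720 := ndS (p := 115173) (l := 3) rfl N115173 D225720
theorem N122462 : nd 122462 = n225721 := ndS (p := 115173) (l := 6) rfl N115173 D225721
theorem N122463 : nd 122463 = n225722 := ndS (p := 115198) (l := 1) rfl N115198 D225722
theorem N122464 : nd 122464 = n225723 := ndS (p := 115230) (l := 0) rfl N115230 D225723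
theorem N122465 : nd 122465 = n225724 := ndS (p := 115265) (l := 6) rfl N115265 D225724
theorem N122466 : nd 122466 = n225725 := ndS (p := 115273) (l := 6) rfl N115273 D225725
theorem N122467 : nd 122467 = n225726 := ndS (p := 115381) (l := 4) rfl N115381 D225726
theorem N122468 : nd 122468 = n225727 := ndS (p := 115404) (l := 5) rfl N115404 D225727
theorem N122469 : nd 122469 = n225728 := ndS (p := 115441) (l := 6) rfl N115441 D225728
theorem N122470 : nd 122470 = n225729 := ndS (p := 115442) (l := 3) rfl N115442 D225729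
theorem N122471 : nd 122471 = n225730 := ndS (p := 115447) (l := 2) rfl N115447 D225730
theorem N122472 : nd 122472 = n225731 := ndS (p := 115516) (l := 4) rfl N115516 D225731
theorem N122473 : nd 122473 = n225732 := ndS (p := 115521) (l := 3) rfl N115521 D225732
theorem N122474 : nd 122474 = n225733 := ndS (p := 115521) (l := 6) rfl N115521 D225733
theorem N122475 : nd 122475 = n225734 := ndS (p := 115525) (l := 0) rfl N115525 D225734
theorem N122476 : nd 122476 = n225735 := ndS (p := 115525) (l := 2) rfl N115525 D225735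
theorem N122477 : nd 122477 = n225736 := ndS (p := 115540) (l := 0) rfl N115540 D225736
theorem N122478 : nd 122478 = n225737 := ndS (p := 115566) (l := 6) rfl N115566 D225737
theorem N122479 : nd 122479 = n225738 := ndS (p := 115567) (l := 1) rfl N115567 D225738
theorem N122480 : nd 122480 = n225739 := ndS (p := 115573) (l := 1) rfl N115573 D225739
theorem N122481 : nd 122481 = n225740 := ndS (p := 115585) (l := 2) rfl N115585 D225740
theorem N122482 : nd 122482 = n225741 := ndS (p := 115591) (l := 6) rfl N115591 D225741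
theorem N122483 : nd 122483 = n225742 := ndS (p := 115624) (l := 1) rfl N115624 D225742
theorem N122484 : nd 122484 = n225743 := ndS (p := 115639) (l := 3) rfl N115639 D225743
theorem N122485 : nd 122485 = n225744 := ndS (p := 115660) (l := 6) rfl N115660 D225744
theorem N122486 : nd 122486 = n225745 := ndS (p := 115667) (l := 4) rfl N115667 D225745
theorem N122487 : nd 122487 = n225746 := ndS (p := 115707) (l := 4) rfl N115707 D225746
theorem N122488 : nd 122488 = n225747 := ndS (p := 115747) (l := 4) rfl N115747 D225747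
theorem N122489 : nd 122489 = n225748 := ndS (p := 115755) (l := 3) rfl N115755 D225748
theorem N122490 : nd 122490 = n225749 := ndS (p := 115804) (l := 5) rfl N115804 D225749
theorem N122491 : nd 122491 = n225750 := ndS (p := 115808) (l := 6) rfl N115808 D225750
theorem N122492 : nd 122492 = n225751 := ndS (p := 115851) (l := 6) rfl N115851 D225751
theorem N122493 : nd 122493 = n225752 := ndS (p := 115852) (l := 6) rfl N115852 D225752
theorem N122494 : nd 122494 = n225753 := ndS (p := 115854) (l := 6) rfl N115854 D225753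
theorem N122495 : nd 122495 = n225754 := ndS (p := 115885) (l := 6) rfl N115885 D225754
theorem N122496 : nd 122496 = n225755 := ndS (p := 115890) (l := 3) rfl N115890 D225755
theorem N122497 : nd 122497 = n225756 := ndS (p := 115916) (l := 6) rfl N115916 D225756
theorem N122498 : nd 122498 = n225757 := ndS (p := 115917) (l := 6) rfl N115917 D225757
theorem N122499 : nd 122499 = n225758 := ndS (p := 115918) (l := 0) rfl N115918 D225758
theorem N122500 : nd 122500 = n225759 := ndS (p := 115933) (l := 3) rfl N115933 D225759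
theorem N122501 : nd 122501 = n225760 := ndS (p := 115939) (l := 6) rfl N115939 D225760
theorem N122502 : nd 122502 = n225761 := ndS (p := 115983) (l := 5) rfl N115983 D225761
theorem N122503 : nd 122503 = n225762 := ndS (p := 116001) (l := 6) rfl N116001 D225762
theorem N122504 : nd 122504 = n225763 := ndS (p := 116018) (l := 5) rfl N116018 D225763
theorem N122505 : nd 122505 = n225764 := ndS (p := 116036) (l := 4) rfl N116036 D225764
theorem N122506 : nd 122506 = n225765 := ndS (p := 116037) (l := 0) rfl N116037 D225765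
theorem N122507 : nd 122507 = n225766 := ndS (p := 116048) (l := 5) rfl N116048 D225766
theorem N122508 : nd 122508 = n225767 := ndS (p := 116059) (l := 3) rfl N116059 D225767
theorem N122509 : nd 122509 = n225768 := ndS (p := 116063) (l := 1) rfl N116063 D225768
theorem N122510 : nd 122510 = n225769 := ndS (p := 116069) (l := 4) rfl N116069 D225769
theorem N122511 : nd 122511 = n225770 := ndS (p := 116121) (l := 6) rfl N116121 D225770
theorem N122512 : nd 122512 = n225771 := ndS (p := 116135) (l := 3) rfl N116135 D225771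
theorem N122513 : nd 122513 = n225772 := ndS (p := 116152) (l := 2) rfl N116152 D225772
theorem N122514 : nd 122514 = n225773 := ndS (p := 116152) (l := 5) rfl N116152 D225773
theorem N122515 : nd 122515 = n225774 := ndS (p := 116173) (l := 3) rfl N116173 D225774
theorem N122516 : nd 122516 = n225775 := ndS (p := 116179) (l := 5) rfl N116179 D225775
theorem N122517 : nd 122517 = n225776 := ndS (p := 116182) (l := 0) rfl N116182 D225776
theorem N122518 : nd 122518 = n225777 := ndS (p := 116182) (l := 1) rfl N116182 D225777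
theorem N122519 : nd 122519 = n225778 := ndS (p := 116182) (l := 2) rfl N116182 D225778
theorem N122520 : nd 122520 = n225779 := ndS (p := 116182) (l := 6) rfl N116182 D225779
theorem N122521 : nd 122521 = n225780 := ndS (p := 116215) (l := 4) rfl N116215 D225780
theorem N122522 : nd 122522 = n225781 := ndS (p := 116242) (l := 5) rfl N116242 D225781
theorem N122523 : nd 122523 = n225782 := ndS (p := 116245) (l := 5) rfl N116245 D225782
theorem N122524 : nd 122524 = n225783 := ndS (p := 116261) (l := 4) rfl N116261 D225783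
theorem N122525 : nd 122525 = n225784 := ndS (p := 116263) (l := 3) rfl N116263 D225784
theorem N122526 : nd 122526 = n225785 := ndS (p := 116263) (l := 7) rfl N116263 D225785
theorem N122527 : nd 122527 = n225786 := ndS (p := 116266) (l := 3) rfl N116266 D225786
theorem N122528 : nd 122528 = n225787 := ndS (p := 116271) (l := 2) rfl N116271 D225787
theorem N122529 : nd 122529 = n225788 := ndS (p := 116324) (l := 4) rfl N116324 D225788
theorem N122530 : nd 122530 = n225789 := ndS (p := 116327) (l := 4) rfl N116327 D225789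
theorem N122531 : nd 122531 = n225790 := ndS (p := 116341) (l := 5) rfl N116341 D225790
theorem N122532 : nd 122532 = n225791 := ndS (p := 116347) (l := 5) rfl N116347 D225791
theorem N122533 : nd 122533 = n225792 := ndS (p := 116368) (l := 0) rfl N116368 D225792
theorem N122534 : nd 122534 = n225793 := ndS (p := 116368) (l := 5) rfl N116368 D225793
theorem N122535 : nd 122535 = n225794 := ndS (p := 116371) (l := 6) rfl N116371 D225794
theorem N122536 : nd 122536 = n225795 := ndS (p := 116432) (l := 6) rfl N116432 D225795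
theorem N122537 : nd 122537 = n225796 := ndS (p := 116469) (l := 5) rfl N116469 D225796
theorem N122538 : nd 122538 = n225797 := ndS (p := 116485) (l := 5) rfl N116485 D225797
theorem N122539 : nd 122539 = n225798 := ndS (p := 116497) (l := 6) rfl N116497 D225798
theorem N122540 : nd 122540 = n225799 := ndS (p := 116509) (l := 5) rfl N116509 D225799
theorem N122541 : nd 122541 = n225800 := ndS (p := 116525) (l := 7) rfl N116525 D225800
theorem N122542 : nd 122542 = n225801 := ndS (p := 116531) (l := 1) rfl N116531 D225801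
theorem N122543 : nd 122543 = n225802 := ndS (p := 116545) (l := 5) rfl N116545 D225802
theorem N122544 : nd 122544 = n225803 := ndS (p := 116554) (l := 3) rfl N116554 D225803
theorem N122545 : nd 122545 = n225804 := ndS (p := 116556) (l := 6) rfl N116556 D225804
theorem N122546 : nd 122546 = n225805 := ndS (p := 116559) (l := 6) rfl N116559 D225805
theorem N122547 : nd 122547 = n225806 := ndS (p := 116560) (l := 0) rfl N116560 D225806
theorem N122548 : nd 122548 = n225807 := ndS (p := 116561) (l := 6) rfl N116561 D225807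
theorem N122549 : nd 122549 = n225808 := ndS (p := 116562) (l := 1) rfl N116562 D225808
theorem N122550 : nd 122550 = n225809 := ndS (p := 116602) (l := 5) rfl N116602 D225809
theorem N122551 : nd 122551 = n225810 := ndS (p := 116636) (l := 6) rfl N116636 D225810
theorem N122552 : nd 122552 = n225811 := ndS (p := 116637) (l := 5) rfl N116637 D225811
theorem N122553 : nd 122553 = n225812 := ndS (p := 116646) (l := 5) rfl N116646 D225812
theorem N122554 : nd 122554 = n225813 := ndS (p := 116708) (l := 4) rfl N116708 D225813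
theorem N122555 : nd 122555 = n225814 := ndS (p := 116714) (l := 0) rfl N116714 D225814
theorem N122556 : nd 122556 = n225815 := ndS (p := 116720) (l := 5) rfl N116720 D225815
theorem N122557 : nd 122557 = n225816 := ndS (p := 116724) (l := 4) rfl N116724 D225816
theorem N122558 : nd 122558 = n225817 := ndS (p := 116771) (l := 1) rfl N116771 D225817
theorem N122559 : nd 122559 = n225818 := ndS (p := 116801) (l := 4) rfl N116801 D225818
theorem N122560 : nd 122560 = n225819 := ndS (p := 116829) (l := 1) rfl N116829 D225819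
theorem N122561 : nd 122561 = n225820 := ndS (p := 116836) (l := 2) rfl N116836 D225820
theorem N122562 : nd 122562 = n225821 := ndS (p := 116849) (l := 5) rfl N116849 D225821
theorem N122563 : nd 122563 = n225822 := ndS (p := 116850) (l := 6) rfl N116850 D225822
theorem N122564 : nd 122564 = n225823 := ndS (p := 116851) (l := 5) rfl N116851 D225823
theorem N122565 : nd 122565 = n225824 := ndS (p := 116899) (l := 5) rfl N116899 D225824
theorem N122566 : nd 122566 = n225825 := ndS (p := 116905) (l := 0) rfl N116905 D225825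
theorem N122567 : nd 122567 = n225826 := ndS (p := 116905) (l := 5) rfl N116905 D225826
theorem N122568 : nd 122568 = n225827 := ndS (p := 116906) (l := 5) rfl N116906 D225827
theorem N122569 : nd 122569 = n225828 := ndS (p := 116946) (l := 5) rfl N116946 D225828
theorem N122570 : nd 122570 = n225829 := ndS (p := 116957) (l := 6) rfl N116957 D225829
theorem N122571 : nd 122571 = n225830 := ndS (p := 116963) (l := 1) rfl N116963 D225830
theorem N122572 : nd 122572 = n225831 := ndS (p := 116964) (l := 5) rfl N116964 D225831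
theorem N122573 : nd 122573 = n225832 := ndS (p := 117001) (l := 5) rfl N117001 D225832
theorem N122574 : nd 122574 = n225833 := ndS (p := 117003) (l := 0) rfl N117003 D225833
theorem N122575 : nd 122575 = n225834 := ndS (p := 117015) (l := 2) rfl N117015 D225834
theorem N122576 : nd 122576 = n225835 := ndS (p := 117015) (l := 5) rfl N117015 D225835
theorem N122577 : nd 122577 = n225836 := ndS (p := 117021) (l := 0) rfl N117021 D225836
theorem N122578 : nd 122578 = n225837 := ndS (p := 117022) (l := 1) rfl N117022 D225837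
theorem N122579 : nd 122579 = n225838 := ndS (p := 117034) (l := 0) rfl N117034 D225838
theorem N122580 : nd 122580 = n225839 := ndS (p := 117048) (l := 3) rfl N117048 D225839
theorem N122581 : nd 122581 = n225840 := ndS (p := 117048) (l := 6) rfl N117048 D225840
theorem N122582 : nd 122582 = n225841 := ndS (p := 117082) (l := 7) rfl N117082 D225841
theorem N122583 : nd 122583 = n225842 := ndS (p := 117122) (l := 4) rfl N117122 D225842
theorem N122584 : nd 122584 = n225843 := ndS (p := 117136) (l := 3) rfl N117136 D225843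
theorem N122585 : nd 122585 = n225844 := ndS (p := 117183) (l := 4) rfl N117183 D225844
theorem N122586 : nd 122586 = n225845 := ndS (p := 117189) (l := 6) rfl N117189 D225845
theorem N122587 : nd 122587 = n225846 := ndS (p := 117223) (l := 3) rfl N117223 D225846
theorem N122588 : nd 122588 = n225847 := ndS (p := 117252) (l := 1) rfl N117252 D225847
theorem N122589 : nd 122589 = n225848 := ndS (p := 117260) (l := 2) rfl N117260 D225848
theorem N122590 : nd 122590 = n225849 := ndS (p := 117260) (l := 6) rfl N117260 D225849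
theorem N122591 : nd 122591 = n225850 := ndS (p := 117283) (l := 0) rfl N117283 D225850
theorem N122592 : nd 122592 = n225851 := ndS (p := 117292) (l := 4) rfl N117292 D225851
theorem N122593 : nd 122593 = n225852 := ndS (p := 117302) (l := 5) rfl N117302 D225852
theorem N122594 : nd 122594 = n225853 := ndS (p := 117309) (l := 0) rfl N117309 D225853
theorem N122595 : nd 122595 = n225854 := ndS (p := 117333) (l := 1) rfl N117333 D225854
theorem N122596 : nd 122596 = n225855 := ndS (p := 117354) (l := 1) rfl N117354 D225855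
theorem N122597 : nd 122597 = n225856 := ndS (p := 117354) (l := 6) rfl N117354 D225856
theorem N122598 : nd 122598 = n225857 := ndS (p := 117364) (l := 6) rfl N117364 D225857
theorem N122599 : nd 122599 = n225858 := ndS (p := 117381) (l := 0) rfl N117381 D225858
theorem N122600 : nd 122600 = n225859 := ndS (p := 117404) (l := 0) rfl N117404 D225859
theorem N122601 : nd 122601 = n225860 := ndS (p := 117426) (l := 5) rfl N117426 D225860
theorem N122602 : nd 122602 = n225861 := ndS (p := 117459) (l := 4) rfl N117459 D225861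
theorem N122603 : nd 122603 = n225862 := ndS (p := 117486) (l := 5) rfl N117486 D225862
theorem N122604 : nd 122604 = n225863 := ndS (p := 117519) (l := 4) rfl N117519 D225863
theorem N122605 : nd 122605 = n225864 := ndS (p := 117583) (l := 5) rfl N117583 D225864
theorem N122606 : nd 122606 = n225865 := ndS (p := 117644) (l := 4) rfl N117644 D225865
theorem N122607 : nd 122607 = n225866 := ndS (p := 117654) (l := 6) rfl N117654 D225866
theorem N122608 : nd 122608 = n225867 := ndS (p := 117657) (l := 3) rfl N117657 D225867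
theorem N122609 : nd 122609 = n225868 := ndS (p := 117685) (l := 4) rfl N117685 D225868
theorem N122610 : nd 122610 = n225869 := ndS (p := 117717) (l := 7) rfl N117717 D225869
theorem N122611 : nd 122611 = n225870 := ndS (p := 117801) (l := 5) rfl N117801 D225870
theorem N122612 : nd 122612 = n225871 := ndS (p := 117804) (l := 5) rfl N117804 D225871
theorem N122613 : nd 122613 = n225872 := ndS (p := 117808) (l := 5) rfl N117808 D225872
theorem N122614 : nd 122614 = n225873 := ndS (p := 117810) (l := 0) rfl N117810 D225873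
theorem N122615 : nd 122615 = n225874 := ndS (p := 117810) (l := 7) rfl N117810 D225874
theorem N122616 : nd 122616 = n225875 := ndS (p := 117812) (l := 5) rfl N117812 D225875
theorem N122617 : nd 122617 = n225876 := ndS (p := 117815) (l := 0) rfl N117815 D225876
theorem N122618 : nd 122618 = n225877 := ndS (p := 117815) (l := 1) rfl N117815 D225877
theorem N122619 : nd 122619 = n225878 := ndS (p := 117816) (l := 6) rfl N117816 D225878
theorem N122620 : nd 122620 = n225879 := ndS (p := 117826) (l := 5) rfl N117826 D225879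
theorem N122621 : nd 122621 = n225880 := ndS (p := 117827) (l := 5) rfl N117827 D225880
theorem N122622 : nd 122622 = n225881 := ndS (p := 117835) (l := 6) rfl N117835 D225881
theorem N122623 : nd 122623 = n225882 := ndS (p := 117836) (l := 5) rfl N117836 D225882
theorem N122624 : nd 122624 = n225883 := ndS (p := 117875) (l := 7) rfl N117875 D225883
theorem N122625 : nd 122625 = n225884 := ndS (p := 117884) (l := 5) rfl N117884 D225884
theorem N122626 : nd 122626 = n225885 := ndS (p := 117897) (l := 6) rfl N117897 D225885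
theorem N122627 : nd 122627 = n225886 := ndS (p := 117935) (l := 5) rfl N117935 D225886
theorem N122628 : nd 122628 = n225887 := ndS (p := 117936) (l := 6) rfl N117936 D225887
theorem N122629 : nd 122629 = n225888 := ndS (p := 117939) (l := 6) rfl N117939 D225888
theorem N122630 : nd 122630 = n225889 := ndS (p := 118004) (l := 3) rfl N118004 D225889
theorem N122631 : nd 122631 = n225890 := ndS (p := 118107) (l := 5) rfl N118107 D225890
theorem N122632 : nd 122632 = n225891 := ndS (p := 118124) (l := 6) rfl N118124 D225891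
theorem N122633 : nd 122633 = n225892 := ndS (p := 118189) (l := 0) rfl N118189 D225892
theorem N122634 : nd 122634 = n225893 := ndS (p := 118202) (l := 6) rfl N118202 D225893
theorem N122635 : nd 122635 = n225894 := ndS (p := 118220) (l := 4) rfl N118220 D225894
theorem N122636 : nd 122636 = n225895 := ndS (p := 118223) (l := 7) rfl N118223 D225895
theorem N122637 : nd 122637 = n225896 := ndS (p := 118236) (l := 3) rfl N118236 D225896
theorem N122638 : nd 122638 = n225897 := ndS (p := 118294) (l := 5) rfl N118294 D225897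
theorem N122639 : nd 122639 = n225898 := ndS (p := 118295) (l := 5) rfl N118295 D225898
theorem N122640 : nd 122640 = n225899 := ndS (p := 118296) (l := 5) rfl N118296 D225899
theorem N122641 : nd 122641 = n225900 := ndS (p := 118297) (l := 0) rfl N118297 D225900
theorem N122642 : nd 122642 = n225901 := ndS (p := 118314) (l := 4) rfl N118314 D225901
theorem N122643 : nd 122643 = n225902 := ndS (p := 118318) (l := 5) rfl N118318 D225902
theorem N122644 : nd 122644 = n225903 := ndS (p := 118434) (l := 3) rfl N118434 D225903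
theorem N122645 : nd 122645 = n225904 := ndS (p := 118465) (l := 7) rfl N118465 D225904
theorem N122646 : nd 122646 = n225905 := ndS (p := 118477) (l := 5) rfl N118477 D225905
theorem N122647 : nd 122647 = n225906 := ndS (p := 118496) (l := 4) rfl N118496 D225906
theorem N122648 : nd 122648 = n225907 := ndS (p := 118500) (l := 6) rfl N118500 D225907
theorem N122649 : nd 122649 = n225908 := ndS (p := 118506) (l := 5) rfl N118506 D225908
theorem N122650 : nd 122650 = n225909 := ndS (p := 118520) (l := 0) rfl N118520 D225909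
theorem N122651 : nd 122651 = n225910 := ndS (p := 118525) (l := 0) rfl N118525 D225910
theorem N122652 : nd 122652 = n225911 := ndS (p := 118525) (l := 7) rfl N118525 D225911
theorem N122653 : nd 122653 = n225912 := ndS (p := 118526) (l := 6) rfl N118526 D225912
theorem N122654 : nd 122654 = n225913 := ndS (p := 118537) (l := 5) rfl N118537 D225913
theorem N122655 : nd 122655 = n225914 := ndS (p := 118550) (l := 5) rfl N118550 D225914
theorem N122656 : nd 122656 = n225915 := ndS (p := 118551) (l := 1) rfl N118551 D225915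
theorem N122657 : nd 122657 = n225916 := ndS (p := 118551) (l := 7) rfl N118551 D225916
theorem N122658 : nd 122658 = n225917 := ndS (p := 118556) (l := 4) rfl N118556 D225917
theorem N122659 : nd 122659 = n225918 := ndS (p := 118560) (l := 6) rfl N118560 D225918
theorem N122660 : nd 122660 = n225919 := ndS (p := 118568) (l := 6) rfl N118568 D225919
theorem N122661 : nd 122661 = n225920 := ndS (p := 118569) (l := 7) rfl N118569 D225920
theorem N122662 : nd 122662 = n225921 := ndS (p := 118571) (l := 6) rfl N118571 D225921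
theorem N122663 : nd 122663 = n225922 := ndS (p := 118609) (l := 6) rfl N118609 D225922
theorem N122664 : nd 122664 = n225923 := ndS (p := 118610) (l := 7) rfl N118610 D225923
theorem N122665 : nd 122665 = n225924 := ndS (p := 118616) (l := 5) rfl N118616 D225924
theorem N122666 : nd 122666 = n225925 := ndS (p := 118620) (l := 5) rfl N118620 D225925
theorem N122667 : nd 122667 = n225926 := ndS (p := 118621) (l := 6) rfl N118621 D225926
theorem N122668 : nd 122668 = n225927 := ndS (p := 118689) (l := 6) rfl N118689 D225927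
theorem N122669 : nd 122669 = n225928 := ndS (p := 118690) (l := 0) rfl N118690 D225928
theorem N122670 : nd 122670 = n225929 := ndS (p := 118735) (l := 4) rfl N118735 D225929
theorem N122671 : nd 122671 = n225930 := ndS (p := 118799) (l := 4) rfl N118799 D225930
theorem N122672 : nd 122672 = n225931 := ndS (p := 118851) (l := 4) rfl N118851 D225931
theorem N122673 : nd 122673 = n225932 := ndS (p := 118853) (l := 4) rfl N118853 D225932
theorem N122674 : nd 122674 = n225933 := ndS (p := 118854) (l := 4) rfl N118854 D225933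
theorem N122675 : nd 122675 = n225934 := ndS (p := 118855) (l := 7) rfl N118855 D225934
theorem N122676 : nd 122676 = n225935 := ndS (p := 119090) (l := 3) rfl N119090 D225935
theorem N122677 : nd 122677 = n225936 := ndS (p := 119095) (l := 3) rfl N119095 D225936
theorem N122678 : nd 122678 = n225937 := ndS (p := 119106) (l := 5) rfl N119106 D225937
theorem N122679 : nd 122679 = n225938 := ndS (p := 119108) (l := 7) rfl N119108 D225938
theorem N122680 : nd 122680 = n225939 := ndS (p := 119117) (l := 3) rfl N119117 D225939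
theorem N122681 : nd 122681 = n225940 := ndS (p := 119141) (l := 4) rfl N119141 D225940
theorem N122682 : nd 122682 = n225941 := ndS (p := 119198) (l := 4) rfl N119198 D225941
theorem N122683 : nd 122683 = n225942 := ndS (p := 119199) (l := 3) rfl N119199 D225942
theorem N122684 : nd 122684 = n225943 := ndS (p := 119252) (l := 5) rfl N119252 D225943
theorem N122685 : nd 122685 = n225944 := ndS (p := 119342) (l := 4) rfl N119342 D225944
theorem N122686 : nd 122686 = n225945 := ndS (p := 119417) (l := 5) rfl N119417 D225945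
theorem N122687 : nd 122687 = n225946 := ndS (p := 119456) (l := 5) rfl N119456 D225946
theorem N122688 : nd 122688 = n225947 := ndS (p := 119467) (l := 4) rfl N119467 D225947
theorem N122689 : nd 122689 = n225948 := ndS (p := 119571) (l := 5) rfl N119571 D225948
theorem N122690 : nd 122690 = n225949 := ndS (p := 119741) (l := 4) rfl N119741 D225949
theorem N122691 : nd 122691 = n225950 := ndS (p := 119793) (l := 3) rfl N119793 D225950
theorem N122692 : nd 122692 = n225951 := ndS (p := 119802) (l := 3) rfl N119802 D225951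
theorem N122693 : nd 122693 = n225952 := ndS (p := 119819) (l := 6) rfl N119819 D225952
theorem N122694 : nd 122694 = n225953 := ndS (p := 119829) (l := 0) rfl N119829 D225953
theorem N122695 : nd 122695 = n225954 := ndS (p := 119902) (l := 1) rfl N119902 D225954
theorem N122696 : nd 122696 = n225955 := ndS (p := 119910) (l := 3) rfl N119910 D225955
theorem N122697 : nd 122697 = n225956 := ndS (p := 120038) (l := 4) rfl N120038 D225956
theorem N122698 : nd 122698 = n225957 := ndS (p := 120082) (l := 6) rfl N120082 D225957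
theorem N122699 : nd 122699 = n225958 := ndS (p := 120141) (l := 5) rfl N120141 D225958
theorem N122700 : nd 122700 = n225959 := ndS (p := 120142) (l := 0) rfl N120142 D225959
theorem N122701 : nd 122701 = n225960 := ndS (p := 120142) (l := 7) rfl N120142 D225960
theorem N122702 : nd 122702 = n225961 := ndS (p := 120155) (l := 5) rfl N120155 D225961
theorem N122703 : nd 122703 = n225962 := ndS (p := 120157) (l := 0) rfl N120157 D225962
theorem N122704 : nd 122704 = n225963 := ndS (p := 120157) (l := 7) rfl N120157 D225963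
theorem N122705 : nd 122705 = n225964 := ndS (p := 120195) (l := 4) rfl N120195 D225964
theorem N122706 : nd 122706 = n225965 := ndS (p := 120259) (l := 7) rfl N120259 D225965
theorem N122707 : nd 122707 = n225966 := ndS (p := 120276) (l := 3) rfl N120276 D225966
theorem N122708 : nd 122708 = n225967 := ndS (p := 120319) (l := 5) rfl N120319 D225967
theorem N122709 : nd 122709 = n225968 := ndS (p := 120326) (l := 0) rfl N120326 D225968
theorem N122710 : nd 122710 = n225969 := ndS (p := 120326) (l := 2) rfl N120326 D225969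
theorem N122711 : nd 122711 = n225970 := ndS (p := 120327) (l := 7) rfl N120327 D225970
theorem N122712 : nd 122712 = n225971 := ndS (p := 120613) (l := 4) rfl N120613 D225971
theorem N122713 : nd 122713 = n225972 := ndS (p := 120631) (l := 6) rfl N120631 D225972
theorem N122714 : nd 122714 = n225973 := ndS (p := 120649) (l := 5) rfl N120649 D225973
theorem N122715 : nd 122715 = n225974 := ndS (p := 120732) (l := 6) rfl N120732 D225974
theorem N122716 : nd 122716 = n225975 := ndS (p := 120734) (l := 6) rfl N120734 D225975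
theorem N122717 : nd 122717 = n225976 := ndS (p := 120990) (l := 4) rfl N120990 D225976
theorem N122718 : nd 122718 = n225977 := ndS (p := 121015) (l := 3) rfl N121015 D225977
theorem N122719 : nd 122719 = n225978 := ndS (p := 121100) (l := 5) rfl N121100 D225978
theorem N122720 : nd 122720 = n225979 := ndS (p := 121144) (l := 4) rfl N121144 D225979
theorem N122721 : nd 122721 = n225980 := ndS (p := 121204) (l := 1) rfl N121204 D225980
theorem N122722 : nd 122722 = n225981 := ndS (p := 121236) (l := 3) rfl N121236 D225981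
theorem N122723 : nd 122723 = n225982 := ndS (p := 121237) (l := 0) rfl N121237 D225982
theorem N122724 : nd 122724 = n225983 := ndS (p := 121238) (l := 4) rfl N121238 D225983
theorem N122725 : nd 122725 = n225984 := ndS (p := 121242) (l := 2) rfl N121242 D225984
theorem N122726 : nd 122726 = n225985 := ndS (p := 121281) (l := 3) rfl N121281 D225985
theorem N122727 : nd 122727 = n225986 := ndS (p := 121289) (l := 5) rfl N121289 D225986
theorem N122728 : nd 122728 = n225987 := ndS (p := 121294) (l := 0) rfl N121294 D225987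
theorem N122729 : nd 122729 = n225988 := ndS (p := 121304) (l := 3) rfl N121304 D225988
theorem N122730 : nd 122730 = n225989 := ndS (p := 121358) (l := 4) rfl N121358 D225989
theorem N122731 : nd 122731 = n225990 := ndS (p := 121366) (l := 4) rfl N121366 D225990
theorem N122732 : nd 122732 = n225991 := ndS (p := 121371) (l := 3) rfl N121371 D225991
theorem N122733 : nd 122733 = n225992 := ndS (p := 121502) (l := 7) rfl N121502 D225992
theorem N122734 : nd 122734 = n225993 := ndS (p := 121617) (l := 4) rfl N121617 D225993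
theorem N122735 : nd 122735 = n225994 := ndS (p := 121626) (l := 3) rfl N121626 D225994
theorem N122736 : nd 122736 = n225995 := ndS (p := 121630) (l := 2) rfl N121630 D225995
theorem N122737 : nd 122737 = n225996 := ndS (p := 121670) (l := 4) rfl N121670 D225996
theorem N122738 : nd 122738 = n225997 := ndS (p := 121737) (l := 4) rfl N121737 D225997
theorem N122739 : nd 122739 = n225998 := ndS (p := 121737) (l := 6) rfl N121737 D225998
theorem N122740 : nd 122740 = n225999 := ndS (p := 121738) (l := 6) rfl N121738 D225999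
theorem N122741 : nd 122741 = n226000 := ndS (p := 121740) (l := 5) rfl N121740 D226000
theorem N122742 : nd 122742 = n226001 := ndS (p := 121816) (l := 5) rfl N121816 D226001
theorem N122743 : nd 122743 = n226002 := ndS (p := 121857) (l := 3) rfl N121857 D226002
theorem N122744 : nd 122744 = n226003 := ndS (p := 121891) (l := 0) rfl N121891 D226003
theorem N122745 : nd 122745 = n226004 := ndS (p := 121891) (l := 1) rfl N121891 D226004
theorem N122746 : nd 122746 = n226005 := ndS (p := 121894) (l := 4) rfl N121894 D226005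
theorem N122747 : nd 122747 = n226006 := ndS (p := 121894) (l := 6) rfl N121894 D226006
theorem N122748 : nd 122748 = n226007 := ndS (p := 121895) (l := 3) rfl N121895 D226007
theorem N122749 : nd 122749 = n226008 := ndS (p := 121900) (l := 5) rfl N121900 D226008
theorem N122750 : nd 122750 = n226009 := ndS (p := 121918) (l := 3) rfl N121918 D226009
theorem N122751 : nd 122751 = n226010 := ndS (p := 122163) (l := 6) rfl N122163 D226010
theorem N122752 : nd 122752 = n226011 := ndS (p := 122166) (l := 6) rfl N122166 D226011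
theorem N122753 : nd 122753 = n226012 := ndS (p := 122212) (l := 3) rfl N122212 D226012
theorem N122754 : nd 122754 = n226013 := ndS (p := 122212) (l := 5) rfl N122212 D226013
theorem N122755 : nd 122755 = n226014 := ndS (p := 122227) (l := 4) rfl N122227 D226014
theorem N122756 : nd 122756 = n226015 := ndS (p := 122254) (l := 6) rfl N122254 D226015
theorem N122757 : nd 122757 = n226016 := ndS (p := 122256) (l := 4) rfl N122256 D226016
theorem N122758 : nd 122758 = n226017 := ndS (p := 122712) (l := 3) rfl N122712 D226017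
theorem N122759 : nd 122759 = n226018 := ndS (p := 122738) (l := 6) rfl N122738 D226018
theorem Q1 : ∀ i, i < 1 → P i := stepQ 0 Q0 (allL N0 (tt N1 D1) (tt N1 F7) (tt N0 F1) (tt N0 F2) (tt N0 F3) (tt N0 F4) (tt N0 F6) (tt N0 F5))
theorem Q2 : ∀ i, i < 2 → P i := stepQ 1 Q1 (allL N1 (tt N0 (iv1 F7)) (tt N0 (iv0 D1)) (tt N1 F281) (tt N2 D3) (tt N3 D4) (tt N4 D5) (tt N5 D6) (tt N1 F282))
theorem Q3 : ∀ i, i < 3 → P i := stepQ 2 Q2 (allL N2 (tt N6 D12) (tt N7 D13) (tt N8 D14) (tt N1 (iv3 D3)) (tt N9 D15) (tt N10 D16) (tt N11 D17) (tt N2 F266))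
theorem Q4 : ∀ i, i < 4 → P i := stepQ 3 Q3 (allL N3 (tt N12 D18) (tt N12 F18) (tt N3 F272) (tt N13 D19) (tt N1 (iv4 D4)) (tt N14 D20) (tt N15 D21) (tt N3 F273))
theorem Q5 : ∀ i, i < 5 → P i := stepQ 4 Q4 (allL N4 (tt N16 D22) (tt N16 F22) (tt N4 F291) (tt N10 (iv3 F16)) (tt N14 (iv4 F20)) (tt N1 (iv5 D5)) (tt N17 D23) (tt N4 F292))
theorem Q6 : ∀ i, i < 6 → P i := stepQ 5 Q5 (allL N5 (tt N18 D24) (tt N19 D25) (tt N5 F293) (tt N11 (iv3 F17)) (tt N15 (iv4 F21)) (tt N20 D26) (tt N1 (iv6 D6)) (tt N21 D27))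
theorem Q7 : ∀ i, i < 7 → P i := stepQ 6 Q6 (allL N6 (tt N8 F280) (tt N2 (iv0 D12)) (tt N7 F304) (tt N7 F278) (tt N22 D51) (tt N6 F69) (tt N6 F1043) (tt N6 F305))
theorem Q8 : ∀ i, i < 8 → P i := stepQ 7 Q7 (allL N7 (tt N2 (iv1 D13)) (tt N8 (iv0 F275)) (tt N6 (iv2 F304)) (tt N6 (iv3 F278)) (tt N23 D56) (tt N7 F65) (tt N7 F1042) (tt N7 F290))
theorem Q9 : ∀ i, i < 9 → P i := stepQ 8 Q8 (allL N8 (tt N7 F275) (tt N6 (iv0 F280)) (tt N2 (iv2 D14)) (tt N8 F276) (tt N24 D59) (tt N25 D60) (tt N26 D61) (tt N8 F277))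
theorem Q10 : ∀ i, i < 10 → P i := stepQ 9 Q9 (allL N9 (tt N27 D62) (tt N28 D63) (tt N24 (iv2 F53)) (tt N29 D64) (tt N2 (iv4 D15)) (tt N30 D65) (tt N31 D66) (tt N9 F261))
theorem Q11 : ∀ i, i < 11 → P i := stepQ 10 Q10 (allL N10 (tt N32 D67) (tt N33 D68) (tt N25 (iv2 F54)) (tt N4 F16) (tt N34 D69) (tt N2 (iv5 D16)) (tt N35 D70) (tt N10 F283))
theorem Q12 : ∀ i, i < 12 → P i := stepQ 11 Q11 (allL N11 (tt N36 D71) (tt N37 D72) (tt N26 (iv2 F55)) (tt N5 F17) (tt N31 (iv4 F57)) (tt N38 D73) (tt N2 (iv6 D17)) (tt N39 D74))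
theorem Q13 : ∀ i, i < 13 → P i := stepQ 12 Q12 (allL N12 (tt N3 (iv1 F18)) (tt N3 (iv0 D18)) (tt N12 F430) (tt N40 D76) (tt N12 F326) (tt N12 F19) (tt N12 F545) (tt N12 F431))
theorem Q14 : ∀ i, i < 14 → P i := stepQ 13 Q13 (allL N13 (tt N41 D79) (tt N40 (iv0 F327)) (tt N42 D81) (tt N3 (iv3 D19)) (tt N29 (iv4 F56)) (tt N43 D82) (tt N44 D83) (tt N13 F262))
theorem Q15 : ∀ i, i < 15 → P i := stepQ 14 Q14 (allL N14 (tt N45 D84) (tt N45 F78) (tt N14 F284) (tt N43 (iv3 F76)) (tt N4 F20) (tt N3 (iv5 D20)) (tt N46 D85) (tt N14 F285))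
theorem Q16 : ∀ i, i < 16 → P i := stepQ 15 Q15 (allL N15 (tt N47 D86) (tt N48 D87) (tt N15 F286) (tt N44 (iv3 F77)) (tt N5 F21) (tt N49 D88) (tt N3 (iv6 D21)) (tt N50 D89))
theorem Q17 : ∀ i, i < 17 → P i := stepQ 16 Q16 (allL N16 (tt N4 (iv1 F22)) (tt N4 (iv0 D22)) (tt N16 F467) (tt N16 F462) (tt N16 F23) (tt N16 F481) (tt N51 D93) (tt N16 F468))
theorem Q18 : ∀ i, i < 18 → P i := stepQ 17 Q17 (allL N17 (tt N52 D94) (tt N51 (iv0 F478)) (tt N17 F309) (tt N35 (iv3 F58)) (tt N46 (iv4 F79)) (tt N53 D96) (tt N4 (iv6 D23)) (tt N54 D97))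
theorem Q19 : ∀ i, i < 19 → P i := stepQ 18 Q18 (allL N18 (tt N21 (iv1 F312)) (tt N5 (iv0 D24)) (tt N18 F488) (tt N18 F975) (tt N18 F95) (tt N55 D101) (tt N19 F484) (tt N19 (iv7 F490)))
theorem Q20 : ∀ i, i < 20 → P i := stepQ 19 Q19 (allL N19 (tt N5 (iv1 D25)) (tt N21 (iv0 F311)) (tt N19 F489) (tt N19 F977) (tt N19 F91) (tt N56 D106) (tt N18 (iv6 F484)) (tt N18 F490))
theorem Q21 : ∀ i, i < 21 → P i := stepQ 20 Q20 (allL N20 (tt N57 D108) (tt N58 D109) (tt N20 F310) (tt N38 (iv3 F59)) (tt N59 D110) (tt N5 (iv5 D26)) (tt N53 (iv6 F87)) (tt N60 D111))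
theorem Q22 : ∀ i, i < 22 → P i := stepQ 21 Q21 (allL N21 (tt N19 F311) (tt N18 F312) (tt N21 F313) (tt N39 (iv3 F60)) (tt N50 (iv4 F80)) (tt N60 (iv5 F99)) (tt N21 F314) (tt N5 (iv7 D27)))
theorem Q23 : ∀ i, i < 23 → P i := stepQ 22 Q22 (allL N22 (tt N61 D210) (tt N29 (iv0 F257)) (tt N23 (iv2 F306)) (tt N62 D211) (tt N6 (iv4 D51)) (tt N63 D212) (tt N22 F1045) (tt N22 F325))
theorem Q24 : ∀ i, i < 24 → P i := stepQ 23 Q23 (allL N23 (tt N29 F259) (tt N61 F260) (tt N22 F306) (tt N64 D218) (tt N7 (iv4 D56)) (tt N65 D219) (tt N23 F1044) (tt N23 F307))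
theorem Q25 : ∀ i, i < 25 → P i := stepQ 24 Q24 (allL N24 (tt N28 F263) (tt N27 F264) (tt N9 F53) (tt N66 D225) (tt N8 (iv4 D59)) (tt N67 D226) (tt N68 D227) (tt N24 F265))
theorem Q26 : ∀ i, i < 26 → P i := stepQ 25 Q25 (allL N25 (tt N33 (iv1 F295)) (tt N32 (iv0 F294)) (tt N10 F54) (tt N25 F287) (tt N69 D228) (tt N8 (iv5 D60)) (tt N70 D229) (tt N25 F288))
theorem Q27 : ∀ i, i < 27 → P i := stepQ 26 Q26 (allL N26 (tt N71 D230) (tt N72 D231) (tt N11 F55) (tt N26 F289) (tt N68 (iv4 F360)) (tt N73 D232) (tt N8 (iv6 D61)) (tt N74 D233))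
theorem Q28 : ∀ i, i < 28 → P i := stepQ 27 Q27 (allL N27 (tt N24 (iv1 F264)) (tt N9 (iv0 D62)) (tt N28 (iv2 F433)) (tt N27 F329) (tt N40 F64) (tt N75 D235) (tt N27 F548) (tt N27 F432))
theorem Q29 : ∀ i, i < 29 → P i := stepQ 28 Q28 (allL N28 (tt N9 (iv1 D63)) (tt N24 (iv0 F263)) (tt N27 F433) (tt N76 D238) (tt N41 (iv4 F72)) (tt N77 D239) (tt N28 F549) (tt N28 F434))
theorem Q30 : ∀ i, i < 30 → P i := stepQ 29 Q29 (allL N29 (tt N22 F257) (tt N23 (iv0 F259)) (tt N61 F193) (tt N9 (iv3 D64)) (tt N13 F56) (tt N78 D241) (tt N79 D242) (tt N29 F258))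
theorem Q31 : ∀ i, i < 31 → P i := stepQ 30 Q30 (allL N30 (tt N80 D243) (tt N81 D244) (tt N67 (iv2 F357)) (tt N78 (iv3 F381)) (tt N82 D245) (tt N9 (iv5 D65)) (tt N83 D246) (tt N30 F267))
theorem Q32 : ∀ i, i < 32 → P i := stepQ 31 Q31 (allL N31 (tt N84 D247) (tt N85 D248) (tt N68 (iv2 F359)) (tt N79 (iv3 F383)) (tt N11 F57) (tt N86 D249) (tt N9 (iv6 D66)) (tt N87 D250))
theorem Q33 : ∀ i, i < 33 → P i := stepQ 32 Q32 (allL N32 (tt N25 F294) (tt N10 (iv0 D67)) (tt N33 F402) (tt N33 F397) (tt N88 D253) (tt N32 F505) (tt N89 D255) (tt N32 F403))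
theorem Q34 : ∀ i, i < 34 → P i := stepQ 33 Q33 (allL N33 (tt N10 (iv1 D68)) (tt N25 F295) (tt N32 (iv2 F402)) (tt N32 (iv3 F397)) (tt N90 D258) (tt N33 F504) (tt N91 D260) (tt N33 F401))
theorem Q35 : ∀ i, i < 35 → P i := stepQ 34 Q34 (allL N34 (tt N92 D261) (tt N93 D262) (tt N69 (iv2 F361)) (tt N94 D263) (tt N10 (iv4 D69)) (tt N95 D264) (tt N96 D265) (tt N34 F296))
theorem Q36 : ∀ i, i < 36 → P i := stepQ 35 Q35 (allL N35 (tt N97 D266) (tt N91 F1034) (tt N70 (iv2 F363)) (tt N17 F58) (tt N96 (iv4 F414)) (tt N98 D268) (tt N10 (iv6 D70)) (tt N99 D269))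
theorem Q37 : ∀ i, i < 37 → P i := stepQ 36 Q36 (allL N36 (tt N74 (iv1 F373)) (tt N11 (iv0 D71)) (tt N71 F1094) (tt N71 (iv3 F1083)) (tt N100 D272) (tt N101 D273) (tt N72 F1082) (tt N72 F1095))
theorem Q38 : ∀ i, i < 38 → P i := stepQ 37 Q37 (allL N37 (tt N11 (iv1 D72)) (tt N74 F372) (tt N72 (iv2 F1088)) (tt N72 F995) (tt N102 D277) (tt N103 D278) (tt N71 (iv6 F1024)) (tt N71 (iv7 F1089)))
theorem Q39 : ∀ i, i < 39 → P i := stepQ 38 Q38 (allL N38 (tt N104 D280) (tt N105 D281) (tt N73 (iv2 F366)) (tt N20 F59) (tt N106 D282) (tt N11 (iv5 D73)) (tt N98 (iv6 F416)) (tt N107 D283))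
theorem Q40 : ∀ i, i < 40 → P i := stepQ 39 Q39 (allL N39 (tt N72 (iv1 F365)) (tt N71 F371) (tt N74 (iv2 F368)) (tt N21 F60) (tt N87 (iv4 F388)) (tt N107 (iv5 F422)) (tt N39 F297) (tt N11 (iv7 D74)))
theorem Q41 : ∀ i, i < 41 → P i := stepQ 40 Q40 (allL N40 (tt N13 F327) (tt N42 F328) (tt N41 F428) (tt N12 (iv3 D76)) (tt N27 (iv4 F64)) (tt N40 F63) (tt N40 F546) (tt N40 F429))
theorem Q42 : ∀ i, i < 42 → P i := stepQ 41 Q41 (allL N41 (tt N42 (iv1 F269)) (tt N13 (iv0 D79)) (tt N40 (iv2 F428)) (tt N41 F73) (tt N28 F72) (tt N41 F117) (tt N41 F547) (tt N41 F436))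
theorem Q43 : ∀ i, i < 43 → P i := stepQ 42 Q42 (allL N42 (tt N40 (iv1 F328)) (tt N41 F269) (tt N13 (iv2 D81)) (tt N42 F270) (tt N61 (iv4 F192)) (tt N108 D292) (tt N109 D293) (tt N42 F271))
theorem Q44 : ∀ i, i < 44 → P i := stepQ 43 Q43 (allL N43 (tt N110 D294) (tt N111 D295) (tt N108 (iv2 F455)) (tt N14 F76) (tt N94 (iv4 F394)) (tt N13 (iv5 D82)) (tt N112 D296) (tt N43 F274))
theorem Q45 : ∀ i, i < 45 → P i := stepQ 44 Q44 (allL N44 (tt N113 D297) (tt N114 D298) (tt N109 (iv2 F458)) (tt N15 F77) (tt N79 (iv4 F384)) (tt N115 D299) (tt N13 (iv6 D83)) (tt N116 D300))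
theorem Q46 : ∀ i, i < 46 → P i := stepQ 45 Q45 (allL N45 (tt N14 (iv1 F78)) (tt N14 (iv0 D84)) (tt N45 F876) (tt N111 F499) (tt N45 F332) (tt N45 F483) (tt N117 D302) (tt N45 F877))
theorem Q47 : ∀ i, i < 47 → P i := stepQ 46 Q46 (allL N46 (tt N118 D303) (tt N117 (iv0 F541)) (tt N46 F298) (tt N112 (iv3 F509)) (tt N17 F79) (tt N119 D305) (tt N14 (iv6 D85)) (tt N120 D306))
theorem Q48 : ∀ i, i < 48 → P i := stepQ 47 Q47 (allL N47 (tt N50 (iv1 F301)) (tt N15 (iv0 D86)) (tt N47 F532) (tt N121 D308) (tt N47 F543) (tt N122 D310) (tt N48 (iv6 F527)) (tt N48 F533))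
theorem Q49 : ∀ i, i < 49 → P i := stepQ 48 Q48 (allL N48 (tt N15 (iv1 D87)) (tt N50 (iv0 F300)) (tt N48 F531) (tt N114 (iv3 F1006)) (tt N48 F544) (tt N123 D315) (tt N47 F527) (tt N47 (iv7 F533)))
theorem Q50 : ∀ i, i < 50 → P i := stepQ 49 Q49 (allL N49 (tt N124 D316) (tt N125 D317) (tt N49 F299) (tt N115 (iv3 F510)) (tt N126 D318) (tt N15 (iv5 D88)) (tt N119 (iv6 F518)) (tt N127 D319))
theorem Q51 : ∀ i, i < 51 → P i := stepQ 50 Q50 (allL N50 (tt N48 F300) (tt N47 F301) (tt N50 F302) (tt N116 (iv3 F511)) (tt N21 F80) (tt N127 (iv5 F557)) (tt N50 F303) (tt N15 (iv7 D89)))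
theorem Q52 : ∀ i, i < 52 → P i := stepQ 51 Q51 (allL N51 (tt N17 F478) (tt N54 F479) (tt N51 F477) (tt N51 F465) (tt N51 F84) (tt N57 (iv5 F90)) (tt N16 (iv6 D93)) (tt N52 F480))
theorem Q53 : ∀ i, i < 53 → P i := stepQ 52 Q52 (allL N52 (tt N54 (iv1 F317)) (tt N17 (iv0 D94)) (tt N52 F473) (tt N52 F495) (tt N52 F178) (tt N58 F97) (tt N52 F98) (tt N51 (iv7 F480)))
theorem Q54 : ∀ i, i < 54 → P i := stepQ 53 Q53 (allL N53 (tt N55 F485) (tt N56 (iv0 F320)) (tt N53 F315) (tt N98 (iv3 F415)) (tt N128 D320) (tt N17 (iv5 D96)) (tt N20 F87) (tt N129 D321))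
theorem Q55 : ∀ i, i < 55 → P i := stepQ 54 Q54 (allL N54 (tt N51 (iv1 F479)) (tt N52 F317) (tt N54 F318) (tt N99 (iv3 F417)) (tt N120 (iv4 F520)) (tt N129 (iv5 F564)) (tt N54 F319) (tt N17 (iv7 D97)))
theorem Q56 : ∀ i, i < 56 → P i := stepQ 55 Q55 (allL N55 (tt N129 (iv1 F565)) (tt N53 (iv0 F485)) (tt N55 F493) (tt N55 F976) (tt N130 D327) (tt N18 (iv5 D101)) (tt N131 D328) (tt N56 F492))
theorem Q57 : ∀ i, i < 57 → P i := stepQ 56 Q56 (allL N56 (tt N53 F320) (tt N129 F566) (tt N56 F494) (tt N56 F978) (tt N132 D334) (tt N19 (iv5 D106)) (tt N133 D335) (tt N55 (iv7 F492)))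
theorem Q58 : ∀ i, i < 58 → P i := stepQ 57 Q57 (allL N57 (tt N60 (iv1 F323)) (tt N20 (iv0 D108)) (tt N57 F476) (tt N57 F497) (tt N134 D336) (tt N51 F90) (tt N57 F482) (tt N58 F475))
theorem Q59 : ∀ i, i < 59 → P i := stepQ 58 Q58 (allL N58 (tt N20 (iv1 D109)) (tt N60 (iv0 F322)) (tt N58 F474) (tt N58 F496) (tt N135 D337) (tt N52 (iv5 F97)) (tt N136 D338) (tt N57 (iv7 F475)))
theorem Q60 : ∀ i, i < 60 → P i := stepQ 59 Q59 (allL N59 (tt N137 D339) (tt N138 D340) (tt N59 F321) (tt N139 D341) (tt N20 (iv4 D110)) (tt N140 D342) (tt N128 (iv6 F562)) (tt N141 D343))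
theorem Q61 : ∀ i, i < 61 → P i := stepQ 60 Q60 (allL N60 (tt N58 F322) (tt N57 F323) (tt N60 F324) (tt N107 (iv3 F421)) (tt N141 (iv4 F603)) (tt N21 F99) (tt N142 D344) (tt N20 (iv7 D111)))
theorem Q62 : ∀ i, i < 62 → P i := stepQ 61 Q61 (allL N61 (tt N23 (iv1 F260)) (tt N22 (iv0 D210)) (tt N29 (iv2 F193)) (tt N143 D345) (tt N42 F192) (tt N144 D346) (tt N145 D347) (tt N61 F256))
theorem Q63 : ∀ i, i < 63 → P i := stepQ 62 Q62 (allL N62 (tt N146 D348) (tt N147 D349) (tt N148 D350) (tt N22 (iv3 D211)) (tt N64 (iv4 F338)) (tt N149 D351) (tt N62 F1047) (tt N62 F333))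
theorem Q64 : ∀ i, i < 64 → P i := stepQ 63 Q63 (allL N63 (tt N150 D353) (tt N151 D354) (tt N65 (iv2 F340)) (tt N149 (iv3 F622)) (tt N152 D355) (tt N22 (iv5 D212)) (tt N153 D356) (tt N63 F334))
theorem Q65 : ∀ i, i < 65 → P i := stepQ 64 Q64 (allL N64 (tt N143 F612) (tt N66 (iv0 F356)) (tt N154 D375) (tt N23 (iv3 D218)) (tt N62 F338) (tt N155 D376) (tt N64 F1046) (tt N64 F339))
theorem Q66 : ∀ i, i < 66 → P i := stepQ 65 Q65 (allL N65 (tt N151 (iv1 F626)) (tt N150 F625) (tt N63 F340) (tt N155 (iv3 F644)) (tt N156 D378) (tt N23 (iv5 D219)) (tt N157 D379) (tt N65 F341))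
theorem Q67 : ∀ i, i < 67 → P i := stepQ 66 Q66 (allL N66 (tt N64 F356) (tt N154 F643) (tt N143 (iv2 F609)) (tt N24 (iv3 D225)) (tt N66 F354) (tt N158 D398) (tt N159 D399) (tt N66 F355))
theorem Q68 : ∀ i, i < 68 → P i := stepQ 67 Q67 (allL N67 (tt N81 (iv1 F386)) (tt N80 F385) (tt N30 F357) (tt N158 (iv3 F671)) (tt N160 D400) (tt N24 (iv5 D226)) (tt N161 D401) (tt N67 F358))
theorem Q69 : ∀ i, i < 69 → P i := stepQ 68 Q68 (allL N68 (tt N162 D402) (tt N163 D403) (tt N31 F359) (tt N159 (iv3 F673)) (tt N26 F360) (tt N164 D404) (tt N24 (iv6 D227)) (tt N165 D405))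
theorem Q70 : ∀ i, i < 70 → P i := stepQ 69 Q69 (allL N69 (tt N93 (iv1 F393)) (tt N92 F392) (tt N34 F361) (tt N166 D406) (tt N25 (iv4 D228)) (tt N167 D407) (tt N168 D408) (tt N69 F362))
theorem Q71 : ∀ i, i < 71 → P i := stepQ 70 Q70 (allL N70 (tt N169 D409) (tt N89 F1052) (tt N35 F363) (tt N70 F364) (tt N168 (iv4 F693)) (tt N170 D411) (tt N25 (iv6 D229)) (tt N171 D412))
theorem Q72 : ∀ i, i < 72 → P i := stepQ 71 Q71 (allL N71 (tt N39 (iv1 F371)) (tt N26 (iv0 D230)) (tt N36 (iv2 F1094)) (tt N36 F1083) (tt N172 D415) (tt N173 D416) (tt N37 F1024) (tt N37 F1089))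
theorem Q73 : ∀ i, i < 73 → P i := stepQ 72 Q72 (allL N72 (tt N26 (iv1 D231)) (tt N39 F365) (tt N37 F1088) (tt N37 (iv3 F995)) (tt N174 D420) (tt N175 D421) (tt N36 (iv6 F1082)) (tt N36 (iv7 F1095)))
theorem Q74 : ∀ i, i < 74 → P i := stepQ 73 Q73 (allL N73 (tt N176 D423) (tt N177 D424) (tt N38 F366) (tt N73 F367) (tt N178 D425) (tt N26 (iv5 D232)) (tt N170 (iv6 F697)) (tt N179 D426))
theorem Q75 : ∀ i, i < 75 → P i := stepQ 74 Q74 (allL N74 (tt N37 (iv1 F372)) (tt N36 F373) (tt N39 F368) (tt N74 F369) (tt N165 (iv4 F681)) (tt N179 (iv5 F710)) (tt N74 F370) (tt N26 (iv7 D233)))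
theorem Q76 : ∀ i, i < 76 → P i := stepQ 75 Q75 (allL N75 (tt N167 (iv1 F691)) (tt N95 F441) (tt N77 F438) (tt N75 F375) (tt N180 D427) (tt N27 (iv5 D235)) (tt N181 D428) (tt N75 F440))
theorem Q77 : ∀ i, i < 77 → P i := stepQ 76 Q76 (allL N76 (tt N182 D429) (tt N182 (iv0 F719)) (tt N76 F379) (tt N28 (iv3 D238)) (tt N76 F380) (tt N183 D430) (tt N76 F550) (tt N76 F435))
theorem Q78 : ∀ i, i < 78 → P i := stepQ 77 Q77 (allL N77 (tt N95 (iv1 F413)) (tt N167 (iv0 F690)) (tt N75 (iv2 F438)) (tt N183 (iv3 F721)) (tt N184 D431) (tt N28 (iv5 D239)) (tt N185 D432) (tt N77 F437))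
theorem Q79 : ∀ i, i < 79 → P i := stepQ 78 Q78 (allL N78 (tt N186 D433) (tt N187 D434) (tt N144 (iv2 F613)) (tt N30 F381) (tt N188 D435) (tt N29 (iv5 D241)) (tt N189 D436) (tt N78 F382))
theorem Q80 : ∀ i, i < 80 → P i := stepQ 79 Q79 (allL N79 (tt N100 (iv1 F1000)) (tt N102 F999) (tt N145 (iv2 F615)) (tt N31 F383) (tt N44 F384) (tt N190 D439) (tt N29 (iv6 D242)) (tt N191 D440))
theorem Q81 : ∀ i, i < 81 → P i := stepQ 80 Q80 (allL N80 (tt N67 (iv1 F385)) (tt N30 (iv0 D243)) (tt N81 (iv2 F882)) (tt N80 F508) (tt N192 D442) (tt N92 (iv5 F503)) (tt N193 D443) (tt N80 F881))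
theorem Q82 : ∀ i, i < 82 → P i := stepQ 81 Q81 (allL N81 (tt N30 (iv1 D244)) (tt N67 F386) (tt N80 F882) (tt N194 D445) (tt N195 D446) (tt N93 (iv5 F507)) (tt N196 D447) (tt N81 F883))
theorem Q83 : ∀ i, i < 83 → P i := stepQ 82 Q82 (allL N82 (tt N197 D448) (tt N198 D449) (tt N160 (iv2 F675)) (tt N199 D450) (tt N30 (iv4 D245)) (tt N200 D451) (tt N201 D452) (tt N82 F387))
theorem Q84 : ∀ i, i < 84 → P i := stepQ 83 Q83 (allL N83 (tt N202 D453) (tt N203 D454) (tt N161 (iv2 F677)) (tt N189 (iv3 F736)) (tt N201 (iv4 F763)) (tt N204 D455) (tt N30 (iv6 D246)) (tt N205 D456))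
theorem Q85 : ∀ i, i < 85 → P i := stepQ 84 Q84 (allL N84 (tt N165 (iv1 F685)) (tt N31 (iv0 D247)) (tt N162 (iv2 F1021)) (tt N84 F982) (tt N121 F981) (tt N206 D460) (tt N163 (iv6 F1106)) (tt N163 (iv7 F1107)))
theorem Q86 : ∀ i, i < 86 → P i := stepQ 85 Q85 (allL N85 (tt N31 (iv1 D248)) (tt N165 F684) (tt N163 (iv2 F1103)) (tt N207 D463) (tt N208 D464) (tt N209 D465) (tt N162 (iv6 F1017)) (tt N162 (iv7 F1022)))
theorem Q87 : ∀ i, i < 87 → P i := stepQ 86 Q86 (allL N86 (tt N210 D467) (tt N211 D468) (tt N164 (iv2 F679)) (tt N190 (iv3 F738)) (tt N212 D469) (tt N31 (iv5 D249)) (tt N204 (iv6 F764)) (tt N213 D470))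
theorem Q88 : ∀ i, i < 88 → P i := stepQ 87 Q87 (allL N87 (tt N163 (iv1 F678)) (tt N162 F683) (tt N165 (iv2 F680)) (tt N191 (iv3 F739)) (tt N39 F388) (tt N213 (iv5 F768)) (tt N87 F389) (tt N31 (iv7 D250)))
theorem Q89 : ∀ i, i < 89 → P i := stepQ 88 Q88 (allL N88 (tt N214 D471) (tt N94 F411) (tt N90 (iv2 F407)) (tt N215 D472) (tt N32 (iv4 D253)) (tt N186 (iv5 F728)) (tt N216 D473) (tt N88 F404))
theorem Q90 : ∀ i, i < 90 → P i := stepQ 89 Q89 (allL N89 (tt N70 (iv1 F1052)) (tt N99 (iv0 F1053)) (tt N91 (iv2 F409)) (tt N91 (iv3 F399)) (tt N216 (iv4 F775)) (tt N104 F1065) (tt N32 (iv6 D255)) (tt N97 (iv7 F1037)))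
theorem Q91 : ∀ i, i < 91 → P i := stepQ 90 Q90 (allL N90 (tt N94 F396) (tt N214 F772) (tt N88 F407) (tt N217 D478) (tt N33 (iv4 D258)) (tt N187 F733) (tt N218 D479) (tt N90 F410))
theorem Q92 : ∀ i, i < 92 → P i := stepQ 91 Q91 (allL N91 (tt N35 (iv1 F1034)) (tt N171 (iv0 F1035)) (tt N89 F409) (tt N89 F399) (tt N218 (iv4 F782)) (tt N176 (iv5 F1074)) (tt N33 (iv6 D260)) (tt N169 (iv7 F1056)))
theorem Q93 : ∀ i, i < 93 → P i := stepQ 92 Q92 (allL N92 (tt N69 (iv1 F392)) (tt N34 (iv0 D261)) (tt N93 (iv2 F879)) (tt N92 F502) (tt N111 (iv4 F501)) (tt N80 F503) (tt N219 D485) (tt N92 F878))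
theorem Q94 : ∀ i, i < 94 → P i := stepQ 93 Q93 (allL N93 (tt N34 (iv1 D262)) (tt N69 F393) (tt N92 F879) (tt N220 D487) (tt N110 (iv4 F460)) (tt N81 F507) (tt N221 D488) (tt N93 F880))
theorem Q95 : ∀ i, i < 95 → P i := stepQ 94 Q94 (allL N94 (tt N88 (iv1 F411)) (tt N90 (iv0 F396)) (tt N214 F771) (tt N34 (iv3 D263)) (tt N43 F394) (tt N151 (iv5 F627)) (tt N222 D489) (tt N94 F395))
theorem Q96 : ∀ i, i < 96 → P i := stepQ 95 Q95 (allL N95 (tt N75 (iv1 F441)) (tt N77 F413) (tt N167 (iv2 F688)) (tt N151 F628) (tt N223 D490) (tt N34 (iv5 D264)) (tt N224 D491) (tt N95 F412))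
theorem Q97 : ∀ i, i < 97 → P i := stepQ 96 Q96 (allL N96 (tt N225 D492) (tt N221 (iv0 F805)) (tt N168 (iv2 F692)) (tt N222 (iv3 F806)) (tt N35 F414) (tt N226 D493) (tt N34 (iv6 D265)) (tt N227 D494))
theorem Q98 : ∀ i, i < 98 → P i := stepQ 97 Q97 (allL N97 (tt N171 (iv1 F703)) (tt N35 (iv0 D266)) (tt N169 (iv2 F1054)) (tt N169 (iv3 F1055)) (tt N228 D497) (tt N177 (iv5 F1040)) (tt N97 F1039) (tt N89 F1037))
theorem Q99 : ∀ i, i < 99 → P i := stepQ 98 Q98 (allL N98 (tt N101 (iv1 F1029)) (tt N103 F1025) (tt N170 (iv2 F695)) (tt N53 F415) (tt N229 D507) (tt N35 (iv5 D268)) (tt N38 F416) (tt N230 D508))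
theorem Q100 : ∀ i, i < 100 → P i := stepQ 99 Q99 (allL N99 (tt N89 F1053) (tt N169 F701) (tt N171 (iv2 F698)) (tt N54 F417) (tt N227 (iv4 F813)) (tt N230 (iv5 F822)) (tt N99 F418) (tt N35 (iv7 D269)))
theorem Q101 : ∀ i, i < 101 → P i := stepQ 100 Q100 (allL N100 (tt N231 D522) (tt N79 F1000) (tt N172 (iv2 F1096)) (tt N232 D524) (tt N36 (iv4 D272)) (tt N233 D525) (tt N174 (iv6 F1079)) (tt N174 (iv7 F1091)))
theorem Q102 : ∀ i, i < 102 → P i := stepQ 101 Q101 (allL N101 (tt N234 D528) (tt N98 F1029) (tt N173 (iv2 F1098)) (tt N173 (iv3 F1086)) (tt N235 D530) (tt N36 (iv5 D273)) (tt N236 D531) (tt N175 (iv7 F1093)))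
theorem Q103 : ∀ i, i < 103 → P i := stepQ 102 Q102 (allL N102 (tt N79 (iv1 F999)) (tt N231 F839) (tt N174 (iv2 F1090)) (tt N237 D544) (tt N37 (iv4 D277)) (tt N238 D545) (tt N172 (iv6 F1028)) (tt N172 (iv7 F1097)))
theorem Q104 : ∀ i, i < 104 → P i := stepQ 103 Q103 (allL N103 (tt N98 (iv1 F1025)) (tt N234 F843) (tt N175 (iv2 F1092)) (tt N175 (iv3 F996)) (tt N239 D547) (tt N37 (iv5 D278)) (tt N240 D548) (tt N173 (iv7 F1099)))
theorem Q105 : ∀ i, i < 105 → P i := stepQ 104 Q104 (allL N104 (tt N179 (iv1 F713)) (tt N38 (iv0 D280)) (tt N176 (iv2 F1072)) (tt N176 (iv3 F1073)) (tt N241 D555) (tt N89 (iv5 F1065)) (tt N104 F1066) (tt N177 F1061))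
theorem Q106 : ∀ i, i < 106 → P i := stepQ 105 Q105 (allL N105 (tt N38 (iv1 D281)) (tt N179 F712) (tt N177 (iv2 F1060)) (tt N177 (iv3 F1067)) (tt N242 D560) (tt N169 (iv5 F1057)) (tt N243 D562) (tt N176 (iv7 F1076)))
theorem Q107 : ∀ i, i < 107 → P i := stepQ 106 Q106 (allL N106 (tt N244 D563) (tt N245 D564) (tt N178 (iv2 F707)) (tt N246 D565) (tt N38 (iv4 D282)) (tt N247 D566) (tt N229 (iv6 F820)) (tt N248 D567))
theorem Q108 : ∀ i, i < 108 → P i := stepQ 107 Q107 (allL N107 (tt N177 (iv1 F706)) (tt N176 F711) (tt N179 (iv2 F708)) (tt N60 F421) (tt N248 (iv4 F854)) (tt N39 F422) (tt N249 D568) (tt N38 (iv7 D283)))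
theorem Q109 : ∀ i, i < 109 → P i := stepQ 108 Q108 (allL N108 (tt N111 (iv1 F498)) (tt N110 F463) (tt N43 F455) (tt N108 F456) (tt N214 (iv4 F770)) (tt N42 (iv5 D292)) (tt N250 D569) (tt N108 F457))
theorem Q110 : ∀ i, i < 110 → P i := stepQ 109 Q109 (allL N109 (tt N121 F993) (tt N208 (iv0 F971)) (tt N44 F458) (tt N109 F459) (tt N145 (iv4 F616)) (tt N251 D572) (tt N42 (iv6 D293)) (tt N252 D573))
theorem Q111 : ∀ i, i < 111 → P i := stepQ 110 Q110 (allL N110 (tt N108 (iv1 F463)) (tt N43 (iv0 D294)) (tt N111 (iv2 F874)) (tt N110 F461) (tt N93 F460) (tt N110 F506) (tt N253 D575) (tt N110 F890))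
theorem Q112 : ∀ i, i < 112 → P i := stepQ 111 Q111 (allL N111 (tt N43 (iv1 D295)) (tt N108 F498) (tt N110 F874) (tt N45 (iv3 F499)) (tt N92 F501) (tt N111 F500) (tt N254 D576) (tt N111 F875))
theorem Q113 : ∀ i, i < 113 → P i := stepQ 112 Q112 (allL N112 (tt N255 D577) (tt N254 (iv0 F907)) (tt N250 (iv2 F857)) (tt N46 F509) (tt N222 (iv4 F807)) (tt N256 D578) (tt N43 (iv6 D296)) (tt N257 D579))
theorem Q114 : ∀ i, i < 114 → P i := stepQ 113 Q113 (allL N113 (tt N252 (iv1 F869)) (tt N44 (iv0 D297)) (tt N121 F1014) (tt N113 F987) (tt N162 F988) (tt N258 D583) (tt N208 (iv6 F1016)) (tt N208 F1015))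
theorem Q115 : ∀ i, i < 115 → P i := stepQ 114 Q114 (allL N114 (tt N44 (iv1 D298)) (tt N252 F868) (tt N208 (iv2 F1007)) (tt N48 F1006) (tt N163 (iv4 F1105)) (tt N259 D588) (tt N121 (iv6 F1012)) (tt N121 (iv7 F1013)))
theorem Q116 : ∀ i, i < 116 → P i := stepQ 115 Q115 (allL N115 (tt N260 D590) (tt N261 D591) (tt N251 (iv2 F862)) (tt N49 F510) (tt N262 D592) (tt N44 (iv5 D299)) (tt N256 (iv6 F909)) (tt N263 D593))
theorem Q117 : ∀ i, i < 117 → P i := stepQ 116 Q116 (allL N116 (tt N208 (iv1 F972)) (tt N121 (iv0 F992)) (tt N252 (iv2 F864)) (tt N50 F511) (tt N191 (iv4 F740)) (tt N263 (iv5 F921)) (tt N116 F512) (tt N44 (iv7 D300)))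
theorem Q118 : ∀ i, i < 118 → P i := stepQ 117 Q117 (allL N117 (tt N46 F541) (tt N120 F542) (tt N117 F892) (tt N254 (iv3 F905)) (tt N117 F516) (tt N124 (iv5 F551)) (tt N45 (iv6 D302)) (tt N118 (iv7 F894)))
theorem Q119 : ∀ i, i < 119 → P i := stepQ 118 Q118 (allL N118 (tt N120 (iv1 F522)) (tt N46 (iv0 D303)) (tt N118 F895) (tt N264 D594) (tt N118 F560) (tt N125 (iv5 F553)) (tt N118 F554) (tt N117 F894))
theorem Q120 : ∀ i, i < 120 → P i := stepQ 119 Q119 (allL N119 (tt N122 (iv1 F540)) (tt N123 (iv0 F526)) (tt N119 F517) (tt N256 (iv3 F908)) (tt N265 D595) (tt N46 (iv5 D305)) (tt N49 F518) (tt N266 D596))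
theorem Q121 : ∀ i, i < 121 → P i := stepQ 120 Q120 (allL N120 (tt N117 (iv1 F542)) (tt N118 F522) (tt N120 F519) (tt N257 (iv3 F910)) (tt N54 F520) (tt N266 (iv5 F940)) (tt N120 F521) (tt N46 (iv7 D306)))
theorem Q122 : ∀ i, i < 122 → P i := stepQ 121 Q121 (allL N121 (tt N116 F992) (tt N109 (iv0 F993)) (tt N113 (iv2 F1014)) (tt N47 (iv3 D308)) (tt N84 (iv4 F981)) (tt N267 D601) (tt N114 F1012) (tt N114 F1013))
theorem Q123 : ∀ i, i < 123 → P i := stepQ 122 Q122 (allL N122 (tt N266 (iv1 F941)) (tt N119 F540) (tt N122 F538) (tt N267 (iv3 F945)) (tt N268 D602) (tt N47 (iv5 D310)) (tt N269 D603) (tt N123 (iv7 F536)))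
theorem Q124 : ∀ i, i < 124 → P i := stepQ 123 Q123 (allL N123 (tt N119 F526) (tt N266 F942) (tt N123 F539) (tt N259 (iv3 F1010)) (tt N270 D609) (tt N48 (iv5 D315)) (tt N271 D610) (tt N122 F536))
theorem Q125 : ∀ i, i < 125 → P i := stepQ 124 Q124 (allL N124 (tt N127 (iv1 F558)) (tt N49 (iv0 D316)) (tt N124 F893) (tt N272 D611) (tt N137 (iv4 F598)) (tt N117 F551) (tt N124 F552) (tt N125 F898))
theorem Q126 : ∀ i, i < 126 → P i := stepQ 125 Q125 (allL N125 (tt N49 (iv1 D317)) (tt N127 F559) (tt N125 F896) (tt N261 F919) (tt N138 (iv4 F600)) (tt N118 F553) (tt N273 D612) (tt N124 (iv7 F898)))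
theorem Q127 : ∀ i, i < 127 → P i := stepQ 126 Q126 (allL N126 (tt N134 (iv1 F590)) (tt N135 (iv0 F593)) (tt N126 F555) (tt N274 D613) (tt N49 (iv4 D318)) (tt N275 D614) (tt N265 (iv6 F936)) (tt N276 D615))
theorem Q128 : ∀ i, i < 128 → P i := stepQ 127 Q127 (allL N127 (tt N125 (iv1 F559)) (tt N124 F558) (tt N127 F556) (tt N263 (iv3 F920)) (tt N276 (iv4 F1121)) (tt N50 F557) (tt N277 D616) (tt N49 (iv7 D319)))
theorem Q129 : ∀ i, i < 129 → P i := stepQ 128 Q128 (allL N128 (tt N268 (iv1 F947)) (tt N270 (iv0 F963)) (tt N128 F561) (tt N278 D617) (tt N53 (iv4 D320)) (tt N279 D618) (tt N59 F562) (tt N280 D619))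
theorem Q130 : ∀ i, i < 130 → P i := stepQ 129 Q129 (allL N129 (tt N56 (iv1 F566)) (tt N55 F565) (tt N129 F563) (tt N230 (iv3 F821)) (tt N280 (iv4 F1131)) (tt N54 F564) (tt N281 D620) (tt N53 (iv7 D321)))
theorem Q131 : ∀ i, i < 131 → P i := stepQ 130 Q130 (allL N130 (tt N282 D621) (tt N265 (iv0 F937)) (tt N130 F570) (tt N283 D622) (tt N55 (iv4 D327)) (tt N284 D623) (tt N285 D624) (tt N132 (iv7 F585)))
theorem Q132 : ∀ i, i < 132 → P i := stepQ 131 Q131 (allL N131 (tt N286 D625) (tt N287 D626) (tt N131 F571) (tt N131 F980) (tt N285 (iv4 F1146)) (tt N133 (iv5 F587)) (tt N55 (iv6 D328)) (tt N288 D627))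
theorem Q133 : ∀ i, i < 133 → P i := stepQ 132 Q132 (allL N132 (tt N265 (iv1 F938)) (tt N282 F1139) (tt N132 F584) (tt N289 D628) (tt N56 (iv4 D334)) (tt N290 D629) (tt N291 D630) (tt N130 F585))
theorem Q134 : ∀ i, i < 134 → P i := stepQ 133 Q133 (allL N133 (tt N281 F1137) (tt N142 (iv0 F608)) (tt N133 F586) (tt N133 F979) (tt N291 (iv4 F1160)) (tt N131 F587) (tt N56 (iv6 D335)) (tt N292 D631))
theorem Q135 : ∀ i, i < 135 → P i := stepQ 134 Q134 (allL N134 (tt N276 (iv1 F1122)) (tt N126 F590) (tt N134 F588) (tt N293 D632) (tt N57 (iv4 D336)) (tt N294 D633) (tt N134 F589) (tt N135 (iv7 F592)))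
theorem Q136 : ∀ i, i < 136 → P i := stepQ 135 Q135 (allL N135 (tt N126 F593) (tt N276 F1123) (tt N135 F591) (tt N295 D634) (tt N58 (iv4 D337)) (tt N296 D635) (tt N297 D636) (tt N134 F592))
theorem Q137 : ∀ i, i < 137 → P i := stepQ 136 Q136 (allL N136 (tt N298 D637) (tt N298 (iv0 F1180)) (tt N136 F594) (tt N136 F595) (tt N297 (iv4 F1176)) (tt N136 F596) (tt N58 (iv6 D338)) (tt N136 F597))
theorem Q138 : ∀ i, i < 138 → P i := stepQ 137 Q137 (allL N137 (tt N141 (iv1 F604)) (tt N59 (iv0 D339)) (tt N137 F900) (tt N299 D638) (tt N124 F598) (tt N300 D639) (tt N137 F599) (tt N138 (iv7 F899)))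
theorem Q139 : ∀ i, i < 139 → P i := stepQ 138 Q138 (allL N138 (tt N59 (iv1 D340)) (tt N141 F605) (tt N138 F897) (tt N301 D640) (tt N125 F600) (tt N302 D641) (tt N303 D642) (tt N137 F899))
theorem Q140 : ∀ i, i < 140 → P i := stepQ 139 Q139 (allL N139 (tt N304 D643) (tt N305 D644) (tt N306 D645) (tt N59 (iv3 D341)) (tt N246 (iv4 F853)) (tt N307 D646) (tt N278 (iv6 F1128)) (tt N308 D647))
theorem Q141 : ∀ i, i < 141 → P i := stepQ 140 Q140 (allL N140 (tt N309 D648) (tt N310 D649) (tt N140 F601) (tt N307 (iv3 F1193)) (tt N311 D650) (tt N59 (iv5 D342)) (tt N312 D651) (tt N313 D652))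
theorem Q142 : ∀ i, i < 142 → P i := stepQ 141 Q141 (allL N141 (tt N138 (iv1 F605)) (tt N137 F604) (tt N141 F602) (tt N308 (iv3 F1194)) (tt N60 F603) (tt N313 (iv5 F1209)) (tt N314 D653) (tt N59 (iv7 D343)))
theorem Q143 : ∀ i, i < 143 → P i := stepQ 142 Q142 (allL N142 (tt N133 F608) (tt N292 F1166) (tt N142 F606) (tt N249 (iv3 F855)) (tt N314 (iv4 F1213)) (tt N142 F607) (tt N60 (iv6 D344)) (tt N281 (iv7 F1136)))
theorem Q144 : ∀ i, i < 144 → P i := stepQ 143 Q143 (allL N143 (tt N154 (iv1 F642)) (tt N64 (iv0 F612)) (tt N66 F609) (tt N61 (iv3 D345)) (tt N143 F610) (tt N315 D654) (tt N316 D655) (tt N143 F611))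
theorem Q145 : ∀ i, i < 145 → P i := stepQ 144 Q144 (allL N144 (tt N187 (iv1 F731)) (tt N186 F729) (tt N78 F613) (tt N315 (iv3 F1215)) (tt N317 D656) (tt N61 (iv5 D346)) (tt N318 D657) (tt N144 F614))
theorem Q146 : ∀ i, i < 146 → P i := stepQ 145 Q145 (allL N145 (tt N172 (iv1 F1085)) (tt N174 (iv0 F994)) (tt N79 F615) (tt N316 (iv3 F1218)) (tt N109 F616) (tt N319 D658) (tt N61 (iv6 D347)) (tt N231 (iv7 F1005)))
theorem Q147 : ∀ i, i < 147 → P i := stepQ 146 Q146 (allL N146 (tt N148 (iv1 F620)) (tt N62 (iv0 D348)) (tt N147 (iv2 F1232)) (tt N182 (iv3 F717)) (tt N147 F617) (tt N320 D660) (tt N321 D661) (tt N146 F1231))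
theorem Q148 : ∀ i, i < 148 → P i := stepQ 147 Q147 (allL N147 (tt N62 (iv1 D349)) (tt N148 F621) (tt N146 F1232) (tt N147 F618) (tt N146 (iv4 F617)) (tt N322 D662) (tt N323 D663) (tt N147 F1233))
theorem Q149 : ∀ i, i < 149 → P i := stepQ 148 Q148 (allL N148 (tt N147 (iv1 F621)) (tt N146 F620) (tt N62 (iv2 D350)) (tt N154 (iv3 F639)) (tt N154 (iv4 F640)) (tt N324 D664) (tt N148 F1048) (tt N148 F619))
theorem Q150 : ∀ i, i < 150 → P i := stepQ 149 Q149 (allL N149 (tt N325 D665) (tt N326 D666) (tt N324 (iv2 F1241)) (tt N63 F622) (tt N327 D667) (tt N62 (iv5 D351)) (tt N328 D668) (tt N149 F623))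
theorem Q151 : ∀ i, i < 151 → P i := stepQ 150 Q150 (allL N150 (tt N65 (iv1 F625)) (tt N63 (iv0 D353)) (tt N151 (iv2 F630)) (tt N329 D669) (tt N330 D670) (tt N214 (iv5 F769)) (tt N331 D671) (tt N150 F631))
theorem Q152 : ∀ i, i < 152 → P i := stepQ 151 Q151 (allL N151 (tt N63 (iv1 D354)) (tt N65 F626) (tt N150 F630) (tt N95 (iv3 F628)) (tt N332 D672) (tt N94 F627) (tt N333 D673) (tt N151 F629))
theorem Q153 : ∀ i, i < 153 → P i := stepQ 152 Q152 (allL N152 (tt N200 (iv1 F762)) (tt N223 (iv0 F811)) (tt N156 (iv2 F648)) (tt N334 D674) (tt N63 (iv4 D355)) (tt N156 (iv5 F650)) (tt N335 D675) (tt N152 F632))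
theorem Q154 : ∀ i, i < 154 → P i := stepQ 153 Q153 (allL N153 (tt N336 D676) (tt N337 D677) (tt N157 (iv2 F651)) (tt N328 (iv3 F1246)) (tt N335 (iv4 F1262)) (tt N153 F1050) (tt N63 (iv6 D356)) (tt N338 D678))
theorem Q155 : ∀ i, i < 155 → P i := stepQ 154 Q154 (allL N154 (tt N66 (iv1 F643)) (tt N143 F642) (tt N64 (iv2 D375)) (tt N148 F639) (tt N148 F640) (tt N339 D679) (tt N154 F1049) (tt N154 F641))
theorem Q156 : ∀ i, i < 156 → P i := stepQ 155 Q155 (allL N155 (tt N329 F1253) (tt N340 D680) (tt N339 (iv2 F1265)) (tt N65 F644) (tt N341 D681) (tt N64 (iv5 D376)) (tt N342 D682) (tt N155 F645))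
theorem Q157 : ∀ i, i < 157 → P i := stepQ 156 Q156 (allL N156 (tt N223 (iv1 F812)) (tt N200 (iv0 F761)) (tt N152 F648) (tt N343 D683) (tt N65 (iv4 D378)) (tt N152 F650) (tt N344 D684) (tt N156 F649))
theorem Q158 : ∀ i, i < 158 → P i := stepQ 157 Q157 (allL N157 (tt N345 D685) (tt N346 D686) (tt N153 F651) (tt N342 (iv3 F1275)) (tt N344 (iv4 F1280)) (tt N157 F1112) (tt N65 (iv6 D379)) (tt N347 D687))
theorem Q159 : ∀ i, i < 159 → P i := stepQ 158 Q158 (allL N158 (tt N348 D688) (tt N349 D689) (tt N315 (iv2 F1214)) (tt N67 F671) (tt N350 D690) (tt N66 (iv5 D398)) (tt N351 D691) (tt N158 F672))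
theorem Q160 : ∀ i, i < 160 → P i := stepQ 159 Q159 (allL N159 (tt N352 D692) (tt N353 D693) (tt N316 (iv2 F1217)) (tt N68 F673) (tt N159 F674) (tt N354 D694) (tt N66 (iv6 D399)) (tt N355 D695))
theorem Q161 : ∀ i, i < 161 → P i := stepQ 160 Q160 (allL N160 (tt N198 (iv1 F753)) (tt N197 F751) (tt N82 F675) (tt N356 D696) (tt N67 (iv4 D400)) (tt N223 (iv5 F809)) (tt N357 D697) (tt N160 F676))
theorem Q162 : ∀ i, i < 162 → P i := stepQ 161 Q161 (allL N161 (tt N358 D698) (tt N359 D699) (tt N83 F677) (tt N351 (iv3 F1296)) (tt N357 (iv4 F1308)) (tt N360 D700) (tt N67 (iv6 D401)) (tt N361 D701))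
theorem Q163 : ∀ i, i < 163 → P i := stepQ 162 Q162 (allL N162 (tt N87 (iv1 F683)) (tt N68 (iv0 D402)) (tt N84 F1021) (tt N362 D702) (tt N113 (iv4 F988)) (tt N363 D703) (tt N85 F1017) (tt N85 F1022))
theorem Q164 : ∀ i, i < 164 → P i := stepQ 163 Q163 (allL N163 (tt N68 (iv1 D403)) (tt N87 F678) (tt N85 F1103) (tt N163 F1104) (tt N114 F1105) (tt N364 D704) (tt N84 F1106) (tt N84 F1107))
theorem Q165 : ∀ i, i < 165 → P i := stepQ 164 Q164 (allL N164 (tt N365 D705) (tt N366 D706) (tt N86 F679) (tt N354 (iv3 F1301)) (tt N367 D707) (tt N68 (iv5 D404)) (tt N360 (iv6 F1311)) (tt N368 D708))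
theorem Q166 : ∀ i, i < 166 → P i := stepQ 165 Q165 (allL N165 (tt N85 (iv1 F684)) (tt N84 F685) (tt N87 F680) (tt N355 (iv3 F1302)) (tt N74 F681) (tt N368 (iv5 F1337)) (tt N165 F682) (tt N68 (iv7 D405)))
theorem Q167 : ∀ i, i < 167 → P i := stepQ 166 Q166 (allL N166 (tt N217 F780) (tt N369 D709) (tt N370 D710) (tt N69 (iv3 D406)) (tt N166 F686) (tt N340 (iv5 F1272)) (tt N371 D711) (tt N166 F687))
theorem Q168 : ∀ i, i < 168 → P i := stepQ 167 Q167 (allL N167 (tt N77 F690) (tt N75 F691) (tt N95 F688) (tt N340 F1270) (tt N200 (iv4 F760)) (tt N69 (iv5 D407)) (tt N372 D712) (tt N167 F689))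
theorem Q169 : ∀ i, i < 169 → P i := stepQ 168 Q168 (allL N168 (tt N373 D713) (tt N219 (iv0 F796)) (tt N96 F692) (tt N371 (iv3 F1349)) (tt N70 F693) (tt N374 D714) (tt N69 (iv6 D408)) (tt N375 D715))
theorem Q170 : ∀ i, i < 170 → P i := stepQ 169 Q169 (allL N169 (tt N99 (iv1 F701)) (tt N70 (iv0 D409)) (tt N97 F1054) (tt N97 F1055) (tt N376 D716) (tt N105 F1057) (tt N169 F1058) (tt N91 F1056))
theorem Q171 : ∀ i, i < 171 → P i := stepQ 170 Q170 (allL N170 (tt N173 (iv1 F1101)) (tt N175 (iv0 F1080)) (tt N98 F695) (tt N170 F696) (tt N377 D717) (tt N70 (iv5 D411)) (tt N73 F697) (tt N234 (iv7 F1033)))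
theorem Q172 : ∀ i, i < 172 → P i := stepQ 171 Q171 (allL N171 (tt N91 F1035) (tt N97 F703) (tt N99 F698) (tt N171 F699) (tt N375 (iv4 F1362)) (tt N234 (iv5 F1032)) (tt N171 F700) (tt N70 (iv7 D412)))
theorem Q173 : ∀ i, i < 173 → P i := stepQ 172 Q172 (allL N172 (tt N191 F1084) (tt N145 F1085) (tt N100 F1096) (tt N352 (iv3 F1297)) (tt N71 (iv4 D415)) (tt N378 D718) (tt N102 F1028) (tt N102 F1097))
theorem Q174 : ∀ i, i < 174 → P i := stepQ 173 Q173 (allL N173 (tt N230 (iv1 F1100)) (tt N170 F1101) (tt N101 F1098) (tt N101 F1086) (tt N379 D719) (tt N71 (iv5 D416)) (tt N380 D720) (tt N103 F1099))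
theorem Q175 : ∀ i, i < 175 → P i := stepQ 174 Q174 (allL N174 (tt N145 F994) (tt N191 F1102) (tt N102 F1090) (tt N381 D721) (tt N72 (iv4 D420)) (tt N382 D722) (tt N100 F1079) (tt N100 F1091))
theorem Q176 : ∀ i, i < 176 → P i := stepQ 175 Q175 (allL N175 (tt N170 F1080) (tt N230 F1081) (tt N103 F1092) (tt N103 F996) (tt N383 D723) (tt N72 (iv5 D421)) (tt N384 D724) (tt N101 F1093))
theorem Q177 : ∀ i, i < 177 → P i := stepQ 176 Q176 (allL N176 (tt N107 (iv1 F711)) (tt N73 (iv0 D423)) (tt N104 F1072) (tt N104 F1073) (tt N385 D725) (tt N91 F1074) (tt N176 F1075) (tt N105 F1076))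
theorem Q178 : ∀ i, i < 178 → P i := stepQ 177 Q177 (allL N177 (tt N73 (iv1 D424)) (tt N107 F706) (tt N105 F1060) (tt N105 F1067) (tt N386 D726) (tt N97 F1040) (tt N387 D727) (tt N104 (iv7 F1061)))
theorem Q179 : ∀ i, i < 179 → P i := stepQ 178 Q178 (allL N178 (tt N388 D728) (tt N389 D729) (tt N106 F707) (tt N390 D730) (tt N73 (iv4 D425)) (tt N391 D731) (tt N377 (iv6 F1370)) (tt N392 D732))
theorem Q180 : ∀ i, i < 180 → P i := stepQ 179 Q179 (allL N179 (tt N105 (iv1 F712)) (tt N104 F713) (tt N107 F708) (tt N179 F709) (tt N392 (iv4 F1410)) (tt N74 F710) (tt N393 D733) (tt N73 (iv7 D426)))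
theorem Q181 : ∀ i, i < 181 → P i := stepQ 180 Q180 (allL N180 (tt N332 (iv1 F1258)) (tt N330 (iv0 F1251)) (tt N184 (iv2 F723)) (tt N394 D734) (tt N75 (iv4 D427)) (tt N184 (iv5 F725)) (tt N395 D735) (tt N180 F714))
theorem Q182 : ∀ i, i < 182 → P i := stepQ 181 Q181 (allL N181 (tt N396 D736) (tt N397 D737) (tt N185 (iv2 F726)) (tt N181 F715) (tt N395 (iv4 F1419)) (tt N181 F716) (tt N75 (iv6 D428)) (tt N398 D738))
theorem Q183 : ∀ i, i < 183 → P i := stepQ 182 Q182 (allL N182 (tt N76 F719) (tt N76 (iv0 D429)) (tt N182 F1229) (tt N146 F717) (tt N182 F718) (tt N399 D739) (tt N400 D740) (tt N182 F1230))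
theorem Q184 : ∀ i, i < 184 → P i := stepQ 183 Q183 (allL N183 (tt N401 D741) (tt N401 F1430) (tt N183 F720) (tt N77 F721) (tt N399 (iv4 F1426)) (tt N76 (iv5 D430)) (tt N402 D742) (tt N183 F722))
theorem Q185 : ∀ i, i < 185 → P i := stepQ 184 Q184 (allL N184 (tt N330 (iv1 F1252)) (tt N332 (iv0 F1257)) (tt N180 F723) (tt N403 D743) (tt N77 (iv4 D431)) (tt N180 F725) (tt N404 D744) (tt N184 F724))
theorem Q186 : ∀ i, i < 186 → P i := stepQ 185 Q185 (allL N185 (tt N405 D745) (tt N406 D746) (tt N181 F726) (tt N402 (iv3 F1432)) (tt N404 (iv4 F1438)) (tt N185 F727) (tt N77 (iv6 D432)) (tt N407 D747))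
theorem Q187 : ∀ i, i < 187 → P i := stepQ 186 Q186 (allL N186 (tt N144 (iv1 F729)) (tt N78 (iv0 D433)) (tt N187 F732) (tt N408 D748) (tt N197 (iv4 F750)) (tt N88 F728) (tt N409 D749) (tt N186 F730))
theorem Q188 : ∀ i, i < 188 → P i := stepQ 187 Q187 (allL N187 (tt N78 (iv1 D434)) (tt N144 F731) (tt N186 (iv2 F732)) (tt N348 (iv3 F1288)) (tt N198 (iv4 F754)) (tt N90 (iv5 F733)) (tt N410 D750) (tt N187 F734))
theorem Q189 : ∀ i, i < 189 → P i := stepQ 188 Q188 (allL N188 (tt N195 (iv1 F749)) (tt N192 (iv0 F743)) (tt N317 (iv2 F1221)) (tt N411 D751) (tt N78 (iv4 D435)) (tt N330 (iv5 F1250)) (tt N412 D752) (tt N188 F735))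
theorem Q190 : ∀ i, i < 190 → P i := stepQ 189 Q189 (allL N189 (tt N413 D753) (tt N414 D754) (tt N318 (iv2 F1225)) (tt N83 F736) (tt N412 (iv4 F1463)) (tt N415 D755) (tt N78 (iv6 D436)) (tt N416 D756))
theorem Q191 : ∀ i, i < 191 → P i := stepQ 190 Q190 (allL N190 (tt N417 D757) (tt N418 D758) (tt N319 (iv2 F1226)) (tt N86 F738) (tt N419 D759) (tt N79 (iv5 D439)) (tt N415 (iv6 F1465)) (tt N420 D760))
theorem Q192 : ∀ i, i < 192 → P i := stepQ 191 Q191 (allL N191 (tt N174 (iv1 F1102)) (tt N172 (iv0 F1084)) (tt N231 F1002) (tt N87 F739) (tt N116 F740) (tt N420 (iv5 F1470)) (tt N191 F741) (tt N79 (iv7 D440)))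
theorem Q193 : ∀ i, i < 193 → P i := stepQ 192 Q192 (allL N192 (tt N188 F743) (tt N317 (iv0 F1223)) (tt N195 (iv2 F887)) (tt N421 D761) (tt N80 (iv4 D442)) (tt N195 (iv5 F748)) (tt N422 D762) (tt N192 F886))
theorem Q194 : ∀ i, i < 194 → P i := stepQ 193 Q193 (allL N193 (tt N423 D763) (tt N424 D764) (tt N196 F889) (tt N193 F744) (tt N422 (iv4 F1473)) (tt N425 D765) (tt N80 (iv6 D443)) (tt N426 D766))
theorem Q195 : ∀ i, i < 195 → P i := stepQ 194 Q194 (allL N194 (tt N399 F1453) (tt N399 F1454) (tt N194 F747) (tt N81 (iv3 D445)) (tt N401 (iv4 F1450)) (tt N220 (iv5 F804)) (tt N427 D767) (tt N194 F884))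
theorem Q196 : ∀ i, i < 196 → P i := stepQ 195 Q195 (allL N195 (tt N317 (iv1 F1224)) (tt N188 F749) (tt N192 F887) (tt N428 D768) (tt N81 (iv4 D446)) (tt N192 F748) (tt N429 D769) (tt N195 F885))
theorem Q197 : ∀ i, i < 197 → P i := stepQ 196 Q196 (allL N196 (tt N430 D770) (tt N431 D771) (tt N193 (iv2 F889)) (tt N427 (iv3 F1479)) (tt N429 (iv4 F1485)) (tt N432 D772) (tt N81 (iv6 D447)) (tt N433 D773))
theorem Q198 : ∀ i, i < 198 → P i := stepQ 197 Q197 (allL N197 (tt N160 (iv1 F751)) (tt N82 (iv0 D448)) (tt N198 F757) (tt N434 D774) (tt N186 F750) (tt N198 (iv5 F755)) (tt N435 D775) (tt N197 F752))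
theorem Q199 : ∀ i, i < 199 → P i := stepQ 198 Q198 (allL N198 (tt N82 (iv1 D449)) (tt N160 F753) (tt N197 (iv2 F757)) (tt N436 D776) (tt N187 F754) (tt N197 F755) (tt N437 D777) (tt N198 F756))
theorem Q200 : ∀ i, i < 200 → P i := stepQ 199 Q199 (allL N199 (tt N438 D778) (tt N439 D779) (tt N440 D780) (tt N82 (iv3 D450)) (tt N411 (iv4 F1461)) (tt N441 D781) (tt N442 D782) (tt N199 F758))
theorem Q201 : ∀ i, i < 201 → P i := stepQ 200 Q200 (allL N200 (tt N156 F761) (tt N152 F762) (tt N223 (iv2 F808)) (tt N441 (iv3 F1503)) (tt N167 F760) (tt N82 (iv5 D451)) (tt N443 D783) (tt N200 F759))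
theorem Q202 : ∀ i, i < 202 → P i := stepQ 201 Q201 (allL N201 (tt N444 D784) (tt N445 D785) (tt N357 (iv2 F1307)) (tt N442 (iv3 F1505)) (tt N83 F763) (tt N446 D786) (tt N82 (iv6 D452)) (tt N447 D787))
theorem Q203 : ∀ i, i < 203 → P i := stepQ 202 Q202 (allL N202 (tt N361 (iv1 F1316)) (tt N83 (iv0 D453)) (tt N358 (iv2 F3885)) (tt N202 F5055) (tt N448 D790) (tt N449 D791) (tt N450 D792) (tt N359 F3882))
theorem Q204 : ∀ i, i < 204 → P i := stepQ 203 Q203 (allL N203 (tt N83 (iv1 D454)) (tt N361 F1315) (tt N359 F3878) (tt N451 D794) (tt N452 D795) (tt N453 D796) (tt N454 D797) (tt N358 (iv7 F3886)))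
theorem Q205 : ∀ i, i < 205 → P i := stepQ 204 Q204 (allL N204 (tt N455 D798) (tt N456 D799) (tt N360 (iv2 F1310)) (tt N415 (iv3 F1464)) (tt N457 D800) (tt N83 (iv5 D455)) (tt N86 F764) (tt N458 D801))
theorem Q206 : ∀ i, i < 206 → P i := stepQ 205 Q205 (allL N205 (tt N359 (iv1 F1309)) (tt N358 F1314) (tt N361 (iv2 F1312)) (tt N416 (iv3 F1466)) (tt N447 (iv4 F1507)) (tt N458 (iv5 F1512)) (tt N205 F765) (tt N83 (iv7 D456)))
theorem Q207 : ∀ i, i < 207 → P i := stepQ 206 Q206 (allL N206 (tt N459 D802) (tt N226 (iv0 F1108)) (tt N363 (iv2 F1321)) (tt N206 F1115) (tt N460 D803) (tt N84 (iv5 D460)) (tt N461 D804) (tt N364 (iv7 F1325)))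
theorem Q208 : ∀ i, i < 208 → P i := stepQ 207 Q207 (allL N207 (tt N400 F2418) (tt N462 D806) (tt N207 F1109) (tt N85 (iv3 D463)) (tt N207 F974) (tt N463 D807) (tt N362 (iv6 F1319)) (tt N362 (iv7 F1320)))
theorem Q209 : ∀ i, i < 209 → P i := stepQ 208 Q208 (allL N208 (tt N109 F971) (tt N116 F972) (tt N114 F1007) (tt N208 F973) (tt N85 (iv4 D464)) (tt N464 D808) (tt N113 F1016) (tt N113 (iv7 F1015)))
theorem Q210 : ∀ i, i < 210 → P i := stepQ 209 Q209 (allL N209 (tt N226 F1023) (tt N459 F1514) (tt N364 (iv2 F1323)) (tt N463 (iv3 F1522)) (tt N465 D809) (tt N85 (iv5 D465)) (tt N466 D810) (tt N363 (iv7 F1322)))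
theorem Q211 : ∀ i, i < 211 → P i := stepQ 210 Q210 (allL N210 (tt N368 (iv1 F1339)) (tt N86 (iv0 D467)) (tt N365 F1327) (tt N210 F798) (tt N467 D811) (tt N219 F797) (tt N425 (iv6 F1475)) (tt N366 (iv7 F1330)))
theorem Q212 : ∀ i, i < 212 → P i := stepQ 211 Q211 (allL N211 (tt N86 (iv1 D468)) (tt N368 F1338) (tt N366 F1333) (tt N468 D812) (tt N469 D813) (tt N373 (iv5 F1352)) (tt N470 D814) (tt N365 F1328))
theorem Q213 : ∀ i, i < 213 → P i := stepQ 212 Q212 (allL N212 (tt N471 D815) (tt N472 D816) (tt N367 (iv2 F1335)) (tt N473 D817) (tt N86 (iv4 D469)) (tt N474 D818) (tt N457 (iv6 F1511)) (tt N475 D819))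
theorem Q214 : ∀ i, i < 214 → P i := stepQ 213 Q213 (allL N213 (tt N366 (iv1 F1329)) (tt N365 F1334) (tt N368 (iv2 F1336)) (tt N420 (iv3 F1469)) (tt N475 (iv4 F1529)) (tt N87 F768) (tt N476 D820) (tt N86 (iv7 D470)))
theorem Q215 : ∀ i, i < 215 → P i := stepQ 214 Q214 (allL N214 (tt N90 (iv1 F772)) (tt N88 (iv0 D471)) (tt N94 (iv2 F771)) (tt N370 (iv3 F1340)) (tt N108 F770) (tt N150 F769) (tt N477 D821) (tt N214 F773))
theorem Q216 : ∀ i, i < 216 → P i := stepQ 215 Q215 (allL N215 (tt N478 D822) (tt N479 D823) (tt N480 D824) (tt N88 (iv3 D472)) (tt N217 (iv4 F778)) (tt N408 (iv5 F1446)) (tt N481 D825) (tt N215 F774))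
theorem Q217 : ∀ i, i < 217 → P i := stepQ 216 Q216 (allL N216 (tt N477 F1533) (tt N482 D826) (tt N218 (iv2 F781)) (tt N481 (iv3 F1548)) (tt N89 F775) (tt N417 (iv5 F1468)) (tt N88 (iv6 D473)) (tt N228 F1114))
theorem Q218 : ∀ i, i < 218 → P i := stepQ 217 Q217 (allL N217 (tt N370 (iv1 F1344)) (tt N166 (iv0 F780)) (tt N369 F1346) (tt N90 (iv3 D478)) (tt N215 F778) (tt N348 F1290) (tt N483 D827) (tt N217 F779))
theorem Q219 : ∀ i, i < 219 → P i := stepQ 218 Q218 (allL N218 (tt N222 F1051) (tt N484 D828) (tt N216 F781) (tt N483 (iv3 F1554)) (tt N91 F782) (tt N485 D829) (tt N90 (iv6 D479)) (tt N376 (iv7 F1368)))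
theorem Q220 : ∀ i, i < 220 → P i := stepQ 219 Q219 (allL N219 (tt N168 F796) (tt N227 F815) (tt N221 F891) (tt N219 F795) (tt N254 (iv4 F906)) (tt N210 (iv5 F797)) (tt N92 (iv6 D485)) (tt N225 F929))
theorem Q221 : ∀ i, i < 221 → P i := stepQ 220 Q220 (allL N220 (tt N486 D830) (tt N486 (iv0 F1566)) (tt N220 F802) (tt N93 (iv3 D487)) (tt N220 F803) (tt N194 F804) (tt N487 D831) (tt N220 F888))
theorem Q222 : ∀ i, i < 222 → P i := stepQ 221 Q221 (allL N221 (tt N96 F805) (tt N375 F1364) (tt N219 (iv2 F891)) (tt N487 (iv3 F1570)) (tt N253 (iv4 F902)) (tt N365 (iv5 F1326)) (tt N93 (iv6 D488)) (tt N373 (iv7 F1356)))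
theorem Q223 : ∀ i, i < 223 → P i := stepQ 222 Q222 (allL N222 (tt N228 F1111) (tt N218 (iv0 F1051)) (tt N477 (iv2 F1531)) (tt N96 F806) (tt N112 F807) (tt N488 D832) (tt N94 (iv6 D489)) (tt N482 (iv7 F1550)))
theorem Q224 : ∀ i, i < 224 → P i := stepQ 223 Q223 (allL N223 (tt N152 F811) (tt N156 F812) (tt N200 F808) (tt N489 D833) (tt N95 (iv4 D490)) (tt N160 F809) (tt N490 D834) (tt N223 F810))
theorem Q225 : ∀ i, i < 225 → P i := stepQ 224 Q224 (allL N224 (tt N491 D835) (tt N492 D836) (tt N372 (iv2 F1351)) (tt N333 (iv3 F1260)) (tt N490 (iv4 F1578)) (tt N493 D837) (tt N95 (iv6 D491)) (tt N494 D838))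
theorem Q226 : ∀ i, i < 226 → P i := stepQ 225 Q225 (allL N225 (tt N375 (iv1 F1365)) (tt N96 (iv0 D492)) (tt N373 F1354) (tt N225 F927) (tt N264 F926) (tt N366 (iv5 F1331)) (tt N225 F928) (tt N219 (iv7 F929)))
theorem Q227 : ∀ i, i < 227 → P i := stepQ 226 Q226 (allL N226 (tt N206 F1108) (tt N209 (iv0 F1023)) (tt N374 (iv2 F1358)) (tt N488 (iv3 F1572)) (tt N495 D839) (tt N96 (iv5 D493)) (tt N493 (iv6 F1579)) (tt N496 D840))
theorem Q228 : ∀ i, i < 228 → P i := stepQ 227 Q227 (allL N227 (tt N219 (iv1 F815)) (tt N373 F1357) (tt N375 (iv2 F1361)) (tt N482 F1552) (tt N99 F813) (tt N496 (iv5 F1582)) (tt N227 F814) (tt N96 (iv7 D494)))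
theorem Q229 : ∀ i, i < 229 → P i := stepQ 228 Q228 (allL N228 (tt N484 (iv1 F1556)) (tt N222 (iv0 F1111)) (tt N376 (iv2 F1366)) (tt N497 D841) (tt N97 (iv4 D497)) (tt N498 D842) (tt N228 F1113) (tt N216 (iv7 F1114)))
theorem Q230 : ∀ i, i < 230 → P i := stepQ 229 Q229 (allL N229 (tt N499 D843) (tt N500 D844) (tt N377 (iv2 F1369)) (tt N501 D845) (tt N98 (iv4 D507)) (tt N502 D846) (tt N106 F820) (tt N503 D847))
theorem Q231 : ∀ i, i < 231 → P i := stepQ 230 Q230 (allL N230 (tt N175 (iv1 F1081)) (tt N173 F1100) (tt N234 F1030) (tt N129 F821) (tt N503 (iv4 F1595)) (tt N99 F822) (tt N504 D848) (tt N98 (iv7 D508)))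
theorem Q232 : ∀ i, i < 232 → P i := stepQ 231 Q231 (allL N231 (tt N102 (iv1 F839)) (tt N100 (iv0 D522)) (tt N191 (iv2 F1002)) (tt N505 D849) (tt N252 F1003) (tt N506 D850) (tt N231 F1004) (tt N145 F1005))
theorem Q233 : ∀ i, i < 233 → P i := stepQ 232 Q232 (allL N232 (tt N507 D851) (tt N323 F2409) (tt N508 D853) (tt N100 (iv3 D524)) (tt N352 (iv4 F1298)) (tt N509 D854) (tt N381 (iv6 F1379)) (tt N381 (iv7 F1380)))
theorem Q234 : ∀ i, i < 234 → P i := stepQ 233 Q233 (allL N233 (tt N510 D855) (tt N488 (iv0 F1573)) (tt N378 (iv2 F1371)) (tt N509 (iv3 F1613)) (tt N511 D856) (tt N100 (iv5 D525)) (tt N512 D857) (tt N382 (iv7 F1382)))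
theorem Q235 : ∀ i, i < 235 → P i := stepQ 234 Q234 (allL N234 (tt N103 (iv1 F843)) (tt N101 (iv0 D528)) (tt N230 (iv2 F1030)) (tt N234 F1031) (tt N513 D858) (tt N171 F1032) (tt N514 D859) (tt N170 F1033))
theorem Q236 : ∀ i, i < 236 → P i := stepQ 235 Q235 (allL N235 (tt N515 D860) (tt N516 D861) (tt N379 (iv2 F1373)) (tt N517 D862) (tt N101 (iv4 D530)) (tt N518 D863) (tt N519 D864) (tt N383 (iv7 F1384)))
theorem Q237 : ∀ i, i < 237 → P i := stepQ 236 Q236 (allL N236 (tt N520 D865) (tt N521 D866) (tt N380 (iv2 F1375)) (tt N380 (iv3 F1376)) (tt N519 (iv4 F1631)) (tt N384 (iv5 F1387)) (tt N101 (iv6 D531)) (tt N522 D867))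
theorem Q238 : ∀ i, i < 238 → P i := stepQ 237 Q237 (allL N237 (tt N316 F1220) (tt N355 F1305) (tt N353 F1606) (tt N102 (iv3 D544)) (tt N381 (iv4 F1378)) (tt N523 D868) (tt N352 F1299) (tt N352 F1300))
theorem Q239 : ∀ i, i < 239 → P i := stepQ 238 Q238 (allL N238 (tt N488 (iv1 F1574)) (tt N510 F1615) (tt N382 (iv2 F1381)) (tt N523 (iv3 F1632)) (tt N524 D869) (tt N102 (iv5 D545)) (tt N525 D870) (tt N378 (iv7 F1372)))
theorem Q240 : ∀ i, i < 240 → P i := stepQ 239 Q239 (allL N239 (tt N516 (iv1 F1628)) (tt N515 F1627) (tt N383 (iv2 F1383)) (tt N526 D871) (tt N103 (iv4 D547)) (tt N527 D872) (tt N528 D873) (tt N379 (iv7 F1374)))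
theorem Q241 : ∀ i, i < 241 → P i := stepQ 240 Q240 (allL N240 (tt N504 F1599) (tt N393 (iv0 F1416)) (tt N384 (iv2 F1385)) (tt N384 (iv3 F1386)) (tt N528 (iv4 F1634)) (tt N380 (iv5 F1377)) (tt N103 (iv6 D548)) (tt N529 D874))
theorem Q242 : ∀ i, i < 242 → P i := stepQ 241 Q241 (allL N241 (tt N530 D875) (tt N262 (iv0 F1110)) (tt N385 (iv2 F1389)) (tt N531 D876) (tt N104 (iv4 D555)) (tt N532 D877) (tt N241 F1071) (tt N386 (iv7 F1393)))
theorem Q243 : ∀ i, i < 243 → P i := stepQ 242 Q242 (allL N242 (tt N262 F1070) (tt N530 F1637) (tt N386 (iv2 F1392)) (tt N533 D878) (tt N105 (iv4 D560)) (tt N534 D879) (tt N535 D880) (tt N385 (iv7 F1391)))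
theorem Q244 : ∀ i, i < 244 → P i := stepQ 243 Q243 (allL N243 (tt N536 D881) (tt N537 D882) (tt N387 (iv2 F1394)) (tt N387 (iv3 F1395)) (tt N535 (iv4 F1639)) (tt N243 F1059) (tt N105 (iv6 D562)) (tt N243 F1077))
theorem Q245 : ∀ i, i < 245 → P i := stepQ 244 Q244 (allL N244 (tt N392 (iv1 F1412)) (tt N106 (iv0 D563)) (tt N388 F1399) (tt N538 D883) (tt N272 F1068) (tt N539 D884) (tt N244 F1069) (tt N389 (iv7 F1404)))
theorem Q246 : ∀ i, i < 246 → P i := stepQ 245 Q245 (allL N245 (tt N106 (iv1 D564)) (tt N392 F1411) (tt N389 F1405) (tt N540 D885) (tt N541 D886) (tt N542 D887) (tt N543 D888) (tt N388 F1402))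
theorem Q247 : ∀ i, i < 247 → P i := stepQ 246 Q246 (allL N246 (tt N544 D889) (tt N545 D890) (tt N546 D891) (tt N106 (iv3 D565)) (tt N139 F853) (tt N547 D892) (tt N501 (iv6 F1594)) (tt N548 D893))
theorem Q248 : ∀ i, i < 248 → P i := stepQ 247 Q247 (allL N247 (tt N549 D894) (tt N550 D895) (tt N391 (iv2 F1408)) (tt N547 (iv3 F1657)) (tt N551 D896) (tt N106 (iv5 D566)) (tt N552 D897) (tt N553 D898))
theorem Q249 : ∀ i, i < 249 → P i := stepQ 248 Q248 (allL N248 (tt N389 (iv1 F1403)) (tt N388 F1401) (tt N392 (iv2 F1409)) (tt N548 (iv3 F1658)) (tt N107 F854) (tt N553 (iv5 F1662)) (tt N554 D899) (tt N106 (iv7 D567)))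
theorem Q250 : ∀ i, i < 250 → P i := stepQ 249 Q249 (allL N249 (tt N384 F1388) (tt N529 F1635) (tt N393 (iv2 F1413)) (tt N142 F855) (tt N554 (iv4 F1663)) (tt N249 F856) (tt N107 (iv6 D568)) (tt N504 (iv7 F1598)))
theorem Q251 : ∀ i, i < 251 → P i := stepQ 250 Q250 (allL N250 (tt N264 (iv1 F934)) (tt N253 (iv0 F903)) (tt N112 F857) (tt N250 F858) (tt N477 (iv4 F1532)) (tt N555 D900) (tt N108 (iv6 D569)) (tt N556 D901))
theorem Q252 : ∀ i, i < 252 → P i := stepQ 251 Q251 (allL N251 (tt N272 F970) (tt N541 F1654) (tt N115 F862) (tt N251 F863) (tt N557 D902) (tt N109 (iv5 D572)) (tt N555 (iv6 F1666)) (tt N558 D903))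
theorem Q253 : ∀ i, i < 253 → P i := stepQ 252 Q252 (allL N252 (tt N114 (iv1 F868)) (tt N113 F869) (tt N116 F864) (tt N252 F865) (tt N231 (iv4 F1003)) (tt N558 (iv5 F1682)) (tt N252 F866) (tt N109 (iv7 D573)))
theorem Q254 : ∀ i, i < 254 → P i := stepQ 253 Q253 (allL N253 (tt N250 F903) (tt N257 F912) (tt N254 (iv2 F904)) (tt N253 F901) (tt N221 F902) (tt N260 (iv5 F916)) (tt N110 (iv6 D575)) (tt N255 (iv7 F933)))
theorem Q255 : ∀ i, i < 255 → P i := stepQ 254 Q254 (allL N254 (tt N112 F907) (tt N556 F1673) (tt N253 F904) (tt N117 F905) (tt N219 F906) (tt N272 (iv5 F966)) (tt N111 (iv6 D576)) (tt N264 (iv7 F924)))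
theorem Q256 : ∀ i, i < 256 → P i := stepQ 255 Q255 (allL N255 (tt N556 (iv1 F1674)) (tt N112 (iv0 D577)) (tt N264 (iv2 F930)) (tt N255 F931) (tt N373 (iv4 F1355)) (tt N541 (iv5 F1650)) (tt N255 F932) (tt N253 F933))
theorem Q257 : ∀ i, i < 257 → P i := stepQ 256 Q256 (allL N256 (tt N258 F1018) (tt N259 (iv0 F1009)) (tt N555 (iv2 F1664)) (tt N119 F908) (tt N516 (iv4 F1629)) (tt N112 (iv5 D578)) (tt N115 F909) (tt N559 D904))
theorem Q258 : ∀ i, i < 258 → P i := stepQ 257 Q257 (allL N257 (tt N253 (iv1 F912)) (tt N264 (iv0 F925)) (tt N556 (iv2 F1669)) (tt N120 F910) (tt N482 (iv4 F1551)) (tt N559 (iv5 F1686)) (tt N257 F911) (tt N112 (iv7 D579)))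
theorem Q259 : ∀ i, i < 259 → P i := stepQ 258 Q258 (allL N258 (tt N560 D905) (tt N256 (iv0 F1018)) (tt N267 (iv2 F1019)) (tt N258 F1020) (tt N561 D906) (tt N113 (iv5 D583)) (tt N562 D907) (tt N464 (iv7 F1525)))
theorem Q260 : ∀ i, i < 260 → P i := stepQ 259 Q259 (allL N259 (tt N256 F1009) (tt N560 F1692) (tt N464 (iv2 F1523)) (tt N123 F1010) (tt N563 D908) (tt N114 (iv5 D588)) (tt N564 D909) (tt N267 F1011))
theorem Q261 : ∀ i, i < 261 → P i := stepQ 260 Q260 (allL N260 (tt N558 (iv1 F1684)) (tt N115 (iv0 D590)) (tt N272 (iv2 F969)) (tt N260 F917) (tt N388 (iv4 F1398)) (tt N253 F916) (tt N260 F918) (tt N541 (iv7 F1649)))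
theorem Q262 : ∀ i, i < 262 → P i := stepQ 261 Q261 (allL N261 (tt N115 (iv1 D591)) (tt N558 F1683) (tt N541 (iv2 F1648)) (tt N125 (iv3 F919)) (tt N389 F1406) (tt N264 (iv5 F922)) (tt N565 D910) (tt N272 (iv7 F968)))
theorem Q263 : ∀ i, i < 263 → P i := stepQ 262 Q262 (allL N262 (tt N241 F1110) (tt N242 (iv0 F1070)) (tt N557 (iv2 F1675)) (tt N566 D911) (tt N115 (iv4 D592)) (tt N567 D912) (tt N516 F1630) (tt N568 D913))
theorem Q264 : ∀ i, i < 264 → P i := stepQ 263 Q263 (allL N263 (tt N541 (iv1 F1651)) (tt N272 (iv0 F1124)) (tt N558 (iv2 F1679)) (tt N127 F920) (tt N568 (iv4 F1712)) (tt N116 F921) (tt N569 D914) (tt N115 (iv7 D593)))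
theorem Q265 : ∀ i, i < 265 → P i := stepQ 264 Q264 (allL N264 (tt N257 F925) (tt N250 F934) (tt N255 F930) (tt N118 (iv3 D594)) (tt N225 (iv4 F926)) (tt N261 F922) (tt N264 F923) (tt N254 F924))
theorem Q266 : ∀ i, i < 266 → P i := stepQ 265 Q265 (allL N265 (tt N130 F937) (tt N132 F938) (tt N265 F935) (tt N570 D915) (tt N119 (iv4 D595)) (tt N571 D916) (tt N126 F936) (tt N282 (iv7 F1140)))
theorem Q267 : ∀ i, i < 267 → P i := stepQ 266 Q266 (allL N266 (tt N123 (iv1 F942)) (tt N122 F941) (tt N266 F939) (tt N559 (iv3 F1685)) (tt N282 (iv4 F1138)) (tt N120 F940) (tt N572 D917) (tt N119 (iv7 D596)))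
theorem Q268 : ∀ i, i < 268 → P i := stepQ 267 Q267 (allL N267 (tt N559 (iv1 F1688)) (tt N555 (iv0 F1667)) (tt N258 F1019) (tt N122 F945) (tt N499 (iv4 F1592)) (tt N121 (iv5 D601)) (tt N573 D918) (tt N259 (iv7 F1011)))
theorem Q269 : ∀ i, i < 269 → P i := stepQ 268 Q268 (allL N268 (tt N280 (iv1 F1132)) (tt N128 F947) (tt N268 F946) (tt N574 D919) (tt N122 (iv4 D602)) (tt N309 (iv5 F1195)) (tt N575 D920) (tt N270 (iv7 F962)))
theorem Q270 : ∀ i, i < 270 → P i := stepQ 269 Q269 (allL N269 (tt N576 D921) (tt N577 D922) (tt N269 F948) (tt N573 (iv3 F1726)) (tt N575 (iv4 F1729)) (tt N271 (iv5 F965)) (tt N122 (iv6 D603)) (tt N578 D923))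
theorem Q271 : ∀ i, i < 271 → P i := stepQ 270 Q270 (allL N270 (tt N128 F963) (tt N280 F1133) (tt N270 F961) (tt N579 D924) (tt N123 (iv4 D609)) (tt N310 (iv5 F1198)) (tt N580 D925) (tt N268 F962))
theorem Q272 : ∀ i, i < 272 → P i := stepQ 271 Q271 (allL N271 (tt N572 F1724) (tt N277 (iv0 F1127)) (tt N271 F964) (tt N564 (iv3 F1704)) (tt N580 (iv4 F1737)) (tt N269 F965) (tt N123 (iv6 D610)) (tt N581 D926))
theorem Q273 : ∀ i, i < 273 → P i := stepQ 272 Q272 (allL N272 (tt N263 F1124) (tt N251 (iv0 F970)) (tt N260 F969) (tt N124 (iv3 D611)) (tt N244 (iv4 F1068)) (tt N254 F966) (tt N272 F967) (tt N261 F968))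
theorem Q274 : ∀ i, i < 274 → P i := stepQ 273 Q273 (allL N273 (tt N582 D927) (tt N582 (iv0 F1746)) (tt N273 F1116) (tt N565 (iv3 F1705)) (tt N303 (iv4 F1190)) (tt N273 F1117) (tt N125 (iv6 D612)) (tt N273 F1118))
theorem Q275 : ∀ i, i < 275 → P i := stepQ 274 Q274 (allL N274 (tt N583 D928) (tt N584 D929) (tt N585 D930) (tt N126 (iv3 D613)) (tt N566 (iv4 F1708)) (tt N586 D931) (tt N570 (iv6 F1717)) (tt N587 D932))
theorem Q276 : ∀ i, i < 276 → P i := stepQ 275 Q275 (allL N275 (tt N284 (iv1 F1144)) (tt N290 (iv0 F1158)) (tt N275 F1119) (tt N586 (iv3 F1748)) (tt N313 (iv4 F1208)) (tt N126 (iv5 D614)) (tt N588 D933) (tt N311 F1205))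
theorem Q277 : ∀ i, i < 277 → P i := stepQ 276 Q276 (allL N276 (tt N135 (iv1 F1123)) (tt N134 F1122) (tt N276 F1120) (tt N587 (iv3 F1749)) (tt N127 F1121) (tt N311 (iv5 F1202)) (tt N589 D934) (tt N126 (iv7 D615)))
theorem Q278 : ∀ i, i < 278 → P i := stepQ 277 Q277 (allL N277 (tt N271 F1127) (tt N581 F1743) (tt N277 F1125) (tt N569 (iv3 F1715)) (tt N589 (iv4 F1752)) (tt N277 F1126) (tt N127 (iv6 D616)) (tt N572 (iv7 F1723)))
theorem Q279 : ∀ i, i < 279 → P i := stepQ 278 Q278 (allL N278 (tt N590 D935) (tt N591 D936) (tt N592 D937) (tt N128 (iv3 D617)) (tt N501 (iv4 F1593)) (tt N593 D938) (tt N139 F1128) (tt N594 D939))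
theorem Q280 : ∀ i, i < 280 → P i := stepQ 279 Q279 (allL N279 (tt N302 (iv1 F1188)) (tt N300 (iv0 F1183)) (tt N279 F1129) (tt N593 (iv3 F1756)) (tt N595 D940) (tt N128 (iv5 D618)) (tt N596 D941) (tt N597 D942))
theorem Q281 : ∀ i, i < 281 → P i := stepQ 280 Q280 (allL N280 (tt N270 (iv1 F1133)) (tt N268 F1132) (tt N280 F1130) (tt N594 (iv3 F1757)) (tt N129 F1131) (tt N597 (iv5 F1767)) (tt N598 D943) (tt N128 (iv7 D619)))
theorem Q282 : ∀ i, i < 282 → P i := stepQ 281 Q281 (allL N281 (tt N292 (iv1 F1165)) (tt N133 (iv0 F1137)) (tt N281 F1134) (tt N504 (iv3 F1596)) (tt N598 (iv4 F1771)) (tt N281 F1135) (tt N129 (iv6 D620)) (tt N142 F1136))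
theorem Q283 : ∀ i, i < 283 → P i := stepQ 282 Q282 (allL N282 (tt N132 (iv1 F1139)) (tt N130 (iv0 D621)) (tt N282 F1141) (tt N599 D944) (tt N266 F1138) (tt N595 (iv5 F1759)) (tt N600 D945) (tt N265 F1140))
theorem Q284 : ∀ i, i < 284 → P i := stepQ 283 Q283 (allL N283 (tt N601 D946) (tt N602 D947) (tt N603 D948) (tt N130 (iv3 D622)) (tt N283 F1142) (tt N604 D949) (tt N605 D950) (tt N289 (iv7 F1154)))
theorem Q285 : ∀ i, i < 285 → P i := stepQ 284 Q284 (allL N284 (tt N311 (iv1 F1204)) (tt N275 F1144) (tt N284 F1143) (tt N604 (iv3 F1781)) (tt N290 (iv4 F1157)) (tt N130 (iv5 D623)) (tt N606 D951) (tt N290 (iv7 F1156)))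
theorem Q286 : ∀ i, i < 286 → P i := stepQ 285 Q285 (allL N285 (tt N607 D952) (tt N608 D953) (tt N285 F1145) (tt N605 (iv3 F1782)) (tt N131 F1146) (tt N609 D954) (tt N130 (iv6 D624)) (tt N610 D955))
theorem Q287 : ∀ i, i < 287 → P i := stepQ 286 Q286 (allL N286 (tt N288 (iv1 F1151)) (tt N131 (iv0 D625)) (tt N286 F1799) (tt N611 D957) (tt N612 D958) (tt N287 F1147) (tt N298 (iv6 F1178)) (tt N287 (iv7 F1801)))
theorem Q288 : ∀ i, i < 288 → P i := stepQ 287 Q287 (allL N287 (tt N131 (iv1 D626)) (tt N288 F1152) (tt N287 F1800) (tt N521 F2874) (tt N613 D961) (tt N286 (iv5 F1147)) (tt N287 F1148) (tt N286 F1801))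
theorem Q289 : ∀ i, i < 289 → P i := stepQ 288 Q288 (allL N288 (tt N287 (iv1 F1152)) (tt N286 F1151) (tt N288 F1149) (tt N288 F1150) (tt N610 (iv4 F1789)) (tt N292 (iv5 F1163)) (tt N292 (iv6 F1164)) (tt N131 (iv7 D627)))
theorem Q290 : ∀ i, i < 290 → P i := stepQ 289 Q289 (allL N289 (tt N614 D962) (tt N615 D963) (tt N616 D964) (tt N132 (iv3 D628)) (tt N289 F1153) (tt N617 D965) (tt N618 D966) (tt N283 F1154))
theorem Q291 : ∀ i, i < 291 → P i := stepQ 290 Q290 (allL N290 (tt N275 F1158) (tt N311 (iv0 F1203)) (tt N290 F1155) (tt N617 (iv3 F1818)) (tt N284 F1157) (tt N132 (iv5 D629)) (tt N619 D967) (tt N284 F1156))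
theorem Q292 : ∀ i, i < 292 → P i := stepQ 291 Q291 (allL N291 (tt N600 F1778) (tt N589 (iv0 F1753)) (tt N291 F1159) (tt N618 (iv3 F1820)) (tt N133 F1160) (tt N620 D968) (tt N132 (iv6 D630)) (tt N621 D969))
theorem Q293 : ∀ i, i < 293 → P i := stepQ 292 Q292 (allL N292 (tt N142 (iv1 F1166)) (tt N281 F1165) (tt N292 F1161) (tt N292 F1162) (tt N621 (iv4 F1826)) (tt N288 F1163) (tt N288 F1164) (tt N133 (iv7 D631)))
theorem Q294 : ∀ i, i < 294 → P i := stepQ 293 Q293 (allL N293 (tt N622 D970) (tt N623 D971) (tt N624 D972) (tt N134 (iv3 D632)) (tt N293 F1167) (tt N625 D973) (tt N293 F1168) (tt N295 (iv7 F1171)))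
theorem Q295 : ∀ i, i < 295 → P i := stepQ 294 Q294 (allL N294 (tt N571 (iv1 F1720)) (tt N595 (iv0 F1760)) (tt N294 F1169) (tt N625 (iv3 F1833)) (tt N296 (iv4 F1174)) (tt N134 (iv5 D633)) (tt N626 D974) (tt N296 (iv7 F1173)))
theorem Q296 : ∀ i, i < 296 → P i := stepQ 295 Q295 (allL N295 (tt N627 D975) (tt N628 D976) (tt N629 D977) (tt N135 (iv3 D634)) (tt N295 F1170) (tt N630 D978) (tt N631 D979) (tt N293 F1171))
theorem Q297 : ∀ i, i < 297 → P i := stepQ 296 Q296 (allL N296 (tt N595 (iv1 F1761)) (tt N571 (iv0 F1719)) (tt N296 F1172) (tt N630 (iv3 F1843)) (tt N294 F1174) (tt N135 (iv5 D635)) (tt N632 D980) (tt N294 F1173))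
theorem Q298 : ∀ i, i < 298 → P i := stepQ 297 Q297 (allL N297 (tt N633 D981) (tt N633 F1850) (tt N297 F1175) (tt N631 (iv3 F1845)) (tt N136 F1176) (tt N634 D982) (tt N135 (iv6 D636)) (tt N297 F1177))
theorem Q299 : ∀ i, i < 299 → P i := stepQ 298 Q298 (allL N298 (tt N136 F1180) (tt N136 (iv0 D637)) (tt N298 F1798) (tt N536 F2881) (tt N634 F294674) (tt N298 F1179) (tt N286 F1178) (tt N298 F1797))
theorem Q300 : ∀ i, i < 300 → P i := stepQ 299 Q299 (allL N299 (tt N635 D985) (tt N636 D986) (tt N637 D987) (tt N137 (iv3 D638)) (tt N538 (iv4 F1646)) (tt N638 D988) (tt N299 F1181) (tt N301 (iv7 F1184)))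
theorem Q301 : ∀ i, i < 301 → P i := stepQ 300 Q300 (allL N300 (tt N279 F1183) (tt N597 F1769) (tt N300 F1182) (tt N638 (iv3 F1861)) (tt N302 (iv4 F1187)) (tt N137 (iv5 D639)) (tt N639 D989) (tt N302 (iv7 F1186)))
theorem Q302 : ∀ i, i < 302 → P i := stepQ 301 Q301 (allL N301 (tt N640 D990) (tt N641 D991) (tt N642 D992) (tt N138 (iv3 D640)) (tt N643 D993) (tt N644 D994) (tt N645 D995) (tt N299 F1184))
theorem Q303 : ∀ i, i < 303 → P i := stepQ 302 Q302 (allL N302 (tt N597 (iv1 F1768)) (tt N279 F1188) (tt N302 F1185) (tt N644 (iv3 F1872)) (tt N300 F1187) (tt N138 (iv5 D641)) (tt N646 D996) (tt N300 F1186))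
theorem Q304 : ∀ i, i < 304 → P i := stepQ 303 Q303 (allL N303 (tt N634 (iv1 F293750)) (tt N634 (iv0 F293749)) (tt N303 F1189) (tt N645 (iv3 F1874)) (tt N273 F1190) (tt N633 (iv5 F294298)) (tt N138 (iv6 D642)) (tt N303 F1191))
theorem Q305 : ∀ i, i < 305 → P i := stepQ 304 Q304 (allL N304 (tt N647 D999) (tt N139 (iv0 D643)) (tt N648 D1000) (tt N649 D1001) (tt N650 D1002) (tt N651 D1003) (tt N304 F7114) (tt N652 D1005))
theorem Q306 : ∀ i, i < 306 → P i := stepQ 305 Q305 (allL N305 (tt N139 (iv1 D644)) (tt N647 F1884) (tt N652 (iv2 F1886)) (tt N653 D1006) (tt N654 D1007) (tt N655 D1008) (tt N656 D1009) (tt N648 F1885))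
theorem Q307 : ∀ i, i < 307 → P i := stepQ 306 Q306 (allL N306 (tt N648 (iv1 F6541)) (tt N652 F6536) (tt N139 (iv2 D645)) (tt N306 F1192) (tt N546 (iv4 F1656)) (tt N657 D1012) (tt N592 (iv6 F1755)) (tt N647 (iv7 F1883)))
theorem Q308 : ∀ i, i < 308 → P i := stepQ 307 Q307 (allL N307 (tt N658 D1013) (tt N659 D1014) (tt N657 (iv2 F1889)) (tt N140 F1193) (tt N660 D1015) (tt N139 (iv5 D646)) (tt N661 D1016) (tt N662 D1017))
theorem Q309 : ∀ i, i < 309 → P i := stepQ 308 Q308 (allL N308 (tt N652 F6537) (tt N648 (iv0 F6540)) (tt N647 F1881) (tt N141 F1194) (tt N548 (iv4 F1659)) (tt N662 (iv5 F1893)) (tt N663 D1018) (tt N139 (iv7 D647)))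
theorem Q310 : ∀ i, i < 310 → P i := stepQ 309 Q309 (allL N309 (tt N313 (iv1 F1210)) (tt N140 (iv0 D648)) (tt N309 F1196) (tt N664 D1019) (tt N310 F1200) (tt N268 F1195) (tt N665 D1020) (tt N310 (iv7 F1197)))
theorem Q311 : ∀ i, i < 311 → P i := stepQ 310 Q310 (allL N310 (tt N140 (iv1 D649)) (tt N313 F1211) (tt N310 F1199) (tt N666 D1021) (tt N309 (iv4 F1200)) (tt N270 F1198) (tt N667 D1022) (tt N309 F1197))
theorem Q312 : ∀ i, i < 312 → P i := stepQ 311 Q311 (allL N311 (tt N290 F1203) (tt N284 F1204) (tt N311 F1201) (tt N668 D1023) (tt N140 (iv4 D650)) (tt N276 F1202) (tt N669 D1024) (tt N275 (iv7 F1205)))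
theorem Q313 : ∀ i, i < 313 → P i := stepQ 312 Q312 (allL N312 (tt N670 D1025) (tt N671 D1026) (tt N312 F1206) (tt N661 (iv3 F1891)) (tt N669 (iv4 F1904)) (tt N596 (iv5 F1764)) (tt N140 (iv6 D651)) (tt N672 D1027))
theorem Q314 : ∀ i, i < 314 → P i := stepQ 313 Q313 (allL N313 (tt N310 (iv1 F1211)) (tt N309 F1210) (tt N313 F1207) (tt N662 (iv3 F1892)) (tt N275 F1208) (tt N141 F1209) (tt N673 D1028) (tt N140 (iv7 D652)))
theorem Q315 : ∀ i, i < 315 → P i := stepQ 314 Q314 (allL N314 (tt N580 F1738) (tt N674 D1029) (tt N314 F1212) (tt N663 (iv3 F1894)) (tt N142 F1213) (tt N675 D1030) (tt N141 (iv6 D653)) (tt N598 (iv7 F1772)))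
theorem Q316 : ∀ i, i < 316 → P i := stepQ 315 Q315 (allL N315 (tt N349 (iv1 F1292)) (tt N348 F1289) (tt N158 F1214) (tt N144 F1215) (tt N676 D1031) (tt N143 (iv5 D654)) (tt N677 D1032) (tt N315 F1216))
theorem Q317 : ∀ i, i < 317 → P i := stepQ 316 Q316 (allL N316 (tt N678 D1033) (tt N237 (iv0 F1220)) (tt N159 F1217) (tt N145 F1218) (tt N316 F1219) (tt N679 D1034) (tt N143 (iv6 D655)) (tt N505 (iv7 F1603)))
theorem Q318 : ∀ i, i < 318 → P i := stepQ 317 Q317 (allL N317 (tt N192 F1223) (tt N195 F1224) (tt N188 F1221) (tt N680 D1035) (tt N144 (iv4 D656)) (tt N332 (iv5 F1255)) (tt N681 D1036) (tt N317 F1222))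
theorem Q319 : ∀ i, i < 319 → P i := stepQ 318 Q318 (allL N318 (tt N682 D1037) (tt N683 D1038) (tt N189 F1225) (tt N677 (iv3 F1918)) (tt N681 (iv4 F1929)) (tt N684 D1039) (tt N144 (iv6 D657)) (tt N685 D1040))
theorem Q320 : ∀ i, i < 320 → P i := stepQ 319 Q319 (allL N319 (tt N485 (iv1 F1562)) (tt N498 (iv0 F1590)) (tt N190 F1226) (tt N679 (iv3 F1926)) (tt N686 D1041) (tt N145 (iv5 D658)) (tt N684 (iv6 F1932)) (tt N506 (iv7 F1608)))
theorem Q321 : ∀ i, i < 321 → P i := stepQ 320 Q320 (allL N320 (tt N687 D1042) (tt N408 F1449) (tt N322 (iv2 F1235)) (tt N399 (iv3 F1424)) (tt N403 (iv4 F1434)) (tt N146 (iv5 D660)) (tt N688 D1043) (tt N320 F1234))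
theorem Q322 : ∀ i, i < 322 → P i := stepQ 321 Q321 (allL N321 (tt N508 (iv1 F2415)) (tt N381 (iv0 F2416)) (tt N323 (iv2 F1238)) (tt N400 (iv3 F1428)) (tt N323 (iv4 F1240)) (tt N689 D1046) (tt N146 (iv6 D661)) (tt N507 (iv7 F2408)))
theorem Q323 : ∀ i, i < 323 → P i := stepQ 322 Q322 (allL N322 (tt N408 F1448) (tt N687 F1943) (tt N320 F1235) (tt N322 F1236) (tt N690 D1048) (tt N147 (iv5 D662)) (tt N691 D1049) (tt N322 F1237))
theorem Q324 : ∀ i, i < 324 → P i := stepQ 323 Q323 (allL N323 (tt N232 (iv1 F2409)) (tt N692 D1051) (tt N321 F1238) (tt N323 F1239) (tt N321 F1240) (tt N693 D1052) (tt N147 (iv6 D663)) (tt N694 D1053))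
theorem Q325 : ∀ i, i < 325 → P i := stepQ 324 Q324 (allL N324 (tt N326 (iv1 F1244)) (tt N325 F1243) (tt N149 F1241) (tt N339 (iv3 F1266)) (tt N695 D1054) (tt N148 (iv5 D664)) (tt N696 D1055) (tt N324 F1242))
theorem Q326 : ∀ i, i < 326 → P i := stepQ 325 Q325 (allL N325 (tt N324 (iv1 F1243)) (tt N149 (iv0 D665)) (tt N326 F1457) (tt N401 F1455) (tt N428 (iv4 F1480)) (tt N478 (iv5 F1536)) (tt N697 D1056) (tt N325 F1456))
theorem Q327 : ∀ i, i < 327 → P i := stepQ 326 Q326 (allL N326 (tt N149 (iv1 D666)) (tt N324 F1244) (tt N325 (iv2 F1457)) (tt N326 F1459) (tt N698 D1057) (tt N479 (iv5 F1541)) (tt N699 D1058) (tt N326 F1458))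
theorem Q328 : ∀ i, i < 328 → P i := stepQ 327 Q327 (allL N327 (tt N700 D1059) (tt N701 D1060) (tt N695 (iv2 F1961)) (tt N702 D1061) (tt N149 (iv4 D667)) (tt N703 D1062) (tt N704 D1063) (tt N327 F1245))
theorem Q329 : ∀ i, i < 329 → P i := stepQ 328 Q328 (allL N328 (tt N705 D1064) (tt N706 D1065) (tt N696 (iv2 F1963)) (tt N153 F1246) (tt N704 (iv4 F1981)) (tt N328 F1247) (tt N149 (iv6 D668)) (tt N707 D1066))
theorem Q330 : ∀ i, i < 330 → P i := stepQ 329 Q329 (allL N329 (tt N339 (iv1 F1268)) (tt N155 (iv0 F1253)) (tt N340 (iv2 F1271)) (tt N150 (iv3 D669)) (tt N700 (iv4 F1970)) (tt N370 (iv5 F1342)) (tt N708 D1067) (tt N329 F1248))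
theorem Q331 : ∀ i, i < 331 → P i := stepQ 330 Q330 (allL N330 (tt N180 F1251) (tt N184 F1252) (tt N332 (iv2 F1254)) (tt N709 D1068) (tt N150 (iv4 D670)) (tt N188 F1250) (tt N710 D1069) (tt N330 F1249))
theorem Q332 : ∀ i, i < 332 → P i := stepQ 331 Q331 (allL N331 (tt N711 D1070) (tt N712 D1071) (tt N333 (iv2 F1259)) (tt N708 (iv3 F1985)) (tt N710 (iv4 F1988)) (tt N713 D1072) (tt N150 (iv6 D671)) (tt N714 D1073))
theorem Q333 : ∀ i, i < 333 → P i := stepQ 332 Q332 (allL N332 (tt N184 F1257) (tt N180 F1258) (tt N330 F1254) (tt N715 D1074) (tt N151 (iv4 D672)) (tt N317 F1255) (tt N716 D1075) (tt N332 F1256))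
theorem Q334 : ∀ i, i < 334 → P i := stepQ 333 Q333 (allL N333 (tt N717 D1076) (tt N718 D1077) (tt N331 F1259) (tt N224 F1260) (tt N716 (iv4 F1994)) (tt N719 D1078) (tt N151 (iv6 D673)) (tt N720 D1079))
theorem Q335 : ∀ i, i < 335 → P i := stepQ 334 Q334 (allL N334 (tt N721 D1080) (tt N722 D1081) (tt N723 D1082) (tt N152 (iv3 D674)) (tt N702 (iv4 F1977)) (tt N343 (iv5 F1277)) (tt N724 D1083) (tt N334 F1261))
theorem Q336 : ∀ i, i < 336 → P i := stepQ 335 Q335 (allL N335 (tt N725 D1084) (tt N726 D1085) (tt N344 (iv2 F1279)) (tt N724 (iv3 F2013)) (tt N153 F1262) (tt N727 D1086) (tt N152 (iv6 D675)) (tt N728 D1087))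
theorem Q337 : ∀ i, i < 337 → P i := stepQ 336 Q336 (allL N336 (tt N347 (iv1 F1287)) (tt N153 (iv0 D676)) (tt N345 F7960) (tt N729 D1089) (tt N730 D1090) (tt N731 D1091) (tt N732 D1092) (tt N346 (iv7 F7965)))
theorem Q338 : ∀ i, i < 338 → P i := stepQ 337 Q337 (allL N337 (tt N153 (iv1 D677)) (tt N347 F1286) (tt N346 (iv2 F7964)) (tt N397 (iv3 F10003)) (tt N733 D1095) (tt N734 D1096) (tt N735 D1097) (tt N345 F7961))
theorem Q339 : ∀ i, i < 339 → P i := stepQ 338 Q338 (allL N338 (tt N346 (iv1 F1281)) (tt N345 F1285) (tt N347 (iv2 F1282)) (tt N707 (iv3 F1982)) (tt N728 (iv4 F2014)) (tt N338 F1263) (tt N338 F1264) (tt N153 (iv7 D678)))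
theorem Q340 : ∀ i, i < 340 → P i := stepQ 339 Q339 (allL N339 (tt N340 (iv1 F1269)) (tt N329 F1268) (tt N155 F1265) (tt N324 F1266) (tt N736 D1098) (tt N154 (iv5 D679)) (tt N737 D1099) (tt N339 F1267))
theorem Q341 : ∀ i, i < 341 → P i := stepQ 340 Q340 (allL N340 (tt N155 (iv1 D680)) (tt N339 F1269) (tt N329 F1271) (tt N167 (iv3 F1270)) (tt N701 (iv4 F1974)) (tt N166 F1272) (tt N738 D1100) (tt N340 F1273))
theorem Q342 : ∀ i, i < 342 → P i := stepQ 341 Q341 (allL N341 (tt N698 (iv1 F1967)) (tt N428 F1483) (tt N736 (iv2 F2018)) (tt N739 D1101) (tt N155 (iv4 D681)) (tt N740 D1102) (tt N741 D1103) (tt N341 F1274))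
theorem Q343 : ∀ i, i < 343 → P i := stepQ 342 Q342 (allL N342 (tt N729 F5093) (tt N742 D1105) (tt N737 (iv2 F2022)) (tt N157 F1275) (tt N741 (iv4 F2031)) (tt N342 F1276) (tt N155 (iv6 D682)) (tt N743 D1106))
theorem Q344 : ∀ i, i < 344 → P i := stepQ 343 Q343 (allL N343 (tt N744 D1107) (tt N745 D1108) (tt N746 D1109) (tt N156 (iv3 D683)) (tt N739 (iv4 F2027)) (tt N334 F1277) (tt N747 D1110) (tt N343 F1278))
theorem Q345 : ∀ i, i < 345 → P i := stepQ 344 Q344 (allL N344 (tt N748 D1111) (tt N749 D1112) (tt N335 F1279) (tt N747 (iv3 F2044)) (tt N157 F1280) (tt N750 D1113) (tt N156 (iv6 D684)) (tt N751 D1114))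
theorem Q346 : ∀ i, i < 346 → P i := stepQ 345 Q345 (allL N345 (tt N338 (iv1 F1285)) (tt N157 (iv0 D685)) (tt N336 (iv2 F7960)) (tt N405 F10004) (tt N752 D1117) (tt N753 D1118) (tt N754 D1119) (tt N337 (iv7 F7961)))
theorem Q347 : ∀ i, i < 347 → P i := stepQ 346 Q346 (allL N346 (tt N157 (iv1 D686)) (tt N338 F1281) (tt N337 F7964) (tt N755 D1121) (tt N756 D1122) (tt N757 D1123) (tt N758 D1124) (tt N336 F7965))
theorem Q348 : ∀ i, i < 348 → P i := stepQ 347 Q347 (allL N347 (tt N337 (iv1 F1286)) (tt N336 F1287) (tt N338 F1282) (tt N743 (iv3 F2032)) (tt N751 (iv4 F2049)) (tt N347 F1283) (tt N347 F1284) (tt N157 (iv7 D687)))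
theorem Q349 : ∀ i, i < 349 → P i := stepQ 348 Q348 (allL N348 (tt N315 (iv1 F1289)) (tt N158 (iv0 D688)) (tt N349 F1293) (tt N187 F1288) (tt N759 D1125) (tt N217 (iv5 F1290)) (tt N760 D1126) (tt N348 F1291))
theorem Q350 : ∀ i, i < 350 → P i := stepQ 349 Q349 (allL N349 (tt N158 (iv1 D689)) (tt N315 F1292) (tt N348 (iv2 F1293)) (tt N687 (iv3 F1945)) (tt N761 D1127) (tt N369 (iv5 F1347)) (tt N762 D1128) (tt N349 F1294))
theorem Q351 : ∀ i, i < 351 → P i := stepQ 350 Q350 (allL N350 (tt N763 D1129) (tt N764 D1130) (tt N676 (iv2 F1915)) (tt N765 D1131) (tt N158 (iv4 D690)) (tt N766 D1132) (tt N767 D1133) (tt N350 F1295))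
theorem Q352 : ∀ i, i < 352 → P i := stepQ 351 Q351 (allL N351 (tt N768 D1134) (tt N769 D1135) (tt N677 (iv2 F1917)) (tt N161 F1296) (tt N767 (iv4 F2077)) (tt N770 D1136) (tt N158 (iv6 D691)) (tt N771 D1137))
theorem Q353 : ∀ i, i < 353 → P i := stepQ 352 Q352 (allL N352 (tt N505 F1604) (tt N159 (iv0 D692)) (tt N678 F1919) (tt N172 F1297) (tt N232 F1298) (tt N772 D1138) (tt N237 (iv6 F1299)) (tt N237 (iv7 F1300)))
theorem Q354 : ∀ i, i < 354 → P i := stepQ 353 Q353 (allL N353 (tt N159 (iv1 D693)) (tt N505 F1605) (tt N237 (iv2 F1606)) (tt N692 (iv3 F2401)) (tt N692 (iv4 F2402)) (tt N773 D1140) (tt N678 (iv6 F1924)) (tt N678 (iv7 F1921)))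
theorem Q355 : ∀ i, i < 355 → P i := stepQ 354 Q354 (allL N354 (tt N774 D1141) (tt N775 D1142) (tt N679 (iv2 F1925)) (tt N164 F1301) (tt N776 D1143) (tt N159 (iv5 D694)) (tt N770 (iv6 F2079)) (tt N777 D1144))
theorem Q356 : ∀ i, i < 356 → P i := stepQ 355 Q355 (allL N355 (tt N237 (iv1 F1305)) (tt N678 F1920) (tt N505 (iv2 F1600)) (tt N165 F1302) (tt N355 F1303) (tt N777 (iv5 F2094)) (tt N355 F1304) (tt N159 (iv7 D695)))
theorem Q357 : ∀ i, i < 357 → P i := stepQ 356 Q356 (allL N356 (tt N778 D1145) (tt N779 D1146) (tt N780 D1147) (tt N160 (iv3 D696)) (tt N765 (iv4 F2073)) (tt N489 (iv5 F1575)) (tt N781 D1148) (tt N356 F1306))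
theorem Q358 : ∀ i, i < 358 → P i := stepQ 357 Q357 (allL N357 (tt N782 D1149) (tt N783 D1150) (tt N201 F1307) (tt N781 (iv3 F2104)) (tt N161 F1308) (tt N784 D1151) (tt N160 (iv6 D697)) (tt N785 D1152))
theorem Q359 : ∀ i, i < 359 → P i := stepQ 358 Q358 (allL N358 (tt N205 (iv1 F1314)) (tt N161 (iv0 D698)) (tt N202 F3885) (tt N786 D1154) (tt N787 D1155) (tt N788 D1156) (tt N789 D1157) (tt N203 F3886))
theorem Q360 : ∀ i, i < 360 → P i := stepQ 359 Q359 (allL N359 (tt N161 (iv1 D699)) (tt N205 F1309) (tt N203 (iv2 F3878)) (tt N359 F5060) (tt N790 D1160) (tt N791 D1161) (tt N792 D1162) (tt N202 (iv7 F3882)))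
theorem Q361 : ∀ i, i < 361 → P i := stepQ 360 Q360 (allL N360 (tt N793 D1163) (tt N794 D1164) (tt N204 F1310) (tt N770 (iv3 F2078)) (tt N795 D1165) (tt N161 (iv5 D700)) (tt N164 F1311) (tt N796 D1166))
theorem Q362 : ∀ i, i < 362 → P i := stepQ 361 Q361 (allL N361 (tt N203 (iv1 F1315)) (tt N202 F1316) (tt N205 F1312) (tt N771 (iv3 F2080)) (tt N785 (iv4 F2108)) (tt N796 (iv5 F2119)) (tt N361 F1313) (tt N161 (iv7 D701)))
theorem Q363 : ∀ i, i < 363 → P i := stepQ 362 Q362 (allL N362 (tt N462 (iv1 F1519)) (tt N400 F2419) (tt N362 F1317) (tt N162 (iv3 D702)) (tt N362 F1318) (tt N797 D1167) (tt N207 F1319) (tt N207 F1320))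
theorem Q364 : ∀ i, i < 364 → P i := stepQ 363 Q363 (allL N363 (tt N496 (iv1 F1584)) (tt N374 (iv0 F1359)) (tt N206 F1321) (tt N797 (iv3 F2124)) (tt N798 D1168) (tt N162 (iv5 D703)) (tt N799 D1169) (tt N209 F1322))
theorem Q365 : ∀ i, i < 365 → P i := stepQ 364 Q364 (allL N364 (tt N374 (iv1 F1360)) (tt N496 F1583) (tt N209 F1323) (tt N364 F1324) (tt N800 D1170) (tt N163 (iv5 D704)) (tt N801 D1171) (tt N206 F1325))
theorem Q366 : ∀ i, i < 366 → P i := stepQ 365 Q365 (allL N365 (tt N213 (iv1 F1334)) (tt N164 (iv0 D705)) (tt N210 (iv2 F1327)) (tt N802 D1172) (tt N803 D1173) (tt N221 F1326) (tt N432 (iv6 F1488)) (tt N211 (iv7 F1328)))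
theorem Q367 : ∀ i, i < 367 → P i := stepQ 366 Q366 (allL N366 (tt N164 (iv1 D706)) (tt N213 F1329) (tt N211 (iv2 F1333)) (tt N366 F1332) (tt N804 D1174) (tt N225 F1331) (tt N805 D1175) (tt N210 F1330))
theorem Q368 : ∀ i, i < 368 → P i := stepQ 367 Q367 (allL N367 (tt N806 D1176) (tt N807 D1177) (tt N212 F1335) (tt N808 D1178) (tt N164 (iv4 D707)) (tt N809 D1179) (tt N795 (iv6 F2117)) (tt N810 D1180))
theorem Q369 : ∀ i, i < 369 → P i := stepQ 368 Q368 (allL N368 (tt N211 (iv1 F1338)) (tt N210 F1339) (tt N213 F1336) (tt N777 (iv3 F2093)) (tt N810 (iv4 F2159)) (tt N165 F1337) (tt N811 D1181) (tt N164 (iv7 D708)))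
theorem Q370 : ∀ i, i < 370 → P i := stepQ 369 Q369 (allL N369 (tt N166 (iv1 D709)) (tt N370 F1345) (tt N217 (iv2 F1346)) (tt N480 (iv3 F1543)) (tt N480 (iv4 F1544)) (tt N349 F1347) (tt N812 D1182) (tt N369 F1348))
theorem Q371 : ∀ i, i < 371 → P i := stepQ 370 Q370 (allL N370 (tt N369 (iv1 F1345)) (tt N217 F1344) (tt N166 (iv2 D710)) (tt N214 F1340) (tt N370 F1341) (tt N329 F1342) (tt N813 D1183) (tt N370 F1343))
theorem Q372 : ∀ i, i < 372 → P i := stepQ 371 Q371 (allL N371 (tt N814 D1184) (tt N812 (iv0 F2166)) (tt N813 (iv2 F2167)) (tt N168 F1349) (tt N371 F1350) (tt N815 D1185) (tt N166 (iv6 D711)) (tt N816 D1186))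
theorem Q373 : ∀ i, i < 373 → P i := stepQ 372 Q372 (allL N372 (tt N817 D1187) (tt N818 D1188) (tt N224 F1351) (tt N738 (iv3 F2026)) (tt N443 (iv4 F1506)) (tt N819 D1189) (tt N167 (iv6 D712)) (tt N820 D1190))
theorem Q374 : ∀ i, i < 374 → P i := stepQ 373 Q373 (allL N373 (tt N227 (iv1 F1357)) (tt N168 (iv0 D713)) (tt N225 (iv2 F1354)) (tt N821 D1191) (tt N255 F1355) (tt N211 F1352) (tt N373 F1353) (tt N221 F1356))
theorem Q375 : ∀ i, i < 375 → P i := stepQ 374 Q374 (allL N374 (tt N363 F1359) (tt N364 F1360) (tt N226 F1358) (tt N815 (iv3 F2175)) (tt N822 D1192) (tt N168 (iv5 D714)) (tt N819 (iv6 F2184)) (tt N459 (iv7 F1515)))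
theorem Q376 : ∀ i, i < 376 → P i := stepQ 375 Q375 (allL N375 (tt N221 (iv1 F1364)) (tt N225 F1365) (tt N227 F1361) (tt N816 (iv3 F2178)) (tt N171 F1362) (tt N459 (iv5 F1513)) (tt N375 F1363) (tt N168 (iv7 D715)))
theorem Q377 : ∀ i, i < 377 → P i := stepQ 376 Q376 (allL N376 (tt N482 (iv1 F1549)) (tt N477 F1534) (tt N228 F1366) (tt N814 (iv3 F2171)) (tt N169 (iv4 D716)) (tt N418 (iv5 F1535)) (tt N376 F1367) (tt N218 F1368))
theorem Q378 : ∀ i, i < 378 → P i := stepQ 377 Q377 (allL N377 (tt N561 (iv1 F1698)) (tt N563 (iv0 F1702)) (tt N229 F1369) (tt N823 D1193) (tt N170 (iv4 D717)) (tt N824 D1194) (tt N178 F1370) (tt N513 (iv7 F1618)))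
theorem Q379 : ∀ i, i < 379 → P i := stepQ 378 Q378 (allL N378 (tt N825 D1195) (tt N826 D1196) (tt N233 F1371) (tt N772 (iv3 F2082)) (tt N827 D1197) (tt N172 (iv5 D718)) (tt N828 D1198) (tt N238 F1372))
theorem Q380 : ∀ i, i < 380 → P i := stepQ 379 Q379 (allL N379 (tt N829 D1199) (tt N830 D1200) (tt N235 F1373) (tt N831 D1201) (tt N173 (iv4 D719)) (tt N832 D1202) (tt N833 D1203) (tt N239 F1374))
theorem Q381 : ∀ i, i < 381 → P i := stepQ 380 Q380 (allL N380 (tt N611 (iv1 F2876)) (tt N834 D1205) (tt N236 F1375) (tt N236 F1376) (tt N833 (iv4 F2230)) (tt N240 F1377) (tt N173 (iv6 D720)) (tt N835 D1206))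
theorem Q382 : ∀ i, i < 382 → P i := stepQ 381 Q381 (allL N381 (tt N321 F2416) (tt N694 F2417) (tt N692 (iv2 F2400)) (tt N174 (iv3 D721)) (tt N237 F1378) (tt N836 D1209) (tt N232 F1379) (tt N232 F1380))
theorem Q383 : ∀ i, i < 383 → P i := stepQ 382 Q382 (allL N382 (tt N826 (iv1 F2206)) (tt N825 F2202) (tt N238 F1381) (tt N836 (iv3 F2251)) (tt N837 D1210) (tt N174 (iv5 D722)) (tt N838 D1211) (tt N233 F1382))
theorem Q384 : ∀ i, i < 384 → P i := stepQ 383 Q383 (allL N383 (tt N830 (iv1 F2220)) (tt N829 F2217) (tt N239 F1383) (tt N839 D1212) (tt N175 (iv4 D723)) (tt N840 D1213) (tt N841 D1214) (tt N235 F1384))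
theorem Q385 : ∀ i, i < 385 → P i := stepQ 384 Q384 (allL N384 (tt N514 F1626) (tt N249 (iv0 F1388)) (tt N240 F1385) (tt N240 F1386) (tt N841 (iv4 F2263)) (tt N236 F1387) (tt N175 (iv6 D724)) (tt N842 D1215))
theorem Q386 : ∀ i, i < 386 → P i := stepQ 385 Q385 (allL N385 (tt N568 (iv1 F1714)) (tt N557 (iv0 F1676)) (tt N241 F1389) (tt N843 D1216) (tt N176 (iv4 D725)) (tt N844 D1217) (tt N385 F1390) (tt N242 F1391))
theorem Q387 : ∀ i, i < 387 → P i := stepQ 386 Q386 (allL N386 (tt N557 (iv1 F1677)) (tt N568 F1713) (tt N242 F1392) (tt N845 D1218) (tt N177 (iv4 D726)) (tt N846 D1219) (tt N847 D1220) (tt N241 F1393))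
theorem Q388 : ∀ i, i < 388 → P i := stepQ 387 Q387 (allL N387 (tt N537 (iv1 F1643)) (tt N536 F1641) (tt N243 F1394) (tt N243 F1395) (tt N847 (iv4 F2280)) (tt N387 F1396) (tt N177 (iv6 D727)) (tt N387 F1397))
theorem Q389 : ∀ i, i < 389 → P i := stepQ 388 Q388 (allL N388 (tt N248 (iv1 F1401)) (tt N178 (iv0 D728)) (tt N244 (iv2 F1399)) (tt N848 D1221) (tt N260 F1398) (tt N849 D1222) (tt N388 F1400) (tt N245 (iv7 F1402)))
theorem Q390 : ∀ i, i < 390 → P i := stepQ 389 Q389 (allL N389 (tt N178 (iv1 D729)) (tt N248 F1403) (tt N245 (iv2 F1405)) (tt N643 (iv3 F1870)) (tt N261 (iv4 F1406)) (tt N850 D1223) (tt N851 D1224) (tt N244 F1404))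
theorem Q391 : ∀ i, i < 391 → P i := stepQ 390 Q390 (allL N390 (tt N852 D1225) (tt N853 D1226) (tt N854 D1227) (tt N178 (iv3 D730)) (tt N390 F1407) (tt N855 D1228) (tt N823 (iv6 F2197)) (tt N856 D1229))
theorem Q392 : ∀ i, i < 392 → P i := stepQ 391 Q391 (allL N391 (tt N857 D1230) (tt N858 D1231) (tt N247 F1408) (tt N855 (iv3 F2296)) (tt N859 D1232) (tt N178 (iv5 D731)) (tt N860 D1233) (tt N861 D1234))
theorem Q393 : ∀ i, i < 393 → P i := stepQ 392 Q392 (allL N392 (tt N245 (iv1 F1411)) (tt N244 F1412) (tt N248 F1409) (tt N856 (iv3 F2297)) (tt N179 F1410) (tt N861 (iv5 F2313)) (tt N862 D1235) (tt N178 (iv7 D732)))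
theorem Q394 : ∀ i, i < 394 → P i := stepQ 393 Q393 (allL N393 (tt N240 F1416) (tt N842 F2268) (tt N249 F1413) (tt N393 F1414) (tt N862 (iv4 F2317)) (tt N393 F1415) (tt N179 (iv6 D733)) (tt N514 (iv7 F1625)))
theorem Q395 : ∀ i, i < 395 → P i := stepQ 394 Q394 (allL N394 (tt N740 F2030) (tt N863 D1236) (tt N864 D1237) (tt N180 (iv3 D734)) (tt N394 F1417) (tt N403 (iv5 F1435)) (tt N865 D1238) (tt N394 F1418))
theorem Q396 : ∀ i, i < 396 → P i := stepQ 395 Q395 (allL N395 (tt N752 (iv1 F7709)) (tt N756 (iv0 F7710)) (tt N404 (iv2 F1437)) (tt N865 (iv3 F2328)) (tt N181 F1419) (tt N866 D1241) (tt N180 (iv6 D735)) (tt N867 D1242))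
theorem Q397 : ∀ i, i < 397 → P i := stepQ 396 Q396 (allL N396 (tt N407 (iv1 F1445)) (tt N181 (iv0 D736)) (tt N405 F4566) (tt N868 D1244) (tt N725 F4957) (tt N869 D1246) (tt N870 D1247) (tt N406 F4567))
theorem Q398 : ∀ i, i < 398 → P i := stepQ 397 Q397 (allL N397 (tt N181 (iv1 D737)) (tt N407 F1444) (tt N406 (iv2 F4560)) (tt N337 F10003) (tt N726 F4964) (tt N871 D1251) (tt N872 D1252) (tt N405 (iv7 F4563)))
theorem Q399 : ∀ i, i < 399 → P i := stepQ 398 Q398 (allL N398 (tt N406 (iv1 F1439)) (tt N405 F1443) (tt N407 (iv2 F1440)) (tt N398 F1420) (tt N867 (iv4 F2330)) (tt N398 F1421) (tt N398 F1422) (tt N181 (iv7 D738)))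
theorem Q400 : ∀ i, i < 400 → P i := stepQ 399 Q399 (allL N399 (tt N194 (iv1 F1454)) (tt N194 (iv0 F1453)) (tt N399 F1423) (tt N320 F1424) (tt N183 F1426) (tt N182 (iv5 D739)) (tt N873 D1253) (tt N399 F1425))
theorem Q401 : ∀ i, i < 401 → P i := stepQ 400 Q400 (allL N400 (tt N362 (iv1 F2419)) (tt N207 (iv0 F2418)) (tt N400 F1427) (tt N321 F1428) (tt N400 F1429) (tt N874 D1256) (tt N182 (iv6 D740)) (tt N462 (iv7 F2412)))
theorem Q402 : ∀ i, i < 402 → P i := stepQ 401 Q401 (allL N401 (tt N183 (iv1 F1430)) (tt N183 (iv0 D741)) (tt N401 F1451) (tt N325 (iv3 F1455)) (tt N194 F1450) (tt N486 (iv5 F1563)) (tt N875 D1258) (tt N401 F1452))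
theorem Q403 : ∀ i, i < 403 → P i := stepQ 402 Q402 (allL N402 (tt N876 D1259) (tt N877 D1260) (tt N402 F1431) (tt N185 F1432) (tt N873 (iv4 F2337)) (tt N402 F1433) (tt N183 (iv6 D742)) (tt N878 D1261))
theorem Q404 : ∀ i, i < 404 → P i := stepQ 403 Q403 (allL N403 (tt N759 (iv1 F2058)) (tt N761 (iv0 F2062)) (tt N690 (iv2 F1947)) (tt N184 (iv3 D743)) (tt N320 F1434) (tt N394 F1435) (tt N879 D1262) (tt N403 F1436))
theorem Q405 : ∀ i, i < 405 → P i := stepQ 404 Q404 (allL N404 (tt N730 (iv1 F5085)) (tt N733 F5081) (tt N395 F1437) (tt N879 (iv3 F2358)) (tt N185 F1438) (tt N880 D1265) (tt N184 (iv6 D744)) (tt N881 D1266))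
theorem Q406 : ∀ i, i < 406 → P i := stepQ 405 Q405 (allL N405 (tt N398 (iv1 F1443)) (tt N185 (iv0 D745)) (tt N396 (iv2 F4566)) (tt N345 (iv3 F10004)) (tt N748 F4868) (tt N882 D1270) (tt N883 D1271) (tt N397 F4563))
theorem Q407 : ∀ i, i < 407 → P i := stepQ 406 Q406 (allL N406 (tt N185 (iv1 D746)) (tt N398 F1439) (tt N397 F4560) (tt N742 F9986) (tt N749 F4876) (tt N884 D1275) (tt N885 D1276) (tt N396 (iv7 F4567)))
theorem Q408 : ∀ i, i < 408 → P i := stepQ 407 Q407 (allL N407 (tt N397 (iv1 F1444)) (tt N396 F1445) (tt N398 F1440) (tt N878 (iv3 F2353)) (tt N881 (iv4 F2364)) (tt N407 F1441) (tt N407 F1442) (tt N185 (iv7 D747)))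
theorem Q409 : ∀ i, i < 409 → P i := stepQ 408 Q408 (allL N408 (tt N320 (iv1 F1449)) (tt N322 (iv0 F1448)) (tt N687 F1942) (tt N186 (iv3 D748)) (tt N763 (iv4 F2065)) (tt N215 F1446) (tt N886 D1277) (tt N408 F1447))
theorem Q410 : ∀ i, i < 410 → P i := stepQ 409 Q409 (allL N409 (tt N887 D1278) (tt N888 D1279) (tt N410 (iv2 F1460)) (tt N886 (iv3 F2372)) (tt N435 (iv4 F1495)) (tt N889 D1280) (tt N186 (iv6 D749)) (tt N890 D1281))
theorem Q411 : ∀ i, i < 411 → P i := stepQ 410 Q410 (allL N410 (tt N891 D1282) (tt N892 D1283) (tt N409 F1460) (tt N760 (iv3 F2059)) (tt N437 (iv4 F1499)) (tt N893 D1284) (tt N187 (iv6 D750)) (tt N894 D1285))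
theorem Q412 : ∀ i, i < 412 → P i := stepQ 411 Q411 (allL N411 (tt N895 D1286) (tt N896 D1287) (tt N897 D1288) (tt N188 (iv3 D751)) (tt N199 F1461) (tt N709 (iv5 F1986)) (tt N898 D1289) (tt N411 F1462))
theorem Q413 : ∀ i, i < 413 → P i := stepQ 412 Q412 (allL N412 (tt N787 (iv1 F4919)) (tt N790 (iv0 F4920)) (tt N681 (iv2 F1928)) (tt N898 (iv3 F2389)) (tt N189 F1463) (tt N899 D1292) (tt N188 (iv6 D752)) (tt N900 D1293))
theorem Q414 : ∀ i, i < 414 → P i := stepQ 413 Q413 (allL N413 (tt N685 (iv1 F1937)) (tt N189 (iv0 D753)) (tt N682 F4441) (tt N901 D1295) (tt N444 F4906) (tt N902 D1297) (tt N903 D1298) (tt N683 (iv7 F4449)))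
theorem Q415 : ∀ i, i < 415 → P i := stepQ 414 Q414 (allL N414 (tt N189 (iv1 D754)) (tt N685 F1936) (tt N683 (iv2 F4448)) (tt N904 D1300) (tt N445 F4900) (tt N905 D1302) (tt N906 D1303) (tt N682 F4447))
theorem Q416 : ∀ i, i < 416 → P i := stepQ 415 Q415 (allL N415 (tt N907 D1304) (tt N908 D1305) (tt N684 (iv2 F1931)) (tt N204 F1464) (tt N909 D1306) (tt N189 (iv5 D755)) (tt N190 F1465) (tt N910 D1307))
theorem Q417 : ∀ i, i < 417 → P i := stepQ 416 Q416 (allL N416 (tt N683 (iv1 F1930)) (tt N682 F1935) (tt N685 (iv2 F1933)) (tt N205 F1466) (tt N900 (iv4 F2391)) (tt N910 (iv5 F2397)) (tt N416 F1467) (tt N189 (iv7 D756)))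
theorem Q418 : ∀ i, i < 418 → P i := stepQ 417 Q417 (allL N417 (tt N506 F1611) (tt N190 (iv0 D757)) (tt N485 (iv2 F1560)) (tt N911 D1308) (tt N471 (iv4 F1528)) (tt N216 F1468) (tt N889 (iv6 F2374)) (tt N498 (iv7 F1588)))
theorem Q419 : ∀ i, i < 419 → P i := stepQ 418 Q418 (allL N418 (tt N190 (iv1 D758)) (tt N506 (iv0 F1609)) (tt N498 (iv2 F1587)) (tt N912 D1309) (tt N472 F1610) (tt N376 F1535) (tt N913 D1310) (tt N485 (iv7 F1561)))
theorem Q420 : ∀ i, i < 420 → P i := stepQ 419 Q419 (allL N419 (tt N803 (iv1 F2140)) (tt N804 (iv0 F2143)) (tt N686 (iv2 F1938)) (tt N914 D1311) (tt N190 (iv4 D759)) (tt N915 D1312) (tt N909 (iv6 F2395)) (tt N916 D1313))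
theorem Q421 : ∀ i, i < 421 → P i := stepQ 420 Q420 (allL N420 (tt N498 (iv1 F1589)) (tt N485 F1591) (tt N506 (iv2 F1607)) (tt N213 F1469) (tt N916 (iv4 F2426)) (tt N191 F1470) (tt N917 D1314) (tt N190 (iv7 D760)))
theorem Q422 : ∀ i, i < 422 → P i := stepQ 421 Q421 (allL N421 (tt N918 D1315) (tt N919 D1316) (tt N920 D1317) (tt N192 (iv3 D761)) (tt N421 F1471) (tt N428 (iv5 F1481)) (tt N921 D1318) (tt N421 F1472))
theorem Q423 : ∀ i, i < 423 → P i := stepQ 422 Q422 (allL N422 (tt N922 D1319) (tt N923 D1320) (tt N429 (iv2 F1484)) (tt N921 (iv3 F2442)) (tt N193 F1473) (tt N924 D1321) (tt N192 (iv6 D762)) (tt N925 D1322))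
theorem Q424 : ∀ i, i < 424 → P i := stepQ 423 Q423 (allL N423 (tt N433 (iv1 F1493)) (tt N193 (iv0 D763)) (tt N430 F4551) (tt N926 D1324) (tt N927 D1325) (tt N928 D1326) (tt N884 F2371) (tt N431 F4552))
theorem Q425 : ∀ i, i < 425 → P i := stepQ 424 Q424 (allL N424 (tt N193 (iv1 D764)) (tt N433 F1492) (tt N431 (iv2 F4544)) (tt N888 F10058) (tt N929 D1329) (tt N930 D1330) (tt N931 D1331) (tt N430 (iv7 F4545)))
theorem Q426 : ∀ i, i < 426 → P i := stepQ 425 Q425 (allL N425 (tt N932 D1332) (tt N933 D1333) (tt N432 (iv2 F1487)) (tt N425 F1474) (tt N934 D1334) (tt N193 (iv5 D765)) (tt N210 F1475) (tt N935 D1335))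
theorem Q427 : ∀ i, i < 427 → P i := stepQ 426 Q426 (allL N426 (tt N431 (iv1 F1486)) (tt N430 F1491) (tt N433 (iv2 F1489)) (tt N426 F1476) (tt N925 (iv4 F2444)) (tt N935 (iv5 F2451)) (tt N426 F1477) (tt N193 (iv7 D766)))
theorem Q428 : ∀ i, i < 428 → P i := stepQ 427 Q427 (allL N427 (tt N936 D1336) (tt N937 D1337) (tt N427 F1478) (tt N196 F1479) (tt N875 (iv4 F2351)) (tt N938 D1338) (tt N194 (iv6 D767)) (tt N939 D1339))
theorem Q429 : ∀ i, i < 429 → P i := stepQ 428 Q428 (allL N428 (tt N341 (iv1 F1483)) (tt N736 (iv0 F2020)) (tt N698 (iv2 F1965)) (tt N195 (iv3 D768)) (tt N325 F1480) (tt N421 F1481) (tt N940 D1340) (tt N428 F1482))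
theorem Q430 : ∀ i, i < 430 → P i := stepQ 429 Q429 (allL N429 (tt N941 D1341) (tt N942 D1342) (tt N422 F1484) (tt N940 (iv3 F2460)) (tt N196 F1485) (tt N943 D1343) (tt N195 (iv6 D769)) (tt N944 D1344))
theorem Q431 : ∀ i, i < 431 → P i := stepQ 430 Q430 (allL N430 (tt N426 (iv1 F1491)) (tt N196 (iv0 D770)) (tt N423 (iv2 F4551)) (tt N891 F10039) (tt N945 D1347) (tt N946 D1348) (tt N871 F2334) (tt N424 F4545))
theorem Q432 : ∀ i, i < 432 → P i := stepQ 431 Q431 (allL N431 (tt N196 (iv1 D771)) (tt N426 F1486) (tt N424 F4544) (tt N947 D1350) (tt N948 D1351) (tt N949 D1352) (tt N950 D1353) (tt N423 (iv7 F4552)))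
theorem Q433 : ∀ i, i < 433 → P i := stepQ 432 Q432 (allL N432 (tt N951 D1354) (tt N952 D1355) (tt N425 F1487) (tt N938 (iv3 F2453)) (tt N953 D1356) (tt N196 (iv5 D772)) (tt N365 F1488) (tt N954 D1357))
theorem Q434 : ∀ i, i < 434 → P i := stepQ 433 Q433 (allL N433 (tt N424 (iv1 F1492)) (tt N423 F1493) (tt N426 F1489) (tt N939 (iv3 F2456)) (tt N944 (iv4 F2466)) (tt N954 (iv5 F2478)) (tt N433 F1490) (tt N196 (iv7 D773)))
theorem Q435 : ∀ i, i < 435 → P i := stepQ 434 Q434 (allL N434 (tt N955 D1358) (tt N956 D1359) (tt N957 D1360) (tt N197 (iv3 D774)) (tt N744 (iv4 F2035)) (tt N436 (iv5 F1496)) (tt N958 D1361) (tt N434 F1494))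
theorem Q436 : ∀ i, i < 436 → P i := stepQ 435 Q435 (allL N435 (tt N927 F4889) (tt N929 F4890) (tt N437 (iv2 F1498)) (tt N958 (iv3 F2491)) (tt N409 F1495) (tt N959 D1364) (tt N197 (iv6 D775)) (tt N960 D1365))
theorem Q437 : ∀ i, i < 437 → P i := stepQ 436 Q436 (allL N436 (tt N702 F1979) (tt N961 D1366) (tt N962 D1367) (tt N198 (iv3 D776)) (tt N963 D1368) (tt N434 F1496) (tt N964 D1369) (tt N436 F1497))
theorem Q438 : ∀ i, i < 438 → P i := stepQ 437 Q437 (allL N437 (tt N945 F4979) (tt N948 (iv0 F4980)) (tt N435 F1498) (tt N964 (iv3 F2505)) (tt N410 F1499) (tt N965 D1372) (tt N198 (iv6 D777)) (tt N966 D1373))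
theorem Q439 : ∀ i, i < 439 → P i := stepQ 438 Q438 (allL N438 (tt N440 (iv1 F1501)) (tt N199 (iv0 D778)) (tt N439 (iv2 F3747)) (tt N967 D1375) (tt N968 D1376) (tt N778 (iv5 F3744)) (tt N969 D1378) (tt N438 F3746))
theorem Q440 : ∀ i, i < 440 → P i := stepQ 439 Q439 (allL N439 (tt N199 (iv1 D779)) (tt N440 F1502) (tt N438 F3747) (tt N970 D1380) (tt N967 (iv4 F2516)) (tt N779 (iv5 F3749)) (tt N971 D1382) (tt N439 F3748))
theorem Q441 : ∀ i, i < 441 → P i := stepQ 440 Q440 (allL N440 (tt N439 (iv1 F1502)) (tt N438 F1501) (tt N199 (iv2 D780)) (tt N780 (iv3 F2100)) (tt N897 (iv4 F2385)) (tt N972 D1383) (tt N973 D1384) (tt N440 F1500))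
theorem Q442 : ∀ i, i < 442 → P i := stepQ 441 Q441 (allL N441 (tt N974 D1385) (tt N975 D1386) (tt N972 (iv2 F2518)) (tt N200 F1503) (tt N976 D1387) (tt N199 (iv5 D781)) (tt N977 D1388) (tt N441 F1504))
theorem Q443 : ∀ i, i < 443 → P i := stepQ 442 Q442 (allL N442 (tt N978 D1389) (tt N979 D1390) (tt N973 (iv2 F2520)) (tt N201 F1505) (tt N898 (iv4 F2390)) (tt N980 D1391) (tt N199 (iv6 D782)) (tt N981 D1392))
theorem Q444 : ∀ i, i < 444 → P i := stepQ 443 Q443 (allL N443 (tt N982 D1393) (tt N983 D1394) (tt N490 (iv2 F1577)) (tt N977 (iv3 F2530)) (tt N372 F1506) (tt N984 D1395) (tt N200 (iv6 D783)) (tt N985 D1396))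
theorem Q445 : ∀ i, i < 445 → P i := stepQ 444 Q444 (allL N444 (tt N785 (iv1 F2112)) (tt N201 (iv0 D784)) (tt N782 F5128) (tt N986 D1398) (tt N413 (iv4 F4906)) (tt N987 D1400) (tt N988 D1401) (tt N783 (iv7 F5136)))
theorem Q446 : ∀ i, i < 446 → P i := stepQ 445 Q445 (allL N445 (tt N201 (iv1 D785)) (tt N785 F2111) (tt N783 (iv2 F5135)) (tt N989 D1403) (tt N414 (iv4 F4900)) (tt N990 D1405) (tt N991 D1406) (tt N782 F5134))
theorem Q447 : ∀ i, i < 447 → P i := stepQ 446 Q446 (allL N446 (tt N992 D1407) (tt N993 D1408) (tt N784 (iv2 F2106)) (tt N980 (iv3 F2531)) (tt N994 D1409) (tt N201 (iv5 D786)) (tt N984 (iv6 F2534)) (tt N995 D1410))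
theorem Q448 : ∀ i, i < 448 → P i := stepQ 447 Q447 (allL N447 (tt N783 (iv1 F2105)) (tt N782 F2110) (tt N785 (iv2 F2107)) (tt N981 (iv3 F2532)) (tt N205 F1507) (tt N995 (iv5 F2539)) (tt N447 F1508) (tt N201 (iv7 D787)))
theorem Q449 : ∀ i, i < 449 → P i := stepQ 448 Q448 (allL N448 (tt N900 (iv1 F5052)) (tt N681 (iv0 F5053)) (tt N787 (iv2 F3890)) (tt N996 D1426) (tt N202 (iv4 D790)) (tt N997 D1427) (tt N998 D1428) (tt N790 F3888))
theorem Q450 : ∀ i, i < 450 → P i := stepQ 449 Q449 (allL N449 (tt N999 D1430) (tt N1000 D1431) (tt N788 (iv2 F3879)) (tt N449 F5058) (tt N1001 D1432) (tt N202 (iv5 D791)) (tt N1002 D1433) (tt N791 F3877))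
theorem Q451 : ∀ i, i < 451 → P i := stepQ 450 Q450 (allL N450 (tt N950 (iv1 F4542)) (tt N1003 D1436) (tt N789 (iv2 F3894)) (tt N450 F5059) (tt N998 (iv4 F2552)) (tt N1004 D1437) (tt N202 (iv6 D792)) (tt N1005 D1438))
theorem Q452 : ∀ i, i < 452 → P i := stepQ 451 Q451 (allL N451 (tt N873 F9904) (tt N1006 D1441) (tt N451 F5067) (tt N203 (iv3 D794)) (tt N877 F9932) (tt N1007 D1444) (tt N1008 D1445) (tt N786 (iv7 F3889)))
theorem Q453 : ∀ i, i < 453 → P i := stepQ 452 Q452 (allL N452 (tt N681 F5056) (tt N900 F5057) (tt N790 F3883) (tt N1009 D1446) (tt N203 (iv4 D795)) (tt N1010 D1447) (tt N1011 D1448) (tt N787 (iv7 F3891)))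
theorem Q454 : ∀ i, i < 454 → P i := stepQ 453 Q453 (allL N453 (tt N1000 (iv1 F2560)) (tt N999 (iv0 F2558)) (tt N791 F3876) (tt N1007 (iv3 F2566)) (tt N1012 D1449) (tt N203 (iv5 D796)) (tt N1013 D1450) (tt N788 (iv7 F3880)))
theorem Q455 : ∀ i, i < 455 → P i := stepQ 454 Q454 (allL N454 (tt N882 F2559) (tt N884 (iv0 F3872)) (tt N792 F3884) (tt N1008 (iv3 F2567)) (tt N1011 (iv4 F2568)) (tt N1014 D1452) (tt N203 (iv6 D797)) (tt N1014 (iv7 F3893)))
theorem Q456 : ∀ i, i < 456 → P i := stepQ 455 Q455 (allL N455 (tt N796 (iv1 F2122)) (tt N204 (iv0 D798)) (tt N793 F5239) (tt N455 F5185) (tt N1015 D1456) (tt N1016 D1457) (tt N1017 D1458) (tt N794 (iv7 F5246)))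
theorem Q457 : ∀ i, i < 457 → P i := stepQ 456 Q456 (allL N456 (tt N204 (iv1 D799)) (tt N796 F2121) (tt N794 (iv2 F5245)) (tt N1018 D1460) (tt N1019 D1461) (tt N1020 D1462) (tt N1021 D1463) (tt N793 F5244))
theorem Q458 : ∀ i, i < 458 → P i := stepQ 457 Q457 (allL N457 (tt N1022 D1464) (tt N1023 D1465) (tt N795 (iv2 F2116)) (tt N1024 D1466) (tt N204 (iv4 D800)) (tt N1025 D1467) (tt N212 F1511) (tt N1026 D1468))
theorem Q459 : ∀ i, i < 459 → P i := stepQ 458 Q458 (allL N458 (tt N794 (iv1 F2115)) (tt N793 F2120) (tt N796 (iv2 F2118)) (tt N910 (iv3 F2396)) (tt N1026 (iv4 F2575)) (tt N205 F1512) (tt N1027 D1469) (tt N204 (iv7 D801)))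
theorem Q460 : ∀ i, i < 460 → P i := stepQ 459 Q459 (allL N459 (tt N209 (iv1 F1514)) (tt N206 (iv0 D802)) (tt N496 (iv2 F1581)) (tt N1028 D1470) (tt N1029 D1471) (tt N375 F1513) (tt N1030 D1472) (tt N374 F1515))
theorem Q461 : ∀ i, i < 461 → P i := stepQ 460 Q460 (allL N460 (tt N1031 D1473) (tt N1032 D1474) (tt N798 (iv2 F2126)) (tt N1033 D1475) (tt N206 (iv4 D803)) (tt N1034 D1476) (tt N1035 D1477) (tt N800 (iv7 F2131)))
theorem Q462 : ∀ i, i < 462 → P i := stepQ 461 Q461 (allL N461 (tt N1036 D1478) (tt N1037 D1479) (tt N799 (iv2 F2128)) (tt N461 F1516) (tt N1035 (iv4 F2591)) (tt N801 (iv5 F2134)) (tt N206 (iv6 D804)) (tt N1038 D1480))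
theorem Q463 : ∀ i, i < 463 → P i := stepQ 462 Q462 (allL N462 (tt N207 (iv1 D806)) (tt N362 F1519) (tt N462 F2410) (tt N507 (iv3 F1612)) (tt N462 F1520) (tt N1039 D1481) (tt N462 F2411) (tt N400 F2412))
theorem Q464 : ∀ i, i < 464 → P i := stepQ 463 Q463 (allL N463 (tt N1040 D1482) (tt N1041 D1483) (tt N463 F1521) (tt N209 F1522) (tt N1042 D1484) (tt N207 (iv5 D807)) (tt N1042 F26277) (tt N797 (iv7 F2125)))
theorem Q465 : ∀ i, i < 465 → P i := stepQ 464 Q464 (allL N464 (tt N555 F1668) (tt N559 F1687) (tt N259 F1523) (tt N464 F1524) (tt N500 F1620) (tt N208 (iv5 D808)) (tt N1043 D1486) (tt N258 F1525))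
theorem Q466 : ∀ i, i < 466 → P i := stepQ 465 Q465 (allL N465 (tt N1032 (iv1 F2587)) (tt N1031 F2586) (tt N800 (iv2 F2130)) (tt N1044 D1487) (tt N209 (iv4 D809)) (tt N1045 D1488) (tt N1044 F26332) (tt N798 (iv7 F2127)))
theorem Q467 : ∀ i, i < 467 → P i := stepQ 466 Q466 (allL N466 (tt N1046 D1490) (tt N1047 D1491) (tt N801 (iv2 F2132)) (tt N1042 F26276) (tt N1044 (iv4 F26294)) (tt N799 (iv5 F2129)) (tt N209 (iv6 D810)) (tt N1048 D1492))
theorem Q468 : ∀ i, i < 468 → P i := stepQ 467 Q467 (allL N467 (tt N916 (iv1 F2428)) (tt N686 (iv0 F1939)) (tt N803 (iv2 F2138)) (tt N1049 D1493) (tt N210 (iv4 D811)) (tt N1050 D1494) (tt N934 (iv6 F2449)) (tt N804 (iv7 F2142)))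
theorem Q469 : ∀ i, i < 469 → P i := stepQ 468 Q468 (allL N468 (tt N874 (iv1 F2342)) (tt N1039 F2595) (tt N468 F1526) (tt N211 (iv3 D812)) (tt N1051 D1495) (tt N821 (iv5 F2192)) (tt N1052 D1496) (tt N802 (iv7 F2137)))
theorem Q470 : ∀ i, i < 470 → P i := stepQ 469 Q469 (allL N469 (tt N686 (iv1 F1940)) (tt N916 F2427) (tt N804 (iv2 F2141)) (tt N1053 D1497) (tt N211 (iv4 D813)) (tt N1054 D1498) (tt N1055 D1499) (tt N803 (iv7 F2139)))
theorem Q471 : ∀ i, i < 471 → P i := stepQ 470 Q470 (allL N470 (tt N1056 D1500) (tt N1057 D1501) (tt N805 (iv2 F2144)) (tt N1052 (iv3 F2613)) (tt N1055 (iv4 F2616)) (tt N470 F1527) (tt N211 (iv6 D814)) (tt N1058 D1502))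
theorem Q472 : ∀ i, i < 472 → P i := stepQ 471 Q471 (allL N471 (tt N810 (iv1 F2162)) (tt N212 (iv0 D815)) (tt N806 F2148) (tt N1059 D1503) (tt N417 F1528) (tt N1060 D1504) (tt N1061 D1505) (tt N807 (iv7 F2152)))
theorem Q473 : ∀ i, i < 473 → P i := stepQ 472 Q472 (allL N472 (tt N212 (iv1 D816)) (tt N810 F2161) (tt N807 F2154) (tt N1062 D1506) (tt N418 (iv4 F1610)) (tt N1063 D1507) (tt N1064 D1508) (tt N806 F2149))
theorem Q474 : ∀ i, i < 474 → P i := stepQ 473 Q473 (allL N473 (tt N1065 D1509) (tt N1066 D1510) (tt N1067 D1511) (tt N212 (iv3 D817)) (tt N914 (iv4 F2425)) (tt N1068 D1512) (tt N1024 (iv6 F2574)) (tt N1069 D1513))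
theorem Q475 : ∀ i, i < 475 → P i := stepQ 474 Q474 (allL N474 (tt N1070 D1514) (tt N1071 D1515) (tt N809 (iv2 F2155)) (tt N1068 (iv3 F2623)) (tt N861 (iv4 F2312)) (tt N212 (iv5 D818)) (tt N1072 D1516) (tt N859 F2309))
theorem Q476 : ∀ i, i < 476 → P i := stepQ 475 Q475 (allL N475 (tt N807 (iv1 F2151)) (tt N806 F2150) (tt N810 (iv2 F2158)) (tt N1069 (iv3 F2624)) (tt N213 F1529) (tt N859 (iv5 F2308)) (tt N1073 D1517) (tt N212 (iv7 D819)))
theorem Q477 : ∀ i, i < 477 → P i := stepQ 476 Q476 (allL N476 (tt N1074 D1518) (tt N1075 D1519) (tt N811 (iv2 F2163)) (tt N917 (iv3 F2429)) (tt N1073 (iv4 F2631)) (tt N476 F1530) (tt N213 (iv6 D820)) (tt N1027 (iv7 F2577)))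
theorem Q478 : ∀ i, i < 478 → P i := stepQ 477 Q477 (allL N477 (tt N376 (iv1 F1534)) (tt N216 (iv0 F1533)) (tt N222 F1531) (tt N813 (iv3 F2168)) (tt N250 F1532) (tt N826 (iv5 F2208)) (tt N214 (iv6 D821)) (tt N484 (iv7 F1557)))
theorem Q479 : ∀ i, i < 479 → P i := stepQ 478 Q478 (allL N478 (tt N480 (iv1 F1546)) (tt N215 (iv0 D822)) (tt N479 F1542) (tt N486 (iv3 F1564)) (tt N479 F1538) (tt N325 F1536) (tt N1076 D1520) (tt N478 F1537))
theorem Q480 : ∀ i, i < 480 → P i := stepQ 479 Q479 (allL N479 (tt N215 (iv1 D823)) (tt N480 F1547) (tt N478 (iv2 F1542)) (tt N479 F1539) (tt N478 (iv4 F1538)) (tt N326 F1541) (tt N1077 D1521) (tt N479 F1540))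
theorem Q481 : ∀ i, i < 481 → P i := stepQ 480 Q480 (allL N480 (tt N479 (iv1 F1547)) (tt N478 F1546) (tt N215 (iv2 D824)) (tt N369 F1543) (tt N369 F1544) (tt N687 (iv5 F1941)) (tt N1078 D1522) (tt N480 F1545))
theorem Q482 : ∀ i, i < 482 → P i := stepQ 481 Q481 (allL N481 (tt N1076 F2632) (tt N1079 D1523) (tt N1078 (iv2 F2637)) (tt N216 F1548) (tt N483 (iv4 F1555)) (tt N911 (iv5 F2398)) (tt N215 (iv6 D825)) (tt N497 (iv7 F1586)))
theorem Q483 : ∀ i, i < 483 → P i := stepQ 482 Q482 (allL N482 (tt N216 (iv1 D826)) (tt N376 F1549) (tt N484 F1558) (tt N227 (iv3 F1552)) (tt N257 F1551) (tt N825 (iv5 F2201)) (tt N482 F1553) (tt N222 F1550))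
theorem Q484 : ∀ i, i < 484 → P i := stepQ 483 Q483 (allL N483 (tt N813 F2170) (tt N816 F2181) (tt N812 (iv2 F2165)) (tt N218 F1554) (tt N481 F1555) (tt N774 (iv5 F2091)) (tt N217 (iv6 D827)) (tt N814 F2174))
theorem Q485 : ∀ i, i < 485 → P i := stepQ 484 Q484 (allL N484 (tt N218 (iv1 D828)) (tt N228 F1556) (tt N482 (iv2 F1558)) (tt N1080 D1524) (tt N556 (iv4 F1671)) (tt N510 (iv5 F1614)) (tt N484 F1559) (tt N477 F1557))
theorem Q486 : ∀ i, i < 486 → P i := stepQ 485 Q485 (allL N485 (tt N420 (iv1 F1591)) (tt N319 F1562) (tt N417 F1560) (tt N774 F2092) (tt N806 (iv4 F2147)) (tt N218 (iv5 D829)) (tt N893 (iv6 F2379)) (tt N418 F1561))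
theorem Q487 : ∀ i, i < 487 → P i := stepQ 486 Q486 (allL N486 (tt N220 F1566) (tt N220 (iv0 D830)) (tt N486 F1567) (tt N478 F1564) (tt N486 F1565) (tt N401 F1563) (tt N1081 D1525) (tt N486 F1568))
theorem Q488 : ∀ i, i < 488 → P i := stepQ 487 Q487 (allL N487 (tt N1081 F2655) (tt N1082 D1526) (tt N487 F1569) (tt N221 F1570) (tt N487 F1571) (tt N802 (iv5 F2136)) (tt N220 (iv6 D831)) (tt N821 (iv7 F2194)))
theorem Q489 : ∀ i, i < 489 → P i := stepQ 488 Q488 (allL N488 (tt N233 F1573) (tt N238 F1574) (tt N826 F2209) (tt N226 F1572) (tt N1083 D1527) (tt N222 (iv5 D832)) (tt N719 (iv6 F1998)) (tt N825 F2205))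
theorem Q490 : ∀ i, i < 490 → P i := stepQ 489 Q489 (allL N489 (tt N1084 D1528) (tt N1085 D1529) (tt N1086 D1530) (tt N223 (iv3 D833)) (tt N715 (iv4 F1990)) (tt N356 F1575) (tt N1087 D1531) (tt N489 F1576))
theorem Q491 : ∀ i, i < 491 → P i := stepQ 490 Q490 (allL N490 (tt N1088 D1532) (tt N1089 D1533) (tt N443 F1577) (tt N1087 (iv3 F2674)) (tt N224 F1578) (tt N1090 D1534) (tt N223 (iv6 D834)) (tt N1091 D1535))
theorem Q492 : ∀ i, i < 492 → P i := stepQ 491 Q491 (allL N491 (tt N820 (iv1 F2189)) (tt N224 (iv0 D835)) (tt N817 (iv2 F5251)) (tt N491 F5197) (tt N1092 D1538) (tt N1093 D1539) (tt N1094 D1540) (tt N818 (iv7 F5252)))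
theorem Q493 : ∀ i, i < 493 → P i := stepQ 492 Q492 (allL N492 (tt N224 (iv1 D836)) (tt N820 F2188) (tt N818 F5253) (tt N1095 D1542) (tt N1096 D1543) (tt N1097 D1544) (tt N1098 D1545) (tt N817 F5254))
theorem Q494 : ∀ i, i < 494 → P i := stepQ 493 Q493 (allL N493 (tt N1099 D1546) (tt N1100 D1547) (tt N819 (iv2 F2183)) (tt N719 (iv3 F1997)) (tt N1101 D1548) (tt N224 (iv5 D837)) (tt N226 F1579) (tt N1102 D1549))
theorem Q495 : ∀ i, i < 495 → P i := stepQ 494 Q494 (allL N494 (tt N818 (iv1 F2182)) (tt N817 F2187) (tt N820 (iv2 F2185)) (tt N720 (iv3 F2000)) (tt N1091 (iv4 F2679)) (tt N1102 (iv5 F2690)) (tt N494 F1580) (tt N224 (iv7 D838)))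
theorem Q496 : ∀ i, i < 496 → P i := stepQ 495 Q495 (allL N495 (tt N511 (iv1 F1616)) (tt N524 (iv0 F1633)) (tt N822 (iv2 F2195)) (tt N1103 D1550) (tt N226 (iv4 D839)) (tt N1104 D1551) (tt N1101 (iv6 F2689)) (tt N1105 D1552))
theorem Q497 : ∀ i, i < 497 → P i := stepQ 496 Q496 (allL N496 (tt N364 (iv1 F1583)) (tt N363 F1584) (tt N459 F1581) (tt N825 F2204) (tt N1105 (iv4 F2693)) (tt N227 F1582) (tt N1106 D1553) (tt N226 (iv7 D840)))
theorem Q498 : ∀ i, i < 498 → P i := stepQ 497 Q497 (allL N497 (tt N1107 D1554) (tt N1077 (iv0 F2636)) (tt N1108 D1555) (tt N228 (iv3 D841)) (tt N814 (iv4 F2172)) (tt N1109 D1556) (tt N497 F1585) (tt N481 F1586))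
theorem Q499 : ∀ i, i < 499 → P i := stepQ 498 Q498 (allL N498 (tt N319 F1590) (tt N420 F1589) (tt N418 F1587) (tt N1109 (iv3 F2708)) (tt N807 (iv4 F2153)) (tt N228 (iv5 D842)) (tt N1110 D1557) (tt N417 F1588))
theorem Q500 : ∀ i, i < 500 → P i := stepQ 499 Q499 (allL N499 (tt N513 (iv1 F1621)) (tt N229 (iv0 D843)) (tt N561 (iv2 F1695)) (tt N1111 D1558) (tt N267 F1592) (tt N549 (iv5 F1660)) (tt N1112 D1559) (tt N563 (iv7 F1701)))
theorem Q501 : ∀ i, i < 501 → P i := stepQ 500 Q500 (allL N500 (tt N229 (iv1 D844)) (tt N513 F1619) (tt N563 (iv2 F1700)) (tt N1113 D1560) (tt N464 (iv4 F1620)) (tt N550 (iv5 F1661)) (tt N1114 D1561) (tt N561 (iv7 F1696)))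
theorem Q502 : ∀ i, i < 502 → P i := stepQ 501 Q501 (allL N501 (tt N1115 D1562) (tt N1116 D1563) (tt N1117 D1564) (tt N229 (iv3 D845)) (tt N278 F1593) (tt N1118 D1565) (tt N246 F1594) (tt N1119 D1566))
theorem Q503 : ∀ i, i < 503 → P i := stepQ 502 Q502 (allL N502 (tt N850 (iv1 F2290)) (tt N849 (iv0 F2287)) (tt N824 (iv2 F2198)) (tt N1118 (iv3 F2720)) (tt N1120 D1567) (tt N229 (iv5 D846)) (tt N1121 D1568) (tt N1122 D1569))
theorem Q504 : ∀ i, i < 504 → P i := stepQ 503 Q503 (allL N503 (tt N563 (iv1 F1703)) (tt N561 (iv0 F1697)) (tt N513 (iv2 F1617)) (tt N1119 (iv3 F2721)) (tt N230 F1595) (tt N1122 (iv5 F2725)) (tt N1123 D1570) (tt N229 (iv7 D847)))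
theorem Q505 : ∀ i, i < 505 → P i := stepQ 504 Q504 (allL N504 (tt N842 (iv1 F2269)) (tt N240 (iv0 F1599)) (tt N514 (iv2 F1622)) (tt N281 F1596) (tt N1123 (iv4 F2728)) (tt N504 F1597) (tt N230 (iv6 D848)) (tt N249 F1598))
theorem Q506 : ∀ i, i < 506 → P i := stepQ 505 Q505 (allL N505 (tt N353 (iv1 F1605)) (tt N352 (iv0 F1604)) (tt N355 F1600) (tt N231 (iv3 D849)) (tt N505 F1601) (tt N1124 D1571) (tt N505 F1602) (tt N316 F1603))
theorem Q507 : ∀ i, i < 507 → P i := stepQ 506 Q506 (allL N506 (tt N418 F1609) (tt N417 (iv0 F1611)) (tt N420 F1607) (tt N1124 (iv3 F2732)) (tt N1125 D1572) (tt N231 (iv5 D850)) (tt N1126 D1573) (tt N319 F1608))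
theorem Q508 : ∀ i, i < 508 → P i := stepQ 507 Q507 (allL N507 (tt N692 F2405) (tt N232 (iv0 D851)) (tt N694 F2406) (tt N462 F1612) (tt N694 (iv4 F2413)) (tt N1127 D1574) (tt N507 F2407) (tt N321 F2408))
theorem Q509 : ∀ i, i < 509 → P i := stepQ 508 Q508 (allL N508 (tt N694 F2414) (tt N321 F2415) (tt N232 (iv2 D853)) (tt N678 (iv3 F1922)) (tt N678 (iv4 F1923)) (tt N1128 D1575) (tt N692 (iv6 F2403)) (tt N692 (iv7 F2404)))
theorem Q510 : ∀ i, i < 510 → P i := stepQ 509 Q509 (allL N509 (tt N1129 D1576) (tt N1130 D1577) (tt N1128 (iv2 F2745)) (tt N233 F1613) (tt N1131 D1578) (tt N232 (iv5 D854)) (tt N1132 D1579) (tt N836 (iv7 F2252)))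
theorem Q511 : ∀ i, i < 511 → P i := stepQ 510 Q510 (allL N510 (tt N238 (iv1 F1615)) (tt N233 (iv0 D855)) (tt N825 F2203) (tt N1133 D1580) (tt N1134 D1581) (tt N484 F1614) (tt N1135 D1582) (tt N826 (iv7 F2207)))
theorem Q512 : ∀ i, i < 512 → P i := stepQ 511 Q511 (allL N511 (tt N1029 (iv1 F2582)) (tt N495 F1616) (tt N827 (iv2 F2211)) (tt N1136 D1583) (tt N233 (iv4 D856)) (tt N1070 (iv5 F2625)) (tt N1137 D1584) (tt N837 (iv7 F2254)))
theorem Q513 : ∀ i, i < 513 → P i := stepQ 512 Q512 (allL N512 (tt N1138 D1585) (tt N1139 D1586) (tt N828 (iv2 F2214)) (tt N1132 (iv3 F2750)) (tt N1137 (iv4 F2760)) (tt N838 (iv5 F2257)) (tt N233 (iv6 D857)) (tt N1140 D1587))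
theorem Q514 : ∀ i, i < 514 → P i := stepQ 513 Q513 (allL N513 (tt N500 (iv1 F1619)) (tt N499 F1621) (tt N503 F1617) (tt N1141 D1588) (tt N234 (iv4 D858)) (tt N1142 D1589) (tt N1143 D1590) (tt N377 F1618))
theorem Q515 : ∀ i, i < 515 → P i := stepQ 514 Q514 (allL N514 (tt N529 (iv1 F1636)) (tt N384 (iv0 F1626)) (tt N504 F1622) (tt N514 F1623) (tt N1143 (iv4 F2769)) (tt N514 F1624) (tt N234 (iv6 D859)) (tt N393 F1625))
theorem Q516 : ∀ i, i < 516 → P i := stepQ 515 Q515 (allL N515 (tt N239 (iv1 F1627)) (tt N235 (iv0 D860)) (tt N829 F2218) (tt N1144 D1591) (tt N560 (iv4 F1690)) (tt N1145 D1592) (tt N1146 D1593) (tt N830 (iv7 F2221)))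
theorem Q517 : ∀ i, i < 517 → P i := stepQ 516 Q516 (allL N516 (tt N235 (iv1 D861)) (tt N239 F1628) (tt N830 F2223) (tt N1147 D1594) (tt N256 F1629) (tt N1148 D1595) (tt N262 (iv6 F1630)) (tt N829 F2219))
theorem Q518 : ∀ i, i < 518 → P i := stepQ 517 Q517 (allL N517 (tt N1149 D1596) (tt N1150 D1597) (tt N1151 D1598) (tt N235 (iv3 D862)) (tt N831 (iv4 F2225)) (tt N1152 D1599) (tt N1153 D1600) (tt N839 (iv7 F2259)))
theorem Q519 : ∀ i, i < 519 → P i := stepQ 518 Q518 (allL N518 (tt N1154 D1601) (tt N567 (iv0 F1709)) (tt N832 (iv2 F2227)) (tt N1152 (iv3 F2778)) (tt N1071 (iv4 F2630)) (tt N235 (iv5 D863)) (tt N1155 D1602) (tt N840 (iv7 F2261)))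
theorem Q520 : ∀ i, i < 520 → P i := stepQ 519 Q519 (allL N519 (tt N1156 D1603) (tt N1157 D1604) (tt N833 (iv2 F2229)) (tt N1153 (iv3 F2779)) (tt N236 F1631) (tt N1158 D1605) (tt N235 (iv6 D864)) (tt N1159 D1606))
theorem Q521 : ∀ i, i < 521 → P i := stepQ 520 Q520 (allL N520 (tt N835 F2243) (tt N236 (iv0 D865)) (tt N611 (iv2 F2877)) (tt N520 F2883) (tt N1160 D1609) (tt N834 F2235) (tt N537 F1645) (tt N834 (iv7 F2793)))
theorem Q522 : ∀ i, i < 522 → P i := stepQ 521 Q521 (allL N521 (tt N236 (iv1 D866)) (tt N835 F2242) (tt N834 (iv2 F2792)) (tt N287 (iv3 F2874)) (tt N1161 D1612) (tt N611 (iv5 F2878)) (tt N521 F2233) (tt N611 (iv7 F2879)))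
theorem Q523 : ∀ i, i < 523 → P i := stepQ 522 Q522 (allL N522 (tt N834 (iv1 F2234)) (tt N611 (iv0 F2875)) (tt N835 (iv2 F2237)) (tt N835 (iv3 F2238)) (tt N1159 (iv4 F2783)) (tt N842 (iv5 F2266)) (tt N842 (iv6 F2267)) (tt N236 (iv7 D867)))
theorem Q524 : ∀ i, i < 524 → P i := stepQ 523 Q523 (allL N523 (tt N1162 D1613) (tt N1028 (iv0 F2583)) (tt N773 (iv2 F2090)) (tt N238 F1632) (tt N1163 D1614) (tt N237 (iv5 D868)) (tt N1164 D1615) (tt N772 (iv7 F2083)))
theorem Q525 : ∀ i, i < 525 → P i := stepQ 524 Q524 (allL N524 (tt N495 F1633) (tt N1029 (iv0 F2581)) (tt N837 (iv2 F2253)) (tt N1165 D1616) (tt N238 (iv4 D869)) (tt N1071 (iv5 F2629)) (tt N1166 D1617) (tt N827 (iv7 F2212)))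
theorem Q526 : ∀ i, i < 526 → P i := stepQ 525 Q525 (allL N525 (tt N1167 D1618) (tt N1168 D1619) (tt N838 (iv2 F2256)) (tt N1164 (iv3 F2800)) (tt N1166 (iv4 F2801)) (tt N828 (iv5 F2215)) (tt N238 (iv6 D870)) (tt N1169 D1620))
theorem Q527 : ∀ i, i < 527 → P i := stepQ 526 Q526 (allL N526 (tt N1170 D1621) (tt N1171 D1622) (tt N1172 D1623) (tt N239 (iv3 D871)) (tt N839 (iv4 F2258)) (tt N1173 D1624) (tt N1174 D1625) (tt N831 (iv7 F2226)))
theorem Q528 : ∀ i, i < 528 → P i := stepQ 527 Q527 (allL N527 (tt N567 (iv1 F1710)) (tt N1154 F2782) (tt N840 (iv2 F2260)) (tt N1173 (iv3 F2802)) (tt N1070 (iv4 F2626)) (tt N239 (iv5 D872)) (tt N1175 D1626) (tt N832 (iv7 F2228)))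
theorem Q529 : ∀ i, i < 529 → P i := stepQ 528 Q528 (allL N528 (tt N1176 D1627) (tt N1177 D1628) (tt N841 (iv2 F2262)) (tt N1174 (iv3 F2803)) (tt N240 F1634) (tt N1178 D1629) (tt N239 (iv6 D873)) (tt N1179 D1630))
theorem Q530 : ∀ i, i < 530 → P i := stepQ 529 Q529 (allL N529 (tt N249 (iv1 F1635)) (tt N514 F1636) (tt N842 (iv2 F2264)) (tt N842 (iv3 F2265)) (tt N1179 (iv4 F2808)) (tt N835 (iv5 F2239)) (tt N835 (iv6 F2240)) (tt N240 (iv7 D874)))
theorem Q531 : ∀ i, i < 531 → P i := stepQ 530 Q530 (allL N530 (tt N242 (iv1 F1637)) (tt N241 (iv0 D875)) (tt N568 (iv2 F1711)) (tt N1180 D1631) (tt N558 (iv4 F1681)) (tt N1154 (iv5 F2780)) (tt N1177 F2804) (tt N557 F1678))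
theorem Q532 : ∀ i, i < 532 → P i := stepQ 531 Q531 (allL N531 (tt N1181 D1632) (tt N1182 D1633) (tt N1183 D1634) (tt N241 (iv3 D876)) (tt N843 (iv4 F2270)) (tt N1184 D1635) (tt N531 F1638) (tt N845 (iv7 F2276)))
theorem Q533 : ∀ i, i < 533 → P i := stepQ 532 Q532 (allL N532 (tt N1185 D1636) (tt N1186 D1637) (tt N844 (iv2 F2273)) (tt N1184 (iv3 F2811)) (tt N1063 (iv4 F2621)) (tt N241 (iv5 D877)) (tt N1187 D1638) (tt N846 (iv7 F2278)))
theorem Q534 : ∀ i, i < 534 → P i := stepQ 533 Q533 (allL N533 (tt N1188 D1639) (tt N1189 D1640) (tt N1190 D1641) (tt N242 (iv3 D878)) (tt N845 (iv4 F2275)) (tt N1191 D1642) (tt N1192 D1643) (tt N843 (iv7 F2272)))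
theorem Q535 : ∀ i, i < 535 → P i := stepQ 534 Q534 (allL N534 (tt N1186 (iv1 F2816)) (tt N1185 F2813) (tt N846 (iv2 F2277)) (tt N1191 (iv3 F2821)) (tt N1060 (iv4 F2619)) (tt N242 (iv5 D879)) (tt N1191 (iv6 F296173)) (tt N844 (iv7 F2274)))
theorem Q536 : ∀ i, i < 536 → P i := stepQ 535 Q535 (allL N535 (tt N1193 D1645) (tt N1194 D1646) (tt N847 (iv2 F2279)) (tt N1192 (iv3 F2822)) (tt N243 F1639) (tt N1192 (iv5 F295892)) (tt N242 (iv6 D880)) (tt N535 F1640))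
theorem Q537 : ∀ i, i < 537 → P i := stepQ 536 Q536 (allL N536 (tt N387 (iv1 F1641)) (tt N243 (iv0 D881)) (tt N537 (iv2 F2788)) (tt N298 (iv3 F2881)) (tt N1195 D1649) (tt N536 F1642) (tt N611 F2880) (tt N536 F2789))
theorem Q538 : ∀ i, i < 538 → P i := stepQ 537 Q537 (allL N537 (tt N243 (iv1 D882)) (tt N387 F1643) (tt N536 F2788) (tt N537 F2882) (tt N1196 D1651) (tt N537 F1644) (tt N520 (iv6 F1645)) (tt N537 F2787))
theorem Q539 : ∀ i, i < 539 → P i := stepQ 538 Q538 (allL N538 (tt N1197 D1652) (tt N1198 D1653) (tt N1199 D1654) (tt N244 (iv3 D883)) (tt N299 F1646) (tt N1200 D1655) (tt N538 F1647) (tt N643 (iv7 F1871)))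
theorem Q540 : ∀ i, i < 540 → P i := stepQ 539 Q539 (allL N539 (tt N824 (iv1 F2200)) (tt N1122 F2726) (tt N849 (iv2 F2285)) (tt N1200 (iv3 F2838)) (tt N1054 (iv4 F2615)) (tt N244 (iv5 D884)) (tt N1201 D1656) (tt N850 (iv7 F2289)))
theorem Q541 : ∀ i, i < 541 → P i := stepQ 540 Q540 (allL N540 (tt N1202 D1657) (tt N1203 D1658) (tt N1204 D1659) (tt N245 (iv3 D885)) (tt N540 F1653) (tt N1205 D1660) (tt N1206 D1661) (tt N848 (iv7 F2284)))
theorem Q542 : ∀ i, i < 542 → P i := stepQ 541 Q541 (allL N541 (tt N251 (iv1 F1654)) (tt N263 F1651) (tt N261 F1648) (tt N541 F1652) (tt N245 (iv4 D886)) (tt N255 F1650) (tt N1207 D1662) (tt N260 F1649))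
theorem Q543 : ∀ i, i < 543 → P i := stepQ 542 Q542 (allL N542 (tt N1122 (iv1 F2727)) (tt N824 (iv0 F2199)) (tt N850 (iv2 F2288)) (tt N1205 (iv3 F2841)) (tt N1050 (iv4 F2610)) (tt N245 (iv5 D887)) (tt N1208 D1663) (tt N849 (iv7 F2286)))
theorem Q544 : ∀ i, i < 544 → P i := stepQ 543 Q543 (allL N543 (tt N1195 (iv1 F3092)) (tt N1196 (iv0 F3100)) (tt N851 (iv2 F2291)) (tt N1206 (iv3 F2842)) (tt N1207 (iv4 F2847)) (tt N1209 D1666) (tt N245 (iv6 D888)) (tt N543 F1655))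
theorem Q545 : ∀ i, i < 545 → P i := stepQ 544 Q544 (allL N544 (tt N1210 D1667) (tt N246 (iv0 D889)) (tt N1211 D1668) (tt N1212 D1669) (tt N1213 D1670) (tt N1214 D1671) (tt N544 F7172) (tt N1215 D1673))
theorem Q546 : ∀ i, i < 546 → P i := stepQ 545 Q545 (allL N545 (tt N246 (iv1 D890)) (tt N1210 F2856) (tt N1215 (iv2 F2858)) (tt N1216 D1674) (tt N1217 D1675) (tt N1218 D1676) (tt N1219 D1677) (tt N1211 F2857))
theorem Q547 : ∀ i, i < 547 → P i := stepQ 546 Q546 (allL N546 (tt N1211 F6429) (tt N1215 (iv0 F6432)) (tt N246 (iv2 D891)) (tt N854 (iv3 F2294)) (tt N306 F1656) (tt N1220 D1680) (tt N1117 (iv6 F2719)) (tt N1210 (iv7 F2855)))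
theorem Q548 : ∀ i, i < 548 → P i := stepQ 547 Q547 (allL N547 (tt N1221 D1681) (tt N1222 D1682) (tt N1220 (iv2 F2861)) (tt N247 F1657) (tt N1223 D1683) (tt N246 (iv5 D892)) (tt N1224 D1684) (tt N1225 D1685))
theorem Q549 : ∀ i, i < 549 → P i := stepQ 548 Q548 (allL N548 (tt N1215 (iv1 F6433)) (tt N1211 F6428) (tt N1210 F2853) (tt N248 F1658) (tt N308 F1659) (tt N1225 (iv5 F2864)) (tt N1226 D1686) (tt N246 (iv7 D893)))
theorem Q550 : ∀ i, i < 550 → P i := stepQ 549 Q549 (allL N549 (tt N861 (iv1 F2315)) (tt N247 (iv0 D894)) (tt N857 F2300) (tt N1227 D1687) (tt N1045 (iv4 F2606)) (tt N499 F1660) (tt N1228 D1688) (tt N858 (iv7 F2304)))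
theorem Q551 : ∀ i, i < 551 → P i := stepQ 550 Q550 (allL N550 (tt N247 (iv1 D895)) (tt N861 F2314) (tt N858 F2306) (tt N1229 D1689) (tt N1034 (iv4 F2590)) (tt N500 F1661) (tt N1230 D1690) (tt N857 F2301))
theorem Q552 : ∀ i, i < 552 → P i := stepQ 551 Q551 (allL N551 (tt N1071 (iv1 F2628)) (tt N1070 F2627) (tt N859 (iv2 F2307)) (tt N1231 D1691) (tt N247 (iv4 D896)) (tt N810 (iv5 F2160)) (tt N1232 D1692) (tt N809 F2157))
theorem Q553 : ∀ i, i < 553 → P i := stepQ 552 Q552 (allL N552 (tt N1233 D1693) (tt N1234 D1694) (tt N860 (iv2 F2310)) (tt N1224 (iv3 F2862)) (tt N1232 (iv4 F2869)) (tt N1121 (iv5 F2724)) (tt N247 (iv6 D897)) (tt N1235 D1695))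
theorem Q554 : ∀ i, i < 554 → P i := stepQ 553 Q553 (allL N553 (tt N858 (iv1 F2303)) (tt N857 F2302) (tt N861 (iv2 F2311)) (tt N1225 (iv3 F2863)) (tt N809 (iv4 F2156)) (tt N248 F1662) (tt N1236 D1696) (tt N247 (iv7 D898)))
theorem Q555 : ∀ i, i < 555 → P i := stepQ 554 Q554 (allL N554 (tt N1237 D1697) (tt N1238 D1698) (tt N862 (iv2 F2316)) (tt N1226 (iv3 F2865)) (tt N249 F1663) (tt N1239 D1699) (tt N248 (iv6 D899)) (tt N1123 (iv7 F2729)))
theorem Q556 : ∀ i, i < 556 → P i := stepQ 555 Q555 (allL N555 (tt N267 F1667) (tt N464 (iv0 F1668)) (tt N256 F1664) (tt N555 F1665) (tt N830 (iv4 F2222)) (tt N250 (iv5 D900)) (tt N251 F1666) (tt N560 (iv7 F1693)))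
theorem Q557 : ∀ i, i < 557 → P i := stepQ 556 Q556 (allL N556 (tt N254 (iv1 F1673)) (tt N255 F1674) (tt N257 F1669) (tt N556 F1670) (tt N484 F1671) (tt N560 (iv5 F1689)) (tt N556 F1672) (tt N250 (iv7 D901)))
theorem Q558 : ∀ i, i < 558 → P i := stepQ 557 Q557 (allL N557 (tt N385 F1676) (tt N386 F1677) (tt N262 F1675) (tt N1240 D1700) (tt N251 (iv4 D902)) (tt N1241 D1701) (tt N830 F2224) (tt N530 (iv7 F1678)))
theorem Q559 : ∀ i, i < 559 → P i := stepQ 558 Q558 (allL N558 (tt N261 (iv1 F1683)) (tt N260 F1684) (tt N263 F1679) (tt N558 F1680) (tt N530 F1681) (tt N252 F1682) (tt N1242 D1702) (tt N251 (iv7 D903)))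
theorem Q560 : ∀ i, i < 560 → P i := stepQ 559 Q559 (allL N559 (tt N464 (iv1 F1687)) (tt N267 F1688) (tt N560 F1691) (tt N266 F1685) (tt N829 (iv4 F2216)) (tt N257 F1686) (tt N1243 D1703) (tt N256 (iv7 D904)))
theorem Q561 : ∀ i, i < 561 → P i := stepQ 560 Q560 (allL N560 (tt N259 (iv1 F1692)) (tt N258 (iv0 D905)) (tt N559 (iv2 F1691)) (tt N560 F1694) (tt N515 F1690) (tt N556 F1689) (tt N1244 D1704) (tt N555 F1693))
theorem Q562 : ∀ i, i < 562 → P i := stepQ 561 Q561 (allL N561 (tt N503 F1697) (tt N377 F1698) (tt N499 F1695) (tt N1245 D1705) (tt N258 (iv4 D906)) (tt N857 (iv5 F2299)) (tt N1246 D1706) (tt N500 F1696))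
theorem Q563 : ∀ i, i < 563 → P i := stepQ 562 Q562 (allL N562 (tt N1247 D1707) (tt N1248 D1708) (tt N573 (iv2 F1725)) (tt N562 F1699) (tt N1246 (iv4 F2914)) (tt N1043 (iv5 F2604)) (tt N258 (iv6 D907)) (tt N1249 D1709))
theorem Q564 : ∀ i, i < 564 → P i := stepQ 563 Q563 (allL N563 (tt N377 F1702) (tt N503 F1703) (tt N500 F1700) (tt N1250 D1710) (tt N259 (iv4 D908)) (tt N858 (iv5 F2305)) (tt N1237 (iv6 F2871)) (tt N499 F1701))
theorem Q565 : ∀ i, i < 565 → P i := stepQ 564 Q564 (allL N564 (tt N1243 F2903) (tt N1242 (iv0 F2898)) (tt N1043 (iv2 F2602)) (tt N271 F1704) (tt N1237 (iv4 F2870)) (tt N573 (iv5 F1727)) (tt N259 (iv6 D909)) (tt N1251 D1711))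
theorem Q566 : ∀ i, i < 566 → P i := stepQ 565 Q565 (allL N565 (tt N1252 D1712) (tt N1253 D1713) (tt N1207 (iv2 F2845)) (tt N273 F1705) (tt N851 (iv4 F2292)) (tt N565 F1706) (tt N261 (iv6 D910)) (tt N565 F1707))
theorem Q567 : ∀ i, i < 567 → P i := stepQ 566 Q566 (allL N566 (tt N1254 D1714) (tt N1255 D1715) (tt N1256 D1716) (tt N262 (iv3 D911)) (tt N274 F1708) (tt N1257 D1717) (tt N1147 (iv6 F2775)) (tt N1258 D1718))
theorem Q568 : ∀ i, i < 568 → P i := stepQ 567 Q567 (allL N567 (tt N518 F1709) (tt N527 F1710) (tt N1241 (iv2 F2890)) (tt N1257 (iv3 F2928)) (tt N1259 D1719) (tt N262 (iv5 D912)) (tt N1260 D1720) (tt N1261 D1721))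
theorem Q569 : ∀ i, i < 569 → P i := stepQ 568 Q568 (allL N568 (tt N386 (iv1 F1713)) (tt N385 F1714) (tt N530 F1711) (tt N1258 (iv3 F2929)) (tt N263 F1712) (tt N1261 (iv5 F2933)) (tt N1262 D1722) (tt N262 (iv7 D913)))
theorem Q570 : ∀ i, i < 570 → P i := stepQ 569 Q569 (allL N569 (tt N1043 F2605) (tt N1251 F2919) (tt N1242 (iv2 F2894)) (tt N277 F1715) (tt N1262 (iv4 F2937)) (tt N569 F1716) (tt N263 (iv6 D914)) (tt N1243 (iv7 F2902)))
theorem Q571 : ∀ i, i < 571 → P i := stepQ 570 Q570 (allL N570 (tt N1263 D1723) (tt N1264 D1724) (tt N1265 D1725) (tt N265 (iv3 D915)) (tt N1147 (iv4 F2774)) (tt N1266 D1726) (tt N274 F1717) (tt N599 (iv7 F1774)))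
theorem Q572 : ∀ i, i < 572 → P i := stepQ 571 Q571 (allL N571 (tt N296 F1719) (tt N294 F1720) (tt N571 F1718) (tt N1266 (iv3 F2943)) (tt N597 (iv4 F1766)) (tt N265 (iv5 D916)) (tt N1267 D1727) (tt N595 F1762))
theorem Q573 : ∀ i, i < 573 → P i := stepQ 572 Q572 (allL N572 (tt N581 (iv1 F1742)) (tt N271 (iv0 F1724)) (tt N572 F1721) (tt N1243 (iv3 F2899)) (tt N600 (iv4 F1776)) (tt N572 F1722) (tt N266 (iv6 D917)) (tt N277 F1723))
theorem Q574 : ∀ i, i < 574 → P i := stepQ 573 Q573 (allL N573 (tt N1268 D1728) (tt N1269 D1729) (tt N562 F1725) (tt N269 F1726) (tt N1112 (iv4 F2714)) (tt N564 F1727) (tt N267 (iv6 D918)) (tt N1270 D1730))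
theorem Q575 : ∀ i, i < 575 → P i := stepQ 574 Q574 (allL N574 (tt N1271 D1731) (tt N1272 D1732) (tt N1273 D1733) (tt N268 (iv3 D919)) (tt N1111 (iv4 F2713)) (tt N664 (iv5 F1895)) (tt N1274 D1734) (tt N579 (iv7 F1735)))
theorem Q576 : ∀ i, i < 576 → P i := stepQ 575 Q575 (allL N575 (tt N612 (iv1 F1810)) (tt N613 (iv0 F1809)) (tt N575 F1728) (tt N1274 (iv3 F2965)) (tt N269 F1729) (tt N1275 D1735) (tt N268 (iv6 D920)) (tt N1276 D1736))
theorem Q577 : ∀ i, i < 577 → P i := stepQ 576 Q576 (allL N576 (tt N578 (iv1 F1733)) (tt N269 (iv0 D921)) (tt N576 F2980) (tt N1268 (iv3 F2946)) (tt N607 (iv4 F1792)) (tt N577 F1730) (tt N582 (iv6 F1744)) (tt N577 (iv7 F2982)))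
theorem Q578 : ∀ i, i < 578 → P i := stepQ 577 Q577 (allL N577 (tt N269 (iv1 D922)) (tt N578 F1734) (tt N577 F2981) (tt N1248 (iv3 F2949)) (tt N608 (iv4 F1785)) (tt N576 (iv5 F1730)) (tt N577 F1731) (tt N576 F2982))
theorem Q579 : ∀ i, i < 579 → P i := stepQ 578 Q578 (allL N578 (tt N577 (iv1 F1734)) (tt N576 F1733) (tt N578 F1732) (tt N1270 (iv3 F2956)) (tt N1276 (iv4 F2969)) (tt N581 (iv5 F1740)) (tt N581 (iv6 F1741)) (tt N269 (iv7 D923)))
theorem Q580 : ∀ i, i < 580 → P i := stepQ 579 Q579 (allL N579 (tt N1277 D1739) (tt N1278 D1740) (tt N1279 D1741) (tt N270 (iv3 D924)) (tt N1250 (iv4 F2916)) (tt N666 (iv5 F1897)) (tt N1280 D1742) (tt N574 F1735))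
theorem Q581 : ∀ i, i < 581 → P i := stepQ 580 Q580 (allL N580 (tt N598 F1773) (tt N314 (iv0 F1738)) (tt N580 F1736) (tt N1280 (iv3 F3002)) (tt N271 F1737) (tt N1281 D1743) (tt N270 (iv6 D925)) (tt N674 (iv7 F1911)))
theorem Q582 : ∀ i, i < 582 → P i := stepQ 581 Q581 (allL N581 (tt N277 (iv1 F1743)) (tt N572 F1742) (tt N581 F1739) (tt N1251 (iv3 F2918)) (tt N674 F1913) (tt N578 F1740) (tt N578 F1741) (tt N271 (iv7 D926)))
theorem Q583 : ∀ i, i < 583 → P i := stepQ 582 Q582 (allL N582 (tt N273 F1746) (tt N273 (iv0 D927)) (tt N582 F2979) (tt N1252 (iv3 F2951)) (tt N633 (iv4 F3088)) (tt N582 F1745) (tt N576 F1744) (tt N582 F2977))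
theorem Q584 : ∀ i, i < 584 → P i := stepQ 583 Q583 (allL N583 (tt N1282 D1745) (tt N274 (iv0 D928)) (tt N1283 D1746) (tt N1284 D1747) (tt N1285 D1748) (tt N1286 D1749) (tt N583 F7176) (tt N1287 D1751))
theorem Q585 : ∀ i, i < 585 → P i := stepQ 584 Q584 (allL N584 (tt N274 (iv1 D929)) (tt N1282 F3010) (tt N1287 (iv2 F3013)) (tt N1288 D1752) (tt N1289 D1753) (tt N1290 D1754) (tt N1291 D1755) (tt N1283 F3011))
theorem Q586 : ∀ i, i < 586 → P i := stepQ 585 Q585 (allL N585 (tt N1283 F6412) (tt N1287 (iv0 F6416)) (tt N274 (iv2 D930)) (tt N585 F1747) (tt N1256 (iv4 F2927)) (tt N1292 D1758) (tt N1265 (iv6 F2942)) (tt N1282 (iv7 F3009)))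
theorem Q587 : ∀ i, i < 587 → P i := stepQ 586 Q586 (allL N586 (tt N1293 D1759) (tt N1294 D1760) (tt N1292 (iv2 F3017)) (tt N275 F1748) (tt N1295 D1761) (tt N274 (iv5 D931)) (tt N1296 D1762) (tt N668 (iv7 F1902)))
theorem Q588 : ∀ i, i < 588 → P i := stepQ 587 Q587 (allL N587 (tt N1287 (iv1 F6417)) (tt N1283 F6411) (tt N1282 F3007) (tt N276 F1749) (tt N1258 (iv4 F2930)) (tt N668 (iv5 F1901)) (tt N1297 D1763) (tt N274 (iv7 D932)))
theorem Q589 : ∀ i, i < 589 → P i := stepQ 588 Q588 (allL N588 (tt N1298 D1764) (tt N1299 D1765) (tt N588 F1750) (tt N1296 (iv3 F3019)) (tt N673 (iv4 F1909)) (tt N1267 (iv5 F2945)) (tt N275 (iv6 D933)) (tt N1300 D1766))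
theorem Q590 : ∀ i, i < 590 → P i := stepQ 589 Q589 (allL N589 (tt N291 F1753) (tt N621 F1829) (tt N589 F1751) (tt N1297 (iv3 F3020)) (tt N277 F1752) (tt N1301 D1767) (tt N276 (iv6 D934)) (tt N600 (iv7 F1777)))
theorem Q591 : ∀ i, i < 591 → P i := stepQ 590 Q590 (allL N590 (tt N1302 D1768) (tt N278 (iv0 D935)) (tt N1303 D1769) (tt N1304 D1770) (tt N1305 D1771) (tt N658 F7097) (tt N1306 D1773) (tt N1307 D1774))
theorem Q592 : ∀ i, i < 592 → P i := stepQ 591 Q591 (allL N591 (tt N278 (iv1 D936)) (tt N1302 F3029) (tt N1307 (iv2 F3031)) (tt N1308 D1775) (tt N1309 D1776) (tt N659 F7108) (tt N1310 D1778) (tt N1303 F3030))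
theorem Q593 : ∀ i, i < 593 → P i := stepQ 592 Q592 (allL N592 (tt N1303 F6289) (tt N1307 (iv0 F6293)) (tt N278 (iv2 D937)) (tt N592 F1754) (tt N1117 (iv4 F2718)) (tt N1311 D1781) (tt N306 F1755) (tt N1302 (iv7 F3028)))
theorem Q594 : ∀ i, i < 594 → P i := stepQ 593 Q593 (allL N593 (tt N1312 D1782) (tt N1313 D1783) (tt N1311 (iv2 F3034)) (tt N279 F1756) (tt N1314 D1784) (tt N278 (iv5 D938)) (tt N1315 D1785) (tt N1316 D1786))
theorem Q595 : ∀ i, i < 595 → P i := stepQ 594 Q594 (allL N594 (tt N1307 (iv1 F6294)) (tt N1303 F6288) (tt N1302 F3026) (tt N280 F1757) (tt N1119 (iv4 F2722)) (tt N1316 (iv5 F3039)) (tt N1317 D1787) (tt N278 (iv7 D939)))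
theorem Q596 : ∀ i, i < 596 → P i := stepQ 595 Q595 (allL N595 (tt N294 F1760) (tt N296 F1761) (tt N595 F1758) (tt N1318 D1788) (tt N279 (iv4 D940)) (tt N282 F1759) (tt N1319 D1789) (tt N571 (iv7 F1762)))
theorem Q597 : ∀ i, i < 597 → P i := stepQ 596 Q596 (allL N596 (tt N1320 D1790) (tt N1321 D1791) (tt N596 F1763) (tt N1315 (iv3 F3036)) (tt N1319 (iv4 F3045)) (tt N312 F1764) (tt N279 (iv6 D941)) (tt N1322 D1792))
theorem Q598 : ∀ i, i < 598 → P i := stepQ 597 Q597 (allL N597 (tt N300 (iv1 F1769)) (tt N302 F1768) (tt N597 F1765) (tt N1316 (iv3 F3038)) (tt N571 F1766) (tt N280 F1767) (tt N1323 D1793) (tt N279 (iv7 D942)))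
theorem Q599 : ∀ i, i < 599 → P i := stepQ 598 Q598 (allL N598 (tt N674 (iv1 F1910)) (tt N580 (iv0 F1773)) (tt N598 F1770) (tt N1317 (iv3 F3040)) (tt N281 F1771) (tt N1324 D1794) (tt N280 (iv6 D943)) (tt N314 F1772))
theorem Q600 : ∀ i, i < 600 → P i := stepQ 599 Q599 (allL N599 (tt N1325 D1795) (tt N1326 D1796) (tt N1327 D1797) (tt N282 (iv3 D944)) (tt N1328 D1798) (tt N1318 (iv5 F3042)) (tt N1329 D1799) (tt N570 F1774))
theorem Q601 : ∀ i, i < 601 → P i := stepQ 600 Q600 (allL N600 (tt N621 (iv1 F1828)) (tt N291 (iv0 F1778)) (tt N600 F1775) (tt N1329 (iv3 F3063)) (tt N572 F1776) (tt N1330 D1800) (tt N282 (iv6 D945)) (tt N589 F1777))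
theorem Q602 : ∀ i, i < 602 → P i := stepQ 601 Q601 (allL N601 (tt N616 (iv1 F1815)) (tt N283 (iv0 D946)) (tt N615 F12109) (tt N1331 D1802) (tt N1332 D1803) (tt N1333 D1804) (tt N1334 D1805) (tt N614 (iv7 F12112)))
theorem Q603 : ∀ i, i < 603 → P i := stepQ 602 Q602 (allL N602 (tt N283 (iv1 D947)) (tt N616 F1817) (tt N614 (iv2 F12111)) (tt N1335 D1807) (tt N1336 D1808) (tt N1337 D1809) (tt N623 (iv6 F16749)) (tt N615 F12110))
theorem Q604 : ∀ i, i < 604 → P i := stepQ 603 Q603 (allL N603 (tt N615 (iv1 F1816)) (tt N614 F1811) (tt N283 (iv2 D948)) (tt N603 F1779) (tt N603 F1780) (tt N1338 D1811) (tt N1339 D1812) (tt N616 (iv7 F1814)))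
theorem Q605 : ∀ i, i < 605 → P i := stepQ 604 Q604 (allL N604 (tt N1340 D1813) (tt N1341 D1814) (tt N1338 (iv2 F3071)) (tt N284 F1781) (tt N1342 D1815) (tt N283 (iv5 D949)) (tt N1343 D1816) (tt N617 (iv7 F1819)))
theorem Q606 : ∀ i, i < 606 → P i := stepQ 605 Q605 (allL N605 (tt N1344 D1817) (tt N1345 D1818) (tt N1339 (iv2 F3073)) (tt N285 F1782) (tt N605 F1783) (tt N1346 D1819) (tt N283 (iv6 D950)) (tt N1347 D1820))
theorem Q607 : ∀ i, i < 607 → P i := stepQ 606 Q606 (allL N606 (tt N1348 D1821) (tt N1349 D1822) (tt N606 F1784) (tt N1343 (iv3 F3076)) (tt N619 (iv4 F1823)) (tt N1350 D1823) (tt N284 (iv6 D951)) (tt N1351 D1824))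
theorem Q608 : ∀ i, i < 608 → P i := stepQ 607 Q607 (allL N607 (tt N610 (iv1 F1790)) (tt N285 (iv0 D952)) (tt N607 F2986) (tt N1352 D1825) (tt N576 F1792) (tt N646 F293742) (tt N633 (iv6 F3089)) (tt N608 F2984))
theorem Q609 : ∀ i, i < 609 → P i := stepQ 608 Q608 (allL N608 (tt N285 (iv1 D953)) (tt N610 F1791) (tt N608 F2985) (tt N1353 D1827) (tt N577 F1785) (tt N1354 D1828) (tt N608 F1786) (tt N607 (iv7 F2984)))
theorem Q610 : ∀ i, i < 610 → P i := stepQ 609 Q609 (allL N609 (tt N1330 (iv1 F3067)) (tt N1301 (iv0 F3025)) (tt N609 F1787) (tt N1346 (iv3 F3077)) (tt N1355 D1829) (tt N285 (iv5 D954)) (tt N1350 (iv6 F3081)) (tt N1356 D1830))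
theorem Q611 : ∀ i, i < 611 → P i := stepQ 610 Q610 (allL N610 (tt N608 (iv1 F1791)) (tt N607 F1790) (tt N610 F1788) (tt N1347 (iv3 F3078)) (tt N288 F1789) (tt N1356 (iv5 F3110)) (tt N621 (iv6 F1827)) (tt N285 (iv7 D955)))
theorem Q612 : ∀ i, i < 612 → P i := stepQ 611 Q611 (allL N611 (tt N522 F2875) (tt N380 F2876) (tt N520 F2877) (tt N286 (iv3 D957)) (tt N1357 D1831) (tt N521 F2878) (tt N536 (iv6 F2880)) (tt N521 F2879))
theorem Q613 : ∀ i, i < 613 → P i := stepQ 612 Q612 (allL N612 (tt N1276 (iv1 F2971)) (tt N575 F1810) (tt N612 F1802) (tt N1358 D1832) (tt N286 (iv4 D958)) (tt N632 F292754) (tt N634 (iv6 F293751)) (tt N613 (iv7 F1808)))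
theorem Q614 : ∀ i, i < 614 → P i := stepQ 613 Q613 (allL N613 (tt N575 F1809) (tt N1276 F2972) (tt N613 F1806) (tt N1359 D1834) (tt N287 (iv4 D961)) (tt N1360 D1835) (tt N613 F1807) (tt N612 F1808))
theorem Q615 : ∀ i, i < 615 → P i := stepQ 614 Q614 (allL N614 (tt N603 (iv1 F1811)) (tt N289 (iv0 D962)) (tt N602 F12111) (tt N1361 D1837) (tt N1362 D1838) (tt N1363 D1839) (tt N627 (iv6 F16756)) (tt N601 F12112))
theorem Q616 : ∀ i, i < 616 → P i := stepQ 615 Q615 (allL N615 (tt N289 (iv1 D963)) (tt N603 F1816) (tt N601 (iv2 F12109)) (tt N1364 D1842) (tt N1365 D1843) (tt N1366 D1844) (tt N1367 D1845) (tt N602 (iv7 F12110)))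
theorem Q617 : ∀ i, i < 617 → P i := stepQ 616 Q616 (allL N616 (tt N602 (iv1 F1817)) (tt N601 F1815) (tt N289 (iv2 D964)) (tt N616 F1812) (tt N616 F1813) (tt N1368 D1846) (tt N1369 D1847) (tt N603 F1814))
theorem Q618 : ∀ i, i < 618 → P i := stepQ 617 Q617 (allL N617 (tt N1370 D1848) (tt N1371 D1849) (tt N1368 (iv2 F3128)) (tt N290 F1818) (tt N1372 D1850) (tt N289 (iv5 D965)) (tt N1373 D1851) (tt N604 F1819))
theorem Q619 : ∀ i, i < 619 → P i := stepQ 618 Q618 (allL N618 (tt N1334 F7074) (tt N1374 D1853) (tt N1369 (iv2 F3133)) (tt N291 F1820) (tt N618 F1821) (tt N1375 D1854) (tt N289 (iv6 D966)) (tt N1376 D1855))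
theorem Q620 : ∀ i, i < 620 → P i := stepQ 619 Q619 (allL N619 (tt N1377 D1856) (tt N1378 D1857) (tt N619 F1822) (tt N1373 (iv3 F3140)) (tt N606 F1823) (tt N1379 D1858) (tt N290 (iv6 D967)) (tt N1380 D1859))
theorem Q621 : ∀ i, i < 621 → P i := stepQ 620 Q620 (allL N620 (tt N1354 (iv1 F3107)) (tt N646 (iv0 F293704)) (tt N620 F1824) (tt N1375 (iv3 F3141)) (tt N1381 D1860) (tt N291 (iv5 D968)) (tt N1379 (iv6 F3146)) (tt N1382 D1861))
theorem Q622 : ∀ i, i < 622 → P i := stepQ 621 Q621 (allL N621 (tt N589 (iv1 F1829)) (tt N600 F1828) (tt N621 F1825) (tt N1376 (iv3 F3142)) (tt N292 F1826) (tt N1382 (iv5 F3154)) (tt N610 F1827) (tt N291 (iv7 D969)))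
theorem Q623 : ∀ i, i < 623 → P i := stepQ 622 Q622 (allL N622 (tt N629 (iv1 F1840)) (tt N293 (iv0 D970)) (tt N628 (iv2 F6390)) (tt N1383 D1863) (tt N1384 D1864) (tt N1340 F7259) (tt N1385 D1866) (tt N627 F6389))
theorem Q624 : ∀ i, i < 624 → P i := stepQ 623 Q623 (allL N623 (tt N293 (iv1 D971)) (tt N629 F1842) (tt N627 F6386) (tt N1386 D1868) (tt N1387 D1869) (tt N1341 (iv5 F7245)) (tt N602 F16749) (tt N628 (iv7 F6391)))
theorem Q625 : ∀ i, i < 625 → P i := stepQ 624 Q624 (allL N624 (tt N628 (iv1 F1841)) (tt N627 F1836) (tt N293 (iv2 D972)) (tt N624 F1830) (tt N624 F1831) (tt N1388 D1872) (tt N624 F1832) (tt N629 (iv7 F1839)))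
theorem Q626 : ∀ i, i < 626 → P i := stepQ 625 Q625 (allL N625 (tt N1363 (iv1 F7280)) (tt N1366 (iv0 F7281)) (tt N1388 (iv2 F3160)) (tt N294 F1833) (tt N1389 D1875) (tt N293 (iv5 D973)) (tt N1390 D1876) (tt N630 (iv7 F1844)))
theorem Q627 : ∀ i, i < 627 → P i := stepQ 626 Q626 (allL N626 (tt N1381 F292985) (tt N1391 D1878) (tt N626 F1834) (tt N1390 (iv3 F3162)) (tt N632 (iv4 F1849)) (tt N626 F1835) (tt N294 (iv6 D974)) (tt N1392 D1879))
theorem Q628 : ∀ i, i < 628 → P i := stepQ 627 Q627 (allL N627 (tt N624 (iv1 F1836)) (tt N295 (iv0 D975)) (tt N623 (iv2 F6386)) (tt N1393 D1881) (tt N1394 D1882) (tt N1370 F7056) (tt N614 F16756) (tt N622 (iv7 F6389)))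
theorem Q629 : ∀ i, i < 629 → P i := stepQ 628 Q628 (allL N628 (tt N295 (iv1 D976)) (tt N624 F1841) (tt N622 F6390) (tt N1395 D1886) (tt N1396 D1887) (tt N1371 F7064) (tt N1374 (iv6 F16784)) (tt N623 F6391))
theorem Q630 : ∀ i, i < 630 → P i := stepQ 629 Q629 (allL N629 (tt N623 (iv1 F1842)) (tt N622 F1840) (tt N295 (iv2 D977)) (tt N629 F1837) (tt N629 F1838) (tt N1397 D1890) (tt N1398 D1891) (tt N624 F1839))
theorem Q631 : ∀ i, i < 631 → P i := stepQ 630 Q630 (allL N630 (tt N1333 (iv1 F6922)) (tt N1337 F6917) (tt N1397 (iv2 F3172)) (tt N296 F1843) (tt N1399 D1894) (tt N295 (iv5 D978)) (tt N1400 D1895) (tt N625 F1844))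
theorem Q632 : ∀ i, i < 632 → P i := stepQ 631 Q631 (allL N631 (tt N1401 D1896) (tt N1402 D1897) (tt N1398 (iv2 F3177)) (tt N297 F1845) (tt N631 F1846) (tt N1403 D1898) (tt N295 (iv6 D979)) (tt N631 F1847))
theorem Q633 : ∀ i, i < 633 → P i := stepQ 632 Q632 (allL N632 (tt N1281 (iv1 F292760)) (tt N1404 D1900) (tt N632 F1848) (tt N1400 (iv3 F3185)) (tt N626 F1849) (tt N612 (iv5 F292754)) (tt N296 (iv6 D980)) (tt N1360 (iv7 F292723)))
theorem Q634 : ∀ i, i < 634 → P i := stepQ 633 Q633 (allL N633 (tt N297 (iv1 F1850)) (tt N297 (iv0 D981)) (tt N633 F3087) (tt N1405 D1903) (tt N582 F3088) (tt N303 F294298) (tt N607 F3089) (tt N633 F3090))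
theorem Q635 : ∀ i, i < 635 → P i := stepQ 634 Q634 (allL N634 (tt N303 F293749) (tt N303 F293750) (tt N634 F1851) (tt N1403 (iv3 F3188)) (tt N298 (iv4 F294674)) (tt N297 (iv5 D982)) (tt N612 F293751) (tt N634 F1852))
theorem Q636 : ∀ i, i < 636 → P i := stepQ 635 Q635 (allL N635 (tt N642 (iv1 F1867)) (tt N299 (iv0 D985)) (tt N641 (iv2 F6399)) (tt N1396 F3171) (tt N1406 D1909) (tt N1407 D1910) (tt N1408 D1911) (tt N640 (iv7 F6400)))
theorem Q637 : ∀ i, i < 637 → P i := stepQ 636 Q636 (allL N636 (tt N299 (iv1 D986)) (tt N642 F1869) (tt N640 F6401) (tt N1409 D1913) (tt N1410 D1914) (tt N1411 D1915) (tt N1272 F16754) (tt N641 F6402))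
theorem Q638 : ∀ i, i < 638 → P i := stepQ 637 Q637 (allL N637 (tt N641 (iv1 F1868)) (tt N640 F1864) (tt N299 (iv2 D987)) (tt N637 F1859) (tt N1199 (iv4 F2836)) (tt N1412 D1917) (tt N637 F1860) (tt N642 (iv7 F1866)))
theorem Q639 : ∀ i, i < 639 → P i := stepQ 638 Q638 (allL N638 (tt N1413 D1918) (tt N1414 D1919) (tt N1412 (iv2 F3215)) (tt N300 F1861) (tt N1415 D1920) (tt N299 (iv5 D988)) (tt N1416 D1921) (tt N644 (iv7 F1873)))
theorem Q640 : ∀ i, i < 640 → P i := stepQ 639 Q639 (allL N639 (tt N1417 D1922) (tt N1418 D1923) (tt N639 F1862) (tt N1416 (iv3 F3217)) (tt N646 (iv4 F1877)) (tt N639 F1863) (tt N300 (iv6 D989)) (tt N1419 D1924))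
theorem Q641 : ∀ i, i < 641 → P i := stepQ 640 Q640 (allL N640 (tt N637 (iv1 F1864)) (tt N301 (iv0 D990)) (tt N636 (iv2 F6401)) (tt N1387 F3159) (tt N1420 D1926) (tt N1421 D1927) (tt N1277 F16745) (tt N635 F6400))
theorem Q642 : ∀ i, i < 642 → P i := stepQ 641 Q641 (allL N641 (tt N301 (iv1 D991)) (tt N637 F1868) (tt N635 F6399) (tt N1422 D1930) (tt N1423 D1931) (tt N1424 D1932) (tt N1425 D1933) (tt N636 (iv7 F6402)))
theorem Q643 : ∀ i, i < 643 → P i := stepQ 642 Q642 (allL N642 (tt N636 (iv1 F1869)) (tt N635 F1867) (tt N301 (iv2 D992)) (tt N642 F1865) (tt N1426 D1934) (tt N1427 D1935) (tt N1428 D1936) (tt N637 F1866))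
theorem Q644 : ∀ i, i < 644 → P i := stepQ 643 Q643 (allL N643 (tt N1429 D1937) (tt N1430 D1938) (tt N1426 (iv2 F3225)) (tt N389 F1870) (tt N301 (iv4 D993)) (tt N1431 D1939) (tt N1432 D1940) (tt N538 F1871))
theorem Q645 : ∀ i, i < 645 → P i := stepQ 644 Q644 (allL N644 (tt N1433 D1941) (tt N1434 D1942) (tt N1427 (iv2 F3230)) (tt N302 F1872) (tt N1435 D1943) (tt N301 (iv5 D994)) (tt N1436 D1944) (tt N638 F1873))
theorem Q646 : ∀ i, i < 646 → P i := stepQ 645 Q645 (allL N645 (tt N1437 D1945) (tt N1438 D1946) (tt N1428 (iv2 F3235)) (tt N303 F1874) (tt N1432 (iv4 F3244)) (tt N1405 F294311) (tt N301 (iv6 D995)) (tt N645 F1875))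
theorem Q647 : ∀ i, i < 647 → P i := stepQ 646 Q646 (allL N646 (tt N620 F293704) (tt N1382 F293705) (tt N646 F1876) (tt N1436 (iv3 F3250)) (tt N639 F1877) (tt N607 (iv5 F293742)) (tt N302 (iv6 D996)) (tt N1354 F293706))
theorem Q648 : ∀ i, i < 648 → P i := stepQ 647 Q647 (allL N647 (tt N305 (iv1 F1884)) (tt N304 (iv0 D999)) (tt N308 (iv2 F1881)) (tt N647 F1882) (tt N1210 (iv4 F2854)) (tt N1439 D1953) (tt N1440 D1954) (tt N306 F1883))
theorem Q649 : ∀ i, i < 649 → P i := stepQ 648 Q648 (allL N648 (tt N308 F6540) (tt N306 F6541) (tt N304 (iv2 D1000)) (tt N1441 D1957) (tt N1442 D1958) (tt N1313 (iv5 F7124)) (tt N648 F7116) (tt N305 (iv7 F1885)))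
theorem Q650 : ∀ i, i < 650 → P i := stepQ 649 Q649 (allL N649 (tt N1422 (iv1 F6438)) (tt N1443 D1962) (tt N1444 D1963) (tt N304 (iv3 D1001)) (tt N1445 D1964) (tt N1446 D1965) (tt N649 F7117) (tt N1447 D1967))
theorem Q651 : ∀ i, i < 651 → P i := stepQ 650 Q650 (allL N650 (tt N1448 D1968) (tt N1449 D1969) (tt N1442 (iv2 F3275)) (tt N1450 D1970) (tt N304 (iv4 D1002)) (tt N1451 D1971) (tt N650 F7118) (tt N1452 D1973))
theorem Q652 : ∀ i, i < 652 → P i := stepQ 651 Q651 (allL N651 (tt N1311 (iv1 F6907)) (tt N1316 (iv0 F6908)) (tt N1313 (iv2 F7123)) (tt N1446 (iv3 F3283)) (tt N1453 D1976) (tt N304 (iv5 D1003)) (tt N1454 D1977) (tt N1312 (iv7 F7121)))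
theorem Q653 : ∀ i, i < 653 → P i := stepQ 652 Q652 (allL N652 (tt N306 (iv1 F6536)) (tt N308 (iv0 F6537)) (tt N305 F1886) (tt N1447 (iv3 F3285)) (tt N1452 (iv4 F3293)) (tt N1312 (iv5 F7120)) (tt N1455 D1983) (tt N304 (iv7 D1005)))
theorem Q654 : ∀ i, i < 654 → P i := stepQ 653 Q653 (allL N653 (tt N1394 F3289) (tt N1396 (iv0 F6487)) (tt N1456 D1985) (tt N305 (iv3 D1006)) (tt N1456 (iv4 F6552)) (tt N1457 D1987) (tt N1458 D1988) (tt N1441 (iv7 F3274)))
theorem Q655 : ∀ i, i < 655 → P i := stepQ 654 Q654 (allL N654 (tt N1449 (iv1 F3290)) (tt N1448 (iv0 F3288)) (tt N1452 (iv2 F3292)) (tt N1459 D1989) (tt N305 (iv4 D1007)) (tt N1460 D1990) (tt N1461 D1991) (tt N1442 (iv7 F3276)))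
theorem Q656 : ∀ i, i < 656 → P i := stepQ 655 Q655 (allL N655 (tt N1316 F6909) (tt N1311 F6910) (tt N1312 (iv2 F7119)) (tt N1457 (iv3 F3300)) (tt N1462 D1992) (tt N305 (iv5 D1008)) (tt N1463 D1993) (tt N1313 (iv7 F7125)))
theorem Q657 : ∀ i, i < 657 → P i := stepQ 656 Q656 (allL N656 (tt N1403 F293653) (tt N1464 D1995) (tt N1455 (iv2 F3298)) (tt N1458 (iv3 F3301)) (tt N1461 (iv4 F3304)) (tt N1402 F293654) (tt N305 (iv6 D1009)) (tt N656 F7115))
theorem Q658 : ∀ i, i < 658 → P i := stepQ 657 Q657 (allL N657 (tt N1465 D2008) (tt N1466 D2009) (tt N307 F1889) (tt N657 F1890) (tt N1467 D2010) (tt N306 (iv5 D1012)) (tt N1468 D2011) (tt N1439 (iv7 F3267)))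
theorem Q659 : ∀ i, i < 659 → P i := stepQ 658 Q658 (allL N658 (tt N1439 (iv1 F3269)) (tt N307 (iv0 D1013)) (tt N1465 (iv2 F7093)) (tt N1469 D2013) (tt N1470 D2014) (tt N590 (iv5 F7097)) (tt N1471 D2016) (tt N1466 (iv7 F7098)))
theorem Q660 : ∀ i, i < 660 → P i := stepQ 659 Q659 (allL N659 (tt N307 (iv1 D1014)) (tt N1439 F3268) (tt N1466 F7100) (tt N1472 D2018) (tt N1473 D2019) (tt N591 (iv5 F7108)) (tt N1474 D2021) (tt N1465 F7101))
theorem Q661 : ∀ i, i < 661 → P i := stepQ 660 Q660 (allL N660 (tt N1475 D2022) (tt N1476 D2023) (tt N1467 (iv2 F3311)) (tt N1477 D2024) (tt N307 (iv4 D1015)) (tt N1478 D2025) (tt N1479 D2026) (tt N1480 D2027))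
theorem Q662 : ∀ i, i < 662 → P i := stepQ 661 Q661 (allL N661 (tt N1481 D2028) (tt N1482 D2029) (tt N1468 (iv2 F3312)) (tt N312 F1891) (tt N1479 (iv4 F3318)) (tt N1315 (iv5 F3037)) (tt N307 (iv6 D1016)) (tt N1483 D2030))
theorem Q663 : ∀ i, i < 663 → P i := stepQ 662 Q662 (allL N662 (tt N1466 (iv1 F3310)) (tt N1465 F3309) (tt N1439 (iv2 F3265)) (tt N313 F1892) (tt N1480 (iv4 F3320)) (tt N308 F1893) (tt N1484 D2031) (tt N307 (iv7 D1017)))
theorem Q664 : ∀ i, i < 664 → P i := stepQ 663 Q663 (allL N663 (tt N1485 D2032) (tt N1486 D2033) (tt N1440 (iv2 F3270)) (tt N314 F1894) (tt N1226 (iv4 F2866)) (tt N1487 D2034) (tt N308 (iv6 D1018)) (tt N1317 (iv7 F3041)))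
theorem Q665 : ∀ i, i < 665 → P i := stepQ 664 Q664 (allL N664 (tt N1407 F7080) (tt N1411 (iv0 F7081)) (tt N1488 D2037) (tt N309 (iv3 D1019)) (tt N1489 D2038) (tt N574 F1895) (tt N1490 D2039) (tt N666 (iv7 F1898)))
theorem Q666 : ∀ i, i < 666 → P i := stepQ 665 Q665 (allL N665 (tt N1491 D2040) (tt N1492 D2041) (tt N665 F1896) (tt N1490 (iv3 F3326)) (tt N667 (iv4 F1900)) (tt N1377 F291972) (tt N309 (iv6 D1020)) (tt N1493 D2043))
theorem Q667 : ∀ i, i < 667 → P i := stepQ 666 Q666 (allL N666 (tt N1421 F7265) (tt N1424 (iv0 F7266)) (tt N1494 D2046) (tt N310 (iv3 D1021)) (tt N1495 D2047) (tt N579 F1897) (tt N1496 D2048) (tt N664 F1898))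
theorem Q668 : ∀ i, i < 668 → P i := stepQ 667 Q667 (allL N667 (tt N1350 F292751) (tt N1497 D2050) (tt N667 F1899) (tt N1496 (iv3 F3341)) (tt N665 F1900) (tt N1498 D2051) (tt N310 (iv6 D1022)) (tt N1499 D2052))
theorem Q669 : ∀ i, i < 669 → P i := stepQ 668 Q668 (allL N668 (tt N1500 D2053) (tt N1501 D2054) (tt N1502 D2055) (tt N311 (iv3 D1023)) (tt N1477 (iv4 F3316)) (tt N587 F1901) (tt N1503 D2056) (tt N586 F1902))
theorem Q670 : ∀ i, i < 670 → P i := stepQ 669 Q669 (allL N669 (tt N1504 D2057) (tt N1505 D2058) (tt N669 F1903) (tt N1503 (iv3 F3356)) (tt N312 F1904) (tt N1506 D2059) (tt N311 (iv6 D1024)) (tt N1507 D2060))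
theorem Q671 : ∀ i, i < 671 → P i := stepQ 670 Q670 (allL N670 (tt N672 (iv1 F1906)) (tt N312 (iv0 D1025)) (tt N670 F7466) (tt N1508 D2062) (tt N1509 D2063) (tt N1510 D2064) (tt N1511 D2065) (tt N671 (iv7 F7471)))
theorem Q672 : ∀ i, i < 672 → P i := stepQ 671 Q671 (allL N671 (tt N312 (iv1 D1026)) (tt N672 F1907) (tt N671 F7470) (tt N1512 D2067) (tt N1513 D2068) (tt N1511 (iv5 F3365)) (tt N1514 D2069) (tt N670 F7471))
theorem Q673 : ∀ i, i < 673 → P i := stepQ 672 Q672 (allL N672 (tt N671 (iv1 F1907)) (tt N670 F1906) (tt N672 F1905) (tt N1483 (iv3 F3321)) (tt N1507 (iv4 F3360)) (tt N1322 (iv5 F3047)) (tt N1515 D2070) (tt N312 (iv7 D1027)))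
theorem Q674 : ∀ i, i < 674 → P i := stepQ 673 Q673 (allL N673 (tt N1509 (iv1 F16092)) (tt N1513 F16088) (tt N673 F1908) (tt N1484 (iv3 F3322)) (tt N588 F1909) (tt N1516 D2073) (tt N313 (iv6 D1028)) (tt N1515 (iv7 F3369)))
theorem Q675 : ∀ i, i < 675 → P i := stepQ 674 Q674 (allL N674 (tt N314 (iv1 D1029)) (tt N598 F1910) (tt N674 F1912) (tt N1517 D2074) (tt N581 (iv4 F1913)) (tt N1404 F292978) (tt N1276 (iv6 F2970)) (tt N580 F1911))
theorem Q676 : ∀ i, i < 676 → P i := stepQ 675 Q675 (allL N675 (tt N1275 (iv1 F2967)) (tt N1518 D2076) (tt N675 F1914) (tt N1487 (iv3 F3323)) (tt N1519 D2077) (tt N314 (iv5 D1030)) (tt N1516 (iv6 F3373)) (tt N1324 (iv7 F3053)))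
theorem Q677 : ∀ i, i < 677 → P i := stepQ 676 Q676 (allL N676 (tt N764 (iv1 F2069)) (tt N763 F2066) (tt N350 F1915) (tt N975 F2523) (tt N315 (iv4 D1031)) (tt N1520 D2078) (tt N1521 D2079) (tt N676 F1916))
theorem Q678 : ∀ i, i < 678 → P i := stepQ 677 Q677 (allL N677 (tt N1522 D2080) (tt N904 F4912) (tt N351 F1917) (tt N318 F1918) (tt N1521 (iv4 F3390)) (tt N1523 D2082) (tt N315 (iv6 D1032)) (tt N1524 D2083))
theorem Q679 : ∀ i, i < 679 → P i := stepQ 678 Q678 (allL N678 (tt N355 (iv1 F1920)) (tt N316 (iv0 D1033)) (tt N352 (iv2 F1919)) (tt N508 F1922) (tt N508 F1923) (tt N1525 D2084) (tt N353 F1924) (tt N353 F1921))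
theorem Q680 : ∀ i, i < 680 → P i := stepQ 679 Q679 (allL N679 (tt N1526 D2085) (tt N912 (iv0 F2422)) (tt N354 F1925) (tt N319 F1926) (tt N1527 D2086) (tt N316 (iv5 D1034)) (tt N1523 (iv6 F3394)) (tt N1124 (iv7 F2733)))
theorem Q681 : ∀ i, i < 681 → P i := stepQ 680 Q680 (allL N680 (tt N1528 D2087) (tt N1529 D2088) (tt N1530 D2089) (tt N317 (iv3 D1035)) (tt N975 (iv4 F2524)) (tt N715 (iv5 F1991)) (tt N1531 D2090) (tt N680 F1927))
theorem Q682 : ∀ i, i < 682 → P i := stepQ 681 Q681 (allL N681 (tt N448 F5053) (tt N452 (iv0 F5056)) (tt N412 F1928) (tt N1531 (iv3 F3416)) (tt N318 F1929) (tt N1532 D2093) (tt N317 (iv6 D1036)) (tt N1533 D2094))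
theorem Q683 : ∀ i, i < 683 → P i := stepQ 682 Q682 (allL N682 (tt N416 (iv1 F1935)) (tt N318 (iv0 D1037)) (tt N413 (iv2 F4441)) (tt N768 F5122) (tt N782 (iv4 F5127)) (tt N1534 D2098) (tt N1535 D2099) (tt N414 (iv7 F4447)))
theorem Q684 : ∀ i, i < 684 → P i := stepQ 683 Q683 (allL N683 (tt N318 (iv1 D1038)) (tt N416 F1930) (tt N414 F4448) (tt N1536 D2101) (tt N783 F5138) (tt N1537 D2103) (tt N1538 D2104) (tt N413 F4449))
theorem Q685 : ∀ i, i < 685 → P i := stepQ 684 Q684 (allL N684 (tt N1539 D2105) (tt N1540 D2106) (tt N415 F1931) (tt N1523 (iv3 F3393)) (tt N1541 D2107) (tt N318 (iv5 D1039)) (tt N319 F1932) (tt N1542 D2108))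
theorem Q686 : ∀ i, i < 686 → P i := stepQ 685 Q685 (allL N685 (tt N414 (iv1 F1936)) (tt N413 F1937) (tt N416 F1933) (tt N1524 (iv3 F3396)) (tt N1533 (iv4 F3420)) (tt N1542 (iv5 F3431)) (tt N685 F1934) (tt N318 (iv7 D1040)))
theorem Q687 : ∀ i, i < 687 → P i := stepQ 686 Q686 (allL N686 (tt N467 F1939) (tt N469 F1940) (tt N419 F1938) (tt N1543 D2109) (tt N319 (iv4 D1041)) (tt N1544 D2110) (tt N1541 (iv6 F3429)) (tt N1125 (iv7 F2738)))
theorem Q688 : ∀ i, i < 688 → P i := stepQ 687 Q687 (allL N687 (tt N322 (iv1 F1943)) (tt N320 (iv0 D1042)) (tt N408 (iv2 F1942)) (tt N349 F1945) (tt N764 (iv4 F2070)) (tt N480 F1941) (tt N1545 D2111) (tt N687 F1944))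
theorem Q689 : ∀ i, i < 689 → P i := stepQ 688 Q688 (allL N688 (tt N1546 D2112) (tt N1536 (iv0 F9897)) (tt N691 (iv2 F1949)) (tt N873 (iv3 F2336)) (tt N879 (iv4 F2359)) (tt N1547 D2114) (tt N320 (iv6 D1043)) (tt N1548 D2115))
theorem Q690 : ∀ i, i < 690 → P i := stepQ 689 Q689 (allL N689 (tt N1549 D2116) (tt N1109 (iv0 F2710)) (tt N693 (iv2 F1952)) (tt N874 (iv3 F2339)) (tt N1550 D2117) (tt N321 (iv5 D1046)) (tt N1547 (iv6 F3442)) (tt N1127 (iv7 F2744)))
theorem Q691 : ∀ i, i < 691 → P i := stepQ 690 Q690 (allL N690 (tt N761 (iv1 F2063)) (tt N759 (iv0 F2057)) (tt N403 F1947) (tt N864 (iv3 F2322)) (tt N322 (iv4 D1048)) (tt N864 (iv5 F2324)) (tt N1551 D2118) (tt N690 F1948))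
theorem Q692 : ∀ i, i < 692 → P i := stepQ 691 Q691 (allL N691 (tt N901 F9939) (tt N1552 D2120) (tt N688 F1949) (tt N691 F1950) (tt N1551 (iv4 F3448)) (tt N1553 D2121) (tt N322 (iv6 D1049)) (tt N1554 D2122))
theorem Q693 : ∀ i, i < 693 → P i := stepQ 692 Q692 (allL N692 (tt N323 (iv1 D1051)) (tt N507 (iv0 F2405)) (tt N381 F2400) (tt N353 F2401) (tt N353 F2402) (tt N1555 D2123) (tt N508 F2403) (tt N508 F2404))
theorem Q694 : ∀ i, i < 694 → P i := stepQ 693 Q693 (allL N693 (tt N911 F2399) (tt N1556 D2124) (tt N689 F1952) (tt N693 F1953) (tt N1557 D2125) (tt N323 (iv5 D1052)) (tt N1553 (iv6 F3452)) (tt N1558 D2126))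
theorem Q695 : ∀ i, i < 695 → P i := stepQ 694 Q694 (allL N694 (tt N381 (iv1 F2417)) (tt N508 (iv0 F2414)) (tt N507 (iv2 F2406)) (tt N694 F1955) (tt N507 F2413) (tt N1558 (iv5 F3473)) (tt N694 F1957) (tt N323 (iv7 D1053)))
theorem Q696 : ∀ i, i < 696 → P i := stepQ 695 Q695 (allL N695 (tt N701 (iv1 F1973)) (tt N700 F1971) (tt N327 F1961) (tt N1559 D2127) (tt N324 (iv4 D1054)) (tt N1560 D2128) (tt N1561 D2129) (tt N695 F1962))
theorem Q697 : ∀ i, i < 697 → P i := stepQ 696 Q696 (allL N696 (tt N1562 D2130) (tt N1563 D2131) (tt N328 F1963) (tt N737 (iv3 F2023)) (tt N1561 (iv4 F3490)) (tt N696 F1964) (tt N324 (iv6 D1055)) (tt N1564 D2132))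
theorem Q698 : ∀ i, i < 698 → P i := stepQ 697 Q697 (allL N697 (tt N1565 D2133) (tt N1566 D2134) (tt N699 (iv2 F1968)) (tt N875 (iv3 F2350)) (tt N940 (iv4 F2461)) (tt N1567 D2135) (tt N325 (iv6 D1056)) (tt N1568 D2136))
theorem Q699 : ∀ i, i < 699 → P i := stepQ 698 Q698 (allL N698 (tt N736 (iv1 F2021)) (tt N341 F1967) (tt N428 F1965) (tt N920 (iv3 F2436)) (tt N326 (iv4 D1057)) (tt N920 (iv5 F2438)) (tt N1569 D2137) (tt N698 F1966))
theorem Q700 : ∀ i, i < 700 → P i := stepQ 699 Q699 (allL N699 (tt N1570 D2138) (tt N1571 D2139) (tt N697 F1968) (tt N699 F1969) (tt N1569 (iv4 F3500)) (tt N1572 D2140) (tt N326 (iv6 D1058)) (tt N1573 D2141))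
theorem Q701 : ∀ i, i < 701 → P i := stepQ 700 Q700 (allL N700 (tt N695 (iv1 F1971)) (tt N327 (iv0 D1059)) (tt N701 F1975) (tt N779 F2095) (tt N329 F1970) (tt N970 (iv5 F3740)) (tt N1574 D2143) (tt N700 F1972))
theorem Q702 : ∀ i, i < 702 → P i := stepQ 701 Q701 (allL N701 (tt N327 (iv1 D1060)) (tt N695 F1973) (tt N700 (iv2 F1975)) (tt N976 (iv3 F2528)) (tt N340 F1974) (tt N1575 D2144) (tt N1576 D2145) (tt N701 F1976))
theorem Q703 : ∀ i, i < 703 → P i := stepQ 702 Q702 (allL N702 (tt N962 (iv1 F2497)) (tt N436 (iv0 F1979)) (tt N961 F2499) (tt N327 (iv3 D1061)) (tt N334 F1977) (tt N721 (iv5 F2005)) (tt N1577 D2146) (tt N702 F1978))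
theorem Q704 : ∀ i, i < 704 → P i := stepQ 703 Q703 (allL N703 (tt N1520 (iv1 F3388)) (tt N766 (iv0 F2076)) (tt N1560 (iv2 F3478)) (tt N721 F2006) (tt N863 (iv4 F2319)) (tt N327 (iv5 D1062)) (tt N1578 D2147) (tt N703 F1980))
theorem Q705 : ∀ i, i < 705 → P i := stepQ 704 Q704 (allL N704 (tt N1579 D2148) (tt N1580 D2149) (tt N1561 (iv2 F3489)) (tt N1577 (iv3 F3518)) (tt N328 F1981) (tt N1581 D2150) (tt N327 (iv6 D1063)) (tt N1582 D2151))
theorem Q706 : ∀ i, i < 706 → P i := stepQ 705 Q705 (allL N705 (tt N1564 (iv1 F3497)) (tt N328 (iv0 D1064)) (tt N1562 (iv2 F8358)) (tt N876 F9929) (tt N1583 D2154) (tt N1584 D2155) (tt N1585 D2156) (tt N1563 F8357))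
theorem Q707 : ∀ i, i < 707 → P i := stepQ 706 Q706 (allL N706 (tt N328 (iv1 D1065)) (tt N1564 F3496) (tt N1563 F8351) (tt N706 F8328) (tt N1586 D2159) (tt N1587 D2160) (tt N1588 D2161) (tt N1562 (iv7 F8359)))
theorem Q708 : ∀ i, i < 708 → P i := stepQ 707 Q707 (allL N707 (tt N1563 (iv1 F3491)) (tt N1562 F3495) (tt N1564 (iv2 F3492)) (tt N338 F1982) (tt N1582 (iv4 F3520)) (tt N707 F1983) (tt N707 F1984) (tt N328 (iv7 D1066)))
theorem Q709 : ∀ i, i < 709 → P i := stepQ 708 Q708 (allL N708 (tt N1589 D2162) (tt N1590 D2163) (tt N738 (iv2 F2025)) (tt N331 F1985) (tt N1574 (iv4 F3512)) (tt N1591 D2164) (tt N329 (iv6 D1067)) (tt N1592 D2165))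
theorem Q710 : ∀ i, i < 710 → P i := stepQ 709 Q709 (allL N709 (tt N1593 D2166) (tt N1594 D2167) (tt N1595 D2168) (tt N330 (iv3 D1068)) (tt N779 F2096) (tt N411 F1986) (tt N1596 D2169) (tt N709 F1987))
theorem Q711 : ∀ i, i < 711 → P i := stepQ 710 Q710 (allL N710 (tt N1092 (iv1 F4937)) (tt N1096 (iv0 F5274)) (tt N716 (iv2 F1993)) (tt N1596 (iv3 F3533)) (tt N331 F1988) (tt N1597 D2172) (tt N330 (iv6 D1069)) (tt N1598 D2173))
theorem Q712 : ∀ i, i < 712 → P i := stepQ 711 Q711 (allL N711 (tt N720 (iv1 F2004)) (tt N331 (iv0 D1070)) (tt N717 F7842) (tt N1599 D2175) (tt N982 F4928) (tt N1600 D2177) (tt N1601 D2178) (tt N718 (iv7 F7848)))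
theorem Q713 : ∀ i, i < 713 → P i := stepQ 712 Q712 (allL N712 (tt N331 (iv1 D1071)) (tt N720 F2003) (tt N718 (iv2 F7847)) (tt N1566 F10236) (tt N983 F4931) (tt N1602 D2182) (tt N1603 D2183) (tt N717 F7843))
theorem Q714 : ∀ i, i < 714 → P i := stepQ 713 Q713 (allL N713 (tt N1604 D2184) (tt N1605 D2185) (tt N719 (iv2 F1996)) (tt N1591 (iv3 F3524)) (tt N1606 D2186) (tt N331 (iv5 D1072)) (tt N826 F2210) (tt N1607 D2187))
theorem Q715 : ∀ i, i < 715 → P i := stepQ 714 Q714 (allL N714 (tt N718 (iv1 F1995)) (tt N717 F2002) (tt N720 (iv2 F1999)) (tt N1592 (iv3 F3526)) (tt N1598 (iv4 F3535)) (tt N1607 (iv5 F3543)) (tt N714 F1989) (tt N331 (iv7 D1073)))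
theorem Q716 : ∀ i, i < 716 → P i := stepQ 715 Q715 (allL N715 (tt N1608 D2188) (tt N1609 D2189) (tt N1610 D2190) (tt N332 (iv3 D1074)) (tt N489 F1990) (tt N680 F1991) (tt N1611 D2191) (tt N715 F1992))
theorem Q717 : ∀ i, i < 717 → P i := stepQ 716 Q716 (allL N716 (tt N1612 D2192) (tt N1613 D2193) (tt N710 F1993) (tt N1611 (iv3 F3552)) (tt N333 F1994) (tt N1614 D2194) (tt N332 (iv6 D1075)) (tt N1615 D2195))
theorem Q718 : ∀ i, i < 718 → P i := stepQ 717 Q717 (allL N717 (tt N714 (iv1 F2002)) (tt N333 (iv0 D1076)) (tt N711 (iv2 F7842)) (tt N1570 F10260) (tt N1088 (iv4 F5458)) (tt N1616 D2199) (tt N1617 D2200) (tt N712 (iv7 F7843)))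
theorem Q719 : ∀ i, i < 719 → P i := stepQ 718 Q718 (allL N718 (tt N333 (iv1 D1077)) (tt N714 F1995) (tt N712 F7847) (tt N1590 (iv3 F5461)) (tt N1089 (iv4 F5460)) (tt N1618 D2204) (tt N1619 D2205) (tt N711 F7848))
theorem Q720 : ∀ i, i < 720 → P i := stepQ 719 Q719 (allL N719 (tt N1620 D2206) (tt N1621 D2207) (tt N713 F1996) (tt N493 F1997) (tt N1622 D2208) (tt N333 (iv5 D1078)) (tt N488 F1998) (tt N1623 D2209))
theorem Q721 : ∀ i, i < 721 → P i := stepQ 720 Q720 (allL N720 (tt N712 (iv1 F2003)) (tt N711 F2004) (tt N714 F1999) (tt N494 F2000) (tt N1615 (iv4 F3558)) (tt N1623 (iv5 F3573)) (tt N720 F2001) (tt N333 (iv7 D1079)))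
theorem Q722 : ∀ i, i < 722 → P i := stepQ 721 Q721 (allL N721 (tt N723 (iv1 F2009)) (tt N334 (iv0 D1080)) (tt N722 F2011) (tt N703 (iv3 F2006)) (tt N1624 D2210) (tt N702 F2005) (tt N1625 D2211) (tt N721 F2007))
theorem Q723 : ∀ i, i < 723 → P i := stepQ 722 Q722 (allL N722 (tt N334 (iv1 D1081)) (tt N723 F2010) (tt N721 (iv2 F2011)) (tt N1626 D2212) (tt N1627 D2213) (tt N961 (iv5 F2501)) (tt N1628 D2214) (tt N722 F2012))
theorem Q724 : ∀ i, i < 724 → P i := stepQ 723 Q723 (allL N723 (tt N722 (iv1 F2010)) (tt N721 F2009) (tt N334 (iv2 D1082)) (tt N746 (iv3 F2037)) (tt N961 (iv4 F2500)) (tt N746 (iv5 F2038)) (tt N1629 D2215) (tt N723 F2008))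
theorem Q725 : ∀ i, i < 725 → P i := stepQ 724 Q724 (allL N724 (tt N1630 D2216) (tt N1631 D2217) (tt N1629 (iv2 F3587)) (tt N335 F2013) (tt N1577 (iv4 F3519)) (tt N1632 D2218) (tt N334 (iv6 D1083)) (tt N1633 D2219))
theorem Q726 : ∀ i, i < 726 → P i := stepQ 725 Q725 (allL N725 (tt N751 (iv1 F2053)) (tt N335 (iv0 D1084)) (tt N748 (iv2 F4955)) (tt N1634 D2221) (tt N396 (iv4 F4957)) (tt N1635 D2223) (tt N1636 D2224) (tt N749 (iv7 F4960)))
theorem Q727 : ∀ i, i < 727 → P i := stepQ 726 Q726 (allL N726 (tt N335 (iv1 D1085)) (tt N751 F2052) (tt N749 F4961) (tt N1637 D2226) (tt N397 (iv4 F4964)) (tt N1638 D2228) (tt N1639 D2229) (tt N748 F4962))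
theorem Q728 : ∀ i, i < 728 → P i := stepQ 727 Q727 (allL N727 (tt N1640 D2230) (tt N1641 D2231) (tt N750 (iv2 F2046)) (tt N1632 (iv3 F3588)) (tt N1642 D2232) (tt N335 (iv5 D1086)) (tt N750 (iv6 F2047)) (tt N1643 D2233))
theorem Q729 : ∀ i, i < 729 → P i := stepQ 728 Q728 (allL N728 (tt N749 (iv1 F2045)) (tt N748 F2051) (tt N751 (iv2 F2048)) (tt N1633 (iv3 F3589)) (tt N338 F2014) (tt N1643 (iv5 F3593)) (tt N728 F2015) (tt N335 (iv7 D1087)))
theorem Q730 : ∀ i, i < 730 → P i := stepQ 729 Q729 (allL N729 (tt N1644 D2240) (tt N342 (iv0 F5093)) (tt N868 F9985) (tt N336 (iv3 D1089)) (tt N1579 (iv4 F9992)) (tt N1645 D2244) (tt N1646 D2245) (tt N755 (iv7 F7972)))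
theorem Q731 : ∀ i, i < 731 → P i := stepQ 730 Q730 (allL N730 (tt N867 F5084) (tt N404 F5085) (tt N752 F7962) (tt N1647 D2249) (tt N336 (iv4 D1090)) (tt N1648 D2250) (tt N1649 D2251) (tt N756 (iv7 F7974)))
theorem Q732 : ∀ i, i < 732 → P i := stepQ 731 Q731 (allL N731 (tt N1650 D2253) (tt N1538 (iv0 F4384)) (tt N753 F7963) (tt N1645 (iv3 F3602)) (tt N1651 D2255) (tt N336 (iv5 D1091)) (tt N1652 D2256) (tt N757 (iv7 F7976)))
theorem Q733 : ∀ i, i < 733 → P i := stepQ 732 Q732 (allL N732 (tt N1619 (iv1 F7889)) (tt N1653 D2259) (tt N754 F7959) (tt N1646 (iv3 F3603)) (tt N1649 (iv4 F3606)) (tt N1654 D2260) (tt N336 (iv6 D1092)) (tt N1655 D2261))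
theorem Q734 : ∀ i, i < 734 → P i := stepQ 733 Q733 (allL N733 (tt N404 (iv1 F5081)) (tt N867 (iv0 F5082)) (tt N756 (iv2 F7973)) (tt N1656 D2269) (tt N337 (iv4 D1095)) (tt N1657 D2270) (tt N1658 D2271) (tt N752 F7967))
theorem Q735 : ∀ i, i < 735 → P i := stepQ 734 Q734 (allL N734 (tt N1538 (iv1 F4385)) (tt N1650 F3615) (tt N757 (iv2 F7975)) (tt N871 (iv3 F10026)) (tt N1659 D2272) (tt N337 (iv5 D1096)) (tt N891 (iv6 F2376)) (tt N753 F7968))
theorem Q736 : ∀ i, i < 736 → P i := stepQ 735 Q735 (allL N735 (tt N1660 D2273) (tt N1601 (iv0 F7886)) (tt N758 (iv2 F7977)) (tt N872 (iv3 F10027)) (tt N1658 (iv4 F3620)) (tt N1661 D2275) (tt N337 (iv6 D1097)) (tt N1662 D2276))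
theorem Q737 : ∀ i, i < 737 → P i := stepQ 736 Q736 (allL N736 (tt N428 F2020) (tt N698 F2021) (tt N341 F2018) (tt N1663 D2277) (tt N339 (iv4 D1098)) (tt N863 (iv5 F2318)) (tt N1664 D2278) (tt N736 F2019))
theorem Q738 : ∀ i, i < 738 → P i := stepQ 737 Q737 (allL N737 (tt N868 F9983) (tt N755 F7715) (tt N342 F2022) (tt N696 F2023) (tt N1664 (iv4 F3628)) (tt N737 F2024) (tt N339 (iv6 D1099)) (tt N1644 (iv7 F5092)))
theorem Q739 : ∀ i, i < 739 → P i := stepQ 738 Q738 (allL N738 (tt N1599 (iv1 F4934)) (tt N1665 D2283) (tt N708 F2025) (tt N372 F2026) (tt N1576 (iv4 F3517)) (tt N1666 D2284) (tt N340 (iv6 D1100)) (tt N1667 D2285))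
theorem Q740 : ∀ i, i < 740 → P i := stepQ 739 Q739 (allL N739 (tt N1668 D2286) (tt N1669 D2287) (tt N1670 D2288) (tt N341 (iv3 D1101)) (tt N343 F2027) (tt N1671 D2289) (tt N1672 D2290) (tt N739 F2028))
theorem Q741 : ∀ i, i < 741 → P i := stepQ 740 Q740 (allL N740 (tt N864 (iv1 F2326)) (tt N394 (iv0 F2030)) (tt N863 F2321) (tt N1671 (iv3 F3656)) (tt N1560 (iv4 F3479)) (tt N341 (iv5 D1102)) (tt N1673 D2291) (tt N740 F2029))
theorem Q742 : ∀ i, i < 742 → P i := stepQ 741 Q741 (allL N741 (tt N1674 D2292) (tt N1009 F9959) (tt N1664 (iv2 F3627)) (tt N1672 (iv3 F3659)) (tt N342 F2031) (tt N1675 D2294) (tt N341 (iv6 D1103)) (tt N1676 D2295))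
theorem Q743 : ∀ i, i < 743 → P i := stepQ 742 Q742 (allL N742 (tt N342 (iv1 D1105)) (tt N1644 (iv0 F5087)) (tt N755 F7978) (tt N406 (iv3 F9986)) (tt N1580 (iv4 F9988)) (tt N1677 D2304) (tt N1678 D2305) (tt N868 F9984))
theorem Q744 : ∀ i, i < 744 → P i := stepQ 743 Q743 (allL N743 (tt N755 F7716) (tt N868 (iv0 F9982)) (tt N1644 (iv2 F5088)) (tt N347 F2032) (tt N1676 (iv4 F3661)) (tt N743 F2033) (tt N743 F2034) (tt N342 (iv7 D1106)))
theorem Q745 : ∀ i, i < 745 → P i := stepQ 744 Q744 (allL N744 (tt N746 (iv1 F2040)) (tt N343 (iv0 D1107)) (tt N745 F2042) (tt N763 F2067) (tt N434 F2035) (tt N955 (iv5 F2482)) (tt N1679 D2306) (tt N744 F2036))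
theorem Q746 : ∀ i, i < 746 → P i := stepQ 745 Q745 (allL N745 (tt N343 (iv1 D1108)) (tt N746 F2041) (tt N744 (iv2 F2042)) (tt N1680 D2307) (tt N957 (iv4 F2484)) (tt N956 F2489) (tt N1681 D2308) (tt N745 F2043))
theorem Q747 : ∀ i, i < 747 → P i := stepQ 746 Q746 (allL N746 (tt N745 (iv1 F2041)) (tt N744 F2040) (tt N343 (iv2 D1109)) (tt N723 F2037) (tt N1670 (iv4 F3649)) (tt N723 F2038) (tt N1682 D2309) (tt N746 F2039))
theorem Q748 : ∀ i, i < 748 → P i := stepQ 747 Q747 (allL N747 (tt N1683 D2310) (tt N1684 D2311) (tt N1682 (iv2 F3668)) (tt N344 F2044) (tt N1672 (iv4 F3660)) (tt N1685 D2312) (tt N343 (iv6 D1110)) (tt N1686 D2313))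
theorem Q749 : ∀ i, i < 749 → P i := stepQ 748 Q748 (allL N748 (tt N728 (iv1 F2051)) (tt N344 (iv0 D1111)) (tt N725 F4955) (tt N1687 D2315) (tt N405 (iv4 F4868)) (tt N1688 D2317) (tt N1689 D2318) (tt N726 (iv7 F4962)))
theorem Q750 : ∀ i, i < 750 → P i := stepQ 749 Q749 (allL N749 (tt N344 (iv1 D1112)) (tt N728 F2045) (tt N726 (iv2 F4961)) (tt N1690 D2320) (tt N406 (iv4 F4876)) (tt N1691 D2322) (tt N1692 D2323) (tt N725 F4960))
theorem Q751 : ∀ i, i < 751 → P i := stepQ 750 Q750 (allL N750 (tt N1693 D2324) (tt N1694 D2325) (tt N727 F2046) (tt N1685 (iv3 F3670)) (tt N1695 D2326) (tt N344 (iv5 D1113)) (tt N727 F2047) (tt N1696 D2327))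
theorem Q752 : ∀ i, i < 752 → P i := stepQ 751 Q751 (allL N751 (tt N726 (iv1 F2052)) (tt N725 F2053) (tt N728 F2048) (tt N1686 (iv3 F3672)) (tt N347 F2049) (tt N1696 (iv5 F3680)) (tt N751 F2050) (tt N344 (iv7 D1114)))
theorem Q753 : ∀ i, i < 753 → P i := stepQ 752 Q752 (allL N752 (tt N881 (iv1 F7712)) (tt N395 F7709) (tt N730 (iv2 F7962)) (tt N1697 D2343) (tt N345 (iv4 D1117)) (tt N1698 D2344) (tt N1699 D2345) (tt N733 (iv7 F7967)))
theorem Q754 : ∀ i, i < 754 → P i := stepQ 753 Q753 (allL N753 (tt N1700 D2347) (tt N906 (iv0 F4371)) (tt N731 (iv2 F7963)) (tt N882 F10028) (tt N1701 D2349) (tt N345 (iv5 D1118)) (tt N1702 D2350) (tt N734 (iv7 F7968)))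
theorem Q755 : ∀ i, i < 755 → P i := stepQ 754 Q754 (allL N754 (tt N1603 (iv1 F7888)) (tt N1703 D2353) (tt N732 (iv2 F7959)) (tt N883 F10029) (tt N1699 (iv4 F3696)) (tt N1704 D2354) (tt N345 (iv6 D1119)) (tt N1705 D2355))
theorem Q756 : ∀ i, i < 756 → P i := stepQ 755 Q755 (allL N755 (tt N737 (iv1 F7715)) (tt N743 (iv0 F7716)) (tt N742 (iv2 F7978)) (tt N346 (iv3 D1121)) (tt N1706 D2360) (tt N1707 D2361) (tt N1708 D2362) (tt N729 F7972))
theorem Q757 : ∀ i, i < 757 → P i := stepQ 756 Q756 (allL N756 (tt N395 F7710) (tt N881 (iv0 F7711)) (tt N733 F7973) (tt N1709 D2363) (tt N346 (iv4 D1122)) (tt N1710 D2364) (tt N1711 D2365) (tt N730 F7974))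
theorem Q758 : ∀ i, i < 758 → P i := stepQ 757 Q757 (allL N757 (tt N906 (iv1 F4372)) (tt N1700 F3705) (tt N734 F7975) (tt N1707 (iv3 F3708)) (tt N1712 D2366) (tt N346 (iv5 D1123)) (tt N887 (iv6 F2373)) (tt N731 F7976))
theorem Q759 : ∀ i, i < 759 → P i := stepQ 758 Q758 (allL N758 (tt N1713 D2367) (tt N1617 (iv0 F7599)) (tt N735 F7977) (tt N1708 (iv3 F3709)) (tt N1711 (iv4 F3710)) (tt N1714 D2369) (tt N346 (iv6 D1124)) (tt N1715 D2370))
theorem Q760 : ∀ i, i < 760 → P i := stepQ 759 Q759 (allL N759 (tt N690 F2057) (tt N403 F2058) (tt N761 (iv2 F2060)) (tt N963 (iv3 F2503)) (tt N348 (iv4 D1125)) (tt N918 (iv5 F2431)) (tt N1716 D2371) (tt N759 F2056))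
theorem Q761 : ∀ i, i < 761 → P i := stepQ 760 Q760 (allL N760 (tt N1717 D2372) (tt N947 F10049) (tt N762 (iv2 F2064)) (tt N410 F2059) (tt N1716 (iv4 F3714)) (tt N1718 D2374) (tt N348 (iv6 D1126)) (tt N1719 D2375))
theorem Q762 : ∀ i, i < 762 → P i := stepQ 761 Q761 (allL N761 (tt N403 F2062) (tt N690 F2063) (tt N759 F2060) (tt N1720 D2376) (tt N349 (iv4 D1127)) (tt N919 (iv5 F2433)) (tt N1721 D2377) (tt N761 F2061))
theorem Q763 : ∀ i, i < 763 → P i := stepQ 762 Q762 (allL N762 (tt N926 F10032) (tt N1722 D2379) (tt N760 F2064) (tt N1545 (iv3 F3441)) (tt N1721 (iv4 F3721)) (tt N1723 D2380) (tt N349 (iv6 D1128)) (tt N1724 D2381))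
theorem Q764 : ∀ i, i < 764 → P i := stepQ 763 Q763 (allL N763 (tt N676 (iv1 F2066)) (tt N350 (iv0 D1129)) (tt N764 F2071) (tt N744 (iv3 F2067)) (tt N408 F2065) (tt N1725 D2382) (tt N1726 D2383) (tt N763 F2068))
theorem Q765 : ∀ i, i < 765 → P i := stepQ 764 Q764 (allL N764 (tt N350 (iv1 D1130)) (tt N676 F2069) (tt N763 (iv2 F2071)) (tt N1727 D2384) (tt N687 F2070) (tt N1728 D2385) (tt N1729 D2386) (tt N764 F2072))
theorem Q766 : ∀ i, i < 766 → P i := stepQ 765 Q765 (allL N765 (tt N1730 D2387) (tt N1626 F3775) (tt N1731 D2388) (tt N350 (iv3 D1131)) (tt N356 F2073) (tt N1732 D2389) (tt N1733 D2390) (tt N765 F2074))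
theorem Q767 : ∀ i, i < 767 → P i := stepQ 766 Q766 (allL N766 (tt N703 F2076) (tt N1560 (iv0 F3481)) (tt N1520 (iv2 F3385)) (tt N1732 (iv3 F3781)) (tt N1520 (iv4 F3387)) (tt N350 (iv5 D1132)) (tt N1734 D2391) (tt N766 F2075))
theorem Q768 : ∀ i, i < 768 → P i := stepQ 767 Q767 (allL N767 (tt N1735 D2392) (tt N1736 D2393) (tt N1521 (iv2 F3389)) (tt N1733 (iv3 F3786)) (tt N351 F2077) (tt N1737 D2394) (tt N350 (iv6 D1133)) (tt N1738 D2395))
theorem Q769 : ∀ i, i < 769 → P i := stepQ 768 Q768 (allL N768 (tt N1524 (iv1 F3400)) (tt N351 (iv0 D1134)) (tt N1522 (iv2 F5120)) (tt N682 (iv3 F5122)) (tt N1739 D2398) (tt N1740 D2399) (tt N1741 D2400) (tt N904 F5119))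
theorem Q770 : ∀ i, i < 770 → P i := stepQ 769 Q769 (allL N769 (tt N351 (iv1 D1135)) (tt N1524 F3399) (tt N904 F5118) (tt N1552 F9941) (tt N1742 D2403) (tt N1743 D2404) (tt N1744 D2405) (tt N1522 (iv7 F5121)))
theorem Q771 : ∀ i, i < 771 → P i := stepQ 770 Q770 (allL N770 (tt N1745 D2406) (tt N1746 D2407) (tt N1523 (iv2 F3392)) (tt N360 F2078) (tt N1747 D2408) (tt N351 (iv5 D1136)) (tt N354 F2079) (tt N1748 D2409))
theorem Q772 : ∀ i, i < 772 → P i := stepQ 771 Q771 (allL N771 (tt N904 F4913) (tt N1522 F3398) (tt N1524 (iv2 F3395)) (tt N361 F2080) (tt N1738 (iv4 F3788)) (tt N1748 (iv5 F3794)) (tt N771 F2081) (tt N351 (iv7 D1137)))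
theorem Q773 : ∀ i, i < 773 → P i := stepQ 772 Q772 (allL N772 (tt N1133 F2753) (tt N815 (iv0 F2176)) (tt N1525 (iv2 F3401)) (tt N378 F2082) (tt N1749 D2410) (tt N352 (iv5 D1138)) (tt N1750 D2411) (tt N523 F2083))
theorem Q774 : ∀ i, i < 774 → P i := stepQ 773 Q773 (allL N773 (tt N815 F2177) (tt N1133 (iv0 F2754)) (tt N523 F2090) (tt N1555 (iv3 F3460)) (tt N1751 D2412) (tt N353 (iv5 D1140)) (tt N1752 D2413) (tt N1525 (iv7 F3403)))
theorem Q775 : ∀ i, i < 775 → P i := stepQ 774 Q774 (allL N774 (tt N1124 F2734) (tt N354 (iv0 D1141)) (tt N1526 F3407) (tt N485 (iv3 F2092)) (tt N1753 D2414) (tt N483 F2091) (tt N1718 (iv6 F3716)) (tt N912 (iv7 F2421)))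
theorem Q776 : ∀ i, i < 776 → P i := stepQ 775 Q775 (allL N775 (tt N354 (iv1 D1142)) (tt N1124 F2735) (tt N912 (iv2 F2736)) (tt N1556 (iv3 F3469)) (tt N1754 D2415) (tt N1755 D2416) (tt N1756 D2417) (tt N1526 (iv7 F3409)))
theorem Q777 : ∀ i, i < 777 → P i := stepQ 776 Q776 (allL N776 (tt N1757 D2418) (tt N1758 D2419) (tt N1527 (iv2 F3410)) (tt N1759 D2420) (tt N354 (iv4 D1143)) (tt N1760 D2421) (tt N1747 (iv6 F3792)) (tt N1761 D2422))
theorem Q778 : ∀ i, i < 778 → P i := stepQ 777 Q777 (allL N777 (tt N912 F2423) (tt N1526 F3408) (tt N1124 (iv2 F2731)) (tt N368 F2093) (tt N1761 (iv4 F3813)) (tt N355 F2094) (tt N1762 D2423) (tt N354 (iv7 D1144)))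
theorem Q779 : ∀ i, i < 779 → P i := stepQ 778 Q778 (allL N778 (tt N780 (iv1 F2102)) (tt N356 (iv0 D1145)) (tt N779 (iv2 F2098)) (tt N1763 D2424) (tt N1595 (iv4 F3528)) (tt N438 F3744) (tt N1764 D2425) (tt N778 F2099))
theorem Q780 : ∀ i, i < 780 → P i := stepQ 779 Q779 (allL N779 (tt N356 (iv1 D1146)) (tt N780 F2103) (tt N778 F2098) (tt N700 (iv3 F2095)) (tt N709 (iv4 F2096)) (tt N439 F3749) (tt N1765 D2426) (tt N779 F2097))
theorem Q781 : ∀ i, i < 781 → P i := stepQ 780 Q780 (allL N780 (tt N779 (iv1 F2103)) (tt N778 F2102) (tt N356 (iv2 D1147)) (tt N440 F2100) (tt N1731 (iv4 F3777)) (tt N1086 (iv5 F2670)) (tt N1766 D2427) (tt N780 F2101))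
theorem Q782 : ∀ i, i < 782 → P i := stepQ 781 Q781 (allL N781 (tt N1767 D2428) (tt N1768 D2429) (tt N1766 (iv2 F3823)) (tt N357 F2104) (tt N1733 (iv4 F3787)) (tt N1769 D2430) (tt N356 (iv6 D1148)) (tt N1770 D2431))
theorem Q783 : ∀ i, i < 783 → P i := stepQ 782 Q782 (allL N782 (tt N447 (iv1 F2110)) (tt N357 (iv0 D1149)) (tt N444 (iv2 F5128)) (tt N1771 D2433) (tt N682 F5127) (tt N1772 D2435) (tt N1773 D2436) (tt N445 (iv7 F5134)))
theorem Q784 : ∀ i, i < 784 → P i := stepQ 783 Q783 (allL N783 (tt N357 (iv1 D1150)) (tt N447 F2105) (tt N445 F5135) (tt N1774 D2438) (tt N683 (iv4 F5138)) (tt N1775 D2440) (tt N1776 D2441) (tt N444 F5136))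
theorem Q785 : ∀ i, i < 785 → P i := stepQ 784 Q784 (allL N784 (tt N1777 D2442) (tt N1778 D2443) (tt N446 F2106) (tt N1769 (iv3 F3825)) (tt N1779 D2444) (tt N357 (iv5 D1151)) (tt N1090 (iv6 F2677)) (tt N1780 D2445))
theorem Q786 : ∀ i, i < 786 → P i := stepQ 785 Q785 (allL N785 (tt N445 (iv1 F2111)) (tt N444 F2112) (tt N447 F2107) (tt N1770 (iv3 F3826)) (tt N361 F2108) (tt N1780 (iv5 F3833)) (tt N785 F2109) (tt N357 (iv7 D1152)))
theorem Q787 : ∀ i, i < 787 → P i := stepQ 786 Q786 (allL N786 (tt N1006 (iv1 F5068)) (tt N873 F9903) (tt N786 F5061) (tt N358 (iv3 D1154)) (tt N876 F9921) (tt N1781 D2456) (tt N1782 D2457) (tt N451 F3889))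
theorem Q788 : ∀ i, i < 788 → P i := stepQ 787 Q787 (allL N787 (tt N1533 (iv1 F4922)) (tt N412 F4919) (tt N448 F3890) (tt N1583 F9952) (tt N358 (iv4 D1155)) (tt N1783 D2462) (tt N1784 D2463) (tt N452 F3891))
theorem Q789 : ∀ i, i < 789 → P i := stepQ 788 Q788 (allL N788 (tt N1785 D2465) (tt N1786 D2466) (tt N449 F3879) (tt N1781 (iv3 F3845)) (tt N1787 D2467) (tt N358 (iv5 D1156)) (tt N1788 D2468) (tt N453 F3880))
theorem Q790 : ∀ i, i < 790 → P i := stepQ 789 Q789 (allL N789 (tt N931 (iv1 F4540)) (tt N1789 D2471) (tt N450 F3894) (tt N1782 (iv3 F3846)) (tt N1784 (iv4 F3849)) (tt N1100 F2688) (tt N358 (iv6 D1157)) (tt N1790 D2472))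
theorem Q791 : ∀ i, i < 791 → P i := stepQ 790 Q790 (allL N790 (tt N412 F4920) (tt N1533 (iv0 F4921)) (tt N452 (iv2 F3883)) (tt N1791 D2480) (tt N359 (iv4 D1160)) (tt N1792 D2481) (tt N1793 D2482) (tt N448 (iv7 F3888)))
theorem Q792 : ∀ i, i < 792 → P i := stepQ 791 Q791 (allL N791 (tt N1786 (iv1 F3857)) (tt N1785 (iv0 F3855)) (tt N453 (iv2 F3876)) (tt N791 F5063) (tt N1794 D2483) (tt N359 (iv5 D1161)) (tt N1099 (iv6 F2687)) (tt N449 (iv7 F3877)))
theorem Q793 : ∀ i, i < 793 → P i := stepQ 792 Q792 (allL N792 (tt N869 F3856) (tt N871 (iv0 F3903)) (tt N454 (iv2 F3884)) (tt N792 F5066) (tt N1793 (iv4 F3864)) (tt N1795 D2485) (tt N359 (iv6 D1162)) (tt N1795 F3881))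
theorem Q794 : ∀ i, i < 794 → P i := stepQ 793 Q793 (allL N793 (tt N458 (iv1 F2120)) (tt N360 (iv0 D1163)) (tt N455 (iv2 F5239)) (tt N1796 D2487) (tt N1797 D2488) (tt N1798 D2489) (tt N1799 D2490) (tt N456 (iv7 F5244)))
theorem Q795 : ∀ i, i < 795 → P i := stepQ 794 Q794 (allL N794 (tt N360 (iv1 D1164)) (tt N458 F2115) (tt N456 F5245) (tt N794 F5184) (tt N1800 D2493) (tt N1094 (iv5 F2685)) (tt N1801 D2494) (tt N455 F5246))
theorem Q796 : ∀ i, i < 796 → P i := stepQ 795 Q795 (allL N795 (tt N1802 D2495) (tt N1803 D2496) (tt N457 F2116) (tt N1804 D2497) (tt N360 (iv4 D1165)) (tt N1805 D2498) (tt N367 F2117) (tt N1806 D2499))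
theorem Q797 : ∀ i, i < 797 → P i := stepQ 796 Q796 (allL N796 (tt N456 (iv1 F2121)) (tt N455 F2122) (tt N458 F2118) (tt N1748 (iv3 F3793)) (tt N1806 (iv4 F3944)) (tt N361 F2119) (tt N1807 D2500) (tt N360 (iv7 D1166)))
theorem Q798 : ∀ i, i < 798 → P i := stepQ 797 Q797 (allL N797 (tt N1041 (iv1 F2598)) (tt N1040 F2597) (tt N797 F2123) (tt N363 F2124) (tt N1808 D2501) (tt N362 (iv5 D1167)) (tt N1809 D2502) (tt N463 F2125))
theorem Q799 : ∀ i, i < 799 → P i := stepQ 798 Q798 (allL N798 (tt N1134 (iv1 F2758)) (tt N1083 (iv0 F2667)) (tt N460 F2126) (tt N1810 D2503) (tt N363 (iv4 D1168)) (tt N1811 D2504) (tt N1812 D2505) (tt N465 F2127))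
theorem Q800 : ∀ i, i < 800 → P i := stepQ 799 Q799 (allL N799 (tt N1813 D2506) (tt N1814 D2507) (tt N461 F2128) (tt N1809 (iv3 F3956)) (tt N1812 (iv4 F3965)) (tt N466 F2129) (tt N363 (iv6 D1169)) (tt N1815 D2508))
theorem Q801 : ∀ i, i < 801 → P i := stepQ 800 Q800 (allL N800 (tt N1083 (iv1 F2668)) (tt N1134 (iv0 F2757)) (tt N465 F2130) (tt N1816 D2509) (tt N364 (iv4 D1170)) (tt N1817 D2510) (tt N1818 D2511) (tt N460 F2131))
theorem Q802 : ∀ i, i < 802 → P i := stepQ 801 Q801 (allL N801 (tt N1819 D2512) (tt N1820 D2513) (tt N466 F2132) (tt N801 F2133) (tt N1818 (iv4 F3981)) (tt N461 F2134) (tt N364 (iv6 D1171)) (tt N1821 D2514))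
theorem Q803 : ∀ i, i < 803 → P i := stepQ 802 Q802 (allL N802 (tt N1039 (iv1 F2596)) (tt N874 (iv0 F2340)) (tt N802 F2135) (tt N365 (iv3 D1172)) (tt N1822 D2515) (tt N487 F2136) (tt N938 (iv6 F2454)) (tt N468 F2137))
theorem Q804 : ∀ i, i < 804 → P i := stepQ 803 Q803 (allL N803 (tt N1125 (iv1 F2740)) (tt N419 F2140) (tt N467 F2138) (tt N1823 D2516) (tt N365 (iv4 D1173)) (tt N1824 D2517) (tt N953 (iv6 F2476)) (tt N469 F2139))
theorem Q805 : ∀ i, i < 805 → P i := stepQ 804 Q804 (allL N804 (tt N419 F2143) (tt N1125 (iv0 F2739)) (tt N469 F2141) (tt N1825 D2518) (tt N366 (iv4 D1174)) (tt N1826 D2519) (tt N1827 D2520) (tt N467 F2142))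
theorem Q806 : ∀ i, i < 806 → P i := stepQ 805 Q805 (allL N805 (tt N1828 D2521) (tt N1829 D2522) (tt N470 F2144) (tt N805 F2145) (tt N1827 (iv4 F4003)) (tt N805 F2146) (tt N366 (iv6 D1175)) (tt N1830 D2523))
theorem Q807 : ∀ i, i < 807 → P i := stepQ 806 Q806 (allL N806 (tt N475 (iv1 F2150)) (tt N367 (iv0 D1176)) (tt N471 (iv2 F2148)) (tt N1831 D2524) (tt N485 F2147) (tt N1832 D2525) (tt N1833 D2526) (tt N472 (iv7 F2149)))
theorem Q808 : ∀ i, i < 808 → P i := stepQ 807 Q807 (allL N807 (tt N367 (iv1 D1177)) (tt N475 F2151) (tt N472 (iv2 F2154)) (tt N1834 D2527) (tt N498 F2153) (tt N1835 D2528) (tt N1836 D2529) (tt N471 F2152))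
theorem Q809 : ∀ i, i < 809 → P i := stepQ 808 Q808 (allL N808 (tt N1837 D2530) (tt N1838 D2531) (tt N1839 D2532) (tt N367 (iv3 D1178)) (tt N1759 (iv4 F3812)) (tt N1840 D2533) (tt N1804 (iv6 F3941)) (tt N1841 D2534))
theorem Q810 : ∀ i, i < 810 → P i := stepQ 809 Q809 (allL N809 (tt N1842 D2535) (tt N1843 D2536) (tt N474 F2155) (tt N1840 (iv3 F4029)) (tt N553 F2156) (tt N367 (iv5 D1179)) (tt N1844 D2537) (tt N551 (iv7 F2157)))
theorem Q811 : ∀ i, i < 811 → P i := stepQ 810 Q810 (allL N810 (tt N472 (iv1 F2161)) (tt N471 F2162) (tt N475 F2158) (tt N1841 (iv3 F4031)) (tt N368 F2159) (tt N551 F2160) (tt N1845 D2538) (tt N367 (iv7 D1180)))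
theorem Q812 : ∀ i, i < 812 → P i := stepQ 811 Q811 (allL N811 (tt N1846 D2539) (tt N1847 D2540) (tt N476 F2163) (tt N1762 (iv3 F3814)) (tt N1845 (iv4 F4046)) (tt N811 F2164) (tt N368 (iv6 D1181)) (tt N1807 (iv7 F3950)))
theorem Q813 : ∀ i, i < 813 → P i := stepQ 812 Q812 (allL N812 (tt N371 F2166) (tt N1080 (iv0 F2648)) (tt N483 F2165) (tt N1078 (iv3 F2638)) (tt N1078 (iv4 F2639)) (tt N1526 (iv5 F3406)) (tt N369 (iv6 D1182)) (tt N1755 (iv7 F3804)))
theorem Q814 : ∀ i, i < 814 → P i := stepQ 813 Q813 (allL N813 (tt N1755 F3806) (tt N483 (iv0 F2170)) (tt N371 F2167) (tt N477 F2168) (tt N813 F2169) (tt N1162 (iv5 F2797)) (tt N370 (iv6 D1183)) (tt N1080 (iv7 F2647)))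
theorem Q815 : ∀ i, i < 815 → P i := stepQ 814 Q814 (allL N814 (tt N1080 F2649) (tt N371 (iv0 D1184)) (tt N1755 (iv2 F3802)) (tt N376 F2171) (tt N497 F2172) (tt N912 (iv5 F2420)) (tt N814 F2173) (tt N483 (iv7 F2174)))
theorem Q816 : ∀ i, i < 816 → P i := stepQ 815 Q815 (allL N815 (tt N772 F2176) (tt N773 (iv0 F2177)) (tt N1162 F2798) (tt N374 F2175) (tt N1848 D2541) (tt N371 (iv5 D1185)) (tt N1666 (iv6 F3640)) (tt N1028 (iv7 F2579)))
theorem Q817 : ∀ i, i < 817 → P i := stepQ 816 Q816 (allL N816 (tt N483 (iv1 F2181)) (tt N1755 (iv0 F3808)) (tt N1080 (iv2 F2644)) (tt N375 F2178) (tt N816 F2179) (tt N1028 (iv5 F2578)) (tt N816 F2180) (tt N371 (iv7 D1186)))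
theorem Q818 : ∀ i, i < 818 → P i := stepQ 817 Q817 (allL N817 (tt N494 (iv1 F2187)) (tt N372 (iv0 D1187)) (tt N491 F5251) (tt N1849 D2543) (tt N1612 (iv4 F5270)) (tt N1850 D2545) (tt N1020 F2573) (tt N492 (iv7 F5254)))
theorem Q819 : ∀ i, i < 819 → P i := stepQ 818 Q818 (allL N818 (tt N372 (iv1 D1188)) (tt N494 F2182) (tt N492 (iv2 F5253)) (tt N818 F5200) (tt N1613 F5201) (tt N1851 D2549) (tt N1852 D2550) (tt N491 F5252))
theorem Q820 : ∀ i, i < 820 → P i := stepQ 819 Q819 (allL N819 (tt N1013 F2569) (tt N1004 (iv0 F2564)) (tt N493 F2183) (tt N1666 (iv3 F3639)) (tt N1853 D2551) (tt N372 (iv5 D1189)) (tt N374 F2184) (tt N1854 D2552))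
theorem Q821 : ∀ i, i < 821 → P i := stepQ 820 Q820 (allL N820 (tt N492 (iv1 F2188)) (tt N491 F2189) (tt N494 F2185) (tt N1667 (iv3 F3642)) (tt N985 (iv4 F2535)) (tt N1854 (iv5 F4057)) (tt N820 F2186) (tt N372 (iv7 D1190)))
theorem Q822 : ∀ i, i < 822 → P i := stepQ 821 Q821 (allL N821 (tt N1082 (iv1 F2659)) (tt N1081 (iv0 F2653)) (tt N821 F2190) (tt N373 (iv3 D1191)) (tt N821 F2191) (tt N468 F2192) (tt N821 F2193) (tt N487 F2194))
theorem Q823 : ∀ i, i < 823 → P i := stepQ 822 Q822 (allL N822 (tt N827 (iv1 F2213)) (tt N837 (iv0 F2255)) (tt N495 F2195) (tt N1855 D2553) (tt N374 (iv4 D1192)) (tt N1856 D2554) (tt N1853 (iv6 F4055)) (tt N1029 (iv7 F2580)))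
theorem Q824 : ∀ i, i < 824 → P i := stepQ 823 Q823 (allL N823 (tt N1857 D2555) (tt N1858 D2556) (tt N1859 D2557) (tt N377 (iv3 D1193)) (tt N823 F2196) (tt N1860 D2558) (tt N390 F2197) (tt N1141 (iv7 F2762)))
theorem Q825 : ∀ i, i < 825 → P i := stepQ 824 Q824 (allL N824 (tt N542 F2199) (tt N539 F2200) (tt N502 F2198) (tt N1860 (iv3 F4068)) (tt N1861 D2559) (tt N377 (iv5 D1194)) (tt N1862 D2560) (tt N1142 (iv7 F2765)))
theorem Q826 : ∀ i, i < 826 → P i := stepQ 825 Q825 (allL N825 (tt N382 (iv1 F2202)) (tt N378 (iv0 D1195)) (tt N510 (iv2 F2203)) (tt N496 (iv3 F2204)) (tt N1031 (iv4 F2585)) (tt N482 F2201) (tt N1863 D2561) (tt N488 (iv7 F2205)))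
theorem Q827 : ∀ i, i < 827 → P i := stepQ 826 Q826 (allL N826 (tt N378 (iv1 D1196)) (tt N382 F2206) (tt N488 (iv2 F2209)) (tt N1162 (iv3 F2796)) (tt N1032 (iv4 F2588)) (tt N477 F2208) (tt N713 (iv6 F2210)) (tt N510 F2207))
theorem Q828 : ∀ i, i < 828 → P i := stepQ 827 Q827 (allL N827 (tt N1105 (iv1 F2695)) (tt N822 F2213) (tt N511 F2211) (tt N1864 D2562) (tt N378 (iv4 D1197)) (tt N1842 (iv5 F4033)) (tt N1865 D2563) (tt N524 F2212))
theorem Q829 : ∀ i, i < 829 → P i := stepQ 828 Q828 (allL N828 (tt N1866 D2564) (tt N1867 D2565) (tt N512 F2214) (tt N1750 (iv3 F3796)) (tt N1865 (iv4 F4081)) (tt N525 F2215) (tt N378 (iv6 D1198)) (tt N1868 D2566))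
theorem Q830 : ∀ i, i < 830 → P i := stepQ 829 Q829 (allL N829 (tt N383 (iv1 F2217)) (tt N379 (iv0 D1199)) (tt N515 (iv2 F2218)) (tt N1328 (iv3 F3061)) (tt N559 F2216) (tt N1186 (iv5 F2818)) (tt N1176 (iv6 F2807)) (tt N516 (iv7 F2219)))
theorem Q831 : ∀ i, i < 831 → P i := stepQ 830 Q830 (allL N830 (tt N379 (iv1 D1200)) (tt N383 F2220) (tt N516 (iv2 F2223)) (tt N1869 D2567) (tt N555 F2222) (tt N1185 (iv5 F2812)) (tt N557 (iv6 F2224)) (tt N515 F2221))
theorem Q832 : ∀ i, i < 832 → P i := stepQ 831 Q831 (allL N831 (tt N1870 D2568) (tt N1871 D2569) (tt N1872 D2570) (tt N379 (iv3 D1201)) (tt N517 F2225) (tt N1873 D2571) (tt N1874 D2572) (tt N526 F2226))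
theorem Q833 : ∀ i, i < 833 → P i := stepQ 832 Q832 (allL N832 (tt N1261 (iv1 F2935)) (tt N1241 (iv0 F2892)) (tt N518 F2227) (tt N1873 (iv3 F4099)) (tt N1843 (iv4 F4041)) (tt N379 (iv5 D1202)) (tt N1875 D2573) (tt N527 F2228))
theorem Q834 : ∀ i, i < 834 → P i := stepQ 833 Q833 (allL N833 (tt N1876 D2574) (tt N1877 D2575) (tt N519 F2229) (tt N1874 (iv3 F4101)) (tt N380 F2230) (tt N1878 D2576) (tt N379 (iv6 D1203)) (tt N1879 D2577))
theorem Q835 : ∀ i, i < 835 → P i := stepQ 834 Q834 (allL N834 (tt N380 (iv1 D1205)) (tt N522 F2234) (tt N521 F2792) (tt N834 F2884) (tt N1880 D2578) (tt N520 (iv5 F2235)) (tt N834 F2236) (tt N520 F2793))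
theorem Q836 : ∀ i, i < 836 → P i := stepQ 835 Q835 (allL N835 (tt N521 (iv1 F2242)) (tt N520 (iv0 F2243)) (tt N522 F2237) (tt N522 F2238) (tt N1879 (iv4 F4116)) (tt N529 F2239) (tt N529 F2240) (tt N380 (iv7 D1206)))
theorem Q837 : ∀ i, i < 837 → P i := stepQ 836 Q836 (allL N836 (tt N1881 D2579) (tt N1882 D2580) (tt N1555 (iv2 F3459)) (tt N382 F2251) (tt N1883 D2581) (tt N381 (iv5 D1209)) (tt N1884 D2582) (tt N509 F2252))
theorem Q838 : ∀ i, i < 838 → P i := stepQ 837 Q837 (allL N837 (tt N822 F2255) (tt N1105 F2694) (tt N524 F2253) (tt N1885 D2583) (tt N382 (iv4 D1210)) (tt N1843 (iv5 F4040)) (tt N1886 D2584) (tt N511 F2254))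
theorem Q839 : ∀ i, i < 839 → P i := stepQ 838 Q838 (allL N838 (tt N1887 D2585) (tt N1888 D2586) (tt N525 F2256) (tt N1884 (iv3 F4136)) (tt N1886 (iv4 F4140)) (tt N512 F2257) (tt N382 (iv6 D1211)) (tt N1889 D2587))
theorem Q840 : ∀ i, i < 840 → P i := stepQ 839 Q839 (allL N839 (tt N1890 D2588) (tt N1891 D2589) (tt N1892 D2590) (tt N383 (iv3 D1212)) (tt N526 F2258) (tt N1893 D2591) (tt N1894 D2592) (tt N517 F2259))
theorem Q841 : ∀ i, i < 841 → P i := stepQ 840 Q840 (allL N840 (tt N1241 (iv1 F2893)) (tt N1261 F2934) (tt N527 F2260) (tt N1893 (iv3 F4155)) (tt N1842 (iv4 F4034)) (tt N383 (iv5 D1213)) (tt N1895 D2593) (tt N518 F2261))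
theorem Q842 : ∀ i, i < 842 → P i := stepQ 841 Q841 (allL N841 (tt N1146 F2921) (tt N1262 (iv0 F2939)) (tt N528 F2262) (tt N1894 (iv3 F4157)) (tt N384 F2263) (tt N1896 D2594) (tt N383 (iv6 D1214)) (tt N1897 D2595))
theorem Q843 : ∀ i, i < 843 → P i := stepQ 842 Q842 (allL N842 (tt N393 (iv1 F2268)) (tt N504 F2269) (tt N529 F2264) (tt N529 F2265) (tt N1897 (iv4 F4162)) (tt N522 F2266) (tt N522 F2267) (tt N384 (iv7 D1215)))
theorem Q844 : ∀ i, i < 844 → P i := stepQ 843 Q843 (allL N843 (tt N1898 D2596) (tt N1899 D2597) (tt N1900 D2598) (tt N385 (iv3 D1216)) (tt N531 F2270) (tt N1901 D2599) (tt N843 F2271) (tt N533 F2272))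
theorem Q845 : ∀ i, i < 845 → P i := stepQ 844 Q844 (allL N844 (tt N1148 (iv1 F2777)) (tt N1145 (iv0 F2772)) (tt N532 F2273) (tt N1901 (iv3 F4175)) (tt N1835 (iv4 F4022)) (tt N385 (iv5 D1217)) (tt N1902 D2600) (tt N534 F2274))
theorem Q846 : ∀ i, i < 846 → P i := stepQ 845 Q845 (allL N845 (tt N1903 D2601) (tt N1904 D2602) (tt N1905 D2603) (tt N386 (iv3 D1218)) (tt N533 F2275) (tt N1906 D2604) (tt N1907 D2605) (tt N531 F2276))
theorem Q847 : ∀ i, i < 847 → P i := stepQ 846 Q846 (allL N846 (tt N1145 (iv1 F2773)) (tt N1148 (iv0 F2776)) (tt N534 F2277) (tt N1906 (iv3 F4186)) (tt N1832 (iv4 F4015)) (tt N386 (iv5 D1219)) (tt N1908 D2606) (tt N532 F2278))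
theorem Q848 : ∀ i, i < 848 → P i := stepQ 847 Q847 (allL N847 (tt N1194 (iv1 F2825)) (tt N1193 F2824) (tt N535 F2279) (tt N1907 (iv3 F4188)) (tt N387 F2280) (tt N1909 D2607) (tt N386 (iv6 D1220)) (tt N847 F2281))
theorem Q849 : ∀ i, i < 849 → P i := stepQ 848 Q848 (allL N848 (tt N1910 D2608) (tt N1911 D2609) (tt N1912 D2610) (tt N388 (iv3 D1221)) (tt N848 F2282) (tt N1913 D2611) (tt N848 F2283) (tt N540 F2284))
theorem Q850 : ∀ i, i < 850 → P i := stepQ 849 Q849 (allL N849 (tt N502 F2287) (tt N1142 (iv0 F2766)) (tt N539 F2285) (tt N1913 (iv3 F4202)) (tt N1826 (iv4 F4000)) (tt N388 (iv5 D1222)) (tt N1914 D2612) (tt N542 F2286))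
theorem Q851 : ∀ i, i < 851 → P i := stepQ 850 Q850 (allL N850 (tt N1142 (iv1 F2767)) (tt N502 F2290) (tt N542 F2288) (tt N1431 (iv3 F3241)) (tt N1824 (iv4 F3996)) (tt N389 (iv5 D1223)) (tt N1915 D2613) (tt N539 F2289))
theorem Q852 : ∀ i, i < 852 → P i := stepQ 851 Q851 (allL N851 (tt N1196 (iv1 F3101)) (tt N1195 (iv0 F3091)) (tt N543 F2291) (tt N1432 (iv3 F3243)) (tt N565 F2292) (tt N1916 D2614) (tt N389 (iv6 D1224)) (tt N851 F2293))
theorem Q853 : ∀ i, i < 853 → P i := stepQ 852 Q852 (allL N852 (tt N1917 D2615) (tt N390 (iv0 D1225)) (tt N1918 D2616) (tt N1919 D2617) (tt N1920 D2618) (tt N1921 D2619) (tt N852 F7207) (tt N1922 D2621))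
theorem Q854 : ∀ i, i < 854 → P i := stepQ 853 Q853 (allL N853 (tt N390 (iv1 D1226)) (tt N1917 F4213) (tt N1922 (iv2 F4216)) (tt N1923 D2622) (tt N1924 D2623) (tt N1925 D2624) (tt N1926 D2625) (tt N1918 F4214))
theorem Q855 : ∀ i, i < 855 → P i := stepQ 854 Q854 (allL N854 (tt N1918 (iv1 F6467)) (tt N1922 (iv0 F6461)) (tt N390 (iv2 D1227)) (tt N546 F2294) (tt N854 F2295) (tt N1927 D2628) (tt N1859 (iv6 F4067)) (tt N1917 (iv7 F4212)))
theorem Q856 : ∀ i, i < 856 → P i := stepQ 855 Q855 (allL N855 (tt N1928 D2629) (tt N1929 D2630) (tt N1927 (iv2 F4220)) (tt N391 F2296) (tt N1930 D2631) (tt N390 (iv5 D1228)) (tt N1931 D2632) (tt N1932 D2633))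
theorem Q857 : ∀ i, i < 857 → P i := stepQ 856 Q856 (allL N856 (tt N1922 (iv1 F6462)) (tt N1918 (iv0 F6466)) (tt N1917 F4209) (tt N392 F2297) (tt N856 F2298) (tt N1932 (iv5 F4224)) (tt N1933 D2634) (tt N390 (iv7 D1229)))
theorem Q858 : ∀ i, i < 858 → P i := stepQ 857 Q857 (allL N857 (tt N553 (iv1 F2302)) (tt N391 (iv0 D1230)) (tt N549 (iv2 F2300)) (tt N1934 D2635) (tt N1817 (iv4 F3976)) (tt N561 F2299) (tt N1935 D2636) (tt N550 (iv7 F2301)))
theorem Q859 : ∀ i, i < 859 → P i := stepQ 858 Q858 (allL N858 (tt N391 (iv1 D1231)) (tt N553 F2303) (tt N550 (iv2 F2306)) (tt N1936 D2637) (tt N1811 (iv4 F3961)) (tt N563 F2305) (tt N1937 D2638) (tt N549 F2304))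
theorem Q860 : ∀ i, i < 860 → P i := stepQ 859 Q859 (allL N859 (tt N1843 (iv1 F4038)) (tt N1842 F4035) (tt N551 F2307) (tt N1938 D2639) (tt N391 (iv4 D1232)) (tt N475 F2308) (tt N1939 D2640) (tt N474 (iv7 F2309)))
theorem Q861 : ∀ i, i < 861 → P i := stepQ 860 Q860 (allL N860 (tt N1940 D2641) (tt N1941 D2642) (tt N552 F2310) (tt N1931 (iv3 F4222)) (tt N1939 (iv4 F4236)) (tt N1862 (iv5 F4075)) (tt N391 (iv6 D1233)) (tt N1942 D2643))
theorem Q862 : ∀ i, i < 862 → P i := stepQ 861 Q861 (allL N861 (tt N550 (iv1 F2314)) (tt N549 F2315) (tt N553 F2311) (tt N1932 (iv3 F4223)) (tt N474 F2312) (tt N392 F2313) (tt N1943 D2644) (tt N391 (iv7 D1234)))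
theorem Q863 : ∀ i, i < 863 → P i := stepQ 862 Q862 (allL N862 (tt N1114 F2717) (tt N1944 D2645) (tt N554 F2316) (tt N1933 (iv3 F4225)) (tt N393 F2317) (tt N1945 D2646) (tt N392 (iv6 D1235)) (tt N1143 (iv7 F2770)))
theorem Q864 : ∀ i, i < 864 → P i := stepQ 863 Q863 (allL N863 (tt N394 (iv1 D1236)) (tt N864 F2327) (tt N740 (iv2 F2321)) (tt N1946 D2647) (tt N703 F2319) (tt N736 F2318) (tt N1947 D2648) (tt N863 F2320))
theorem Q865 : ∀ i, i < 865 → P i := stepQ 864 Q864 (allL N864 (tt N863 (iv1 F2327)) (tt N740 F2326) (tt N394 (iv2 D1237)) (tt N690 F2322) (tt N864 F2323) (tt N690 F2324) (tt N1948 D2649) (tt N864 F2325))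
theorem Q866 : ∀ i, i < 866 → P i := stepQ 865 Q865 (allL N865 (tt N1949 D2650) (tt N1950 D2651) (tt N1948 (iv2 F4254)) (tt N395 F2328) (tt N865 F2329) (tt N1951 D2652) (tt N394 (iv6 D1238)) (tt N1952 D2653))
theorem Q867 : ∀ i, i < 867 → P i := stepQ 866 Q866 (allL N866 (tt N1953 D2664) (tt N1954 D2665) (tt N880 (iv2 F2361)) (tt N1951 (iv3 F4257)) (tt N1955 D2666) (tt N395 (iv5 D1241)) (tt N880 (iv6 F2362)) (tt N1956 D2667))
theorem Q868 : ∀ i, i < 868 → P i := stepQ 867 Q867 (allL N867 (tt N733 F5082) (tt N730 (iv0 F5084)) (tt N881 (iv2 F2363)) (tt N1952 (iv3 F4258)) (tt N398 F2330) (tt N1956 (iv5 F4263)) (tt N867 F2331) (tt N395 (iv7 D1242)))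
theorem Q869 : ∀ i, i < 869 → P i := stepQ 868 Q868 (allL N868 (tt N743 F9982) (tt N737 (iv0 F9983)) (tt N729 (iv2 F9985)) (tt N396 (iv3 D1244)) (tt N1957 D2677) (tt N1958 D2678) (tt N1959 D2679) (tt N742 (iv7 F9984)))
theorem Q870 : ∀ i, i < 870 → P i := stepQ 869 Q869 (allL N869 (tt N1014 F2570) (tt N792 (iv0 F3856)) (tt N882 F4561) (tt N1958 (iv3 F4272)) (tt N1960 D2687) (tt N396 (iv5 D1246)) (tt N1789 F3860) (tt N884 F4562))
theorem Q871 : ∀ i, i < 871 → P i := stepQ 870 Q870 (allL N870 (tt N1098 (iv1 F4636)) (tt N1961 D2690) (tt N883 F4573) (tt N1959 (iv3 F4273)) (tt N1636 (iv4 F4959)) (tt N952 F2474) (tt N396 (iv6 D1247)) (tt N1962 D2691))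
theorem Q872 : ∀ i, i < 872 → P i := stepQ 871 Q871 (allL N871 (tt N792 F3903) (tt N1014 (iv0 F3901)) (tt N884 (iv2 F4558)) (tt N734 F10026) (tt N1963 D2702) (tt N397 (iv5 D1251)) (tt N430 (iv6 F2334)) (tt N882 (iv7 F4559)))
theorem Q873 : ∀ i, i < 873 → P i := stepQ 872 Q872 (allL N872 (tt N1016 F3902) (tt N1020 (iv0 F4610)) (tt N885 (iv2 F4565)) (tt N735 F10027) (tt N1639 (iv4 F4969)) (tt N1785 (iv5 F3853)) (tt N397 (iv6 D1252)) (tt N1964 D2704))
theorem Q874 : ∀ i, i < 874 → P i := stepQ 873 Q873 (allL N873 (tt N786 (iv1 F9903)) (tt N451 (iv0 F9904)) (tt N873 F2335) (tt N688 F2336) (tt N402 F2337) (tt N1965 D2707) (tt N399 (iv6 D1253)) (tt N1006 (iv7 F9914)))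
theorem Q875 : ∀ i, i < 875 → P i := stepQ 874 Q874 (allL N874 (tt N802 F2340) (tt N468 F2342) (tt N874 F2338) (tt N689 F2339) (tt N1966 D2709) (tt N400 (iv5 D1256)) (tt N1965 (iv6 F4295)) (tt N1039 (iv7 F2594)))
theorem Q876 : ∀ i, i < 876 → P i := stepQ 875 Q875 (allL N875 (tt N1849 F10280) (tt N1095 F10281) (tt N875 F2349) (tt N697 F2350) (tt N427 F2351) (tt N1967 D2712) (tt N401 (iv6 D1258)) (tt N1968 D2713))
theorem Q877 : ∀ i, i < 877 → P i := stepQ 876 Q876 (allL N876 (tt N878 (iv1 F2356)) (tt N402 (iv0 D1259)) (tt N876 F9920) (tt N705 (iv3 F9929)) (tt N786 (iv4 F9921)) (tt N1969 D2717) (tt N1970 D2718) (tt N877 (iv7 F9927)))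
theorem Q878 : ∀ i, i < 878 → P i := stepQ 877 Q877 (allL N877 (tt N402 (iv1 D1260)) (tt N878 F2357) (tt N877 F9926) (tt N1563 (iv3 F9928)) (tt N451 (iv4 F9932)) (tt N1971 D2722) (tt N1972 D2723) (tt N876 F9927))
theorem Q879 : ∀ i, i < 879 → P i := stepQ 878 Q878 (allL N878 (tt N877 (iv1 F2357)) (tt N876 F2356) (tt N878 F2352) (tt N407 F2353) (tt N1006 F9918) (tt N878 F2354) (tt N878 F2355) (tt N402 (iv7 D1261)))
theorem Q880 : ∀ i, i < 880 → P i := stepQ 879 Q879 (allL N879 (tt N1739 (iv1 F9906)) (tt N1742 (iv0 F9907)) (tt N1551 (iv2 F3447)) (tt N404 F2358) (tt N688 F2359) (tt N1973 D2726) (tt N403 (iv6 D1262)) (tt N1974 D2727))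
theorem Q881 : ∀ i, i < 881 → P i := stepQ 880 Q880 (allL N880 (tt N1975 D2738) (tt N1976 D2739) (tt N866 F2361) (tt N1973 (iv3 F4317)) (tt N1977 D2740) (tt N404 (iv5 D1265)) (tt N866 F2362) (tt N1978 D2741))
theorem Q882 : ∀ i, i < 882 → P i := stepQ 881 Q881 (allL N881 (tt N756 F7711) (tt N752 F7712) (tt N867 F2363) (tt N1974 (iv3 F4319)) (tt N407 F2364) (tt N1978 (iv5 F4328)) (tt N881 F2365) (tt N404 (iv7 D1266)))
theorem Q883 : ∀ i, i < 883 → P i := stepQ 882 Q882 (allL N882 (tt N1795 F3865) (tt N454 (iv0 F2559)) (tt N869 (iv2 F4561)) (tt N753 (iv3 F10028)) (tt N1979 D2761) (tt N405 (iv5 D1270)) (tt N1003 F2563) (tt N871 F4559))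
theorem Q884 : ∀ i, i < 884 → P i := stepQ 883 Q883 (allL N883 (tt N1852 (iv1 F4694)) (tt N1980 D2764) (tt N870 (iv2 F4573)) (tt N754 (iv3 F10029)) (tt N1689 (iv4 F4872)) (tt N933 F2448) (tt N405 (iv6 D1271)) (tt N1981 D2765))
theorem Q885 : ∀ i, i < 885 → P i := stepQ 884 Q884 (allL N884 (tt N454 F3872) (tt N1795 F3873) (tt N871 F4558) (tt N1677 F10005) (tt N1982 D2776) (tt N406 (iv5 D1275)) (tt N423 (iv6 F2371)) (tt N869 (iv7 F4562)))
theorem Q886 : ∀ i, i < 886 → P i := stepQ 885 Q885 (allL N885 (tt N1798 F3938) (tt N1094 (iv0 F4626)) (tt N872 F4565) (tt N1678 F10006) (tt N1692 (iv4 F4880)) (tt N999 (iv5 F2556)) (tt N406 (iv6 D1276)) (tt N1983 D2778))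
theorem Q887 : ∀ i, i < 887 → P i := stepQ 886 Q886 (allL N886 (tt N1984 D2779) (tt N1985 D2780) (tt N1545 (iv2 F3440)) (tt N409 F2372) (tt N1726 (iv4 F3760)) (tt N1986 D2781) (tt N408 (iv6 D1277)) (tt N1987 D2782))
theorem Q888 : ∀ i, i < 888 → P i := stepQ 887 Q887 (allL N887 (tt N894 (iv1 F2384)) (tt N409 (iv0 D1278)) (tt N891 F7979) (tt N1717 F7721) (tt N941 (iv4 F7722)) (tt N1988 D2786) (tt N757 F2373) (tt N892 (iv7 F7988)))
theorem Q889 : ∀ i, i < 889 → P i := stepQ 888 Q888 (allL N888 (tt N409 (iv1 D1279)) (tt N894 F2383) (tt N892 (iv2 F7987)) (tt N424 (iv3 F10058)) (tt N942 (iv4 F7731)) (tt N1989 D2790) (tt N1990 D2791) (tt N891 F7985))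
theorem Q890 : ∀ i, i < 890 → P i := stepQ 889 Q889 (allL N889 (tt N1991 D2792) (tt N1704 (iv0 F3706)) (tt N893 (iv2 F2378)) (tt N1986 (iv3 F4361)) (tt N1061 (iv4 F2620)) (tt N409 (iv5 D1280)) (tt N417 F2374) (tt N1992 D2793))
theorem Q891 : ∀ i, i < 891 → P i := stepQ 890 Q890 (allL N890 (tt N892 (iv1 F2377)) (tt N891 F2382) (tt N894 (iv2 F2380)) (tt N1987 (iv3 F4363)) (tt N960 (iv4 F2492)) (tt N1992 (iv5 F4376)) (tt N890 F2375) (tt N409 (iv7 D1281)))
theorem Q892 : ∀ i, i < 892 → P i := stepQ 891 Q891 (allL N891 (tt N890 (iv1 F2382)) (tt N410 (iv0 D1282)) (tt N887 (iv2 F7979)) (tt N430 (iv3 F10039)) (tt N922 (iv4 F5097)) (tt N1993 D2797) (tt N734 F2376) (tt N888 (iv7 F7985)))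
theorem Q893 : ∀ i, i < 893 → P i := stepQ 892 Q892 (allL N892 (tt N410 (iv1 D1283)) (tt N890 F2377) (tt N888 F7987) (tt N1722 (iv3 F5103)) (tt N923 (iv4 F5104)) (tt N1994 D2801) (tt N1995 D2802) (tt N887 F7988))
theorem Q894 : ∀ i, i < 894 → P i := stepQ 893 Q893 (allL N893 (tt N1996 D2803) (tt N1654 (iv0 F3616)) (tt N889 F2378) (tt N1718 (iv3 F3715)) (tt N1833 (iv4 F4019)) (tt N410 (iv5 D1284)) (tt N485 F2379) (tt N1997 D2804))
theorem Q895 : ∀ i, i < 895 → P i := stepQ 894 Q894 (allL N894 (tt N888 (iv1 F2383)) (tt N887 F2384) (tt N890 F2380) (tt N1719 (iv3 F3717)) (tt N966 (iv4 F2510)) (tt N1997 (iv5 F4390)) (tt N894 F2381) (tt N410 (iv7 D1285)))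
theorem Q896 : ∀ i, i < 896 → P i := stepQ 895 Q895 (allL N895 (tt N897 (iv1 F2387)) (tt N411 (iv0 D1286)) (tt N896 F3752) (tt N1998 D2805) (tt N1999 D2806) (tt N1528 (iv5 F3750)) (tt N2000 D2807) (tt N895 F3751))
theorem Q897 : ∀ i, i < 897 → P i := stepQ 896 Q896 (allL N896 (tt N411 (iv1 D1287)) (tt N897 F2388) (tt N895 (iv2 F3752)) (tt N1668 (iv3 F3755)) (tt N2001 D2808) (tt N1529 F3754) (tt N2002 D2809) (tt N896 F3753))
theorem Q898 : ∀ i, i < 898 → P i := stepQ 897 Q897 (allL N897 (tt N896 (iv1 F2388)) (tt N895 F2387) (tt N411 (iv2 D1288)) (tt N1530 (iv3 F3411)) (tt N440 F2385) (tt N1595 (iv5 F3529)) (tt N2003 D2810) (tt N897 F2386))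
theorem Q899 : ∀ i, i < 899 → P i := stepQ 898 Q898 (allL N898 (tt N2004 D2811) (tt N2005 D2812) (tt N2003 (iv2 F4405)) (tt N412 F2389) (tt N442 F2390) (tt N2006 D2813) (tt N411 (iv6 D1289)) (tt N2007 D2814))
theorem Q900 : ∀ i, i < 900 → P i := stepQ 899 Q899 (allL N899 (tt N2008 D2825) (tt N2009 D2826) (tt N1532 (iv2 F3418)) (tt N2006 (iv3 F4407)) (tt N2010 D2827) (tt N412 (iv5 D1292)) (tt N1597 (iv6 F3534)) (tt N2011 D2828))
theorem Q901 : ∀ i, i < 901 → P i := stepQ 900 Q900 (allL N900 (tt N452 (iv1 F5057)) (tt N448 F5052) (tt N1533 (iv2 F3419)) (tt N2007 (iv3 F4408)) (tt N416 F2391) (tt N2011 (iv5 F4413)) (tt N900 F2392) (tt N412 (iv7 D1293)))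
theorem Q902 : ∀ i, i < 902 → P i := stepQ 901 Q901 (allL N901 (tt N1548 F9936) (tt N691 (iv0 F9939)) (tt N1546 F9899) (tt N413 (iv3 D1295)) (tt N1735 (iv4 F5175)) (tt N2012 D2839) (tt N2013 D2840) (tt N1536 (iv7 F4450)))
theorem Q903 : ∀ i, i < 903 → P i := stepQ 902 Q902 (allL N902 (tt N1714 F3713) (tt N2014 D2848) (tt N1534 (iv2 F4445)) (tt N2012 (iv3 F4422)) (tt N2015 D2849) (tt N413 (iv5 D1297)) (tt N2016 D2850) (tt N1537 (iv7 F4454)))
theorem Q904 : ∀ i, i < 904 → P i := stepQ 903 Q903 (allL N903 (tt N1995 (iv1 F7995)) (tt N1702 (iv0 F3702)) (tt N1535 (iv2 F4440)) (tt N2013 (iv3 F4423)) (tt N988 F4907) (tt N1605 F3541) (tt N413 (iv6 D1298)) (tt N2017 D2853))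
theorem Q905 : ∀ i, i < 905 → P i := stepQ 904 Q904 (allL N904 (tt N677 (iv1 F4912)) (tt N771 (iv0 F4913)) (tt N769 (iv2 F5118)) (tt N414 (iv3 D1300)) (tt N2018 D2858) (tt N2019 D2859) (tt N2020 D2860) (tt N768 (iv7 F5119)))
theorem Q906 : ∀ i, i < 906 → P i := stepQ 905 Q905 (allL N905 (tt N2014 (iv1 F4430)) (tt N1714 (iv0 F4370)) (tt N1537 (iv2 F4453)) (tt N2019 (iv3 F4463)) (tt N2021 D2864) (tt N414 (iv5 D1302)) (tt N1604 (iv6 F3540)) (tt N1534 (iv7 F4446)))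
theorem Q907 : ∀ i, i < 907 → P i := stepQ 906 Q906 (allL N906 (tt N753 F4371) (tt N757 F4372) (tt N1538 (iv2 F4455)) (tt N2020 (iv3 F4464)) (tt N991 (iv4 F4903)) (tt N1650 (iv5 F3610)) (tt N414 (iv6 D1303)) (tt N1650 F4458))
theorem Q908 : ∀ i, i < 908 → P i := stepQ 907 Q907 (allL N907 (tt N1542 (iv1 F3434)) (tt N415 (iv0 D1304)) (tt N1539 (iv2 F7878)) (tt N2022 D2866) (tt N1022 (iv4 F4911)) (tt N1660 (iv5 F3621)) (tt N2023 D2868) (tt N1540 F7877))
theorem Q909 : ∀ i, i < 909 → P i := stepQ 908 Q908 (allL N908 (tt N415 (iv1 D1305)) (tt N1542 F3433) (tt N1540 F7874) (tt N2024 D2870) (tt N1023 (iv4 F4938)) (tt N1601 (iv5 F3538)) (tt N2025 D2872) (tt N1539 (iv7 F7879)))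
theorem Q910 : ∀ i, i < 910 → P i := stepQ 909 Q909 (allL N909 (tt N1797 (iv1 F5276)) (tt N1800 (iv0 F4926)) (tt N1541 (iv2 F3428)) (tt N2026 D2875) (tt N415 (iv4 D1306)) (tt N2027 D2876) (tt N419 F2395) (tt N2028 D2877))
theorem Q911 : ∀ i, i < 911 → P i := stepQ 910 Q910 (allL N910 (tt N1540 (iv1 F3427)) (tt N1539 F3432) (tt N1542 (iv2 F3430)) (tt N458 F2396) (tt N2028 (iv4 F4470)) (tt N416 F2397) (tt N2029 D2878) (tt N415 (iv7 D1307)))
theorem Q912 : ∀ i, i < 912 → P i := stepQ 911 Q911 (allL N911 (tt N1127 F3464) (tt N693 (iv0 F2399)) (tt N1549 F3445) (tt N417 (iv3 D1308)) (tt N1757 (iv4 F3810)) (tt N481 F2398) (tt N1986 (iv6 F4362)) (tt N1109 (iv7 F2709)))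
theorem Q913 : ∀ i, i < 913 → P i := stepQ 912 Q912 (allL N912 (tt N679 F2422) (tt N777 (iv0 F2423)) (tt N775 F2736) (tt N418 (iv3 D1309)) (tt N2030 D2879) (tt N814 F2420) (tt N2031 D2880) (tt N774 F2421))
theorem Q914 : ∀ i, i < 914 → P i := stepQ 913 Q913 (allL N913 (tt N2032 D2881) (tt N2033 D2882) (tt N1110 (iv2 F2711)) (tt N2031 (iv3 F4478)) (tt N1064 (iv4 F2622)) (tt N913 F2424) (tt N418 (iv6 D1310)) (tt N2034 D2883))
theorem Q915 : ∀ i, i < 915 → P i := stepQ 914 Q914 (allL N914 (tt N2035 D2884) (tt N2036 D2885) (tt N2037 D2886) (tt N419 (iv3 D1311)) (tt N473 F2425) (tt N2038 D2887) (tt N2026 (iv6 F4469)) (tt N2039 D2888))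
theorem Q916 : ∀ i, i < 916 → P i := stepQ 915 Q915 (allL N915 (tt N1811 (iv1 F3963)) (tt N1817 (iv0 F3978)) (tt N1544 (iv2 F3435)) (tt N2038 (iv3 F4483)) (tt N1154 (iv4 F2781)) (tt N419 (iv5 D1312)) (tt N2040 D2889) (tt N2041 D2890))
theorem Q917 : ∀ i, i < 917 → P i := stepQ 916 Q916 (allL N916 (tt N469 (iv1 F2427)) (tt N467 F2428) (tt N1125 (iv2 F2737)) (tt N2039 (iv3 F4484)) (tt N420 F2426) (tt N2041 (iv5 F4488)) (tt N2042 D2891) (tt N419 (iv7 D1313)))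
theorem Q918 : ∀ i, i < 918 → P i := stepQ 917 Q917 (allL N917 (tt N2043 D2892) (tt N2044 D2893) (tt N1126 (iv2 F2741)) (tt N476 F2429) (tt N2042 (iv4 F4491)) (tt N917 F2430) (tt N420 (iv6 D1314)) (tt N2029 (iv7 F4473)))
theorem Q919 : ∀ i, i < 919 → P i := stepQ 918 Q918 (allL N918 (tt N920 (iv1 F2440)) (tt N421 (iv0 D1315)) (tt N919 F2434) (tt N2045 D2894) (tt N1728 (iv4 F3765)) (tt N759 F2431) (tt N2046 D2895) (tt N918 F2432))
theorem Q920 : ∀ i, i < 920 → P i := stepQ 919 Q919 (allL N919 (tt N421 (iv1 D1316)) (tt N920 F2441) (tt N918 (iv2 F2434)) (tt N2047 D2896) (tt N1725 (iv4 F3733)) (tt N761 F2433) (tt N2048 D2897) (tt N919 F2435))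
theorem Q921 : ∀ i, i < 921 → P i := stepQ 920 Q920 (allL N920 (tt N919 (iv1 F2441)) (tt N918 F2440) (tt N421 (iv2 D1317)) (tt N698 F2436) (tt N920 F2437) (tt N698 F2438) (tt N2049 D2898) (tt N920 F2439))
theorem Q922 : ∀ i, i < 922 → P i := stepQ 921 Q921 (allL N921 (tt N2050 D2899) (tt N2051 D2900) (tt N2049 (iv2 F4508)) (tt N422 F2442) (tt N921 F2443) (tt N2052 D2901) (tt N421 (iv6 D1318)) (tt N2053 D2902))
theorem Q923 : ∀ i, i < 923 → P i := stepQ 922 Q922 (allL N922 (tt N944 (iv1 F2470)) (tt N422 (iv0 D1319)) (tt N941 (iv2 F7986)) (tt N2054 D2904) (tt N891 F5097) (tt N2055 D2906) (tt N1659 (iv6 F5099)) (tt N942 (iv7 F7989)))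
theorem Q924 : ∀ i, i < 924 → P i := stepQ 923 Q923 (allL N923 (tt N422 (iv1 D1320)) (tt N944 F2469) (tt N942 F7992) (tt N2056 D2909) (tt N892 F5104) (tt N2057 D2911) (tt N2058 D2912) (tt N941 F7993))
theorem Q925 : ∀ i, i < 925 → P i := stepQ 924 Q924 (allL N924 (tt N2059 D2913) (tt N2060 D2914) (tt N943 (iv2 F2463)) (tt N2052 (iv3 F4511)) (tt N2061 D2915) (tt N422 (iv5 D1321)) (tt N943 (iv6 F2464)) (tt N2062 D2916))
theorem Q926 : ∀ i, i < 926 → P i := stepQ 925 Q925 (allL N925 (tt N942 (iv1 F2462)) (tt N941 F2468) (tt N944 (iv2 F2465)) (tt N2053 (iv3 F4512)) (tt N426 F2444) (tt N2062 (iv5 F4519)) (tt N925 F2445) (tt N422 (iv7 D1322)))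
theorem Q927 : ∀ i, i < 927 → P i := stepQ 926 Q926 (allL N926 (tt N1719 (iv1 F10031)) (tt N762 (iv0 F10032)) (tt N1717 (iv2 F10033)) (tt N423 (iv3 D1324)) (tt N2063 D2925) (tt N2064 D2926) (tt N1677 F10010) (tt N947 (iv7 F4546)))
theorem Q928 : ∀ i, i < 928 → P i := stepQ 927 Q927 (allL N927 (tt N966 F4888) (tt N435 (iv0 F4889)) (tt N945 (iv2 F4554)) (tt N2065 D2930) (tt N423 (iv4 D1325)) (tt N2066 D2931) (tt N1982 (iv6 F4360)) (tt N948 (iv7 F4548)))
theorem Q929 : ∀ i, i < 929 → P i := stepQ 928 Q928 (allL N928 (tt N2067 D2933) (tt N2068 D2934) (tt N946 (iv2 F4556)) (tt N2064 (iv3 F4527)) (tt N2069 D2935) (tt N423 (iv5 D1326)) (tt N999 F2557) (tt N949 (iv7 F4550)))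
theorem Q930 : ∀ i, i < 930 → P i := stepQ 929 Q929 (allL N929 (tt N435 (iv1 F4890)) (tt N966 F4887) (tt N948 (iv2 F4547)) (tt N2070 D2943) (tt N424 (iv4 D1329)) (tt N2071 D2944) (tt N2072 D2945) (tt N945 (iv7 F4555)))
theorem Q931 : ∀ i, i < 931 → P i := stepQ 930 Q930 (allL N930 (tt N2068 (iv1 F4534)) (tt N2067 F4538) (tt N949 (iv2 F4549)) (tt N1989 (iv3 F10059)) (tt N2073 D2946) (tt N424 (iv5 D1330)) (tt N1046 (iv6 F2608)) (tt N946 (iv7 F4557)))
theorem Q932 : ∀ i, i < 932 → P i := stepQ 931 Q931 (allL N931 (tt N1005 F4539) (tt N789 F4540) (tt N950 (iv2 F4543)) (tt N1990 (iv3 F10060)) (tt N2072 (iv4 F4639)) (tt N2074 D2947) (tt N424 (iv6 D1331)) (tt N1003 (iv7 F4351)))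
theorem Q933 : ∀ i, i < 933 → P i := stepQ 932 Q932 (allL N932 (tt N954 (iv1 F2481)) (tt N425 (iv0 D1332)) (tt N951 (iv2 F4583)) (tt N2075 D2948) (tt N2076 D2949) (tt N1962 (iv5 F4584)) (tt N2077 D2950) (tt N952 F4582))
theorem Q934 : ∀ i, i < 934 → P i := stepQ 933 Q933 (allL N933 (tt N425 (iv1 D1333)) (tt N954 F2480) (tt N952 F4575) (tt N1704 (iv3 F10046)) (tt N2078 D2952) (tt N883 (iv5 F2448)) (tt N2079 D2953) (tt N951 (iv7 F4581)))
theorem Q935 : ∀ i, i < 935 → P i := stepQ 934 Q934 (allL N934 (tt N2080 D2954) (tt N2081 D2955) (tt N953 (iv2 F2475)) (tt N2082 D2956) (tt N425 (iv4 D1334)) (tt N2083 D2957) (tt N467 F2449) (tt N2084 D2958))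
theorem Q936 : ∀ i, i < 936 → P i := stepQ 935 Q935 (allL N935 (tt N952 (iv1 F2473)) (tt N951 F2479) (tt N954 (iv2 F2477)) (tt N935 F2450) (tt N2084 (iv4 F4649)) (tt N426 F2451) (tt N1830 (iv6 F4008)) (tt N425 (iv7 D1335)))
theorem Q937 : ∀ i, i < 937 → P i := stepQ 936 Q936 (allL N936 (tt N939 (iv1 F2458)) (tt N427 (iv0 D1336)) (tt N936 F10091) (tt N1984 (iv3 F10085)) (tt N1849 F10283) (tt N2085 D2962) (tt N1971 F4316) (tt N937 (iv7 F10093)))
theorem Q938 : ∀ i, i < 938 → P i := stepQ 937 Q937 (allL N937 (tt N427 (iv1 D1337)) (tt N939 F2459) (tt N937 F10092) (tt N2086 D2964) (tt N1095 F10282) (tt N2087 D2966) (tt N2088 D2967) (tt N936 F10093))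
theorem Q939 : ∀ i, i < 939 → P i := stepQ 938 Q938 (allL N938 (tt N2089 D2968) (tt N2090 D2969) (tt N938 F2452) (tt N432 F2453) (tt N2091 D2970) (tt N427 (iv5 D1338)) (tt N802 F2454) (tt N2092 D2971))
theorem Q940 : ∀ i, i < 940 → P i := stepQ 939 Q939 (allL N939 (tt N937 (iv1 F2459)) (tt N936 F2458) (tt N939 F2455) (tt N433 F2456) (tt N1968 (iv4 F4310)) (tt N2092 (iv5 F4657)) (tt N939 F2457) (tt N427 (iv7 D1339)))
theorem Q941 : ∀ i, i < 941 → P i := stepQ 940 Q940 (allL N940 (tt N2093 D2972) (tt N2094 D2973) (tt N1569 (iv2 F3499)) (tt N429 F2460) (tt N697 F2461) (tt N2095 D2974) (tt N428 (iv6 D1340)) (tt N2096 D2975))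
theorem Q942 : ∀ i, i < 942 → P i := stepQ 941 Q941 (allL N941 (tt N925 (iv1 F2468)) (tt N429 (iv0 D1341)) (tt N922 F7986) (tt N2097 D2977) (tt N887 F7722) (tt N2098 D2979) (tt N1712 (iv6 F7726)) (tt N923 (iv7 F7993)))
theorem Q943 : ∀ i, i < 943 → P i := stepQ 942 Q942 (allL N942 (tt N429 (iv1 D1342)) (tt N925 F2462) (tt N923 (iv2 F7992)) (tt N2099 D2982) (tt N888 F7731) (tt N2100 D2984) (tt N2101 D2985) (tt N922 F7989))
theorem Q944 : ∀ i, i < 944 → P i := stepQ 943 Q943 (allL N943 (tt N2102 D2986) (tt N2103 D2987) (tt N924 F2463) (tt N2095 (iv3 F4660)) (tt N2104 D2988) (tt N429 (iv5 D1343)) (tt N924 F2464) (tt N2105 D2989))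
theorem Q945 : ∀ i, i < 945 → P i := stepQ 944 Q944 (allL N944 (tt N923 (iv1 F2469)) (tt N922 F2470) (tt N925 F2465) (tt N2096 (iv3 F4662)) (tt N433 F2466) (tt N2105 (iv5 F4673)) (tt N944 F2467) (tt N429 (iv7 D1344)))
theorem Q946 : ∀ i, i < 946 → P i := stepQ 945 Q945 (allL N945 (tt N960 (iv1 F4978)) (tt N437 (iv0 F4979)) (tt N927 F4554) (tt N2106 D2997) (tt N430 (iv4 D1347)) (tt N2107 D2998) (tt N1963 (iv6 F4292)) (tt N929 F4555))
theorem Q947 : ∀ i, i < 947 → P i := stepQ 946 Q946 (allL N946 (tt N2108 D2999) (tt N2109 D3000) (tt N928 F4556) (tt N1993 (iv3 F10043)) (tt N2110 D3001) (tt N430 (iv5 D1348)) (tt N1785 F3854) (tt N930 F4557))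
theorem Q948 : ∀ i, i < 948 → P i := stepQ 947 Q947 (allL N947 (tt N760 (iv1 F10049)) (tt N1724 (iv0 F10048)) (tt N1722 (iv2 F10047)) (tt N431 (iv3 D1350)) (tt N2111 D3005) (tt N2112 D3006) (tt N2113 D3007) (tt N926 F4546))
theorem Q949 : ∀ i, i < 949 → P i := stepQ 948 Q948 (allL N948 (tt N437 F4980) (tt N960 F4981) (tt N929 F4547) (tt N2114 D3008) (tt N431 (iv4 D1351)) (tt N2115 D3009) (tt N2116 D3010) (tt N927 F4548))
theorem Q950 : ∀ i, i < 950 → P i := stepQ 949 Q949 (allL N949 (tt N2109 (iv1 F4697)) (tt N2108 F4692) (tt N930 F4549) (tt N2112 (iv3 F4708)) (tt N2117 D3011) (tt N431 (iv5 D1352)) (tt N1819 (iv6 F3982)) (tt N928 F4550))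
theorem Q951 : ∀ i, i < 951 → P i := stepQ 950 Q950 (allL N950 (tt N1790 F4541) (tt N450 F4542) (tt N931 F4543) (tt N2113 (iv3 F4710)) (tt N2116 (iv4 F4715)) (tt N2118 D3012) (tt N431 (iv6 D1353)) (tt N1789 (iv7 F4283)))
theorem Q952 : ∀ i, i < 952 → P i := stepQ 951 Q951 (allL N951 (tt N935 (iv1 F2479)) (tt N432 (iv0 D1354)) (tt N932 F4583) (tt N1996 (iv3 F10061)) (tt N2119 D3014) (tt N1981 F4585) (tt N2120 D3015) (tt N933 F4581))
theorem Q953 : ∀ i, i < 953 → P i := stepQ 952 Q952 (allL N952 (tt N432 (iv1 D1355)) (tt N935 F2473) (tt N933 (iv2 F4575)) (tt N2121 D3016) (tt N2122 D3017) (tt N870 (iv5 F2474)) (tt N2123 D3018) (tt N932 (iv7 F4582)))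
theorem Q954 : ∀ i, i < 954 → P i := stepQ 953 Q953 (allL N953 (tt N2124 D3019) (tt N2125 D3020) (tt N934 F2475) (tt N2126 D3021) (tt N432 (iv4 D1356)) (tt N2127 D3022) (tt N803 F2476) (tt N2128 D3023))
theorem Q955 : ∀ i, i < 955 → P i := stepQ 954 Q954 (allL N954 (tt N933 (iv1 F2480)) (tt N932 F2481) (tt N935 F2477) (tt N2092 (iv3 F4656)) (tt N2128 (iv4 F4740)) (tt N433 F2478) (tt N1058 (iv6 F2618)) (tt N432 (iv7 D1357)))
theorem Q956 : ∀ i, i < 956 → P i := stepQ 955 Q955 (allL N955 (tt N957 (iv1 F2486)) (tt N434 (iv0 D1358)) (tt N956 F2488) (tt N1725 (iv3 F3731)) (tt N2129 D3024) (tt N744 F2482) (tt N2130 D3025) (tt N955 F2483))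
theorem Q957 : ∀ i, i < 957 → P i := stepQ 956 Q956 (allL N956 (tt N434 (iv1 D1359)) (tt N957 F2487) (tt N955 (iv2 F2488)) (tt N2131 D3026) (tt N2132 D3027) (tt N745 (iv5 F2489)) (tt N2133 D3028) (tt N956 F2490))
theorem Q958 : ∀ i, i < 958 → P i := stepQ 957 Q957 (allL N957 (tt N956 (iv1 F2487)) (tt N955 F2486) (tt N434 (iv2 D1360)) (tt N962 (iv3 F2494)) (tt N745 F2484) (tt N962 (iv5 F2495)) (tt N2134 D3029) (tt N957 F2485))
theorem Q959 : ∀ i, i < 959 → P i := stepQ 958 Q958 (allL N958 (tt N2135 D3030) (tt N2136 D3031) (tt N2134 (iv2 F4755)) (tt N435 F2491) (tt N1679 (iv4 F3665)) (tt N2137 D3032) (tt N434 (iv6 D1361)) (tt N2138 D3033))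
theorem Q960 : ∀ i, i < 960 → P i := stepQ 959 Q959 (allL N959 (tt N2139 D3044) (tt N2140 D3045) (tt N965 (iv2 F2507)) (tt N2137 (iv3 F4757)) (tt N2141 D3046) (tt N435 (iv5 D1364)) (tt N965 (iv6 F2508)) (tt N2142 D3047))
theorem Q961 : ∀ i, i < 961 → P i := stepQ 960 Q960 (allL N960 (tt N948 (iv1 F4981)) (tt N945 F4978) (tt N966 (iv2 F2509)) (tt N2138 (iv3 F4758)) (tt N890 F2492) (tt N2142 (iv5 F4764)) (tt N960 F2493) (tt N435 (iv7 D1365)))
theorem Q962 : ∀ i, i < 962 → P i := stepQ 961 Q961 (allL N961 (tt N436 (iv1 D1366)) (tt N962 F2498) (tt N702 (iv2 F2499)) (tt N2143 D3048) (tt N723 F2500) (tt N722 F2501) (tt N2144 D3049) (tt N961 F2502))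
theorem Q963 : ∀ i, i < 963 → P i := stepQ 962 Q962 (allL N962 (tt N961 (iv1 F2498)) (tt N702 F2497) (tt N436 (iv2 D1367)) (tt N957 F2494) (tt N2145 D3050) (tt N957 F2495) (tt N2146 D3051) (tt N962 F2496))
theorem Q964 : ∀ i, i < 964 → P i := stepQ 963 Q963 (allL N963 (tt N2147 D3052) (tt N2148 D3053) (tt N2145 (iv2 F4772)) (tt N759 F2503) (tt N436 (iv4 D1368)) (tt N2045 (iv5 F4493)) (tt N2149 D3054) (tt N963 F2504))
theorem Q965 : ∀ i, i < 965 → P i := stepQ 964 Q964 (allL N964 (tt N2150 D3055) (tt N2151 D3056) (tt N2146 (iv2 F4774)) (tt N437 F2505) (tt N2149 (iv4 F4786)) (tt N2152 D3057) (tt N436 (iv6 D1369)) (tt N2153 D3058))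
theorem Q966 : ∀ i, i < 966 → P i := stepQ 965 Q965 (allL N965 (tt N2154 D3069) (tt N2155 D3070) (tt N959 F2507) (tt N2152 (iv3 F4787)) (tt N2156 D3071) (tt N437 (iv5 D1372)) (tt N959 F2508) (tt N2157 D3072))
theorem Q967 : ∀ i, i < 967 → P i := stepQ 966 Q966 (allL N966 (tt N929 (iv1 F4887)) (tt N927 (iv0 F4888)) (tt N960 F2509) (tt N2153 (iv3 F4789)) (tt N894 F2510) (tt N2157 (iv5 F4799)) (tt N966 F2511) (tt N437 (iv7 D1373)))
theorem Q968 : ∀ i, i < 968 → P i := stepQ 967 Q967 (allL N967 (tt N2143 (iv1 F4769)) (tt N1559 (iv0 F3477)) (tt N968 (iv2 F3756)) (tt N438 (iv3 D1375)) (tt N439 F2516) (tt N1763 (iv5 F3818)) (tt N2158 D3073) (tt N967 F3757))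
theorem Q969 : ∀ i, i < 969 → P i := stepQ 968 Q968 (allL N968 (tt N1559 F3626) (tt N2143 (iv0 F4768)) (tt N967 F3756) (tt N1575 F3736) (tt N438 (iv4 D1376)) (tt N976 (iv5 F3742)) (tt N2159 D3074) (tt N968 F3743))
theorem Q970 : ∀ i, i < 970 → P i := stepQ 969 Q969 (allL N969 (tt N2160 D3075) (tt N2070 (iv0 F22493)) (tt N971 F3758) (tt N2158 (iv3 F4803)) (tt N2159 (iv4 F4806)) (tt N2161 D3077) (tt N438 (iv6 D1378)) (tt N2162 D3078))
theorem Q971 : ∀ i, i < 971 → P i := stepQ 970 Q970 (allL N970 (tt N1728 (iv1 F3768)) (tt N1725 F3737) (tt N1575 F3738) (tt N439 (iv3 D1380)) (tt N1575 F3739) (tt N700 F3740) (tt N2163 D3079) (tt N970 F3741))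
theorem Q972 : ∀ i, i < 972 → P i := stepQ 971 Q971 (allL N971 (tt N2106 F22501) (tt N2164 D3081) (tt N969 (iv2 F3758)) (tt N2163 (iv3 F4808)) (tt N2158 (iv4 F4804)) (tt N2165 D3082) (tt N439 (iv6 D1382)) (tt N2166 D3083))
theorem Q973 : ∀ i, i < 973 → P i := stepQ 972 Q972 (allL N972 (tt N975 (iv1 F2522)) (tt N974 F2521) (tt N441 F2518) (tt N1086 (iv3 F2669)) (tt N1763 (iv4 F3817)) (tt N440 (iv5 D1383)) (tt N2167 D3084) (tt N972 F2519))
theorem Q974 : ∀ i, i < 974 → P i := stepQ 973 Q973 (allL N973 (tt N2168 D3085) (tt N2169 D3086) (tt N442 F2520) (tt N1766 (iv3 F3824)) (tt N2003 (iv4 F4406)) (tt N2170 D3087) (tt N440 (iv6 D1384)) (tt N2171 D3088))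
theorem Q975 : ∀ i, i < 975 → P i := stepQ 974 Q974 (allL N974 (tt N972 (iv1 F2521)) (tt N441 (iv0 D1385)) (tt N975 (iv2 F2526)) (tt N1731 (iv3 F3776)) (tt N1530 (iv4 F3412)) (tt N1084 (iv5 F3488)) (tt N2172 D3089) (tt N974 F2527))
theorem Q976 : ∀ i, i < 976 → P i := stepQ 975 Q975 (allL N975 (tt N441 (iv1 D1386)) (tt N972 F2522) (tt N974 F2526) (tt N676 (iv3 F2523)) (tt N680 F2524) (tt N1085 (iv5 F3484)) (tt N2173 D3090) (tt N975 F2525))
theorem Q977 : ∀ i, i < 977 → P i := stepQ 976 Q976 (allL N976 (tt N2174 D3091) (tt N2131 F4750) (tt N1763 (iv2 F3816)) (tt N701 F2528) (tt N441 (iv4 D1387)) (tt N968 F3742) (tt N2175 D3092) (tt N976 F2529))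
theorem Q978 : ∀ i, i < 978 → P i := stepQ 977 Q977 (allL N977 (tt N2176 D3093) (tt N2177 D3094) (tt N2167 (iv2 F4816)) (tt N443 F2530) (tt N2175 (iv4 F4833)) (tt N2178 D3095) (tt N441 (iv6 D1388)) (tt N2179 D3096))
theorem Q979 : ∀ i, i < 979 → P i := stepQ 978 Q978 (allL N978 (tt N2171 (iv1 F4823)) (tt N442 (iv0 D1389)) (tt N2168 F11162) (tt N2180 D3098) (tt N2181 D3099) (tt N2182 D3100) (tt N2183 D3101) (tt N2169 (iv7 F11168)))
theorem Q980 : ∀ i, i < 980 → P i := stepQ 979 Q979 (allL N979 (tt N442 (iv1 D1390)) (tt N2171 F4822) (tt N2169 (iv2 F11167)) (tt N2184 D3103) (tt N2185 D3104) (tt N2186 D3105) (tt N2187 D3106) (tt N2168 F11166))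
theorem Q981 : ∀ i, i < 981 → P i := stepQ 980 Q980 (allL N980 (tt N2188 D3107) (tt N2189 D3108) (tt N2170 (iv2 F4818)) (tt N446 F2531) (tt N2190 D3109) (tt N442 (iv5 D1391)) (tt N2178 (iv6 F4835)) (tt N2191 D3110))
theorem Q982 : ∀ i, i < 982 → P i := stepQ 981 Q981 (allL N981 (tt N2169 (iv1 F4817)) (tt N2168 F4821) (tt N2171 (iv2 F4819)) (tt N447 F2532) (tt N2007 (iv4 F4409)) (tt N2191 (iv5 F4841)) (tt N981 F2533) (tt N442 (iv7 D1392)))
theorem Q983 : ∀ i, i < 983 → P i := stepQ 982 Q982 (allL N982 (tt N1091 (iv1 F2683)) (tt N443 (iv0 D1393)) (tt N1088 F7846) (tt N2192 D3112) (tt N711 (iv4 F4928)) (tt N2193 D3114) (tt N2194 D3115) (tt N1089 (iv7 F7851)))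
theorem Q984 : ∀ i, i < 984 → P i := stepQ 983 Q983 (allL N983 (tt N443 (iv1 D1394)) (tt N1091 F2682) (tt N1089 (iv2 F7850)) (tt N2195 D3117) (tt N712 (iv4 F4931)) (tt N2196 D3119) (tt N2197 D3120) (tt N1088 F7849))
theorem Q985 : ∀ i, i < 985 → P i := stepQ 984 Q984 (allL N984 (tt N2198 D3121) (tt N2199 D3122) (tt N1090 (iv2 F2676)) (tt N2178 (iv3 F4834)) (tt N2200 D3123) (tt N443 (iv5 D1395)) (tt N446 F2534) (tt N2201 D3124))
theorem Q986 : ∀ i, i < 986 → P i := stepQ 985 Q985 (allL N985 (tt N1089 (iv1 F2675)) (tt N1088 F2681) (tt N1091 (iv2 F2678)) (tt N2179 (iv3 F4836)) (tt N820 F2535) (tt N2201 (iv5 F4847)) (tt N985 F2536) (tt N443 (iv7 D1396)))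
theorem Q987 : ∀ i, i < 987 → P i := stepQ 986 Q986 (allL N986 (tt N2202 D3131) (tt N2133 F19315) (tt N2203 D3133) (tt N444 (iv3 D1398)) (tt N1683 F9978) (tt N2204 D3135) (tt N2205 D3136) (tt N1774 (iv7 F5137)))
theorem Q988 : ∀ i, i < 988 → P i := stepQ 987 Q987 (allL N987 (tt N2206 D3144) (tt N2207 D3145) (tt N1772 (iv2 F5130)) (tt N2204 (iv3 F4856)) (tt N2208 D3146) (tt N444 (iv5 D1400)) (tt N2209 D3147) (tt N1775 (iv7 F5140)))
theorem Q989 : ∀ i, i < 989 → P i := stepQ 988 Q988 (allL N988 (tt N2116 (iv1 F4944)) (tt N2210 D3150) (tt N1773 (iv2 F5132)) (tt N2205 (iv3 F4857)) (tt N903 (iv4 F4907)) (tt N2199 F4845) (tt N444 (iv6 D1401)) (tt N2211 D3151))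
theorem Q990 : ∀ i, i < 990 → P i := stepQ 989 Q989 (allL N989 (tt N1577 F10154) (tt N2212 D3154) (tt N2213 D3155) (tt N445 (iv3 D1403)) (tt N2214 D3156) (tt N2215 D3157) (tt N2216 D3158) (tt N1771 (iv7 F5129)))
theorem Q991 : ∀ i, i < 991 → P i := stepQ 990 Q990 (allL N990 (tt N2207 (iv1 F4896)) (tt N2206 F4899) (tt N1775 (iv2 F5139)) (tt N2215 (iv3 F4949)) (tt N2217 D3159) (tt N445 (iv5 D1405)) (tt N2218 D3160) (tt N1772 (iv7 F5131)))
theorem Q992 : ∀ i, i < 992 → P i := stepQ 991 Q991 (allL N991 (tt N1979 F4901) (tt N1982 F4902) (tt N1776 (iv2 F5143)) (tt N2216 (iv3 F4950)) (tt N906 F4903) (tt N2219 D3161) (tt N445 (iv6 D1406)) (tt N2220 D3162))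
theorem Q993 : ∀ i, i < 993 → P i := stepQ 992 Q992 (allL N992 (tt N1780 (iv1 F3836)) (tt N446 (iv0 D1407)) (tt N1777 (iv2 F7871)) (tt N2221 D3164) (tt N2222 D3165) (tt N2223 D3166) (tt N2224 D3167) (tt N1778 (iv7 F7869)))
theorem Q994 : ∀ i, i < 994 → P i := stepQ 993 Q993 (allL N993 (tt N446 (iv1 D1408)) (tt N1780 F3835) (tt N1778 (iv2 F7868)) (tt N2225 D3169) (tt N2226 D3170) (tt N2194 (iv5 F4843)) (tt N2227 D3171) (tt N1777 (iv7 F7872)))
theorem Q995 : ∀ i, i < 995 → P i := stepQ 994 Q994 (allL N994 (tt N2228 D3172) (tt N2229 D3173) (tt N1779 (iv2 F3831)) (tt N2230 D3174) (tt N446 (iv4 D1409)) (tt N2231 D3175) (tt N2200 (iv6 F4846)) (tt N2232 D3176))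
theorem Q996 : ∀ i, i < 996 → P i := stepQ 995 Q995 (allL N995 (tt N1778 (iv1 F3830)) (tt N1777 F3834) (tt N1780 (iv2 F3832)) (tt N2191 (iv3 F4840)) (tt N2232 (iv4 F5000)) (tt N447 F2539) (tt N2233 D3177) (tt N446 (iv7 D1410)))
theorem Q997 : ∀ i, i < 997 → P i := stepQ 996 Q996 (allL N996 (tt N2234 D3212) (tt N2048 F19359) (tt N2235 D3214) (tt N448 (iv3 D1426)) (tt N996 F5054) (tt N2236 D3215) (tt N2237 D3216) (tt N1791 (iv7 F3919)))
theorem Q998 : ∀ i, i < 998 → P i := stepQ 997 Q997 (allL N997 (tt N2238 D3217) (tt N2239 D3218) (tt N1783 F3911) (tt N2236 (iv3 F5016)) (tt N2240 D3219) (tt N448 (iv5 D1427)) (tt N2241 D3220) (tt N1792 (iv7 F3920)))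
theorem Q999 : ∀ i, i < 999 → P i := stepQ 998 Q998 (allL N998 (tt N2101 (iv1 F7997)) (tt N2242 D3222) (tt N1784 F3908) (tt N2237 (iv3 F5017)) (tt N450 F2552) (tt N2243 D3223) (tt N448 (iv6 D1428)) (tt N2244 D3224))
theorem Q1000 : ∀ i, i < 1000 → P i := stepQ 999 Q999 (allL N999 (tt N453 F2558) (tt N449 (iv0 D1430)) (tt N1785 (iv2 F4625)) (tt N2245 D3225) (tt N2246 D3226) (tt N885 F2556) (tt N928 (iv6 F2557)) (tt N1786 F4624))
theorem Q1001 : ∀ i, i < 1001 → P i := stepQ 1000 Q1000 (allL N1000 (tt N449 (iv1 D1431)) (tt N453 F2560) (tt N1786 (iv2 F4617)) (tt N2014 (iv3 F10045)) (tt N2247 D3228) (tt N1964 F4616) (tt N1820 F4619) (tt N1785 (iv7 F4618)))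
theorem Q1002 : ∀ i, i < 1002 → P i := stepQ 1001 Q1001 (allL N1001 (tt N2248 D3229) (tt N2249 D3230) (tt N1787 F3933) (tt N2250 D3231) (tt N449 (iv4 D1432)) (tt N2251 D3232) (tt N2252 D3233) (tt N1794 (iv7 F3935)))
theorem Q1003 : ∀ i, i < 1003 → P i := stepQ 1002 Q1002 (allL N1002 (tt N2253 D3234) (tt N2254 D3235) (tt N1788 F3934) (tt N1002 F5062) (tt N2252 (iv4 F5028)) (tt N2255 D3236) (tt N449 (iv6 D1433)) (tt N2255 F5033))
theorem Q1004 : ∀ i, i < 1004 → P i := stepQ 1003 Q1003 (allL N1003 (tt N450 (iv1 D1436)) (tt N1790 (iv0 F3905)) (tt N1789 F4632) (tt N1702 (iv3 F10044)) (tt N2210 (iv4 F4941)) (tt N2079 (iv5 F4643)) (tt N882 (iv6 F2563)) (tt N931 F4351))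
theorem Q1005 : ∀ i, i < 1005 → P i := stepQ 1004 Q1004 (allL N1004 (tt N819 F2564) (tt N1102 F2691) (tt N1100 F3896) (tt N1004 F5064) (tt N2256 D3238) (tt N450 (iv5 D1437)) (tt N2255 (iv6 F5031)) (tt N1099 F3874))
theorem Q1006 : ∀ i, i < 1006 → P i := stepQ 1005 Q1005 (allL N1005 (tt N1789 F3904) (tt N931 (iv0 F4539)) (tt N1790 (iv2 F3899)) (tt N1005 F5065) (tt N2244 (iv4 F5020)) (tt N1099 (iv5 F3871)) (tt N1795 F3869) (tt N450 (iv7 D1438)))
theorem Q1007 : ∀ i, i < 1007 → P i := stepQ 1006 Q1006 (allL N1006 (tt N451 (iv1 D1441)) (tt N786 F5068) (tt N1006 F9905) (tt N1548 (iv3 F9917)) (tt N878 (iv4 F9918)) (tt N2257 D3247) (tt N1006 F9919) (tt N873 F9914))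
theorem Q1008 : ∀ i, i < 1008 → P i := stepQ 1007 Q1007 (allL N1007 (tt N2258 D3257) (tt N2259 D3258) (tt N1007 F5071) (tt N453 F2566) (tt N2260 D3259) (tt N451 (iv5 D1444)) (tt N2261 D3260) (tt N1781 F3914))
theorem Q1009 : ∀ i, i < 1009 → P i := stepQ 1008 Q1008 (allL N1008 (tt N1969 (iv1 F10188)) (tt N1971 (iv0 F10189)) (tt N1008 F5072) (tt N454 F2567) (tt N1972 (iv4 F9935)) (tt N2262 D3263) (tt N451 (iv6 D1445)) (tt N2262 F5047))
theorem Q1010 : ∀ i, i < 1010 → P i := stepQ 1009 Q1009 (allL N1009 (tt N741 (iv1 F9959)) (tt N2263 D3265) (tt N1586 (iv2 F9956)) (tt N452 (iv3 D1446)) (tt N1563 F9937) (tt N2264 D3267) (tt N2265 D3268) (tt N1583 F9938))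
theorem Q1011 : ∀ i, i < 1011 → P i := stepQ 1010 Q1010 (allL N1010 (tt N2239 (iv1 F5019)) (tt N2238 F5018) (tt N1792 F3921) (tt N2264 (iv3 F5048)) (tt N2266 D3269) (tt N452 (iv5 D1447)) (tt N2267 D3270) (tt N1783 F3910))
theorem Q1012 : ∀ i, i < 1012 → P i := stepQ 1011 Q1011 (allL N1011 (tt N1651 (iv1 F5078)) (tt N1659 (iv0 F7597)) (tt N1793 (iv2 F3931)) (tt N2265 (iv3 F5049)) (tt N454 F2568) (tt N2268 D3273) (tt N452 (iv6 D1448)) (tt N2269 D3274))
theorem Q1013 : ∀ i, i < 1013 → P i := stepQ 1012 Q1012 (allL N1012 (tt N2249 (iv1 F5027)) (tt N2248 F5026) (tt N1794 F3936) (tt N2270 D3275) (tt N453 (iv4 D1449)) (tt N2271 D3276) (tt N2272 D3277) (tt N1787 F3932))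
theorem Q1014 : ∀ i, i < 1014 → P i := stepQ 1013 Q1013 (allL N1013 (tt N1102 (iv1 F3898)) (tt N819 (iv0 F2569)) (tt N1099 (iv2 F3875)) (tt N2261 (iv3 F5045)) (tt N2272 (iv4 F5214)) (tt N1790 F3897) (tt N453 (iv6 D1450)) (tt N1100 (iv7 F3895)))
theorem Q1015 : ∀ i, i < 1015 → P i := stepQ 1014 Q1014 (allL N1014 (tt N871 F3901) (tt N869 (iv0 F2570)) (tt N1795 F3892) (tt N2262 (iv3 F5046)) (tt N2269 (iv4 F5211)) (tt N454 (iv5 D1452)) (tt N1790 (iv6 F3900)) (tt N454 F3893))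
theorem Q1016 : ∀ i, i < 1016 → P i := stepQ 1015 Q1015 (allL N1015 (tt N2028 F5183) (tt N1541 (iv0 F5189)) (tt N1797 (iv2 F5241)) (tt N2273 D3284) (tt N455 (iv4 D1456)) (tt N2274 D3285) (tt N2275 D3286) (tt N1800 (iv7 F5248)))
theorem Q1017 : ∀ i, i < 1017 → P i := stepQ 1016 Q1016 (allL N1016 (tt N1983 F4608) (tt N872 (iv0 F3902)) (tt N1798 (iv2 F5237)) (tt N1016 F5186) (tt N2276 D3288) (tt N455 (iv5 D1457)) (tt N1961 F4286) (tt N1094 (iv7 F5250)))
theorem Q1018 : ∀ i, i < 1018 → P i := stepQ 1017 Q1017 (allL N1017 (tt N2277 D3290) (tt N2278 D3291) (tt N1799 (iv2 F5243)) (tt N1017 F5187) (tt N2275 (iv4 F5225)) (tt N2279 D3292) (tt N455 (iv6 D1458)) (tt N2280 D3293))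
theorem Q1019 : ∀ i, i < 1019 → P i := stepQ 1018 Q1018 (allL N1018 (tt N1965 (iv1 F10302)) (tt N2257 (iv0 F10296)) (tt N1018 F5190) (tt N456 (iv3 D1460)) (tt N2281 D3296) (tt N2282 D3297) (tt N2283 D3298) (tt N1796 (iv7 F5240)))
theorem Q1020 : ∀ i, i < 1020 → P i := stepQ 1019 Q1019 (allL N1019 (tt N1541 (iv1 F5180)) (tt N2028 F5181) (tt N1800 (iv2 F5247)) (tt N2284 D3299) (tt N456 (iv4 D1461)) (tt N2285 D3300) (tt N2286 D3301) (tt N1797 (iv7 F5242)))
theorem Q1021 : ∀ i, i < 1021 → P i := stepQ 1020 Q1020 (allL N1020 (tt N872 F4610) (tt N1983 (iv0 F4609)) (tt N1094 (iv2 F5249)) (tt N2282 (iv3 F5286)) (tt N2287 D3302) (tt N456 (iv5 D1462)) (tt N817 (iv6 F2573)) (tt N1798 (iv7 F5238)))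
theorem Q1022 : ∀ i, i < 1022 → P i := stepQ 1021 Q1021 (allL N1021 (tt N2288 D3303) (tt N2077 (iv0 F4695)) (tt N1801 F5277) (tt N2283 (iv3 F5289)) (tt N2286 (iv4 F5290)) (tt N2289 D3304) (tt N456 (iv6 D1463)) (tt N2290 D3305))
theorem Q1023 : ∀ i, i < 1023 → P i := stepQ 1022 Q1022 (allL N1022 (tt N1806 (iv1 F3947)) (tt N457 (iv0 D1464)) (tt N1802 (iv2 F7880)) (tt N2291 D3307) (tt N907 F4911) (tt N2292 D3308) (tt N2293 D3309) (tt N1803 (iv7 F7876)))
theorem Q1024 : ∀ i, i < 1024 → P i := stepQ 1023 Q1023 (allL N1023 (tt N457 (iv1 D1465)) (tt N1806 F3946) (tt N1803 (iv2 F7875)) (tt N2294 D3311) (tt N908 F4938) (tt N2295 D3312) (tt N2296 D3313) (tt N1802 (iv7 F7881)))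
theorem Q1025 : ∀ i, i < 1025 → P i := stepQ 1024 Q1024 (allL N1024 (tt N2297 D3314) (tt N2298 D3315) (tt N2299 D3316) (tt N457 (iv3 D1466)) (tt N2026 (iv4 F4468)) (tt N2300 D3317) (tt N473 F2574) (tt N2301 D3318))
theorem Q1026 : ∀ i, i < 1026 → P i := stepQ 1025 Q1025 (allL N1025 (tt N2302 D3319) (tt N2303 D3320) (tt N1805 (iv2 F3942)) (tt N2300 (iv3 F5304)) (tt N2304 D3321) (tt N457 (iv5 D1467)) (tt N2305 D3322) (tt N2306 D3323))
theorem Q1027 : ∀ i, i < 1027 → P i := stepQ 1026 Q1026 (allL N1026 (tt N1803 (iv1 F3940)) (tt N1802 F3945) (tt N1806 (iv2 F3943)) (tt N2301 (iv3 F5305)) (tt N458 F2575) (tt N2306 (iv5 F5309)) (tt N2307 D3324) (tt N457 (iv7 D1468)))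
theorem Q1028 : ∀ i, i < 1028 → P i := stepQ 1027 Q1027 (allL N1027 (tt N1847 (iv1 F4049)) (tt N1846 F4048) (tt N1807 (iv2 F3948)) (tt N2029 (iv3 F4471)) (tt N2307 (iv4 F5310)) (tt N1027 F2576) (tt N458 (iv6 D1469)) (tt N476 F2577))
theorem Q1029 : ∀ i, i < 1029 → P i := stepQ 1028 Q1028 (allL N1028 (tt N523 F2583) (tt N1525 (iv0 F3404)) (tt N1133 (iv2 F2751)) (tt N459 (iv3 D1470)) (tt N2308 D3325) (tt N816 F2578) (tt N2309 D3326) (tt N815 F2579))
theorem Q1030 : ∀ i, i < 1030 → P i := stepQ 1029 Q1029 (allL N1029 (tt N524 F2581) (tt N511 F2582) (tt N1105 (iv2 F2692)) (tt N2310 D3327) (tt N459 (iv4 D1471)) (tt N1120 (iv5 F2723)) (tt N2311 D3328) (tt N822 F2580))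
theorem Q1031 : ∀ i, i < 1031 → P i := stepQ 1030 Q1030 (allL N1030 (tt N2312 D3329) (tt N2279 (iv0 F5280)) (tt N1106 (iv2 F2696)) (tt N2309 (iv3 F5314)) (tt N2311 (iv4 F5317)) (tt N1030 F2584) (tt N459 (iv6 D1472)) (tt N2313 D3330))
theorem Q1032 : ∀ i, i < 1032 → P i := stepQ 1031 Q1031 (allL N1031 (tt N465 (iv1 F2586)) (tt N460 (iv0 D1473)) (tt N1134 (iv2 F2755)) (tt N2314 D3331) (tt N825 F2585) (tt N2315 D3332) (tt N2316 D3333) (tt N1083 (iv7 F2666)))
theorem Q1033 : ∀ i, i < 1033 → P i := stepQ 1032 Q1032 (allL N1032 (tt N460 (iv1 D1474)) (tt N465 F2587) (tt N1083 (iv2 F2665)) (tt N2317 D3334) (tt N826 F2588) (tt N2318 D3335) (tt N1606 (iv6 F3542)) (tt N1134 (iv7 F2756)))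
theorem Q1034 : ∀ i, i < 1034 → P i := stepQ 1033 Q1033 (allL N1033 (tt N2319 D3336) (tt N2320 D3337) (tt N2321 D3338) (tt N460 (iv3 D1475)) (tt N1033 F2589) (tt N2322 D3339) (tt N2323 D3340) (tt N1816 (iv7 F3974)))
theorem Q1035 : ∀ i, i < 1035 → P i := stepQ 1034 Q1034 (allL N1034 (tt N2041 (iv1 F4490)) (tt N1544 (iv0 F3438)) (tt N1811 (iv2 F3959)) (tt N2322 (iv3 F5328)) (tt N550 F2590) (tt N460 (iv5 D1476)) (tt N2324 D3341) (tt N1817 (iv7 F3977)))
theorem Q1036 : ∀ i, i < 1036 → P i := stepQ 1035 Q1035 (allL N1035 (tt N2325 D3342) (tt N2326 D3343) (tt N1812 (iv2 F3964)) (tt N2323 (iv3 F5329)) (tt N461 F2591) (tt N2327 D3344) (tt N460 (iv6 D1477)) (tt N2328 D3345))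
theorem Q1037 : ∀ i, i < 1037 → P i := stepQ 1036 Q1036 (allL N1036 (tt N1815 (iv1 F3972)) (tt N461 (iv0 D1478)) (tt N1813 F11355) (tt N2329 D3347) (tt N2330 D3348) (tt N2331 D3349) (tt N2253 F5030) (tt N1814 F11356))
theorem Q1038 : ∀ i, i < 1038 → P i := stepQ 1037 Q1037 (allL N1037 (tt N461 (iv1 D1479)) (tt N1815 F3971) (tt N1814 (iv2 F11353)) (tt N1139 F12599) (tt N2332 D3352) (tt N2333 D3353) (tt N2334 D3354) (tt N1813 (iv7 F11354)))
theorem Q1039 : ∀ i, i < 1039 → P i := stepQ 1038 Q1038 (allL N1038 (tt N1814 (iv1 F3966)) (tt N1813 F3970) (tt N1815 (iv2 F3967)) (tt N1038 F2592) (tt N2328 (iv4 F5332)) (tt N1821 (iv5 F3986)) (tt N1821 (iv6 F3987)) (tt N461 (iv7 D1480)))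
theorem Q1040 : ∀ i, i < 1040 → P i := stepQ 1039 Q1039 (allL N1039 (tt N468 (iv1 F2595)) (tt N802 F2596) (tt N1039 F2593) (tt N1127 (iv3 F2743)) (tt N2335 D3355) (tt N462 (iv5 D1481)) (tt N2336 D3356) (tt N874 F2594))
theorem Q1041 : ∀ i, i < 1041 → P i := stepQ 1040 Q1040 (allL N1040 (tt N797 (iv1 F2597)) (tt N463 (iv0 D1482)) (tt N1040 F2656) (tt N1881 F4127) (tt N2337 D3357) (tt N1081 (iv5 F2654)) (tt N1967 (iv6 F4307)) (tt N1041 (iv7 F2657)))
theorem Q1042 : ∀ i, i < 1042 → P i := stepQ 1041 Q1041 (allL N1041 (tt N463 (iv1 D1483)) (tt N797 F2598) (tt N1041 F2658) (tt N1129 F2747) (tt N2338 D3358) (tt N1082 F2663) (tt N2339 D3359) (tt N1040 F2657))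
theorem Q1043 : ∀ i, i < 1043 → P i := stepQ 1042 Q1042 (allL N1042 (tt N2337 (iv1 F5346)) (tt N2338 (iv0 F5349)) (tt N1042 F2599) (tt N466 (iv3 F26276)) (tt N463 (iv4 D1484)) (tt N1809 F26268) (tt N463 (iv6 F26277)) (tt N1808 (iv7 F3954)))
theorem Q1044 : ∀ i, i < 1044 → P i := stepQ 1043 Q1043 (allL N1043 (tt N1244 F2909) (tt N569 (iv0 F2605)) (tt N564 F2602) (tt N1043 F2603) (tt N1114 (iv4 F2716)) (tt N562 F2604) (tt N464 (iv6 D1486)) (tt N2340 D3366))
theorem Q1045 : ∀ i, i < 1045 → P i := stepQ 1044 Q1044 (allL N1044 (tt N2341 D3367) (tt N2342 D3368) (tt N1818 (iv2 F26331)) (tt N465 (iv3 D1487)) (tt N466 F26294) (tt N2343 D3370) (tt N465 (iv6 F26332)) (tt N1810 (iv7 F3958)))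
theorem Q1046 : ∀ i, i < 1046 → P i := stepQ 1045 Q1045 (allL N1045 (tt N1544 (iv1 F3439)) (tt N2041 F4489) (tt N1817 (iv2 F3975)) (tt N2343 (iv3 F5369)) (tt N549 F2606) (tt N465 (iv5 D1488)) (tt N2344 D3372) (tt N1811 (iv7 F3960)))
theorem Q1047 : ∀ i, i < 1047 → P i := stepQ 1046 Q1046 (allL N1046 (tt N1821 (iv1 F3990)) (tt N466 (iv0 D1490)) (tt N1819 F4622) (tt N1167 F10069) (tt N2345 D3378) (tt N2288 (iv5 F5293)) (tt N930 F2608) (tt N1820 (iv7 F4621)))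
theorem Q1048 : ∀ i, i < 1048 → P i := stepQ 1047 Q1047 (allL N1047 (tt N466 (iv1 D1491)) (tt N1821 F3989) (tt N1820 (iv2 F4620)) (tt N2346 D3379) (tt N2347 D3380) (tt N2077 (iv5 F4641)) (tt N1786 (iv6 F4611)) (tt N1819 F4623))
theorem Q1049 : ∀ i, i < 1049 → P i := stepQ 1048 Q1048 (allL N1048 (tt N1820 (iv1 F3983)) (tt N1819 F3988) (tt N1821 (iv2 F3984)) (tt N1808 F26278) (tt N1810 (iv4 F26304)) (tt N1815 (iv5 F3968)) (tt N1815 (iv6 F3969)) (tt N466 (iv7 D1492)))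
theorem Q1050 : ∀ i, i < 1050 → P i := stepQ 1049 Q1049 (allL N1049 (tt N2348 D3381) (tt N2349 D3382) (tt N2350 D3383) (tt N467 (iv3 D1493)) (tt N1049 F2609) (tt N2351 D3384) (tt N2082 (iv6 F4648)) (tt N1825 (iv7 F3998)))
theorem Q1051 : ∀ i, i < 1051 → P i := stepQ 1050 Q1050 (allL N1050 (tt N2352 D3385) (tt N2353 D3386) (tt N1824 (iv2 F3994)) (tt N2351 (iv3 F5376)) (tt N542 F2610) (tt N467 (iv5 D1494)) (tt N2354 D3387) (tt N1826 (iv7 F4001)))
theorem Q1052 : ∀ i, i < 1052 → P i := stepQ 1051 Q1051 (allL N1051 (tt N1966 (iv1 F4304)) (tt N2335 (iv0 F5340)) (tt N1051 F2611) (tt N2355 D3388) (tt N468 (iv4 D1495)) (tt N2356 D3389) (tt N2357 D3390) (tt N1822 (iv7 F3992)))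
theorem Q1053 : ∀ i, i < 1053 → P i := stepQ 1052 Q1052 (allL N1052 (tt N2358 D3391) (tt N2359 D3392) (tt N1052 F2612) (tt N470 F2613) (tt N2357 (iv4 F5391)) (tt N1052 F2614) (tt N468 (iv6 D1496)) (tt N2360 D3393))
theorem Q1054 : ∀ i, i < 1054 → P i := stepQ 1053 Q1053 (allL N1053 (tt N2361 D3394) (tt N2362 D3395) (tt N2363 D3396) (tt N469 (iv3 D1497)) (tt N2355 (iv4 F5388)) (tt N2364 D3397) (tt N2365 D3398) (tt N1823 (iv7 F3993)))
theorem Q1055 : ∀ i, i < 1055 → P i := stepQ 1054 Q1054 (allL N1054 (tt N2353 (iv1 F5382)) (tt N2352 F5379) (tt N1826 (iv2 F3999)) (tt N2364 (iv3 F5398)) (tt N539 F2615) (tt N469 (iv5 D1498)) (tt N2366 D3399) (tt N1824 (iv7 F3995)))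
theorem Q1056 : ∀ i, i < 1056 → P i := stepQ 1055 Q1055 (allL N1055 (tt N2367 D3400) (tt N2368 D3401) (tt N1827 (iv2 F4002)) (tt N2365 (iv3 F5399)) (tt N470 F2616) (tt N2369 D3402) (tt N469 (iv6 D1499)) (tt N2370 D3403))
theorem Q1057 : ∀ i, i < 1057 → P i := stepQ 1056 Q1056 (allL N1056 (tt N1830 (iv1 F4011)) (tt N470 (iv0 D1500)) (tt N1828 (iv2 F11361)) (tt N2032 F12603) (tt N2371 D3406) (tt N2254 F5032) (tt N2333 (iv6 F5336)) (tt N1829 F11360))
theorem Q1058 : ∀ i, i < 1058 → P i := stepQ 1057 Q1057 (allL N1057 (tt N470 (iv1 D1501)) (tt N1830 F4010) (tt N1829 F11359) (tt N2372 D3408) (tt N2373 D3409) (tt N2253 (iv5 F5029)) (tt N2277 (iv6 F5514)) (tt N1828 (iv7 F11362)))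
theorem Q1059 : ∀ i, i < 1059 → P i := stepQ 1058 Q1058 (allL N1058 (tt N1829 (iv1 F4004)) (tt N1828 F4009) (tt N1830 (iv2 F4005)) (tt N2360 (iv3 F5393)) (tt N2370 (iv4 F5401)) (tt N1058 F2617) (tt N954 F2618) (tt N470 (iv7 D1502)))
theorem Q1060 : ∀ i, i < 1060 → P i := stepQ 1059 Q1059 (allL N1059 (tt N2374 D3411) (tt N2375 D3412) (tt N2376 D3413) (tt N471 (iv3 D1503)) (tt N2377 D3414) (tt N2378 D3415) (tt N2379 D3416) (tt N1834 (iv7 F4020)))
theorem Q1061 : ∀ i, i < 1061 → P i := stepQ 1060 Q1060 (allL N1060 (tt N1856 (iv1 F4064)) (tt N1861 (iv0 F4072)) (tt N1832 (iv2 F4013)) (tt N2378 (iv3 F5406)) (tt N534 F2619) (tt N471 (iv5 D1504)) (tt N2380 D3417) (tt N1835 (iv7 F4023)))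
theorem Q1062 : ∀ i, i < 1062 → P i := stepQ 1061 Q1061 (allL N1061 (tt N2076 (iv1 F4893)) (tt N2078 (iv0 F4892)) (tt N1833 (iv2 F4018)) (tt N2379 (iv3 F5407)) (tt N889 F2620) (tt N2381 D3418) (tt N471 (iv6 D1505)) (tt N2382 D3419))
theorem Q1063 : ∀ i, i < 1063 → P i := stepQ 1062 Q1062 (allL N1062 (tt N2383 D3420) (tt N2384 D3421) (tt N2385 D3422) (tt N472 (iv3 D1506)) (tt N2386 D3423) (tt N2387 D3424) (tt N2388 D3425) (tt N1831 (iv7 F4012)))
theorem Q1064 : ∀ i, i < 1064 → P i := stepQ 1063 Q1063 (allL N1063 (tt N1861 (iv1 F4073)) (tt N1856 (iv0 F4063)) (tt N1835 (iv2 F4021)) (tt N2387 (iv3 F5413)) (tt N532 F2621) (tt N472 (iv5 D1507)) (tt N2389 D3426) (tt N1832 (iv7 F4014)))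
theorem Q1065 : ∀ i, i < 1065 → P i := stepQ 1064 Q1064 (allL N1064 (tt N2371 (iv1 F11597)) (tt N2373 (iv0 F11594)) (tt N1836 (iv2 F4026)) (tt N2388 (iv3 F5414)) (tt N913 F2622) (tt N2390 D3429) (tt N472 (iv6 D1508)) (tt N2391 D3430))
theorem Q1066 : ∀ i, i < 1066 → P i := stepQ 1065 Q1065 (allL N1065 (tt N2392 D3431) (tt N473 (iv0 D1509)) (tt N2393 D3432) (tt N2394 D3433) (tt N2395 D3434) (tt N2396 D3435) (tt N2397 D3436) (tt N2398 D3437))
theorem Q1067 : ∀ i, i < 1067 → P i := stepQ 1066 Q1066 (allL N1066 (tt N473 (iv1 D1510)) (tt N2392 F5419) (tt N2398 (iv2 F5421)) (tt N2399 D3438) (tt N2400 D3439) (tt N2401 D3440) (tt N2402 D3441) (tt N2393 F5420))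
theorem Q1068 : ∀ i, i < 1068 → P i := stepQ 1067 Q1067 (allL N1067 (tt N2393 F11796) (tt N2398 (iv0 F11798)) (tt N473 (iv2 D1511)) (tt N1839 (iv3 F4028)) (tt N2037 (iv4 F4482)) (tt N2403 D3444) (tt N2299 (iv6 F5303)) (tt N2392 (iv7 F5418)))
theorem Q1069 : ∀ i, i < 1069 → P i := stepQ 1068 Q1068 (allL N1068 (tt N2404 D3445) (tt N2405 D3446) (tt N2403 (iv2 F5426)) (tt N474 F2623) (tt N2406 D3447) (tt N473 (iv5 D1512)) (tt N2407 D3448) (tt N1938 (iv7 F4234)))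
theorem Q1070 : ∀ i, i < 1070 → P i := stepQ 1069 Q1069 (allL N1069 (tt N2398 (iv1 F11799)) (tt N2393 F11795) (tt N2392 F5417) (tt N475 F2624) (tt N2039 (iv4 F4485)) (tt N1938 (iv5 F4233)) (tt N2408 D3449) (tt N473 (iv7 D1513)))
theorem Q1071 : ∀ i, i < 1071 → P i := stepQ 1070 Q1070 (allL N1070 (tt N551 (iv1 F2627)) (tt N474 (iv0 D1514)) (tt N1842 F4036) (tt N2409 D3450) (tt N527 F2626) (tt N511 F2625) (tt N2410 D3451) (tt N1843 (iv7 F4039)))
theorem Q1072 : ∀ i, i < 1072 → P i := stepQ 1071 Q1071 (allL N1071 (tt N474 (iv1 D1515)) (tt N551 F2628) (tt N1843 F4042) (tt N2411 D3452) (tt N518 F2630) (tt N524 F2629) (tt N2412 D3453) (tt N1842 F4037))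
theorem Q1073 : ∀ i, i < 1073 → P i := stepQ 1072 Q1072 (allL N1072 (tt N2413 D3454) (tt N2414 D3455) (tt N1844 (iv2 F4043)) (tt N2407 (iv3 F5427)) (tt N1943 (iv4 F4243)) (tt N2305 (iv5 F5308)) (tt N474 (iv6 D1516)) (tt N2415 D3456))
theorem Q1074 : ∀ i, i < 1074 → P i := stepQ 1073 Q1073 (allL N1073 (tt N2416 D3457) (tt N2417 D3458) (tt N1845 (iv2 F4045)) (tt N2408 (iv3 F5428)) (tt N476 F2631) (tt N2418 D3459) (tt N475 (iv6 D1517)) (tt N2307 (iv7 F5311)))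
theorem Q1075 : ∀ i, i < 1075 → P i := stepQ 1074 Q1074 (allL N1074 (tt N1807 (iv1 F3952)) (tt N476 (iv0 D1518)) (tt N1846 F5264) (tt N1074 F5208) (tt N2419 D3460) (tt N2420 D3461) (tt N1851 (iv6 F4053)) (tt N1847 (iv7 F5265)))
theorem Q1076 : ∀ i, i < 1076 → P i := stepQ 1075 Q1075 (allL N1075 (tt N476 (iv1 D1519)) (tt N1807 F3951) (tt N1847 (iv2 F5267)) (tt N2357 F26313) (tt N2365 (iv4 F26374)) (tt N2421 D3464) (tt N2355 F26314) (tt N1846 F5266))
theorem Q1077 : ∀ i, i < 1077 → P i := stepQ 1076 Q1076 (allL N1076 (tt N1108 (iv1 F2706)) (tt N481 (iv0 F2632)) (tt N1077 (iv2 F2633)) (tt N1081 (iv3 F2651)) (tt N1077 (iv4 F2635)) (tt N1881 (iv5 F4124)) (tt N478 (iv6 D1520)) (tt N1107 (iv7 F2702)))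
theorem Q1078 : ∀ i, i < 1078 → P i := stepQ 1077 Q1077 (allL N1077 (tt N497 F2636) (tt N1078 (iv0 F2640)) (tt N1076 F2633) (tt N1077 F2634) (tt N1076 F2635) (tt N1130 (iv5 F2748)) (tt N479 (iv6 D1521)) (tt N1079 (iv7 F2641)))
theorem Q1079 : ∀ i, i < 1079 → P i := stepQ 1078 Q1078 (allL N1078 (tt N1077 F2640) (tt N1107 F2701) (tt N481 F2637) (tt N812 F2638) (tt N812 F2639) (tt N1549 (iv5 F3444)) (tt N480 (iv6 D1522)) (tt N1108 (iv7 F2705)))
theorem Q1080 : ∀ i, i < 1080 → P i := stepQ 1079 Q1079 (allL N1079 (tt N481 (iv1 D1523)) (tt N1108 F2707) (tt N1107 F2700) (tt N1079 F2642) (tt N1107 (iv4 F2698)) (tt N1882 (iv5 F4132)) (tt N1079 F2643) (tt N1077 F2641))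
theorem Q1081 : ∀ i, i < 1081 → P i := stepQ 1080 Q1080 (allL N1080 (tt N812 F2648) (tt N814 (iv0 F2649)) (tt N816 F2644) (tt N484 (iv3 D1524)) (tt N1080 F2645) (tt N1133 (iv5 F2752)) (tt N1080 F2646) (tt N813 F2647))
theorem Q1082 : ∀ i, i < 1082 → P i := stepQ 1081 Q1081 (allL N1081 (tt N821 F2653) (tt N487 (iv0 F2655)) (tt N1081 F2650) (tt N1076 F2651) (tt N1081 F2652) (tt N1040 F2654) (tt N486 (iv6 D1525)) (tt N1082 (iv7 F2660)))
theorem Q1083 : ∀ i, i < 1083 → P i := stepQ 1082 Q1082 (allL N1082 (tt N487 (iv1 D1526)) (tt N821 F2659) (tt N1082 F2662) (tt N1107 (iv3 F2699)) (tt N1082 F2661) (tt N1041 (iv5 F2663)) (tt N1082 F2664) (tt N1081 F2660))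
theorem Q1084 : ∀ i, i < 1084 → P i := stepQ 1083 Q1083 (allL N1083 (tt N798 F2667) (tt N800 F2668) (tt N1032 F2665) (tt N2422 D3466) (tt N488 (iv4 D1527)) (tt N2352 (iv5 F5377)) (tt N1622 (iv6 F3570)) (tt N1031 F2666))
theorem Q1085 : ∀ i, i < 1085 → P i := stepQ 1084 Q1084 (allL N1084 (tt N1086 (iv1 F2672)) (tt N489 (iv0 D1528)) (tt N1085 (iv2 F3486)) (tt N2423 D3467) (tt N1732 (iv4 F3783)) (tt N974 F3488) (tt N2424 D3468) (tt N1084 F3487))
theorem Q1086 : ∀ i, i < 1086 → P i := stepQ 1085 Q1085 (allL N1085 (tt N489 (iv1 D1529)) (tt N1086 F2673) (tt N1084 F3486) (tt N1520 (iv3 F3483)) (tt N2423 (iv4 F5443)) (tt N975 F3484) (tt N2425 D3469) (tt N1085 F3485))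
theorem Q1087 : ∀ i, i < 1087 → P i := stepQ 1086 Q1086 (allL N1086 (tt N1085 (iv1 F2673)) (tt N1084 F2672) (tt N489 (iv2 D1530)) (tt N972 F2669) (tt N1610 (iv4 F3547)) (tt N780 F2670) (tt N2426 D3470) (tt N1086 F2671))
theorem Q1088 : ∀ i, i < 1088 → P i := stepQ 1087 Q1087 (allL N1087 (tt N2427 D3471) (tt N2428 D3472) (tt N2426 (iv2 F5449)) (tt N490 F2674) (tt N1611 (iv4 F3553)) (tt N2429 D3473) (tt N489 (iv6 D1531)) (tt N2430 D3474))
theorem Q1089 : ∀ i, i < 1089 → P i := stepQ 1088 Q1088 (allL N1088 (tt N985 (iv1 F2681)) (tt N490 (iv0 D1532)) (tt N982 (iv2 F7846)) (tt N2431 D3476) (tt N717 F5458) (tt N2432 D3478) (tt N2433 D3479) (tt N983 (iv7 F7849)))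
theorem Q1090 : ∀ i, i < 1090 → P i := stepQ 1089 Q1089 (allL N1089 (tt N490 (iv1 D1533)) (tt N985 F2675) (tt N983 F7850) (tt N2434 D3481) (tt N718 F5460) (tt N2435 D3482) (tt N2436 D3483) (tt N982 F7851))
theorem Q1091 : ∀ i, i < 1091 → P i := stepQ 1090 Q1090 (allL N1090 (tt N2437 D3484) (tt N2438 D3485) (tt N984 F2676) (tt N2429 (iv3 F5451)) (tt N2439 D3486) (tt N490 (iv5 D1534)) (tt N784 F2677) (tt N2440 D3487))
theorem Q1092 : ∀ i, i < 1092 → P i := stepQ 1091 Q1091 (allL N1091 (tt N983 (iv1 F2682)) (tt N982 F2683) (tt N985 F2678) (tt N2430 (iv3 F5453)) (tt N494 F2679) (tt N2440 (iv5 F5477)) (tt N1091 F2680) (tt N490 (iv7 D1535)))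
theorem Q1093 : ∀ i, i < 1093 → P i := stepQ 1092 Q1092 (allL N1092 (tt N1615 F4936) (tt N710 F4937) (tt N1612 F5272) (tt N2441 D3488) (tt N491 (iv4 D1538)) (tt N2442 D3489) (tt N2443 D3490) (tt N1613 (iv7 F5273)))
theorem Q1094 : ∀ i, i < 1094 → P i := stepQ 1093 Q1093 (allL N1093 (tt N2118 F4720) (tt N2079 (iv0 F4646)) (tt N1850 (iv2 F5262)) (tt N1093 F5198) (tt N2444 D3491) (tt N491 (iv5 D1539)) (tt N2445 D3492) (tt N1851 F5263))
theorem Q1095 : ∀ i, i < 1095 → P i := stepQ 1094 Q1094 (allL N1094 (tt N885 F4626) (tt N1964 (iv0 F4615)) (tt N1020 F5249) (tt N1094 F5193) (tt N2443 (iv4 F5482)) (tt N794 F2685) (tt N491 (iv6 D1540)) (tt N1016 F5250))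
theorem Q1096 : ∀ i, i < 1096 → P i := stepQ 1095 Q1095 (allL N1095 (tt N875 (iv1 F10281)) (tt N1968 F10278) (tt N1095 F5209) (tt N492 (iv3 D1542)) (tt N937 (iv4 F10282)) (tt N2446 D3496) (tt N2447 D3497) (tt N1849 (iv7 F5258)))
theorem Q1097 : ∀ i, i < 1097 → P i := stepQ 1096 Q1096 (allL N1096 (tt N710 F5274) (tt N1615 F5275) (tt N1613 (iv2 F5269)) (tt N2448 D3498) (tt N492 (iv4 D1543)) (tt N2449 D3499) (tt N2450 D3500) (tt N1612 (iv7 F5271)))
theorem Q1098 : ∀ i, i < 1098 → P i := stepQ 1097 Q1097 (allL N1097 (tt N2079 F4645) (tt N2118 (iv0 F4719)) (tt N1851 F5261) (tt N2446 (iv3 F5494)) (tt N2451 D3501) (tt N492 (iv5 D1544)) (tt N1846 (iv6 F4047)) (tt N1850 (iv7 F5260)))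
theorem Q1099 : ∀ i, i < 1099 → P i := stepQ 1098 Q1098 (allL N1098 (tt N1981 F4635) (tt N870 F4636) (tt N1852 (iv2 F5234)) (tt N2447 (iv3 F5496)) (tt N2450 (iv4 F5497)) (tt N2067 (iv5 F4533)) (tt N492 (iv6 D1545)) (tt N1980 (iv7 F5255)))
theorem Q1100 : ∀ i, i < 1100 → P i := stepQ 1099 Q1099 (allL N1099 (tt N1854 (iv1 F4059)) (tt N493 (iv0 D1546)) (tt N1013 F3875) (tt N1099 F5163) (tt N2452 D3502) (tt N1005 F3871) (tt N791 F2687) (tt N1004 (iv7 F3874)))
theorem Q1101 : ∀ i, i < 1101 → P i := stepQ 1100 Q1100 (allL N1100 (tt N493 (iv1 D1547)) (tt N1854 F4058) (tt N1004 (iv2 F3896)) (tt N2453 D3503) (tt N2454 D3504) (tt N789 (iv5 F2688)) (tt N2455 D3505) (tt N1013 F3895))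
theorem Q1102 : ∀ i, i < 1102 → P i := stepQ 1101 Q1101 (allL N1101 (tt N2456 D3506) (tt N2457 D3507) (tt N1853 (iv2 F4054)) (tt N2458 D3508) (tt N493 (iv4 D1548)) (tt N2459 D3509) (tt N495 F2689) (tt N2460 D3510))
theorem Q1103 : ∀ i, i < 1103 → P i := stepQ 1102 Q1102 (allL N1102 (tt N1004 (iv1 F2691)) (tt N1013 F3898) (tt N1854 (iv2 F4056)) (tt N1623 (iv3 F3572)) (tt N2460 (iv4 F5518)) (tt N494 F2690) (tt N2461 D3511) (tt N493 (iv7 D1549)))
theorem Q1104 : ∀ i, i < 1104 → P i := stepQ 1103 Q1103 (allL N1103 (tt N2462 D3512) (tt N2463 D3513) (tt N2464 D3514) (tt N495 (iv3 D1550)) (tt N2422 (iv4 F5440)) (tt N2465 D3515) (tt N2458 (iv6 F5517)) (tt N2466 D3516))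
theorem Q1105 : ∀ i, i < 1105 → P i := stepQ 1104 Q1104 (allL N1104 (tt N1835 (iv1 F4025)) (tt N1832 (iv0 F4016)) (tt N1856 (iv2 F4060)) (tt N2465 (iv3 F5524)) (tt N1142 (iv4 F2764)) (tt N495 (iv5 D1551)) (tt N2467 D3517) (tt N1861 (iv7 F4071)))
theorem Q1106 : ∀ i, i < 1106 → P i := stepQ 1105 Q1105 (allL N1105 (tt N837 (iv1 F2694)) (tt N827 F2695) (tt N1029 F2692) (tt N2466 (iv3 F5525)) (tt N496 F2693) (tt N1861 (iv5 F4070)) (tt N2468 D3518) (tt N495 (iv7 D1552)))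
theorem Q1107 : ∀ i, i < 1107 → P i := stepQ 1106 Q1106 (allL N1106 (tt N2469 D3519) (tt N2470 D3520) (tt N1030 F2696) (tt N1863 (iv3 F4077)) (tt N2468 (iv4 F5528)) (tt N1106 F2697) (tt N496 (iv6 D1553)) (tt N2461 (iv7 F5521)))
theorem Q1108 : ∀ i, i < 1108 → P i := stepQ 1107 Q1107 (allL N1107 (tt N1078 (iv1 F2701)) (tt N497 (iv0 D1554)) (tt N1079 (iv2 F2700)) (tt N1082 F2699) (tt N1079 F2698) (tt N1129 (iv5 F2746)) (tt N1107 F2703) (tt N1076 F2702))
theorem Q1109 : ∀ i, i < 1109 → P i := stepQ 1108 Q1108 (allL N1108 (tt N1079 (iv1 F2707)) (tt N1076 F2706) (tt N497 (iv2 D1555)) (tt N1755 (iv3 F3803)) (tt N1755 (iv4 F3805)) (tt N1556 (iv5 F3467)) (tt N1108 F2704) (tt N1078 F2705))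
theorem Q1110 : ∀ i, i < 1110 → P i := stepQ 1109 Q1109 (allL N1109 (tt N689 F2710) (tt N1558 F3474) (tt N1556 F3468) (tt N498 F2708) (tt N2471 D3521) (tt N497 (iv5 D1556)) (tt N2472 D3522) (tt N911 F2709))
theorem Q1111 : ∀ i, i < 1111 → P i := stepQ 1110 Q1110 (allL N1110 (tt N2473 D3523) (tt N2474 D3524) (tt N913 F2711) (tt N2472 (iv3 F5543)) (tt N1836 (iv4 F4027)) (tt N1110 F2712) (tt N498 (iv6 D1557)) (tt N2475 D3525))
theorem Q1112 : ∀ i, i < 1112 → P i := stepQ 1111 Q1111 (allL N1111 (tt N2476 D3526) (tt N2477 D3527) (tt N2478 D3528) (tt N499 (iv3 D1558)) (tt N574 F2713) (tt N1227 (iv5 F2867)) (tt N2479 D3529) (tt N1250 (iv7 F2917)))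
theorem Q1113 : ∀ i, i < 1113 → P i := stepQ 1112 Q1112 (allL N1112 (tt N1160 (iv1 F3117)) (tt N1161 (iv0 F2873)) (tt N1246 (iv2 F2913)) (tt N2479 (iv3 F5554)) (tt N573 F2714) (tt N2480 D3530) (tt N499 (iv6 D1559)) (tt N2481 D3531))
theorem Q1114 : ∀ i, i < 1114 → P i := stepQ 1113 Q1113 (allL N1113 (tt N2482 D3532) (tt N2483 D3533) (tt N2484 D3534) (tt N500 (iv3 D1560)) (tt N1113 F2715) (tt N1229 (iv5 F2868)) (tt N2485 D3535) (tt N1245 (iv7 F2912)))
theorem Q1115 : ∀ i, i < 1115 → P i := stepQ 1114 Q1114 (allL N1114 (tt N1123 F2730) (tt N862 (iv0 F2717)) (tt N1237 F2885) (tt N2485 (iv3 F5562)) (tt N1043 F2716) (tt N2486 D3536) (tt N500 (iv6 D1561)) (tt N1238 (iv7 F2887)))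
theorem Q1116 : ∀ i, i < 1116 → P i := stepQ 1115 Q1115 (allL N1115 (tt N2487 D3537) (tt N501 (iv0 D1562)) (tt N2488 D3538) (tt N2489 D3539) (tt N2490 D3540) (tt N1221 (iv5 F7229)) (tt N2491 D3542) (tt N2492 D3543))
theorem Q1117 : ∀ i, i < 1117 → P i := stepQ 1116 Q1116 (allL N1116 (tt N501 (iv1 D1563)) (tt N2487 F5567) (tt N2492 (iv2 F5569)) (tt N2493 D3544) (tt N2494 D3545) (tt N1222 (iv5 F7110)) (tt N2495 D3547) (tt N2488 F5568))
theorem Q1118 : ∀ i, i < 1118 → P i := stepQ 1117 Q1117 (allL N1117 (tt N2488 F12288) (tt N2492 (iv0 F12292)) (tt N501 (iv2 D1564)) (tt N1859 (iv3 F4065)) (tt N592 F2718) (tt N2496 D3550) (tt N546 F2719) (tt N2487 (iv7 F5566)))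
theorem Q1119 : ∀ i, i < 1119 → P i := stepQ 1118 Q1118 (allL N1118 (tt N2497 D3551) (tt N2498 D3552) (tt N2496 (iv2 F5573)) (tt N502 F2720) (tt N2499 D3553) (tt N501 (iv5 D1565)) (tt N2500 D3554) (tt N2501 D3555))
theorem Q1120 : ∀ i, i < 1120 → P i := stepQ 1119 Q1119 (allL N1119 (tt N2492 (iv1 F12293)) (tt N2488 F12287) (tt N2487 F5564) (tt N503 F2721) (tt N594 F2722) (tt N2501 (iv5 F5577)) (tt N2502 D3556) (tt N501 (iv7 D1566)))
theorem Q1121 : ∀ i, i < 1121 → P i := stepQ 1120 Q1120 (allL N1120 (tt N1832 (iv1 F4017)) (tt N1835 (iv0 F4024)) (tt N1861 (iv2 F4069)) (tt N2503 D3557) (tt N502 (iv4 D1567)) (tt N1029 F2723) (tt N2504 D3558) (tt N1856 (iv7 F4061)))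
theorem Q1122 : ∀ i, i < 1122 → P i := stepQ 1121 Q1121 (allL N1121 (tt N2505 D3559) (tt N2506 D3560) (tt N1862 (iv2 F4074)) (tt N2500 (iv3 F5574)) (tt N2504 (iv4 F5582)) (tt N552 F2724) (tt N502 (iv6 D1568)) (tt N2507 D3561))
theorem Q1123 : ∀ i, i < 1123 → P i := stepQ 1122 Q1122 (allL N1122 (tt N539 (iv1 F2726)) (tt N542 F2727) (tt N1142 (iv2 F2763)) (tt N2501 (iv3 F5576)) (tt N1856 (iv4 F4062)) (tt N503 F2725) (tt N2508 D3562) (tt N502 (iv7 D1569)))
theorem Q1124 : ∀ i, i < 1124 → P i := stepQ 1123 Q1123 (allL N1123 (tt N1944 (iv1 F4244)) (tt N1114 (iv0 F2730)) (tt N1143 (iv2 F2768)) (tt N2502 (iv3 F5578)) (tt N504 F2728) (tt N2509 D3563) (tt N503 (iv6 D1570)) (tt N554 F2729))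
theorem Q1125 : ∀ i, i < 1125 → P i := stepQ 1124 Q1124 (allL N1124 (tt N775 (iv1 F2735)) (tt N774 (iv0 F2734)) (tt N777 F2731) (tt N506 F2732) (tt N2510 D3564) (tt N505 (iv5 D1571)) (tt N2511 D3565) (tt N679 F2733))
theorem Q1126 : ∀ i, i < 1126 → P i := stepQ 1125 Q1125 (allL N1125 (tt N804 F2739) (tt N803 F2740) (tt N916 F2737) (tt N2512 D3566) (tt N506 (iv4 D1572)) (tt N1259 (iv5 F2931)) (tt N2513 D3567) (tt N686 F2738))
theorem Q1127 : ∀ i, i < 1127 → P i := stepQ 1126 Q1126 (allL N1126 (tt N2514 D3568) (tt N2515 D3569) (tt N917 F2741) (tt N2511 (iv3 F5590)) (tt N2513 (iv4 F5594)) (tt N1126 F2742) (tt N506 (iv6 D1573)) (tt N2516 D3570))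
theorem Q1128 : ∀ i, i < 1128 → P i := stepQ 1127 Q1127 (allL N1127 (tt N1556 (iv1 F3465)) (tt N911 (iv0 F3464)) (tt N1558 (iv2 F3471)) (tt N1039 F2743) (tt N2517 D3571) (tt N507 (iv5 D1574)) (tt N2518 D3572) (tt N689 F2744))
theorem Q1129 : ∀ i, i < 1129 → P i := stepQ 1128 Q1128 (allL N1128 (tt N1882 (iv1 F4130)) (tt N1881 F4125) (tt N509 F2745) (tt N1525 (iv3 F3402)) (tt N2519 D3573) (tt N508 (iv5 D1575)) (tt N2520 D3574) (tt N1555 (iv7 F3461)))
theorem Q1130 : ∀ i, i < 1130 → P i := stepQ 1129 Q1129 (allL N1129 (tt N1555 (iv1 F3462)) (tt N509 (iv0 D1576)) (tt N1882 F4133) (tt N1041 (iv3 F2747)) (tt N2521 D3575) (tt N1107 F2746) (tt N2522 D3576) (tt N1881 F4129))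
theorem Q1131 : ∀ i, i < 1131 → P i := stepQ 1130 Q1130 (allL N1130 (tt N509 (iv1 D1577)) (tt N1555 (iv0 F3463)) (tt N1881 F4126) (tt N1130 F2749) (tt N2523 D3577) (tt N1077 F2748) (tt N1572 (iv6 F3504)) (tt N1882 (iv7 F4131)))
theorem Q1132 : ∀ i, i < 1132 → P i := stepQ 1131 Q1131 (allL N1131 (tt N2524 D3578) (tt N1848 (iv0 F4050)) (tt N2519 (iv2 F5607)) (tt N2525 D3579) (tt N509 (iv4 D1578)) (tt N2526 D3580) (tt N2527 D3581) (tt N1883 (iv7 F4135)))
theorem Q1133 : ∀ i, i < 1133 → P i := stepQ 1132 Q1132 (allL N1132 (tt N2528 D3582) (tt N2529 D3583) (tt N2520 (iv2 F5609)) (tt N512 F2750) (tt N2527 (iv4 F5618)) (tt N1884 (iv5 F4137)) (tt N509 (iv6 D1579)) (tt N2530 D3584))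
theorem Q1134 : ∀ i, i < 1134 → P i := stepQ 1133 Q1133 (allL N1133 (tt N773 F2754) (tt N772 (iv0 F2753)) (tt N1028 F2751) (tt N510 (iv3 D1580)) (tt N2524 (iv4 F5614)) (tt N1080 F2752) (tt N2531 D3585) (tt N1162 (iv7 F2799)))
theorem Q1135 : ∀ i, i < 1135 → P i := stepQ 1134 Q1134 (allL N1134 (tt N800 F2757) (tt N798 F2758) (tt N1031 F2755) (tt N2532 D3586) (tt N510 (iv4 D1581)) (tt N2353 (iv5 F5384)) (tt N2533 D3587) (tt N1032 F2756))
theorem Q1136 : ∀ i, i < 1136 → P i := stepQ 1135 Q1135 (allL N1135 (tt N2534 D3588) (tt N2535 D3589) (tt N1863 (iv2 F4076)) (tt N2531 (iv3 F5621)) (tt N2533 (iv4 F5625)) (tt N1135 F2759) (tt N510 (iv6 D1582)) (tt N2536 D3590))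
theorem Q1137 : ∀ i, i < 1137 → P i := stepQ 1136 Q1136 (allL N1136 (tt N2537 D3591) (tt N2538 D3592) (tt N2539 D3593) (tt N511 (iv3 D1583)) (tt N2525 (iv4 F5616)) (tt N2409 (iv5 F5429)) (tt N2540 D3594) (tt N1885 (iv7 F4138)))
theorem Q1138 : ∀ i, i < 1138 → P i := stepQ 1137 Q1137 (allL N1137 (tt N2330 (iv1 F10681)) (tt N2332 (iv0 F10678)) (tt N1865 (iv2 F4080)) (tt N2540 (iv3 F5629)) (tt N512 F2760) (tt N2541 D3597) (tt N511 (iv6 D1584)) (tt N2542 D3598))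
theorem Q1139 : ∀ i, i < 1139 → P i := stepQ 1138 Q1138 (allL N1138 (tt N1868 (iv1 F4088)) (tt N512 (iv0 D1585)) (tt N1866 F12626) (tt N2543 D3600) (tt N2544 D3601) (tt N2545 D3602) (tt N2546 D3603) (tt N1867 (iv7 F12632)))
theorem Q1140 : ∀ i, i < 1140 → P i := stepQ 1139 Q1139 (allL N1139 (tt N512 (iv1 D1586)) (tt N1868 F4087) (tt N1867 (iv2 F12631)) (tt N1037 (iv3 F12599)) (tt N2547 D3606) (tt N2548 D3607) (tt N2549 D3608) (tt N1866 F12630))
theorem Q1141 : ∀ i, i < 1141 → P i := stepQ 1140 Q1140 (allL N1140 (tt N1867 (iv1 F4082)) (tt N1866 F4086) (tt N1868 (iv2 F4083)) (tt N2530 (iv3 F5619)) (tt N2542 (iv4 F5630)) (tt N1889 (iv5 F4143)) (tt N1889 (iv6 F4144)) (tt N512 (iv7 D1587)))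
theorem Q1142 : ∀ i, i < 1142 → P i := stepQ 1141 Q1141 (allL N1141 (tt N2550 D3609) (tt N2551 D3610) (tt N2552 D3611) (tt N513 (iv3 D1588)) (tt N1141 F2761) (tt N2553 D3612) (tt N2554 D3613) (tt N823 F2762))
theorem Q1143 : ∀ i, i < 1143 → P i := stepQ 1142 Q1142 (allL N1142 (tt N849 F2766) (tt N850 F2767) (tt N1122 F2763) (tt N2553 (iv3 F5643)) (tt N1104 F2764) (tt N513 (iv5 D1589)) (tt N2555 D3614) (tt N824 F2765))
theorem Q1144 : ∀ i, i < 1144 → P i := stepQ 1143 Q1143 (allL N1143 (tt N1238 (iv1 F2886)) (tt N1237 F2872) (tt N1123 F2768) (tt N2554 (iv3 F5645)) (tt N514 F2769) (tt N2556 D3615) (tt N513 (iv6 D1590)) (tt N862 F2770))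
theorem Q1145 : ∀ i, i < 1145 → P i := stepQ 1144 Q1144 (allL N1144 (tt N2557 D3616) (tt N2558 D3617) (tt N2559 D3618) (tt N515 (iv3 D1591)) (tt N1144 F2771) (tt N2560 D3619) (tt N2561 D3620) (tt N1869 (iv7 F4091)))
theorem Q1146 : ∀ i, i < 1146 → P i := stepQ 1145 Q1145 (allL N1145 (tt N844 F2772) (tt N846 F2773) (tt N1186 F2819) (tt N2560 (iv3 F5655)) (tt N2352 (iv4 F5378)) (tt N515 (iv5 D1592)) (tt N2562 D3621) (tt N1185 F2815))
theorem Q1147 : ∀ i, i < 1147 → P i := stepQ 1146 Q1146 (allL N1146 (tt N1179 F2910) (tt N841 (iv0 F2921)) (tt N1176 F2806) (tt N2561 (iv3 F5656)) (tt N1244 (iv4 F2906)) (tt N2563 D3622) (tt N515 (iv6 D1593)) (tt N1177 (iv7 F2805)))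
theorem Q1148 : ∀ i, i < 1148 → P i := stepQ 1147 Q1147 (allL N1147 (tt N2564 D3623) (tt N2565 D3624) (tt N2566 D3625) (tt N516 (iv3 D1594)) (tt N570 F2774) (tt N2567 D3626) (tt N566 F2775) (tt N1328 (iv7 F3062)))
theorem Q1149 : ∀ i, i < 1149 → P i := stepQ 1148 Q1148 (allL N1148 (tt N846 F2776) (tt N844 F2777) (tt N1185 F2814) (tt N2567 (iv3 F5661)) (tt N2353 (iv4 F5385)) (tt N516 (iv5 D1595)) (tt N2568 D3627) (tt N1186 (iv7 F2817)))
theorem Q1150 : ∀ i, i < 1150 → P i := stepQ 1149 Q1149 (allL N1149 (tt N1892 (iv1 F4152)) (tt N517 (iv0 D1596)) (tt N1891 (iv2 F12818)) (tt N2569 D3629) (tt N2570 D3630) (tt N2571 D3631) (tt N2572 D3632) (tt N1890 (iv7 F12819)))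
theorem Q1151 : ∀ i, i < 1151 → P i := stepQ 1150 Q1150 (allL N1150 (tt N517 (iv1 D1597)) (tt N1892 F4154) (tt N1890 F12826) (tt N2573 D3634) (tt N2574 D3635) (tt N2575 D3636) (tt N1182 F16978) (tt N1891 F12827))
theorem Q1152 : ∀ i, i < 1152 → P i := stepQ 1151 Q1151 (allL N1151 (tt N1891 (iv1 F4153)) (tt N1890 F4148) (tt N517 (iv2 D1598)) (tt N1872 (iv3 F4093)) (tt N1872 (iv4 F4094)) (tt N2576 D3638) (tt N2577 D3639) (tt N1892 (iv7 F4151)))
theorem Q1153 : ∀ i, i < 1153 → P i := stepQ 1152 Q1152 (allL N1152 (tt N2578 D3640) (tt N2579 D3641) (tt N2576 (iv2 F5667)) (tt N518 F2778) (tt N2580 D3642) (tt N517 (iv5 D1599)) (tt N2581 D3643) (tt N1893 (iv7 F4156)))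
theorem Q1154 : ∀ i, i < 1154 → P i := stepQ 1153 Q1153 (allL N1153 (tt N2582 D3644) (tt N2583 D3645) (tt N2577 (iv2 F5668)) (tt N519 F2779) (tt N1874 (iv4 F4102)) (tt N2584 D3646) (tt N517 (iv6 D1600)) (tt N2585 D3647))
theorem Q1155 : ∀ i, i < 1155 → P i := stepQ 1154 Q1154 (allL N1154 (tt N527 (iv1 F2782)) (tt N518 (iv0 D1601)) (tt N1261 (iv2 F2932)) (tt N2586 D3648) (tt N915 F2781) (tt N530 F2780) (tt N2587 D3649) (tt N1241 (iv7 F2891)))
theorem Q1156 : ∀ i, i < 1156 → P i := stepQ 1155 Q1155 (allL N1155 (tt N2588 D3650) (tt N2589 D3651) (tt N1875 (iv2 F4103)) (tt N2581 (iv3 F5669)) (tt N2412 (iv4 F5432)) (tt N2590 D3652) (tt N518 (iv6 D1602)) (tt N2591 D3653))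
theorem Q1157 : ∀ i, i < 1157 → P i := stepQ 1156 Q1156 (allL N1156 (tt N1879 (iv1 F4119)) (tt N519 (iv0 D1603)) (tt N1876 F4105) (tt N2592 D3654) (tt N1247 F2995) (tt N2593 D3655) (tt N1194 F3098) (tt N1877 (iv7 F4110)))
theorem Q1158 : ∀ i, i < 1158 → P i := stepQ 1157 Q1157 (allL N1157 (tt N519 (iv1 D1604)) (tt N1879 F4118) (tt N1877 F4111) (tt N2594 D3656) (tt N1248 F2961) (tt N2595 D3657) (tt N1157 F2963) (tt N1876 F4107))
theorem Q1159 : ∀ i, i < 1159 → P i := stepQ 1158 Q1158 (allL N1158 (tt N2563 (iv1 F5658)) (tt N2596 D3658) (tt N1878 (iv2 F4114)) (tt N2584 (iv3 F5670)) (tt N2597 D3659) (tt N519 (iv5 D1605)) (tt N2590 (iv6 F5674)) (tt N2598 D3660))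
theorem Q1160 : ∀ i, i < 1160 → P i := stepQ 1159 Q1159 (allL N1159 (tt N1877 (iv1 F4109)) (tt N1876 (iv0 F4108)) (tt N1879 (iv2 F4115)) (tt N2585 (iv3 F5671)) (tt N522 F2783) (tt N2598 (iv5 F5681)) (tt N1897 (iv6 F4163)) (tt N519 (iv7 D1606)))
theorem Q1161 : ∀ i, i < 1161 → P i := stepQ 1160 Q1160 (allL N1160 (tt N2599 D3661) (tt N1112 F3117) (tt N1357 (iv2 F3113)) (tt N2600 D3662) (tt N520 (iv4 D1609)) (tt N2601 D3663) (tt N1196 (iv6 F2834)) (tt N1880 (iv7 F4122)))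
theorem Q1162 : ∀ i, i < 1162 → P i := stepQ 1161 Q1161 (allL N1161 (tt N1112 F2873) (tt N2599 F5684) (tt N1880 (iv2 F4120)) (tt N2602 D3664) (tt N521 (iv4 D1612)) (tt N2603 D3665) (tt N1161 F2795) (tt N1357 (iv7 F3115)))
theorem Q1163 : ∀ i, i < 1163 → P i := stepQ 1162 Q1162 (allL N1162 (tt N1525 F3405) (tt N523 (iv0 D1613)) (tt N815 (iv2 F2798)) (tt N826 F2796) (tt N2604 D3666) (tt N813 F2797) (tt N1591 (iv6 F3525)) (tt N1133 F2799))
theorem Q1164 : ∀ i, i < 1164 → P i := stepQ 1163 Q1163 (allL N1163 (tt N2523 (iv1 F5613)) (tt N2521 (iv0 F5610)) (tt N1751 (iv2 F3798)) (tt N2605 D3667) (tt N523 (iv4 D1614)) (tt N2606 D3668) (tt N2607 D3669) (tt N1749 (iv7 F3795)))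
theorem Q1165 : ∀ i, i < 1165 → P i := stepQ 1164 Q1164 (allL N1164 (tt N2608 D3670) (tt N2346 (iv0 F10054)) (tt N1752 (iv2 F3799)) (tt N525 F2800) (tt N2607 (iv4 F5697)) (tt N1750 (iv5 F3797)) (tt N523 (iv6 D1615)) (tt N2609 D3672))
theorem Q1166 : ∀ i, i < 1166 → P i := stepQ 1165 Q1165 (allL N1165 (tt N2610 D3673) (tt N2611 D3674) (tt N2612 D3675) (tt N524 (iv3 D1616)) (tt N2605 (iv4 F5696)) (tt N2411 (iv5 F5431)) (tt N2613 D3676) (tt N1864 (iv7 F4079)))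
theorem Q1167 : ∀ i, i < 1167 → P i := stepQ 1166 Q1166 (allL N1166 (tt N2345 (iv1 F10654)) (tt N2347 (iv0 F10655)) (tt N1886 (iv2 F4139)) (tt N2613 (iv3 F5699)) (tt N525 F2801) (tt N2614 D3679) (tt N524 (iv6 D1617)) (tt N2615 D3680))
theorem Q1168 : ∀ i, i < 1168 → P i := stepQ 1167 Q1167 (allL N1167 (tt N1889 (iv1 F4147)) (tt N525 (iv0 D1618)) (tt N1887 (iv2 F8026)) (tt N1046 (iv3 F10069)) (tt N2616 D3683) (tt N2617 D3684) (tt N1989 F4374) (tt N1888 (iv7 F8030)))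
theorem Q1169 : ∀ i, i < 1169 → P i := stepQ 1168 Q1168 (allL N1168 (tt N525 (iv1 D1619)) (tt N1889 F4146) (tt N1888 (iv2 F8029)) (tt N2618 D3686) (tt N2619 D3687) (tt N2620 D3688) (tt N2621 D3689) (tt N1887 (iv7 F8027)))
theorem Q1170 : ∀ i, i < 1170 → P i := stepQ 1169 Q1169 (allL N1169 (tt N1888 (iv1 F4141)) (tt N1887 F4145) (tt N1889 (iv2 F4142)) (tt N2609 (iv3 F5698)) (tt N2615 (iv4 F5700)) (tt N1868 (iv5 F4084)) (tt N1868 (iv6 F4085)) (tt N525 (iv7 D1620)))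
theorem Q1171 : ∀ i, i < 1171 → P i := stepQ 1170 Q1170 (allL N1170 (tt N1872 (iv1 F4096)) (tt N526 (iv0 D1621)) (tt N1871 (iv2 F12168)) (tt N2622 D3691) (tt N2623 D3692) (tt N2624 D3693) (tt N1188 (iv6 F16750)) (tt N1870 F12167))
theorem Q1172 : ∀ i, i < 1172 → P i := stepQ 1171 Q1171 (allL N1171 (tt N526 (iv1 D1622)) (tt N1872 F4098) (tt N1870 F12166) (tt N2625 D3696) (tt N2626 D3697) (tt N2627 D3698) (tt N2628 D3699) (tt N1871 (iv7 F12169)))
theorem Q1173 : ∀ i, i < 1173 → P i := stepQ 1172 Q1172 (allL N1172 (tt N1871 (iv1 F4097)) (tt N1870 F4092) (tt N526 (iv2 D1623)) (tt N1892 (iv3 F4149)) (tt N1892 (iv4 F4150)) (tt N2629 D3700) (tt N2630 D3701) (tt N1872 (iv7 F4095)))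
theorem Q1174 : ∀ i, i < 1174 → P i := stepQ 1173 Q1173 (allL N1173 (tt N2631 D3702) (tt N2632 D3703) (tt N2629 (iv2 F5708)) (tt N527 F2802) (tt N2633 D3704) (tt N526 (iv5 D1624)) (tt N2634 D3705) (tt N1873 (iv7 F4100)))
theorem Q1175 : ∀ i, i < 1175 → P i := stepQ 1174 Q1174 (allL N1174 (tt N2635 D3706) (tt N2636 D3707) (tt N2630 (iv2 F5709)) (tt N528 F2803) (tt N1894 (iv4 F4158)) (tt N2637 D3708) (tt N526 (iv6 D1625)) (tt N2638 D3709))
theorem Q1176 : ∀ i, i < 1176 → P i := stepQ 1175 Q1175 (allL N1175 (tt N2639 D3710) (tt N2640 D3711) (tt N1895 (iv2 F4159)) (tt N2634 (iv3 F5710)) (tt N2410 (iv4 F5430)) (tt N2641 D3712) (tt N527 (iv6 D1626)) (tt N2642 D3713))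
theorem Q1177 : ∀ i, i < 1177 → P i := stepQ 1176 Q1176 (allL N1176 (tt N1897 (iv1 F4165)) (tt N528 (iv0 D1627)) (tt N1146 (iv2 F2806)) (tt N2643 D3714) (tt N1243 (iv4 F2900)) (tt N2644 D3715) (tt N829 F2807) (tt N1262 (iv7 F2938)))
theorem Q1178 : ∀ i, i < 1178 → P i := stepQ 1177 Q1177 (allL N1177 (tt N528 (iv1 D1628)) (tt N1897 F4164) (tt N1262 (iv2 F2936)) (tt N2645 D3716) (tt N1242 (iv4 F2896)) (tt N2646 D3717) (tt N530 (iv6 F2804)) (tt N1146 F2805))
theorem Q1179 : ∀ i, i < 1179 → P i := stepQ 1178 Q1178 (allL N1178 (tt N2595 (iv1 F5679)) (tt N2593 (iv0 F5676)) (tt N1896 (iv2 F4160)) (tt N2637 (iv3 F5711)) (tt N2647 D3718) (tt N528 (iv5 D1629)) (tt N2641 (iv6 F5713)) (tt N2648 D3719))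
theorem Q1180 : ∀ i, i < 1180 → P i := stepQ 1179 Q1179 (allL N1179 (tt N1262 (iv1 F2940)) (tt N1146 (iv0 F2910)) (tt N1897 (iv2 F4161)) (tt N2638 (iv3 F5712)) (tt N529 F2808) (tt N2648 (iv5 F5727)) (tt N1879 (iv6 F4117)) (tt N528 (iv7 D1630)))
theorem Q1181 : ∀ i, i < 1181 → P i := stepQ 1180 Q1180 (allL N1180 (tt N2649 D3720) (tt N2650 D3721) (tt N2651 D3722) (tt N530 (iv3 D1631)) (tt N1180 F2809) (tt N2586 (iv5 F5672)) (tt N2645 (iv6 F5721)) (tt N1240 (iv7 F2889)))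
theorem Q1182 : ∀ i, i < 1182 → P i := stepQ 1181 Q1181 (allL N1181 (tt N1905 (iv1 F4183)) (tt N531 (iv0 D1632)) (tt N1904 (iv2 F13072)) (tt N2652 D3724) (tt N2653 D3725) (tt N2578 F13443) (tt N2654 D3727) (tt N1903 F13071))
theorem Q1183 : ∀ i, i < 1183 → P i := stepQ 1182 Q1182 (allL N1182 (tt N531 (iv1 D1633)) (tt N1905 F4185) (tt N1903 F13070) (tt N2655 D3729) (tt N2656 D3730) (tt N2579 F13439) (tt N1150 (iv6 F16978)) (tt N1904 (iv7 F13073)))
theorem Q1184 : ∀ i, i < 1184 → P i := stepQ 1183 Q1183 (allL N1183 (tt N1904 (iv1 F4184)) (tt N1903 F4179) (tt N531 (iv2 D1634)) (tt N1900 (iv3 F4168)) (tt N1900 (iv4 F4169)) (tt N2657 D3733) (tt N1183 F2810) (tt N1905 (iv7 F4182)))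
theorem Q1185 : ∀ i, i < 1185 → P i := stepQ 1184 Q1184 (allL N1184 (tt N2658 D3734) (tt N2659 D3735) (tt N2657 (iv2 F5736)) (tt N532 F2811) (tt N2660 D3736) (tt N531 (iv5 D1635)) (tt N2661 D3737) (tt N1906 (iv7 F4187)))
theorem Q1186 : ∀ i, i < 1186 → P i := stepQ 1185 Q1185 (allL N1185 (tt N534 (iv1 F2813)) (tt N532 (iv0 D1636)) (tt N1148 (iv2 F2814)) (tt N2662 D3738) (tt N2315 (iv4 F5320)) (tt N830 F2812) (tt N2663 D3739) (tt N1145 (iv7 F2815)))
theorem Q1187 : ∀ i, i < 1187 → P i := stepQ 1186 Q1186 (allL N1186 (tt N532 (iv1 D1637)) (tt N534 F2816) (tt N1145 (iv2 F2819)) (tt N2664 D3740) (tt N2318 (iv4 F5324)) (tt N829 F2818) (tt N2665 D3741) (tt N1148 F2817))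
theorem Q1188 : ∀ i, i < 1188 → P i := stepQ 1187 Q1187 (allL N1187 (tt N2666 D3742) (tt N2667 D3743) (tt N1902 (iv2 F4177)) (tt N2661 (iv3 F5737)) (tt N2389 (iv4 F5415)) (tt N1187 F2820) (tt N532 (iv6 D1638)) (tt N2668 D3744))
theorem Q1189 : ∀ i, i < 1189 → P i := stepQ 1188 Q1188 (allL N1188 (tt N1900 (iv1 F4172)) (tt N533 (iv0 D1639)) (tt N1899 (iv2 F6440)) (tt N1410 F3214) (tt N2669 D3746) (tt N2631 F13334) (tt N1170 F16750) (tt N1898 (iv7 F6443)))
theorem Q1190 : ∀ i, i < 1190 → P i := stepQ 1189 Q1189 (allL N1189 (tt N533 (iv1 D1640)) (tt N1900 F4174) (tt N1898 (iv2 F6442)) (tt N2670 D3750) (tt N2671 D3751) (tt N2632 F13340) (tt N2636 (iv6 F16761)) (tt N1899 (iv7 F6441)))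
theorem Q1191 : ∀ i, i < 1191 → P i := stepQ 1190 Q1190 (allL N1190 (tt N1899 (iv1 F4173)) (tt N1898 F4167) (tt N533 (iv2 D1641)) (tt N1905 (iv3 F4180)) (tt N1905 (iv4 F4181)) (tt N1908 (iv5 F296171)) (tt N1909 F295983) (tt N1900 (iv7 F4171)))
theorem Q1192 : ∀ i, i < 1192 → P i := stepQ 1191 Q1191 (allL N1191 (tt N2672 D3756) (tt N2673 D3757) (tt N1908 F296172) (tt N534 F2821) (tt N2380 (iv4 F296839)) (tt N533 (iv5 D1642)) (tt N534 F296173) (tt N1901 (iv7 F4176)))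
theorem Q1193 : ∀ i, i < 1193 → P i := stepQ 1192 Q1192 (allL N1192 (tt N2674 D3760) (tt N2675 D3761) (tt N1909 F295891) (tt N535 F2822) (tt N1907 (iv4 F4189)) (tt N535 F295892) (tt N533 (iv6 D1643)) (tt N1192 F2823))
theorem Q1194 : ∀ i, i < 1194 → P i := stepQ 1193 Q1193 (allL N1193 (tt N847 (iv1 F2824)) (tt N535 (iv0 D1645)) (tt N1194 F3097) (tt N2676 D3767) (tt N1252 F3095) (tt N2674 F295741) (tt N1876 F4106) (tt N1193 F3102))
theorem Q1195 : ∀ i, i < 1195 → P i := stepQ 1194 Q1194 (allL N1194 (tt N535 (iv1 D1646)) (tt N847 F2825) (tt N1193 (iv2 F3097)) (tt N2677 D3769) (tt N1253 F3096) (tt N2675 (iv5 F295783)) (tt N1156 (iv6 F3098)) (tt N1194 F3099))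
theorem Q1196 : ∀ i, i < 1196 → P i := stepQ 1195 Q1195 (allL N1195 (tt N851 F3091) (tt N543 F3092) (tt N1196 (iv2 F2833)) (tt N2678 D3772) (tt N536 (iv4 D1649)) (tt N2679 D3773) (tt N1357 (iv6 F3114)) (tt N1195 F2829))
theorem Q1197 : ∀ i, i < 1197 → P i := stepQ 1196 Q1196 (allL N1196 (tt N543 F3100) (tt N851 F3101) (tt N1195 F2833) (tt N2680 D3774) (tt N537 (iv4 D1651)) (tt N2681 D3775) (tt N1160 F2834) (tt N1196 F2835))
theorem Q1198 : ∀ i, i < 1198 → P i := stepQ 1197 Q1197 (allL N1197 (tt N1426 (iv1 F3229)) (tt N538 (iv0 D1652)) (tt N1430 (iv2 F6383)) (tt N2671 (iv3 F5748)) (tt N2682 D3777) (tt N2683 D3778) (tt N2684 D3779) (tt N1429 (iv7 F6404)))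
theorem Q1199 : ∀ i, i < 1199 → P i := stepQ 1198 Q1198 (allL N1198 (tt N538 (iv1 D1653)) (tt N1426 (iv0 F3227)) (tt N1429 (iv2 F6403)) (tt N2685 D3781) (tt N1393 (iv4 F3169)) (tt N2686 D3782) (tt N2477 F16797) (tt N1430 (iv7 F6384)))
theorem Q1200 : ∀ i, i < 1200 → P i := stepQ 1199 Q1199 (allL N1199 (tt N1430 (iv1 F3239)) (tt N1429 F3238) (tt N538 (iv2 D1654)) (tt N1912 (iv3 F4195)) (tt N637 F2836) (tt N2687 D3784) (tt N1199 F2837) (tt N1426 (iv7 F3226)))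
theorem Q1201 : ∀ i, i < 1201 → P i := stepQ 1200 Q1200 (allL N1200 (tt N2688 D3785) (tt N2689 D3786) (tt N2687 (iv2 F5786)) (tt N539 F2838) (tt N2690 D3787) (tt N538 (iv5 D1655)) (tt N2691 D3788) (tt N1431 (iv7 F3242)))
theorem Q1202 : ∀ i, i < 1202 → P i := stepQ 1201 Q1201 (allL N1201 (tt N2692 D3789) (tt N2693 D3790) (tt N1914 (iv2 F4204)) (tt N2691 (iv3 F5787)) (tt N2366 (iv4 F5400)) (tt N1201 F2839) (tt N539 (iv6 D1656)) (tt N2694 D3791))
theorem Q1203 : ∀ i, i < 1203 → P i := stepQ 1202 Q1202 (allL N1202 (tt N1912 (iv1 F4199)) (tt N540 (iv0 D1657)) (tt N1911 (iv2 F13065)) (tt N2656 (iv3 F5735)) (tt N2695 D3793) (tt N2696 D3794) (tt N2482 (iv6 F16982)) (tt N1910 F13064))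
theorem Q1204 : ∀ i, i < 1204 → P i := stepQ 1203 Q1203 (allL N1203 (tt N540 (iv1 D1658)) (tt N1912 F4201) (tt N1910 F13063) (tt N2697 D3797) (tt N2652 (iv4 F5732)) (tt N2698 D3798) (tt N2699 D3799) (tt N1911 (iv7 F13066)))
theorem Q1205 : ∀ i, i < 1205 → P i := stepQ 1204 Q1204 (allL N1204 (tt N1911 (iv1 F4200)) (tt N1910 F4194) (tt N540 (iv2 D1659)) (tt N1426 F3228) (tt N1204 F2840) (tt N2700 D3800) (tt N2701 D3801) (tt N1912 (iv7 F4198)))
theorem Q1206 : ∀ i, i < 1206 → P i := stepQ 1205 Q1205 (allL N1205 (tt N2702 D3802) (tt N2703 D3803) (tt N2700 (iv2 F5792)) (tt N542 F2841) (tt N2704 D3804) (tt N540 (iv5 D1660)) (tt N1925 (iv6 F296289)) (tt N1913 (iv7 F4203)))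
theorem Q1207 : ∀ i, i < 1207 → P i := stepQ 1206 Q1206 (allL N1206 (tt N2705 D3806) (tt N2706 D3807) (tt N2701 (iv2 F5793)) (tt N543 F2842) (tt N1206 F2843) (tt N1926 (iv5 F295964)) (tt N540 (iv6 D1661)) (tt N1206 F2844))
theorem Q1208 : ∀ i, i < 1208 → P i := stepQ 1207 Q1207 (allL N1207 (tt N1253 (iv1 F2924)) (tt N1252 F2922) (tt N565 F2845) (tt N1207 F2846) (tt N543 F2847) (tt N1207 F2848) (tt N541 (iv6 D1662)) (tt N1207 F2849))
theorem Q1209 : ∀ i, i < 1209 → P i := stepQ 1208 Q1208 (allL N1208 (tt N2707 D3809) (tt N2708 D3810) (tt N1915 (iv2 F4206)) (tt N1925 (iv3 F296288)) (tt N2354 (iv4 F5387)) (tt N1923 F296199) (tt N542 (iv6 D1663)) (tt N2709 D3812))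
theorem Q1210 : ∀ i, i < 1210 → P i := stepQ 1209 Q1209 (allL N1209 (tt N2679 (iv1 F5775)) (tt N2681 (iv0 F5781)) (tt N1916 (iv2 F4207)) (tt N1926 (iv3 F295963)) (tt N2710 D3813) (tt N543 (iv5 D1666)) (tt N1923 (iv6 F295999)) (tt N1209 F2852))
theorem Q1211 : ∀ i, i < 1211 → P i := stepQ 1210 Q1210 (allL N1210 (tt N545 (iv1 F2856)) (tt N544 (iv0 D1667)) (tt N548 (iv2 F2853)) (tt N1917 (iv3 F4210)) (tt N647 F2854) (tt N2711 D3814) (tt N2712 D3815) (tt N546 F2855))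
theorem Q1212 : ∀ i, i < 1212 → P i := stepQ 1211 Q1211 (allL N1211 (tt N548 (iv1 F6428)) (tt N546 (iv0 F6429)) (tt N544 (iv2 D1668)) (tt N2713 D3818) (tt N1284 F6424) (tt N2498 F7170) (tt N1211 F7171) (tt N545 (iv7 F2857)))
theorem Q1213 : ∀ i, i < 1213 → P i := stepQ 1212 Q1212 (allL N1212 (tt N2697 (iv1 F6873)) (tt N2714 D3823) (tt N2715 D3824) (tt N544 (iv3 D1669)) (tt N2650 F5729) (tt N2716 D3825) (tt N1212 F7174) (tt N2717 D3827))
theorem Q1214 : ∀ i, i < 1214 → P i := stepQ 1213 Q1213 (allL N1213 (tt N2718 D3828) (tt N1386 (iv0 F6379)) (tt N1284 F6423) (tt N2719 D3830) (tt N544 (iv4 D1670)) (tt N2720 D3831) (tt N1213 F7175) (tt N2721 D3833))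
theorem Q1215 : ∀ i, i < 1215 → P i := stepQ 1214 Q1214 (allL N1214 (tt N2496 (iv1 F6941)) (tt N2501 (iv0 F6938)) (tt N2498 F7169) (tt N2716 (iv3 F5817)) (tt N2722 D3836) (tt N544 (iv5 D1671)) (tt N2723 D3837) (tt N2497 (iv7 F7219)))
theorem Q1216 : ∀ i, i < 1216 → P i := stepQ 1215 Q1215 (allL N1215 (tt N546 F6432) (tt N548 F6433) (tt N545 F2858) (tt N2717 (iv3 F5819)) (tt N2721 (iv4 F5828)) (tt N2497 (iv5 F7218)) (tt N2724 D3843) (tt N544 (iv7 D1673)))
theorem Q1217 : ∀ i, i < 1217 → P i := stepQ 1216 Q1216 (allL N1216 (tt N2669 F5823) (tt N2671 (iv0 F6668)) (tt N2725 D3845) (tt N545 (iv3 D1674)) (tt N2726 D3846) (tt N2727 D3847) (tt N2728 D3848) (tt N2713 (iv7 F5811)))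
theorem Q1218 : ∀ i, i < 1218 → P i := stepQ 1217 Q1217 (allL N1217 (tt N1386 (iv1 F6380)) (tt N2718 (iv0 F5822)) (tt N2721 (iv2 F5827)) (tt N1287 F6418) (tt N545 (iv4 D1675)) (tt N2729 D3849) (tt N2730 D3850) (tt N1284 F6419))
theorem Q1219 : ∀ i, i < 1219 → P i := stepQ 1218 Q1218 (allL N1218 (tt N2501 (iv1 F6939)) (tt N2496 (iv0 F6940)) (tt N2497 (iv2 F7217)) (tt N2727 (iv3 F5835)) (tt N2731 D3851) (tt N545 (iv5 D1676)) (tt N2732 D3852) (tt N2498 (iv7 F7168)))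
theorem Q1220 : ∀ i, i < 1220 → P i := stepQ 1219 Q1219 (allL N1219 (tt N2678 F17440) (tt N2733 D3854) (tt N2724 (iv2 F5833)) (tt N2728 (iv3 F5836)) (tt N2730 (iv4 F5837)) (tt N2734 D3855) (tt N545 (iv6 D1677)) (tt N1219 F7190))
theorem Q1221 : ∀ i, i < 1221 → P i := stepQ 1220 Q1220 (allL N1220 (tt N2735 D3866) (tt N2736 D3867) (tt N547 F2861) (tt N1927 (iv3 F4221)) (tt N2737 D3868) (tt N546 (iv5 D1680)) (tt N2738 D3869) (tt N2711 (iv7 F5804)))
theorem Q1222 : ∀ i, i < 1222 → P i := stepQ 1221 Q1221 (allL N1221 (tt N2711 (iv1 F5806)) (tt N547 (iv0 D1681)) (tt N2735 (iv2 F12289)) (tt N2739 D3871) (tt N2740 D3872) (tt N1115 F7229) (tt N2741 D3874) (tt N2736 (iv7 F12298)))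
theorem Q1223 : ∀ i, i < 1223 → P i := stepQ 1222 Q1222 (allL N1222 (tt N547 (iv1 D1682)) (tt N2711 F5805) (tt N2736 (iv2 F12296)) (tt N2742 D3876) (tt N2743 D3877) (tt N1116 F7110) (tt N2744 D3879) (tt N2735 (iv7 F12291)))
theorem Q1224 : ∀ i, i < 1224 → P i := stepQ 1223 Q1223 (allL N1223 (tt N2745 D3880) (tt N2746 D3881) (tt N2737 (iv2 F5842)) (tt N2747 D3882) (tt N547 (iv4 D1683)) (tt N2748 D3883) (tt N2749 D3884) (tt N2750 D3885))
theorem Q1225 : ∀ i, i < 1225 → P i := stepQ 1224 Q1224 (allL N1224 (tt N2751 D3886) (tt N2752 D3887) (tt N2738 (iv2 F5843)) (tt N552 F2862) (tt N2749 (iv4 F5847)) (tt N2500 (iv5 F5575)) (tt N547 (iv6 D1684)) (tt N2753 D3888))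
theorem Q1226 : ∀ i, i < 1226 → P i := stepQ 1225 Q1225 (allL N1225 (tt N2736 (iv1 F5841)) (tt N2735 F5840) (tt N2711 (iv2 F5803)) (tt N553 F2863) (tt N2750 (iv4 F5848)) (tt N548 F2864) (tt N2754 D3889) (tt N547 (iv7 D1685)))
theorem Q1227 : ∀ i, i < 1227 → P i := stepQ 1226 Q1226 (allL N1226 (tt N2755 D3890) (tt N2756 D3891) (tt N2712 (iv2 F5807)) (tt N554 F2865) (tt N663 F2866) (tt N2757 D3892) (tt N548 (iv6 D1686)) (tt N2502 (iv7 F5580)))
theorem Q1228 : ∀ i, i < 1228 → P i := stepQ 1227 Q1227 (allL N1227 (tt N2683 (iv1 F7084)) (tt N2686 (iv0 F7083)) (tt N2758 D3895) (tt N549 (iv3 D1687)) (tt N2759 D3896) (tt N1111 F2867) (tt N2760 D3897) (tt N1936 (iv7 F4231)))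
theorem Q1229 : ∀ i, i < 1229 → P i := stepQ 1228 Q1228 (allL N1228 (tt N2761 D3898) (tt N2762 D3899) (tt N1935 (iv2 F4229)) (tt N2760 (iv3 F5853)) (tt N2344 (iv4 F5371)) (tt N2763 D3900) (tt N549 (iv6 D1688)) (tt N2764 D3901))
theorem Q1230 : ∀ i, i < 1230 → P i := stepQ 1229 Q1229 (allL N1229 (tt N2696 (iv1 F14294)) (tt N2698 F14291) (tt N2765 D3904) (tt N550 (iv3 D1689)) (tt N2766 D3905) (tt N1113 F2868) (tt N2767 D3906) (tt N1934 (iv7 F4228)))
theorem Q1231 : ∀ i, i < 1231 → P i := stepQ 1230 Q1230 (allL N1230 (tt N2768 D3907) (tt N2769 D3908) (tt N1937 (iv2 F4232)) (tt N2767 (iv3 F5856)) (tt N2324 (iv4 F5331)) (tt N2770 D3909) (tt N550 (iv6 D1690)) (tt N2771 D3910))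
theorem Q1232 : ∀ i, i < 1232 → P i := stepQ 1231 Q1231 (allL N1231 (tt N2772 D3911) (tt N2773 D3912) (tt N2774 D3913) (tt N551 (iv3 D1691)) (tt N2747 (iv4 F5846)) (tt N1841 (iv5 F4032)) (tt N2775 D3914) (tt N1840 F4030))
theorem Q1233 : ∀ i, i < 1233 → P i := stepQ 1232 Q1232 (allL N1232 (tt N2776 D3915) (tt N2777 D3916) (tt N1939 (iv2 F4235)) (tt N2775 (iv3 F5858)) (tt N552 F2869) (tt N2778 D3917) (tt N551 (iv6 D1692)) (tt N2779 D3918))
theorem Q1234 : ∀ i, i < 1234 → P i := stepQ 1233 Q1233 (allL N1233 (tt N1942 (iv1 F4241)) (tt N552 (iv0 D1693)) (tt N1940 (iv2 F13703)) (tt N2780 D3920) (tt N2781 D3921) (tt N2782 D3922) (tt N2783 D3923) (tt N1941 F13702))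
theorem Q1235 : ∀ i, i < 1235 → P i := stepQ 1234 Q1234 (allL N1234 (tt N552 (iv1 D1694)) (tt N1942 F4240) (tt N1941 F13698) (tt N2784 D3925) (tt N2785 D3926) (tt N2786 D3927) (tt N2787 D3928) (tt N1940 (iv7 F13704)))
theorem Q1236 : ∀ i, i < 1236 → P i := stepQ 1235 Q1235 (allL N1235 (tt N1941 (iv1 F4237)) (tt N1940 F4239) (tt N1942 (iv2 F4238)) (tt N2753 (iv3 F5849)) (tt N2779 (iv4 F5859)) (tt N2507 (iv5 F5583)) (tt N2788 D3929) (tt N552 (iv7 D1695)))
theorem Q1237 : ∀ i, i < 1237 → P i := stepQ 1236 Q1236 (allL N1236 (tt N2789 D3930) (tt N2790 D3931) (tt N1943 (iv2 F4242)) (tt N2754 (iv3 F5850)) (tt N1844 (iv4 F4044)) (tt N2791 D3932) (tt N553 (iv6 D1696)) (tt N2788 (iv7 F5864)))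
theorem Q1238 : ∀ i, i < 1238 → P i := stepQ 1237 Q1237 (allL N1237 (tt N1143 (iv1 F2872)) (tt N554 (iv0 D1697)) (tt N1114 (iv2 F2885)) (tt N2792 D3933) (tt N564 F2870) (tt N2793 D3934) (tt N563 F2871) (tt N1944 (iv7 F4245)))
theorem Q1239 : ∀ i, i < 1239 → P i := stepQ 1238 Q1238 (allL N1238 (tt N554 (iv1 D1698)) (tt N1143 F2886) (tt N1944 F4247) (tt N2794 D3935) (tt N2340 (iv4 F5364)) (tt N2795 D3936) (tt N2599 F5686) (tt N1114 F2887))
theorem Q1240 : ∀ i, i < 1240 → P i := stepQ 1239 Q1239 (allL N1239 (tt N2480 (iv1 F5556)) (tt N2796 D3937) (tt N1945 (iv2 F4248)) (tt N2757 (iv3 F5851)) (tt N2797 D3938) (tt N554 (iv5 D1699)) (tt N2791 (iv6 F5865)) (tt N2509 (iv7 F5584)))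
theorem Q1241 : ∀ i, i < 1241 → P i := stepQ 1240 Q1240 (allL N1240 (tt N2798 D3939) (tt N2799 D3940) (tt N2800 D3941) (tt N557 (iv3 D1700)) (tt N1240 F2888) (tt N2801 D3942) (tt N1869 (iv6 F4090)) (tt N1180 F2889))
theorem Q1242 : ∀ i, i < 1242 → P i := stepQ 1241 Q1241 (allL N1241 (tt N832 F2892) (tt N840 F2893) (tt N567 F2890) (tt N2801 (iv3 F5883)) (tt N2041 (iv4 F4487)) (tt N557 (iv5 D1701)) (tt N2802 D3943) (tt N1154 F2891))
theorem Q1243 : ∀ i, i < 1243 → P i := stepQ 1242 Q1242 (allL N1242 (tt N564 F2898) (tt N2340 F5367) (tt N569 F2894) (tt N1242 F2895) (tt N1177 F2896) (tt N1242 F2897) (tt N558 (iv6 D1702)) (tt N1244 (iv7 F2908)))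
theorem Q1244 : ∀ i, i < 1244 → P i := stepQ 1243 Q1243 (allL N1243 (tt N2340 (iv1 F5368)) (tt N564 (iv0 F2903)) (tt N1244 (iv2 F2904)) (tt N572 F2899) (tt N1176 F2900) (tt N1243 F2901) (tt N559 (iv6 D1703)) (tt N569 F2902))
theorem Q1245 : ∀ i, i < 1245 → P i := stepQ 1244 Q1244 (allL N1244 (tt N1251 (iv1 F2920)) (tt N1043 (iv0 F2909)) (tt N1243 F2904) (tt N1244 F2905) (tt N1146 F2906) (tt N1244 F2907) (tt N560 (iv6 D1704)) (tt N1242 F2908))
theorem Q1246 : ∀ i, i < 1246 → P i := stepQ 1245 Q1245 (allL N1245 (tt N2803 D3944) (tt N2804 D3945) (tt N2805 D3946) (tt N561 (iv3 D1705)) (tt N1245 F2911) (tt N1934 (iv5 F4227)) (tt N2806 D3947) (tt N1113 F2912))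
theorem Q1247 : ∀ i, i < 1247 → P i := stepQ 1246 Q1246 (allL N1246 (tt N1357 F3116) (tt N1880 (iv0 F4123)) (tt N1112 F2913) (tt N2806 (iv3 F5894)) (tt N562 F2914) (tt N2807 D3948) (tt N561 (iv6 D1706)) (tt N2599 (iv7 F5685)))
theorem Q1248 : ∀ i, i < 1248 → P i := stepQ 1247 Q1247 (allL N1247 (tt N1270 F2962) (tt N562 (iv0 D1707)) (tt N1268 (iv2 F2988)) (tt N1247 F2989) (tt N1156 (iv4 F2995)) (tt N1269 F2953) (tt N1253 F2926) (tt N1269 F2991))
theorem Q1249 : ∀ i, i < 1249 → P i := stepQ 1248 Q1248 (allL N1248 (tt N562 (iv1 D1708)) (tt N1270 F2960) (tt N1269 F2987) (tt N577 F2949) (tt N1157 (iv4 F2961)) (tt N1268 (iv5 F2948)) (tt N1248 F2950) (tt N1268 (iv7 F2983)))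
theorem Q1250 : ∀ i, i < 1250 → P i := stepQ 1249 Q1249 (allL N1249 (tt N1269 (iv1 F2952)) (tt N1268 F2959) (tt N1270 (iv2 F2955)) (tt N1249 F2915) (tt N2599 (iv4 F5682)) (tt N2340 (iv5 F5365)) (tt N2340 (iv6 F5366)) (tt N562 (iv7 D1709)))
theorem Q1251 : ∀ i, i < 1251 → P i := stepQ 1250 Q1250 (allL N1250 (tt N2808 D3949) (tt N2809 D3950) (tt N2810 D3951) (tt N563 (iv3 D1710)) (tt N579 F2916) (tt N1936 (iv5 F4230)) (tt N2792 (iv6 F5867)) (tt N1111 F2917))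
theorem Q1252 : ∀ i, i < 1252 → P i := stepQ 1251 Q1251 (allL N1251 (tt N569 (iv1 F2919)) (tt N1244 F2920) (tt N2340 (iv2 F5362)) (tt N581 F2918) (tt N1944 F4246) (tt N1270 (iv5 F2957)) (tt N1270 (iv6 F2958)) (tt N564 (iv7 D1711)))
theorem Q1253 : ∀ i, i < 1253 → P i := stepQ 1252 Q1252 (allL N1252 (tt N1207 (iv1 F2922)) (tt N565 (iv0 D1712)) (tt N1253 (iv2 F2990)) (tt N582 F2951) (tt N1193 (iv4 F3095)) (tt N1252 F2923) (tt N1268 (iv6 F2947)) (tt N1252 F2978))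
theorem Q1254 : ∀ i, i < 1254 → P i := stepQ 1253 Q1253 (allL N1253 (tt N565 (iv1 D1713)) (tt N1207 F2924) (tt N1252 F2990) (tt N1253 F2994) (tt N1194 (iv4 F3096)) (tt N1253 F2925) (tt N1247 (iv6 F2926)) (tt N1253 F2993))
theorem Q1255 : ∀ i, i < 1255 → P i := stepQ 1254 Q1254 (allL N1254 (tt N2811 D3952) (tt N566 (iv0 D1714)) (tt N1445 (iv2 F6531)) (tt N1442 (iv3 F6547)) (tt N1444 (iv4 F6530)) (tt N2812 D3955) (tt N1254 F7149) (tt N1459 (iv7 F6549)))
theorem Q1256 : ∀ i, i < 1256 → P i := stepQ 1255 Q1255 (allL N1255 (tt N566 (iv1 D1715)) (tt N2811 F5912) (tt N1459 (iv2 F6548)) (tt N2813 D3958) (tt N1447 (iv4 F6535)) (tt N2814 D3959) (tt N2815 D3960) (tt N1445 (iv7 F6532)))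
theorem Q1257 : ∀ i, i < 1257 → P i := stepQ 1256 Q1256 (allL N1256 (tt N1445 F3281) (tt N1459 F3303) (tt N566 (iv2 D1716)) (tt N2800 (iv3 F5877)) (tt N585 F2927) (tt N2816 D3961) (tt N2566 (iv6 F5660)) (tt N2811 (iv7 F5911)))
theorem Q1258 : ∀ i, i < 1258 → P i := stepQ 1257 Q1257 (allL N1257 (tt N2817 D3962) (tt N2818 D3963) (tt N2816 (iv2 F5915)) (tt N567 F2928) (tt N2819 D3964) (tt N566 (iv5 D1717)) (tt N2820 D3965) (tt N2821 D3966))
theorem Q1259 : ∀ i, i < 1259 → P i := stepQ 1258 Q1258 (allL N1258 (tt N1459 F3302) (tt N1445 (iv0 F3280)) (tt N2811 F5910) (tt N568 F2929) (tt N587 F2930) (tt N2821 (iv5 F5918)) (tt N2822 D3967) (tt N566 (iv7 D1718)))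
theorem Q1260 : ∀ i, i < 1260 → P i := stepQ 1259 Q1259 (allL N1259 (tt N1817 (iv1 F3979)) (tt N1811 (iv0 F3962)) (tt N2041 (iv2 F4486)) (tt N2823 D3968) (tt N567 (iv4 D1719)) (tt N1125 F2931) (tt N2824 D3969) (tt N1544 (iv7 F3436)))
theorem Q1261 : ∀ i, i < 1261 → P i := stepQ 1260 Q1260 (allL N1260 (tt N2825 D3970) (tt N2826 D3971) (tt N2802 (iv2 F5885)) (tt N2820 (iv3 F5916)) (tt N2824 (iv4 F5923)) (tt N2568 (iv5 F5662)) (tt N567 (iv6 D1720)) (tt N2827 D3972))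
theorem Q1262 : ∀ i, i < 1262 → P i := stepQ 1261 Q1261 (allL N1261 (tt N840 (iv1 F2934)) (tt N832 F2935) (tt N1154 F2932) (tt N2821 (iv3 F5917)) (tt N1544 (iv4 F3437)) (tt N568 F2933) (tt N2828 D3973) (tt N567 (iv7 D1721)))
theorem Q1263 : ∀ i, i < 1263 → P i := stepQ 1262 Q1262 (allL N1262 (tt N841 F2939) (tt N1179 F2940) (tt N1177 F2936) (tt N2822 (iv3 F5919)) (tt N569 F2937) (tt N2596 (iv5 F5680)) (tt N568 (iv6 D1722)) (tt N1176 F2938))
theorem Q1264 : ∀ i, i < 1264 → P i := stepQ 1263 Q1263 (allL N1263 (tt N1327 (iv1 F3058)) (tt N570 (iv0 D1723)) (tt N1326 F12279) (tt N2829 D3975) (tt N2830 D3976) (tt N1293 (iv5 F7008)) (tt N2831 D3978) (tt N1325 F12280))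
theorem Q1265 : ∀ i, i < 1265 → P i := stepQ 1264 Q1264 (allL N1264 (tt N570 (iv1 D1724)) (tt N1327 F3060) (tt N1325 (iv2 F12276)) (tt N2832 D3980) (tt N2833 D3981) (tt N1294 (iv5 F7023)) (tt N2834 D3983) (tt N1326 (iv7 F12277)))
theorem Q1266 : ∀ i, i < 1266 → P i := stepQ 1265 Q1265 (allL N1265 (tt N1326 (iv1 F3059)) (tt N1325 F3055) (tt N570 (iv2 D1725)) (tt N1265 F2941) (tt N2566 (iv4 F5659)) (tt N2835 D3984) (tt N585 F2942) (tt N1327 (iv7 F3057)))
theorem Q1267 : ∀ i, i < 1267 → P i := stepQ 1266 Q1266 (allL N1266 (tt N2836 D3985) (tt N2837 D3986) (tt N2835 (iv2 F5929)) (tt N571 F2943) (tt N2838 D3987) (tt N570 (iv5 D1726)) (tt N2839 D3988) (tt N1318 (iv7 F3043)))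
theorem Q1268 : ∀ i, i < 1268 → P i := stepQ 1267 Q1267 (allL N1267 (tt N2840 D3989) (tt N2841 D3990) (tt N1267 F2944) (tt N2839 (iv3 F5931)) (tt N1323 (iv4 F3051)) (tt N588 F2945) (tt N571 (iv6 D1727)) (tt N2842 D3991))
theorem Q1269 : ∀ i, i < 1269 → P i := stepQ 1268 Q1268 (allL N1268 (tt N1249 (iv1 F2959)) (tt N573 (iv0 D1728)) (tt N1247 F2988) (tt N576 F2946) (tt N1876 (iv4 F4104)) (tt N1248 F2948) (tt N1252 F2947) (tt N1248 F2983))
theorem Q1270 : ∀ i, i < 1270 → P i := stepQ 1269 Q1269 (allL N1269 (tt N573 (iv1 D1729)) (tt N1249 F2952) (tt N1248 (iv2 F2987)) (tt N1269 F2992) (tt N1877 F4112) (tt N1247 (iv5 F2953)) (tt N1269 F2954) (tt N1247 (iv7 F2991)))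
theorem Q1271 : ∀ i, i < 1271 → P i := stepQ 1270 Q1270 (allL N1270 (tt N1248 (iv1 F2960)) (tt N1247 (iv0 F2962)) (tt N1249 F2955) (tt N578 F2956) (tt N2481 (iv4 F5557)) (tt N1251 F2957) (tt N1251 F2958) (tt N573 (iv7 D1730)))
theorem Q1272 : ∀ i, i < 1272 → P i := stepQ 1271 Q1271 (allL N1271 (tt N1279 (iv1 F2999)) (tt N574 (iv0 D1731)) (tt N1278 (iv2 F12135)) (tt N1365 F3127) (tt N2843 D3993) (tt N1433 (iv5 F7292)) (tt N2844 D3995) (tt N1277 (iv7 F12136)))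
theorem Q1273 : ∀ i, i < 1273 → P i := stepQ 1272 Q1272 (allL N1272 (tt N574 (iv1 D1732)) (tt N1279 F3001) (tt N1277 F12138) (tt N2845 D3997) (tt N2622 (iv4 F5705)) (tt N1434 (iv5 F7300)) (tt N636 (iv6 F16754)) (tt N1278 F12139))
theorem Q1274 : ∀ i, i < 1274 → P i := stepQ 1273 Q1273 (allL N1273 (tt N1278 (iv1 F3000)) (tt N1277 F2996) (tt N574 (iv2 D1733)) (tt N1273 F2964) (tt N2478 (iv4 F5553)) (tt N1488 (iv5 F3325)) (tt N2846 D4000) (tt N1279 (iv7 F2998)))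
theorem Q1275 : ∀ i, i < 1275 → P i := stepQ 1274 Q1274 (allL N1274 (tt N2847 D4001) (tt N2848 D4002) (tt N2846 (iv2 F5939)) (tt N575 F2965) (tt N2479 (iv4 F5555)) (tt N2849 D4003) (tt N574 (iv6 D1734)) (tt N2850 D4004))
theorem Q1276 : ∀ i, i < 1276 → P i := stepQ 1275 Q1275 (allL N1275 (tt N1324 (iv1 F3054)) (tt N675 F2967) (tt N1275 F2966) (tt N2849 (iv3 F5941)) (tt N2851 D4005) (tt N575 (iv5 D1735)) (tt N1377 (iv6 F291741)) (tt N1518 (iv7 F3380)))
theorem Q1277 : ∀ i, i < 1277 → P i := stepQ 1276 Q1276 (allL N1276 (tt N613 (iv1 F2972)) (tt N612 F2971) (tt N1276 F2968) (tt N2850 (iv3 F5942)) (tt N578 F2969) (tt N1518 (iv5 F3381)) (tt N674 F2970) (tt N575 (iv7 D1736)))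
theorem Q1278 : ∀ i, i < 1278 → P i := stepQ 1277 Q1277 (allL N1277 (tt N1273 (iv1 F2996)) (tt N579 (iv0 D1739)) (tt N1272 (iv2 F12138)) (tt N1336 F3070) (tt N2852 D4007) (tt N1413 (iv5 F6924)) (tt N640 (iv6 F16745)) (tt N1271 F12136))
theorem Q1279 : ∀ i, i < 1279 → P i := stepQ 1278 Q1278 (allL N1278 (tt N579 (iv1 D1740)) (tt N1273 F3000) (tt N1271 F12135) (tt N2853 D4011) (tt N2854 D4012) (tt N1414 (iv5 F6930)) (tt N2855 D4014) (tt N1272 (iv7 F12139)))
theorem Q1280 : ∀ i, i < 1280 → P i := stepQ 1279 Q1279 (allL N1279 (tt N1272 (iv1 F3001)) (tt N1271 F2999) (tt N579 (iv2 D1741)) (tt N1279 F2997) (tt N2810 (iv4 F5904)) (tt N1494 (iv5 F3334)) (tt N2856 D4015) (tt N1273 F2998))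
theorem Q1281 : ∀ i, i < 1281 → P i := stepQ 1280 Q1280 (allL N1280 (tt N2844 (iv1 F7291)) (tt N1425 (iv0 F16765)) (tt N2856 (iv2 F5948)) (tt N580 F3002) (tt N2792 (iv4 F5866)) (tt N2857 D4018) (tt N579 (iv6 D1742)) (tt N1517 (iv7 F3374)))
theorem Q1282 : ∀ i, i < 1282 → P i := stepQ 1281 Q1281 (allL N1281 (tt N1360 (iv1 F3124)) (tt N632 F292760) (tt N1281 F3003) (tt N2857 (iv3 F5950)) (tt N1417 F292761) (tt N580 (iv5 D1743)) (tt N1498 (iv6 F3343)) (tt N1404 F292762))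
theorem Q1283 : ∀ i, i < 1283 → P i := stepQ 1282 Q1282 (allL N1282 (tt N584 (iv1 F3010)) (tt N583 (iv0 D1745)) (tt N587 (iv2 F3007)) (tt N1282 F3008) (tt N2811 (iv4 F5909)) (tt N1502 (iv5 F3351)) (tt N2858 D4020) (tt N585 F3009))
theorem Q1284 : ∀ i, i < 1284 → P i := stepQ 1283 Q1283 (allL N1283 (tt N587 (iv1 F6411)) (tt N585 (iv0 F6412)) (tt N583 (iv2 D1746)) (tt N2859 D4023) (tt N1919 (iv4 F6414)) (tt N2837 (iv5 F7015)) (tt N1283 F7177) (tt N584 (iv7 F3011)))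
theorem Q1285 : ∀ i, i < 1285 → P i := stepQ 1284 Q1284 (allL N1284 (tt N1395 (iv1 F6470)) (tt N2860 D4028) (tt N1213 (iv2 F6423)) (tt N583 (iv3 D1747)) (tt N1211 (iv4 F6424)) (tt N2861 D4030) (tt N1284 F7173) (tt N1217 (iv7 F6419)))
theorem Q1286 : ∀ i, i < 1286 → P i := stepQ 1285 Q1285 (allL N1285 (tt N2862 D4033) (tt N2685 (iv0 F6471)) (tt N1919 (iv2 F6413)) (tt N2863 D4035) (tt N583 (iv4 D1748)) (tt N2864 D4036) (tt N1285 F7178) (tt N2865 D4038))
theorem Q1287 : ∀ i, i < 1287 → P i := stepQ 1286 Q1286 (allL N1286 (tt N2835 (iv1 F7179)) (tt N1318 (iv0 F7180)) (tt N2837 (iv2 F7014)) (tt N2861 (iv3 F5965)) (tt N2866 D4041) (tt N583 (iv5 D1749)) (tt N2867 D4042) (tt N2836 (iv7 F7020)))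
theorem Q1288 : ∀ i, i < 1288 → P i := stepQ 1287 Q1287 (allL N1287 (tt N585 F6416) (tt N587 F6417) (tt N584 F3013) (tt N1217 (iv3 F6418)) (tt N2865 (iv4 F5977)) (tt N2836 (iv5 F7019)) (tt N2868 D4048) (tt N583 (iv7 D1751)))
theorem Q1289 : ∀ i, i < 1289 → P i := stepQ 1288 Q1288 (allL N1288 (tt N2869 D4049) (tt N1383 F6457) (tt N2870 D4051) (tt N584 (iv3 D1752)) (tt N2871 D4052) (tt N2872 D4053) (tt N2873 D4054) (tt N2859 (iv7 F5956)))
theorem Q1290 : ∀ i, i < 1290 → P i := stepQ 1289 Q1289 (allL N1289 (tt N2685 (iv1 F6472)) (tt N2862 F5978) (tt N2865 (iv2 F5976)) (tt N1922 (iv3 F6463)) (tt N584 (iv4 D1753)) (tt N2874 D4055) (tt N2875 D4056) (tt N1919 (iv7 F6415)))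
theorem Q1291 : ∀ i, i < 1291 → P i := stepQ 1290 Q1290 (allL N1290 (tt N1318 F7181) (tt N2835 F7182) (tt N2836 (iv2 F7017)) (tt N2872 (iv3 F5989)) (tt N2876 D4057) (tt N584 (iv5 D1754)) (tt N2877 D4058) (tt N2837 (iv7 F7016)))
theorem Q1292 : ∀ i, i < 1292 → P i := stepQ 1291 Q1291 (allL N1291 (tt N1405 (iv1 F17465)) (tt N2878 D4060) (tt N2868 (iv2 F5983)) (tt N2873 (iv3 F5990)) (tt N2875 (iv4 F5991)) (tt N1438 (iv5 F294344)) (tt N584 (iv6 D1755)) (tt N1291 F7196))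
theorem Q1293 : ∀ i, i < 1293 → P i := stepQ 1292 Q1292 (allL N1292 (tt N1501 (iv1 F3354)) (tt N1500 F3349) (tt N586 F3017) (tt N1292 F3018) (tt N2879 D4071) (tt N585 (iv5 D1758)) (tt N2880 D4072) (tt N1502 (iv7 F3352)))
theorem Q1294 : ∀ i, i < 1294 → P i := stepQ 1293 Q1293 (allL N1293 (tt N1502 (iv1 F3353)) (tt N586 (iv0 D1759)) (tt N1501 F12282) (tt N2881 D4074) (tt N2882 D4075) (tt N1263 F7008) (tt N2883 D4077) (tt N1500 F12283))
theorem Q1295 : ∀ i, i < 1295 → P i := stepQ 1294 Q1294 (allL N1294 (tt N586 (iv1 D1760)) (tt N1502 F3355) (tt N1500 (iv2 F12278)) (tt N2884 D4079) (tt N2885 D4080) (tt N1264 F7023) (tt N2886 D4082) (tt N1501 (iv7 F12281)))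
theorem Q1296 : ∀ i, i < 1296 → P i := stepQ 1295 Q1295 (allL N1295 (tt N2887 D4083) (tt N2888 D4084) (tt N2879 (iv2 F6001)) (tt N1480 (iv3 F3319)) (tt N586 (iv4 D1761)) (tt N2889 D4085) (tt N2890 D4086) (tt N1477 F3317))
theorem Q1297 : ∀ i, i < 1297 → P i := stepQ 1296 Q1296 (allL N1296 (tt N2891 D4087) (tt N2892 D4088) (tt N2880 (iv2 F6002)) (tt N588 F3019) (tt N2890 (iv4 F6006)) (tt N2839 (iv5 F5932)) (tt N586 (iv6 D1762)) (tt N2893 D4089))
theorem Q1298 : ∀ i, i < 1298 → P i := stepQ 1297 Q1297 (allL N1297 (tt N2894 D4090) (tt N2895 D4091) (tt N2858 (iv2 F5952)) (tt N589 F3020) (tt N2822 (iv4 F5920)) (tt N2896 D4092) (tt N587 (iv6 D1763)) (tt N1329 (iv7 F3064)))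
theorem Q1299 : ∀ i, i < 1299 → P i := stepQ 1298 Q1298 (allL N1298 (tt N1300 (iv1 F3022)) (tt N588 (iv0 D1764)) (tt N1298 F14208) (tt N2897 D4094) (tt N1504 F15274) (tt N2898 D4096) (tt N2899 D4097) (tt N1299 (iv7 F14213)))
theorem Q1300 : ∀ i, i < 1300 → P i := stepQ 1299 Q1299 (allL N1299 (tt N588 (iv1 D1765)) (tt N1300 F3023) (tt N1299 F14212) (tt N2900 D4099) (tt N1505 F15282) (tt N2899 (iv5 F6010)) (tt N2901 D4101) (tt N1298 F14213))
theorem Q1301 : ∀ i, i < 1301 → P i := stepQ 1300 Q1300 (allL N1300 (tt N1299 (iv1 F3023)) (tt N1298 F3022) (tt N1300 F3021) (tt N2893 (iv3 F6007)) (tt N1515 (iv4 F3368)) (tt N2842 (iv5 F5934)) (tt N1507 (iv6 F3361)) (tt N588 (iv7 D1766)))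
theorem Q1302 : ∀ i, i < 1302 → P i := stepQ 1301 Q1301 (allL N1301 (tt N609 F3025) (tt N1356 F3112) (tt N1301 F3024) (tt N2896 (iv3 F6008)) (tt N2902 D4102) (tt N589 (iv5 D1767)) (tt N1506 (iv6 F3358)) (tt N1330 (iv7 F3066)))
theorem Q1303 : ∀ i, i < 1303 → P i := stepQ 1302 Q1302 (allL N1302 (tt N591 (iv1 F3029)) (tt N590 (iv0 D1768)) (tt N594 (iv2 F3026)) (tt N1302 F3027) (tt N2487 (iv4 F5565)) (tt N2903 D4103) (tt N2904 D4104) (tt N592 F3028))
theorem Q1304 : ∀ i, i < 1304 → P i := stepQ 1303 Q1303 (allL N1303 (tt N594 (iv1 F6288)) (tt N592 (iv0 F6289)) (tt N590 (iv2 D1769)) (tt N2905 D4107) (tt N2906 D4108) (tt N1465 F6983) (tt N2907 D4110) (tt N591 (iv7 F3030)))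
theorem Q1305 : ∀ i, i < 1305 → P i := stepQ 1304 Q1304 (allL N1304 (tt N2853 (iv1 F12149)) (tt N2908 D4112) (tt N2909 D4113) (tt N590 (iv3 D1770)) (tt N2910 D4114) (tt N1469 F7102) (tt N2911 D4116) (tt N2912 D4117))
theorem Q1306 : ∀ i, i < 1306 → P i := stepQ 1305 Q1305 (allL N1305 (tt N2913 D4118) (tt N2914 D4119) (tt N2906 (iv2 F6027)) (tt N2915 D4120) (tt N590 (iv4 D1771)) (tt N2916 D4121) (tt N2917 D4122) (tt N2918 D4123))
theorem Q1307 : ∀ i, i < 1307 → P i := stepQ 1306 Q1306 (allL N1306 (tt N2919 D4129) (tt N1359 F17458) (tt N2907 (iv2 F6031)) (tt N2911 (iv3 F6036)) (tt N2917 (iv4 F6044)) (tt N2920 D4131) (tt N590 (iv6 D1773)) (tt N2921 D4132))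
theorem Q1308 : ∀ i, i < 1308 → P i := stepQ 1307 Q1307 (allL N1307 (tt N592 F6293) (tt N594 F6294) (tt N591 F3031) (tt N2912 (iv3 F6037)) (tt N2918 (iv4 F6046)) (tt N1466 F6987) (tt N1485 (iv6 F6989)) (tt N590 (iv7 D1774)))
theorem Q1309 : ∀ i, i < 1309 → P i := stepQ 1308 Q1308 (allL N1308 (tt N1362 F6041) (tt N1365 (iv0 F6268)) (tt N2922 D4135) (tt N591 (iv3 D1775)) (tt N2922 (iv4 F6300)) (tt N1472 (iv5 F7106)) (tt N2923 D4138) (tt N2905 (iv7 F6026)))
theorem Q1310 : ∀ i, i < 1310 → P i := stepQ 1309 Q1309 (allL N1309 (tt N2914 (iv1 F6042)) (tt N2913 (iv0 F6040)) (tt N2918 (iv2 F6045)) (tt N2924 D4139) (tt N591 (iv4 D1776)) (tt N2925 D4140) (tt N2926 D4141) (tt N2906 (iv7 F6028)))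
theorem Q1311 : ∀ i, i < 1311 → P i := stepQ 1310 Q1310 (allL N1310 (tt N1317 (iv1 F7112)) (tt N1440 (iv0 F7113)) (tt N1485 (iv2 F6988)) (tt N2923 (iv3 F6054)) (tt N2926 (iv4 F6057)) (tt N2927 D4146) (tt N591 (iv6 D1778)) (tt N1486 (iv7 F6990)))
theorem Q1312 : ∀ i, i < 1312 → P i := stepQ 1311 Q1311 (allL N1311 (tt N655 (iv1 F6910)) (tt N651 F6907) (tt N593 F3034) (tt N1311 F3035) (tt N2928 D4160) (tt N592 (iv5 D1781)) (tt N2929 D4161) (tt N2903 (iv7 F6016)))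
theorem Q1313 : ∀ i, i < 1313 → P i := stepQ 1312 Q1312 (allL N1312 (tt N2903 (iv1 F6018)) (tt N593 (iv0 D1782)) (tt N655 F7119) (tt N2930 D4163) (tt N2931 D4164) (tt N652 F7120) (tt N2932 D4166) (tt N651 F7121))
theorem Q1314 : ∀ i, i < 1314 → P i := stepQ 1313 Q1313 (allL N1313 (tt N593 (iv1 D1783)) (tt N2903 F6017) (tt N651 F7123) (tt N2933 D4168) (tt N2934 D4169) (tt N648 F7124) (tt N2935 D4171) (tt N655 F7125))
theorem Q1315 : ∀ i, i < 1315 → P i := stepQ 1314 Q1314 (allL N1314 (tt N2936 D4172) (tt N2937 D4173) (tt N2928 (iv2 F6064)) (tt N2938 D4174) (tt N593 (iv4 D1784)) (tt N2939 D4175) (tt N2940 D4176) (tt N2941 D4177))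
theorem Q1316 : ∀ i, i < 1316 → P i := stepQ 1315 Q1315 (allL N1315 (tt N2942 D4178) (tt N2943 D4179) (tt N2929 (iv2 F6065)) (tt N596 F3036) (tt N2940 (iv4 F6072)) (tt N661 F3037) (tt N593 (iv6 D1785)) (tt N2944 D4180))
theorem Q1317 : ∀ i, i < 1317 → P i := stepQ 1316 Q1316 (allL N1316 (tt N651 F6908) (tt N655 (iv0 F6909)) (tt N2903 (iv2 F6014)) (tt N597 F3038) (tt N2941 (iv4 F6074)) (tt N594 F3039) (tt N2945 D4181) (tt N593 (iv7 D1786)))
theorem Q1318 : ∀ i, i < 1318 → P i := stepQ 1317 Q1317 (allL N1317 (tt N2946 D4182) (tt N1310 F7112) (tt N2904 (iv2 F6019)) (tt N598 F3040) (tt N2502 (iv4 F5579)) (tt N2947 D4184) (tt N594 (iv6 D1787)) (tt N663 F3041))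
theorem Q1319 : ∀ i, i < 1319 → P i := stepQ 1318 Q1318 (allL N1318 (tt N1286 F7180) (tt N1290 (iv0 F7181)) (tt N2948 D4187) (tt N595 (iv3 D1788)) (tt N2938 (iv4 F6070)) (tt N599 F3042) (tt N2949 D4188) (tt N1266 F3043))
theorem Q1320 : ∀ i, i < 1320 → P i := stepQ 1319 Q1319 (allL N1319 (tt N2950 D4189) (tt N2951 D4190) (tt N1319 F3044) (tt N2949 (iv3 F6089)) (tt N596 F3045) (tt N1513 (iv5 F291112)) (tt N595 (iv6 D1789)) (tt N2952 D4192))
theorem Q1321 : ∀ i, i < 1321 → P i := stepQ 1320 Q1320 (allL N1320 (tt N1322 (iv1 F3048)) (tt N596 (iv0 D1790)) (tt N1320 F16058) (tt N2953 D4194) (tt N2954 D4195) (tt N2955 D4196) (tt N2956 D4197) (tt N1321 F16059))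
theorem Q1322 : ∀ i, i < 1322 → P i := stepQ 1321 Q1321 (allL N1321 (tt N596 (iv1 D1791)) (tt N1322 F3049) (tt N1321 F16055) (tt N2957 D4199) (tt N2958 D4200) (tt N2959 D4201) (tt N2960 D4202) (tt N1320 (iv7 F16059)))
theorem Q1323 : ∀ i, i < 1323 → P i := stepQ 1322 Q1322 (allL N1322 (tt N1321 (iv1 F3049)) (tt N1320 F3048) (tt N1322 F3046) (tt N2944 (iv3 F6075)) (tt N2952 (iv4 F6093)) (tt N672 F3047) (tt N2961 D4203) (tt N596 (iv7 D1792)))
theorem Q1324 : ∀ i, i < 1324 → P i := stepQ 1323 Q1323 (allL N1323 (tt N2954 (iv1 F16065)) (tt N2958 F16060) (tt N1323 F3050) (tt N2945 (iv3 F6077)) (tt N1267 F3051) (tt N1505 (iv5 F291505)) (tt N597 (iv6 D1793)) (tt N2961 (iv7 F6101)))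
theorem Q1325 : ∀ i, i < 1325 → P i := stepQ 1324 Q1324 (allL N1324 (tt N1518 (iv1 F3379)) (tt N1275 F3054) (tt N1324 F3052) (tt N2947 (iv3 F6080)) (tt N2901 (iv4 F291737)) (tt N598 (iv5 D1794)) (tt N1505 (iv6 F291506)) (tt N675 F3053))
theorem Q1326 : ∀ i, i < 1326 → P i := stepQ 1325 Q1325 (allL N1325 (tt N1265 (iv1 F3055)) (tt N599 (iv0 D1795)) (tt N1264 F12276) (tt N2494 F5570) (tt N2962 D4209) (tt N1500 (iv5 F7323)) (tt N2894 (iv6 F7325)) (tt N1263 (iv7 F12280)))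
theorem Q1327 : ∀ i, i < 1327 → P i := stepQ 1326 Q1326 (allL N1326 (tt N599 (iv1 D1796)) (tt N1265 F3059) (tt N1263 (iv2 F12279)) (tt N2963 D4213) (tt N2964 D4214) (tt N1501 (iv5 F7326)) (tt N2965 D4216) (tt N1264 F12277))
theorem Q1328 : ∀ i, i < 1328 → P i := stepQ 1327 Q1327 (allL N1327 (tt N1264 (iv1 F3060)) (tt N1263 F3058) (tt N599 (iv2 D1797)) (tt N1327 F3056) (tt N2966 D4217) (tt N2948 (iv5 F6084)) (tt N2967 D4218) (tt N1265 F3057))
theorem Q1329 : ∀ i, i < 1329 → P i := stepQ 1328 Q1328 (allL N1328 (tt N2924 F6055) (tt N2910 (iv0 F6032)) (tt N2966 (iv2 F6114)) (tt N829 F3061) (tt N599 (iv4 D1798)) (tt N2664 (iv5 F5742)) (tt N2643 (iv6 F5715)) (tt N1147 F3062))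
theorem Q1330 : ∀ i, i < 1330 → P i := stepQ 1329 Q1329 (allL N1329 (tt N2968 D4219) (tt N2834 (iv0 F7024)) (tt N2967 (iv2 F6119)) (tt N600 F3063) (tt N2643 (iv4 F5714)) (tt N2969 D4221) (tt N599 (iv6 D1799)) (tt N1297 F3064))
theorem Q1331 : ∀ i, i < 1331 → P i := stepQ 1330 Q1330 (allL N1330 (tt N1356 (iv1 F3111)) (tt N609 F3067) (tt N1330 F3065) (tt N2969 (iv3 F6126)) (tt N1514 (iv4 F292748)) (tt N600 (iv5 D1800)) (tt N1513 F291740) (tt N1301 F3066))
theorem Q1332 : ∀ i, i < 1332 → P i := stepQ 1331 Q1331 (allL N1331 (tt N2832 (iv1 F12245)) (tt N2970 D4230) (tt N2971 D4231) (tt N601 (iv3 D1802)) (tt N2809 F5901) (tt N2972 D4232) (tt N2973 D4233) (tt N1361 (iv7 F12119)))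
theorem Q1333 : ∀ i, i < 1333 → P i := stepQ 1332 Q1332 (allL N1332 (tt N2922 (iv1 F6299)) (tt N2905 (iv0 F6290)) (tt N1365 F12113) (tt N2974 D4236) (tt N601 (iv4 D1803)) (tt N2975 D4237) (tt N2976 D4238) (tt N1362 (iv7 F12121)))
theorem Q1334 : ∀ i, i < 1334 → P i := stepQ 1333 Q1333 (allL N1333 (tt N1388 F6921) (tt N630 F6922) (tt N1366 F12114) (tt N2972 (iv3 F6142)) (tt N2977 D4242) (tt N601 (iv5 D1804)) (tt N2978 D4243) (tt N1363 (iv7 F12123)))
theorem Q1335 : ∀ i, i < 1335 → P i := stepQ 1334 Q1334 (allL N1334 (tt N2979 D4245) (tt N618 (iv0 F7074)) (tt N1367 F12115) (tt N2973 (iv3 F6143)) (tt N2976 (iv4 F6148)) (tt N2980 D4247) (tt N601 (iv6 D1805)) (tt N1385 (iv7 F16781)))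
theorem Q1336 : ∀ i, i < 1336 → P i := stepQ 1335 Q1335 (allL N1335 (tt N2490 F6152) (tt N2494 (iv0 F12191)) (tt N2981 D4251) (tt N602 (iv3 D1807)) (tt N2982 D4252) (tt N2983 D4253) (tt N1386 (iv6 F16740)) (tt N1364 F12108))
theorem Q1337 : ∀ i, i < 1337 → P i := stepQ 1336 Q1336 (allL N1336 (tt N2905 (iv1 F6291)) (tt N2922 (iv0 F6298)) (tt N1362 (iv2 F12120)) (tt N1277 (iv3 F3070)) (tt N602 (iv4 D1808)) (tt N2984 D4255) (tt N1387 (iv6 F16755)) (tt N1365 F12116))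
theorem Q1338 : ∀ i, i < 1338 → P i := stepQ 1337 Q1337 (allL N1337 (tt N630 (iv1 F6917)) (tt N1388 (iv0 F6918)) (tt N1363 (iv2 F12122)) (tt N2983 (iv3 F6163)) (tt N2985 D4257) (tt N602 (iv5 D1809)) (tt N2986 D4258) (tt N1366 F12117))
theorem Q1339 : ∀ i, i < 1339 → P i := stepQ 1338 Q1338 (allL N1338 (tt N1371 (iv1 F3137)) (tt N1370 F3136) (tt N604 F3071) (tt N1338 F3072) (tt N2987 D4263) (tt N603 (iv5 D1811)) (tt N2988 D4264) (tt N1368 (iv7 F3130)))
theorem Q1340 : ∀ i, i < 1340 → P i := stepQ 1339 Q1339 (allL N1339 (tt N2989 D4265) (tt N2990 D4266) (tt N605 F3073) (tt N1339 F3074) (tt N1339 F3075) (tt N2991 D4267) (tt N603 (iv6 D1812)) (tt N2992 D4268))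
theorem Q1341 : ∀ i, i < 1341 → P i := stepQ 1340 Q1340 (allL N1340 (tt N1368 (iv1 F3132)) (tt N604 (iv0 D1813)) (tt N1371 F7253) (tt N2993 D4270) (tt N2994 D4271) (tt N622 (iv5 F7259)) (tt N2995 D4273) (tt N1370 F7254))
theorem Q1342 : ∀ i, i < 1342 → P i := stepQ 1341 Q1341 (allL N1341 (tt N604 (iv1 D1814)) (tt N1368 F3131) (tt N1370 (iv2 F7246)) (tt N2996 D4275) (tt N2997 D4276) (tt N623 F7245) (tt N2998 D4278) (tt N1371 (iv7 F7252)))
theorem Q1343 : ∀ i, i < 1343 → P i := stepQ 1342 Q1342 (allL N1342 (tt N2999 D4279) (tt N3000 D4280) (tt N2987 (iv2 F6168)) (tt N1372 (iv3 F3138)) (tt N604 (iv4 D1815)) (tt N3001 D4281) (tt N3002 D4282) (tt N1372 (iv7 F3139)))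
theorem Q1344 : ∀ i, i < 1344 → P i := stepQ 1343 Q1343 (allL N1343 (tt N3003 D4283) (tt N3004 D4284) (tt N2988 (iv2 F6169)) (tt N606 F3076) (tt N3002 (iv4 F6182)) (tt N3005 D4285) (tt N604 (iv6 D1816)) (tt N3006 D4286))
theorem Q1345 : ∀ i, i < 1345 → P i := stepQ 1344 Q1344 (allL N1344 (tt N2992 (iv1 F6179)) (tt N605 (iv0 D1817)) (tt N2989 F14719) (tt N3007 D4288) (tt N3008 D4289) (tt N2932 F292943) (tt N1401 (iv6 F16826)) (tt N2990 (iv7 F14727)))
theorem Q1346 : ∀ i, i < 1346 → P i := stepQ 1345 Q1345 (allL N1345 (tt N605 (iv1 D1818)) (tt N2992 F6178) (tt N2990 (iv2 F14726)) (tt N3009 D4293) (tt N3010 D4294) (tt N3011 D4295) (tt N1345 F14701) (tt N2989 F14725))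
theorem Q1347 : ∀ i, i < 1347 → P i := stepQ 1346 Q1346 (allL N1346 (tt N2980 (iv1 F16823)) (tt N3012 D4298) (tt N2991 (iv2 F6172)) (tt N609 F3077) (tt N3013 D4299) (tt N605 (iv5 D1819)) (tt N3005 (iv6 F6184)) (tt N3014 D4300))
theorem Q1348 : ∀ i, i < 1348 → P i := stepQ 1347 Q1347 (allL N1347 (tt N2990 (iv1 F6171)) (tt N2989 F6177) (tt N2992 (iv2 F6174)) (tt N610 F3078) (tt N1347 F3079) (tt N3014 (iv5 F6189)) (tt N1376 (iv6 F3144)) (tt N605 (iv7 D1820)))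
theorem Q1349 : ∀ i, i < 1349 → P i := stepQ 1348 Q1348 (allL N1348 (tt N1351 (iv1 F3083)) (tt N606 (iv0 D1821)) (tt N1348 F14839) (tt N3015 D4302) (tt N1350 (iv4 F292291)) (tt N3016 D4304) (tt N1355 F291870) (tt N1349 F14840))
theorem Q1350 : ∀ i, i < 1350 → P i := stepQ 1349 Q1349 (allL N1349 (tt N606 (iv1 D1822)) (tt N1351 F3084) (tt N1349 F14836) (tt N3017 D4307) (tt N1497 F14800) (tt N3018 D4309) (tt N3019 D4310) (tt N1348 (iv7 F14840)))
theorem Q1351 : ∀ i, i < 1351 → P i := stepQ 1350 Q1350 (allL N1350 (tt N1499 (iv1 F292991)) (tt N667 (iv0 F292751)) (tt N1350 F3080) (tt N3005 (iv3 F6183)) (tt N1348 F292291) (tt N606 (iv5 D1823)) (tt N609 F3081) (tt N1497 F292292))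
theorem Q1352 : ∀ i, i < 1352 → P i := stepQ 1351 Q1351 (allL N1351 (tt N1349 (iv1 F3084)) (tt N1348 F3083) (tt N1351 F3082) (tt N3006 (iv3 F6185)) (tt N1380 (iv4 F3148)) (tt N1497 (iv5 F293981)) (tt N1380 (iv6 F3149)) (tt N606 (iv7 D1824)))
theorem Q1353 : ∀ i, i < 1353 → P i := stepQ 1352 Q1352 (allL N1352 (tt N3020 D4315) (tt N2965 (iv0 F17519)) (tt N3021 D4317) (tt N607 (iv3 D1825)) (tt N3022 D4318) (tt N1436 (iv5 F293292)) (tt N1405 (iv6 F3197)) (tt N1353 (iv7 F3104)))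
theorem Q1354 : ∀ i, i < 1354 → P i := stepQ 1353 Q1353 (allL N1353 (tt N2831 F17521) (tt N3023 D4323) (tt N3024 D4324) (tt N608 (iv3 D1827)) (tt N2594 (iv4 F5677)) (tt N3025 D4325) (tt N1353 F3103) (tt N1352 F3104))
theorem Q1355 : ∀ i, i < 1355 → P i := stepQ 1354 Q1354 (allL N1354 (tt N1382 (iv1 F3155)) (tt N620 F3107) (tt N1354 F3105) (tt N3025 (iv3 F6215)) (tt N1419 (iv4 F293748)) (tt N608 (iv5 D1828)) (tt N1419 F292906) (tt N646 (iv7 F293706)))
theorem Q1356 : ∀ i, i < 1356 → P i := stepQ 1355 Q1355 (allL N1355 (tt N2901 (iv1 F291736)) (tt N1519 (iv0 F3384)) (tt N1355 F3108) (tt N3026 D4328) (tt N609 (iv4 D1829)) (tt N1391 (iv5 F291877)) (tt N1348 (iv6 F291870)) (tt N3027 D4330))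
theorem Q1357 : ∀ i, i < 1357 → P i := stepQ 1356 Q1356 (allL N1356 (tt N1301 (iv1 F3112)) (tt N1330 F3111) (tt N1356 F3109) (tt N3014 (iv3 F6188)) (tt N3027 (iv4 F6227)) (tt N610 F3110) (tt N3028 D4331) (tt N609 (iv7 D1830)))
theorem Q1358 : ∀ i, i < 1358 → P i := stepQ 1357 Q1357 (allL N1357 (tt N2481 (iv1 F5560)) (tt N1246 (iv0 F3116)) (tt N1160 F3113) (tt N3029 D4332) (tt N611 (iv4 D1831)) (tt N3030 D4333) (tt N1195 F3114) (tt N1161 F3115))
theorem Q1359 : ∀ i, i < 1359 → P i := stepQ 1358 Q1358 (allL N1358 (tt N2921 (iv1 F17448)) (tt N2907 (iv0 F17449)) (tt N2919 (iv2 F17416)) (tt N612 (iv3 D1832)) (tt N3029 (iv4 F6232)) (tt N1400 F292205) (tt N1403 (iv6 F293288)) (tt N1359 (iv7 F3121)))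
theorem Q1360 : ∀ i, i < 1360 → P i := stepQ 1359 Q1359 (allL N1359 (tt N1306 (iv1 F17458)) (tt N3031 D4341) (tt N3032 D4342) (tt N613 (iv3 D1834)) (tt N2602 (iv4 F5689)) (tt N3033 D4343) (tt N1359 F3120) (tt N1358 F3121))
theorem Q1361 : ∀ i, i < 1361 → P i := stepQ 1360 Q1360 (allL N1360 (tt N1404 F292721) (tt N1281 F3124) (tt N1360 F3122) (tt N3033 (iv3 F6253)) (tt N1392 (iv4 F292984)) (tt N613 (iv5 D1835)) (tt N1392 F292722) (tt N632 F292723))
theorem Q1362 : ∀ i, i < 1362 → P i := stepQ 1361 Q1361 (allL N1361 (tt N2963 (iv1 F12307)) (tt N3034 D4353) (tt N3035 D4354) (tt N614 (iv3 D1837)) (tt N2477 F5552) (tt N3036 D4355) (tt N1393 (iv6 F16762)) (tt N1331 F12119))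
theorem Q1363 : ∀ i, i < 1363 → P i := stepQ 1362 Q1362 (allL N1362 (tt N3037 D4358) (tt N1308 (iv0 F6041)) (tt N1336 F12120) (tt N2908 F6034) (tt N614 (iv4 D1838)) (tt N3038 D4359) (tt N1394 (iv6 F16767)) (tt N1332 F12121))
theorem Q1364 : ∀ i, i < 1364 → P i := stepQ 1363 Q1363 (allL N1363 (tt N1397 (iv1 F7283)) (tt N625 F7280) (tt N1337 F12122) (tt N3036 (iv3 F6273)) (tt N3039 D4364) (tt N614 (iv5 D1839)) (tt N3040 D4365) (tt N1333 F12123))
theorem Q1365 : ∀ i, i < 1365 → P i := stepQ 1364 Q1364 (allL N1364 (tt N3041 D4372) (tt N2829 (iv0 F12193)) (tt N3042 D4374) (tt N615 (iv3 D1842)) (tt N2913 (iv4 F6038)) (tt N3043 D4375) (tt N3044 D4376) (tt N1335 (iv7 F12108)))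
theorem Q1366 : ∀ i, i < 1366 → P i := stepQ 1365 Q1365 (allL N1365 (tt N1308 F6268) (tt N3037 F6280) (tt N1332 (iv2 F12113)) (tt N1271 (iv3 F3127)) (tt N615 (iv4 D1843)) (tt N3045 D4377) (tt N3046 D4378) (tt N1336 (iv7 F12116)))
theorem Q1367 : ∀ i, i < 1367 → P i := stepQ 1366 Q1366 (allL N1366 (tt N625 F7281) (tt N1397 (iv0 F7282)) (tt N1333 (iv2 F12114)) (tt N3043 (iv3 F6312)) (tt N3047 D4379) (tt N615 (iv5 D1844)) (tt N3048 D4380) (tt N1337 (iv7 F12117)))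
theorem Q1368 : ∀ i, i < 1368 → P i := stepQ 1367 Q1367 (allL N1367 (tt N1376 (iv1 F7286)) (tt N1369 (iv0 F7287)) (tt N1334 (iv2 F12115)) (tt N3044 (iv3 F6313)) (tt N3046 (iv4 F6316)) (tt N3049 D4383) (tt N615 (iv6 D1845)) (tt N1374 (iv7 F12118)))
theorem Q1369 : ∀ i, i < 1369 → P i := stepQ 1368 Q1368 (allL N1368 (tt N1341 (iv1 F3131)) (tt N1340 F3132) (tt N617 F3128) (tt N1368 F3129) (tt N3050 D4385) (tt N616 (iv5 D1846)) (tt N3051 D4386) (tt N1338 F3130))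
theorem Q1370 : ∀ i, i < 1370 → P i := stepQ 1369 Q1369 (allL N1369 (tt N1367 F7287) (tt N1385 (iv0 F16780)) (tt N618 F3133) (tt N1369 F3134) (tt N1369 F3135) (tt N3052 D4389) (tt N616 (iv6 D1847)) (tt N2979 (iv7 F7073)))
theorem Q1371 : ∀ i, i < 1371 → P i := stepQ 1370 Q1370 (allL N1370 (tt N1338 (iv1 F3136)) (tt N617 (iv0 D1848)) (tt N1341 F7246) (tt N3053 D4392) (tt N3054 D4393) (tt N627 (iv5 F7056)) (tt N3055 D4395) (tt N1340 (iv7 F7254)))
theorem Q1372 : ∀ i, i < 1372 → P i := stepQ 1371 Q1371 (allL N1371 (tt N617 (iv1 D1849)) (tt N1338 F3137) (tt N1340 (iv2 F7253)) (tt N3056 D4397) (tt N3057 D4398) (tt N628 (iv5 F7064)) (tt N3058 D4400) (tt N1341 F7252))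
theorem Q1373 : ∀ i, i < 1373 → P i := stepQ 1372 Q1372 (allL N1372 (tt N3059 D4401) (tt N3060 D4402) (tt N3050 (iv2 F6317)) (tt N1342 F3138) (tt N617 (iv4 D1850)) (tt N3061 D4403) (tt N3062 D4404) (tt N1342 F3139))
theorem Q1374 : ∀ i, i < 1374 → P i := stepQ 1373 Q1373 (allL N1373 (tt N3063 D4405) (tt N3064 D4406) (tt N3051 (iv2 F6321)) (tt N619 F3140) (tt N3062 (iv4 F6340)) (tt N3065 D4407) (tt N617 (iv6 D1851)) (tt N3066 D4408))
theorem Q1375 : ∀ i, i < 1375 → P i := stepQ 1374 Q1374 (allL N1374 (tt N618 (iv1 D1853)) (tt N2979 (iv0 F7068)) (tt N1385 F16783) (tt N3067 D4415) (tt N3068 D4416) (tt N3012 (iv5 F16828)) (tt N628 F16784) (tt N1367 F12118))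
theorem Q1376 : ∀ i, i < 1376 → P i := stepQ 1375 Q1375 (allL N1375 (tt N3069 D4419) (tt N1463 (iv0 F292700)) (tt N3052 (iv2 F6324)) (tt N620 F3141) (tt N3070 D4421) (tt N618 (iv5 D1854)) (tt N3065 (iv6 F6342)) (tt N3071 D4422))
theorem Q1377 : ∀ i, i < 1377 → P i := stepQ 1376 Q1376 (allL N1376 (tt N1385 F16785) (tt N1367 F7286) (tt N2979 (iv2 F7069)) (tt N621 F3142) (tt N1376 F3143) (tt N3071 (iv5 F6348)) (tt N1347 F3144) (tt N618 (iv7 D1855)))
theorem Q1378 : ∀ i, i < 1378 → P i := stepQ 1377 Q1377 (allL N1377 (tt N1380 (iv1 F3150)) (tt N619 (iv0 D1856)) (tt N1377 F15317) (tt N3072 D4424) (tt N1491 F14807) (tt N665 (iv5 F291972)) (tt N1275 F291741) (tt N1378 (iv7 F15321)))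
theorem Q1379 : ∀ i, i < 1379 → P i := stepQ 1378 Q1378 (allL N1378 (tt N619 (iv1 D1857)) (tt N1380 F3151) (tt N1378 F15320) (tt N3073 D4429) (tt N1492 F14810) (tt N1493 F292755) (tt N3074 D4432) (tt N1377 F15321))
theorem Q1380 : ∀ i, i < 1380 → P i := stepQ 1379 Q1379 (allL N1379 (tt N2960 (iv1 F291861)) (tt N3075 D4434) (tt N1379 F3145) (tt N3065 (iv3 F6341)) (tt N3076 D4435) (tt N619 (iv5 D1858)) (tt N620 F3146) (tt N3077 D4436))
theorem Q1381 : ∀ i, i < 1381 → P i := stepQ 1380 Q1380 (allL N1380 (tt N1378 (iv1 F3151)) (tt N1377 F3150) (tt N1380 F3147) (tt N3066 (iv3 F6343)) (tt N1351 F3148) (tt N3077 (iv5 F6355)) (tt N1351 F3149) (tt N619 (iv7 D1859)))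
theorem Q1382 : ∀ i, i < 1382 → P i := stepQ 1381 Q1381 (allL N1381 (tt N1392 (iv1 F292983)) (tt N626 (iv0 F292985)) (tt N1381 F3152) (tt N3078 D4437) (tt N620 (iv4 D1860)) (tt N3027 (iv5 F6228)) (tt N3076 (iv6 F6353)) (tt N1391 (iv7 F291878)))
theorem Q1383 : ∀ i, i < 1383 → P i := stepQ 1382 Q1382 (allL N1382 (tt N646 (iv1 F293705)) (tt N1354 F3155) (tt N1382 F3153) (tt N3071 (iv3 F6347)) (tt N1391 F292986) (tt N621 F3154) (tt N3079 D4438) (tt N620 (iv7 D1861)))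
theorem Q1384 : ∀ i, i < 1384 → P i := stepQ 1383 Q1383 (allL N1383 (tt N1288 (iv1 F6457)) (tt N2719 (iv0 F5825)) (tt N2682 (iv2 F6382)) (tt N622 (iv3 D1863)) (tt N1430 F3240) (tt N2993 (iv5 F7255)) (tt N3080 D4448) (tt N1393 (iv7 F6385)))
theorem Q1385 : ∀ i, i < 1385 → P i := stepQ 1384 Q1384 (allL N1384 (tt N1456 (iv1 F6551)) (tt N1441 (iv0 F6542)) (tt N1396 (iv2 F6394)) (tt N3081 D4451) (tt N622 (iv4 D1864)) (tt N3082 D4452) (tt N3083 D4453) (tt N1394 (iv7 F6388)))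
theorem Q1386 : ∀ i, i < 1386 → P i := stepQ 1385 Q1385 (allL N1385 (tt N1369 F16780) (tt N1376 (iv0 F16785)) (tt N1374 (iv2 F16783)) (tt N3080 (iv3 F6370)) (tt N3083 (iv4 F6375)) (tt N3084 D4461) (tt N622 (iv6 D1866)) (tt N1334 F16781))
theorem Q1387 : ∀ i, i < 1387 → P i := stepQ 1386 Q1386 (allL N1386 (tt N1213 F6379) (tt N1217 F6380) (tt N2860 F6468) (tt N623 (iv3 D1868)) (tt N3085 D4463) (tt N2996 (iv5 F7247)) (tt N1335 F16740) (tt N1395 (iv7 F6393)))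
theorem Q1388 : ∀ i, i < 1388 → P i := stepQ 1387 Q1387 (allL N1387 (tt N1441 (iv1 F6543)) (tt N1456 (iv0 F6550)) (tt N1394 (iv2 F6387)) (tt N640 (iv3 F3159)) (tt N623 (iv4 D1869)) (tt N3086 D4466) (tt N1336 F16755) (tt N1396 (iv7 F6395)))
theorem Q1389 : ∀ i, i < 1389 → P i := stepQ 1388 Q1388 (allL N1388 (tt N1337 F6918) (tt N1333 (iv0 F6921)) (tt N625 F3160) (tt N1388 F3161) (tt N3087 D4474) (tt N624 (iv5 D1872)) (tt N3088 D4475) (tt N1397 (iv7 F3174)))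
theorem Q1390 : ∀ i, i < 1390 → P i := stepQ 1389 Q1389 (allL N1389 (tt N3089 D4486) (tt N3090 D4487) (tt N3087 (iv2 F6506)) (tt N1399 (iv3 F3183)) (tt N625 (iv4 D1875)) (tt N3091 D4488) (tt N3092 D4489) (tt N1399 (iv7 F3184)))
theorem Q1391 : ∀ i, i < 1391 → P i := stepQ 1390 Q1390 (allL N1390 (tt N3093 D4490) (tt N3094 D4491) (tt N3088 (iv2 F6507)) (tt N626 F3162) (tt N3092 (iv4 F6512)) (tt N1390 F3163) (tt N625 (iv6 D1876)) (tt N3095 D4492))
theorem Q1392 : ∀ i, i < 1392 → P i := stepQ 1391 Q1391 (allL N1391 (tt N626 (iv1 D1878)) (tt N1392 F3167) (tt N1391 F14847) (tt N3096 D4499) (tt N1382 (iv4 F292986)) (tt N1355 F291877) (tt N3097 D4501) (tt N1381 F291878))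
theorem Q1393 : ∀ i, i < 1393 → P i := stepQ 1392 Q1392 (allL N1392 (tt N1391 (iv1 F3167)) (tt N1381 F292983) (tt N1392 F3164) (tt N3095 (iv3 F6513)) (tt N1360 F292984) (tt N1392 F3165) (tt N1360 (iv6 F292722)) (tt N626 (iv7 D1879)))
theorem Q1394 : ∀ i, i < 1394 → P i := stepQ 1393 Q1393 (allL N1393 (tt N2859 (iv1 F6456)) (tt N2870 (iv0 F5987)) (tt N2869 (iv2 F6406)) (tt N627 (iv3 D1881)) (tt N1198 F3169) (tt N3053 (iv5 F7052)) (tt N1361 F16762) (tt N1383 F6385))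
theorem Q1395 : ∀ i, i < 1395 → P i := stepQ 1394 Q1394 (allL N1394 (tt N3098 D4504) (tt N653 (iv0 F3289)) (tt N1387 F6387) (tt N1443 F3282) (tt N627 (iv4 D1882)) (tt N3099 D4505) (tt N1362 F16767) (tt N1384 F6388))
theorem Q1396 : ∀ i, i < 1396 → P i := stepQ 1395 Q1395 (allL N1395 (tt N2721 F6469) (tt N1284 F6470) (tt N2718 F6392) (tt N628 (iv3 D1886)) (tt N1448 (iv4 F3286)) (tt N3056 (iv5 F7060)) (tt N3067 (iv6 F16757)) (tt N1386 F6393))
theorem Q1397 : ∀ i, i < 1397 → P i := stepQ 1396 Q1396 (allL N1396 (tt N653 F6487) (tt N3098 F6525) (tt N1384 F6394) (tt N635 (iv3 F3171)) (tt N628 (iv4 D1887)) (tt N3100 D4517) (tt N3068 (iv6 F16820)) (tt N1387 F6395))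
theorem Q1398 : ∀ i, i < 1398 → P i := stepQ 1397 Q1397 (allL N1397 (tt N1366 F7282) (tt N1363 F7283) (tt N630 F3172) (tt N1397 F3173) (tt N3101 D4525) (tt N629 (iv5 D1890)) (tt N3102 D4526) (tt N1388 F3174))
theorem Q1399 : ∀ i, i < 1399 → P i := stepQ 1398 Q1398 (allL N1398 (tt N1402 (iv1 F3187)) (tt N1401 F3186) (tt N631 F3177) (tt N1398 F3178) (tt N1398 F3179) (tt N1464 F293115) (tt N629 (iv6 D1891)) (tt N1398 F3180))
theorem Q1400 : ∀ i, i < 1400 → P i := stepQ 1399 Q1399 (allL N1399 (tt N3103 D4538) (tt N3104 D4539) (tt N3101 (iv2 F6588)) (tt N1389 F3183) (tt N630 (iv4 D1894)) (tt N3105 D4540) (tt N3106 D4541) (tt N1389 F3184))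
theorem Q1401 : ∀ i, i < 1401 → P i := stepQ 1400 Q1400 (allL N1400 (tt N3107 D4542) (tt N3108 D4543) (tt N3102 (iv2 F6592)) (tt N632 F3185) (tt N3106 (iv4 F6604)) (tt N1358 (iv5 F292205)) (tt N630 (iv6 D1895)) (tt N3033 (iv7 F291699)))
theorem Q1402 : ∀ i, i < 1402 → P i := stepQ 1401 Q1401 (allL N1401 (tt N1398 (iv1 F3186)) (tt N631 (iv0 D1896)) (tt N1402 (iv2 F15734)) (tt N3109 D4547) (tt N3110 D4548) (tt N1455 F293285) (tt N1344 F16826) (tt N1401 F15733))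
theorem Q1403 : ∀ i, i < 1403 → P i := stepQ 1402 Q1402 (allL N1402 (tt N631 (iv1 D1897)) (tt N1398 F3187) (tt N1401 F15734) (tt N3111 D4552) (tt N3112 D4553) (tt N656 (iv5 F293654)) (tt N2989 F16838) (tt N1402 F15735))
theorem Q1404 : ∀ i, i < 1404 → P i := stepQ 1403 Q1403 (allL N1403 (tt N1455 F293286) (tt N656 (iv0 F293653)) (tt N1464 F293287) (tt N634 F3188) (tt N2678 (iv4 F293608)) (tt N631 (iv5 D1898)) (tt N1358 F293288) (tt N1403 F3189))
theorem Q1405 : ∀ i, i < 1405 → P i := stepQ 1404 Q1404 (allL N1404 (tt N632 (iv1 D1900)) (tt N1360 (iv0 F292721)) (tt N1404 F15342) (tt N3113 D4565) (tt N1418 F14812) (tt N674 (iv5 F292978)) (tt N3114 D4568) (tt N1281 (iv7 F292762)))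
theorem Q1406 : ∀ i, i < 1406 → P i := stepQ 1405 Q1405 (allL N1405 (tt N2868 F17464) (tt N1291 F17465) (tt N2878 F17479) (tt N633 (iv3 D1903)) (tt N2676 (iv4 F5758)) (tt N645 (iv5 F294311)) (tt N1352 F3197) (tt N1405 F3198))
theorem Q1407 : ∀ i, i < 1407 → P i := stepQ 1406 Q1406 (allL N1406 (tt N2871 F5988) (tt N3115 D4586) (tt N1423 F6446) (tt N1448 F3287) (tt N635 (iv4 D1909)) (tt N3116 D4587) (tt N3117 D4588) (tt N1420 F6480))
theorem Q1408 : ∀ i, i < 1408 → P i := stepQ 1407 Q1407 (allL N1407 (tt N1494 (iv1 F7079)) (tt N664 (iv0 F7080)) (tt N1424 (iv2 F6485)) (tt N3100 (iv3 F6573)) (tt N3118 D4591) (tt N635 (iv5 D1910)) (tt N3119 D4592) (tt N1421 F6484))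
theorem Q1409 : ∀ i, i < 1409 → P i := stepQ 1408 Q1408 (allL N1408 (tt N2856 F16769) (tt N1517 (iv0 F16806)) (tt N1425 F6486) (tt N3068 (iv3 F16819)) (tt N3117 (iv4 F6660)) (tt N3120 D4595) (tt N635 (iv6 D1911)) (tt N2844 F16770))
theorem Q1410 : ∀ i, i < 1410 → P i := stepQ 1409 Q1409 (allL N1409 (tt N1444 (iv1 F6528)) (tt N1447 (iv0 F6533)) (tt N1443 F6475) (tt N636 (iv3 D1913)) (tt N3121 D4597) (tt N3122 D4598) (tt N2845 F16764) (tt N1422 (iv7 F6473)))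
theorem Q1411 : ∀ i, i < 1411 → P i := stepQ 1410 Q1410 (allL N1410 (tt N3115 (iv1 F6657)) (tt N2871 F6481) (tt N1420 (iv2 F6477)) (tt N1188 (iv3 F3214)) (tt N636 (iv4 D1914)) (tt N3123 D4600) (tt N2622 F16744) (tt N1423 F6444))
theorem Q1412 : ∀ i, i < 1412 → P i := stepQ 1411 Q1411 (allL N1411 (tt N664 F7081) (tt N1494 F7082) (tt N1421 (iv2 F6478)) (tt N3122 (iv3 F6669)) (tt N3124 D4602) (tt N636 (iv5 D1915)) (tt N3125 D4603) (tt N1424 (iv7 F6474)))
theorem Q1413 : ∀ i, i < 1413 → P i := stepQ 1412 Q1412 (allL N1412 (tt N1434 (iv1 F3247)) (tt N1433 F3246) (tt N638 F3215) (tt N1412 F3216) (tt N3126 D4608) (tt N637 (iv5 D1917)) (tt N3127 D4609) (tt N1427 (iv7 F3232)))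
theorem Q1414 : ∀ i, i < 1414 → P i := stepQ 1413 Q1413 (allL N1413 (tt N1427 (iv1 F3234)) (tt N638 (iv0 D1918)) (tt N1434 (iv2 F12141)) (tt N2984 (iv3 F6925)) (tt N3128 D4612) (tt N1277 F6924) (tt N3129 D4614) (tt N1433 F12140))
theorem Q1415 : ∀ i, i < 1415 → P i := stepQ 1414 Q1414 (allL N1414 (tt N638 (iv1 D1919)) (tt N1427 F3233) (tt N1433 F12137) (tt N3130 D4616) (tt N3131 D4617) (tt N1278 F6930) (tt N3132 D4619) (tt N1434 (iv7 F12142)))
theorem Q1416 : ∀ i, i < 1416 → P i := stepQ 1415 Q1415 (allL N1415 (tt N3133 D4620) (tt N3134 D4621) (tt N3126 (iv2 F6674)) (tt N1435 (iv3 F3248)) (tt N638 (iv4 D1920)) (tt N3135 D4622) (tt N3136 D4623) (tt N1435 (iv7 F3249)))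
theorem Q1417 : ∀ i, i < 1417 → P i := stepQ 1416 Q1416 (allL N1416 (tt N3137 D4624) (tt N3138 D4625) (tt N3127 (iv2 F6675)) (tt N639 F3217) (tt N3136 (iv4 F6682)) (tt N1416 F3218) (tt N638 (iv6 D1921)) (tt N3139 D4626))
theorem Q1418 : ∀ i, i < 1418 → P i := stepQ 1417 Q1417 (allL N1417 (tt N1419 (iv1 F3221)) (tt N639 (iv0 D1922)) (tt N1417 F15341) (tt N3140 D4628) (tt N1281 (iv4 F292761)) (tt N3141 D4630) (tt N3142 D4631) (tt N1418 (iv7 F15345)))
theorem Q1419 : ∀ i, i < 1419 → P i := stepQ 1418 Q1418 (allL N1418 (tt N639 (iv1 D1923)) (tt N1419 F3222) (tt N1418 F15344) (tt N3143 D4633) (tt N1404 (iv4 F14812)) (tt N2851 F292752) (tt N3144 D4636) (tt N1417 F15345))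
theorem Q1420 : ∀ i, i < 1420 → P i := stepQ 1419 Q1419 (allL N1419 (tt N1418 (iv1 F3222)) (tt N1417 F3221) (tt N1419 F3219) (tt N3139 (iv3 F6683)) (tt N1354 F293748) (tt N1419 F3220) (tt N1354 (iv6 F292906)) (tt N639 (iv7 D1924)))
theorem Q1421 : ∀ i, i < 1421 → P i := stepQ 1420 Q1420 (allL N1420 (tt N3145 D4637) (tt N3146 D4638) (tt N1410 F6477) (tt N3085 (iv3 F6494)) (tt N640 (iv4 D1926)) (tt N3147 D4639) (tt N2852 F16739) (tt N1406 (iv7 F6480)))
theorem Q1422 : ∀ i, i < 1422 → P i := stepQ 1421 Q1421 (allL N1421 (tt N1488 (iv1 F7264)) (tt N666 (iv0 F7265)) (tt N1411 F6478) (tt N3086 (iv3 F6503)) (tt N3148 D4643) (tt N640 (iv5 D1927)) (tt N3149 D4644) (tt N1407 (iv7 F6484)))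
theorem Q1423 : ∀ i, i < 1423 → P i := stepQ 1422 Q1422 (allL N1422 (tt N3150 D4649) (tt N649 F6438) (tt N3081 (iv2 F6373)) (tt N641 (iv3 D1930)) (tt N2862 (iv4 F5972)) (tt N3151 D4650) (tt N3152 D4651) (tt N1409 F6473))
theorem Q1424 : ∀ i, i < 1424 → P i := stepQ 1423 Q1423 (allL N1423 (tt N3146 (iv1 F6693)) (tt N3145 F6690) (tt N1406 (iv2 F6446)) (tt N1898 (iv3 F4166)) (tt N641 (iv4 D1931)) (tt N3153 D4652) (tt N3154 D4653) (tt N1410 (iv7 F6444)))
theorem Q1425 : ∀ i, i < 1425 → P i := stepQ 1424 Q1424 (allL N1424 (tt N666 F7266) (tt N1488 F7267) (tt N1407 F6485) (tt N3151 (iv3 F6719)) (tt N3155 D4654) (tt N641 (iv5 D1932)) (tt N3156 D4655) (tt N1411 F6474))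
theorem Q1426 : ∀ i, i < 1426 → P i := stepQ 1425 Q1425 (allL N1425 (tt N1280 F16765) (tt N3157 D4657) (tt N1408 (iv2 F6486)) (tt N3152 (iv3 F6721)) (tt N3154 (iv4 F6725)) (tt N3158 D4658) (tt N641 (iv6 D1933)) (tt N2855 F16766))
theorem Q1427 : ∀ i, i < 1427 → P i := stepQ 1426 Q1426 (allL N1426 (tt N1198 F3227) (tt N1197 F3229) (tt N643 F3225) (tt N1204 (iv3 F3228)) (tt N642 (iv4 D1934)) (tt N3159 D4660) (tt N3160 D4661) (tt N1199 F3226))
theorem Q1428 : ∀ i, i < 1428 → P i := stepQ 1427 Q1427 (allL N1427 (tt N1414 (iv1 F3233)) (tt N1413 F3234) (tt N644 F3230) (tt N1427 F3231) (tt N3161 D4662) (tt N642 (iv5 D1935)) (tt N3162 D4663) (tt N1412 F3232))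
theorem Q1429 : ∀ i, i < 1429 → P i := stepQ 1428 Q1428 (allL N1428 (tt N1438 (iv1 F3252)) (tt N1437 F3251) (tt N645 F3235) (tt N1428 F3236) (tt N3160 (iv4 F6743)) (tt N2878 (iv5 F293598)) (tt N642 (iv6 D1936)) (tt N1428 F3237))
theorem Q1430 : ∀ i, i < 1430 → P i := stepQ 1429 Q1429 (allL N1429 (tt N1199 (iv1 F3238)) (tt N643 (iv0 D1937)) (tt N1198 F6403) (tt N3163 D4665) (tt N2869 (iv4 F5984)) (tt N3164 D4666) (tt N2808 F16760) (tt N1197 F6404))
theorem Q1431 : ∀ i, i < 1431 → P i := stepQ 1430 Q1430 (allL N1430 (tt N643 (iv1 D1938)) (tt N1199 F3239) (tt N1197 F6383) (tt N3165 D4668) (tt N1383 (iv4 F3240)) (tt N3166 D4669) (tt N3167 D4670) (tt N1198 F6384))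
theorem Q1432 : ∀ i, i < 1432 → P i := stepQ 1431 Q1431 (allL N1431 (tt N3168 D4671) (tt N3169 D4672) (tt N3159 (iv2 F6736)) (tt N850 F3241) (tt N3170 D4673) (tt N643 (iv5 D1939)) (tt N3171 D4674) (tt N1200 F3242))
theorem Q1433 : ∀ i, i < 1433 → P i := stepQ 1432 Q1432 (allL N1432 (tt N3172 D4675) (tt N3173 D4676) (tt N3160 (iv2 F6741)) (tt N851 F3243) (tt N645 F3244) (tt N3174 D4677) (tt N643 (iv6 D1940)) (tt N1432 F3245))
theorem Q1434 : ∀ i, i < 1434 → P i := stepQ 1433 Q1433 (allL N1433 (tt N1412 (iv1 F3246)) (tt N644 (iv0 D1941)) (tt N1414 (iv2 F12137)) (tt N3045 (iv3 F7294)) (tt N3175 D4680) (tt N1271 F7292) (tt N3176 D4682) (tt N1413 (iv7 F12140)))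
theorem Q1435 : ∀ i, i < 1435 → P i := stepQ 1434 Q1434 (allL N1434 (tt N644 (iv1 D1942)) (tt N1412 F3247) (tt N1413 F12141) (tt N3177 D4684) (tt N3178 D4685) (tt N1272 F7300) (tt N3179 D4687) (tt N1414 F12142))
theorem Q1436 : ∀ i, i < 1436 → P i := stepQ 1435 Q1435 (allL N1435 (tt N3180 D4688) (tt N3181 D4689) (tt N3161 (iv2 F6745)) (tt N1415 F3248) (tt N644 (iv4 D1943)) (tt N3182 D4690) (tt N3183 D4691) (tt N1415 F3249))
theorem Q1437 : ∀ i, i < 1437 → P i := stepQ 1436 Q1436 (allL N1436 (tt N3184 D4692) (tt N3185 D4693) (tt N3162 (iv2 F6749)) (tt N646 F3250) (tt N3183 (iv4 F6790)) (tt N1352 F293292) (tt N644 (iv6 D1944)) (tt N3025 F293293))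
theorem Q1438 : ∀ i, i < 1438 → P i := stepQ 1437 Q1437 (allL N1437 (tt N1428 (iv1 F3251)) (tt N645 (iv0 D1945)) (tt N1438 (iv2 F15745)) (tt N3112 F6611) (tt N3186 D4697) (tt N2868 F294310) (tt N2847 F16880) (tt N1437 F15744))
theorem Q1439 : ∀ i, i < 1439 → P i := stepQ 1438 Q1438 (allL N1438 (tt N645 (iv1 D1946)) (tt N1428 F3252) (tt N1437 F15745) (tt N3187 D4701) (tt N3188 D4702) (tt N1291 F294344) (tt N3189 D4704) (tt N1438 F15746))
theorem Q1440 : ∀ i, i < 1440 → P i := stepQ 1439 Q1439 (allL N1439 (tt N659 (iv1 F3268)) (tt N658 F3269) (tt N662 F3265) (tt N1439 F3266) (tt N3190 D4723) (tt N647 (iv5 D1953)) (tt N3191 D4724) (tt N657 F3267))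
theorem Q1441 : ∀ i, i < 1441 → P i := stepQ 1440 Q1440 (allL N1440 (tt N1310 F7113) (tt N2946 F6078) (tt N663 F3270) (tt N1440 F3271) (tt N2712 (iv4 F5808)) (tt N3192 D4725) (tt N647 (iv6 D1954)) (tt N2904 (iv7 F6021)))
theorem Q1442 : ∀ i, i < 1442 → P i := stepQ 1441 Q1441 (allL N1441 (tt N1384 F6542) (tt N1387 F6543) (tt N3098 F6524) (tt N648 (iv3 D1957)) (tt N3098 F6544) (tt N2933 (iv5 F7142)) (tt N1441 F7131) (tt N653 F3274))
theorem Q1443 : ∀ i, i < 1443 → P i := stepQ 1442 Q1442 (allL N1442 (tt N2670 F6545) (tt N3085 F6546) (tt N650 F3275) (tt N1254 F6547) (tt N648 (iv4 D1958)) (tt N3193 D4728) (tt N1442 F7132) (tt N654 F3276))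
theorem Q1444 : ∀ i, i < 1444 → P i := stepQ 1443 Q1443 (allL N1443 (tt N649 (iv1 D1962)) (tt N3150 F6717) (tt N1409 (iv2 F6475)) (tt N1394 (iv3 F3282)) (tt N2685 (iv4 F5785)) (tt N3194 D4738) (tt N2908 F16814) (tt N3081 F6439))
theorem Q1445 : ∀ i, i < 1445 → P i := stepQ 1444 Q1444 (allL N1444 (tt N3081 F6527) (tt N1409 F6528) (tt N649 (iv2 D1963)) (tt N3098 F6529) (tt N1254 F6530) (tt N3195 D4740) (tt N1444 F7133) (tt N3150 (iv7 F6718)))
theorem Q1446 : ∀ i, i < 1446 → P i := stepQ 1445 Q1445 (allL N1445 (tt N1258 F3280) (tt N1256 (iv0 F3281)) (tt N1254 F6531) (tt N3196 D4742) (tt N649 (iv4 D1964)) (tt N3197 D4743) (tt N1445 F7134) (tt N1255 F6532))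
theorem Q1447 : ∀ i, i < 1447 → P i := stepQ 1446 Q1446 (allL N1446 (tt N3177 (iv1 F14065)) (tt N3198 D4746) (tt N3195 (iv2 F6846)) (tt N651 F3283) (tt N3199 D4747) (tt N649 (iv5 D1965)) (tt N3200 D4748) (tt N2930 (iv7 F7138)))
theorem Q1448 : ∀ i, i < 1448 → P i := stepQ 1447 Q1447 (allL N1447 (tt N1409 F6533) (tt N3081 F6534) (tt N3150 F6716) (tt N652 F3285) (tt N1255 F6535) (tt N2930 (iv5 F7137)) (tt N3201 D4754) (tt N649 (iv7 D1967)))
theorem Q1449 : ∀ i, i < 1449 → P i := stepQ 1448 Q1448 (allL N1448 (tt N654 F3288) (tt N650 (iv0 D1968)) (tt N2670 (iv2 F6445)) (tt N1406 (iv3 F3287)) (tt N1395 F3286) (tt N3202 D4755) (tt N3203 D4756) (tt N3085 (iv7 F6495)))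
theorem Q1450 : ∀ i, i < 1450 → P i := stepQ 1449 Q1449 (allL N1449 (tt N650 (iv1 D1969)) (tt N654 F3290) (tt N3085 (iv2 F6493)) (tt N1899 F6437) (tt N2860 F6435) (tt N3204 D4757) (tt N2914 F16738) (tt N2670 (iv7 F6436)))
theorem Q1451 : ∀ i, i < 1451 → P i := stepQ 1450 Q1450 (allL N1450 (tt N2652 F5733) (tt N2695 (iv0 F6852)) (tt N3196 (iv2 F6849)) (tt N650 (iv3 D1970)) (tt N3196 (iv4 F6850)) (tt N3205 D4759) (tt N1450 F7135) (tt N3206 D4761))
theorem Q1452 : ∀ i, i < 1452 → P i := stepQ 1451 Q1451 (allL N1451 (tt N3207 D4762) (tt N3208 D4763) (tt N3193 (iv2 F6824)) (tt N3205 (iv3 F6867)) (tt N3209 D4764) (tt N650 (iv5 D1971)) (tt N3210 D4765) (tt N3211 D4766))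
theorem Q1453 : ∀ i, i < 1453 → P i := stepQ 1452 Q1452 (allL N1452 (tt N3085 F6538) (tt N2670 F6539) (tt N654 F3292) (tt N3206 (iv3 F6870)) (tt N652 F3293) (tt N3211 (iv5 F6876)) (tt N3212 D4771) (tt N650 (iv7 D1973)))
theorem Q1454 : ∀ i, i < 1454 → P i := stepQ 1453 Q1453 (allL N1453 (tt N3213 D4782) (tt N3214 D4783) (tt N2934 (iv2 F7144)) (tt N3215 D4784) (tt N651 (iv4 D1976)) (tt N3216 D4785) (tt N3217 D4786) (tt N2931 (iv7 F7140)))
theorem Q1455 : ∀ i, i < 1455 → P i := stepQ 1454 Q1454 (allL N1454 (tt N3218 D4788) (tt N3143 F65723) (tt N2935 (iv2 F7146)) (tt N3200 (iv3 F6857)) (tt N3217 (iv4 F6884)) (tt N1454 F7136) (tt N651 (iv6 D1977)) (tt N3219 D4791))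
theorem Q1456 : ∀ i, i < 1456 → P i := stepQ 1455 Q1455 (allL N1455 (tt N1464 (iv1 F7127)) (tt N1403 (iv0 F293286)) (tt N656 F3298) (tt N3201 (iv3 F6862)) (tt N3212 (iv4 F6880)) (tt N1401 (iv5 F293285)) (tt N652 (iv6 D1983)) (tt N1455 F7122))
theorem Q1457 : ∀ i, i < 1457 → P i := stepQ 1456 Q1456 (allL N1456 (tt N1387 F6550) (tt N1384 F6551) (tt N653 (iv2 D1985)) (tt N3150 (iv3 F6714)) (tt N653 F6552) (tt N3220 D4811) (tt N3221 D4812) (tt N3098 (iv7 F6526)))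
theorem Q1458 : ∀ i, i < 1458 → P i := stepQ 1457 Q1457 (allL N1457 (tt N2975 (iv1 F6914)) (tt N2984 (iv0 F7307)) (tt N3220 (iv2 F6900)) (tt N655 F3300) (tt N3222 D4815) (tt N653 (iv5 D1987)) (tt N3223 D4816) (tt N2933 (iv7 F7143)))
theorem Q1459 : ∀ i, i < 1459 → P i := stepQ 1458 Q1458 (allL N1458 (tt N3110 F17387) (tt N3112 F17388) (tt N3221 (iv2 F6902)) (tt N656 F3301) (tt N3221 (iv4 F6903)) (tt N3111 F293122) (tt N653 (iv6 D1988)) (tt N1458 F7128))
theorem Q1460 : ∀ i, i < 1460 → P i := stepQ 1459 Q1459 (allL N1459 (tt N1256 (iv1 F3303)) (tt N1258 (iv0 F3302)) (tt N1255 F6548) (tt N654 (iv3 D1989)) (tt N3150 (iv4 F6715)) (tt N3224 D4821) (tt N3225 D4822) (tt N1254 F6549))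
theorem Q1461 : ∀ i, i < 1461 → P i := stepQ 1460 Q1460 (allL N1460 (tt N3208 (iv1 F6874)) (tt N3207 F6877) (tt N3211 (iv2 F6875)) (tt N3224 (iv3 F6965)) (tt N3226 D4823) (tt N654 (iv5 D1990)) (tt N3227 D4824) (tt N3193 (iv7 F6826)))
theorem Q1462 : ∀ i, i < 1462 → P i := stepQ 1461 Q1461 (allL N1461 (tt N3228 D4825) (tt N3229 D4826) (tt N3212 (iv2 F6879)) (tt N3225 (iv3 F6968)) (tt N656 F3304) (tt N3230 D4827) (tt N654 (iv6 D1991)) (tt N1461 F7129))
theorem Q1463 : ∀ i, i < 1463 → P i := stepQ 1462 Q1462 (allL N1462 (tt N3214 (iv1 F6883)) (tt N3213 F6887) (tt N2931 (iv2 F7139)) (tt N3231 D4829) (tt N655 (iv4 D1992)) (tt N3232 D4830) (tt N3233 D4831) (tt N2934 (iv7 F7145)))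
theorem Q1464 : ∀ i, i < 1464 → P i := stepQ 1463 Q1463 (allL N1463 (tt N1375 F292700) (tt N3234 D4833) (tt N2932 (iv2 F7141)) (tt N3223 (iv3 F6961)) (tt N3233 (iv4 F6970)) (tt N2989 F292701) (tt N655 (iv6 D1993)) (tt N3011 F292702))
theorem Q1465 : ∀ i, i < 1465 → P i := stepQ 1464 Q1464 (allL N1464 (tt N656 (iv1 D1995)) (tt N1455 F7127) (tt N1403 (iv2 F293287)) (tt N1464 F17413) (tt N2733 (iv4 F13605)) (tt N1398 (iv5 F293115)) (tt N2919 (iv6 F7237)) (tt N1464 F17061))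
theorem Q1466 : ∀ i, i < 1466 → P i := stepQ 1465 Q1465 (allL N1465 (tt N662 (iv1 F3309)) (tt N657 (iv0 D2008)) (tt N658 F7093) (tt N3235 D4850) (tt N3236 D4851) (tt N1303 (iv5 F6983)) (tt N3237 D4853) (tt N659 (iv7 F7101)))
theorem Q1467 : ∀ i, i < 1467 → P i := stepQ 1466 Q1466 (allL N1466 (tt N657 (iv1 D2009)) (tt N662 F3310) (tt N659 (iv2 F7100)) (tt N3238 D4855) (tt N3239 D4856) (tt N1307 (iv5 F6987)) (tt N3240 D4858) (tt N658 F7098))
theorem Q1468 : ∀ i, i < 1468 → P i := stepQ 1467 Q1467 (allL N1467 (tt N3241 D4859) (tt N3242 D4860) (tt N660 F3311) (tt N3243 D4861) (tt N657 (iv4 D2010)) (tt N3244 D4862) (tt N3245 D4863) (tt N3190 (iv7 F6814)))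
theorem Q1469 : ∀ i, i < 1469 → P i := stepQ 1468 Q1468 (allL N1468 (tt N3246 D4864) (tt N3247 D4865) (tt N661 F3312) (tt N1468 F3313) (tt N3245 (iv4 F7032)) (tt N2929 (iv5 F6067)) (tt N657 (iv6 D2011)) (tt N3248 D4866))
theorem Q1470 : ∀ i, i < 1470 → P i := stepQ 1469 Q1469 (allL N1469 (tt N3151 (iv1 F14142)) (tt N3194 (iv0 F7048)) (tt N3249 D4875) (tt N658 (iv3 D2013)) (tt N3250 D4876) (tt N1304 (iv5 F7102)) (tt N3251 D4878) (tt N3238 (iv7 F7103)))
theorem Q1471 : ∀ i, i < 1471 → P i := stepQ 1470 Q1470 (allL N1470 (tt N3252 D4880) (tt N3253 D4881) (tt N3236 (iv2 F7092)) (tt N3254 D4882) (tt N658 (iv4 D2014)) (tt N3255 D4883) (tt N3256 D4884) (tt N3239 F7091))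
theorem Q1472 : ∀ i, i < 1472 → P i := stepQ 1471 Q1471 (allL N1471 (tt N3257 D4885) (tt N3258 D4886) (tt N3237 (iv2 F7099)) (tt N3251 (iv3 F7087)) (tt N3256 (iv4 F7239)) (tt N3063 F291345) (tt N658 (iv6 D2016)) (tt N3259 D4888))
theorem Q1473 : ∀ i, i < 1473 → P i := stepQ 1472 Q1472 (allL N1472 (tt N3099 F7104) (tt N3100 F7105) (tt N3260 D4889) (tt N659 (iv3 D2018)) (tt N3261 D4890) (tt N1308 F7106) (tt N3262 D4891) (tt N3235 F7107))
theorem Q1474 : ∀ i, i < 1474 → P i := stepQ 1473 Q1473 (allL N1473 (tt N3253 (iv1 F7238)) (tt N3252 F7094) (tt N3239 F7095) (tt N3263 D4892) (tt N659 (iv4 D2019)) (tt N3264 D4893) (tt N3265 D4894) (tt N3236 F7096))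
theorem Q1475 : ∀ i, i < 1475 → P i := stepQ 1474 Q1474 (allL N1474 (tt N3005 F292297) (tt N3266 D4896) (tt N3240 F7109) (tt N3262 (iv3 F7313)) (tt N3265 (iv4 F7314)) (tt N3267 D4897) (tt N659 (iv6 D2021)) (tt N3268 D4898))
theorem Q1476 : ∀ i, i < 1476 → P i := stepQ 1475 Q1475 (allL N1475 (tt N3190 (iv1 F6816)) (tt N660 (iv0 D2022)) (tt N3241 (iv2 F12311)) (tt N3269 D4900) (tt N3270 D4901) (tt N3271 D4902) (tt N3272 D4903) (tt N3242 (iv7 F12314)))
theorem Q1477 : ∀ i, i < 1477 → P i := stepQ 1476 Q1476 (allL N1476 (tt N660 (iv1 D2023)) (tt N3190 F6815) (tt N3242 (iv2 F12313)) (tt N3273 D4905) (tt N3274 D4906) (tt N3275 D4907) (tt N3276 D4908) (tt N3241 (iv7 F12312)))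
theorem Q1478 : ∀ i, i < 1478 → P i := stepQ 1477 Q1477 (allL N1477 (tt N3277 D4909) (tt N3250 (iv0 F7047)) (tt N3278 D4910) (tt N660 (iv3 D2024)) (tt N668 F3316) (tt N3279 D4911) (tt N3280 D4912) (tt N1295 (iv7 F3317)))
theorem Q1479 : ∀ i, i < 1479 → P i := stepQ 1478 Q1478 (allL N1478 (tt N3281 D4913) (tt N3282 D4914) (tt N3244 (iv2 F7030)) (tt N3279 (iv3 F7338)) (tt N3283 D4915) (tt N660 (iv5 D2025)) (tt N3284 D4916) (tt N3285 D4917))
theorem Q1480 : ∀ i, i < 1480 → P i := stepQ 1479 Q1479 (allL N1479 (tt N3286 D4918) (tt N3287 D4919) (tt N3245 (iv2 F7031)) (tt N3280 (iv3 F7340)) (tt N661 F3318) (tt N3288 D4920) (tt N660 (iv6 D2026)) (tt N3289 D4921))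
theorem Q1481 : ∀ i, i < 1481 → P i := stepQ 1480 Q1480 (allL N1480 (tt N3242 (iv1 F7028)) (tt N3241 F7005) (tt N3190 (iv2 F6813)) (tt N1295 F3319) (tt N662 F3320) (tt N3285 (iv5 F7343)) (tt N3290 D4922) (tt N660 (iv7 D2027)))
theorem Q1482 : ∀ i, i < 1482 → P i := stepQ 1481 Q1481 (allL N1481 (tt N3248 (iv1 F7038)) (tt N661 (iv0 D2028)) (tt N3246 (iv2 F17351)) (tt N3291 D4924) (tt N3292 D4925) (tt N3293 D4926) (tt N3294 D4927) (tt N3247 F17350))
theorem Q1483 : ∀ i, i < 1483 → P i := stepQ 1482 Q1482 (allL N1482 (tt N661 (iv1 D2029)) (tt N3248 F7037) (tt N3247 F17346) (tt N3295 D4929) (tt N3296 D4930) (tt N3297 D4931) (tt N3298 D4932) (tt N3246 (iv7 F17352)))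
theorem Q1484 : ∀ i, i < 1484 → P i := stepQ 1483 Q1483 (allL N1483 (tt N3247 (iv1 F7033)) (tt N3246 F7036) (tt N3248 (iv2 F7034)) (tt N672 F3321) (tt N3289 (iv4 F7344)) (tt N2944 (iv5 F6076)) (tt N3299 D4933) (tt N661 (iv7 D2030)))
theorem Q1485 : ∀ i, i < 1485 → P i := stepQ 1484 Q1484 (allL N1484 (tt N3300 D4934) (tt N3301 D4935) (tt N3191 (iv2 F6817)) (tt N673 F3322) (tt N3290 (iv4 F7346)) (tt N3302 D4936) (tt N662 (iv6 D2031)) (tt N3299 (iv7 F7352)))
theorem Q1486 : ∀ i, i < 1486 → P i := stepQ 1485 Q1485 (allL N1485 (tt N2904 (iv1 F6023)) (tt N663 (iv0 D2032)) (tt N1310 F6988) (tt N3303 D4937) (tt N3304 D4938) (tt N3107 (iv5 F291637)) (tt N1307 F6989) (tt N2946 (iv7 F7221)))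
theorem Q1487 : ∀ i, i < 1487 → P i := stepQ 1486 Q1486 (allL N1486 (tt N663 (iv1 D2033)) (tt N2904 F6022) (tt N2946 F7222) (tt N3305 D4940) (tt N3306 D4941) (tt N3108 (iv5 F291655)) (tt N3031 F17503) (tt N1310 F6990))
theorem Q1488 : ∀ i, i < 1488 → P i := stepQ 1487 Q1487 (allL N1487 (tt N2920 F6956) (tt N3307 D4944) (tt N3192 (iv2 F6819)) (tt N675 F3323) (tt N3308 D4945) (tt N663 (iv5 D2034)) (tt N3302 (iv6 F7354)) (tt N2947 (iv7 F6081)))
theorem Q1489 : ∀ i, i < 1489 → P i := stepQ 1488 Q1488 (allL N1488 (tt N1424 (iv1 F7267)) (tt N1421 F7264) (tt N664 (iv2 D2037)) (tt N1488 F3324) (tt N3309 D4946) (tt N1273 F3325) (tt N3310 D4947) (tt N1494 (iv7 F3335)))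
theorem Q1490 : ∀ i, i < 1490 → P i := stepQ 1489 Q1489 (allL N1489 (tt N3311 D4948) (tt N3312 D4949) (tt N3309 (iv2 F7368)) (tt N1495 (iv3 F3339)) (tt N664 (iv4 D2038)) (tt N3313 D4950) (tt N3314 D4951) (tt N1495 (iv7 F3340)))
theorem Q1491 : ∀ i, i < 1491 → P i := stepQ 1490 Q1490 (allL N1490 (tt N3315 D4952) (tt N3316 D4953) (tt N3310 (iv2 F7369)) (tt N665 F3326) (tt N3314 (iv4 F7372)) (tt N3072 (iv5 F291973)) (tt N664 (iv6 D2039)) (tt N3317 D4955))
theorem Q1492 : ∀ i, i < 1492 → P i := stepQ 1491 Q1491 (allL N1491 (tt N1493 (iv1 F3330)) (tt N665 (iv0 D2040)) (tt N1491 F15318) (tt N3318 D4957) (tt N1377 (iv4 F14807)) (tt N3319 D4959) (tt N2851 F292753) (tt N1492 (iv7 F15324)))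
theorem Q1493 : ∀ i, i < 1493 → P i := stepQ 1492 Q1492 (allL N1492 (tt N665 (iv1 D2041)) (tt N1493 F3331) (tt N1492 F15323) (tt N3258 F65668) (tt N1378 (iv4 F14810)) (tt N3320 D4963) (tt N3321 D4964) (tt N1491 F15324))
theorem Q1494 : ∀ i, i < 1494 → P i := stepQ 1493 Q1493 (allL N1493 (tt N1492 (iv1 F3331)) (tt N1491 F3330) (tt N1493 F3329) (tt N3317 (iv3 F7375)) (tt N1499 (iv4 F3345)) (tt N1378 (iv5 F292755)) (tt N1499 (iv6 F3346)) (tt N665 (iv7 D2043)))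
theorem Q1495 : ∀ i, i < 1495 → P i := stepQ 1494 Q1494 (allL N1494 (tt N1411 (iv1 F7082)) (tt N1407 F7079) (tt N666 (iv2 D2046)) (tt N1494 F3333) (tt N3322 D4969) (tt N1279 F3334) (tt N3323 D4970) (tt N1488 F3335))
theorem Q1496 : ∀ i, i < 1496 → P i := stepQ 1495 Q1495 (allL N1495 (tt N3324 D4971) (tt N3325 D4972) (tt N3322 (iv2 F7385)) (tt N1489 F3339) (tt N666 (iv4 D2047)) (tt N3326 D4973) (tt N3327 D4974) (tt N1489 F3340))
theorem Q1497 : ∀ i, i < 1497 → P i := stepQ 1496 Q1496 (allL N1496 (tt N3328 D4975) (tt N3329 D4976) (tt N3323 (iv2 F7389)) (tt N667 F3341) (tt N3327 (iv4 F7401)) (tt N3330 D4977) (tt N666 (iv6 D2048)) (tt N3331 D4978))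
theorem Q1498 : ∀ i, i < 1498 → P i := stepQ 1497 Q1497 (allL N1497 (tt N667 (iv1 D2050)) (tt N1499 F3348) (tt N1497 F14837) (tt N3332 D4985) (tt N1349 (iv4 F14800)) (tt N1351 F293981) (tt N3333 D4988) (tt N1350 (iv7 F292292)))
theorem Q1499 : ∀ i, i < 1499 → P i := stepQ 1498 Q1498 (allL N1498 (tt N3334 D4989) (tt N3335 D4990) (tt N1498 F3342) (tt N3330 (iv3 F7402)) (tt N3142 (iv4 F293741)) (tt N667 (iv5 D2051)) (tt N1281 F3343) (tt N3336 D4992))
theorem Q1500 : ∀ i, i < 1500 → P i := stepQ 1499 Q1499 (allL N1499 (tt N1497 (iv1 F3348)) (tt N1350 F292991) (tt N1499 F3344) (tt N3331 (iv3 F7404)) (tt N1493 F3345) (tt N3336 (iv5 F7414)) (tt N1493 F3346) (tt N667 (iv7 D2052)))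
theorem Q1501 : ∀ i, i < 1501 → P i := stepQ 1500 Q1500 (allL N1500 (tt N1292 (iv1 F3349)) (tt N668 (iv0 D2053)) (tt N1294 F12278) (tt N3274 F7322) (tt N3337 D4994) (tt N1325 F7323) (tt N3338 D4995) (tt N1293 (iv7 F12283)))
theorem Q1502 : ∀ i, i < 1502 → P i := stepQ 1501 Q1501 (allL N1501 (tt N668 (iv1 D2054)) (tt N1292 F3354) (tt N1293 (iv2 F12282)) (tt N3339 D4997) (tt N3340 D4998) (tt N1326 F7326) (tt N3341 D4999) (tt N1294 F12281))
theorem Q1503 : ∀ i, i < 1503 → P i := stepQ 1502 Q1502 (allL N1502 (tt N1294 (iv1 F3355)) (tt N1293 F3353) (tt N668 (iv2 D2055)) (tt N1502 F3350) (tt N3278 (iv4 F7331)) (tt N1282 F3351) (tt N3342 D5000) (tt N1292 F3352))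
theorem Q1504 : ∀ i, i < 1504 → P i := stepQ 1503 Q1503 (allL N1503 (tt N3343 D5001) (tt N3344 D5002) (tt N3342 (iv2 F7422)) (tt N669 F3356) (tt N3280 (iv4 F7341)) (tt N3345 D5003) (tt N668 (iv6 D2056)) (tt N3346 D5004))
theorem Q1505 : ∀ i, i < 1505 → P i := stepQ 1504 Q1504 (allL N1504 (tt N1507 (iv1 F3362)) (tt N669 (iv0 D2057)) (tt N1504 F15272) (tt N3347 D5006) (tt N1298 (iv4 F15274)) (tt N2961 (iv5 F291410)) (tt N3348 D5009) (tt N1505 (iv7 F15281)))
theorem Q1506 : ∀ i, i < 1506 → P i := stepQ 1505 Q1505 (allL N1505 (tt N669 (iv1 D2058)) (tt N1507 F3363) (tt N1505 F15280) (tt N3349 D5011) (tt N1299 (iv4 F15282)) (tt N1323 F291505) (tt N1324 F291506) (tt N1504 F15281))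
theorem Q1507 : ∀ i, i < 1507 → P i := stepQ 1506 Q1506 (allL N1506 (tt N3350 D5015) (tt N3321 F291212) (tt N1506 F3357) (tt N3345 (iv3 F7424)) (tt N1510 (iv4 F291724)) (tt N669 (iv5 D2059)) (tt N1301 F3358) (tt N3351 D5018))
theorem Q1508 : ∀ i, i < 1508 → P i := stepQ 1507 Q1507 (allL N1507 (tt N1505 (iv1 F3363)) (tt N1504 F3362) (tt N1507 F3359) (tt N3346 (iv3 F7426)) (tt N672 F3360) (tt N3351 (iv5 F7433)) (tt N1300 F3361) (tt N669 (iv7 D2060)))
theorem Q1509 : ∀ i, i < 1509 → P i := stepQ 1508 Q1508 (allL N1508 (tt N3352 D5025) (tt N3125 F63122) (tt N3353 D5027) (tt N670 (iv3 D2062)) (tt N3354 D5028) (tt N3355 D5029) (tt N3356 D5030) (tt N1512 (iv7 F7472)))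
theorem Q1510 : ∀ i, i < 1510 → P i := stepQ 1509 Q1509 (allL N1509 (tt N1515 F16091) (tt N673 F16092) (tt N1509 F7469) (tt N3357 D5034) (tt N670 (iv4 D2063)) (tt N2952 F291110) (tt N3351 F291111) (tt N1513 (iv7 F7474)))
theorem Q1511 : ∀ i, i < 1511 → P i := stepQ 1510 Q1510 (allL N1510 (tt N3028 (iv1 F292743)) (tt N3333 (iv0 F14823)) (tt N1510 F7465) (tt N3355 (iv3 F7446)) (tt N1506 F291724) (tt N670 (iv5 D2064)) (tt N2902 (iv6 F292740)) (tt N1511 (iv7 F7468)))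
theorem Q1512 : ∀ i, i < 1512 → P i := stepQ 1511 Q1511 (allL N1511 (tt N3333 (iv1 F14824)) (tt N3028 F293101) (tt N1511 F7467) (tt N3356 (iv3 F7447)) (tt N3351 F291202) (tt N671 F3365) (tt N670 (iv6 D2065)) (tt N1510 F7468))
theorem Q1513 : ∀ i, i < 1513 → P i := stepQ 1512 Q1512 (allL N1512 (tt N3149 F63143) (tt N3358 D5043) (tt N3359 D5044) (tt N671 (iv3 D2067)) (tt N3360 D5045) (tt N3356 F7448) (tt N3361 D5046) (tt N1508 F7472))
theorem Q1514 : ∀ i, i < 1514 → P i := stepQ 1513 Q1513 (allL N1513 (tt N673 (iv1 F16088)) (tt N1515 (iv0 F16089)) (tt N1513 F7473) (tt N3362 D5047) (tt N671 (iv4 D2068)) (tt N1319 F291112) (tt N1330 (iv6 F291740)) (tt N1509 F7474))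
theorem Q1515 : ∀ i, i < 1515 → P i := stepQ 1514 Q1514 (allL N1514 (tt N3141 F7457) (tt N2851 F292747) (tt N1514 F7464) (tt N3361 (iv3 F7489)) (tt N1330 F292748) (tt N2902 F292749) (tt N671 (iv6 D2069)) (tt N2902 F292750))
theorem Q1516 : ∀ i, i < 1516 → P i := stepQ 1515 Q1515 (allL N1515 (tt N1513 F16089) (tt N1509 (iv0 F16091)) (tt N1515 F3367) (tt N3299 (iv3 F7351)) (tt N1300 F3368) (tt N3348 F291045) (tt N672 (iv6 D2070)) (tt N673 F3369))
theorem Q1517 : ∀ i, i < 1517 → P i := stepQ 1516 Q1516 (allL N1516 (tt N3363 D5061) (tt N3019 (iv0 F290748)) (tt N1516 F3372) (tt N3302 (iv3 F7353)) (tt N2898 (iv4 F290750)) (tt N673 (iv5 D2073)) (tt N675 F3373) (tt N3348 (iv7 F290720)))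
theorem Q1518 : ∀ i, i < 1518 → P i := stepQ 1517 Q1517 (allL N1517 (tt N1408 F16806) (tt N2855 (iv0 F7509)) (tt N3157 (iv2 F16772)) (tt N674 (iv3 D2074)) (tt N3364 D5067) (tt N3113 F293964) (tt N2850 (iv6 F5943)) (tt N1280 F3374))
theorem Q1519 : ∀ i, i < 1519 → P i := stepQ 1518 Q1518 (allL N1518 (tt N675 (iv1 D2076)) (tt N1324 F3379) (tt N1518 F3382) (tt N3365 D5071) (tt N3141 (iv4 F291742)) (tt N1276 F3381) (tt N3366 D5073) (tt N1275 F3380))
theorem Q1520 : ∀ i, i < 1520 → P i := stepQ 1519 Q1519 (allL N1519 (tt N1355 F3384) (tt N3027 F6230) (tt N1519 F3383) (tt N3367 D5074) (tt N675 (iv4 D2077)) (tt N2901 (iv5 F291738)) (tt N2898 (iv6 F291696)) (tt N2901 (iv7 F291739)))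
theorem Q1521 : ∀ i, i < 1521 → P i := stepQ 1520 Q1520 (allL N1520 (tt N1560 (iv1 F3482)) (tt N703 F3388) (tt N766 F3385) (tt N1085 F3483) (tt N766 F3387) (tt N676 (iv5 D2078)) (tt N3368 D5075) (tt N1520 F3386))
theorem Q1522 : ∀ i, i < 1522 → P i := stepQ 1521 Q1521 (allL N1521 (tt N3369 D5076) (tt N3370 D5077) (tt N767 F3389) (tt N2173 (iv3 F4825)) (tt N677 F3390) (tt N3371 D5078) (tt N676 (iv6 D2079)) (tt N3372 D5079))
theorem Q1523 : ∀ i, i < 1523 → P i := stepQ 1522 Q1522 (allL N1522 (tt N771 (iv1 F3398)) (tt N677 (iv0 D2080)) (tt N768 F5120) (tt N1546 F9900) (tt N3373 D5080) (tt N3374 D5081) (tt N3375 D5082) (tt N769 F5121))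
theorem Q1524 : ∀ i, i < 1524 → P i := stepQ 1523 Q1523 (allL N1523 (tt N3376 D5083) (tt N2024 F4940) (tt N770 F3392) (tt N684 F3393) (tt N3377 D5084) (tt N677 (iv5 D2082)) (tt N679 F3394) (tt N3378 D5085))
theorem Q1525 : ∀ i, i < 1525 → P i := stepQ 1524 Q1524 (allL N1524 (tt N769 (iv1 F3399)) (tt N768 F3400) (tt N771 F3395) (tt N685 F3396) (tt N3372 (iv4 F7544)) (tt N3378 (iv5 F7557)) (tt N1524 F3397) (tt N677 (iv7 D2083)))
theorem Q1526 : ∀ i, i < 1526 → P i := stepQ 1525 Q1525 (allL N1525 (tt N1028 F3404) (tt N1162 (iv0 F3405)) (tt N772 F3401) (tt N1128 F3402) (tt N3379 D5086) (tt N678 (iv5 D2084)) (tt N3380 D5087) (tt N773 F3403))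
theorem Q1527 : ∀ i, i < 1527 → P i := stepQ 1526 Q1526 (allL N1526 (tt N777 (iv1 F3408)) (tt N679 (iv0 D2085)) (tt N774 (iv2 F3407)) (tt N1549 (iv3 F3446)) (tt N3381 D5088) (tt N812 F3406) (tt N1723 (iv6 F3725)) (tt N775 F3409))
theorem Q1528 : ∀ i, i < 1528 → P i := stepQ 1527 Q1527 (allL N1527 (tt N3382 D5089) (tt N2471 (iv0 F5541)) (tt N776 F3410) (tt N3383 D5090) (tt N679 (iv4 D2086)) (tt N3384 D5091) (tt N3377 (iv6 F7554)) (tt N2510 (iv7 F5586)))
theorem Q1529 : ∀ i, i < 1529 → P i := stepQ 1528 Q1528 (allL N1528 (tt N1530 (iv1 F3414)) (tt N680 (iv0 D2087)) (tt N1529 (iv2 F3580)) (tt N2001 (iv3 F4403)) (tt N3385 D5092) (tt N895 F3750) (tt N3386 D5093) (tt N1528 F3581))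
theorem Q1530 : ∀ i, i < 1530 → P i := stepQ 1529 Q1529 (allL N1529 (tt N680 (iv1 D2088)) (tt N1530 F3415) (tt N1528 F3580) (tt N1624 (iv3 F3578)) (tt N1946 (iv4 F4249)) (tt N896 (iv5 F3754)) (tt N3387 D5094) (tt N1529 F3579))
theorem Q1531 : ∀ i, i < 1531 → P i := stepQ 1530 Q1530 (allL N1530 (tt N1529 (iv1 F3415)) (tt N1528 F3414) (tt N680 (iv2 D2089)) (tt N897 F3411) (tt N974 F3412) (tt N1610 (iv5 F3548)) (tt N3388 D5095) (tt N1530 F3413))
theorem Q1532 : ∀ i, i < 1532 → P i := stepQ 1531 Q1531 (allL N1531 (tt N3389 D5096) (tt N3390 D5097) (tt N3388 (iv2 F7581)) (tt N681 F3416) (tt N2173 (iv4 F4826)) (tt N3391 D5098) (tt N680 (iv6 D2090)) (tt N3392 D5099))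
theorem Q1533 : ∀ i, i < 1533 → P i := stepQ 1532 Q1532 (allL N1532 (tt N3393 D5100) (tt N3394 D5101) (tt N899 F3418) (tt N3391 (iv3 F7584)) (tt N3395 D5102) (tt N681 (iv5 D2093)) (tt N1614 (iv6 F3556)) (tt N3396 D5103))
theorem Q1534 : ∀ i, i < 1534 → P i := stepQ 1533 Q1533 (allL N1533 (tt N790 F4921) (tt N787 F4922) (tt N900 F3419) (tt N3392 (iv3 F7585)) (tt N685 F3420) (tt N3396 (iv5 F7604)) (tt N1533 F3421) (tt N681 (iv7 D2094)))
theorem Q1535 : ∀ i, i < 1535 → P i := stepQ 1534 Q1534 (allL N1534 (tt N1661 F3623) (tt N2621 (iv0 F7999)) (tt N902 F4445) (tt N1740 (iv3 F5125)) (tt N3397 D5105) (tt N682 (iv5 D2098)) (tt N3398 D5106) (tt N905 F4446))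
theorem Q1536 : ∀ i, i < 1536 → P i := stepQ 1535 Q1535 (allL N1535 (tt N1990 (iv1 F7991)) (tt N1652 (iv0 F3612)) (tt N903 F4440) (tt N1741 (iv3 F5126)) (tt N1773 (iv4 F5133)) (tt N1621 F3568) (tt N682 (iv6 D2099)) (tt N3399 D5108))
theorem Q1537 : ∀ i, i < 1537 → P i := stepQ 1536 Q1536 (allL N1536 (tt N688 F9897) (tt N1554 (iv0 F9898)) (tt N1552 F9940) (tt N683 (iv3 D2101)) (tt N3370 F7540) (tt N3400 D5110) (tt N3401 D5111) (tt N901 F4450))
theorem Q1538 : ∀ i, i < 1538 → P i := stepQ 1537 Q1537 (allL N1537 (tt N2621 (iv1 F8000)) (tt N1661 (iv0 F4383)) (tt N905 F4453) (tt N3400 (iv3 F7623)) (tt N3402 D5112) (tt N683 (iv5 D2103)) (tt N1620 (iv6 F3566)) (tt N902 F4454))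
theorem Q1539 : ∀ i, i < 1539 → P i := stepQ 1538 Q1538 (allL N1538 (tt N731 F4384) (tt N734 F4385) (tt N906 F4455) (tt N3401 (iv3 F7625)) (tt N1776 (iv4 F5144)) (tt N1700 (iv5 F3700)) (tt N683 (iv6 D2104)) (tt N1700 F4456))
theorem Q1540 : ∀ i, i < 1540 → P i := stepQ 1539 Q1539 (allL N1539 (tt N910 (iv1 F3432)) (tt N684 (iv0 D2105)) (tt N907 F7878) (tt N1745 (iv3 F5147)) (tt N1802 F5146) (tt N1713 (iv5 F3711)) (tt N3403 D5114) (tt N908 F7879))
theorem Q1541 : ∀ i, i < 1541 → P i := stepQ 1540 Q1540 (allL N1540 (tt N684 (iv1 D2106)) (tt N910 F3427) (tt N908 (iv2 F7874)) (tt N3404 D5116) (tt N1803 (iv4 F5145)) (tt N1617 (iv5 F3564)) (tt N3405 D5117) (tt N907 (iv7 F7877)))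
theorem Q1542 : ∀ i, i < 1542 → P i := stepQ 1541 Q1541 (allL N1541 (tt N1015 F5189) (tt N1019 F5180) (tt N909 F3428) (tt N3406 D5118) (tt N684 (iv4 D2107)) (tt N3407 D5119) (tt N686 F3429) (tt N3408 D5120))
theorem Q1543 : ∀ i, i < 1543 → P i := stepQ 1542 Q1542 (allL N1542 (tt N908 (iv1 F3433)) (tt N907 F3434) (tt N910 F3430) (tt N3378 (iv3 F7556)) (tt N3408 (iv4 F7637)) (tt N685 F3431) (tt N2516 (iv6 F5600)) (tt N684 (iv7 D2108)))
theorem Q1544 : ∀ i, i < 1544 → P i := stepQ 1543 Q1543 (allL N1543 (tt N3409 D5121) (tt N3410 D5122) (tt N3411 D5123) (tt N686 (iv3 D2109)) (tt N3383 (iv4 F7576)) (tt N3412 D5124) (tt N3406 (iv6 F7632)) (tt N2512 (iv7 F5592)))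
theorem Q1545 : ∀ i, i < 1545 → P i := stepQ 1544 Q1544 (allL N1544 (tt N1034 F3438) (tt N1045 F3439) (tt N915 F3435) (tt N3412 (iv3 F7641)) (tt N1261 F3437) (tt N686 (iv5 D2110)) (tt N3413 D5125) (tt N1259 F3436))
theorem Q1546 : ∀ i, i < 1546 → P i := stepQ 1545 Q1545 (allL N1545 (tt N3414 D5126) (tt N2086 (iv0 F10080)) (tt N886 F3440) (tt N762 F3441) (tt N1729 (iv4 F3770)) (tt N3415 D5128) (tt N687 (iv6 D2111)) (tt N3416 D5129))
theorem Q1547 : ∀ i, i < 1547 → P i := stepQ 1546 Q1546 (allL N1546 (tt N1554 (iv1 F3458)) (tt N688 (iv0 D2112)) (tt N901 (iv2 F9899)) (tt N1522 (iv3 F9900)) (tt N3369 (iv4 F9901)) (tt N3417 D5133) (tt N3418 D5134) (tt N1552 F9950))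
theorem Q1548 : ∀ i, i < 1548 → P i := stepQ 1547 Q1547 (allL N1547 (tt N3419 D5140) (tt N3404 (iv0 F10270)) (tt N1553 (iv2 F3450)) (tt N1965 (iv3 F4294)) (tt N3420 D5142) (tt N688 (iv5 D2114)) (tt N689 F3442) (tt N3421 D5143))
theorem Q1549 : ∀ i, i < 1549 → P i := stepQ 1548 Q1548 (allL N1548 (tt N1552 (iv1 F3449)) (tt N901 (iv0 F9936)) (tt N1554 (iv2 F3453)) (tt N1006 F9917) (tt N1974 (iv4 F4320)) (tt N3421 (iv5 F7659)) (tt N1548 F3443) (tt N688 (iv7 D2115)))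
theorem Q1550 : ∀ i, i < 1550 → P i := stepQ 1549 Q1549 (allL N1549 (tt N1558 (iv1 F3475)) (tt N689 (iv0 D2116)) (tt N911 (iv2 F3445)) (tt N1526 F3446) (tt N3382 (iv4 F7572)) (tt N1078 F3444) (tt N3415 (iv6 F7649)) (tt N1556 (iv7 F3466)))
theorem Q1551 : ∀ i, i < 1551 → P i := stepQ 1550 Q1550 (allL N1550 (tt N1753 (iv1 F3800)) (tt N1754 (iv0 F3801)) (tt N1557 (iv2 F3470)) (tt N3422 D5144) (tt N689 (iv4 D2117)) (tt N3423 D5145) (tt N3420 (iv6 F7658)) (tt N2517 (iv7 F5603)))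
theorem Q1552 : ∀ i, i < 1552 → P i := stepQ 1551 Q1551 (allL N1551 (tt N3373 (iv1 F10162)) (tt N2018 (iv0 F10155)) (tt N879 F3447) (tt N1948 (iv3 F4255)) (tt N691 F3448) (tt N3424 D5148) (tt N690 (iv6 D2118)) (tt N3425 D5149))
theorem Q1553 : ∀ i, i < 1553 → P i := stepQ 1552 Q1552 (allL N1552 (tt N691 (iv1 D2120)) (tt N1548 F3449) (tt N1536 (iv2 F9940)) (tt N769 (iv3 F9941)) (tt N1736 (iv4 F9942)) (tt N3426 D5158) (tt N3427 D5159) (tt N1546 (iv7 F9950)))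
theorem Q1554 : ∀ i, i < 1554 → P i := stepQ 1553 Q1553 (allL N1553 (tt N2022 (iv1 F10326)) (tt N3428 D5161) (tt N1547 F3450) (tt N1553 F3451) (tt N3429 D5162) (tt N691 (iv5 D2121)) (tt N693 F3452) (tt N3430 D5163))
theorem Q1555 : ∀ i, i < 1555 → P i := stepQ 1554 Q1554 (allL N1554 (tt N1536 F9898) (tt N1546 F3458) (tt N1548 F3453) (tt N1554 F3454) (tt N3425 (iv4 F7663)) (tt N3430 (iv5 F7675)) (tt N1554 F3455) (tt N691 (iv7 D2122)))
theorem Q1556 : ∀ i, i < 1556 → P i := stepQ 1555 Q1555 (allL N1555 (tt N1130 F3463) (tt N1129 F3462) (tt N836 F3459) (tt N773 F3460) (tt N3431 D5164) (tt N692 (iv5 D2123)) (tt N3432 D5165) (tt N1128 F3461))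
theorem Q1557 : ∀ i, i < 1557 → P i := stepQ 1556 Q1556 (allL N1556 (tt N693 (iv1 D2124)) (tt N1127 F3465) (tt N1109 (iv2 F3468)) (tt N775 F3469) (tt N1758 (iv4 F3811)) (tt N1108 F3467) (tt N3433 D5166) (tt N1549 F3466))
theorem Q1558 : ∀ i, i < 1558 → P i := stepQ 1557 Q1557 (allL N1557 (tt N3381 (iv1 F7571)) (tt N2030 (iv0 F4476)) (tt N1550 F3470) (tt N3434 D5167) (tt N693 (iv4 D2125)) (tt N3435 D5168) (tt N3429 (iv6 F7672)) (tt N3436 D5169))
theorem Q1559 : ∀ i, i < 1559 → P i := stepQ 1558 Q1558 (allL N1558 (tt N1109 (iv1 F3474)) (tt N1549 F3475) (tt N1127 F3471) (tt N1558 F3472) (tt N3436 (iv4 F7693)) (tt N694 F3473) (tt N3437 D5170) (tt N693 (iv7 D2126)))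
theorem Q1560 : ∀ i, i < 1560 → P i := stepQ 1559 Q1559 (allL N1559 (tt N967 F3477) (tt N968 (iv0 F3626)) (tt N2143 (iv2 F4765)) (tt N695 (iv3 D2127)) (tt N1663 (iv4 F3624)) (tt N1730 (iv5 F3771)) (tt N3438 D5171) (tt N1559 F3476))
theorem Q1561 : ∀ i, i < 1561 → P i := stepQ 1560 Q1560 (allL N1560 (tt N766 F3481) (tt N1520 F3482) (tt N703 F3478) (tt N1730 (iv3 F3772)) (tt N740 F3479) (tt N695 (iv5 D2128)) (tt N3439 D5172) (tt N1560 F3480))
theorem Q1562 : ∀ i, i < 1562 → P i := stepQ 1561 Q1561 (allL N1561 (tt N1957 F4991) (tt N1706 F9990) (tt N704 F3489) (tt N3438 (iv3 F7699)) (tt N696 F3490) (tt N3440 D5174) (tt N695 (iv6 D2129)) (tt N3441 D5175))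
theorem Q1563 : ∀ i, i < 1563 → P i := stepQ 1562 Q1562 (allL N1562 (tt N707 (iv1 F3495)) (tt N696 (iv0 D2130)) (tt N705 F8358) (tt N1562 F8345) (tt N1674 F9981) (tt N3442 D5179) (tt N3443 D5180) (tt N706 F8359))
theorem Q1564 : ∀ i, i < 1564 → P i := stepQ 1563 Q1563 (allL N1563 (tt N696 (iv1 D2131)) (tt N707 F3491) (tt N706 (iv2 F8351)) (tt N877 F9928) (tt N1009 (iv4 F9937)) (tt N3444 D5184) (tt N3445 D5185) (tt N705 (iv7 F8357)))
theorem Q1565 : ∀ i, i < 1565 → P i := stepQ 1564 Q1564 (allL N1564 (tt N706 (iv1 F3496)) (tt N705 F3497) (tt N707 F3492) (tt N1644 (iv3 F5089)) (tt N3441 (iv4 F7740)) (tt N1564 F3493) (tt N1564 F3494) (tt N696 (iv7 D2132)))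
theorem Q1566 : ∀ i, i < 1566 → P i := stepQ 1565 Q1565 (allL N1565 (tt N1573 (iv1 F3510)) (tt N697 (iv0 D2133)) (tt N1570 (iv2 F10258)) (tt N1589 F10222) (tt N3446 D5188) (tt N3447 D5189) (tt N3448 D5190) (tt N1571 F10257))
theorem Q1567 : ∀ i, i < 1567 → P i := stepQ 1566 Q1566 (allL N1566 (tt N697 (iv1 D2134)) (tt N1573 F3509) (tt N1571 F10252) (tt N712 (iv3 F10236)) (tt N3449 D5193) (tt N3450 D5194) (tt N3451 D5195) (tt N1570 (iv7 F10259)))
theorem Q1568 : ∀ i, i < 1568 → P i := stepQ 1567 Q1567 (allL N1567 (tt N3452 D5196) (tt N3453 D5197) (tt N1572 (iv2 F3502)) (tt N1967 (iv3 F4306)) (tt N3454 D5198) (tt N697 (iv5 D2135)) (tt N1881 F4128) (tt N3455 D5199))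
theorem Q1569 : ∀ i, i < 1569 → P i := stepQ 1568 Q1568 (allL N1568 (tt N1571 (iv1 F3501)) (tt N1570 F3508) (tt N1573 (iv2 F3505)) (tt N1968 (iv3 F4309)) (tt N2096 (iv4 F4663)) (tt N3455 (iv5 F7754)) (tt N1568 F3498) (tt N697 (iv7 D2136)))
theorem Q1570 : ∀ i, i < 1570 → P i := stepQ 1569 Q1569 (allL N1569 (tt N3456 D5200) (tt N3457 D5201) (tt N940 F3499) (tt N2049 (iv3 F4509)) (tt N699 F3500) (tt N3458 D5202) (tt N698 (iv6 D2137)) (tt N3459 D5203))
theorem Q1571 : ∀ i, i < 1571 → P i := stepQ 1570 Q1570 (allL N1570 (tt N1568 (iv1 F3508)) (tt N699 (iv0 D2138)) (tt N1565 F10258) (tt N717 (iv3 F10260)) (tt N3460 D5206) (tt N3461 D5207) (tt N3462 D5208) (tt N1566 F10259))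
theorem Q1572 : ∀ i, i < 1572 → P i := stepQ 1571 Q1571 (allL N1571 (tt N699 (iv1 D2139)) (tt N1568 F3501) (tt N1566 (iv2 F10252)) (tt N1665 F10251) (tt N3463 D5211) (tt N3464 D5212) (tt N3465 D5213) (tt N1565 (iv7 F10257)))
theorem Q1573 : ∀ i, i < 1573 → P i := stepQ 1572 Q1572 (allL N1572 (tt N3466 D5214) (tt N3467 D5215) (tt N1567 F3502) (tt N1572 F3503) (tt N3468 D5216) (tt N699 (iv5 D2140)) (tt N1130 F3504) (tt N3469 D5217))
theorem Q1574 : ∀ i, i < 1574 → P i := stepQ 1573 Q1573 (allL N1573 (tt N1566 (iv1 F3509)) (tt N1565 F3510) (tt N1568 F3505) (tt N1573 F3506) (tt N3459 (iv4 F7758)) (tt N3469 (iv5 F7774)) (tt N1573 F3507) (tt N699 (iv7 D2141)))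
theorem Q1575 : ∀ i, i < 1575 → P i := stepQ 1574 Q1574 (allL N1574 (tt N3446 (iv1 F10228)) (tt N3449 (iv0 F10237)) (tt N1576 (iv2 F3516)) (tt N1765 (iv3 F3821)) (tt N708 F3512) (tt N3470 D5220) (tt N700 (iv6 D2143)) (tt N3471 D5221))
theorem Q1576 : ∀ i, i < 1576 → P i := stepQ 1575 Q1575 (allL N1575 (tt N1725 (iv1 F3735)) (tt N1728 (iv0 F3767)) (tt N970 (iv2 F3738)) (tt N968 (iv3 F3736)) (tt N970 (iv4 F3739)) (tt N701 (iv5 D2144)) (tt N3472 D5222) (tt N1575 F3514))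
theorem Q1577 : ∀ i, i < 1577 → P i := stepQ 1576 Q1576 (allL N1576 (tt N3460 (iv1 F10262)) (tt N3463 (iv0 F10253)) (tt N1574 F3516) (tt N2175 (iv3 F4832)) (tt N738 F3517) (tt N3473 D5225) (tt N701 (iv6 D2145)) (tt N3474 D5226))
theorem Q1578 : ∀ i, i < 1578 → P i := stepQ 1577 Q1577 (allL N1577 (tt N3475 D5227) (tt N989 (iv0 F10154)) (tt N2144 (iv2 F4770)) (tt N704 F3518) (tt N724 F3519) (tt N3476 D5229) (tt N702 (iv6 D2146)) (tt N3477 D5230))
theorem Q1579 : ∀ i, i < 1579 → P i := stepQ 1578 Q1578 (allL N1578 (tt N3478 D5231) (tt N3479 D5232) (tt N3439 (iv2 F7700)) (tt N1625 (iv3 F3582)) (tt N1947 (iv4 F4253)) (tt N3480 D5233) (tt N703 (iv6 D2147)) (tt N3481 D5234))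
theorem Q1580 : ∀ i, i < 1580 → P i := stepQ 1579 Q1579 (allL N1579 (tt N3441 (iv1 F7743)) (tt N704 (iv0 D2148)) (tt N1957 (iv2 F5112)) (tt N3482 D5235) (tt N729 F9992) (tt N3483 D5236) (tt N3484 D5237) (tt N1706 F9993))
theorem Q1581 : ∀ i, i < 1581 → P i := stepQ 1580 Q1580 (allL N1580 (tt N704 (iv1 D2149)) (tt N3441 F7742) (tt N1706 F9987) (tt N3485 D5238) (tt N742 F9988) (tt N3486 D5239) (tt N3487 D5240) (tt N1957 F5111))
theorem Q1582 : ∀ i, i < 1582 → P i := stepQ 1581 Q1581 (allL N1581 (tt N3488 D5241) (tt N3489 D5242) (tt N3440 (iv2 F7738)) (tt N3476 (iv3 F7793)) (tt N3490 D5243) (tt N704 (iv5 D2150)) (tt N3480 (iv6 F7797)) (tt N3491 D5244))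
theorem Q1583 : ∀ i, i < 1583 → P i := stepQ 1582 Q1582 (allL N1582 (tt N1706 F9991) (tt N1957 F7707) (tt N3441 (iv2 F7739)) (tt N3477 (iv3 F7794)) (tt N707 F3520) (tt N3491 (iv5 F7801)) (tt N1582 F3521) (tt N704 (iv7 D2151)))
theorem Q1584 : ∀ i, i < 1584 → P i := stepQ 1583 Q1583 (allL N1583 (tt N1676 (iv1 F9957)) (tt N1664 (iv0 F9958)) (tt N1674 (iv2 F9971)) (tt N787 (iv3 F9952)) (tt N705 (iv4 D2154)) (tt N3492 D5260) (tt N3493 D5261) (tt N1009 (iv7 F9938)))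
theorem Q1585 : ∀ i, i < 1585 → P i := stepQ 1584 Q1584 (allL N1584 (tt N3494 D5263) (tt N3401 (iv0 F10212)) (tt N3442 (iv2 F8362)) (tt N1969 (iv3 F9930)) (tt N3495 D5265) (tt N705 (iv5 D2155)) (tt N3496 D5266) (tt N3444 (iv7 F8355)))
theorem Q1586 : ∀ i, i < 1586 → P i := stepQ 1585 Q1585 (allL N1585 (tt N3465 (iv1 F10330)) (tt N3497 D5269) (tt N3443 (iv2 F8364)) (tt N1970 (iv3 F9931)) (tt N3493 (iv4 F7815)) (tt N3498 D5270) (tt N705 (iv6 D2156)) (tt N3499 D5271))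
theorem Q1587 : ∀ i, i < 1587 → P i := stepQ 1586 Q1586 (allL N1586 (tt N1664 F9968) (tt N1676 F9969) (tt N1009 F9956) (tt N3500 D5279) (tt N706 (iv4 D2159)) (tt N3501 D5280) (tt N3502 D5281) (tt N1674 (iv7 F9972)))
theorem Q1588 : ∀ i, i < 1588 → P i := stepQ 1587 Q1587 (allL N1587 (tt N3401 (iv1 F10213)) (tt N3494 F7824) (tt N3444 (iv2 F8354)) (tt N1587 F8329) (tt N3503 D5282) (tt N706 (iv5 D2160)) (tt N3414 (iv6 F7645)) (tt N3442 (iv7 F8363)))
theorem Q1589 : ∀ i, i < 1589 → P i := stepQ 1588 Q1588 (allL N1588 (tt N3504 D5283) (tt N3448 (iv0 F18200)) (tt N3445 (iv2 F8356)) (tt N1588 F8330) (tt N3502 (iv4 F7829)) (tt N3505 D5285) (tt N706 (iv6 D2161)) (tt N3506 D5286))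
theorem Q1590 : ∀ i, i < 1590 → P i := stepQ 1589 Q1589 (allL N1589 (tt N1667 (iv1 F3646)) (tt N708 (iv0 D2162)) (tt N1599 (iv2 F7844)) (tt N1565 (iv3 F10222)) (tt N3456 (iv4 F10224)) (tt N3507 D5290) (tt N3508 D5291) (tt N1665 F7898))
theorem Q1591 : ∀ i, i < 1591 → P i := stepQ 1590 Q1590 (allL N1590 (tt N708 (iv1 D2163)) (tt N1667 F3645) (tt N1665 F7897) (tt N718 F5461) (tt N3457 (iv4 F10274)) (tt N3509 D5293) (tt N3510 D5294) (tt N1599 (iv7 F7845)))
theorem Q1592 : ∀ i, i < 1592 → P i := stepQ 1591 Q1591 (allL N1591 (tt N3511 D5295) (tt N3512 D5296) (tt N1666 (iv2 F3638)) (tt N713 F3524) (tt N3513 D5297) (tt N708 (iv5 D2164)) (tt N1162 F3525) (tt N3514 D5298))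
theorem Q1593 : ∀ i, i < 1593 → P i := stepQ 1592 Q1592 (allL N1592 (tt N1665 (iv1 F3637)) (tt N1599 (iv0 F4933)) (tt N1667 (iv2 F3641)) (tt N714 F3526) (tt N3471 (iv4 F7779)) (tt N3514 (iv5 F7909)) (tt N1592 F3527) (tt N708 (iv7 D2165)))
theorem Q1594 : ∀ i, i < 1594 → P i := stepQ 1593 Q1593 (allL N1593 (tt N1595 (iv1 F3531)) (tt N709 (iv0 D2166)) (tt N1594 (iv2 F4503)) (tt N3515 D5299) (tt N3516 D5300) (tt N1608 (iv5 F3544)) (tt N3517 D5301) (tt N1593 F4504))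
theorem Q1595 : ∀ i, i < 1595 → P i := stepQ 1594 Q1594 (allL N1594 (tt N709 (iv1 D2167)) (tt N1595 F3532) (tt N1593 F4503) (tt N2129 (iv3 F4744)) (tt N2047 (iv4 F4499)) (tt N1609 (iv5 F3545)) (tt N3518 D5302) (tt N1594 F4501))
theorem Q1596 : ∀ i, i < 1596 → P i := stepQ 1595 Q1595 (allL N1595 (tt N1594 (iv1 F3532)) (tt N1593 F3531) (tt N709 (iv2 D2168)) (tt N1610 (iv3 F3546)) (tt N778 F3528) (tt N897 F3529) (tt N3519 D5303) (tt N1595 F3530))
theorem Q1597 : ∀ i, i < 1597 → P i := stepQ 1596 Q1596 (allL N1596 (tt N3520 D5304) (tt N3521 D5305) (tt N3519 (iv2 F7917)) (tt N710 F3533) (tt N1765 (iv4 F3822)) (tt N3522 D5306) (tt N709 (iv6 D2169)) (tt N3523 D5307))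
theorem Q1598 : ∀ i, i < 1598 → P i := stepQ 1597 Q1597 (allL N1597 (tt N3524 D5308) (tt N3525 D5309) (tt N1614 (iv2 F3555)) (tt N3522 (iv3 F7919)) (tt N3526 D5310) (tt N710 (iv5 D2172)) (tt N899 F3534) (tt N3527 D5311))
theorem Q1599 : ∀ i, i < 1599 → P i := stepQ 1598 Q1598 (allL N1598 (tt N1613 (iv1 F3554)) (tt N1612 F3560) (tt N1615 (iv2 F3557)) (tt N3523 (iv3 F7921)) (tt N714 F3535) (tt N3527 (iv5 F7928)) (tt N1598 F3536) (tt N710 (iv7 D2173)))
theorem Q1600 : ∀ i, i < 1600 → P i := stepQ 1599 Q1599 (allL N1599 (tt N1592 F4933) (tt N738 F4934) (tt N1589 F7844) (tt N711 (iv3 D2175)) (tt N2093 (iv4 F10246)) (tt N3528 D5313) (tt N3529 D5314) (tt N1590 F7845))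
theorem Q1601 : ∀ i, i < 1601 → P i := stepQ 1600 Q1600 (allL N1600 (tt N3530 D5315) (tt N3531 D5316) (tt N1616 F7900) (tt N3528 (iv3 F7933)) (tt N3532 D5317) (tt N711 (iv5 D2177)) (tt N3533 D5318) (tt N1618 F7860))
theorem Q1602 : ∀ i, i < 1602 → P i := stepQ 1601 Q1601 (allL N1601 (tt N735 F7886) (tt N1715 (iv0 F7980)) (tt N1617 F7867) (tt N3529 (iv3 F7936)) (tt N2194 (iv4 F4910)) (tt N908 F3538) (tt N711 (iv6 D2178)) (tt N1713 F7884))
theorem Q1603 : ∀ i, i < 1603 → P i := stepQ 1602 Q1602 (allL N1602 (tt N3531 (iv1 F7941)) (tt N3530 F7939) (tt N1618 F7861) (tt N3450 (iv3 F10241)) (tt N3534 D5325) (tt N712 (iv5 D2182)) (tt N2043 (iv6 F4492)) (tt N1616 (iv7 F7899)))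
theorem Q1604 : ∀ i, i < 1604 → P i := stepQ 1603 Q1603 (allL N1603 (tt N1655 F7956) (tt N754 F7888) (tt N1619 (iv2 F7856)) (tt N3451 (iv3 F10243)) (tt N2197 (iv4 F4932)) (tt N3535 D5326) (tt N712 (iv6 D2183)) (tt N1653 (iv7 F7882)))
theorem Q1605 : ∀ i, i < 1605 → P i := stepQ 1604 Q1604 (allL N1604 (tt N1623 (iv1 F3576)) (tt N713 (iv0 D2184)) (tt N1620 F4459) (tt N3536 D5327) (tt N3537 D5328) (tt N3399 (iv5 F7617)) (tt N905 F3540) (tt N1621 (iv7 F4460)))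
theorem Q1606 : ∀ i, i < 1606 → P i := stepQ 1605 Q1605 (allL N1605 (tt N713 (iv1 D2185)) (tt N1623 F3575) (tt N1621 (iv2 F4462)) (tt N3453 (iv3 F9965)) (tt N3538 D5330) (tt N903 (iv5 F3541)) (tt N3539 D5331) (tt N1620 F4461))
theorem Q1607 : ∀ i, i < 1607 → P i := stepQ 1606 Q1606 (allL N1606 (tt N2452 (iv1 F5508)) (tt N2454 (iv0 F5507)) (tt N1622 (iv2 F3569)) (tt N3540 D5332) (tt N713 (iv4 D2186)) (tt N3541 D5333) (tt N1032 F3542) (tt N3542 D5334))
theorem Q1608 : ∀ i, i < 1608 → P i := stepQ 1607 Q1607 (allL N1607 (tt N1621 (iv1 F3567)) (tt N1620 F3574) (tt N1623 (iv2 F3571)) (tt N3514 (iv3 F7908)) (tt N3542 (iv4 F8101)) (tt N714 F3543) (tt N2536 (iv6 F5628)) (tt N713 (iv7 D2187)))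
theorem Q1609 : ∀ i, i < 1609 → P i := stepQ 1608 Q1608 (allL N1608 (tt N1610 (iv1 F3550)) (tt N715 (iv0 D2188)) (tt N1609 F4506) (tt N3543 D5335) (tt N3544 D5336) (tt N1593 F3544) (tt N3545 D5337) (tt N1608 F4505))
theorem Q1610 : ∀ i, i < 1610 → P i := stepQ 1609 Q1609 (allL N1609 (tt N715 (iv1 D2189)) (tt N1610 F3551) (tt N1608 (iv2 F4506)) (tt N2147 F4778) (tt N3515 (iv4 F7911)) (tt N1594 F3545) (tt N3546 D5338) (tt N1609 F4502))
theorem Q1611 : ∀ i, i < 1611 → P i := stepQ 1610 Q1610 (allL N1610 (tt N1609 (iv1 F3551)) (tt N1608 F3550) (tt N715 (iv2 D2190)) (tt N1595 F3546) (tt N1086 F3547) (tt N1530 F3548) (tt N3547 D5339) (tt N1610 F3549))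
theorem Q1612 : ∀ i, i < 1612 → P i := stepQ 1611 Q1611 (allL N1611 (tt N3548 D5340) (tt N3549 D5341) (tt N3547 (iv2 F8115)) (tt N716 F3552) (tt N1087 F3553) (tt N3550 D5342) (tt N715 (iv6 D2191)) (tt N3551 D5343))
theorem Q1613 : ∀ i, i < 1613 → P i := stepQ 1612 Q1612 (allL N1612 (tt N1598 (iv1 F3560)) (tt N716 (iv0 D2192)) (tt N1092 (iv2 F5272)) (tt N3552 D5344) (tt N817 F5270) (tt N3553 D5345) (tt N2287 (iv6 F5291)) (tt N1096 F5271))
theorem Q1614 : ∀ i, i < 1614 → P i := stepQ 1613 Q1613 (allL N1613 (tt N716 (iv1 D2193)) (tt N1598 F3554) (tt N1096 F5269) (tt N3554 D5346) (tt N818 (iv4 F5201)) (tt N3555 D5347) (tt N3556 D5348) (tt N1092 F5273))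
theorem Q1615 : ∀ i, i < 1615 → P i := stepQ 1614 Q1614 (allL N1614 (tt N3557 D5349) (tt N2243 (iv0 F5076)) (tt N1597 F3555) (tt N3550 (iv3 F8118)) (tt N3558 D5350) (tt N716 (iv5 D2194)) (tt N1532 F3556) (tt N3559 D5351))
theorem Q1616 : ∀ i, i < 1616 → P i := stepQ 1615 Q1615 (allL N1615 (tt N1096 (iv1 F5275)) (tt N1092 (iv0 F4936)) (tt N1598 F3557) (tt N3551 (iv3 F8120)) (tt N720 F3558) (tt N3559 (iv5 F8138)) (tt N1615 F3559) (tt N716 (iv7 D2195)))
theorem Q1617 : ∀ i, i < 1617 → P i := stepQ 1616 Q1616 (allL N1616 (tt N3560 D5356) (tt N3561 D5357) (tt N1600 (iv2 F7900)) (tt N3461 (iv3 F10265)) (tt N3562 D5358) (tt N717 (iv5 D2199)) (tt N3563 D5359) (tt N1602 F7899))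
theorem Q1618 : ∀ i, i < 1618 → P i := stepQ 1617 Q1617 (allL N1617 (tt N758 F7599) (tt N1662 F8039) (tt N1601 (iv2 F7867)) (tt N3462 (iv3 F10268)) (tt N2433 F5457) (tt N1540 F3564) (tt N717 (iv6 D2200)) (tt N1660 F7873))
theorem Q1619 : ∀ i, i < 1619 → P i := stepQ 1618 Q1618 (allL N1618 (tt N3561 (iv1 F8151)) (tt N3560 F8148) (tt N1602 (iv2 F7861)) (tt N3509 (iv3 F7902)) (tt N3564 D5360) (tt N718 (iv5 D2204)) (tt N2514 (iv6 F5595)) (tt N1600 (iv7 F7860)))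
theorem Q1620 : ∀ i, i < 1620 → P i := stepQ 1619 Q1619 (allL N1619 (tt N1705 (iv1 F8044)) (tt N732 F7889) (tt N1603 F7856) (tt N3510 (iv3 F7903)) (tt N2436 (iv4 F5464)) (tt N3565 D5361) (tt N718 (iv6 D2205)) (tt N1703 (iv7 F7885)))
theorem Q1621 : ∀ i, i < 1621 → P i := stepQ 1620 Q1620 (allL N1620 (tt N1607 (iv1 F3574)) (tt N719 (iv0 D2206)) (tt N1604 (iv2 F4459)) (tt N3466 (iv3 F9911)) (tt N2456 (iv4 F5515)) (tt N2017 F4438) (tt N1537 F3566) (tt N1605 (iv7 F4461)))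
theorem Q1622 : ∀ i, i < 1622 → P i := stepQ 1621 Q1621 (allL N1621 (tt N719 (iv1 D2207)) (tt N1607 F3567) (tt N1605 F4462) (tt N3512 (iv3 F7906)) (tt N2457 (iv4 F5516)) (tt N1535 (iv5 F3568)) (tt N3566 D5363) (tt N1604 F4460))
theorem Q1623 : ∀ i, i < 1623 → P i := stepQ 1622 Q1622 (allL N1622 (tt N2272 (iv1 F5501)) (tt N2256 F5202) (tt N1606 F3569) (tt N3567 D5364) (tt N719 (iv4 D2208)) (tt N3568 D5365) (tt N1083 F3570) (tt N3569 D5366))
theorem Q1624 : ∀ i, i < 1624 → P i := stepQ 1623 Q1623 (allL N1623 (tt N1605 (iv1 F3575)) (tt N1604 F3576) (tt N1607 F3571) (tt N1102 F3572) (tt N3569 (iv4 F8175)) (tt N720 F3573) (tt N3570 D5367) (tt N719 (iv7 D2209)))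
theorem Q1625 : ∀ i, i < 1625 → P i := stepQ 1624 Q1624 (allL N1624 (tt N3571 D5368) (tt N2045 F4496) (tt N1627 (iv2 F3584)) (tt N1529 F3578) (tt N721 (iv4 D2210)) (tt N1668 (iv5 F3647)) (tt N3572 D5369) (tt N1624 F3577))
theorem Q1626 : ∀ i, i < 1626 → P i := stepQ 1625 Q1625 (allL N1625 (tt N3573 D5370) (tt N2195 (iv0 F19449)) (tt N1628 (iv2 F3586)) (tt N1578 F3582) (tt N3572 (iv4 F8191)) (tt N3574 D5372) (tt N721 (iv6 D2211)) (tt N3575 D5373))
theorem Q1627 : ∀ i, i < 1627 → P i := stepQ 1626 Q1626 (allL N1626 (tt N765 (iv1 F3775)) (tt N1731 F3780) (tt N1730 F3773) (tt N722 (iv3 D2212)) (tt N1998 (iv4 F4395)) (tt N2143 (iv5 F4766)) (tt N3576 D5374) (tt N1626 F3583))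
theorem Q1628 : ∀ i, i < 1628 → P i := stepQ 1627 Q1627 (allL N1627 (tt N2045 F4495) (tt N3571 F8188) (tt N1624 F3584) (tt N1999 (iv3 F4396)) (tt N722 (iv4 D2213)) (tt N1669 (iv5 F3654)) (tt N3577 D5375) (tt N1627 F3585))
theorem Q1629 : ∀ i, i < 1629 → P i := stepQ 1628 Q1628 (allL N1628 (tt N2431 F19491) (tt N3578 D5377) (tt N1625 F3586) (tt N3576 (iv3 F8196)) (tt N3577 (iv4 F8198)) (tt N3579 D5378) (tt N722 (iv6 D2214)) (tt N3580 D5379))
theorem Q1630 : ∀ i, i < 1630 → P i := stepQ 1629 Q1629 (allL N1629 (tt N3581 D5380) (tt N3582 D5381) (tt N724 F3587) (tt N1682 (iv3 F3669)) (tt N2144 (iv4 F4771)) (tt N3583 D5382) (tt N723 (iv6 D2215)) (tt N3584 D5383))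
theorem Q1631 : ∀ i, i < 1631 → P i := stepQ 1630 Q1630 (allL N1630 (tt N3584 (iv1 F8212)) (tt N724 (iv0 D2216)) (tt N3581 (iv2 F18925)) (tt N3585 D5385) (tt N3586 D5386) (tt N3587 D5387) (tt N3588 D5388) (tt N3582 F18924))
theorem Q1632 : ∀ i, i < 1632 → P i := stepQ 1631 Q1631 (allL N1631 (tt N724 (iv1 D2217)) (tt N3584 F8211) (tt N3582 F18918) (tt N3589 D5390) (tt N3590 D5391) (tt N3591 D5392) (tt N3592 D5393) (tt N3581 (iv7 F18926)))
theorem Q1633 : ∀ i, i < 1633 → P i := stepQ 1632 Q1632 (allL N1632 (tt N3593 D5394) (tt N3594 D5395) (tt N3583 (iv2 F8207)) (tt N727 F3588) (tt N3595 D5396) (tt N724 (iv5 D2218)) (tt N1685 (iv6 F3671)) (tt N3596 D5397))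
theorem Q1634 : ∀ i, i < 1634 → P i := stepQ 1633 Q1633 (allL N1633 (tt N3582 (iv1 F8206)) (tt N3581 F8210) (tt N3584 (iv2 F8208)) (tt N728 F3589) (tt N3477 (iv4 F7795)) (tt N3596 (iv5 F8216)) (tt N1633 F3590) (tt N724 (iv7 D2219)))
theorem Q1635 : ∀ i, i < 1635 → P i := stepQ 1634 Q1634 (allL N1634 (tt N3597 D5398) (tt N2173 (iv0 F10163)) (tt N3598 D5400) (tt N725 (iv3 D2221)) (tt N3599 D5401) (tt N3600 D5402) (tt N3601 D5403) (tt N1690 F4956))
theorem Q1636 : ∀ i, i < 1636 → P i := stepQ 1635 Q1635 (allL N1635 (tt N2219 (iv1 F4952)) (tt N3602 D5404) (tt N1688 F4953) (tt N3600 (iv3 F8219)) (tt N3603 D5405) (tt N725 (iv5 D2223)) (tt N3604 D5406) (tt N1691 F4954))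
theorem Q1637 : ∀ i, i < 1637 → P i := stepQ 1636 Q1636 (allL N1636 (tt N2436 (iv1 F8225)) (tt N3605 D5408) (tt N1689 F4958) (tt N3601 (iv3 F8220)) (tt N870 F4959) (tt N2155 F4795) (tt N725 (iv6 D2224)) (tt N3606 D5409))
theorem Q1638 : ∀ i, i < 1638 → P i := stepQ 1637 Q1637 (allL N1637 (tt N2424 F22438) (tt N3607 D5411) (tt N3608 D5412) (tt N726 (iv3 D2226)) (tt N1656 F10030) (tt N3609 D5414) (tt N3610 D5415) (tt N1687 F4963))
theorem Q1639 : ∀ i, i < 1639 → P i := stepQ 1638 Q1638 (allL N1638 (tt N3602 (iv1 F8221)) (tt N2219 F4965) (tt N1691 F4966) (tt N3609 (iv3 F8230)) (tt N3611 D5416) (tt N726 (iv5 D2228)) (tt N3612 D5417) (tt N1688 F4967))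
theorem Q1640 : ∀ i, i < 1640 → P i := stepQ 1639 Q1639 (allL N1639 (tt N2223 (iv1 F4997)) (tt N2194 (iv0 F8235)) (tt N1692 F4968) (tt N3610 (iv3 F8231)) (tt N872 F4969) (tt N3613 D5419) (tt N726 (iv6 D2229)) (tt N3614 D5420))
theorem Q1641 : ∀ i, i < 1641 → P i := stepQ 1640 Q1640 (allL N1640 (tt N1696 (iv1 F3683)) (tt N727 (iv0 D2230)) (tt N1693 (iv2 F4972)) (tt N3615 D5421) (tt N3616 D5422) (tt N1960 F4970) (tt N3617 D5423) (tt N1694 (iv7 F4973)))
theorem Q1642 : ∀ i, i < 1642 → P i := stepQ 1641 Q1641 (allL N1641 (tt N727 (iv1 D2231)) (tt N1696 F3682) (tt N1694 (iv2 F4976)) (tt N3618 D5424) (tt N3619 D5425) (tt N1963 (iv5 F4977)) (tt N3620 D5426) (tt N1693 F4982))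
theorem Q1643 : ∀ i, i < 1643 → P i := stepQ 1642 Q1642 (allL N1642 (tt N3621 D5427) (tt N3622 D5428) (tt N1695 (iv2 F3677)) (tt N3623 D5429) (tt N727 (iv4 D2232)) (tt N3624 D5430) (tt N1695 (iv6 F3678)) (tt N3625 D5431))
theorem Q1644 : ∀ i, i < 1644 → P i := stepQ 1643 Q1643 (allL N1643 (tt N1694 (iv1 F3676)) (tt N1693 F3681) (tt N1696 (iv2 F3679)) (tt N3596 (iv3 F8215)) (tt N3625 (iv4 F8252)) (tt N728 F3593) (tt N3626 D5432) (tt N727 (iv7 D2233)))
theorem Q1645 : ∀ i, i < 1645 → P i := stepQ 1644 Q1644 (allL N1644 (tt N742 F5087) (tt N729 (iv0 D2240)) (tt N743 F5088) (tt N1564 F5089) (tt N2263 (iv4 F9961)) (tt N1644 F5090) (tt N1644 F5091) (tt N737 F5092))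
theorem Q1646 : ∀ i, i < 1646 → P i := stepQ 1645 Q1645 (allL N1645 (tt N3627 D5442) (tt N2020 (iv0 F8299)) (tt N1958 F9994) (tt N731 F3602) (tt N3628 D5444) (tt N729 (iv5 D2244)) (tt N3629 D5445) (tt N1707 F8055))
theorem Q1647 : ∀ i, i < 1647 → P i := stepQ 1646 Q1646 (allL N1646 (tt N3630 D5446) (tt N3631 D5447) (tt N1959 F9995) (tt N732 F3603) (tt N3484 (iv4 F10018)) (tt N3632 D5448) (tt N729 (iv6 D2245)) (tt N3633 D5449))
theorem Q1648 : ∀ i, i < 1648 → P i := stepQ 1647 Q1647 (allL N1647 (tt N3634 D5450) (tt N3518 F19348) (tt N3635 D5452) (tt N730 (iv3 D2249)) (tt N3482 (iv4 F10015)) (tt N3636 D5453) (tt N3637 D5454) (tt N1709 F8056))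
theorem Q1649 : ∀ i, i < 1649 → P i := stepQ 1648 Q1648 (allL N1648 (tt N3638 D5455) (tt N3639 D5456) (tt N1698 (iv2 F8060)) (tt N3636 (iv3 F8276)) (tt N3640 D5457) (tt N730 (iv5 D2250)) (tt N3641 D5458) (tt N1710 F8057))
theorem Q1650 : ∀ i, i < 1650 → P i := stepQ 1649 Q1649 (allL N1649 (tt N3556 (iv1 F8287)) (tt N3642 D5460) (tt N1699 (iv2 F8070)) (tt N3637 (iv3 F8277)) (tt N732 F3606) (tt N2060 F5086) (tt N730 (iv6 D2251)) (tt N3643 D5461))
theorem Q1651 : ∀ i, i < 1651 → P i := stepQ 1650 Q1650 (allL N1650 (tt N734 (iv1 F3615)) (tt N731 (iv0 D2253)) (tt N1700 (iv2 F4457)) (tt N3644 D5462) (tt N2220 (iv4 F4992)) (tt N906 F3610) (tt N3399 (iv6 F7618)) (tt N906 (iv7 F4458)))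
theorem Q1652 : ∀ i, i < 1652 → P i := stepQ 1651 Q1651 (allL N1651 (tt N3645 D5463) (tt N1011 F5078) (tt N1701 F8009) (tt N3646 D5464) (tt N731 (iv4 D2255)) (tt N1975 F5079) (tt N2242 F5080) (tt N1712 (iv7 F8007)))
theorem Q1653 : ∀ i, i < 1653 → P i := stepQ 1652 Q1652 (allL N1652 (tt N1535 F3612) (tt N2017 (iv0 F4439)) (tt N1702 (iv2 F8003)) (tt N3629 (iv3 F8272)) (tt N2242 F5077) (tt N3531 F7942) (tt N731 (iv6 D2256)) (tt N1995 (iv7 F4388)))
theorem Q1654 : ∀ i, i < 1654 → P i := stepQ 1653 Q1653 (allL N1653 (tt N732 (iv1 D2259)) (tt N1705 (iv0 F8043)) (tt N1703 F7887) (tt N3497 (iv3 F10321)) (tt N3605 (iv4 F8222)) (tt N3647 D5466) (tt N1660 (iv6 F3622)) (tt N1603 F7882))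
theorem Q1655 : ∀ i, i < 1655 → P i := stepQ 1654 Q1654 (allL N1654 (tt N893 F3616) (tt N1992 F4377) (tt N1704 F8047) (tt N3632 (iv3 F8273)) (tt N2081 F5106) (tt N732 (iv5 D2260)) (tt N3531 (iv6 F7943)) (tt N1991 F7955))
theorem Q1656 : ∀ i, i < 1656 → P i := stepQ 1655 Q1655 (allL N1655 (tt N1703 (iv1 F7958)) (tt N1603 (iv0 F7956)) (tt N1705 (iv2 F7957)) (tt N3633 (iv3 F8275)) (tt N3643 (iv4 F8288)) (tt N1991 (iv5 F7952)) (tt N1715 (iv6 F7984)) (tt N732 (iv7 D2261)))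
theorem Q1657 : ∀ i, i < 1657 → P i := stepQ 1656 Q1656 (allL N1656 (tt N3545 F19326) (tt N3648 D5493) (tt N3649 D5494) (tt N733 (iv3 D2269)) (tt N1637 (iv4 F10030)) (tt N3650 D5495) (tt N3651 D5496) (tt N1697 (iv7 F8066)))
theorem Q1658 : ∀ i, i < 1658 → P i := stepQ 1657 Q1657 (allL N1657 (tt N3639 (iv1 F8281)) (tt N3638 F8279) (tt N1710 F8058) (tt N3650 (iv3 F8379)) (tt N3652 D5497) (tt N733 (iv5 D2270)) (tt N3653 D5498) (tt N1698 (iv7 F8059)))
theorem Q1659 : ∀ i, i < 1659 → P i := stepQ 1658 Q1658 (allL N1658 (tt N3654 D5499) (tt N2443 F5485) (tt N1711 F8054) (tt N3651 (iv3 F8380)) (tt N735 F3620) (tt N2238 F5083) (tt N733 (iv6 D2271)) (tt N3655 D5500))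
theorem Q1660 : ∀ i, i < 1660 → P i := stepQ 1659 Q1659 (allL N1659 (tt N1011 F7597) (tt N3645 F8303) (tt N1712 (iv2 F8012)) (tt N3656 D5501) (tt N734 (iv4 D2272)) (tt N1976 F5098) (tt N922 F5099) (tt N1701 F8011))
theorem Q1661 : ∀ i, i < 1661 → P i := stepQ 1660 Q1660 (allL N1660 (tt N1715 (iv1 F7981)) (tt N735 (iv0 D2273)) (tt N1713 F7883) (tt N3504 (iv3 F10323)) (tt N2223 (iv4 F4996)) (tt N907 F3621) (tt N1653 F3622) (tt N1617 (iv7 F7873)))
theorem Q1662 : ∀ i, i < 1662 → P i := stepQ 1661 Q1661 (allL N1661 (tt N1537 F4383) (tt N1534 (iv0 F3623)) (tt N1714 (iv2 F8031)) (tt N1785 (iv3 F10040)) (tt N2248 F5178) (tt N735 (iv5 D2275)) (tt N1993 (iv6 F4382)) (tt N2014 (iv7 F8035)))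
theorem Q1663 : ∀ i, i < 1663 → P i := stepQ 1662 Q1662 (allL N1662 (tt N1617 (iv1 F8039)) (tt N1713 (iv0 F8038)) (tt N1715 (iv2 F7982)) (tt N1964 (iv3 F10041)) (tt N3655 (iv4 F8388)) (tt N2014 (iv5 F8033)) (tt N1705 (iv6 F8041)) (tt N735 (iv7 D2276)))
theorem Q1664 : ∀ i, i < 1664 → P i := stepQ 1663 Q1663 (allL N1663 (tt N1999 F4398) (tt N2001 (iv0 F4402)) (tt N3657 D5503) (tt N736 (iv3 D2277)) (tt N1559 F3624) (tt N1946 (iv5 F4250)) (tt N3658 D5504) (tt N1663 F3625))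
theorem Q1665 : ∀ i, i < 1665 → P i := stepQ 1664 Q1664 (allL N1664 (tt N1583 F9958) (tt N1586 (iv0 F9968)) (tt N741 F3627) (tt N3658 (iv3 F8401)) (tt N737 F3628) (tt N3659 D5507) (tt N736 (iv6 D2278)) (tt N2263 (iv7 F9963)))
theorem Q1666 : ∀ i, i < 1666 → P i := stepQ 1665 Q1665 (allL N1665 (tt N738 (iv1 D2283)) (tt N1592 F3637) (tt N1590 (iv2 F7897)) (tt N1571 (iv3 F10251)) (tt N2094 F10250) (tt N3660 D5509) (tt N3630 (iv6 F8459)) (tt N1589 (iv7 F7898)))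
theorem Q1667 : ∀ i, i < 1667 → P i := stepQ 1666 Q1666 (allL N1666 (tt N3536 F8087) (tt N3661 D5511) (tt N1591 F3638) (tt N819 F3639) (tt N3662 D5512) (tt N738 (iv5 D2284)) (tt N815 F3640) (tt N3663 D5513))
theorem Q1668 : ∀ i, i < 1668 → P i := stepQ 1667 Q1667 (allL N1667 (tt N1590 (iv1 F3645)) (tt N1589 F3646) (tt N1592 F3641) (tt N820 F3642) (tt N3474 (iv4 F7789)) (tt N3663 (iv5 F8421)) (tt N1667 F3643) (tt N738 (iv7 D2285)))
theorem Q1669 : ∀ i, i < 1669 → P i := stepQ 1668 Q1668 (allL N1668 (tt N1670 (iv1 F3651)) (tt N739 (iv0 D2286)) (tt N1669 F3653) (tt N896 F3755) (tt N3664 D5514) (tt N1624 F3647) (tt N3665 D5515) (tt N1668 F3648))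
theorem Q1670 : ∀ i, i < 1670 → P i := stepQ 1669 Q1669 (allL N1669 (tt N739 (iv1 D2287)) (tt N1670 F3652) (tt N1668 (iv2 F3653)) (tt N3666 D5516) (tt N1671 (iv4 F3658)) (tt N1627 F3654) (tt N3667 D5517) (tt N1669 F3655))
theorem Q1671 : ∀ i, i < 1671 → P i := stepQ 1670 Q1670 (allL N1670 (tt N1669 (iv1 F3652)) (tt N1668 F3651) (tt N739 (iv2 D2288)) (tt N3657 (iv3 F8395)) (tt N746 F3649) (tt N3664 (iv5 F8426)) (tt N3668 D5518) (tt N1670 F3650))
theorem Q1672 : ∀ i, i < 1672 → P i := stepQ 1671 Q1671 (allL N1671 (tt N2129 F4746) (tt N2132 (iv0 F4753)) (tt N3664 (iv2 F8424)) (tt N740 F3656) (tt N1669 F3658) (tt N739 (iv5 D2289)) (tt N3669 D5519) (tt N1671 F3657))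
theorem Q1673 : ∀ i, i < 1673 → P i := stepQ 1672 Q1672 (allL N1672 (tt N3670 D5520) (tt N3671 D5521) (tt N3668 (iv2 F8438)) (tt N741 F3659) (tt N747 F3660) (tt N3672 D5522) (tt N739 (iv6 D2290)) (tt N3673 D5523))
theorem Q1674 : ∀ i, i < 1674 → P i := stepQ 1673 Q1673 (allL N1673 (tt N3674 D5524) (tt N3554 F19503) (tt N1947 (iv2 F4252)) (tt N3669 (iv3 F8440)) (tt N3439 (iv4 F7701)) (tt N3675 D5526) (tt N740 (iv6 D2291)) (tt N3676 D5527))
theorem Q1675 : ∀ i, i < 1675 → P i := stepQ 1674 Q1674 (allL N1674 (tt N2263 F9970) (tt N741 (iv0 D2292)) (tt N1583 F9971) (tt N2235 (iv3 F9973)) (tt N1562 (iv4 F9981)) (tt N3677 D5531) (tt N3678 D5532) (tt N1586 F9972))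
theorem Q1676 : ∀ i, i < 1676 → P i := stepQ 1675 Q1675 (allL N1675 (tt N3679 D5537) (tt N3680 D5538) (tt N3659 (iv2 F8406)) (tt N3672 (iv3 F8442)) (tt N3681 D5539) (tt N741 (iv5 D2294)) (tt N3675 (iv6 F8446)) (tt N3682 D5540))
theorem Q1677 : ∀ i, i < 1677 → P i := stepQ 1676 Q1676 (allL N1676 (tt N1586 (iv1 F9969)) (tt N1583 F9957) (tt N2263 (iv2 F9960)) (tt N3673 (iv3 F8443)) (tt N743 F3661) (tt N3682 (iv5 F8450)) (tt N1676 F3662) (tt N741 (iv7 D2295)))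
theorem Q1678 : ∀ i, i < 1678 → P i := stepQ 1677 Q1677 (allL N1677 (tt N2020 (iv1 F8300)) (tt N3627 F8270) (tt N1707 F8023) (tt N884 (iv3 F10005)) (tt N3683 D5544) (tt N742 (iv5 D2304)) (tt N926 (iv6 F10010)) (tt N1958 F9989))
theorem Q1679 : ∀ i, i < 1679 → P i := stepQ 1678 Q1678 (allL N1678 (tt N3684 D5545) (tt N3508 (iv0 F8687)) (tt N1708 (iv2 F8053)) (tt N885 (iv3 F10006)) (tt N3487 (iv4 F10009)) (tt N2245 (iv5 F10014)) (tt N742 (iv6 D2305)) (tt N3685 D5548))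
theorem Q1680 : ∀ i, i < 1680 → P i := stepQ 1679 Q1679 (allL N1679 (tt N3686 D5549) (tt N2434 (iv0 F10314)) (tt N1681 (iv2 F3667)) (tt N1726 (iv3 F3759)) (tt N958 F3665) (tt N3687 D5551) (tt N744 (iv6 D2306)) (tt N3688 D5552))
theorem Q1681 : ∀ i, i < 1681 → P i := stepQ 1680 Q1680 (allL N1680 (tt N1732 F3784) (tt N2423 F5447) (tt N1727 (iv2 F3761)) (tt N745 (iv3 D2307)) (tt N3689 D5553) (tt N2131 (iv5 F4747)) (tt N3690 D5554) (tt N1680 F3666))
theorem Q1682 : ∀ i, i < 1682 → P i := stepQ 1681 Q1681 (allL N1681 (tt N2192 (iv1 F10311)) (tt N3691 D5556) (tt N1679 F3667) (tt N3690 (iv3 F8470)) (tt N2134 (iv4 F4756)) (tt N3692 D5557) (tt N745 (iv6 D2308)) (tt N3693 D5558))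
theorem Q1683 : ∀ i, i < 1683 → P i := stepQ 1682 Q1682 (allL N1682 (tt N3694 D5559) (tt N3695 D5560) (tt N747 F3668) (tt N1629 F3669) (tt N3668 (iv4 F8439)) (tt N3696 D5561) (tt N746 (iv6 D2309)) (tt N3697 D5562))
theorem Q1684 : ∀ i, i < 1684 → P i := stepQ 1683 Q1683 (allL N1683 (tt N3697 (iv1 F8488)) (tt N747 (iv0 D2310)) (tt N3694 (iv2 F10142)) (tt N1735 F9964) (tt N986 (iv4 F9978)) (tt N3698 D5565) (tt N3699 D5566) (tt N3695 (iv7 F9980)))
theorem Q1685 : ∀ i, i < 1685 → P i := stepQ 1684 Q1684 (allL N1684 (tt N747 (iv1 D2311)) (tt N3697 F8487) (tt N3695 (iv2 F9979)) (tt N3700 D5568) (tt N3701 D5569) (tt N3702 D5570) (tt N3703 D5571) (tt N3694 (iv7 F10143)))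
theorem Q1686 : ∀ i, i < 1686 → P i := stepQ 1685 Q1685 (allL N1685 (tt N3704 D5572) (tt N3705 D5573) (tt N3696 (iv2 F8480)) (tt N750 F3670) (tt N3706 D5574) (tt N747 (iv5 D2312)) (tt N1632 F3671) (tt N3707 D5575))
theorem Q1687 : ∀ i, i < 1687 → P i := stepQ 1686 Q1686 (allL N1686 (tt N3695 (iv1 F8478)) (tt N3694 F8486) (tt N3697 (iv2 F8483)) (tt N751 F3672) (tt N3673 (iv4 F8444)) (tt N3707 (iv5 F8493)) (tt N1686 F3673) (tt N747 (iv7 D2313)))
theorem Q1688 : ∀ i, i < 1688 → P i := stepQ 1687 Q1687 (allL N1687 (tt N3708 D5576) (tt N2425 F22449) (tt N3709 D5578) (tt N748 (iv3 D2315)) (tt N1697 (iv4 F10042)) (tt N3710 D5580) (tt N3711 D5581) (tt N1637 (iv7 F4963)))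
theorem Q1689 : ∀ i, i < 1689 → P i := stepQ 1688 Q1688 (allL N1688 (tt N3712 D5582) (tt N3713 D5583) (tt N1635 (iv2 F4953)) (tt N3710 (iv3 F8502)) (tt N3714 D5584) (tt N748 (iv5 D2317)) (tt N3715 D5585) (tt N1638 (iv7 F4967)))
theorem Q1690 : ∀ i, i < 1690 → P i := stepQ 1689 Q1689 (allL N1689 (tt N2197 (iv1 F8520)) (tt N3716 D5587) (tt N1636 (iv2 F4958)) (tt N3711 (iv3 F8504)) (tt N883 F4872) (tt N2140 F4763) (tt N748 (iv6 D2318)) (tt N3717 D5588))
theorem Q1691 : ∀ i, i < 1691 → P i := stepQ 1690 Q1690 (allL N1690 (tt N2172 (iv1 F10117)) (tt N3718 D5590) (tt N3719 D5591) (tt N749 (iv3 D2320)) (tt N3485 (iv4 F7799)) (tt N3720 D5592) (tt N3721 D5593) (tt N1634 (iv7 F4956)))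
theorem Q1692 : ∀ i, i < 1692 → P i := stepQ 1691 Q1691 (allL N1691 (tt N3713 (iv1 F8509)) (tt N3712 F8506) (tt N1638 (iv2 F4966)) (tt N3720 (iv3 F8533)) (tt N3722 D5594) (tt N749 (iv5 D2322)) (tt N3723 D5595) (tt N1635 (iv7 F4954)))
theorem Q1693 : ∀ i, i < 1693 → P i := stepQ 1692 Q1692 (allL N1692 (tt N3724 D5596) (tt N2433 F7600) (tt N1639 (iv2 F4968)) (tt N3721 (iv3 F8535)) (tt N885 F4880) (tt N2206 F4881) (tt N749 (iv6 D2323)) (tt N3725 D5597))
theorem Q1694 : ∀ i, i < 1694 → P i := stepQ 1693 Q1693 (allL N1693 (tt N1643 (iv1 F3681)) (tt N750 (iv0 D2324)) (tt N1640 F4972) (tt N3726 D5598) (tt N3727 D5599) (tt N1979 F4882) (tt N3728 D5600) (tt N1641 (iv7 F4982)))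
theorem Q1695 : ∀ i, i < 1695 → P i := stepQ 1694 Q1694 (allL N1694 (tt N750 (iv1 D2325)) (tt N1643 F3676) (tt N1641 F4976) (tt N3729 D5601) (tt N3730 D5602) (tt N1982 (iv5 F4891)) (tt N3731 D5603) (tt N1640 F4973))
theorem Q1696 : ∀ i, i < 1696 → P i := stepQ 1695 Q1695 (allL N1695 (tt N3732 D5604) (tt N3733 D5605) (tt N1642 F3677) (tt N3734 D5606) (tt N750 (iv4 D2326)) (tt N3625 (iv5 F8253)) (tt N1642 F3678) (tt N3624 (iv7 F8248)))
theorem Q1697 : ∀ i, i < 1697 → P i := stepQ 1696 Q1696 (allL N1696 (tt N1641 (iv1 F3682)) (tt N1640 F3683) (tt N1643 F3679) (tt N3707 (iv3 F8492)) (tt N3624 (iv4 F8247)) (tt N751 F3680) (tt N3735 D5607) (tt N750 (iv7 D2327)))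
theorem Q1698 : ∀ i, i < 1698 → P i := stepQ 1697 Q1697 (allL N1697 (tt N3736 D5634) (tt N3546 (iv0 F19381)) (tt N3737 D5636) (tt N752 (iv3 D2343)) (tt N1687 F10042) (tt N3738 D5637) (tt N3739 D5638) (tt N1656 F8066))
theorem Q1699 : ∀ i, i < 1699 → P i := stepQ 1698 Q1698 (allL N1698 (tt N2268 F7713) (tt N3740 D5639) (tt N1648 F8060) (tt N3738 (iv3 F8631)) (tt N3741 D5640) (tt N752 (iv5 D2344)) (tt N3742 D5641) (tt N1657 F8059))
theorem Q1700 : ∀ i, i < 1700 → P i := stepQ 1699 Q1699 (allL N1699 (tt N2450 (iv1 F8647)) (tt N3743 D5643) (tt N1649 F8070) (tt N3739 (iv3 F8633)) (tt N754 F3696) (tt N2103 F7714) (tt N752 (iv6 D2345)) (tt N3744 D5644))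
theorem Q1701 : ∀ i, i < 1701 → P i := stepQ 1700 Q1700 (allL N1700 (tt N757 (iv1 F3705)) (tt N753 (iv0 D2347)) (tt N1650 F4457) (tt N3745 D5645) (tt N3746 D5646) (tt N1538 F3700) (tt N2017 (iv6 F4437)) (tt N1538 (iv7 F4456)))
theorem Q1702 : ∀ i, i < 1702 → P i := stepQ 1701 Q1701 (allL N1701 (tt N2269 (iv1 F7598)) (tt N1793 F7737) (tt N1651 (iv2 F8009)) (tt N3747 D5647) (tt N753 (iv4 D2349)) (tt N1953 (iv5 F7736)) (tt N3748 D5648) (tt N1659 (iv7 F8011)))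
theorem Q1703 : ∀ i, i < 1703 → P i := stepQ 1702 Q1702 (allL N1702 (tt N903 F3702) (tt N3399 F7620) (tt N1652 F8003) (tt N1003 F10044) (tt N3748 (iv4 F8665)) (tt N3561 F8153) (tt N753 (iv6 D2350)) (tt N1990 (iv7 F4375)))
theorem Q1704 : ∀ i, i < 1704 → P i := stepQ 1703 Q1703 (allL N1703 (tt N754 (iv1 D2353)) (tt N1655 F7958) (tt N1653 (iv2 F7887)) (tt N3631 (iv3 F8456)) (tt N3716 (iv4 F8517)) (tt N3749 D5649) (tt N1713 (iv6 F3712)) (tt N1619 F7885))
theorem Q1705 : ∀ i, i < 1705 → P i := stepQ 1704 Q1704 (allL N1704 (tt N889 F3706) (tt N1997 F4392) (tt N1654 (iv2 F8047)) (tt N933 F10046) (tt N2125 F7733) (tt N754 (iv5 D2354)) (tt N3561 (iv6 F8155)) (tt N1996 F8046))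
theorem Q1706 : ∀ i, i < 1706 → P i := stepQ 1705 Q1705 (allL N1705 (tt N1653 F8043) (tt N1619 F8044) (tt N1655 F7957) (tt N1981 (iv3 F10038)) (tt N3744 (iv4 F8650)) (tt N1996 (iv5 F8042)) (tt N1662 F8041) (tt N754 (iv7 D2355)))
theorem Q1707 : ∀ i, i < 1707 → P i := stepQ 1706 Q1706 (allL N1706 (tt N1561 (iv1 F9990)) (tt N1582 (iv0 F9991)) (tt N1580 (iv2 F9987)) (tt N1768 F10127) (tt N755 (iv4 D2360)) (tt N3750 D5653) (tt N3751 D5654) (tt N1579 (iv7 F9993)))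
theorem Q1708 : ∀ i, i < 1708 → P i := stepQ 1707 Q1707 (allL N1707 (tt N1744 (iv1 F8295)) (tt N3644 (iv0 F8293)) (tt N1677 (iv2 F8023)) (tt N757 F3708) (tt N3752 D5655) (tt N755 (iv5 D2361)) (tt N1717 (iv6 F7720)) (tt N1645 (iv7 F8055)))
theorem Q1709 : ∀ i, i < 1709 → P i := stepQ 1708 Q1708 (allL N1708 (tt N3753 D5656) (tt N3529 (iv0 F8550)) (tt N1678 F8053) (tt N758 F3709) (tt N3751 (iv4 F8681)) (tt N3754 D5657) (tt N755 (iv6 D2362)) (tt N3755 D5658))
theorem Q1710 : ∀ i, i < 1710 → P i := stepQ 1709 Q1709 (allL N1709 (tt N3517 F19387) (tt N3756 D5660) (tt N3757 D5661) (tt N756 (iv3 D2363)) (tt N1768 F10128) (tt N3758 D5662) (tt N3759 D5663) (tt N1647 (iv7 F8056)))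
theorem Q1711 : ∀ i, i < 1711 → P i := stepQ 1710 Q1710 (allL N1710 (tt N3740 (iv1 F8634)) (tt N2268 (iv0 F7596)) (tt N1657 (iv2 F8058)) (tt N3758 (iv3 F8704)) (tt N3760 D5664) (tt N756 (iv5 D2364)) (tt N3761 D5665) (tt N1648 (iv7 F8057)))
theorem Q1712 : ∀ i, i < 1712 → P i := stepQ 1711 Q1711 (allL N1711 (tt N2276 (iv1 F7595)) (tt N2287 F8386) (tt N1658 (iv2 F8054)) (tt N3759 (iv3 F8706)) (tt N758 F3710) (tt N3762 D5666) (tt N756 (iv6 D2365)) (tt N3763 D5667))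
theorem Q1713 : ∀ i, i < 1713 → P i := stepQ 1712 Q1712 (allL N1712 (tt N1793 F7723) (tt N2269 F7724) (tt N1659 F8012) (tt N3764 D5668) (tt N757 (iv4 D2366)) (tt N1954 F7725) (tt N941 F7726) (tt N1651 F8007))
theorem Q1714 : ∀ i, i < 1714 → P i := stepQ 1713 Q1713 (allL N1713 (tt N1662 F8038) (tt N758 (iv0 D2367)) (tt N1660 (iv2 F7883)) (tt N3684 F8453) (tt N3724 (iv4 F8540)) (tt N1539 F3711) (tt N1703 F3712) (tt N1601 (iv7 F7884)))
theorem Q1715 : ∀ i, i < 1715 → P i := stepQ 1714 Q1714 (allL N1714 (tt N905 F4370) (tt N902 (iv0 F3713)) (tt N1661 F8031) (tt N3754 (iv3 F8690)) (tt N3765 D5669) (tt N758 (iv5 D2369)) (tt N1988 (iv6 F4369)) (tt N2621 (iv7 F8028)))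
theorem Q1716 : ∀ i, i < 1716 → P i := stepQ 1715 Q1715 (allL N1715 (tt N1601 F7980) (tt N1660 F7981) (tt N1662 F7982) (tt N3755 (iv3 F8694)) (tt N3763 (iv4 F8716)) (tt N2621 F7983) (tt N1655 F7984) (tt N758 (iv7 D2370)))
theorem Q1717 : ∀ i, i < 1717 → P i := stepQ 1716 Q1716 (allL N1716 (tt N3766 D5670) (tt N2448 (iv0 F10288)) (tt N1721 (iv2 F3720)) (tt N2149 (iv3 F4785)) (tt N760 F3714) (tt N3767 D5672) (tt N759 (iv6 D2371)) (tt N3768 D5673))
theorem Q1718 : ∀ i, i < 1718 → P i := stepQ 1717 Q1717 (allL N1717 (tt N1724 (iv1 F3730)) (tt N760 (iv0 D2372)) (tt N926 F10033) (tt N887 (iv3 F7721)) (tt N3769 D5674) (tt N3770 D5675) (tt N1707 F7720) (tt N1722 F8019))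
theorem Q1719 : ∀ i, i < 1719 → P i := stepQ 1718 Q1718 (allL N1718 (tt N3771 D5680) (tt N2121 (iv0 F10000)) (tt N1723 (iv2 F3724)) (tt N893 F3715) (tt N3772 D5682) (tt N760 (iv5 D2374)) (tt N774 F3716) (tt N3773 D5683))
theorem Q1720 : ∀ i, i < 1720 → P i := stepQ 1719 Q1719 (allL N1719 (tt N1722 (iv1 F3723)) (tt N926 F10031) (tt N1724 (iv2 F3726)) (tt N894 F3717) (tt N3768 (iv4 F8728)) (tt N3773 (iv5 F8741)) (tt N1719 F3718) (tt N760 (iv7 D2375)))
theorem Q1721 : ∀ i, i < 1721 → P i := stepQ 1720 Q1720 (allL N1720 (tt N3544 F8113) (tt N3515 (iv0 F7912)) (tt N3689 (iv2 F8464)) (tt N761 (iv3 D2376)) (tt N1727 (iv4 F3762)) (tt N2047 (iv5 F4497)) (tt N3774 D5684) (tt N1720 F3719))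
theorem Q1722 : ∀ i, i < 1722 → P i := stepQ 1721 Q1721 (allL N1721 (tt N3552 (iv1 F10285)) (tt N3775 D5686) (tt N1716 F3720) (tt N3774 (iv3 F8743)) (tt N762 F3721) (tt N3776 D5687) (tt N761 (iv6 D2377)) (tt N3777 D5688))
theorem Q1723 : ∀ i, i < 1723 → P i := stepQ 1722 Q1722 (allL N1722 (tt N762 (iv1 D2379)) (tt N1719 F3723) (tt N947 F10047) (tt N892 F5103) (tt N3778 D5692) (tt N3779 D5693) (tt N3780 D5694) (tt N1717 (iv7 F8019)))
theorem Q1724 : ∀ i, i < 1724 → P i := stepQ 1723 Q1723 (allL N1723 (tt N2075 (iv1 F10024)) (tt N3632 (iv0 F8274)) (tt N1718 F3724) (tt N3415 (iv3 F7648)) (tt N3781 D5696) (tt N762 (iv5 D2380)) (tt N1526 F3725) (tt N3782 D5697))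
theorem Q1725 : ∀ i, i < 1725 → P i := stepQ 1724 Q1724 (allL N1724 (tt N947 F10048) (tt N1717 F3730) (tt N1719 F3726) (tt N3416 (iv3 F7651)) (tt N3777 (iv4 F8749)) (tt N3782 (iv5 F8780)) (tt N1724 F3727) (tt N762 (iv7 D2381)))
theorem Q1726 : ∀ i, i < 1726 → P i := stepQ 1725 Q1725 (allL N1725 (tt N970 (iv1 F3737)) (tt N1575 F3735) (tt N1728 (iv2 F3764)) (tt N955 F3731) (tt N919 F3733) (tt N763 (iv5 D2382)) (tt N3783 D5698) (tt N1725 F3732))
theorem Q1727 : ∀ i, i < 1727 → P i := stepQ 1726 Q1726 (allL N1726 (tt N3769 (iv1 F10051)) (tt N2111 (iv0 F7730)) (tt N1729 (iv2 F3769)) (tt N1679 F3759) (tt N886 F3760) (tt N3784 D5700) (tt N763 (iv6 D2383)) (tt N3785 D5701))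
theorem Q1728 : ∀ i, i < 1728 → P i := stepQ 1727 Q1727 (allL N1727 (tt N2423 F5446) (tt N1732 F3785) (tt N1680 F3761) (tt N764 (iv3 D2384)) (tt N1720 F3762) (tt N2174 (iv5 F4827)) (tt N3786 D5702) (tt N1727 F3763))
theorem Q1729 : ∀ i, i < 1729 → P i := stepQ 1728 Q1728 (allL N1728 (tt N1575 F3767) (tt N970 F3768) (tt N1725 F3764) (tt N2174 (iv3 F4828)) (tt N918 F3765) (tt N764 (iv5 D2385)) (tt N3787 D5703) (tt N1728 F3766))
theorem Q1730 : ∀ i, i < 1730 → P i := stepQ 1729 Q1729 (allL N1729 (tt N2063 F4895) (tt N3778 (iv0 F10062)) (tt N1726 F3769) (tt N3786 (iv3 F8793)) (tt N1545 F3770) (tt N3788 D5705) (tt N764 (iv6 D2386)) (tt N3789 D5706))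
theorem Q1731 : ∀ i, i < 1731 → P i := stepQ 1730 Q1730 (allL N1730 (tt N1731 (iv1 F3779)) (tt N765 (iv0 D2387)) (tt N1626 (iv2 F3773)) (tt N1560 F3772) (tt N3666 (iv4 F8432)) (tt N1559 F3771) (tt N3790 D5707) (tt N1730 F3774))
theorem Q1732 : ∀ i, i < 1732 → P i := stepQ 1731 Q1731 (allL N1731 (tt N1626 (iv1 F3780)) (tt N1730 F3779) (tt N765 (iv2 D2388)) (tt N974 F3776) (tt N780 F3777) (tt N2423 (iv5 F5444)) (tt N3791 D5708) (tt N1731 F3778))
theorem Q1733 : ∀ i, i < 1733 → P i := stepQ 1732 Q1732 (allL N1732 (tt N1727 (iv1 F3785)) (tt N1680 (iv0 F3784)) (tt N2423 (iv2 F5442)) (tt N766 F3781) (tt N1084 F3783) (tt N765 (iv5 D2389)) (tt N3792 D5709) (tt N1732 F3782))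
theorem Q1734 : ∀ i, i < 1734 → P i := stepQ 1733 Q1733 (allL N1733 (tt N3793 D5710) (tt N3589 (iv0 F18906)) (tt N3791 (iv2 F8809)) (tt N767 F3786) (tt N781 F3787) (tt N3794 D5712) (tt N765 (iv6 D2390)) (tt N3795 D5713))
theorem Q1735 : ∀ i, i < 1735 → P i := stepQ 1734 Q1734 (allL N1734 (tt N3585 (iv1 F22454)) (tt N3796 D5715) (tt N3368 (iv2 F7531)) (tt N3792 (iv3 F8812)) (tt N3368 (iv4 F7533)) (tt N3797 D5716) (tt N766 (iv6 D2391)) (tt N3798 D5717))
theorem Q1736 : ∀ i, i < 1736 → P i := stepQ 1735 Q1735 (allL N1735 (tt N3372 (iv1 F7547)) (tt N767 (iv0 D2392)) (tt N3369 F7535) (tt N1683 (iv3 F9964)) (tt N901 F5175) (tt N3799 D5718) (tt N3800 D5719) (tt N3370 (iv7 F7539)))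
theorem Q1737 : ∀ i, i < 1737 → P i := stepQ 1736 Q1736 (allL N1736 (tt N767 (iv1 D2393)) (tt N3372 F7546) (tt N3370 (iv2 F7541)) (tt N3801 D5720) (tt N1552 F9942) (tt N3802 D5721) (tt N3803 D5722) (tt N3369 F7536))
theorem Q1738 : ∀ i, i < 1738 → P i := stepQ 1737 Q1737 (allL N1737 (tt N3804 D5723) (tt N3805 D5724) (tt N3371 (iv2 F7542)) (tt N3794 (iv3 F8814)) (tt N3806 D5725) (tt N767 (iv5 D2394)) (tt N3797 (iv6 F8818)) (tt N3807 D5726))
theorem Q1739 : ∀ i, i < 1739 → P i := stepQ 1738 Q1738 (allL N1738 (tt N3370 (iv1 F7538)) (tt N3369 (iv0 F7537)) (tt N3372 (iv2 F7543)) (tt N3795 (iv3 F8815)) (tt N771 F3788) (tt N3807 (iv5 F8821)) (tt N1738 F3789) (tt N767 (iv7 D2395)))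
theorem Q1740 : ∀ i, i < 1740 → P i := stepQ 1739 Q1739 (allL N1739 (tt N3425 (iv1 F9916)) (tt N879 F9906) (tt N3373 (iv2 F7548)) (tt N3808 D5729) (tt N768 (iv4 D2398)) (tt N3809 D5730) (tt N3810 D5731) (tt N2018 (iv7 F5149)))
theorem Q1741 : ∀ i, i < 1741 → P i := stepQ 1740 Q1740 (allL N1740 (tt N3754 F8692) (tt N3811 D5732) (tt N3374 (iv2 F7550)) (tt N1534 F5125) (tt N3812 D5733) (tt N768 (iv5 D2399)) (tt N3813 D5734) (tt N2019 (iv7 F5148)))
theorem Q1742 : ∀ i, i < 1742 → P i := stepQ 1741 Q1741 (allL N1741 (tt N3780 (iv1 F8836)) (tt N3814 D5736) (tt N3375 (iv2 F7552)) (tt N1535 F5126) (tt N3810 (iv4 F8827)) (tt N3512 F7905) (tt N768 (iv6 D2400)) (tt N3815 D5737))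
theorem Q1743 : ∀ i, i < 1743 → P i := stepQ 1742 Q1742 (allL N1742 (tt N879 F9907) (tt N3425 (iv0 F9915)) (tt N2018 (iv2 F5150)) (tt N3816 D5740) (tt N769 (iv4 D2403)) (tt N3817 D5741) (tt N3818 D5742) (tt N3373 (iv7 F7549)))
theorem Q1744 : ∀ i, i < 1744 → P i := stepQ 1743 Q1743 (allL N1743 (tt N3811 (iv1 F8828)) (tt N3754 (iv0 F8691)) (tt N2019 (iv2 F5151)) (tt N3426 (iv3 F9944)) (tt N3819 D5743) (tt N769 (iv5 D2404)) (tt N3511 (iv6 F7904)) (tt N3374 (iv7 F7551)))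
theorem Q1745 : ∀ i, i < 1745 → P i := stepQ 1744 Q1744 (allL N1744 (tt N1958 F9997) (tt N1707 F8295) (tt N2020 (iv2 F5152)) (tt N3427 (iv3 F9948)) (tt N3818 (iv4 F8848)) (tt N3627 (iv5 F8269)) (tt N769 (iv6 D2405)) (tt N3627 F8298))
theorem Q1746 : ∀ i, i < 1746 → P i := stepQ 1745 Q1745 (allL N1745 (tt N3378 (iv1 F7560)) (tt N770 (iv0 D2406)) (tt N3376 F7891) (tt N1539 F5147) (tt N3820 D5744) (tt N3684 (iv5 F8452)) (tt N3821 D5745) (tt N2024 (iv7 F7890)))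
theorem Q1747 : ∀ i, i < 1747 → P i := stepQ 1746 Q1746 (allL N1746 (tt N770 (iv1 D2407)) (tt N3378 F7559) (tt N2024 (iv2 F7892)) (tt N3428 (iv3 F10218)) (tt N3822 D5747) (tt N3508 (iv5 F7901)) (tt N3823 D5748) (tt N3376 F7893))
theorem Q1748 : ∀ i, i < 1748 → P i := stepQ 1747 Q1747 (allL N1747 (tt N3824 D5749) (tt N3825 D5750) (tt N3377 (iv2 F7553)) (tt N3826 D5751) (tt N770 (iv4 D2408)) (tt N3827 D5752) (tt N776 F3792) (tt N3828 D5753))
theorem Q1749 : ∀ i, i < 1749 → P i := stepQ 1748 Q1748 (allL N1748 (tt N2024 F4939) (tt N3376 F7558) (tt N3378 (iv2 F7555)) (tt N796 F3793) (tt N3828 (iv4 F8855)) (tt N771 F3794) (tt N3829 D5754) (tt N770 (iv7 D2409)))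
theorem Q1750 : ∀ i, i < 1750 → P i := stepQ 1749 Q1749 (allL N1749 (tt N3830 D5755) (tt N3831 D5756) (tt N3379 (iv2 F7561)) (tt N3832 D5757) (tt N772 (iv4 D2410)) (tt N3833 D5758) (tt N3834 D5759) (tt N1163 F3795))
theorem Q1751 : ∀ i, i < 1751 → P i := stepQ 1750 Q1750 (allL N1750 (tt N2543 (iv1 F10687)) (tt N3835 D5761) (tt N3380 (iv2 F7565)) (tt N828 F3796) (tt N3834 (iv4 F8872)) (tt N1164 F3797) (tt N772 (iv6 D2411)) (tt N3836 D5762))
theorem Q1752 : ∀ i, i < 1752 → P i := stepQ 1751 Q1751 (allL N1751 (tt N3831 (iv1 F8863)) (tt N3830 F8860) (tt N1163 F3798) (tt N3837 D5763) (tt N773 (iv4 D2412)) (tt N3838 D5764) (tt N3839 D5765) (tt N3379 (iv7 F7562)))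
theorem Q1753 : ∀ i, i < 1753 → P i := stepQ 1752 Q1752 (allL N1752 (tt N3840 D5766) (tt N2618 F8885) (tt N1164 F3799) (tt N3432 (iv3 F7684)) (tt N3839 (iv4 F8880)) (tt N3380 (iv5 F7567)) (tt N773 (iv6 D2413)) (tt N3841 D5767))
theorem Q1754 : ∀ i, i < 1754 → P i := stepQ 1753 Q1753 (allL N1753 (tt N3436 (iv1 F7695)) (tt N1550 F3800) (tt N3381 (iv2 F7568)) (tt N3842 D5768) (tt N774 (iv4 D2414)) (tt N3843 D5769) (tt N3772 (iv6 F8739)) (tt N2030 (iv7 F4475)))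
theorem Q1755 : ∀ i, i < 1755 → P i := stepQ 1754 Q1754 (allL N1754 (tt N1550 F3801) (tt N3436 F7694) (tt N2030 (iv2 F4474)) (tt N3844 D5770) (tt N775 (iv4 D2415)) (tt N3845 D5771) (tt N3846 D5772) (tt N3381 (iv7 F7569)))
theorem Q1756 : ∀ i, i < 1756 → P i := stepQ 1755 Q1755 (allL N1755 (tt N816 F3808) (tt N813 (iv0 F3806)) (tt N814 F3802) (tt N1108 F3803) (tt N1108 F3805) (tt N775 (iv5 D2416)) (tt N1755 F3807) (tt N812 F3804))
theorem Q1757 : ∀ i, i < 1757 → P i := stepQ 1756 Q1756 (allL N1756 (tt N3847 D5773) (tt N3848 D5774) (tt N2031 (iv2 F4477)) (tt N3433 (iv3 F7687)) (tt N3846 (iv4 F8893)) (tt N1756 F3809) (tt N775 (iv6 D2417)) (tt N3849 D5775))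
theorem Q1758 : ∀ i, i < 1758 → P i := stepQ 1757 Q1757 (allL N1757 (tt N2510 (iv1 F5588)) (tt N776 (iv0 D2418)) (tt N3382 F7573) (tt N2377 (iv3 F5405)) (tt N911 F3810) (tt N3850 D5776) (tt N3851 D5777) (tt N2471 (iv7 F5540)))
theorem Q1759 : ∀ i, i < 1759 → P i := stepQ 1758 Q1758 (allL N1758 (tt N776 (iv1 D2419)) (tt N2510 (iv0 F5587)) (tt N2471 (iv2 F5539)) (tt N3852 D5778) (tt N1556 F3811) (tt N3853 D5779) (tt N3854 D5780) (tt N3382 (iv7 F7575)))
theorem Q1760 : ∀ i, i < 1760 → P i := stepQ 1759 Q1759 (allL N1759 (tt N3855 D5781) (tt N3856 D5782) (tt N3857 D5783) (tt N776 (iv3 D2420)) (tt N808 F3812) (tt N3858 D5784) (tt N3826 (iv6 F8854)) (tt N3859 D5785))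
theorem Q1761 : ∀ i, i < 1761 → P i := stepQ 1760 Q1760 (allL N1760 (tt N2526 (iv1 F5617)) (tt N3860 D5786) (tt N3384 (iv2 F7577)) (tt N3858 (iv3 F8902)) (tt N3861 D5787) (tt N776 (iv5 D2421)) (tt N3862 D5788) (tt N3863 D5789))
theorem Q1762 : ∀ i, i < 1762 → P i := stepQ 1761 Q1761 (allL N1761 (tt N2471 (iv1 F5542)) (tt N3382 F7574) (tt N2510 (iv2 F5585)) (tt N3859 (iv3 F8903)) (tt N777 F3813) (tt N3863 (iv5 F8913)) (tt N3864 D5790) (tt N776 (iv7 D2422)))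
theorem Q1763 : ∀ i, i < 1763 → P i := stepQ 1762 Q1762 (allL N1762 (tt N3865 D5791) (tt N3866 D5792) (tt N2511 (iv2 F5589)) (tt N811 F3814) (tt N3864 (iv4 F8914)) (tt N1762 F3815) (tt N777 (iv6 D2423)) (tt N3829 (iv7 F8858)))
theorem Q1764 : ∀ i, i < 1764 → P i := stepQ 1763 Q1763 (allL N1763 (tt N2131 F4749) (tt N2174 F4830) (tt N976 F3816) (tt N778 (iv3 D2424)) (tt N972 F3817) (tt N967 F3818) (tt N3867 D5793) (tt N1763 F3819))
theorem Q1765 : ∀ i, i < 1765 → P i := stepQ 1764 Q1764 (allL N1764 (tt N3868 D5794) (tt N2114 (iv0 F10344)) (tt N1765 (iv2 F3820)) (tt N3867 (iv3 F8918)) (tt N3519 (iv4 F7918)) (tt N3869 D5796) (tt N778 (iv6 D2425)) (tt N3870 D5797))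
theorem Q1766 : ∀ i, i < 1766 → P i := stepQ 1765 Q1765 (allL N1765 (tt N2065 (iv1 F10277)) (tt N3871 D5799) (tt N1764 F3820) (tt N1574 F3821) (tt N1596 F3822) (tt N3872 D5800) (tt N779 (iv6 D2426)) (tt N3873 D5801))
theorem Q1767 : ∀ i, i < 1767 → P i := stepQ 1766 Q1766 (allL N1766 (tt N3482 (iv1 F10115)) (tt N3874 D5803) (tt N781 F3823) (tt N973 F3824) (tt N3791 (iv4 F8811)) (tt N3875 D5804) (tt N780 (iv6 D2427)) (tt N3876 D5805))
theorem Q1768 : ∀ i, i < 1768 → P i := stepQ 1767 Q1767 (allL N1767 (tt N3876 (iv1 F8941)) (tt N781 (iv0 D2428)) (tt N3482 (iv2 F10125)) (tt N3877 D5807) (tt N3635 (iv4 F10124)) (tt N3878 D5809) (tt N3879 D5810) (tt N3874 (iv7 F10135)))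
theorem Q1769 : ∀ i, i < 1769 → P i := stepQ 1768 Q1768 (allL N1768 (tt N781 (iv1 D2429)) (tt N3876 F8940) (tt N3874 (iv2 F10133)) (tt N1706 (iv3 F10127)) (tt N1709 (iv4 F10128)) (tt N3880 D5814) (tt N3881 D5815) (tt N3482 F10126))
theorem Q1770 : ∀ i, i < 1770 → P i := stepQ 1769 Q1769 (allL N1769 (tt N3882 D5816) (tt N3883 D5817) (tt N3875 (iv2 F8934)) (tt N784 F3825) (tt N3884 D5818) (tt N781 (iv5 D2430)) (tt N2429 (iv6 F5452)) (tt N3885 D5819))
theorem Q1771 : ∀ i, i < 1771 → P i := stepQ 1770 Q1770 (allL N1770 (tt N3874 (iv1 F8933)) (tt N3482 (iv0 F10114)) (tt N3876 (iv2 F8936)) (tt N785 F3826) (tt N3795 (iv4 F8816)) (tt N3885 (iv5 F8945)) (tt N1770 F3827) (tt N781 (iv7 D2431)))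
theorem Q1772 : ∀ i, i < 1772 → P i := stepQ 1771 Q1771 (allL N1771 (tt N3477 (iv1 F10169)) (tt N2144 (iv0 F10170)) (tt N3475 (iv2 F10151)) (tt N782 (iv3 D2433)) (tt N3808 (iv4 F8825)) (tt N3886 D5823) (tt N3887 D5824) (tt N989 F5129))
theorem Q1773 : ∀ i, i < 1773 → P i := stepQ 1772 Q1772 (allL N1772 (tt N3613 (iv1 F8233)) (tt N3888 D5825) (tt N987 F5130) (tt N3886 (iv3 F8952)) (tt N3889 D5826) (tt N782 (iv5 D2435)) (tt N3890 D5827) (tt N990 F5131))
theorem Q1774 : ∀ i, i < 1774 → P i := stepQ 1773 Q1773 (allL N1773 (tt N2072 (iv1 F8967)) (tt N3891 D5829) (tt N988 F5132) (tt N3887 (iv3 F8954)) (tt N1535 F5133) (tt N2438 F5470) (tt N782 (iv6 D2436)) (tt N3892 D5830))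
theorem Q1775 : ∀ i, i < 1775 → P i := stepQ 1774 Q1774 (allL N1774 (tt N2130 F19356) (tt N3893 D5832) (tt N3701 (iv2 F10147)) (tt N783 (iv3 D2438)) (tt N3695 (iv4 F9909)) (tt N3894 D5835) (tt N3895 D5836) (tt N986 F5137))
theorem Q1776 : ∀ i, i < 1776 → P i := stepQ 1775 Q1775 (allL N1775 (tt N3888 (iv1 F8955)) (tt N3613 (iv0 F8234)) (tt N990 F5139) (tt N3894 (iv3 F8982)) (tt N3896 D5837) (tt N783 (iv5 D2440)) (tt N3897 D5838) (tt N987 F5140))
theorem Q1777 : ∀ i, i < 1777 → P i := stepQ 1776 Q1776 (allL N1776 (tt N1960 F5141) (tt N1963 F5142) (tt N991 F5143) (tt N3895 (iv3 F8984)) (tt N1538 F5144) (tt N3712 (iv5 F8505)) (tt N783 (iv6 D2441)) (tt N3746 (iv7 F8659)))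
theorem Q1778 : ∀ i, i < 1778 → P i := stepQ 1777 Q1777 (allL N1777 (tt N995 (iv1 F3834)) (tt N784 (iv0 D2442)) (tt N992 F7871) (tt N3898 D5839) (tt N3899 D5840) (tt N3724 (iv5 F8539)) (tt N3900 D5841) (tt N993 F7872))
theorem Q1779 : ∀ i, i < 1779 → P i := stepQ 1778 Q1778 (allL N1778 (tt N784 (iv1 D2443)) (tt N995 F3830) (tt N993 F7868) (tt N3901 D5842) (tt N3902 D5843) (tt N2433 (iv5 F5456)) (tt N3903 D5844) (tt N992 F7869))
theorem Q1780 : ∀ i, i < 1780 → P i := stepQ 1779 Q1779 (allL N1779 (tt N3904 D5845) (tt N3905 D5846) (tt N994 F3831) (tt N3906 D5847) (tt N784 (iv4 D2444)) (tt N3907 D5848) (tt N2439 (iv6 F5475)) (tt N3908 D5849))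
theorem Q1781 : ∀ i, i < 1781 → P i := stepQ 1780 Q1780 (allL N1780 (tt N993 (iv1 F3835)) (tt N992 F3836) (tt N995 F3832) (tt N3885 (iv3 F8944)) (tt N3908 (iv4 F9010)) (tt N785 F3833) (tt N3909 D5850) (tt N784 (iv7 D2445)))
theorem Q1782 : ∀ i, i < 1782 → P i := stepQ 1781 Q1781 (allL N1781 (tt N2259 (iv1 F5161)) (tt N2258 F5162) (tt N1781 F5160) (tt N788 F3845) (tt N3910 D5854) (tt N786 (iv5 D2456)) (tt N3911 D5855) (tt N1007 (iv7 F3914)))
theorem Q1783 : ∀ i, i < 1783 → P i := stepQ 1782 Q1782 (allL N1782 (tt N2088 (iv1 F10201)) (tt N3912 D5857) (tt N1782 F5172) (tt N789 F3846) (tt N1970 (iv4 F9925)) (tt N2453 (iv5 F5503)) (tt N786 (iv6 D2457)) (tt N3913 D5858))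
theorem Q1784 : ∀ i, i < 1784 → P i := stepQ 1783 Q1783 (allL N1783 (tt N3762 (iv1 F8713)) (tt N3914 D5864) (tt N997 (iv2 F3911)) (tt N3492 (iv3 F9953)) (tt N3915 D5865) (tt N787 (iv5 D2462)) (tt N3916 D5866) (tt N1010 (iv7 F3910)))
theorem Q1785 : ∀ i, i < 1785 → P i := stepQ 1784 Q1784 (allL N1784 (tt N2058 (iv1 F8669)) (tt N3748 (iv0 F8667)) (tt N998 (iv2 F3908)) (tt N3493 (iv3 F9955)) (tt N789 F3849) (tt N3525 F7925) (tt N787 (iv6 D2463)) (tt N3917 D5867))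
theorem Q1786 : ∀ i, i < 1786 → P i := stepQ 1785 Q1785 (allL N1785 (tt N791 F3855) (tt N788 (iv0 D2465)) (tt N999 F4625) (tt N1661 F10040) (tt N3918 D5869) (tt N872 F3853) (tt N946 (iv6 F3854)) (tt N1000 F4618))
theorem Q1787 : ∀ i, i < 1787 → P i := stepQ 1786 Q1786 (allL N1786 (tt N788 (iv1 D2466)) (tt N791 F3857) (tt N1000 F4617) (tt N3811 (iv3 F10036)) (tt N3919 D5871) (tt N1983 F4607) (tt N1047 F4611) (tt N999 (iv7 F4624)))
theorem Q1788 : ∀ i, i < 1788 → P i := stepQ 1787 Q1787 (allL N1787 (tt N3765 (iv1 F8726)) (tt N3920 D5872) (tt N1001 (iv2 F3933)) (tt N3921 D5873) (tt N788 (iv4 D2467)) (tt N3922 D5874) (tt N3923 D5875) (tt N1012 (iv7 F3932)))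
theorem Q1789 : ∀ i, i < 1789 → P i := stepQ 1788 Q1788 (allL N1788 (tt N3924 D5876) (tt N3925 D5877) (tt N1002 (iv2 F3934)) (tt N3911 (iv3 F9025)) (tt N3923 (iv4 F9078)) (tt N2455 (iv5 F5510)) (tt N788 (iv6 D2468)) (tt N2455 (iv7 F5511)))
theorem Q1790 : ∀ i, i < 1790 → P i := stepQ 1789 Q1789 (allL N1789 (tt N789 (iv1 D2471)) (tt N1005 (iv0 F3904)) (tt N1003 (iv2 F4632)) (tt N3814 (iv3 F9998)) (tt N3891 (iv4 F8963)) (tt N2123 (iv5 F4732)) (tt N869 (iv6 F3860)) (tt N950 F4283))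
theorem Q1791 : ∀ i, i < 1791 → P i := stepQ 1790 Q1790 (allL N1790 (tt N1003 F3905) (tt N950 (iv0 F4541)) (tt N1005 F3899) (tt N3913 (iv3 F9027)) (tt N3917 (iv4 F9049)) (tt N1013 (iv5 F3897)) (tt N1014 F3900) (tt N789 (iv7 D2472)))
theorem Q1792 : ∀ i, i < 1792 → P i := stepQ 1791 Q1791 (allL N1791 (tt N2046 F19401) (tt N3926 D5880) (tt N3500 (iv2 F9976)) (tt N790 (iv3 D2480)) (tt N1791 F5173) (tt N3927 D5882) (tt N3928 D5883) (tt N996 F3919))
theorem Q1793 : ∀ i, i < 1793 → P i := stepQ 1792 Q1792 (allL N1792 (tt N3914 (iv1 F9041)) (tt N3762 (iv0 F8712)) (tt N1010 (iv2 F3921)) (tt N3927 (iv3 F9093)) (tt N3929 D5884) (tt N790 (iv5 D2481)) (tt N3930 D5885) (tt N997 F3920))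
theorem Q1794 : ∀ i, i < 1794 → P i := stepQ 1793 Q1793 (allL N1793 (tt N1701 (iv1 F7737)) (tt N1712 (iv0 F7723)) (tt N1011 F3931) (tt N3928 (iv3 F9095)) (tt N792 F3864) (tt N3638 (iv5 F8278)) (tt N790 (iv6 D2482)) (tt N3645 (iv7 F8304)))
theorem Q1795 : ∀ i, i < 1795 → P i := stepQ 1794 Q1794 (allL N1794 (tt N3920 (iv1 F9069)) (tt N3765 (iv0 F8725)) (tt N1012 (iv2 F3936)) (tt N3931 D5886) (tt N791 (iv4 D2483)) (tt N3932 D5887) (tt N2452 (iv6 F5499)) (tt N1001 F3935))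
theorem Q1796 : ∀ i, i < 1796 → P i := stepQ 1795 Q1795 (allL N1795 (tt N884 (iv1 F3873)) (tt N882 (iv0 F3865)) (tt N1014 (iv2 F3892)) (tt N1795 F5156) (tt N3645 (iv4 F8301)) (tt N792 (iv5 D2485)) (tt N1005 (iv6 F3869)) (tt N792 (iv7 F3881)))
theorem Q1797 : ∀ i, i < 1797 → P i := stepQ 1796 Q1796 (allL N1796 (tt N2257 (iv1 F10297)) (tt N1965 (iv0 F10301)) (tt N1796 F5196) (tt N793 (iv3 D2487)) (tt N3933 D5888) (tt N3934 D5889) (tt N3933 F26391) (tt N1018 F5240))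
theorem Q1798 : ∀ i, i < 1798 → P i := stepQ 1797 Q1797 (allL N1797 (tt N3408 (iv1 F7639)) (tt N909 F5276) (tt N1015 F5241) (tt N3935 D5891) (tt N793 (iv4 D2488)) (tt N3936 D5892) (tt N3935 F26566) (tt N1019 F5242))
theorem Q1799 : ∀ i, i < 1799 → P i := stepQ 1798 Q1798 (allL N1798 (tt N1964 (iv1 F4614)) (tt N885 (iv0 F3938)) (tt N1016 F5237) (tt N3934 (iv3 F9108)) (tt N3654 (iv4 F8383)) (tt N793 (iv5 D2489)) (tt N1980 F4354) (tt N1020 F5238))
theorem Q1800 : ∀ i, i < 1800 → P i := stepQ 1799 Q1799 (allL N1799 (tt N3937 D5894) (tt N3938 D5895) (tt N1017 F5243) (tt N3933 F26390) (tt N3935 (iv4 F26453)) (tt N2470 F5532) (tt N793 (iv6 D2490)) (tt N3939 D5896))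
theorem Q1801 : ∀ i, i < 1801 → P i := stepQ 1800 Q1800 (allL N1800 (tt N909 F4926) (tt N3408 F7638) (tt N1019 F5247) (tt N3940 D5897) (tt N794 (iv4 D2493)) (tt N3941 D5898) (tt N3942 D5899) (tt N1015 F5248))
theorem Q1802 : ∀ i, i < 1802 → P i := stepQ 1801 Q1801 (allL N1801 (tt N3943 D5900) (tt N2120 (iv0 F4726)) (tt N1021 (iv2 F5277)) (tt N1801 F5194) (tt N3942 (iv4 F9133)) (tt N2445 (iv5 F5489)) (tt N794 (iv6 D2494)) (tt N3944 D5901))
theorem Q1803 : ∀ i, i < 1803 → P i := stepQ 1802 Q1802 (allL N1802 (tt N1026 (iv1 F3945)) (tt N795 (iv0 D2495)) (tt N1022 F7880) (tt N3945 D5902) (tt N1539 (iv4 F5146)) (tt N3946 D5903) (tt N3947 D5904) (tt N1023 F7881))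
theorem Q1804 : ∀ i, i < 1804 → P i := stepQ 1803 Q1803 (allL N1803 (tt N795 (iv1 D2496)) (tt N1026 F3940) (tt N1023 F7875) (tt N3948 D5905) (tt N1540 F5145) (tt N3949 D5906) (tt N3950 D5907) (tt N1022 F7876))
theorem Q1805 : ∀ i, i < 1805 → P i := stepQ 1804 Q1804 (allL N1804 (tt N3951 D5908) (tt N3952 D5909) (tt N3953 D5910) (tt N795 (iv3 D2497)) (tt N3826 (iv4 F8853)) (tt N3954 D5911) (tt N808 F3941) (tt N3955 D5912))
theorem Q1806 : ∀ i, i < 1806 → P i := stepQ 1805 Q1805 (allL N1805 (tt N3956 D5913) (tt N3957 D5914) (tt N1025 F3942) (tt N3954 (iv3 F9156)) (tt N3958 D5915) (tt N795 (iv5 D2498)) (tt N3959 D5916) (tt N3960 D5917))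
theorem Q1807 : ∀ i, i < 1807 → P i := stepQ 1806 Q1806 (allL N1806 (tt N1023 (iv1 F3946)) (tt N1022 F3947) (tt N1026 F3943) (tt N3955 (iv3 F9157)) (tt N796 F3944) (tt N3960 (iv5 F9173)) (tt N3961 D5918) (tt N795 (iv7 D2499)))
theorem Q1808 : ∀ i, i < 1808 → P i := stepQ 1807 Q1807 (allL N1807 (tt N1075 (iv1 F3951)) (tt N1074 F3952) (tt N1027 F3948) (tt N3829 (iv3 F8856)) (tt N3961 (iv4 F9177)) (tt N1807 F3949) (tt N796 (iv6 D2500)) (tt N811 F3950))
theorem Q1809 : ∀ i, i < 1809 → P i := stepQ 1808 Q1808 (allL N1808 (tt N2338 (iv1 F5350)) (tt N2337 (iv0 F5345)) (tt N1808 F3953) (tt N1048 (iv3 F26278)) (tt N797 (iv4 D2501)) (tt N3962 D5920) (tt N3962 F26270) (tt N1042 F3954))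
theorem Q1810 : ∀ i, i < 1810 → P i := stepQ 1809 Q1809 (allL N1809 (tt N3963 D5922) (tt N3964 D5923) (tt N1809 F3955) (tt N799 F3956) (tt N3962 F26272) (tt N1042 (iv5 F26268)) (tt N797 (iv6 D2502)) (tt N3962 (iv7 F26265)))
theorem Q1811 : ∀ i, i < 1811 → P i := stepQ 1810 Q1810 (allL N1810 (tt N2619 (iv1 F26360)) (tt N2616 (iv0 F26363)) (tt N3965 D5927) (tt N798 (iv3 D2503)) (tt N1048 F26304) (tt N3966 D5928) (tt N3967 D5929) (tt N1044 F3958))
theorem Q1812 : ∀ i, i < 1812 → P i := stepQ 1811 Q1811 (allL N1811 (tt N1259 F3962) (tt N915 F3963) (tt N1034 F3959) (tt N3966 (iv3 F9200)) (tt N858 F3961) (tt N798 (iv5 D2504)) (tt N3968 D5930) (tt N1045 F3960))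
theorem Q1813 : ∀ i, i < 1813 → P i := stepQ 1812 Q1812 (allL N1812 (tt N2544 (iv1 F10686)) (tt N2547 (iv0 F10667)) (tt N1035 F3964) (tt N3967 (iv3 F9202)) (tt N799 F3965) (tt N3969 D5933) (tt N798 (iv6 D2505)) (tt N3967 F26336))
theorem Q1814 : ∀ i, i < 1814 → P i := stepQ 1813 Q1813 (allL N1813 (tt N1038 (iv1 F3970)) (tt N799 (iv0 D2506)) (tt N1036 (iv2 F11355)) (tt N1866 F12627) (tt N3970 D5937) (tt N3971 D5938) (tt N3924 F9081) (tt N1037 F11354))
theorem Q1815 : ∀ i, i < 1815 → P i := stepQ 1814 Q1814 (allL N1814 (tt N799 (iv1 D2507)) (tt N1038 F3966) (tt N1037 F11353) (tt N3835 (iv3 F12594)) (tt N3972 D5941) (tt N3973 D5942) (tt N3974 D5943) (tt N1036 (iv7 F11356)))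
theorem Q1816 : ∀ i, i < 1816 → P i := stepQ 1815 Q1815 (allL N1815 (tt N1037 (iv1 F3971)) (tt N1036 F3972) (tt N1038 F3967) (tt N3962 F26269) (tt N3967 (iv4 F26295)) (tt N1048 F3968) (tt N1048 F3969) (tt N799 (iv7 D2508)))
theorem Q1817 : ∀ i, i < 1817 → P i := stepQ 1816 Q1816 (allL N1816 (tt N3975 D5944) (tt N3976 D5945) (tt N3977 D5946) (tt N800 (iv3 D2509)) (tt N1816 F3973) (tt N3978 D5947) (tt N3977 F26467) (tt N1033 F3974))
theorem Q1818 : ∀ i, i < 1818 → P i := stepQ 1817 Q1817 (allL N1817 (tt N915 F3978) (tt N1259 F3979) (tt N1045 F3975) (tt N3978 (iv3 F9228)) (tt N857 F3976) (tt N800 (iv5 D2510)) (tt N3979 D5949) (tt N1034 F3977))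
theorem Q1819 : ∀ i, i < 1819 → P i := stepQ 1818 Q1818 (allL N1818 (tt N2616 (iv1 F10670)) (tt N2619 (iv0 F10671)) (tt N1044 F26331) (tt N3977 (iv3 F26396)) (tt N801 F3981) (tt N3980 D5952) (tt N800 (iv6 D2511)) (tt N3965 (iv7 F26359)))
theorem Q1820 : ∀ i, i < 1820 → P i := stepQ 1819 Q1819 (allL N1819 (tt N1048 (iv1 F3988)) (tt N801 (iv0 D2512)) (tt N1046 (iv2 F4622)) (tt N3840 (iv3 F10065)) (tt N3981 D5955) (tt N3943 (iv5 F9135)) (tt N949 F3982) (tt N1047 (iv7 F4623)))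
theorem Q1821 : ∀ i, i < 1821 → P i := stepQ 1820 Q1820 (allL N1820 (tt N801 (iv1 D2513)) (tt N1048 F3983) (tt N1047 F4620) (tt N1888 F10068) (tt N3982 D5957) (tt N2120 (iv5 F4725)) (tt N1000 (iv6 F4619)) (tt N1046 F4621))
theorem Q1822 : ∀ i, i < 1822 → P i := stepQ 1821 Q1821 (allL N1821 (tt N1047 (iv1 F3989)) (tt N1046 F3990) (tt N1048 F3984) (tt N1821 F3985) (tt N3965 (iv4 F26357)) (tt N1038 F3986) (tt N1038 F3987) (tt N801 (iv7 D2514)))
theorem Q1823 : ∀ i, i < 1823 → P i := stepQ 1822 Q1822 (allL N1822 (tt N2335 (iv1 F5341)) (tt N1966 (iv0 F4303)) (tt N1822 F3991) (tt N2289 (iv3 F26287)) (tt N802 (iv4 D2515)) (tt N2283 (iv5 F26289)) (tt N2091 (iv6 F4654)) (tt N1051 F3992))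
theorem Q1824 : ∀ i, i < 1824 → P i := stepQ 1823 Q1823 (allL N1823 (tt N3983 D5960) (tt N3984 D5961) (tt N3985 D5962) (tt N803 (iv3 D2516)) (tt N2289 F26319) (tt N3986 D5963) (tt N2126 (iv6 F4737)) (tt N1053 F3993))
theorem Q1825 : ∀ i, i < 1825 → P i := stepQ 1824 Q1824 (allL N1824 (tt N2318 (iv1 F5326)) (tt N2315 (iv0 F5321)) (tt N1050 F3994) (tt N3986 (iv3 F9263)) (tt N850 F3996) (tt N803 (iv5 D2517)) (tt N3987 D5964) (tt N1054 F3995))
theorem Q1826 : ∀ i, i < 1826 → P i := stepQ 1825 Q1825 (allL N1825 (tt N3988 D5965) (tt N3989 D5966) (tt N3990 D5967) (tt N804 (iv3 D2518)) (tt N1825 F3997) (tt N3991 D5968) (tt N3992 D5969) (tt N1049 F3998))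
theorem Q1827 : ∀ i, i < 1827 → P i := stepQ 1826 Q1826 (allL N1826 (tt N2315 (iv1 F5322)) (tt N2318 (iv0 F5325)) (tt N1054 F3999) (tt N3991 (iv3 F9274)) (tt N849 F4000) (tt N804 (iv5 D2519)) (tt N3993 D5970) (tt N1050 F4001))
theorem Q1828 : ∀ i, i < 1828 → P i := stepQ 1827 Q1827 (allL N1827 (tt N3994 D5971) (tt N3995 D5972) (tt N1055 F4002) (tt N3992 (iv3 F9276)) (tt N805 F4003) (tt N3996 D5973) (tt N804 (iv6 D2520)) (tt N3997 D5974))
theorem Q1829 : ∀ i, i < 1829 → P i := stepQ 1828 Q1828 (allL N1828 (tt N1058 (iv1 F4009)) (tt N805 (iv0 D2521)) (tt N1056 F11361) (tt N3847 (iv3 F12675)) (tt N3998 D5977) (tt N3925 F9083) (tt N3973 (iv6 F9219)) (tt N1057 F11362))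
theorem Q1830 : ∀ i, i < 1830 → P i := stepQ 1829 Q1829 (allL N1829 (tt N805 (iv1 D2522)) (tt N1058 F4004) (tt N1057 (iv2 F11359)) (tt N2474 F12622) (tt N3999 D5980) (tt N3924 (iv5 F9079)) (tt N3937 (iv6 F9117)) (tt N1056 (iv7 F11360)))
theorem Q1831 : ∀ i, i < 1831 → P i := stepQ 1830 Q1830 (allL N1830 (tt N1057 (iv1 F4010)) (tt N1056 F4011) (tt N1058 F4005) (tt N1830 F4006) (tt N3997 (iv4 F9283)) (tt N1830 F4007) (tt N935 F4008) (tt N805 (iv7 D2523)))
theorem Q1832 : ∀ i, i < 1832 → P i := stepQ 1831 Q1831 (allL N1831 (tt N4000 D5981) (tt N4001 D5982) (tt N4002 D5983) (tt N806 (iv3 D2524)) (tt N3842 (iv4 F8891)) (tt N4003 D5984) (tt N4004 D5985) (tt N1062 F4012))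
theorem Q1833 : ∀ i, i < 1833 → P i := stepQ 1832 Q1832 (allL N1832 (tt N1104 F4016) (tt N1120 F4017) (tt N1060 F4013) (tt N4003 (iv3 F9296)) (tt N846 F4015) (tt N806 (iv5 D2525)) (tt N4005 D5986) (tt N1063 F4014))
theorem Q1834 : ∀ i, i < 1834 → P i := stepQ 1833 Q1833 (allL N1833 (tt N2119 (iv1 F4985)) (tt N2122 F4983) (tt N1061 F4018) (tt N4004 (iv3 F9298)) (tt N893 F4019) (tt N4006 D5987) (tt N806 (iv6 D2526)) (tt N4007 D5988))
theorem Q1835 : ∀ i, i < 1835 → P i := stepQ 1834 Q1834 (allL N1834 (tt N4008 D5989) (tt N4009 D5990) (tt N4010 D5991) (tt N807 (iv3 D2527)) (tt N4011 D5992) (tt N4012 D5993) (tt N4013 D5994) (tt N1059 F4020))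
theorem Q1836 : ∀ i, i < 1836 → P i := stepQ 1835 Q1835 (allL N1835 (tt N1120 F4024) (tt N1104 F4025) (tt N1063 F4021) (tt N4012 (iv3 F9315)) (tt N844 F4022) (tt N807 (iv5 D2528)) (tt N4014 D5995) (tt N1060 F4023))
theorem Q1837 : ∀ i, i < 1837 → P i := stepQ 1836 Q1836 (allL N1836 (tt N3998 (iv1 F12678)) (tt N3999 (iv0 F12679)) (tt N1064 F4026) (tt N4013 (iv3 F9317)) (tt N1110 F4027) (tt N4015 D5998) (tt N807 (iv6 D2529)) (tt N4016 D5999))
theorem Q1838 : ∀ i, i < 1838 → P i := stepQ 1837 Q1837 (allL N1837 (tt N4017 D6000) (tt N808 (iv0 D2530)) (tt N4018 D6001) (tt N4019 D6002) (tt N4020 D6003) (tt N4021 D6004) (tt N4022 D6005) (tt N4023 D6006))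
theorem Q1839 : ∀ i, i < 1839 → P i := stepQ 1838 Q1838 (allL N1838 (tt N808 (iv1 D2531)) (tt N4017 F9332) (tt N4023 (iv2 F9334)) (tt N4024 D6007) (tt N4025 D6008) (tt N4026 D6009) (tt N4027 D6010) (tt N4018 F9333))
theorem Q1840 : ∀ i, i < 1840 → P i := stepQ 1839 Q1839 (allL N1839 (tt N4018 F26615) (tt N4023 (iv0 F26640)) (tt N808 (iv2 D2532)) (tt N1067 F4028) (tt N3857 (iv4 F8901)) (tt N4028 D6013) (tt N3953 (iv6 F9155)) (tt N4017 (iv7 F9331)))
theorem Q1841 : ∀ i, i < 1841 → P i := stepQ 1840 Q1840 (allL N1840 (tt N4029 D6014) (tt N4030 D6015) (tt N4028 (iv2 F9337)) (tt N809 F4029) (tt N4031 D6016) (tt N808 (iv5 D2533)) (tt N4032 D6017) (tt N1231 (iv7 F4030)))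
theorem Q1842 : ∀ i, i < 1842 → P i := stepQ 1841 Q1841 (allL N1841 (tt N4023 (iv1 F26641)) (tt N4018 F26614) (tt N4017 F9328) (tt N810 F4031) (tt N3859 (iv4 F8904)) (tt N1231 F4032) (tt N4033 D6018) (tt N808 (iv7 D2534)))
theorem Q1843 : ∀ i, i < 1843 → P i := stepQ 1842 Q1842 (allL N1842 (tt N859 (iv1 F4035)) (tt N809 (iv0 D2535)) (tt N1070 (iv2 F4036)) (tt N4034 D6019) (tt N840 F4034) (tt N827 F4033) (tt N4035 D6020) (tt N1071 (iv7 F4037)))
theorem Q1844 : ∀ i, i < 1844 → P i := stepQ 1843 Q1843 (allL N1843 (tt N809 (iv1 D2536)) (tt N859 F4038) (tt N1071 (iv2 F4042)) (tt N4036 D6021) (tt N832 F4041) (tt N837 F4040) (tt N4037 D6022) (tt N1070 F4039))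
theorem Q1845 : ∀ i, i < 1845 → P i := stepQ 1844 Q1844 (allL N1844 (tt N4038 D6023) (tt N4039 D6024) (tt N1072 F4043) (tt N4032 (iv3 F9346)) (tt N1236 F4044) (tt N3959 (iv5 F9170)) (tt N809 (iv6 D2537)) (tt N4040 D6025))
theorem Q1846 : ∀ i, i < 1846 → P i := stepQ 1845 Q1845 (allL N1845 (tt N4041 D6026) (tt N4042 D6027) (tt N1073 F4045) (tt N4033 (iv3 F9347)) (tt N811 F4046) (tt N4043 D6028) (tt N810 (iv6 D2538)) (tt N3961 (iv7 F9178)))
theorem Q1847 : ∀ i, i < 1847 → P i := stepQ 1846 Q1846 (allL N1846 (tt N1027 (iv1 F4048)) (tt N811 (iv0 D2539)) (tt N1074 (iv2 F5264)) (tt N4044 D6029) (tt N4045 D6030) (tt N4046 D6031) (tt N1097 F4047) (tt N1075 (iv7 F5266)))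
theorem Q1848 : ∀ i, i < 1848 → P i := stepQ 1847 Q1847 (allL N1847 (tt N811 (iv1 D2540)) (tt N1027 F4049) (tt N1075 F5267) (tt N1847 F5268) (tt N4047 D6032) (tt N4048 D6033) (tt N4049 D6034) (tt N1074 F5265))
theorem Q1849 : ∀ i, i < 1849 → P i := stepQ 1848 Q1848 (allL N1848 (tt N1131 F4050) (tt N3431 (iv0 F7681)) (tt N2604 (iv2 F5692)) (tt N4050 D6035) (tt N815 (iv4 D2541)) (tt N4051 D6036) (tt N3662 (iv6 F8418)) (tt N2308 (iv7 F5312)))
theorem Q1850 : ∀ i, i < 1850 → P i := stepQ 1849 Q1849 (allL N1849 (tt N1968 F10279) (tt N875 (iv0 F10280)) (tt N1849 F5206) (tt N817 (iv3 D2543)) (tt N936 (iv4 F10283)) (tt N2091 F26324) (tt N2282 F5287) (tt N1095 F5258))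
theorem Q1851 : ∀ i, i < 1851 → P i := stepQ 1850 Q1850 (allL N1850 (tt N2074 F4640) (tt N2123 (iv0 F4735)) (tt N1093 F5262) (tt N2091 F26320) (tt N2126 (iv4 F26382)) (tt N817 (iv5 D2545)) (tt N2289 (iv6 F5295)) (tt N1097 F5260))
theorem Q1852 : ∀ i, i < 1852 → P i := stepQ 1851 Q1851 (allL N1851 (tt N2123 F4734) (tt N2074 (iv0 F4696)) (tt N1097 (iv2 F5261)) (tt N1851 F5203) (tt N4052 D6040) (tt N818 (iv5 D2549)) (tt N1074 F4053) (tt N1093 (iv7 F5263)))
theorem Q1853 : ∀ i, i < 1853 → P i := stepQ 1852 Q1852 (allL N1852 (tt N1962 F4693) (tt N883 F4694) (tt N1098 F5234) (tt N1852 F5204) (tt N3556 (iv4 F8131)) (tt N2108 (iv5 F4691)) (tt N818 (iv6 D2550)) (tt N1961 (iv7 F5232)))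
theorem Q1854 : ∀ i, i < 1854 → P i := stepQ 1853 Q1853 (allL N1853 (tt N3537 F8092) (tt N3538 (iv0 F8096)) (tt N1101 F4054) (tt N4053 D6041) (tt N819 (iv4 D2551)) (tt N4054 D6042) (tt N822 F4055) (tt N4055 D6043))
theorem Q1855 : ∀ i, i < 1855 → P i := stepQ 1854 Q1854 (allL N1854 (tt N1100 (iv1 F4058)) (tt N1099 F4059) (tt N1102 F4056) (tt N3663 (iv3 F8420)) (tt N4055 (iv4 F9405)) (tt N820 F4057) (tt N2313 (iv6 F5319)) (tt N819 (iv7 D2552)))
theorem Q1856 : ∀ i, i < 1856 → P i := stepQ 1855 Q1855 (allL N1855 (tt N4056 D6044) (tt N2613 F26770) (tt N4057 D6046) (tt N822 (iv3 D2553)) (tt N4050 (iv4 F9391)) (tt N4058 D6047) (tt N4053 (iv6 F9402)) (tt N2310 (iv7 F5316)))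
theorem Q1857 : ∀ i, i < 1857 → P i := stepQ 1856 Q1856 (allL N1856 (tt N1063 F4063) (tt N1060 F4064) (tt N1104 F4060) (tt N4058 (iv3 F9409)) (tt N1122 F4062) (tt N822 (iv5 D2554)) (tt N4059 D6048) (tt N1120 F4061))
theorem Q1858 : ∀ i, i < 1858 → P i := stepQ 1857 Q1857 (allL N1857 (tt N2552 (iv1 F5640)) (tt N823 (iv0 D2555)) (tt N2551 (iv2 F12329)) (tt N2964 (iv3 F6113)) (tt N4060 D6050) (tt N1928 F14026) (tt N4061 D6052) (tt N2550 (iv7 F12328)))
theorem Q1859 : ∀ i, i < 1859 → P i := stepQ 1858 Q1858 (allL N1858 (tt N823 (iv1 D2556)) (tt N2552 F5642) (tt N2550 (iv2 F12327)) (tt N4062 D6054) (tt N4063 D6055) (tt N1929 F14030) (tt N4064 D6057) (tt N2551 (iv7 F12330)))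
theorem Q1860 : ∀ i, i < 1860 → P i := stepQ 1859 Q1859 (allL N1859 (tt N2551 (iv1 F5641)) (tt N2550 F5636) (tt N823 (iv2 D2557)) (tt N1117 F4065) (tt N1859 F4066) (tt N4065 D6058) (tt N854 F4067) (tt N2552 (iv7 F5639)))
theorem Q1861 : ∀ i, i < 1861 → P i := stepQ 1860 Q1860 (allL N1860 (tt N4066 D6059) (tt N4067 D6060) (tt N4065 (iv2 F9416)) (tt N824 F4068) (tt N4068 D6061) (tt N823 (iv5 D2558)) (tt N4069 D6062) (tt N2553 (iv7 F5644)))
theorem Q1862 : ∀ i, i < 1862 → P i := stepQ 1861 Q1861 (allL N1861 (tt N1060 F4072) (tt N1063 F4073) (tt N1120 F4069) (tt N4070 D6063) (tt N824 (iv4 D2559)) (tt N1105 F4070) (tt N4071 D6064) (tt N1104 F4071))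
theorem Q1863 : ∀ i, i < 1863 → P i := stepQ 1862 Q1862 (allL N1862 (tt N4072 D6065) (tt N4073 D6066) (tt N1121 F4074) (tt N4069 (iv3 F9418)) (tt N4071 (iv4 F9423)) (tt N860 F4075) (tt N824 (iv6 D2560)) (tt N4074 D6067))
theorem Q1864 : ∀ i, i < 1864 → P i := stepQ 1863 Q1863 (allL N1863 (tt N4075 D6068) (tt N4076 D6069) (tt N1135 F4076) (tt N1106 F4077) (tt N2316 (iv4 F5323)) (tt N1863 F4078) (tt N825 (iv6 D2561)) (tt N3570 (iv7 F8181)))
theorem Q1865 : ∀ i, i < 1865 → P i := stepQ 1864 Q1864 (allL N1864 (tt N4077 D6070) (tt N4078 D6071) (tt N4079 D6072) (tt N827 (iv3 D2562)) (tt N3832 (iv4 F8868)) (tt N4034 (iv5 F9348)) (tt N4080 D6073) (tt N1165 F4079))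
theorem Q1866 : ∀ i, i < 1866 → P i := stepQ 1865 Q1865 (allL N1865 (tt N3970 (iv1 F10689)) (tt N3972 (iv0 F10657)) (tt N1137 F4080) (tt N4080 (iv3 F9444)) (tt N828 F4081) (tt N4081 D6076) (tt N827 (iv6 D2563)) (tt N4082 D6077))
theorem Q1867 : ∀ i, i < 1867 → P i := stepQ 1866 Q1866 (allL N1866 (tt N1140 (iv1 F4086)) (tt N828 (iv0 D2564)) (tt N1138 (iv2 F12626)) (tt N1813 (iv3 F12627)) (tt N2325 (iv4 F10684)) (tt N4083 D6081) (tt N4084 D6082) (tt N1139 (iv7 F12630)))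
theorem Q1868 : ∀ i, i < 1868 → P i := stepQ 1867 Q1867 (allL N1867 (tt N828 (iv1 D2565)) (tt N1140 F4082) (tt N1139 F12631) (tt N4085 D6084) (tt N2326 (iv4 F10673)) (tt N4086 D6086) (tt N4087 D6087) (tt N1138 F12632))
theorem Q1869 : ∀ i, i < 1869 → P i := stepQ 1868 Q1868 (allL N1868 (tt N1139 (iv1 F4087)) (tt N1138 F4088) (tt N1140 F4083) (tt N3836 (iv3 F8873)) (tt N4082 (iv4 F9448)) (tt N1169 F4084) (tt N1169 F4085) (tt N828 (iv7 D2566)))
theorem Q1870 : ∀ i, i < 1870 → P i := stepQ 1869 Q1869 (allL N1869 (tt N4088 D6088) (tt N4089 D6089) (tt N4090 D6090) (tt N830 (iv3 D2567)) (tt N1869 F4089) (tt N2662 (iv5 F5739)) (tt N1240 F4090) (tt N1144 F4091))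
theorem Q1871 : ∀ i, i < 1871 → P i := stepQ 1870 Q1870 (allL N1870 (tt N1172 (iv1 F4092)) (tt N831 (iv0 D2568)) (tt N1171 (iv2 F12166)) (tt N2854 (iv3 F5947)) (tt N4091 D6092) (tt N2672 F13324) (tt N2635 (iv6 F13004)) (tt N1170 (iv7 F12167)))
theorem Q1872 : ∀ i, i < 1872 → P i := stepQ 1871 Q1871 (allL N1871 (tt N831 (iv1 D2569)) (tt N1172 F4097) (tt N1170 F12168) (tt N2914 (iv3 F12183)) (tt N4092 D6097) (tt N2673 F13320) (tt N1899 (iv6 F16742)) (tt N1171 F12169))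
theorem Q1873 : ∀ i, i < 1873 → P i := stepQ 1872 Q1872 (allL N1872 (tt N1171 (iv1 F4098)) (tt N1170 F4096) (tt N831 (iv2 D2570)) (tt N1151 F4093) (tt N1151 F4094) (tt N4093 D6100) (tt N4094 D6101) (tt N1172 F4095))
theorem Q1874 : ∀ i, i < 1874 → P i := stepQ 1873 Q1873 (allL N1873 (tt N4095 D6102) (tt N4096 D6103) (tt N4093 (iv2 F9472)) (tt N832 F4099) (tt N4097 D6104) (tt N831 (iv5 D2571)) (tt N4098 D6105) (tt N1173 F4100))
theorem Q1875 : ∀ i, i < 1875 → P i := stepQ 1874 Q1874 (allL N1874 (tt N4099 D6106) (tt N4100 D6107) (tt N4094 (iv2 F9477)) (tt N833 F4101) (tt N1153 F4102) (tt N4101 D6108) (tt N831 (iv6 D2572)) (tt N4102 D6109))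
theorem Q1876 : ∀ i, i < 1876 → P i := stepQ 1875 Q1875 (allL N1875 (tt N4103 D6110) (tt N4104 D6111) (tt N1155 F4103) (tt N4098 (iv3 F9483)) (tt N4037 (iv4 F9355)) (tt N4105 D6112) (tt N832 (iv6 D2573)) (tt N4106 D6113))
theorem Q1877 : ∀ i, i < 1877 → P i := stepQ 1876 Q1876 (allL N1876 (tt N1159 F4108) (tt N833 (iv0 D2574)) (tt N1156 (iv2 F4105)) (tt N3022 (iv3 F6200)) (tt N1268 F4104) (tt N4107 D6114) (tt N1193 (iv6 F4106)) (tt N1157 (iv7 F4107)))
theorem Q1878 : ∀ i, i < 1878 → P i := stepQ 1877 Q1877 (allL N1877 (tt N833 (iv1 D2575)) (tt N1159 F4109) (tt N1157 (iv2 F4111)) (tt N4108 D6115) (tt N1269 (iv4 F4112)) (tt N4109 D6116) (tt N1877 F4113) (tt N1156 F4110))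
theorem Q1879 : ∀ i, i < 1879 → P i := stepQ 1878 Q1878 (allL N1878 (tt N2644 (iv1 F5719)) (tt N2646 (iv0 F5725)) (tt N1158 F4114) (tt N4101 (iv3 F9484)) (tt N4110 D6117) (tt N833 (iv5 D2576)) (tt N4105 (iv6 F9490)) (tt N4111 D6118))
theorem Q1880 : ∀ i, i < 1880 → P i := stepQ 1879 Q1879 (allL N1879 (tt N1157 (iv1 F4118)) (tt N1156 F4119) (tt N1159 F4115) (tt N4102 (iv3 F9485)) (tt N835 F4116) (tt N4111 (iv5 F9509)) (tt N1179 F4117) (tt N833 (iv7 D2577)))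
theorem Q1881 : ∀ i, i < 1881 → P i := stepQ 1880 Q1880 (allL N1880 (tt N1246 F4123) (tt N2481 F5559) (tt N1161 F4120) (tt N4112 D6119) (tt N834 (iv4 D2578)) (tt N4113 D6120) (tt N1880 F4121) (tt N1160 F4122))
theorem Q1882 : ∀ i, i < 1882 → P i := stepQ 1881 Q1881 (allL N1881 (tt N1128 (iv1 F4125)) (tt N836 (iv0 D2579)) (tt N1130 (iv2 F4126)) (tt N1040 (iv3 F4127)) (tt N3831 (iv4 F8865)) (tt N1076 F4124) (tt N1567 (iv6 F4128)) (tt N1129 (iv7 F4129)))
theorem Q1883 : ∀ i, i < 1883 → P i := stepQ 1882 Q1882 (allL N1882 (tt N836 (iv1 D2580)) (tt N1128 F4130) (tt N1129 (iv2 F4133)) (tt N1882 F4134) (tt N3830 (iv4 F8859)) (tt N1079 F4132) (tt N4114 D6121) (tt N1130 F4131))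
theorem Q1884 : ∀ i, i < 1884 → P i := stepQ 1883 Q1883 (allL N1883 (tt N2604 (iv1 F5695)) (tt N2308 (iv0 F5313)) (tt N3431 (iv2 F7679)) (tt N4115 D6122) (tt N836 (iv4 D2581)) (tt N4116 D6123) (tt N4117 D6124) (tt N1131 F4135))
theorem Q1885 : ∀ i, i < 1885 → P i := stepQ 1884 Q1884 (allL N1884 (tt N4118 D6125) (tt N4119 D6126) (tt N3432 (iv2 F7683)) (tt N838 F4136) (tt N4117 (iv4 F9528)) (tt N1132 F4137) (tt N836 (iv6 D2582)) (tt N4120 D6127))
theorem Q1886 : ∀ i, i < 1886 → P i := stepQ 1885 Q1885 (allL N1885 (tt N4121 D6128) (tt N4122 D6129) (tt N4123 D6130) (tt N837 (iv3 D2583)) (tt N4115 (iv4 F9522)) (tt N4036 (iv5 F9352)) (tt N4124 D6131) (tt N1136 F4138))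
theorem Q1887 : ∀ i, i < 1887 → P i := stepQ 1886 Q1886 (allL N1886 (tt N3981 (iv1 F10675)) (tt N3982 (iv0 F10676)) (tt N1166 F4139) (tt N4124 (iv3 F9538)) (tt N838 F4140) (tt N4125 D6134) (tt N837 (iv6 D2584)) (tt N4126 D6135))
theorem Q1888 : ∀ i, i < 1888 → P i := stepQ 1887 Q1887 (allL N1887 (tt N1169 (iv1 F4145)) (tt N838 (iv0 D2585)) (tt N1167 F8026) (tt N2608 F8768) (tt N2341 F26399) (tt N4127 D6137) (tt N1994 F4387) (tt N1168 F8027))
theorem Q1889 : ∀ i, i < 1889 → P i := stepQ 1888 Q1888 (allL N1888 (tt N838 (iv1 D2586)) (tt N1169 F4141) (tt N1168 F8029) (tt N1820 (iv3 F10068)) (tt N2342 F26356) (tt N4128 D6140) (tt N2014 (iv6 F8034)) (tt N1167 F8030))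
theorem Q1890 : ∀ i, i < 1890 → P i := stepQ 1889 Q1889 (allL N1889 (tt N1168 (iv1 F4146)) (tt N1167 F4147) (tt N1169 F4142) (tt N4120 (iv3 F9529)) (tt N4126 (iv4 F9542)) (tt N1140 F4143) (tt N1140 F4144) (tt N838 (iv7 D2587)))
theorem Q1891 : ∀ i, i < 1891 → P i := stepQ 1890 Q1890 (allL N1890 (tt N1151 (iv1 F4148)) (tt N839 (iv0 D2588)) (tt N1150 (iv2 F12826)) (tt N4129 D6142) (tt N4130 D6143) (tt N2658 (iv5 F13421)) (tt N1903 F16979) (tt N1149 F12819))
theorem Q1892 : ∀ i, i < 1892 → P i := stepQ 1891 Q1891 (allL N1891 (tt N839 (iv1 D2589)) (tt N1151 F4153) (tt N1149 F12818) (tt N4131 D6147) (tt N4132 D6148) (tt N2659 F13426) (tt N4133 D6150) (tt N1150 (iv7 F12827)))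
theorem Q1893 : ∀ i, i < 1893 → P i := stepQ 1892 Q1892 (allL N1892 (tt N1150 (iv1 F4154)) (tt N1149 F4152) (tt N839 (iv2 D2590)) (tt N1172 F4149) (tt N1172 F4150) (tt N4134 D6151) (tt N4135 D6152) (tt N1151 F4151))
theorem Q1894 : ∀ i, i < 1894 → P i := stepQ 1893 Q1893 (allL N1893 (tt N4136 D6153) (tt N4137 D6154) (tt N4134 (iv2 F9565)) (tt N840 F4155) (tt N4138 D6155) (tt N839 (iv5 D2591)) (tt N4139 D6156) (tt N1152 F4156))
theorem Q1895 : ∀ i, i < 1895 → P i := stepQ 1894 Q1894 (allL N1894 (tt N2572 F13347) (tt N4140 D6158) (tt N4135 (iv2 F9570)) (tt N841 F4157) (tt N1174 F4158) (tt N4141 D6159) (tt N839 (iv6 D2592)) (tt N4142 D6160))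
theorem Q1896 : ∀ i, i < 1896 → P i := stepQ 1895 Q1895 (allL N1895 (tt N4143 D6161) (tt N4144 D6162) (tt N1175 F4159) (tt N4139 (iv3 F9576)) (tt N4035 (iv4 F9351)) (tt N4145 D6163) (tt N840 (iv6 D2593)) (tt N4146 D6164))
theorem Q1897 : ∀ i, i < 1897 → P i := stepQ 1896 Q1896 (allL N1896 (tt N4109 (iv1 F9506)) (tt N4107 (iv0 F9498)) (tt N1178 F4160) (tt N4141 (iv3 F9577)) (tt N4147 D6165) (tt N841 (iv5 D2594)) (tt N4145 (iv6 F9583)) (tt N4148 D6166))
theorem Q1898 : ∀ i, i < 1898 → P i := stepQ 1897 Q1897 (allL N1897 (tt N1177 (iv1 F4164)) (tt N1176 F4165) (tt N1179 F4161) (tt N4142 (iv3 F9578)) (tt N842 F4162) (tt N4148 (iv5 F9591)) (tt N1159 F4163) (tt N841 (iv7 D2595)))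
theorem Q1899 : ∀ i, i < 1899 → P i := stepQ 1898 Q1898 (allL N1898 (tt N1190 (iv1 F4167)) (tt N843 (iv0 D2596)) (tt N1189 F6442) (tt N1423 F4166) (tt N4149 D6167) (tt N4095 (iv5 F13446)) (tt N4150 D6169) (tt N1188 F6443))
theorem Q1900 : ∀ i, i < 1900 → P i := stepQ 1899 Q1899 (allL N1899 (tt N843 (iv1 D2597)) (tt N1190 F4173) (tt N1188 F6440) (tt N1449 (iv3 F6437)) (tt N3163 (iv4 F6755)) (tt N4096 (iv5 F13450)) (tt N1871 F16742) (tt N1189 F6441))
theorem Q1901 : ∀ i, i < 1901 → P i := stepQ 1900 Q1900 (allL N1900 (tt N1189 (iv1 F4174)) (tt N1188 F4172) (tt N843 (iv2 D2598)) (tt N1183 F4168) (tt N1183 F4169) (tt N4151 D6172) (tt N1900 F4170) (tt N1190 F4171))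
theorem Q1902 : ∀ i, i < 1902 → P i := stepQ 1901 Q1901 (allL N1901 (tt N2624 (iv1 F13416)) (tt N2627 F13413) (tt N4151 (iv2 F9609)) (tt N844 F4175) (tt N4152 D6175) (tt N843 (iv5 D2599)) (tt N4153 D6176) (tt N1191 F4176))
theorem Q1903 : ∀ i, i < 1903 → P i := stepQ 1902 Q1902 (allL N1902 (tt N4154 D6177) (tt N4155 D6178) (tt N1187 F4177) (tt N4153 (iv3 F9617)) (tt N4014 (iv4 F9319)) (tt N1902 F4178) (tt N844 (iv6 D2600)) (tt N4153 (iv7 F296880)))
theorem Q1904 : ∀ i, i < 1904 → P i := stepQ 1903 Q1903 (allL N1903 (tt N1183 (iv1 F4179)) (tt N845 (iv0 D2601)) (tt N1182 (iv2 F13070)) (tt N4156 D6181) (tt N4157 D6182) (tt N4136 (iv5 F13345)) (tt N1890 (iv6 F16979)) (tt N1181 (iv7 F13071)))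
theorem Q1905 : ∀ i, i < 1905 → P i := stepQ 1904 Q1904 (allL N1904 (tt N845 (iv1 D2602)) (tt N1183 F4184) (tt N1181 F13072) (tt N4158 D6186) (tt N4159 D6187) (tt N4137 (iv5 F13342)) (tt N4140 F16974) (tt N1182 F13073))
theorem Q1906 : ∀ i, i < 1906 → P i := stepQ 1905 Q1905 (allL N1905 (tt N1182 (iv1 F4185)) (tt N1181 F4183) (tt N845 (iv2 D2603)) (tt N1190 F4180) (tt N1190 F4181) (tt N4160 D6190) (tt N4161 D6191) (tt N1183 F4182))
theorem Q1907 : ∀ i, i < 1907 → P i := stepQ 1906 Q1906 (allL N1906 (tt N2571 F13327) (tt N2575 (iv0 F13328)) (tt N4160 (iv2 F9637)) (tt N846 F4186) (tt N4162 D6194) (tt N845 (iv5 D2604)) (tt N4160 F296590) (tt N1184 F4187))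
theorem Q1908 : ∀ i, i < 1908 → P i := stepQ 1907 Q1907 (allL N1907 (tt N4163 D6196) (tt N4164 D6197) (tt N4161 (iv2 F9642)) (tt N847 F4188) (tt N1192 F4189) (tt N4161 (iv5 F295981)) (tt N845 (iv6 D2605)) (tt N1907 F4190))
theorem Q1909 : ∀ i, i < 1909 → P i := stepQ 1908 Q1908 (allL N1908 (tt N2627 F296169) (tt N2624 F296170) (tt N1191 (iv2 F296172)) (tt N4160 (iv3 F296251)) (tt N4005 (iv4 F9300)) (tt N1190 F296171) (tt N846 (iv6 D2606)) (tt N4151 (iv7 F296553)))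
theorem Q1910 : ∀ i, i < 1910 → P i := stepQ 1909 Q1909 (allL N1909 (tt N2675 F295889) (tt N2674 F295890) (tt N1192 (iv2 F295891)) (tt N4161 (iv3 F295980)) (tt N4161 (iv4 F295982)) (tt N847 (iv5 D2607)) (tt N1190 (iv6 F295983)) (tt N1909 F4193))
theorem Q1911 : ∀ i, i < 1911 → P i := stepQ 1910 Q1910 (allL N1910 (tt N1204 (iv1 F4194)) (tt N848 (iv0 D2608)) (tt N1203 (iv2 F13063)) (tt N4159 (iv3 F9634)) (tt N4165 D6205) (tt N4166 D6206) (tt N4167 D6207) (tt N1202 (iv7 F13064)))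
theorem Q1912 : ∀ i, i < 1912 → P i := stepQ 1911 Q1911 (allL N1911 (tt N848 (iv1 D2609)) (tt N1204 F4200) (tt N1202 F13065) (tt N4168 D6209) (tt N4156 (iv4 F9627)) (tt N4169 D6210) (tt N2804 (iv6 F16983)) (tt N1203 F13066))
theorem Q1913 : ∀ i, i < 1913 → P i := stepQ 1912 Q1912 (allL N1912 (tt N1203 (iv1 F4201)) (tt N1202 F4199) (tt N848 (iv2 D2610)) (tt N1199 F4195) (tt N1912 F4196) (tt N4170 D6212) (tt N1912 F4197) (tt N1204 F4198))
theorem Q1914 : ∀ i, i < 1914 → P i := stepQ 1913 Q1913 (allL N1913 (tt N4171 D6213) (tt N4172 D6214) (tt N4170 (iv2 F9672)) (tt N849 F4202) (tt N4173 D6215) (tt N848 (iv5 D2611)) (tt N4174 D6216) (tt N1205 F4203))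
theorem Q1915 : ∀ i, i < 1915 → P i := stepQ 1914 Q1914 (allL N1914 (tt N4175 D6217) (tt N4176 D6218) (tt N1201 F4204) (tt N4174 (iv3 F9680)) (tt N3993 (iv4 F9279)) (tt N1914 F4205) (tt N849 (iv6 D2612)) (tt N4177 D6219))
theorem Q1916 : ∀ i, i < 1916 → P i := stepQ 1915 Q1915 (allL N1915 (tt N4178 D6220) (tt N4179 D6221) (tt N1208 F4206) (tt N3171 (iv3 F6775)) (tt N3987 (iv4 F9266)) (tt N2726 F296089) (tt N850 (iv6 D2613)) (tt N4180 D6223))
theorem Q1917 : ∀ i, i < 1917 → P i := stepQ 1916 Q1916 (allL N1916 (tt N2681 (iv1 F5782)) (tt N2679 (iv0 F5774)) (tt N1209 F4207) (tt N3174 (iv3 F6779)) (tt N2728 (iv4 F295987)) (tt N851 (iv5 D2614)) (tt N2726 (iv6 F295953)) (tt N1916 F4208))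
theorem Q1918 : ∀ i, i < 1918 → P i := stepQ 1917 Q1917 (allL N1917 (tt N853 (iv1 F4213)) (tt N852 (iv0 D2615)) (tt N856 (iv2 F4209)) (tt N1210 F4210) (tt N1917 F4211) (tt N4181 D6225) (tt N4182 D6226) (tt N854 F4212))
theorem Q1919 : ∀ i, i < 1919 → P i := stepQ 1918 Q1918 (allL N1918 (tt N856 F6466) (tt N854 F6467) (tt N852 (iv2 D2616)) (tt N4183 D6227) (tt N4184 D6228) (tt N4067 (iv5 F14013)) (tt N1918 F7208) (tt N853 (iv7 F4214)))
theorem Q1920 : ∀ i, i < 1920 → P i := stepQ 1919 Q1919 (allL N1919 (tt N3165 (iv1 F6766)) (tt N3121 (iv0 F6666)) (tt N1285 F6413) (tt N852 (iv3 D2617)) (tt N1283 F6414) (tt N4185 D6230) (tt N1919 F7186) (tt N1289 F6415))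
theorem Q1921 : ∀ i, i < 1921 → P i := stepQ 1920 Q1920 (allL N1920 (tt N4186 D6231) (tt N2655 (iv0 F5998)) (tt N4184 (iv2 F9713)) (tt N3145 (iv3 F6689)) (tt N852 (iv4 D2618)) (tt N4187 D6232) (tt N1920 F7206) (tt N4188 D6233))
theorem Q1922 : ∀ i, i < 1922 → P i := stepQ 1921 Q1921 (allL N1921 (tt N4065 F14020) (tt N2553 (iv0 F14021)) (tt N4067 (iv2 F14012)) (tt N4185 (iv3 F9721)) (tt N4189 D6236) (tt N852 (iv5 D2619)) (tt N4190 D6237) (tt N4066 (iv7 F14018)))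
theorem Q1923 : ∀ i, i < 1923 → P i := stepQ 1922 Q1922 (allL N1922 (tt N854 F6461) (tt N856 F6462) (tt N853 F4216) (tt N1289 F6463) (tt N4188 (iv4 F9729)) (tt N4066 (iv5 F14017)) (tt N4191 D6239) (tt N852 (iv7 D2621)))
theorem Q1924 : ∀ i, i < 1924 → P i := stepQ 1923 Q1923 (allL N1923 (tt N4157 F9632) (tt N4159 F9636) (tt N2726 (iv2 F6464)) (tt N853 (iv3 D2622)) (tt N2725 F6465) (tt N1208 (iv5 F296199)) (tt N1209 F295999) (tt N4183 (iv7 F9710)))
theorem Q1925 : ∀ i, i < 1925 → P i := stepQ 1924 Q1924 (allL N1924 (tt N2655 (iv1 F9717)) (tt N4186 (iv0 F9726)) (tt N4188 (iv2 F9727)) (tt N2649 (iv3 F5728)) (tt N853 (iv4 D2623)) (tt N4192 D6242) (tt N4193 D6243) (tt N4184 (iv7 F9715)))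
theorem Q1926 : ∀ i, i < 1926 → P i := stepQ 1925 Q1925 (allL N1925 (tt N2553 (iv1 F14022)) (tt N4065 F14019) (tt N4066 (iv2 F14015)) (tt N1208 F296288) (tt N4194 D6244) (tt N853 (iv5 D2624)) (tt N1205 F296289) (tt N4067 (iv7 F14014)))
theorem Q1927 : ∀ i, i < 1927 → P i := stepQ 1926 Q1926 (allL N1926 (tt N2680 F17510) (tt N4195 D6247) (tt N4191 (iv2 F9737)) (tt N1209 F295963) (tt N4193 (iv4 F9743)) (tt N1206 F295964) (tt N853 (iv6 D2625)) (tt N1926 F7209))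
theorem Q1928 : ∀ i, i < 1928 → P i := stepQ 1927 Q1927 (allL N1927 (tt N4196 D6249) (tt N4197 D6250) (tt N855 F4220) (tt N1220 F4221) (tt N4198 D6251) (tt N854 (iv5 D2628)) (tt N4199 D6252) (tt N4181 (iv7 F9702)))
theorem Q1929 : ∀ i, i < 1929 → P i := stepQ 1928 Q1928 (allL N1928 (tt N4181 (iv1 F9704)) (tt N855 (iv0 D2629)) (tt N4196 (iv2 F14025)) (tt N4200 D6254) (tt N4201 D6255) (tt N1857 (iv5 F14026)) (tt N4202 D6257) (tt N4197 (iv7 F14027)))
theorem Q1930 : ∀ i, i < 1930 → P i := stepQ 1929 Q1929 (allL N1929 (tt N855 (iv1 D2630)) (tt N4181 F9703) (tt N4197 F14028) (tt N4203 D6259) (tt N4204 D6260) (tt N1858 (iv5 F14030)) (tt N4205 D6262) (tt N4196 F14029))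
theorem Q1931 : ∀ i, i < 1931 → P i := stepQ 1930 Q1930 (allL N1930 (tt N4206 D6263) (tt N4207 D6264) (tt N4198 (iv2 F9750)) (tt N4208 D6265) (tt N855 (iv4 D2631)) (tt N4209 D6266) (tt N4210 D6267) (tt N4211 D6268))
theorem Q1932 : ∀ i, i < 1932 → P i := stepQ 1931 Q1931 (allL N1931 (tt N4212 D6269) (tt N4213 D6270) (tt N4199 (iv2 F9751)) (tt N860 F4222) (tt N4210 (iv4 F9757)) (tt N4069 (iv5 F9419)) (tt N855 (iv6 D2632)) (tt N4214 D6271))
theorem Q1933 : ∀ i, i < 1933 → P i := stepQ 1932 Q1932 (allL N1932 (tt N4197 (iv1 F9749)) (tt N4196 F9748) (tt N4181 (iv2 F9700)) (tt N861 F4223) (tt N4211 (iv4 F9759)) (tt N856 F4224) (tt N4215 D6272) (tt N855 (iv7 D2633)))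
theorem Q1934 : ∀ i, i < 1934 → P i := stepQ 1933 Q1933 (allL N1933 (tt N4216 D6273) (tt N4217 D6274) (tt N4182 (iv2 F9705)) (tt N862 F4225) (tt N1933 F4226) (tt N4218 D6275) (tt N856 (iv6 D2634)) (tt N2554 (iv7 F5647)))
theorem Q1935 : ∀ i, i < 1935 → P i := stepQ 1934 Q1934 (allL N1934 (tt N4166 (iv1 F14054)) (tt N4169 (iv0 F14055)) (tt N4219 D6278) (tt N857 (iv3 D2635)) (tt N4220 D6279) (tt N1245 F4227) (tt N4221 D6280) (tt N1229 F4228))
theorem Q1936 : ∀ i, i < 1936 → P i := stepQ 1935 Q1935 (allL N1935 (tt N4222 D6281) (tt N4223 D6282) (tt N1228 F4229) (tt N4221 (iv3 F9771)) (tt N3979 (iv4 F9233)) (tt N4224 D6283) (tt N857 (iv6 D2636)) (tt N4225 D6284))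
theorem Q1937 : ∀ i, i < 1937 → P i := stepQ 1936 Q1936 (allL N1936 (tt N3164 (iv1 F7270)) (tt N3166 F7268) (tt N4226 D6285) (tt N858 (iv3 D2637)) (tt N4227 D6286) (tt N1250 F4230) (tt N4228 D6287) (tt N1227 F4231))
theorem Q1938 : ∀ i, i < 1938 → P i := stepQ 1937 Q1937 (allL N1937 (tt N4229 D6288) (tt N4230 D6289) (tt N1230 F4232) (tt N4228 (iv3 F9786)) (tt N3968 (iv4 F9204)) (tt N4231 D6290) (tt N858 (iv6 D2638)) (tt N4232 D6291))
theorem Q1939 : ∀ i, i < 1939 → P i := stepQ 1938 Q1938 (allL N1938 (tt N4233 D6292) (tt N4234 D6293) (tt N4235 D6294) (tt N859 (iv3 D2639)) (tt N4208 (iv4 F9755)) (tt N1069 F4233) (tt N4236 D6295) (tt N1068 F4234))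
theorem Q1940 : ∀ i, i < 1940 → P i := stepQ 1939 Q1939 (allL N1939 (tt N4237 D6296) (tt N4238 D6297) (tt N1232 F4235) (tt N4236 (iv3 F9802)) (tt N860 F4236) (tt N4239 D6298) (tt N859 (iv6 D2640)) (tt N4240 D6299))
theorem Q1941 : ∀ i, i < 1941 → P i := stepQ 1940 Q1940 (allL N1940 (tt N1235 (iv1 F4239)) (tt N860 (iv0 D2641)) (tt N1233 F13703) (tt N4241 D6301) (tt N4242 D6302) (tt N4243 D6303) (tt N2786 F5863) (tt N1234 F13704))
theorem Q1942 : ∀ i, i < 1942 → P i := stepQ 1941 Q1941 (allL N1941 (tt N860 (iv1 D2642)) (tt N1235 F4237) (tt N1234 (iv2 F13698)) (tt N4244 D6305) (tt N4245 D6306) (tt N2783 (iv5 F5861)) (tt N4246 D6307) (tt N1233 (iv7 F13702)))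
theorem Q1943 : ∀ i, i < 1943 → P i := stepQ 1942 Q1942 (allL N1942 (tt N1234 (iv1 F4240)) (tt N1233 F4241) (tt N1235 F4238) (tt N4214 (iv3 F9760)) (tt N4240 (iv4 F9807)) (tt N4074 (iv5 F9426)) (tt N4247 D6308) (tt N860 (iv7 D2643)))
theorem Q1944 : ∀ i, i < 1944 → P i := stepQ 1943 Q1943 (allL N1943 (tt N4248 D6309) (tt N4249 D6310) (tt N1236 F4242) (tt N4215 (iv3 F9761)) (tt N1072 F4243) (tt N4250 D6311) (tt N861 (iv6 D2644)) (tt N4247 (iv7 F9816)))
theorem Q1945 : ∀ i, i < 1945 → P i := stepQ 1944 Q1944 (allL N1944 (tt N862 (iv1 D2645)) (tt N1123 F4244) (tt N1238 (iv2 F4247)) (tt N3364 (iv3 F7511)) (tt N1251 (iv4 F4246)) (tt N4251 D6312) (tt N2481 (iv6 F5558)) (tt N1237 F4245))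
theorem Q1946 : ∀ i, i < 1946 → P i := stepQ 1945 Q1945 (allL N1945 (tt N2807 (iv1 F5899)) (tt N4252 D6313) (tt N1239 F4248) (tt N4218 (iv3 F9762)) (tt N4253 D6314) (tt N862 (iv5 D2646)) (tt N4250 (iv6 F9822)) (tt N2556 (iv7 F5651)))
theorem Q1947 : ∀ i, i < 1947 → P i := stepQ 1946 Q1946 (allL N1946 (tt N4254 D6315) (tt N3543 F8109) (tt N3385 (iv2 F7578)) (tt N863 (iv3 D2647)) (tt N1529 F4249) (tt N1663 F4250) (tt N4255 D6316) (tt N1946 F4251))
theorem Q1948 : ∀ i, i < 1948 → P i := stepQ 1947 Q1947 (allL N1947 (tt N2441 F19458) (tt N4256 D6318) (tt N1673 F4252) (tt N4255 (iv3 F9839)) (tt N1578 F4253) (tt N4257 D6319) (tt N863 (iv6 D2648)) (tt N4258 D6320))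
theorem Q1949 : ∀ i, i < 1949 → P i := stepQ 1948 Q1948 (allL N1948 (tt N4259 D6321) (tt N4260 D6322) (tt N865 F4254) (tt N1551 F4255) (tt N1948 F4256) (tt N4261 D6323) (tt N864 (iv6 D2649)) (tt N4262 D6324))
theorem Q1950 : ∀ i, i < 1950 → P i := stepQ 1949 Q1949 (allL N1949 (tt N4262 (iv1 F9861)) (tt N865 (iv0 D2650)) (tt N4259 (iv2 F18915)) (tt N4263 D6326) (tt N4264 D6327) (tt N4265 D6328) (tt N4266 D6329) (tt N4260 (iv7 F18935)))
theorem Q1951 : ∀ i, i < 1951 → P i := stepQ 1950 Q1950 (allL N1950 (tt N865 (iv1 D2651)) (tt N4262 F9859) (tt N4260 (iv2 F18934)) (tt N4267 D6331) (tt N4268 D6332) (tt N4269 D6333) (tt N4270 D6334) (tt N4259 (iv7 F18916)))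
theorem Q1952 : ∀ i, i < 1952 → P i := stepQ 1951 Q1951 (allL N1951 (tt N4271 D6335) (tt N4272 D6336) (tt N4261 (iv2 F9851)) (tt N866 F4257) (tt N4273 D6337) (tt N865 (iv5 D2652)) (tt N1973 (iv6 F4318)) (tt N4274 D6338))
theorem Q1953 : ∀ i, i < 1953 → P i := stepQ 1952 Q1952 (allL N1952 (tt N4260 (iv1 F9850)) (tt N4259 F9858) (tt N4262 (iv2 F9854)) (tt N867 F4258) (tt N1952 F4259) (tt N4274 (iv5 F9866)) (tt N1952 F4260) (tt N865 (iv7 D2653)))
theorem Q1954 : ∀ i, i < 1954 → P i := stepQ 1953 Q1953 (allL N1953 (tt N1978 (iv1 F4331)) (tt N866 (iv0 D2664)) (tt N1975 F8010) (tt N4275 D6339) (tt N3732 (iv4 F8564)) (tt N1701 F7736) (tt N4276 D6340) (tt N1976 F8013))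
theorem Q1955 : ∀ i, i < 1955 → P i := stepQ 1954 Q1954 (allL N1954 (tt N866 (iv1 D2665)) (tt N1978 F4330) (tt N1976 (iv2 F8014)) (tt N4277 D6341) (tt N3733 (iv4 F8570)) (tt N1712 (iv5 F7725)) (tt N4278 D6342) (tt N1975 (iv7 F8008)))
theorem Q1956 : ∀ i, i < 1956 → P i := stepQ 1955 Q1955 (allL N1955 (tt N3616 (iv1 F8242)) (tt N3619 (iv0 F8244)) (tt N1977 (iv2 F4325)) (tt N4279 D6343) (tt N866 (iv4 D2666)) (tt N4280 D6344) (tt N1977 (iv6 F4326)) (tt N4281 D6345))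
theorem Q1957 : ∀ i, i < 1957 → P i := stepQ 1956 Q1956 (allL N1956 (tt N1976 (iv1 F4324)) (tt N1975 F4329) (tt N1978 (iv2 F4327)) (tt N4274 (iv3 F9865)) (tt N4281 (iv4 F9874)) (tt N867 F4263) (tt N4282 D6346) (tt N866 (iv7 D2667)))
theorem Q1958 : ∀ i, i < 1958 → P i := stepQ 1957 Q1957 (allL N1957 (tt N1582 (iv1 F7707)) (tt N1561 (iv0 F4991)) (tt N1579 F5112) (tt N3599 (iv3 F8217)) (tt N868 (iv4 D2677)) (tt N4283 D6355) (tt N4284 D6356) (tt N1580 (iv7 F5111)))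
theorem Q1959 : ∀ i, i < 1959 → P i := stepQ 1958 Q1958 (allL N1958 (tt N3644 (iv1 F9996)) (tt N1744 (iv0 F9997)) (tt N1645 (iv2 F9994)) (tt N869 F4272) (tt N4285 D6359) (tt N868 (iv5 D2678)) (tt N3814 (iv6 F9999)) (tt N1677 (iv7 F9989)))
theorem Q1960 : ∀ i, i < 1960 → P i := stepQ 1959 Q1959 (allL N1959 (tt N3510 F10111) (tt N4286 D6360) (tt N1646 (iv2 F9995)) (tt N870 F4273) (tt N4284 (iv4 F9891)) (tt N2121 (iv5 F4727)) (tt N868 (iv6 D2679)) (tt N4287 D6361))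
theorem Q1961 : ∀ i, i < 1961 → P i := stepQ 1960 Q1960 (allL N1960 (tt N2220 (iv1 F4994)) (tt N1776 (iv0 F5141)) (tt N1979 (iv2 F4631)) (tt N4288 D6362) (tt N869 (iv4 D2687)) (tt N1640 (iv5 F4970)) (tt N3891 F8964) (tt N1982 (iv7 F4630)))
theorem Q1962 : ∀ i, i < 1962 → P i := stepQ 1961 Q1961 (allL N1961 (tt N870 (iv1 D2690)) (tt N1981 F4578) (tt N1980 F5235) (tt N1961 F5191) (tt N3743 (iv4 F8643)) (tt N2068 F4535) (tt N1016 (iv6 F4286)) (tt N1852 F5232))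
theorem Q1963 : ∀ i, i < 1963 → P i := stepQ 1962 Q1962 (allL N1962 (tt N1980 (iv1 F4577)) (tt N1852 (iv0 F4693)) (tt N1981 (iv2 F4576)) (tt N4287 (iv3 F10360)) (tt N3606 (iv4 F8226)) (tt N932 F4584) (tt N1983 (iv6 F4606)) (tt N870 (iv7 D2691)))
theorem Q1964 : ∀ i, i < 1964 → P i := stepQ 1963 Q1963 (allL N1963 (tt N1776 (iv1 F5142)) (tt N2220 F4993) (tt N1982 (iv2 F4634)) (tt N4289 D6363) (tt N871 (iv4 D2702)) (tt N1641 F4977) (tt N945 F4292) (tt N1979 F4633))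
theorem Q1965 : ∀ i, i < 1965 → P i := stepQ 1964 Q1964 (allL N1964 (tt N1094 F4615) (tt N1798 F4614) (tt N1983 F4612) (tt N1662 F10041) (tt N3614 (iv4 F8238)) (tt N1000 (iv5 F4616)) (tt N1981 (iv6 F4613)) (tt N872 (iv7 D2704)))
theorem Q1966 : ∀ i, i < 1966 → P i := stepQ 1965 Q1965 (allL N1965 (tt N1796 F10301) (tt N1018 F10302) (tt N1965 F4293) (tt N1547 F4294) (tt N4290 D6364) (tt N873 (iv5 D2707)) (tt N874 F4295) (tt N2257 (iv7 F10305)))
theorem Q1967 : ∀ i, i < 1967 → P i := stepQ 1966 Q1966 (allL N1966 (tt N1822 F4303) (tt N1051 F4304) (tt N1966 F4302) (tt N4291 D6365) (tt N874 (iv4 D2709)) (tt N3963 F26275) (tt N4290 (iv6 F10370)) (tt N2335 (iv7 F5339)))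
theorem Q1968 : ∀ i, i < 1968 → P i := stepQ 1967 Q1967 (allL N1967 (tt N2261 (iv1 F10199)) (tt N2453 (iv0 F10198)) (tt N1967 F4305) (tt N1567 F4306) (tt N2087 F26345) (tt N875 (iv5 D2712)) (tt N1040 F4307) (tt N4292 D6368))
theorem Q1969 : ∀ i, i < 1969 → P i := stepQ 1968 Q1968 (allL N1968 (tt N1095 (iv1 F10278)) (tt N1849 (iv0 F10279)) (tt N1968 F4308) (tt N1568 F4309) (tt N939 F4310) (tt N4292 (iv5 F10381)) (tt N1968 F4311) (tt N875 (iv7 D2713)))
theorem Q1970 : ∀ i, i < 1970 → P i := stepQ 1969 Q1969 (allL N1969 (tt N2262 F10187) (tt N1008 F10188) (tt N1969 F9922) (tt N1584 F9930) (tt N3934 F10293) (tt N876 (iv5 D2717)) (tt N3912 F10194) (tt N1971 F9923))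
theorem Q1971 : ∀ i, i < 1971 → P i := stepQ 1970 Q1970 (allL N1970 (tt N2447 (iv1 F10389)) (tt N4293 D6370) (tt N1970 F9924) (tt N1585 F9931) (tt N1782 F9925) (tt N2090 F4652) (tt N876 (iv6 D2718)) (tt N4294 D6371))
theorem Q1972 : ∀ i, i < 1972 → P i := stepQ 1971 Q1971 (allL N1971 (tt N1008 F10189) (tt N2262 F10190) (tt N1971 F9933) (tt N3444 F10094) (tt N2282 (iv4 F10292)) (tt N877 (iv5 D2722)) (tt N936 (iv6 F4316)) (tt N1969 (iv7 F9923)))
theorem Q1973 : ∀ i, i < 1973 → P i := stepQ 1972 Q1972 (allL N1972 (tt N3934 (iv1 F10299)) (tt N2282 F10298) (tt N1972 F9934) (tt N3445 F10207) (tt N1008 F9935) (tt N2259 F10191) (tt N877 (iv6 D2723)) (tt N4295 D6372))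
theorem Q1974 : ∀ i, i < 1974 → P i := stepQ 1973 Q1973 (allL N1973 (tt N4296 D6373) (tt N4297 D6374) (tt N3424 (iv2 F7661)) (tt N880 F4317) (tt N4298 D6375) (tt N879 (iv5 D2726)) (tt N1951 F4318) (tt N4299 D6376))
theorem Q1975 : ∀ i, i < 1975 → P i := stepQ 1974 Q1974 (allL N1974 (tt N2018 (iv1 F10156)) (tt N3373 (iv0 F10161)) (tt N3425 (iv2 F7662)) (tt N881 F4319) (tt N1548 F4320) (tt N4299 (iv5 F10405)) (tt N1974 F4321) (tt N879 (iv7 D2727)))
theorem Q1976 : ∀ i, i < 1976 → P i := stepQ 1975 Q1975 (allL N1975 (tt N1956 (iv1 F4329)) (tt N880 (iv0 D2738)) (tt N1953 (iv2 F8010)) (tt N4300 D6377) (tt N3621 (iv4 F8245)) (tt N1651 (iv5 F5079)) (tt N4301 D6378) (tt N1954 F8008))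
theorem Q1977 : ∀ i, i < 1977 → P i := stepQ 1976 Q1976 (allL N1976 (tt N880 (iv1 D2739)) (tt N1956 F4324) (tt N1954 F8014) (tt N4302 D6379) (tt N3622 (iv4 F8246)) (tt N1659 (iv5 F5098)) (tt N4303 D6380) (tt N1953 (iv7 F8013)))
theorem Q1978 : ∀ i, i < 1978 → P i := stepQ 1977 Q1977 (allL N1977 (tt N3727 (iv1 F8556)) (tt N3730 (iv0 F8562)) (tt N1955 F4325) (tt N4304 D6381) (tt N880 (iv4 D2740)) (tt N4281 (iv5 F9875)) (tt N1955 F4326) (tt N4280 (iv7 F9870)))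
theorem Q1979 : ∀ i, i < 1979 → P i := stepQ 1978 Q1978 (allL N1978 (tt N1954 (iv1 F4330)) (tt N1953 F4331) (tt N1956 F4327) (tt N4299 (iv3 F10404)) (tt N4280 (iv4 F9869)) (tt N881 F4328) (tt N4305 D6382) (tt N880 (iv7 D2741)))
theorem Q1980 : ∀ i, i < 1980 → P i := stepQ 1979 Q1979 (allL N1979 (tt N3746 (iv1 F8662)) (tt N991 (iv0 F4901)) (tt N1960 F4631) (tt N4306 D6383) (tt N882 (iv4 D2761)) (tt N1693 (iv5 F4882)) (tt N2210 F4942) (tt N1963 (iv7 F4633)))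
theorem Q1981 : ∀ i, i < 1981 → P i := stepQ 1980 Q1980 (allL N1980 (tt N883 (iv1 D2764)) (tt N1962 F4577) (tt N1961 (iv2 F5235)) (tt N4293 F10385) (tt N3642 (iv4 F8285)) (tt N2109 F4698) (tt N1798 (iv6 F4354)) (tt N1098 F5255))
theorem Q1982 : ∀ i, i < 1982 → P i := stepQ 1981 Q1981 (allL N1981 (tt N1961 (iv1 F4578)) (tt N1098 (iv0 F4635)) (tt N1962 F4576) (tt N1705 F10038) (tt N3717 (iv4 F8522)) (tt N951 (iv5 F4585)) (tt N1964 F4613) (tt N883 (iv7 D2765)))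
theorem Q1983 : ∀ i, i < 1983 → P i := stepQ 1982 Q1982 (allL N1982 (tt N991 (iv1 F4902)) (tt N3746 (iv0 F8661)) (tt N1963 F4634) (tt N4307 D6384) (tt N884 (iv4 D2776)) (tt N1694 F4891) (tt N927 F4360) (tt N1960 F4630))
theorem Q1984 : ∀ i, i < 1984 → P i := stepQ 1983 Q1983 (allL N1983 (tt N1020 F4609) (tt N1016 (iv0 F4608)) (tt N1964 (iv2 F4612)) (tt N3685 (iv3 F10110)) (tt N3725 (iv4 F8546)) (tt N1786 (iv5 F4607)) (tt N1962 F4606) (tt N885 (iv7 D2778)))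
theorem Q1985 : ∀ i, i < 1985 → P i := stepQ 1984 Q1984 (allL N1984 (tt N3416 (iv1 F7655)) (tt N886 (iv0 D2779)) (tt N3414 (iv2 F8365)) (tt N936 F10085) (tt N3552 (iv4 F10287)) (tt N4308 D6385) (tt N3444 F7748) (tt N2086 (iv7 F10083)))
theorem Q1986 : ∀ i, i < 1986 → P i := stepQ 1985 Q1985 (allL N1985 (tt N886 (iv1 D2780)) (tt N3416 F7654) (tt N2086 (iv2 F10082)) (tt N1985 F8373) (tt N3775 F10076) (tt N4309 D6386) (tt N4310 D6387) (tt N3414 F8366))
theorem Q1987 : ∀ i, i < 1987 → P i := stepQ 1986 Q1986 (allL N1986 (tt N4311 D6388) (tt N4312 D6389) (tt N3415 (iv2 F7647)) (tt N889 F4361) (tt N3851 (iv4 F8897)) (tt N886 (iv5 D2781)) (tt N911 F4362) (tt N4313 D6390))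
theorem Q1988 : ∀ i, i < 1988 → P i := stepQ 1987 Q1987 (allL N1987 (tt N2086 (iv1 F10081)) (tt N3414 F7653) (tt N3416 (iv2 F7650)) (tt N890 F4363) (tt N3785 (iv4 F8789)) (tt N4313 (iv5 F10429)) (tt N1987 F4364) (tt N886 (iv7 D2782)))
theorem Q1989 : ∀ i, i < 1989 → P i := stepQ 1988 Q1988 (allL N1988 (tt N3565 F8164) (tt N3647 (iv0 F8309)) (tt N1993 F8037) (tt N3770 (iv3 F8731)) (tt N4314 D6391) (tt N887 (iv5 D2786)) (tt N1714 F4369) (tt N1994 F8020))
theorem Q1990 : ∀ i, i < 1990 → P i := stepQ 1989 Q1989 (allL N1989 (tt N3647 F8310) (tt N3565 (iv0 F8163)) (tt N1994 F8025) (tt N930 F10059) (tt N4315 D6392) (tt N888 (iv5 D2790)) (tt N1167 (iv6 F4374)) (tt N1993 (iv7 F8036)))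
theorem Q1991 : ∀ i, i < 1991 → P i := stepQ 1990 Q1990 (allL N1990 (tt N2017 F7990) (tt N1535 F7991) (tt N1995 (iv2 F7996)) (tt N931 F10060) (tt N2101 F7732) (tt N3530 (iv5 F7938)) (tt N888 (iv6 D2791)) (tt N1702 F4375))
theorem Q1992 : ∀ i, i < 1992 → P i := stepQ 1991 Q1991 (allL N1991 (tt N1997 (iv1 F4393)) (tt N889 (iv0 D2792)) (tt N1996 F8045) (tt N3771 (iv3 F8734)) (tt N2124 F7729) (tt N1655 F7952) (tt N2620 (iv6 F5703)) (tt N1654 (iv7 F7955)))
theorem Q1993 : ∀ i, i < 1993 → P i := stepQ 1992 Q1992 (allL N1992 (tt N1654 (iv1 F4377)) (tt N1996 F4391) (tt N1997 (iv2 F4389)) (tt N4313 (iv3 F10428)) (tt N2382 (iv4 F5409)) (tt N890 F4376) (tt N2475 (iv6 F5548)) (tt N889 (iv7 D2793)))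
theorem Q1994 : ∀ i, i < 1994 → P i := stepQ 1993 Q1993 (allL N1993 (tt N3535 F8083) (tt N3749 (iv0 F8672)) (tt N1988 (iv2 F8037)) (tt N946 F10043) (tt N4316 D6393) (tt N891 (iv5 D2797)) (tt N1661 F4382) (tt N1989 F8036))
theorem Q1995 : ∀ i, i < 1995 → P i := stepQ 1994 Q1994 (allL N1994 (tt N3749 F8673) (tt N3535 (iv0 F8082)) (tt N1989 (iv2 F8025)) (tt N3779 (iv3 F8765)) (tt N4317 D6394) (tt N892 (iv5 D2801)) (tt N1887 (iv6 F4387)) (tt N1988 (iv7 F8020)))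
theorem Q1996 : ∀ i, i < 1996 → P i := stepQ 1995 Q1995 (allL N1995 (tt N3399 F7994) (tt N903 F7995) (tt N1990 F7996) (tt N3780 (iv3 F8771)) (tt N2058 F5105) (tt N3560 (iv5 F8147)) (tt N892 (iv6 D2802)) (tt N1652 F4388))
theorem Q1997 : ∀ i, i < 1997 → P i := stepQ 1996 Q1996 (allL N1996 (tt N1992 (iv1 F4391)) (tt N893 (iv0 D2803)) (tt N1991 (iv2 F8045)) (tt N951 F10061) (tt N2080 F5102) (tt N1705 F8042) (tt N4128 (iv6 F9558)) (tt N1704 (iv7 F8046)))
theorem Q1998 : ∀ i, i < 1998 → P i := stepQ 1997 Q1997 (allL N1997 (tt N1704 (iv1 F4392)) (tt N1991 F4393) (tt N1992 F4389) (tt N3773 (iv3 F8740)) (tt N4007 (iv4 F9303)) (tt N894 F4390) (tt N2034 (iv6 F4481)) (tt N893 (iv7 D2804)))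
theorem Q1999 : ∀ i, i < 1999 → P i := stepQ 1998 Q1998 (allL N1998 (tt N2047 F4500) (tt N3516 (iv0 F7915)) (tt N3666 (iv2 F8431)) (tt N895 (iv3 D2805)) (tt N1626 F4395) (tt N2001 (iv5 F4401)) (tt N4318 D6395) (tt N1998 F4394))
theorem Q2000 : ∀ i, i < 2000 → P i := stepQ 1999 Q1999 (allL N1999 (tt N3657 (iv1 F8399)) (tt N1663 (iv0 F4398)) (tt N2001 (iv2 F4399)) (tt N1627 F4396) (tt N895 (iv4 D2806)) (tt N3666 (iv5 F8433)) (tt N4319 D6396) (tt N1999 F4397))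
theorem Q2001 : ∀ i, i < 2001 → P i := stepQ 2000 Q2000 (allL N2000 (tt N4320 D6397) (tt N2099 (iv0 F19538)) (tt N2002 (iv2 F4404)) (tt N4318 (iv3 F10439)) (tt N4319 (iv4 F10442)) (tt N4321 D6399) (tt N895 (iv6 D2807)) (tt N4322 D6400))
theorem Q2002 : ∀ i, i < 2002 → P i := stepQ 2001 Q2001 (allL N2001 (tt N1663 F4402) (tt N3657 F8400) (tt N1999 F4399) (tt N1528 F4403) (tt N896 (iv4 D2808)) (tt N1998 F4401) (tt N4323 D6401) (tt N2001 F4400))
theorem Q2003 : ∀ i, i < 2003 → P i := stepQ 2002 Q2002 (allL N2002 (tt N2054 F19473) (tt N4324 D6403) (tt N2000 F4404) (tt N3665 (iv3 F8430)) (tt N4323 (iv4 F10446)) (tt N4325 D6404) (tt N896 (iv6 D2809)) (tt N4326 D6405))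
theorem Q2004 : ∀ i, i < 2004 → P i := stepQ 2003 Q2003 (allL N2003 (tt N4327 D6406) (tt N4328 D6407) (tt N898 F4405) (tt N3388 (iv3 F7582)) (tt N973 F4406) (tt N4329 D6408) (tt N897 (iv6 D2810)) (tt N4330 D6409))
theorem Q2005 : ∀ i, i < 2005 → P i := stepQ 2004 Q2004 (allL N2004 (tt N4330 (iv1 F10461)) (tt N898 (iv0 D2811)) (tt N4327 (iv2 F18941)) (tt N4331 D6411) (tt N4332 D6412) (tt N4333 D6413) (tt N4334 D6414) (tt N4328 (iv7 F18939)))
theorem Q2006 : ∀ i, i < 2006 → P i := stepQ 2005 Q2005 (allL N2005 (tt N898 (iv1 D2812)) (tt N4330 F10460) (tt N4328 (iv2 F18938)) (tt N4335 D6416) (tt N4336 D6417) (tt N4337 D6418) (tt N4338 D6419) (tt N4327 (iv7 F18942)))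
theorem Q2007 : ∀ i, i < 2007 → P i := stepQ 2006 Q2006 (allL N2006 (tt N4339 D6420) (tt N4340 D6421) (tt N4329 (iv2 F10455)) (tt N899 F4407) (tt N4341 D6422) (tt N898 (iv5 D2813)) (tt N3522 (iv6 F7920)) (tt N4342 D6423))
theorem Q2008 : ∀ i, i < 2008 → P i := stepQ 2007 Q2007 (allL N2007 (tt N4328 (iv1 F10454)) (tt N4327 F10459) (tt N4330 (iv2 F10456)) (tt N900 F4408) (tt N981 F4409) (tt N4342 (iv5 F10466)) (tt N2007 F4410) (tt N898 (iv7 D2814)))
theorem Q2009 : ∀ i, i < 2009 → P i := stepQ 2008 Q2008 (allL N2008 (tt N3396 (iv1 F7606)) (tt N899 (iv0 D2825)) (tt N3393 (iv2 F7589)) (tt N4343 D6424) (tt N3904 (iv4 F8998)) (tt N3654 (iv5 F8382)) (tt N4344 D6425) (tt N3394 (iv7 F7591)))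
theorem Q2010 : ∀ i, i < 2010 → P i := stepQ 2009 Q2009 (allL N2009 (tt N899 (iv1 D2826)) (tt N3396 F7605) (tt N3394 (iv2 F7593)) (tt N4345 D6426) (tt N3905 (iv4 F9004)) (tt N2443 (iv5 F5483)) (tt N4346 D6427) (tt N3393 F7588))
theorem Q2011 : ∀ i, i < 2011 → P i := stepQ 2010 Q2010 (allL N2010 (tt N2222 F5486) (tt N2226 (iv0 F4999)) (tt N3395 (iv2 F7602)) (tt N4347 D6428) (tt N899 (iv4 D2827)) (tt N4348 D6429) (tt N3526 (iv6 F7927)) (tt N4349 D6430))
theorem Q2012 : ∀ i, i < 2012 → P i := stepQ 2011 Q2011 (allL N2011 (tt N3394 (iv1 F7590)) (tt N3393 F7594) (tt N3396 (iv2 F7603)) (tt N4342 (iv3 F10465)) (tt N4349 (iv4 F10470)) (tt N900 F4413) (tt N4350 D6431) (tt N899 (iv7 D2828)))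
theorem Q2013 : ∀ i, i < 2013 → P i := stepQ 2012 Q2012 (allL N2012 (tt N4351 D6432) (tt N4352 D6433) (tt N3417 (iv2 F10209)) (tt N902 F4422) (tt N4353 D6434) (tt N901 (iv5 D2839)) (tt N4354 D6435) (tt N3400 (iv7 F7624)))
theorem Q2014 : ∀ i, i < 2014 → P i := stepQ 2013 Q2013 (allL N2013 (tt N4355 D6436) (tt N4356 D6437) (tt N3418 (iv2 F10181)) (tt N903 F4423) (tt N3800 (iv4 F8820)) (tt N3453 (iv5 F9966)) (tt N901 (iv6 D2840)) (tt N4357 D6438))
theorem Q2015 : ∀ i, i < 2015 → P i := stepQ 2014 Q2014 (allL N2014 (tt N902 (iv1 D2848)) (tt N905 F4430) (tt N2621 (iv2 F8032)) (tt N1000 F10045) (tt N3920 (iv4 F9071)) (tt N1662 F8033) (tt N1888 F8034) (tt N1661 F8035))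
theorem Q2016 : ∀ i, i < 2016 → P i := stepQ 2015 Q2015 (allL N2015 (tt N2246 (iv1 F7629)) (tt N2247 (iv0 F5025)) (tt N3397 (iv2 F7609)) (tt N4358 D6439) (tt N902 (iv4 D2849)) (tt N2302 (iv5 F5306)) (tt N4359 D6440) (tt N3402 (iv7 F7628)))
theorem Q2017 : ∀ i, i < 2017 → P i := stepQ 2016 Q2016 (allL N2016 (tt N2546 F5633) (tt N4360 D6441) (tt N3398 (iv2 F7612)) (tt N4354 (iv3 F10483)) (tt N4359 (iv4 F10498)) (tt N3539 (iv5 F8098)) (tt N902 (iv6 D2850)) (tt N3539 (iv7 F8099)))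
theorem Q2018 : ∀ i, i < 2018 → P i := stepQ 2017 Q2017 (allL N2017 (tt N1652 F4439) (tt N1990 (iv0 F7990)) (tt N3399 (iv2 F7616)) (tt N4357 (iv3 F10493)) (tt N2211 (iv4 F4945)) (tt N1620 (iv5 F4438)) (tt N1700 F4437) (tt N903 (iv7 D2853)))
theorem Q2019 : ∀ i, i < 2019 → P i := stepQ 2018 Q2018 (allL N2018 (tt N1551 F10155) (tt N1974 F10156) (tt N1742 F5150) (tt N2214 (iv3 F4948)) (tt N904 (iv4 D2858)) (tt N4361 D6442) (tt N4362 D6443) (tt N1739 F5149))
theorem Q2020 : ∀ i, i < 2020 → P i := stepQ 2019 Q2019 (allL N2019 (tt N4363 D6444) (tt N2245 (iv0 F10011)) (tt N1743 F5151) (tt N905 F4463) (tt N4364 D6445) (tt N904 (iv5 D2859)) (tt N3536 (iv6 F8084)) (tt N1740 F5148))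
theorem Q2021 : ∀ i, i < 2021 → P i := stepQ 2020 Q2020 (allL N2020 (tt N1645 F8299) (tt N1677 F8300) (tt N1744 F5152) (tt N906 F4464) (tt N4362 (iv4 F10504)) (tt N3644 (iv5 F8291)) (tt N904 (iv6 D2860)) (tt N3644 (iv7 F8292)))
theorem Q2022 : ∀ i, i < 2022 → P i := stepQ 2021 Q2021 (allL N2021 (tt N2247 (iv1 F7611)) (tt N2246 (iv0 F5024)) (tt N3402 (iv2 F7626)) (tt N4365 D6446) (tt N905 (iv4 D2864)) (tt N2303 (iv5 F5307)) (tt N3537 (iv6 F8089)) (tt N3397 (iv7 F7610)))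
theorem Q2023 : ∀ i, i < 2023 → P i := stepQ 2022 Q2022 (allL N2022 (tt N3421 F10325) (tt N1553 F10326) (tt N3419 F10337) (tt N907 (iv3 D2866)) (tt N3824 (iv4 F8851)) (tt N3504 F10327) (tt N4366 D6447) (tt N3404 (iv7 F7895)))
theorem Q2024 : ∀ i, i < 2024 → P i := stepQ 2023 Q2023 (allL N2023 (tt N4367 D6448) (tt N4368 D6449) (tt N3403 F7894) (tt N4366 (iv3 F10513)) (tt N2293 (iv4 F5299)) (tt N2535 F5626) (tt N907 (iv6 D2868)) (tt N4369 D6450))
theorem Q2025 : ∀ i, i < 2025 → P i := stepQ 2024 Q2024 (allL N2024 (tt N1523 (iv1 F4940)) (tt N1748 (iv0 F4939)) (tt N1746 F7892) (tt N908 (iv3 D2870)) (tt N4370 D6451) (tt N3529 (iv5 F7937)) (tt N4371 D6452) (tt N1745 F7890))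
theorem Q2026 : ∀ i, i < 2026 → P i := stepQ 2025 Q2025 (allL N2025 (tt N2617 F7954) (tt N2620 (iv0 F7946)) (tt N3405 (iv2 F7896)) (tt N4371 (iv3 F10521)) (tt N2296 (iv4 F5302)) (tt N3533 (iv5 F7944)) (tt N908 (iv6 D2872)) (tt N4372 D6453))
theorem Q2027 : ∀ i, i < 2027 → P i := stepQ 2026 Q2026 (allL N2026 (tt N4373 D6454) (tt N4374 D6455) (tt N4375 D6456) (tt N909 (iv3 D2875)) (tt N1024 F4468) (tt N4376 D6457) (tt N914 F4469) (tt N4377 D6458))
theorem Q2028 : ∀ i, i < 2028 → P i := stepQ 2027 Q2027 (allL N2027 (tt N3922 (iv1 F9076)) (tt N3932 (iv0 F9104)) (tt N3407 (iv2 F7633)) (tt N4376 (iv3 F10526)) (tt N4378 D6459) (tt N909 (iv5 D2876)) (tt N4379 D6460) (tt N4380 D6461))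
theorem Q2029 : ∀ i, i < 2029 → P i := stepQ 2028 Q2028 (allL N2028 (tt N1019 (iv1 F5181)) (tt N1015 (iv0 F5183)) (tt N3408 (iv2 F7636)) (tt N4377 (iv3 F10527)) (tt N910 F4470) (tt N4380 (iv5 F10530)) (tt N4381 D6462) (tt N909 (iv7 D2877)))
theorem Q2030 : ∀ i, i < 2030 → P i := stepQ 2029 Q2029 (allL N2029 (tt N2515 (iv1 F5597)) (tt N2514 (iv0 F5596)) (tt N2516 (iv2 F5598)) (tt N1027 F4471) (tt N4381 (iv4 F10533)) (tt N2029 F4472) (tt N910 (iv6 D2878)) (tt N917 F4473))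
theorem Q2031 : ∀ i, i < 2031 → P i := stepQ 2030 Q2030 (allL N2030 (tt N1557 F4476) (tt N2517 (iv0 F5604)) (tt N1754 F4474) (tt N2386 (iv3 F5412)) (tt N912 (iv4 D2879)) (tt N4382 D6463) (tt N4383 D6464) (tt N1753 F4475))
theorem Q2032 : ∀ i, i < 2032 → P i := stepQ 2031 Q2031 (allL N2031 (tt N4384 D6465) (tt N2372 (iv0 F12610)) (tt N1756 F4477) (tt N913 F4478) (tt N4383 (iv4 F10538)) (tt N2031 F4479) (tt N912 (iv6 D2880)) (tt N4385 D6467))
theorem Q2033 : ∀ i, i < 2033 → P i := stepQ 2032 Q2032 (allL N2032 (tt N2475 (iv1 F5551)) (tt N913 (iv0 D2881)) (tt N2473 F12614) (tt N1056 (iv3 F12603)) (tt N3994 (iv4 F12653)) (tt N4360 F10500) (tt N2548 (iv6 F5635)) (tt N2474 (iv7 F12619)))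
theorem Q2034 : ∀ i, i < 2034 → P i := stepQ 2033 Q2033 (allL N2033 (tt N913 (iv1 D2882)) (tt N2475 F5550) (tt N2474 (iv2 F12618)) (tt N3848 (iv3 F12671)) (tt N3995 (iv4 F12656)) (tt N2546 (iv5 F5632)) (tt N4367 (iv6 F10514)) (tt N2473 F12615))
theorem Q2035 : ∀ i, i < 2035 → P i := stepQ 2034 Q2034 (allL N2034 (tt N2474 (iv1 F5545)) (tt N2473 F5549) (tt N2475 (iv2 F5546)) (tt N4385 (iv3 F10541)) (tt N2391 (iv4 F5416)) (tt N2034 F4480) (tt N1997 F4481) (tt N913 (iv7 D2883)))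
theorem Q2036 : ∀ i, i < 2036 → P i := stepQ 2035 Q2035 (allL N2035 (tt N4386 D6474) (tt N914 (iv0 D2884)) (tt N4387 D6475) (tt N4388 D6476) (tt N4389 D6477) (tt N4390 D6478) (tt N4391 D6479) (tt N4392 D6480))
theorem Q2037 : ∀ i, i < 2037 → P i := stepQ 2036 Q2036 (allL N2036 (tt N914 (iv1 D2885)) (tt N4386 F10552) (tt N4392 (iv2 F10554)) (tt N4393 D6481) (tt N4394 D6482) (tt N4395 D6483) (tt N4396 D6484) (tt N4387 F10553))
theorem Q2038 : ∀ i, i < 2038 → P i := stepQ 2037 Q2037 (allL N2037 (tt N4387 F37245) (tt N4392 F37246) (tt N914 (iv2 D2886)) (tt N3411 (iv3 F7640)) (tt N1067 F4482) (tt N4397 D6487) (tt N4375 (iv6 F10525)) (tt N4386 (iv7 F10551)))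
theorem Q2039 : ∀ i, i < 2039 → P i := stepQ 2038 Q2038 (allL N2038 (tt N4398 D6488) (tt N4399 D6489) (tt N4397 (iv2 F10557)) (tt N915 F4483) (tt N4400 D6490) (tt N914 (iv5 D2887)) (tt N4401 D6491) (tt N4402 D6492))
theorem Q2040 : ∀ i, i < 2040 → P i := stepQ 2039 Q2039 (allL N2039 (tt N4392 F37247) (tt N4387 F37248) (tt N4386 F10549) (tt N916 F4484) (tt N1069 F4485) (tt N4402 (iv5 F10560)) (tt N4403 D6493) (tt N914 (iv7 D2888)))
theorem Q2041 : ∀ i, i < 2041 → P i := stepQ 2040 Q2040 (allL N2040 (tt N4404 D6494) (tt N4405 D6495) (tt N3413 (iv2 F7643)) (tt N4401 (iv3 F10558)) (tt N2587 (iv4 F5673)) (tt N4379 (iv5 F10529)) (tt N915 (iv6 D2889)) (tt N4406 D6496))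
theorem Q2042 : ∀ i, i < 2042 → P i := stepQ 2041 Q2041 (allL N2041 (tt N1045 (iv1 F4489)) (tt N1034 F4490) (tt N1259 F4486) (tt N4402 (iv3 F10559)) (tt N1241 F4487) (tt N916 F4488) (tt N4407 D6497) (tt N915 (iv7 D2890)))
theorem Q2043 : ∀ i, i < 2043 → P i := stepQ 2042 Q2042 (allL N2042 (tt N4045 (iv1 F11986)) (tt N4047 (iv0 F11987)) (tt N2513 (iv2 F5593)) (tt N4403 (iv3 F10561)) (tt N917 F4491) (tt N4408 D6500) (tt N916 (iv6 D2891)) (tt N4381 (iv7 F10534)))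
theorem Q2044 : ∀ i, i < 2044 → P i := stepQ 2043 Q2043 (allL N2043 (tt N2516 F5602) (tt N917 (iv0 D2892)) (tt N2514 (iv2 F7862)) (tt N4409 D6501) (tt N2416 F12422) (tt N4410 D6503) (tt N1602 F4492) (tt N2515 (iv7 F7864)))
theorem Q2045 : ∀ i, i < 2045 → P i := stepQ 2044 Q2044 (allL N2044 (tt N917 (iv1 D2893)) (tt N2516 F5601) (tt N2515 F7865) (tt N4411 D6504) (tt N2417 (iv4 F12417)) (tt N4412 D6506) (tt N4413 D6507) (tt N2514 F7863))
theorem Q2046 : ∀ i, i < 2046 → P i := stepQ 2045 Q2045 (allL N2045 (tt N1624 (iv1 F4496)) (tt N1627 (iv0 F4495)) (tt N3571 F8187) (tt N918 (iv3 D2894)) (tt N2148 (iv4 F4781)) (tt N963 F4493) (tt N4414 D6508) (tt N2045 F4494))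
theorem Q2047 : ∀ i, i < 2047 → P i := stepQ 2046 Q2046 (allL N2046 (tt N2235 (iv1 F19400)) (tt N1791 (iv0 F19401)) (tt N2048 (iv2 F4507)) (tt N4414 (iv3 F10575)) (tt N3787 (iv4 F8796)) (tt N4415 D6511) (tt N918 (iv6 D2895)) (tt N2234 (iv7 F19365)))
theorem Q2048 : ∀ i, i < 2048 → P i := stepQ 2047 Q2047 (allL N2047 (tt N3666 F8436) (tt N1998 (iv0 F4500)) (tt N3516 (iv2 F7913)) (tt N919 (iv3 D2896)) (tt N1594 F4499) (tt N1720 F4497) (tt N4416 D6513) (tt N2047 F4498))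
theorem Q2049 : ∀ i, i < 2049 → P i := stepQ 2048 Q2048 (allL N2048 (tt N996 (iv1 F19359)) (tt N3500 (iv0 F19360)) (tt N2046 F4507) (tt N4416 (iv3 F10578)) (tt N3783 (iv4 F8784)) (tt N4417 D6516) (tt N919 (iv6 D2897)) (tt N3926 (iv7 F19406)))
theorem Q2050 : ∀ i, i < 2050 → P i := stepQ 2049 Q2049 (allL N2049 (tt N4418 D6518) (tt N4419 D6519) (tt N921 F4508) (tt N1569 F4509) (tt N2049 F4510) (tt N4420 D6520) (tt N920 (iv6 D2898)) (tt N4421 D6521))
theorem Q2051 : ∀ i, i < 2051 → P i := stepQ 2050 Q2050 (allL N2050 (tt N4421 (iv1 F10598)) (tt N921 (iv0 D2899)) (tt N4418 (iv2 F22883)) (tt N4422 D6523) (tt N4423 D6524) (tt N4424 D6525) (tt N4425 D6526) (tt N4419 F22882))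
theorem Q2052 : ∀ i, i < 2052 → P i := stepQ 2051 Q2051 (allL N2051 (tt N921 (iv1 D2900)) (tt N4421 F10597) (tt N4419 F22881) (tt N4426 D6528) (tt N4427 D6529) (tt N4428 D6530) (tt N4429 D6531) (tt N4418 (iv7 F22884)))
theorem Q2053 : ∀ i, i < 2053 → P i := stepQ 2052 Q2052 (allL N2052 (tt N4430 D6532) (tt N4431 D6533) (tt N4420 (iv2 F10589)) (tt N924 F4511) (tt N4432 D6534) (tt N921 (iv5 D2901)) (tt N2095 (iv6 F4661)) (tt N4433 D6535))
theorem Q2054 : ∀ i, i < 2054 → P i := stepQ 2053 Q2053 (allL N2053 (tt N4419 (iv1 F10588)) (tt N4418 F10596) (tt N4421 (iv2 F10592)) (tt N925 F4512) (tt N2053 F4513) (tt N4433 (iv5 F10603)) (tt N2053 F4514) (tt N921 (iv7 D2902)))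
theorem Q2055 : ∀ i, i < 2055 → P i := stepQ 2054 Q2054 (allL N2054 (tt N4322 (iv1 F19472)) (tt N2002 (iv0 F19473)) (tt N4320 (iv2 F19533)) (tt N922 (iv3 D2904)) (tt N2106 (iv4 F10106)) (tt N4434 D6539) (tt N3656 (iv6 F8391)) (tt N2099 F8016))
theorem Q2056 : ∀ i, i < 2056 → P i := stepQ 2055 Q2055 (allL N2055 (tt N4435 D6540) (tt N4436 D6541) (tt N2098 (iv2 F8018)) (tt N4434 (iv3 F10604)) (tt N4437 D6542) (tt N922 (iv5 D2906)) (tt N4438 D6543) (tt N2100 F8017))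
theorem Q2057 : ∀ i, i < 2057 → P i := stepQ 2056 Q2056 (allL N2056 (tt N3386 F19482) (tt N4439 D6545) (tt N4440 D6546) (tt N923 (iv3 D2909)) (tt N2177 (iv4 F10319)) (tt N4441 D6547) (tt N4442 D6548) (tt N2097 (iv7 F8005)))
theorem Q2058 : ∀ i, i < 2058 → P i := stepQ 2057 Q2057 (allL N2057 (tt N4436 (iv1 F10607)) (tt N4435 F10606) (tt N2100 (iv2 F8015)) (tt N4441 (iv3 F10610)) (tt N4443 D6549) (tt N923 (iv5 D2911)) (tt N4444 D6550) (tt N2098 (iv7 F8006)))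
theorem Q2059 : ∀ i, i < 2059 → P i := stepQ 2058 Q2058 (allL N2058 (tt N2244 (iv1 F8004)) (tt N1784 F8669) (tt N2101 (iv2 F7998)) (tt N4442 (iv3 F10611)) (tt N1995 (iv4 F5105)) (tt N4445 D6551) (tt N923 (iv6 D2912)) (tt N2242 F5107))
theorem Q2060 : ∀ i, i < 2060 → P i := stepQ 2059 Q2059 (allL N2059 (tt N2105 (iv1 F4676)) (tt N924 (iv0 D2913)) (tt N2102 (iv2 F8074)) (tt N4446 D6552) (tt N4447 D6553) (tt N3744 (iv5 F8651)) (tt N4448 D6554) (tt N2103 F8073))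
theorem Q2061 : ∀ i, i < 2061 → P i := stepQ 2060 Q2060 (allL N2060 (tt N924 (iv1 D2914)) (tt N2105 F4675) (tt N2103 F8071) (tt N4449 D6555) (tt N4450 D6556) (tt N1649 (iv5 F5086)) (tt N4451 D6557) (tt N2102 (iv7 F8072)))
theorem Q2062 : ∀ i, i < 2062 → P i := stepQ 2061 Q2061 (allL N2061 (tt N4452 D6558) (tt N4453 D6559) (tt N2104 (iv2 F4670)) (tt N4454 D6560) (tt N924 (iv4 D2915)) (tt N4455 D6561) (tt N2104 (iv6 F4671)) (tt N4456 D6562))
theorem Q2063 : ∀ i, i < 2063 → P i := stepQ 2062 Q2062 (allL N2062 (tt N2103 (iv1 F4668)) (tt N2102 F4674) (tt N2105 (iv2 F4672)) (tt N4433 (iv3 F10602)) (tt N4456 (iv4 F10620)) (tt N925 F4519) (tt N4457 D6563) (tt N924 (iv7 D2916)))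
theorem Q2064 : ∀ i, i < 2064 → P i := stepQ 2063 Q2063 (allL N2063 (tt N3785 F8791) (tt N1729 (iv0 F4895)) (tt N3769 (iv2 F10052)) (tt N4458 D6564) (tt N926 (iv4 D2925)) (tt N4459 D6565) (tt N3683 F10034) (tt N2111 (iv7 F4707)))
theorem Q2065 : ∀ i, i < 2065 → P i := stepQ 2064 Q2064 (allL N2064 (tt N4460 D6566) (tt N4461 D6567) (tt N3770 F10035) (tt N928 F4527) (tt N4462 D6568) (tt N926 (iv5 D2926)) (tt N2245 (iv6 F5022)) (tt N2112 (iv7 F4709)))
theorem Q2066 : ∀ i, i < 2066 → P i := stepQ 2065 Q2065 (allL N2065 (tt N3870 F10276) (tt N1765 F10277) (tt N3868 F10347) (tt N927 (iv3 D2930)) (tt N4458 (iv4 F10622)) (tt N4463 D6569) (tt N4307 (iv6 F10420)) (tt N2114 (iv7 F4711)))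
theorem Q2067 : ∀ i, i < 2067 → P i := stepQ 2066 Q2066 (allL N2066 (tt N4464 D6570) (tt N4465 D6571) (tt N2107 (iv2 F4689)) (tt N4463 (iv3 F10628)) (tt N4466 D6572) (tt N927 (iv5 D2931)) (tt N4467 D6573) (tt N2115 (iv7 F4713)))
theorem Q2068 : ∀ i, i < 2068 → P i := stepQ 2067 Q2067 (allL N2067 (tt N930 (iv1 F4538)) (tt N928 (iv0 D2933)) (tt N2108 (iv2 F5257)) (tt N4468 D6574) (tt N4469 D6575) (tt N1098 F4533) (tt N4046 (iv6 F9374)) (tt N2109 F5256))
theorem Q2069 : ∀ i, i < 2069 → P i := stepQ 2068 Q2068 (allL N2068 (tt N928 (iv1 D2934)) (tt N930 F4534) (tt N2109 (iv2 F5236)) (tt N2068 F5192) (tt N4470 D6576) (tt N1961 (iv5 F4535)) (tt N2279 (iv6 F5279)) (tt N2108 (iv7 F5233)))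
theorem Q2070 : ∀ i, i < 2070 → P i := stepQ 2069 Q2069 (allL N2069 (tt N4471 D6577) (tt N4472 D6578) (tt N2110 (iv2 F4699)) (tt N4473 D6579) (tt N928 (iv4 D2935)) (tt N4474 D6580) (tt N2246 (iv6 F5023)) (tt N2117 (iv7 F4717)))
theorem Q2071 : ∀ i, i < 2071 → P i := stepQ 2070 Q2070 (allL N2070 (tt N969 F22493) (tt N2166 F22494) (tt N2164 F22502) (tt N929 (iv3 D2943)) (tt N2099 (iv4 F10105)) (tt N4475 D6584) (tt N4476 D6585) (tt N2106 (iv7 F4688)))
theorem Q2072 : ∀ i, i < 2072 → P i := stepQ 2071 Q2071 (allL N2071 (tt N4465 (iv1 F10631)) (tt N4464 F10630) (tt N2115 (iv2 F4712)) (tt N4475 (iv3 F10648)) (tt N4477 D6586) (tt N929 (iv5 D2944)) (tt N4478 D6587) (tt N2107 (iv7 F4690)))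
theorem Q2073 : ∀ i, i < 2073 → P i := stepQ 2072 Q2072 (allL N2072 (tt N2211 (iv1 F5473)) (tt N1773 F8967) (tt N2116 (iv2 F4714)) (tt N4476 (iv3 F10649)) (tt N931 F4639) (tt N4479 D6588) (tt N929 (iv6 D2945)) (tt N2210 (iv7 F4943)))
theorem Q2074 : ∀ i, i < 2074 → P i := stepQ 2073 Q2073 (allL N2073 (tt N4472 (iv1 F10644)) (tt N4471 F10643) (tt N2117 (iv2 F4716)) (tt N4480 D6589) (tt N930 (iv4 D2946)) (tt N4481 D6590) (tt N2345 (iv6 F5374)) (tt N2110 (iv7 F4700)))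
theorem Q2075 : ∀ i, i < 2075 → P i := stepQ 2074 Q2074 (allL N2074 (tt N1851 F4696) (tt N1850 (iv0 F4640)) (tt N2118 (iv2 F4718)) (tt N3530 F10071) (tt N4482 D6591) (tt N931 (iv5 D2947)) (tt N2288 (iv6 F5292)) (tt N2079 F4644))
theorem Q2076 : ∀ i, i < 2076 → P i := stepQ 2075 Q2075 (allL N2075 (tt N3773 F10023) (tt N1723 F10024) (tt N3771 F10025) (tt N932 (iv3 D2948)) (tt N4483 D6592) (tt N4287 (iv5 F10361)) (tt N4484 D6593) (tt N2121 (iv7 F4728)))
theorem Q2077 : ∀ i, i < 2077 → P i := stepQ 2076 Q2076 (allL N2076 (tt N4007 (iv1 F9306)) (tt N1061 F4893) (tt N2119 (iv2 F4722)) (tt N4485 D6594) (tt N932 (iv4 D2949)) (tt N4486 D6595) (tt N4487 D6596) (tt N2122 (iv7 F4730)))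
theorem Q2078 : ∀ i, i < 2078 → P i := stepQ 2077 Q2077 (allL N2077 (tt N1021 F4695) (tt N3944 F9142) (tt N2120 (iv2 F4724)) (tt N4484 (iv3 F10692)) (tt N4487 (iv4 F10694)) (tt N1047 F4641) (tt N932 (iv6 D2950)) (tt N3943 (iv7 F9137)))
theorem Q2079 : ∀ i, i < 2079 → P i := stepQ 2078 Q2078 (allL N2078 (tt N1061 F4892) (tt N4007 F9305) (tt N2122 (iv2 F4729)) (tt N4488 D6597) (tt N933 (iv4 D2952)) (tt N4489 D6598) (tt N4490 D6599) (tt N2119 (iv7 F4723)))
theorem Q2080 : ∀ i, i < 2080 → P i := stepQ 2079 Q2079 (allL N2079 (tt N1093 F4646) (tt N1097 (iv0 F4645)) (tt N2123 (iv2 F4731)) (tt N3561 (iv3 F10073)) (tt N4490 (iv4 F10695)) (tt N1003 F4643) (tt N933 (iv6 D2953)) (tt N2074 (iv7 F4644)))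
theorem Q2081 : ∀ i, i < 2081 → P i := stepQ 2080 Q2080 (allL N2080 (tt N2128 (iv1 F4743)) (tt N934 (iv0 D2954)) (tt N2124 F8050) (tt N4491 D6600) (tt N1996 (iv4 F5102)) (tt N4492 D6601) (tt N4493 D6602) (tt N2125 F8048))
theorem Q2082 : ∀ i, i < 2082 → P i := stepQ 2081 Q2081 (allL N2081 (tt N934 (iv1 D2955)) (tt N2128 F4742) (tt N2125 (iv2 F8049)) (tt N4494 D6603) (tt N1654 (iv4 F5106)) (tt N4495 D6604) (tt N4496 D6605) (tt N2124 (iv7 F8051)))
theorem Q2083 : ∀ i, i < 2083 → P i := stepQ 2082 Q2082 (allL N2082 (tt N4497 D6606) (tt N4498 D6607) (tt N4499 D6608) (tt N934 (iv3 D2956)) (tt N2082 F4647) (tt N4500 D6609) (tt N1049 F4648) (tt N4501 D6610))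
theorem Q2084 : ∀ i, i < 2084 → P i := stepQ 2083 Q2083 (allL N2083 (tt N4502 D6611) (tt N4503 D6612) (tt N2127 (iv2 F4738)) (tt N4500 (iv3 F10705)) (tt N4504 D6613) (tt N934 (iv5 D2957)) (tt N4505 D6614) (tt N4506 D6615))
theorem Q2085 : ∀ i, i < 2085 → P i := stepQ 2084 Q2084 (allL N2084 (tt N2125 (iv1 F4736)) (tt N2124 F4741) (tt N2128 (iv2 F4739)) (tt N4501 (iv3 F10706)) (tt N935 F4649) (tt N4506 (iv5 F10711)) (tt N3997 (iv6 F9284)) (tt N934 (iv7 D2958)))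
theorem Q2086 : ∀ i, i < 2086 → P i := stepQ 2085 Q2085 (allL N2085 (tt N4468 F10636) (tt N4507 D6616) (tt N2085 F10102) (tt N4308 (iv3 F10422)) (tt N4292 (iv4 F26410)) (tt N936 (iv5 D2962)) (tt N2259 (iv6 F10193)) (tt N2087 F10096))
theorem Q2087 : ∀ i, i < 2087 → P i := stepQ 2086 Q2086 (allL N2086 (tt N1545 F10080) (tt N1987 F10081) (tt N1985 F10082) (tt N937 (iv3 D2964)) (tt N2448 (iv4 F10291)) (tt N4508 D6618) (tt N4355 F10485) (tt N1984 F10083))
theorem Q2088 : ∀ i, i < 2088 → P i := stepQ 2087 Q2087 (allL N2087 (tt N4507 (iv1 F10712)) (tt N4468 (iv0 F10637)) (tt N2087 F10099) (tt N4508 (iv3 F10719)) (tt N1967 (iv4 F26345)) (tt N937 (iv5 D2966)) (tt N2337 F26299) (tt N2085 (iv7 F10096)))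
theorem Q2089 : ∀ i, i < 2089 → P i := stepQ 2088 Q2088 (allL N2088 (tt N3913 F10200) (tt N1782 F10201) (tt N2088 F10100) (tt N4355 (iv3 F10484)) (tt N2447 (iv4 F10320)) (tt N4509 D6620) (tt N937 (iv6 D2967)) (tt N3912 (iv7 F10197)))
theorem Q2090 : ∀ i, i < 2090 → P i := stepQ 2089 Q2089 (allL N2089 (tt N2092 (iv1 F4658)) (tt N938 (iv0 D2968)) (tt N2089 F10352) (tt N4311 (iv3 F10750)) (tt N4509 F26383) (tt N4294 (iv5 F10393)) (tt N4510 D6623) (tt N2090 F10351))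
theorem Q2091 : ∀ i, i < 2091 → P i := stepQ 2090 Q2090 (allL N2090 (tt N938 (iv1 D2969)) (tt N2092 F4659) (tt N2090 F10350) (tt N3498 (iv3 F10349)) (tt N4511 D6624) (tt N1970 (iv5 F4652)) (tt N4511 F26384) (tt N2089 (iv7 F10351)))
theorem Q2092 : ∀ i, i < 2092 → P i := stepQ 2091 Q2091 (allL N2091 (tt N4509 (iv1 F26322)) (tt N4511 (iv0 F10737)) (tt N2091 F4653) (tt N1850 (iv3 F26320)) (tt N938 (iv4 D2970)) (tt N1849 (iv5 F26324)) (tt N1822 F4654) (tt N2446 (iv7 F26326)))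
theorem Q2093 : ∀ i, i < 2093 → P i := stepQ 2092 Q2092 (allL N2092 (tt N2090 (iv1 F4659)) (tt N2089 F4658) (tt N2092 F4655) (tt N954 F4656) (tt N2446 F26327) (tt N939 F4657) (tt N2360 (iv6 F5395)) (tt N938 (iv7 D2971)))
theorem Q2094 : ∀ i, i < 2094 → P i := stepQ 2093 Q2093 (allL N2093 (tt N3459 (iv1 F7762)) (tt N940 (iv0 D2972)) (tt N3456 F10245) (tt N4512 D6629) (tt N1599 F10246) (tt N4513 D6630) (tt N4514 D6631) (tt N3457 (iv7 F10275)))
theorem Q2095 : ∀ i, i < 2095 → P i := stepQ 2094 Q2094 (allL N2094 (tt N940 (iv1 D2973)) (tt N3459 F7761) (tt N3457 (iv2 F10273)) (tt N4515 D6632) (tt N1665 (iv4 F10250)) (tt N4516 D6633) (tt N4517 D6634) (tt N3456 F10249))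
theorem Q2096 : ∀ i, i < 2096 → P i := stepQ 2095 Q2095 (allL N2095 (tt N4518 D6635) (tt N4519 D6636) (tt N3458 (iv2 F7756)) (tt N943 F4660) (tt N4520 D6637) (tt N940 (iv5 D2974)) (tt N2052 F4661) (tt N4521 D6638))
theorem Q2097 : ∀ i, i < 2097 → P i := stepQ 2096 Q2096 (allL N2096 (tt N3457 (iv1 F7755)) (tt N3456 F7760) (tt N3459 (iv2 F7757)) (tt N944 F4662) (tt N1568 F4663) (tt N4521 (iv5 F10759)) (tt N2096 F4664) (tt N940 (iv7 D2975)))
theorem Q2098 : ∀ i, i < 2098 → P i := stepQ 2097 Q2097 (allL N2097 (tt N4522 D6639) (tt N3387 (iv0 F19455)) (tt N4523 D6641) (tt N941 (iv3 D2977)) (tt N4524 D6642) (tt N4525 D6643) (tt N3764 (iv6 F8721)) (tt N2056 F8005))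
theorem Q2099 : ∀ i, i < 2099 → P i := stepQ 2098 Q2098 (allL N2098 (tt N4526 D6644) (tt N4527 D6645) (tt N2055 F8018) (tt N4525 (iv3 F10772)) (tt N4528 D6646) (tt N941 (iv5 D2979)) (tt N4529 D6647) (tt N2057 F8006))
theorem Q2100 : ∀ i, i < 2100 → P i := stepQ 2099 Q2099 (allL N2099 (tt N2000 F19538) (tt N4326 (iv0 F19539)) (tt N4324 (iv2 F19474)) (tt N942 (iv3 D2982)) (tt N2070 F10105) (tt N4530 D6651) (tt N4531 D6652) (tt N2054 (iv7 F8016)))
theorem Q2101 : ∀ i, i < 2101 → P i := stepQ 2100 Q2100 (allL N2100 (tt N4527 (iv1 F10778)) (tt N4526 F10775) (tt N2057 F8015) (tt N4530 (iv3 F10793)) (tt N4532 D6653) (tt N942 (iv5 D2984)) (tt N4533 D6654) (tt N2055 (iv7 F8017)))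
theorem Q2102 : ∀ i, i < 2102 → P i := stepQ 2101 Q2101 (allL N2101 (tt N3917 (iv1 F9053)) (tt N998 F7997) (tt N2058 F7998) (tt N4531 (iv3 F10795)) (tt N1990 (iv4 F7732)) (tt N4534 D6655) (tt N942 (iv6 D2985)) (tt N3748 (iv7 F8666)))
theorem Q2103 : ∀ i, i < 2103 → P i := stepQ 2102 Q2102 (allL N2102 (tt N2062 (iv1 F4674)) (tt N943 (iv0 D2986)) (tt N2059 F8074) (tt N4535 D6656) (tt N4536 D6657) (tt N3643 (iv5 F8289)) (tt N4537 D6658) (tt N2060 F8072))
theorem Q2104 : ∀ i, i < 2104 → P i := stepQ 2103 Q2103 (allL N2103 (tt N943 (iv1 D2987)) (tt N2062 F4668) (tt N2060 (iv2 F8071)) (tt N4538 D6659) (tt N4539 D6660) (tt N1699 (iv5 F7714)) (tt N4540 D6661) (tt N2059 (iv7 F8073)))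
theorem Q2105 : ∀ i, i < 2105 → P i := stepQ 2104 Q2104 (allL N2104 (tt N4541 D6662) (tt N4542 D6663) (tt N2061 F4670) (tt N4543 D6664) (tt N943 (iv4 D2988)) (tt N4544 D6665) (tt N2061 F4671) (tt N4545 D6666))
theorem Q2106 : ∀ i, i < 2106 → P i := stepQ 2105 Q2105 (allL N2105 (tt N2060 (iv1 F4675)) (tt N2059 F4676) (tt N2062 F4672) (tt N4521 (iv3 F10758)) (tt N4545 (iv4 F10828)) (tt N944 F4673) (tt N4546 D6667) (tt N943 (iv7 D2989)))
theorem Q2107 : ∀ i, i < 2107 → P i := stepQ 2106 Q2106 (allL N2106 (tt N2162 F22500) (tt N971 (iv0 F22501)) (tt N2160 F22482) (tt N945 (iv3 D2997)) (tt N2054 F10106) (tt N4547 D6671) (tt N4289 (iv6 F10368)) (tt N2070 F4688))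
theorem Q2108 : ∀ i, i < 2108 → P i := stepQ 2107 Q2107 (allL N2107 (tt N4548 D6672) (tt N4549 D6673) (tt N2066 F4689) (tt N4547 (iv3 F10842)) (tt N4550 D6674) (tt N945 (iv5 D2998)) (tt N4551 D6675) (tt N2071 F4690))
theorem Q2109 : ∀ i, i < 2109 → P i := stepQ 2108 Q2108 (allL N2108 (tt N949 (iv1 F4692)) (tt N946 (iv0 D2999)) (tt N2067 F5257) (tt N2108 F5207) (tt N4552 D6676) (tt N1852 F4691) (tt N2420 (iv6 F5434)) (tt N2068 F5233))
theorem Q2110 : ∀ i, i < 2110 → P i := stepQ 2109 Q2109 (allL N2109 (tt N946 (iv1 D3000)) (tt N949 F4697) (tt N2068 F5236) (tt N4507 (iv3 F10716)) (tt N4553 D6677) (tt N1980 (iv5 F4698)) (tt N2470 F5531) (tt N2067 (iv7 F5256)))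
theorem Q2111 : ∀ i, i < 2111 → P i := stepQ 2110 Q2110 (allL N2110 (tt N4554 D6678) (tt N4555 D6679) (tt N2069 F4699) (tt N4556 D6680) (tt N946 (iv4 D3001)) (tt N4557 D6681) (tt N3918 (iv6 F9058)) (tt N2073 F4700))
theorem Q2112 : ∀ i, i < 2112 → P i := stepQ 2111 Q2111 (allL N2111 (tt N1726 F7730) (tt N3789 F8805) (tt N3778 (iv2 F10064)) (tt N4558 D6682) (tt N947 (iv4 D3005)) (tt N4559 D6683) (tt N4560 D6684) (tt N2063 F4707))
theorem Q2113 : ∀ i, i < 2113 → P i := stepQ 2112 Q2112 (allL N2112 (tt N4561 D6685) (tt N4562 D6686) (tt N3779 F10053) (tt N949 F4708) (tt N4563 D6687) (tt N947 (iv5 D3006)) (tt N3840 (iv6 F10066)) (tt N2064 F4709))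
theorem Q2114 : ∀ i, i < 2114 → P i := stepQ 2113 Q2113 (allL N2113 (tt N3815 F10019) (tt N3375 F10020) (tt N3780 F10021) (tt N950 F4710) (tt N4560 (iv4 F10879)) (tt N4564 D6688) (tt N947 (iv6 D3007)) (tt N3814 F10022))
theorem Q2115 : ∀ i, i < 2115 → P i := stepQ 2114 Q2114 (allL N2114 (tt N1764 F10344) (tt N3873 F10345) (tt N3871 F10335) (tt N948 (iv3 D3008)) (tt N4558 (iv4 F10876)) (tt N4565 D6689) (tt N4566 D6690) (tt N2065 F4711))
theorem Q2116 : ∀ i, i < 2116 → P i := stepQ 2115 Q2115 (allL N2115 (tt N4549 (iv1 F10848)) (tt N4548 F10845) (tt N2071 F4712) (tt N4565 (iv3 F10894)) (tt N4567 D6691) (tt N948 (iv5 D3009)) (tt N4568 D6692) (tt N2066 F4713))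
theorem Q2117 : ∀ i, i < 2117 → P i := stepQ 2116 Q2116 (allL N2116 (tt N3892 (iv1 F8973)) (tt N988 F4944) (tt N2072 F4714) (tt N4566 (iv3 F10896)) (tt N950 F4715) (tt N4569 D6693) (tt N948 (iv6 D3010)) (tt N3891 (iv7 F8966)))
theorem Q2118 : ∀ i, i < 2118 → P i := stepQ 2117 Q2117 (allL N2117 (tt N4555 (iv1 F10868)) (tt N4554 F10865) (tt N2073 F4716) (tt N4570 D6694) (tt N949 (iv4 D3011)) (tt N4571 D6695) (tt N3981 (iv6 F9245)) (tt N2069 F4717))
theorem Q2119 : ∀ i, i < 2119 → P i := stepQ 2118 Q2118 (allL N2118 (tt N1097 F4719) (tt N1093 (iv0 F4720)) (tt N2074 F4718) (tt N4564 (iv3 F10891)) (tt N4572 D6696) (tt N950 (iv5 D3012)) (tt N3943 (iv6 F9134)) (tt N2123 F4733))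
theorem Q2120 : ∀ i, i < 2120 → P i := stepQ 2119 Q2119 (allL N2119 (tt N2382 (iv1 F5411)) (tt N1833 F4985) (tt N2076 F4722) (tt N4573 D6697) (tt N951 (iv4 D3014)) (tt N4574 D6698) (tt N4575 D6699) (tt N2078 F4723))
theorem Q2121 : ∀ i, i < 2121 → P i := stepQ 2120 Q2120 (allL N2120 (tt N1801 F4726) (tt N2290 F5296) (tt N2077 F4724) (tt N4128 F10072) (tt N4575 (iv4 F10915)) (tt N1820 F4725) (tt N951 (iv6 D3015)) (tt N2288 F5294))
theorem Q2122 : ∀ i, i < 2122 → P i := stepQ 2121 Q2121 (allL N2121 (tt N1718 F10000) (tt N3782 F10001) (tt N3632 F10002) (tt N952 (iv3 D3016)) (tt N4576 D6700) (tt N1959 F4727) (tt N4577 D6701) (tt N2075 F4728))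
theorem Q2123 : ∀ i, i < 2123 → P i := stepQ 2122 Q2122 (allL N2122 (tt N1833 (iv1 F4983)) (tt N2382 F5410) (tt N2078 F4729) (tt N4578 D6702) (tt N952 (iv4 D3017)) (tt N4579 D6703) (tt N4580 D6704) (tt N2076 F4730))
theorem Q2124 : ∀ i, i < 2124 → P i := stepQ 2123 Q2123 (allL N2123 (tt N1850 F4735) (tt N1851 (iv0 F4734)) (tt N2079 F4731) (tt N4577 (iv3 F10918)) (tt N4580 (iv4 F10927)) (tt N1789 F4732) (tt N952 (iv6 D3018)) (tt N2118 (iv7 F4733)))
theorem Q2125 : ∀ i, i < 2125 → P i := stepQ 2124 Q2124 (allL N2124 (tt N2084 (iv1 F4741)) (tt N953 (iv0 D3019)) (tt N2080 (iv2 F8050)) (tt N4581 D6705) (tt N1991 (iv4 F7729)) (tt N4582 D6706) (tt N4583 D6707) (tt N2081 F8051))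
theorem Q2126 : ∀ i, i < 2126 → P i := stepQ 2125 Q2125 (allL N2125 (tt N953 (iv1 D3020)) (tt N2084 F4736) (tt N2081 F8049) (tt N4584 D6708) (tt N1704 (iv4 F7733)) (tt N4585 D6709) (tt N4586 D6710) (tt N2080 (iv7 F8048)))
theorem Q2127 : ∀ i, i < 2127 → P i := stepQ 2126 Q2126 (allL N2126 (tt N4587 D6711) (tt N4586 (iv0 F26448)) (tt N2444 (iv2 F26437)) (tt N953 (iv3 D3021)) (tt N1850 F26382) (tt N4588 D6714) (tt N1823 F4737) (tt N2451 (iv7 F26449)))
theorem Q2128 : ∀ i, i < 2128 → P i := stepQ 2127 Q2127 (allL N2127 (tt N4589 D6716) (tt N4590 D6717) (tt N2083 F4738) (tt N4588 (iv3 F10946)) (tt N4591 D6718) (tt N953 (iv5 D3022)) (tt N4592 D6719) (tt N4593 D6720))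
theorem Q2129 : ∀ i, i < 2129 → P i := stepQ 2128 Q2128 (allL N2128 (tt N2081 (iv1 F4742)) (tt N2080 F4743) (tt N2084 F4739) (tt N2451 F26451) (tt N954 F4740) (tt N4593 (iv5 F10963)) (tt N2370 (iv6 F5402)) (tt N953 (iv7 D3023)))
theorem Q2130 : ∀ i, i < 2130 → P i := stepQ 2129 Q2129 (allL N2129 (tt N3664 (iv1 F8429)) (tt N1671 (iv0 F4746)) (tt N2132 (iv2 F4751)) (tt N1594 F4744) (tt N955 (iv4 D3024)) (tt N2147 (iv5 F4776)) (tt N4594 D6721) (tt N2129 F4745))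
theorem Q2131 : ∀ i, i < 2131 → P i := stepQ 2130 Q2130 (allL N2130 (tt N2203 (iv1 F19355)) (tt N1774 (iv0 F19356)) (tt N2133 (iv2 F4754)) (tt N3783 (iv3 F8783)) (tt N4594 (iv4 F10967)) (tt N4595 D6724) (tt N955 (iv6 D3025)) (tt N2202 (iv7 F19322)))
theorem Q2132 : ∀ i, i < 2132 → P i := stepQ 2131 Q2131 (allL N2131 (tt N976 (iv1 F4750)) (tt N1763 (iv0 F4749)) (tt N2174 F4829) (tt N956 (iv3 D3026)) (tt N3543 (iv4 F8107)) (tt N1680 F4747) (tt N4596 D6726) (tt N2131 F4748))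
theorem Q2133 : ∀ i, i < 2133 → P i := stepQ 2132 Q2132 (allL N2132 (tt N1671 F4753) (tt N3664 (iv0 F8428)) (tt N2129 F4751) (tt N3544 (iv3 F8111)) (tt N956 (iv4 D3027)) (tt N2148 (iv5 F4782)) (tt N4597 D6727) (tt N2132 F4752))
theorem Q2134 : ∀ i, i < 2134 → P i := stepQ 2133 Q2133 (allL N2133 (tt N986 (iv1 F19315)) (tt N3701 (iv0 F19316)) (tt N2130 F4754) (tt N4596 (iv3 F10970)) (tt N4597 (iv4 F10972)) (tt N4598 D6730) (tt N956 (iv6 D3028)) (tt N3893 (iv7 F19363)))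
theorem Q2135 : ∀ i, i < 2135 → P i := stepQ 2134 Q2134 (allL N2134 (tt N4599 D6732) (tt N4600 D6733) (tt N958 F4755) (tt N2146 (iv3 F4775)) (tt N1681 F4756) (tt N4601 D6734) (tt N957 (iv6 D3029)) (tt N4602 D6735))
theorem Q2136 : ∀ i, i < 2136 → P i := stepQ 2135 Q2135 (allL N2135 (tt N4602 (iv1 F10989)) (tt N958 (iv0 D3030)) (tt N4599 (iv2 F22910)) (tt N4603 D6737) (tt N4604 D6738) (tt N4605 D6739) (tt N4606 D6740) (tt N4600 (iv7 F22914)))
theorem Q2137 : ∀ i, i < 2137 → P i := stepQ 2136 Q2136 (allL N2136 (tt N958 (iv1 D3031)) (tt N4602 F10988) (tt N4600 (iv2 F22913)) (tt N4607 D6742) (tt N4608 D6743) (tt N4609 D6744) (tt N4610 D6745) (tt N4599 (iv7 F22911)))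
theorem Q2138 : ∀ i, i < 2138 → P i := stepQ 2137 Q2137 (allL N2137 (tt N4611 D6746) (tt N4612 D6747) (tt N4601 (iv2 F10983)) (tt N959 F4757) (tt N4613 D6748) (tt N958 (iv5 D3032)) (tt N2152 (iv6 F4788)) (tt N4614 D6749))
theorem Q2139 : ∀ i, i < 2139 → P i := stepQ 2138 Q2138 (allL N2138 (tt N4600 (iv1 F10981)) (tt N4599 F10987) (tt N4602 (iv2 F10984)) (tt N960 F4758) (tt N3688 (iv4 F8462)) (tt N4614 (iv5 F10994)) (tt N2138 F4759) (tt N958 (iv7 D3033)))
theorem Q2140 : ∀ i, i < 2140 → P i := stepQ 2139 Q2139 (allL N2139 (tt N2157 (iv1 F4802)) (tt N959 (iv0 D3044)) (tt N2154 (iv2 F4989)) (tt N4615 D6750) (tt N4452 (iv4 F10618)) (tt N3606 (iv5 F8227)) (tt N4616 D6751) (tt N2155 F4988))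
theorem Q2141 : ∀ i, i < 2141 → P i := stepQ 2140 Q2140 (allL N2140 (tt N959 (iv1 D3045)) (tt N2157 F4801) (tt N2155 F4986) (tt N4617 D6752) (tt N4453 (iv4 F10619)) (tt N1689 (iv5 F4763)) (tt N4618 D6753) (tt N2154 (iv7 F4987)))
theorem Q2142 : ∀ i, i < 2142 → P i := stepQ 2141 Q2141 (allL N2141 (tt N4536 (iv1 F10806)) (tt N4539 (iv0 F10812)) (tt N2156 (iv2 F4796)) (tt N4619 D6754) (tt N959 (iv4 D3046)) (tt N4620 D6755) (tt N2156 (iv6 F4797)) (tt N4621 D6756))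
theorem Q2143 : ∀ i, i < 2143 → P i := stepQ 2142 Q2142 (allL N2142 (tt N2155 (iv1 F4794)) (tt N2154 F4800) (tt N2157 (iv2 F4798)) (tt N4614 (iv3 F10993)) (tt N4621 (iv4 F10997)) (tt N960 F4764) (tt N4622 D6757) (tt N959 (iv7 D3047)))
theorem Q2144 : ∀ i, i < 2144 → P i := stepQ 2143 Q2143 (allL N2143 (tt N968 F4768) (tt N967 F4769) (tt N1559 F4765) (tt N961 (iv3 D3048)) (tt N3657 (iv4 F8396)) (tt N1626 F4766) (tt N4623 D6758) (tt N2143 F4767))
theorem Q2145 : ∀ i, i < 2145 → P i := stepQ 2144 Q2144 (allL N2144 (tt N1771 F10170) (tt N2213 F10171) (tt N1577 F4770) (tt N4623 (iv3 F11002)) (tt N1629 F4771) (tt N4624 D6759) (tt N961 (iv6 D3049)) (tt N2212 (iv7 F10157)))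
theorem Q2146 : ∀ i, i < 2146 → P i := stepQ 2145 Q2145 (allL N2145 (tt N2148 (iv1 F4780)) (tt N2147 F4777) (tt N963 F4772) (tt N3689 (iv3 F8465)) (tt N962 (iv4 D3050)) (tt N3571 (iv5 F8184)) (tt N4625 D6760) (tt N2145 F4773))
theorem Q2147 : ∀ i, i < 2147 → P i := stepQ 2146 Q2146 (allL N2146 (tt N4626 D6761) (tt N4627 D6762) (tt N964 F4774) (tt N2134 F4775) (tt N4625 (iv4 F11006)) (tt N4628 D6763) (tt N962 (iv6 D3051)) (tt N4629 D6764))
theorem Q2148 : ∀ i, i < 2148 → P i := stepQ 2147 Q2147 (allL N2147 (tt N2145 (iv1 F4777)) (tt N963 (iv0 D3052)) (tt N2148 F4783) (tt N1609 (iv3 F4778)) (tt N3571 (iv4 F8185)) (tt N2129 F4776) (tt N4630 D6765) (tt N2147 F4779))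
theorem Q2149 : ∀ i, i < 2149 → P i := stepQ 2148 Q2148 (allL N2148 (tt N963 (iv1 D3053)) (tt N2145 F4780) (tt N2147 (iv2 F4783)) (tt N4254 (iv3 F9835)) (tt N2045 F4781) (tt N2132 F4782) (tt N4631 D6766) (tt N2148 F4784))
theorem Q2150 : ∀ i, i < 2150 → P i := stepQ 2149 Q2149 (allL N2149 (tt N4632 D6767) (tt N4633 D6768) (tt N4625 (iv2 F11005)) (tt N1716 F4785) (tt N964 F4786) (tt N4634 D6769) (tt N963 (iv6 D3054)) (tt N4635 D6770))
theorem Q2151 : ∀ i, i < 2151 → P i := stepQ 2150 Q2150 (allL N2150 (tt N4629 (iv1 F11022)) (tt N964 (iv0 D3055)) (tt N4626 F11011) (tt N3460 F7764) (tt N2431 F10313) (tt N4636 D6771) (tt N4637 D6772) (tt N4627 (iv7 F11010)))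
theorem Q2152 : ∀ i, i < 2152 → P i := stepQ 2151 Q2151 (allL N2151 (tt N964 (iv1 D3056)) (tt N4629 F11021) (tt N4627 (iv2 F11013)) (tt N4638 D6773) (tt N3578 F19494) (tt N4639 D6775) (tt N4640 D6776) (tt N4626 F11012))
theorem Q2153 : ∀ i, i < 2153 → P i := stepQ 2152 Q2152 (allL N2152 (tt N4641 D6777) (tt N4642 D6778) (tt N4628 (iv2 F11015)) (tt N965 F4787) (tt N4643 D6779) (tt N964 (iv5 D3057)) (tt N2137 F4788) (tt N4644 D6780))
theorem Q2154 : ∀ i, i < 2154 → P i := stepQ 2153 Q2153 (allL N2153 (tt N4627 (iv1 F11007)) (tt N4626 F11014) (tt N4629 (iv2 F11018)) (tt N966 F4789) (tt N4635 (iv4 F11028)) (tt N4644 (iv5 F11034)) (tt N2153 F4790) (tt N964 (iv7 D3058)))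
theorem Q2155 : ∀ i, i < 2155 → P i := stepQ 2154 Q2154 (allL N2154 (tt N2142 (iv1 F4800)) (tt N965 (iv0 D3069)) (tt N2139 F4989) (tt N4645 D6781) (tt N4541 (iv4 F10815)) (tt N3717 (iv5 F8523)) (tt N4646 D6782) (tt N2140 F4987))
theorem Q2156 : ∀ i, i < 2156 → P i := stepQ 2155 Q2155 (allL N2155 (tt N965 (iv1 D3070)) (tt N2142 F4794) (tt N2140 (iv2 F4986)) (tt N4647 D6783) (tt N4542 (iv4 F10821)) (tt N1636 (iv5 F4795)) (tt N4648 D6784) (tt N2139 (iv7 F4988)))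
theorem Q2157 : ∀ i, i < 2157 → P i := stepQ 2156 Q2156 (allL N2156 (tt N4447 (iv1 F10614)) (tt N4450 (iv0 F10616)) (tt N2141 F4796) (tt N4649 D6785) (tt N965 (iv4 D3071)) (tt N4650 D6786) (tt N2141 F4797) (tt N4651 D6787))
theorem Q2158 : ∀ i, i < 2158 → P i := stepQ 2157 Q2157 (allL N2157 (tt N2140 (iv1 F4801)) (tt N2139 F4802) (tt N2142 F4798) (tt N4644 (iv3 F11033)) (tt N4651 (iv4 F11045)) (tt N966 F4799) (tt N4652 D6788) (tt N965 (iv7 D3072)))
theorem Q2159 : ∀ i, i < 2159 → P i := stepQ 2158 Q2158 (allL N2158 (tt N4653 D6789) (tt N4654 D6790) (tt N2159 (iv2 F4805)) (tt N969 F4803) (tt N971 F4804) (tt N4655 D6791) (tt N967 (iv6 D3073)) (tt N4656 D6792))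
theorem Q2160 : ∀ i, i < 2160 → P i := stepQ 2159 Q2159 (allL N2159 (tt N4657 D6793) (tt N4638 (iv0 F22508)) (tt N2158 F4805) (tt N3472 (iv3 F7782)) (tt N969 F4806) (tt N4658 D6795) (tt N968 (iv6 D3074)) (tt N4659 D6796))
theorem Q2161 : ∀ i, i < 2161 → P i := stepQ 2160 Q2160 (allL N2160 (tt N2166 (iv1 F4815)) (tt N969 (iv0 D3075)) (tt N2106 (iv2 F22482)) (tt N3868 (iv3 F22483)) (tt N4320 (iv4 F22484)) (tt N4660 D6800) (tt N4661 D6801) (tt N2164 F22505))
theorem Q2162 : ∀ i, i < 2162 → P i := stepQ 2161 Q2161 (allL N2161 (tt N4662 D6807) (tt N4617 (iv0 F22539)) (tt N2165 (iv2 F4810)) (tt N4655 (iv3 F11051)) (tt N4663 D6809) (tt N969 (iv5 D3077)) (tt N3869 (iv6 F8920)) (tt N4664 D6810))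
theorem Q2163 : ∀ i, i < 2163 → P i := stepQ 2162 Q2162 (allL N2162 (tt N2164 (iv1 F4809)) (tt N2106 (iv0 F22500)) (tt N2166 (iv2 F4811)) (tt N4656 (iv3 F11052)) (tt N4659 (iv4 F11058)) (tt N4664 (iv5 F11065)) (tt N2162 F4807) (tt N969 (iv7 D3078)))
theorem Q2164 : ∀ i, i < 2164 → P i := stepQ 2163 Q2163 (allL N2163 (tt N4423 (iv1 F22499)) (tt N4427 (iv0 F22517)) (tt N3472 (iv2 F7781)) (tt N971 F4808) (tt N3472 (iv4 F7783)) (tt N4665 D6813) (tt N970 (iv6 D3079)) (tt N4666 D6814))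
theorem Q2165 : ∀ i, i < 2165 → P i := stepQ 2164 Q2164 (allL N2164 (tt N971 (iv1 D3081)) (tt N2162 F4809) (tt N2070 (iv2 F22502)) (tt N3871 (iv3 F22503)) (tt N4324 (iv4 F22504)) (tt N4667 D6823) (tt N4668 D6824) (tt N2160 (iv7 F22505)))
theorem Q2166 : ∀ i, i < 2166 → P i := stepQ 2165 Q2165 (allL N2165 (tt N4645 (iv1 F22527)) (tt N4669 D6826) (tt N2161 F4810) (tt N4665 (iv3 F11066)) (tt N4670 D6827) (tt N971 (iv5 D3082)) (tt N3872 (iv6 F8925)) (tt N4671 D6828))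
theorem Q2167 : ∀ i, i < 2167 → P i := stepQ 2166 Q2166 (allL N2166 (tt N2070 (iv1 F22494)) (tt N2160 F4815) (tt N2162 F4811) (tt N4666 (iv3 F11068)) (tt N4656 (iv4 F11053)) (tt N4671 (iv5 F11075)) (tt N2166 F4812) (tt N971 (iv7 D3083)))
theorem Q2168 : ∀ i, i < 2168 → P i := stepQ 2167 Q2167 (allL N2167 (tt N4524 F10768) (tt N4672 D6829) (tt N977 F4816) (tt N2426 (iv3 F5450)) (tt N3867 (iv4 F8919)) (tt N4673 D6830) (tt N972 (iv6 D3084)) (tt N4674 D6831))
theorem Q2169 : ∀ i, i < 2169 → P i := stepQ 2168 Q2168 (allL N2168 (tt N981 (iv1 F4821)) (tt N973 (iv0 D3085)) (tt N978 (iv2 F11162)) (tt N4675 D6833) (tt N2180 (iv4 F5179)) (tt N4676 D6834) (tt N4677 D6835) (tt N979 (iv7 F11166)))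
theorem Q2170 : ∀ i, i < 2170 → P i := stepQ 2169 Q2169 (allL N2169 (tt N973 (iv1 D3086)) (tt N981 F4817) (tt N979 F11167) (tt N2185 F4927) (tt N4678 D6837) (tt N4679 D6838) (tt N4680 D6839) (tt N978 F11168))
theorem Q2171 : ∀ i, i < 2171 → P i := stepQ 2170 Q2170 (allL N2170 (tt N4681 D6840) (tt N4682 D6841) (tt N980 F4818) (tt N3875 (iv3 F8935)) (tt N4683 D6842) (tt N973 (iv5 D3087)) (tt N4673 (iv6 F11084)) (tt N4684 D6843))
theorem Q2172 : ∀ i, i < 2172 → P i := stepQ 2171 Q2171 (allL N2171 (tt N979 (iv1 F4822)) (tt N978 F4823) (tt N981 F4819) (tt N3876 (iv3 F8937)) (tt N4330 (iv4 F10457)) (tt N4684 (iv5 F11095)) (tt N2171 F4820) (tt N973 (iv7 D3088)))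
theorem Q2173 : ∀ i, i < 2173 → P i := stepQ 2172 Q2172 (allL N2172 (tt N3598 F10116) (tt N1690 F10117) (tt N2173 (iv2 F4824)) (tt N3791 (iv3 F8810)) (tt N3388 (iv4 F7583)) (tt N4685 D6844) (tt N974 (iv6 D3089)) (tt N3597 (iv7 F10165)))
theorem Q2174 : ∀ i, i < 2174 → P i := stepQ 2173 Q2173 (allL N2173 (tt N1634 F10163) (tt N3719 F10164) (tt N2172 F4824) (tt N1521 F4825) (tt N1531 F4826) (tt N4686 D6845) (tt N975 (iv6 D3090)) (tt N3718 (iv7 F10118)))
theorem Q2175 : ∀ i, i < 2175 → P i := stepQ 2174 Q2174 (allL N2174 (tt N1763 (iv1 F4830)) (tt N976 (iv0 D3091)) (tt N2131 (iv2 F4829)) (tt N1728 F4828) (tt N4254 (iv4 F9834)) (tt N1727 F4827) (tt N4687 D6846) (tt N2174 F4831))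
theorem Q2176 : ∀ i, i < 2176 → P i := stepQ 2175 Q2175 (allL N2175 (tt N4688 D6847) (tt N4607 (iv0 F22915)) (tt N3867 (iv2 F8917)) (tt N1576 F4832) (tt N977 F4833) (tt N4689 D6849) (tt N976 (iv6 D3092)) (tt N4690 D6850))
theorem Q2177 : ∀ i, i < 2177 → P i := stepQ 2176 Q2176 (allL N2176 (tt N4674 (iv1 F11088)) (tt N977 (iv0 D3093)) (tt N4524 (iv2 F10769)) (tt N4691 D6851) (tt N4523 F10770) (tt N4692 D6852) (tt N4693 D6853) (tt N4672 (iv7 F11080)))
theorem Q2178 : ∀ i, i < 2178 → P i := stepQ 2177 Q2177 (allL N2177 (tt N977 (iv1 D3094)) (tt N4674 F11087) (tt N4672 F11081) (tt N3778 (iv3 F10318)) (tt N2056 F10319) (tt N4694 D6854) (tt N4695 D6855) (tt N4524 (iv7 F10767)))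
theorem Q2179 : ∀ i, i < 2179 → P i := stepQ 2178 Q2178 (allL N2178 (tt N4696 D6856) (tt N4697 D6857) (tt N4673 (iv2 F11083)) (tt N984 F4834) (tt N4698 D6858) (tt N977 (iv5 D3095)) (tt N980 F4835) (tt N4699 D6859))
theorem Q2180 : ∀ i, i < 2180 → P i := stepQ 2179 Q2179 (allL N2179 (tt N4672 (iv1 F11079)) (tt N4524 (iv0 F10771)) (tt N4674 (iv2 F11085)) (tt N985 F4836) (tt N4690 (iv4 F11108)) (tt N4699 (iv5 F11115)) (tt N2179 F4837) (tt N977 (iv7 D3096)))
theorem Q2181 : ∀ i, i < 2181 → P i := stepQ 2180 Q2180 (allL N2180 (tt N4700 D6866) (tt N3438 (iv0 F10348)) (tt N2181 (iv2 F11169)) (tt N978 (iv3 D3098)) (tt N2168 F5179) (tt N4701 D6868) (tt N4702 D6869) (tt N2185 (iv7 F11170)))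
theorem Q2182 : ∀ i, i < 2182 → P i := stepQ 2181 Q2181 (allL N2181 (tt N4703 D6871) (tt N4623 (iv0 F11148)) (tt N2180 F11169) (tt N4704 D6873) (tt N978 (iv4 D3099)) (tt N4705 D6874) (tt N4706 D6875) (tt N4678 (iv7 F11172)))
theorem Q2183 : ∀ i, i < 2183 → P i := stepQ 2182 Q2182 (allL N2182 (tt N4707 D6877) (tt N4708 D6878) (tt N4676 (iv2 F11163)) (tt N4701 (iv3 F11127)) (tt N4709 D6879) (tt N978 (iv5 D3100)) (tt N4710 D6880) (tt N4679 (iv7 F11174)))
theorem Q2184 : ∀ i, i < 2184 → P i := stepQ 2183 Q2183 (allL N2183 (tt N4668 (iv1 F22556)) (tt N4711 D6883) (tt N4677 (iv2 F11165)) (tt N4702 (iv3 F11128)) (tt N4706 (iv4 F11140)) (tt N4712 D6884) (tt N978 (iv6 D3101)) (tt N4713 D6885))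
theorem Q2185 : ∀ i, i < 2185 → P i := stepQ 2184 Q2184 (allL N2184 (tt N3787 (iv1 F19403)) (tt N4714 D6888) (tt N4715 D6889) (tt N979 (iv3 D3103)) (tt N4715 F11156) (tt N4716 D6890) (tt N4717 D6891) (tt N4675 (iv7 F11161)))
theorem Q2186 : ∀ i, i < 2186 → P i := stepQ 2185 Q2185 (allL N2185 (tt N4623 (iv1 F11149)) (tt N4703 F11143) (tt N4678 (iv2 F11171)) (tt N2169 (iv3 F4927)) (tt N979 (iv4 D3104)) (tt N4718 D6892) (tt N4719 D6893) (tt N2180 F11170))
theorem Q2187 : ∀ i, i < 2187 → P i := stepQ 2186 Q2186 (allL N2186 (tt N4708 (iv1 F11150)) (tt N4707 F11153) (tt N4679 (iv2 F11173)) (tt N4716 (iv3 F11180)) (tt N4720 D6894) (tt N979 (iv5 D3105)) (tt N4721 D6895) (tt N4676 (iv7 F11164)))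
theorem Q2188 : ∀ i, i < 2188 → P i := stepQ 2187 Q2187 (allL N2187 (tt N4306 F22474) (tt N4661 (iv0 F22485)) (tt N4680 (iv2 F11175)) (tt N4717 (iv3 F11181)) (tt N4719 (iv4 F11185)) (tt N4722 D6898) (tt N979 (iv6 D3106)) (tt N4723 D6899))
theorem Q2189 : ∀ i, i < 2189 → P i := stepQ 2188 Q2188 (allL N2188 (tt N4684 (iv1 F11098)) (tt N980 (iv0 D3107)) (tt N4681 F26013) (tt N4724 D6901) (tt N4725 D6902) (tt N4726 D6903) (tt N4727 D6904) (tt N4682 (iv7 F26020)))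
theorem Q2190 : ∀ i, i < 2190 → P i := stepQ 2189 Q2189 (allL N2189 (tt N980 (iv1 D3108)) (tt N4684 F11097) (tt N4682 (iv2 F26019)) (tt N4728 D6906) (tt N4729 D6907) (tt N4730 D6908) (tt N4731 D6909) (tt N4681 F26018))
theorem Q2191 : ∀ i, i < 2191 → P i := stepQ 2190 Q2190 (allL N2190 (tt N4732 D6910) (tt N4733 D6911) (tt N4683 (iv2 F11093)) (tt N4734 D6912) (tt N980 (iv4 D3109)) (tt N4735 D6913) (tt N4698 (iv6 F11113)) (tt N4736 D6914))
theorem Q2192 : ∀ i, i < 2192 → P i := stepQ 2191 Q2191 (allL N2191 (tt N4682 (iv1 F11092)) (tt N4681 F11096) (tt N4684 (iv2 F11094)) (tt N995 F4840) (tt N4736 (iv4 F11189)) (tt N981 F4841) (tt N4737 D6915) (tt N980 (iv7 D3110)))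
theorem Q2193 : ∀ i, i < 2193 → P i := stepQ 2192 Q2192 (allL N2192 (tt N3688 F10310) (tt N1681 F10311) (tt N3686 F10317) (tt N982 (iv3 D3112)) (tt N4512 (iv4 F10753)) (tt N4738 D6916) (tt N4739 D6917) (tt N2434 F7852))
theorem Q2194 : ∀ i, i < 2194 → P i := stepQ 2193 Q2193 (allL N2193 (tt N4479 (iv1 F10651)) (tt N4740 D6918) (tt N2432 F7859) (tt N4738 (iv3 F11192)) (tt N4741 D6919) (tt N982 (iv5 D3114)) (tt N4742 D6920) (tt N2435 F7853))
theorem Q2195 : ∀ i, i < 2195 → P i := stepQ 2194 Q2194 (allL N2194 (tt N1639 F8235) (tt N3725 F8548) (tt N2433 (iv2 F7866)) (tt N4739 (iv3 F11193)) (tt N1601 F4910) (tt N993 F4843) (tt N982 (iv6 D3115)) (tt N3724 (iv7 F8543)))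
theorem Q2196 : ∀ i, i < 2196 → P i := stepQ 2195 Q2195 (allL N2195 (tt N1625 F19449) (tt N3580 F19450) (tt N3578 F19492) (tt N983 (iv3 D3117)) (tt N4627 (iv4 F11009)) (tt N4743 D6923) (tt N4744 D6924) (tt N2431 (iv7 F7857)))
theorem Q2197 : ∀ i, i < 2197 → P i := stepQ 2196 Q2196 (allL N2196 (tt N4740 (iv1 F11196)) (tt N4479 (iv0 F10650)) (tt N2435 F7854) (tt N4743 (iv3 F11200)) (tt N4745 D6925) (tt N983 (iv5 D3119)) (tt N4746 D6926) (tt N2432 (iv7 F7858)))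
theorem Q2198 : ∀ i, i < 2198 → P i := stepQ 2197 Q2197 (allL N2197 (tt N3606 F8228) (tt N1689 F8520) (tt N2436 F7855) (tt N4744 (iv3 F11201)) (tt N1603 F4932) (tt N4548 (iv5 F10844)) (tt N983 (iv6 D3120)) (tt N3605 (iv7 F8224)))
theorem Q2199 : ∀ i, i < 2199 → P i := stepQ 2198 Q2198 (allL N2198 (tt N2440 (iv1 F5479)) (tt N984 (iv0 D3121)) (tt N2437 (iv2 F5467)) (tt N4747 D6927) (tt N4748 D6928) (tt N3892 (iv5 F8970)) (tt N4749 D6929) (tt N2438 (iv7 F5469)))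
theorem Q2200 : ∀ i, i < 2200 → P i := stepQ 2199 Q2199 (allL N2199 (tt N984 (iv1 D3122)) (tt N2440 F5478) (tt N2438 (iv2 F5471)) (tt N4750 D6930) (tt N4751 D6931) (tt N988 (iv5 F4845)) (tt N4752 D6932) (tt N2437 F5466))
theorem Q2201 : ∀ i, i < 2201 → P i := stepQ 2200 Q2200 (allL N2200 (tt N4753 D6933) (tt N4754 D6934) (tt N2439 (iv2 F5474)) (tt N4755 D6935) (tt N984 (iv4 D3123)) (tt N4756 D6936) (tt N994 F4846) (tt N4757 D6937))
theorem Q2202 : ∀ i, i < 2202 → P i := stepQ 2201 Q2201 (allL N2201 (tt N2438 (iv1 F5468)) (tt N2437 F5472) (tt N2440 (iv2 F5476)) (tt N4699 (iv3 F11114)) (tt N4757 (iv4 F11209)) (tt N985 F4847) (tt N4758 D6938) (tt N984 (iv7 D3124)))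
theorem Q2203 : ∀ i, i < 2203 → P i := stepQ 2202 Q2202 (allL N2202 (tt N3701 (iv1 F10146)) (tt N986 (iv0 D3131)) (tt N3893 (iv2 F19361)) (tt N4714 (iv3 F11158)) (tt N4759 D6940) (tt N4760 D6941) (tt N2202 F19324) (tt N2130 F19322))
theorem Q2204 : ∀ i, i < 2204 → P i := stepQ 2203 Q2203 (allL N2203 (tt N3893 (iv1 F8978)) (tt N2130 F19355) (tt N986 (iv2 D3133)) (tt N3475 (iv3 F10152)) (tt N3694 F10144) (tt N4761 D6948) (tt N4762 D6949) (tt N3701 (iv7 F10149)))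
theorem Q2205 : ∀ i, i < 2205 → P i := stepQ 2204 Q2204 (allL N2204 (tt N4763 D6950) (tt N4764 D6951) (tt N4761 (iv2 F11215)) (tt N987 F4856) (tt N4765 D6952) (tt N986 (iv5 D3135)) (tt N4766 D6953) (tt N3894 (iv7 F8983)))
theorem Q2206 : ∀ i, i < 2206 → P i := stepQ 2205 Q2205 (allL N2205 (tt N4767 D6954) (tt N4768 D6955) (tt N4762 (iv2 F11216)) (tt N988 F4857) (tt N3699 (iv4 F10173)) (tt N4750 (iv5 F11203)) (tt N986 (iv6 D3136)) (tt N4769 D6956))
theorem Q2207 : ∀ i, i < 2207 → P i := stepQ 2206 Q2206 (allL N2206 (tt N990 (iv1 F4899)) (tt N987 (iv0 D3144)) (tt N3613 (iv2 F8232)) (tt N4770 D6957) (tt N4771 D6958) (tt N1692 (iv5 F4881)) (tt N4772 D6959) (tt N3888 (iv7 F8956)))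
theorem Q2208 : ∀ i, i < 2208 → P i := stepQ 2207 Q2207 (allL N2207 (tt N987 (iv1 D3145)) (tt N990 F4896) (tt N3888 F8958) (tt N4708 (iv3 F22558)) (tt N4773 D6961) (tt N3614 (iv5 F8239)) (tt N4774 D6962) (tt N3613 F8237))
theorem Q2209 : ∀ i, i < 2209 → P i := stepQ 2208 Q2208 (allL N2208 (tt N4775 D6963) (tt N4776 D6964) (tt N3889 (iv2 F8959)) (tt N4777 D6965) (tt N987 (iv4 D3146)) (tt N4778 D6966) (tt N4779 D6967) (tt N3896 (iv7 F8986)))
theorem Q2210 : ∀ i, i < 2210 → P i := stepQ 2209 Q2209 (allL N2209 (tt N4780 D6968) (tt N4781 D6969) (tt N3890 (iv2 F8961)) (tt N4766 (iv3 F11217)) (tt N4779 (iv4 F11233)) (tt N4752 (iv5 F11205)) (tt N987 (iv6 D3147)) (tt N4782 D6970))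
theorem Q2211 : ∀ i, i < 2211 → P i := stepQ 2210 Q2210 (allL N2210 (tt N988 (iv1 D3150)) (tt N3892 F8972) (tt N3891 (iv2 F8965)) (tt N4711 (iv3 F22552)) (tt N1003 F4941) (tt N4783 D6972) (tt N1979 (iv6 F4942)) (tt N2072 F4943))
theorem Q2212 : ∀ i, i < 2212 → P i := stepQ 2211 Q2211 (allL N2211 (tt N3891 (iv1 F8962)) (tt N2072 F5473) (tt N3892 (iv2 F8968)) (tt N4769 (iv3 F11218)) (tt N2017 F4945) (tt N2437 (iv5 F5465)) (tt N3746 (iv6 F8658)) (tt N988 (iv7 D3151)))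
theorem Q2213 : ∀ i, i < 2213 → P i := stepQ 2212 Q2212 (allL N2212 (tt N989 (iv1 D3154)) (tt N3475 (iv0 F10150)) (tt N3477 (iv2 F10158)) (tt N4700 F11135) (tt N3584 (iv4 F10159)) (tt N4784 D6973) (tt N2212 F10160) (tt N2144 F10157))
theorem Q2214 : ∀ i, i < 2214 → P i := stepQ 2213 Q2213 (allL N2213 (tt N2144 (iv1 F10171)) (tt N3477 (iv0 F10168)) (tt N989 (iv2 D3155)) (tt N3701 (iv3 F10148)) (tt N4785 D6974) (tt N4786 D6975) (tt N4787 D6976) (tt N3475 (iv7 F10153)))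
theorem Q2215 : ∀ i, i < 2215 → P i := stepQ 2214 Q2214 (allL N2214 (tt N4630 (iv1 F19391)) (tt N4788 D6978) (tt N4785 (iv2 F11243)) (tt N2018 F4948) (tt N989 (iv4 D3156)) (tt N4789 D6979) (tt N4790 D6980) (tt N3808 (iv7 F8826)))
theorem Q2216 : ∀ i, i < 2216 → P i := stepQ 2215 Q2215 (allL N2215 (tt N4791 D6981) (tt N4792 D6982) (tt N4786 (iv2 F11244)) (tt N990 F4949) (tt N4793 D6983) (tt N989 (iv5 D3157)) (tt N4794 D6984) (tt N3886 (iv7 F8953)))
theorem Q2217 : ∀ i, i < 2217 → P i := stepQ 2216 Q2216 (allL N2216 (tt N4795 D6985) (tt N4796 D6986) (tt N4787 (iv2 F11245)) (tt N991 F4950) (tt N4790 (iv4 F11248)) (tt N4797 D6987) (tt N989 (iv6 D3158)) (tt N4798 D6988))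
theorem Q2218 : ∀ i, i < 2218 → P i := stepQ 2217 Q2217 (allL N2217 (tt N4776 (iv1 F11228)) (tt N4775 F11227) (tt N3896 (iv2 F8985)) (tt N4799 D6989) (tt N990 (iv4 D3159)) (tt N4800 D6990) (tt N4801 D6991) (tt N3889 (iv7 F8960)))
theorem Q2219 : ∀ i, i < 2219 → P i := stepQ 2218 Q2218 (allL N2218 (tt N4802 D6992) (tt N4803 D6993) (tt N3897 (iv2 F8987)) (tt N4794 (iv3 F11249)) (tt N4801 (iv4 F11255)) (tt N4804 D6994) (tt N990 (iv6 D3160)) (tt N4805 D6995))
theorem Q2220 : ∀ i, i < 2220 → P i := stepQ 2219 Q2219 (allL N2219 (tt N1638 (iv1 F4965)) (tt N1635 F4952) (tt N3712 F8507) (tt N4797 (iv3 F11250)) (tt N4806 D6996) (tt N991 (iv5 D3161)) (tt N4804 (iv6 F11258)) (tt N3713 (iv7 F8510)))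
theorem Q2221 : ∀ i, i < 2221 → P i := stepQ 2220 Q2220 (allL N2220 (tt N1963 (iv1 F4993)) (tt N1960 F4994) (tt N3746 (iv2 F8657)) (tt N4798 (iv3 F11251)) (tt N1650 F4992) (tt N3713 (iv5 F8511)) (tt N3892 (iv6 F8971)) (tt N991 (iv7 D3162)))
theorem Q2222 : ∀ i, i < 2222 → P i := stepQ 2221 Q2221 (allL N2221 (tt N4760 (iv1 F20386)) (tt N4598 (iv0 F19320)) (tt N4807 D6999) (tt N992 (iv3 D3164)) (tt N4808 D7000) (tt N4809 D7001) (tt N4810 D7002) (tt N3901 (iv7 F8993)))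
theorem Q2223 : ∀ i, i < 2223 → P i := stepQ 2222 Q2222 (allL N2222 (tt N4811 D7003) (tt N2010 (iv0 F5486)) (tt N3899 (iv2 F8989)) (tt N4812 D7004) (tt N992 (iv4 D3165)) (tt N4813 D7005) (tt N4814 D7006) (tt N3902 (iv7 F8995)))
theorem Q2224 : ∀ i, i < 2224 → P i := stepQ 2223 Q2223 (allL N2223 (tt N3725 (iv1 F8549)) (tt N1639 F4997) (tt N3724 F8541) (tt N4809 (iv3 F11261)) (tt N1660 F4996) (tt N992 (iv5 D3166)) (tt N3605 F8223) (tt N2433 F7870))
theorem Q2225 : ∀ i, i < 2225 → P i := stepQ 2224 Q2224 (allL N2224 (tt N4815 D7007) (tt N4816 D7008) (tt N3900 (iv2 F8992)) (tt N4810 (iv3 F11262)) (tt N4814 (iv4 F11269)) (tt N4817 D7009) (tt N992 (iv6 D3167)) (tt N4818 D7010))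
theorem Q2226 : ∀ i, i < 2226 → P i := stepQ 2225 Q2225 (allL N2225 (tt N3476 F11195) (tt N4784 F11242) (tt N4819 D7011) (tt N993 (iv3 D3169)) (tt N4820 D7012) (tt N4739 F11194) (tt N4821 D7013) (tt N3898 (iv7 F8988)))
theorem Q2227 : ∀ i, i < 2227 → P i := stepQ 2226 Q2226 (allL N2226 (tt N2010 F4999) (tt N4811 F11266) (tt N3902 (iv2 F8994)) (tt N4822 D7014) (tt N993 (iv4 D3170)) (tt N4823 D7015) (tt N4824 D7016) (tt N3899 (iv7 F8990)))
theorem Q2228 : ∀ i, i < 2228 → P i := stepQ 2227 Q2227 (allL N2227 (tt N4825 D7017) (tt N4826 D7018) (tt N3903 (iv2 F8997)) (tt N4821 (iv3 F11272)) (tt N4824 (iv4 F11274)) (tt N4742 (iv5 F11199)) (tt N993 (iv6 D3171)) (tt N4827 D7019))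
theorem Q2229 : ∀ i, i < 2229 → P i := stepQ 2228 Q2228 (allL N2228 (tt N3908 (iv1 F9013)) (tt N994 (iv0 D3172)) (tt N3904 F8999) (tt N4828 D7020) (tt N3393 (iv4 F8236)) (tt N4829 D7021) (tt N4830 D7022) (tt N3905 (iv7 F9003)))
theorem Q2230 : ∀ i, i < 2230 → P i := stepQ 2229 Q2229 (allL N2229 (tt N994 (iv1 D3173)) (tt N3908 F9012) (tt N3905 F9005) (tt N4831 D7023) (tt N3394 F7601) (tt N4832 D7024) (tt N4833 D7025) (tt N3904 F9000))
theorem Q2231 : ∀ i, i < 2231 → P i := stepQ 2230 Q2230 (allL N2230 (tt N4834 D7026) (tt N4835 D7027) (tt N4836 D7028) (tt N994 (iv3 D3174)) (tt N4734 (iv4 F11188)) (tt N4837 D7029) (tt N4755 (iv6 F11208)) (tt N4838 D7030))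
theorem Q2232 : ∀ i, i < 2232 → P i := stepQ 2231 Q2231 (allL N2231 (tt N4839 D7031) (tt N4840 D7032) (tt N3907 (iv2 F9006)) (tt N4837 (iv3 F11277)) (tt N3960 (iv4 F9172)) (tt N994 (iv5 D3175)) (tt N4841 D7033) (tt N3958 F9168))
theorem Q2233 : ∀ i, i < 2233 → P i := stepQ 2232 Q2232 (allL N2232 (tt N3905 (iv1 F9002)) (tt N3904 F9001) (tt N3908 (iv2 F9009)) (tt N4838 (iv3 F11278)) (tt N995 F5000) (tt N3958 (iv5 F9167)) (tt N4842 D7034) (tt N994 (iv7 D3176)))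
theorem Q2234 : ∀ i, i < 2234 → P i := stepQ 2233 Q2233 (allL N2233 (tt N4843 D7035) (tt N4844 D7036) (tt N3909 (iv2 F9014)) (tt N4737 (iv3 F11190)) (tt N4842 (iv4 F11285)) (tt N2233 F5001) (tt N995 (iv6 D3177)) (tt N4758 (iv7 F11211)))
theorem Q2235 : ∀ i, i < 2235 → P i := stepQ 2234 Q2234 (allL N2234 (tt N3500 (iv1 F9975)) (tt N996 (iv0 D3212)) (tt N3926 (iv2 F19404)) (tt N4845 D7038) (tt N4846 D7039) (tt N4847 D7040) (tt N2234 F19366) (tt N2046 F19365))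
theorem Q2236 : ∀ i, i < 2236 → P i := stepQ 2235 Q2235 (allL N2235 (tt N3926 (iv1 F9091)) (tt N2046 F19400) (tt N996 (iv2 D3214)) (tt N1674 F9973) (tt N2235 F5182) (tt N4848 D7047) (tt N4849 D7048) (tt N3500 (iv7 F9977)))
theorem Q2237 : ∀ i, i < 2237 → P i := stepQ 2236 Q2236 (allL N2236 (tt N4850 D7049) (tt N4851 D7050) (tt N4848 (iv2 F11295)) (tt N997 F5016) (tt N4852 D7051) (tt N996 (iv5 D3215)) (tt N4853 D7052) (tt N3927 (iv7 F9094)))
theorem Q2238 : ∀ i, i < 2238 → P i := stepQ 2237 Q2237 (allL N2237 (tt N4854 D7053) (tt N4855 D7054) (tt N4849 (iv2 F11297)) (tt N998 F5017) (tt N2237 F5176) (tt N4856 D7055) (tt N996 (iv6 D3216)) (tt N4857 D7056))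
theorem Q2239 : ∀ i, i < 2239 → P i := stepQ 2238 Q2238 (allL N2238 (tt N1010 (iv1 F5018)) (tt N997 (iv0 D3217)) (tt N3762 (iv2 F8711)) (tt N4858 D7057) (tt N4859 D7058) (tt N1658 (iv5 F5083)) (tt N4860 D7059) (tt N3914 (iv7 F9042)))
theorem Q2240 : ∀ i, i < 2240 → P i := stepQ 2239 Q2239 (allL N2239 (tt N997 (iv1 D3218)) (tt N1010 F5019) (tt N3914 F9044) (tt N4861 D7060) (tt N4862 D7061) (tt N3763 (iv5 F8717)) (tt N4863 D7062) (tt N3762 F8714))
theorem Q2241 : ∀ i, i < 2241 → P i := stepQ 2240 Q2240 (allL N2240 (tt N4771 (iv1 F11221)) (tt N4773 (iv0 F11223)) (tt N3915 (iv2 F9045)) (tt N4864 D7063) (tt N997 (iv4 D3219)) (tt N4839 (iv5 F11279)) (tt N4865 D7064) (tt N3929 (iv7 F9098)))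
theorem Q2242 : ∀ i, i < 2242 → P i := stepQ 2241 Q2241 (allL N2241 (tt N4866 D7065) (tt N4867 D7066) (tt N3916 (iv2 F9047)) (tt N4853 (iv3 F11300)) (tt N4865 (iv4 F11315)) (tt N4868 D7067) (tt N997 (iv6 D3220)) (tt N4869 D7068))
theorem Q2243 : ∀ i, i < 2243 → P i := stepQ 2242 Q2242 (allL N2242 (tt N998 (iv1 D3222)) (tt N3917 F9052) (tt N3748 (iv2 F8664)) (tt N4870 D7069) (tt N1652 (iv4 F5077)) (tt N4871 D7070) (tt N1651 (iv6 F5080)) (tt N2058 (iv7 F5107)))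
theorem Q2244 : ∀ i, i < 2244 → P i := stepQ 2243 Q2243 (allL N2243 (tt N1614 F5076) (tt N3527 F7929) (tt N3525 (iv2 F7926)) (tt N4856 (iv3 F11301)) (tt N4754 (iv4 F11207)) (tt N998 (iv5 D3223)) (tt N4868 (iv6 F11316)) (tt N3524 F7924))
theorem Q2245 : ∀ i, i < 2245 → P i := stepQ 2244 Q2244 (allL N2244 (tt N3748 F8668) (tt N2058 F8004) (tt N3917 (iv2 F9048)) (tt N4857 (iv3 F11302)) (tt N1005 F5020) (tt N3524 (iv5 F7923)) (tt N3645 F8305) (tt N998 (iv7 D3224)))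
theorem Q2246 : ∀ i, i < 2246 → P i := stepQ 2245 Q2245 (allL N2245 (tt N2019 F10011) (tt N3374 F10012) (tt N3754 F10013) (tt N999 (iv3 D3225)) (tt N4872 D7071) (tt N1678 F10014) (tt N2064 F5022) (tt N3811 (iv7 F10037)))
theorem Q2247 : ∀ i, i < 2247 → P i := stepQ 2246 Q2246 (allL N2246 (tt N2021 F5024) (tt N2015 F7629) (tt N3918 (iv2 F9057)) (tt N4873 D7072) (tt N999 (iv4 D3226)) (tt N4874 D7073) (tt N2069 F5023) (tt N3919 (iv7 F9066)))
theorem Q2248 : ∀ i, i < 2248 → P i := stepQ 2247 Q2247 (allL N2247 (tt N2015 F5025) (tt N2021 F7611) (tt N3919 (iv2 F9064)) (tt N4875 D7074) (tt N1000 (iv4 D3228)) (tt N4876 D7075) (tt N3982 (iv6 F9250)) (tt N3918 (iv7 F9059)))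
theorem Q2249 : ∀ i, i < 2249 → P i := stepQ 2248 Q2248 (allL N2248 (tt N1012 (iv1 F5026)) (tt N1001 (iv0 D3229)) (tt N3765 (iv2 F8723)) (tt N4877 D7076) (tt N1661 (iv4 F5178)) (tt N4878 D7077) (tt N4316 (iv6 F10434)) (tt N3920 (iv7 F9070)))
theorem Q2250 : ∀ i, i < 2250 → P i := stepQ 2249 Q2249 (allL N2249 (tt N1001 (iv1 D3230)) (tt N1012 F5027) (tt N3920 F9072) (tt N4879 D7078) (tt N2621 (iv4 F8001)) (tt N4880 D7079) (tt N2619 F8002) (tt N3765 (iv7 F8724)))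
theorem Q2251 : ∀ i, i < 2251 → P i := stepQ 2250 Q2250 (allL N2250 (tt N4881 D7080) (tt N4882 D7081) (tt N4883 D7082) (tt N1001 (iv3 D3231)) (tt N2250 F5177) (tt N4884 D7083) (tt N4885 D7084) (tt N3931 (iv7 F9101)))
theorem Q2252 : ∀ i, i < 2252 → P i := stepQ 2251 Q2251 (allL N2251 (tt N4380 (iv1 F10532)) (tt N3407 (iv0 F7634)) (tt N3922 (iv2 F9074)) (tt N4884 (iv3 F11334)) (tt N4840 (iv4 F11284)) (tt N1001 (iv5 D3232)) (tt N4886 D7085) (tt N3932 (iv7 F9103)))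
theorem Q2253 : ∀ i, i < 2253 → P i := stepQ 2252 Q2252 (allL N2252 (tt N4887 D7086) (tt N4888 D7087) (tt N3923 (iv2 F9077)) (tt N4885 (iv3 F11335)) (tt N1002 F5028) (tt N4889 D7088) (tt N1001 (iv6 D3233)) (tt N4890 D7089))
theorem Q2254 : ∀ i, i < 2254 → P i := stepQ 2253 Q2253 (allL N2253 (tt N2455 F5513) (tt N1002 (iv0 D3234)) (tt N3924 (iv2 F11357)) (tt N4891 D7091) (tt N4892 D7092) (tt N1057 F5029) (tt N1036 (iv6 F5030)) (tt N3925 (iv7 F11364)))
theorem Q2255 : ∀ i, i < 2255 → P i := stepQ 2254 Q2254 (allL N2254 (tt N1002 (iv1 D3235)) (tt N2455 (iv0 F5512)) (tt N3925 (iv2 F11363)) (tt N4360 (iv3 F12604)) (tt N4893 D7095) (tt N1056 (iv5 F5032)) (tt N4894 D7096) (tt N3924 (iv7 F11358)))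
theorem Q2256 : ∀ i, i < 2256 → P i := stepQ 2255 Q2255 (allL N2255 (tt N3925 (iv1 F9082)) (tt N3924 F9080) (tt N2455 (iv2 F5509)) (tt N2255 F5171) (tt N4890 (iv4 F11337)) (tt N1002 (iv5 D3236)) (tt N1004 F5031) (tt N1002 (iv7 F5033)))
theorem Q2257 : ∀ i, i < 2257 → P i := stepQ 2256 Q2256 (allL N2256 (tt N1622 (iv1 F5202)) (tt N3542 F8102) (tt N2454 (iv2 F5505)) (tt N4895 D7097) (tt N1004 (iv4 D3238)) (tt N4896 D7098) (tt N4890 (iv6 F11338)) (tt N2452 (iv7 F5500)))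
theorem Q2258 : ∀ i, i < 2258 → P i := stepQ 2257 Q2257 (allL N2257 (tt N1018 F10296) (tt N1796 F10297) (tt N2257 F10307) (tt N3421 (iv3 F10308)) (tt N4897 D7099) (tt N1006 (iv5 D3247)) (tt N4898 D7100) (tt N1965 F10305))
theorem Q2259 : ∀ i, i < 2259 → P i := stepQ 2258 Q2258 (allL N2258 (tt N1781 (iv1 F5162)) (tt N1007 (iv0 D3257)) (tt N2258 F10203) (tt N4899 D7101) (tt N2339 (iv4 F26355)) (tt N4295 (iv5 F10399)) (tt N2338 F26303) (tt N2259 F10202))
theorem Q2260 : ∀ i, i < 2260 → P i := stepQ 2259 Q2259 (allL N2259 (tt N1007 (iv1 D3258)) (tt N1781 F5161) (tt N2259 F10192) (tt N4351 (iv3 F10477)) (tt N4900 D7103) (tt N1972 (iv5 F10191)) (tt N2085 F10193) (tt N2258 (iv7 F10202)))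
theorem Q2261 : ∀ i, i < 2261 → P i := stepQ 2260 Q2260 (allL N2260 (tt N2339 F26392) (tt N4900 (iv0 F11409)) (tt N2260 F5158) (tt N2470 (iv3 F26454)) (tt N1007 (iv4 D3259)) (tt N3933 F10294) (tt N4507 F26393) (tt N3910 (iv7 F9023)))
theorem Q2262 : ∀ i, i < 2262 → P i := stepQ 2261 Q2261 (allL N2261 (tt N4292 (iv1 F10382)) (tt N1967 F10199) (tt N2261 F5159) (tt N1013 F5045) (tt N4507 F26408) (tt N3913 (iv5 F9028)) (tt N1007 (iv6 D3260)) (tt N2453 (iv7 F5504)))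
theorem Q2263 : ∀ i, i < 2263 → P i := stepQ 2262 Q2262 (allL N2262 (tt N1971 (iv1 F10190)) (tt N1969 (iv0 F10187)) (tt N2262 F5154) (tt N1014 F5046) (tt N4295 (iv4 F10398)) (tt N1008 (iv5 D3263)) (tt N3913 (iv6 F9029)) (tt N1008 (iv7 F5047)))
theorem Q2264 : ∀ i, i < 2264 → P i := stepQ 2263 Q2263 (allL N2263 (tt N1009 (iv1 D3265)) (tt N1674 (iv0 F9970)) (tt N1676 F9960) (tt N4901 D7106) (tt N1644 F9961) (tt N4902 D7107) (tt N2263 F9962) (tt N1664 F9963))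
theorem Q2265 : ∀ i, i < 2265 → P i := stepQ 2264 Q2264 (allL N2264 (tt N4903 D7108) (tt N4904 D7109) (tt N3501 (iv2 F10177)) (tt N1010 F5048) (tt N4905 D7110) (tt N1009 (iv5 D3267)) (tt N4906 D7111) (tt N3492 (iv7 F9954)))
theorem Q2266 : ∀ i, i < 2266 → P i := stepQ 2265 Q2265 (allL N2265 (tt N4907 D7112) (tt N4908 D7113) (tt N3502 F10205) (tt N1011 F5049) (tt N3445 (iv4 F10206)) (tt N4909 D7114) (tt N1009 (iv6 D3268)) (tt N4910 D7115))
theorem Q2267 : ∀ i, i < 2267 → P i := stepQ 2266 Q2266 (allL N2266 (tt N4773 (iv1 F11224)) (tt N4771 (iv0 F11220)) (tt N3929 (iv2 F9097)) (tt N4911 D7116) (tt N1010 (iv4 D3269)) (tt N4840 (iv5 F11283)) (tt N4912 D7117) (tt N3915 (iv7 F9046)))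
theorem Q2268 : ∀ i, i < 2268 → P i := stepQ 2267 Q2267 (allL N2267 (tt N4913 D7118) (tt N4914 D7119) (tt N3930 (iv2 F9099)) (tt N4906 (iv3 F11425)) (tt N4912 (iv4 F11438)) (tt N4915 D7120) (tt N1010 (iv6 D3270)) (tt N4916 D7121))
theorem Q2269 : ∀ i, i < 2269 → P i := stepQ 2268 Q2268 (allL N2268 (tt N1710 F7596) (tt N1698 (iv0 F7713)) (tt N3638 F8280) (tt N4909 (iv3 F11433)) (tt N4917 D7122) (tt N1011 (iv5 D3273)) (tt N4915 (iv6 F11441)) (tt N3639 (iv7 F8282)))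
theorem Q2270 : ∀ i, i < 2270 → P i := stepQ 2269 Q2269 (allL N2269 (tt N1712 (iv1 F7724)) (tt N1701 F7598) (tt N3645 F8302) (tt N4910 (iv3 F11435)) (tt N1014 F5211) (tt N3639 (iv5 F8283)) (tt N3917 (iv6 F9051)) (tt N1011 (iv7 D3274)))
theorem Q2271 : ∀ i, i < 2271 → P i := stepQ 2270 Q2270 (allL N2270 (tt N2533 (iv1 F26608)) (tt N4918 D7124) (tt N4919 D7125) (tt N1012 (iv3 D3275)) (tt N2470 F26570) (tt N4920 D7126) (tt N4553 F26571) (tt N3921 (iv7 F9073)))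
theorem Q2272 : ∀ i, i < 2272 → P i := stepQ 2271 Q2271 (allL N2271 (tt N3407 (iv1 F7635)) (tt N4380 F10531) (tt N3932 (iv2 F9102)) (tt N4920 (iv3 F11444)) (tt N4839 (iv4 F11280)) (tt N1012 (iv5 D3276)) (tt N4921 D7128) (tt N3922 (iv7 F9075)))
theorem Q2273 : ∀ i, i < 2273 → P i := stepQ 2272 Q2272 (allL N2272 (tt N3542 (iv1 F8103)) (tt N1622 F5501) (tt N2452 (iv2 F5498)) (tt N4553 F26581) (tt N1013 F5214) (tt N4922 D7129) (tt N1012 (iv6 D3277)) (tt N2454 (iv7 F5506)))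
theorem Q2274 : ∀ i, i < 2274 → P i := stepQ 2273 Q2273 (allL N2273 (tt N4923 D7130) (tt N4924 D7131) (tt N4925 D7132) (tt N1015 (iv3 D3284)) (tt N2273 F5224) (tt N4926 D7133) (tt N4925 F26627) (tt N3940 (iv7 F9129)))
theorem Q2275 : ∀ i, i < 2275 → P i := stepQ 2274 Q2274 (allL N2274 (tt N4927 D7135) (tt N4928 D7136) (tt N3936 (iv2 F9113)) (tt N4926 (iv3 F11447)) (tt N4832 (iv4 F11276)) (tt N1015 (iv5 D3285)) (tt N4929 D7137) (tt N3941 (iv7 F9131)))
theorem Q2276 : ∀ i, i < 2276 → P i := stepQ 2275 Q2275 (allL N2275 (tt N4930 D7138) (tt N4931 D7139) (tt N3935 F26565) (tt N4925 (iv3 F26602)) (tt N1017 F5225) (tt N4932 D7140) (tt N1015 (iv6 D3286)) (tt N4933 D7141))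
theorem Q2277 : ∀ i, i < 2277 → P i := stepQ 2276 Q2276 (allL N2276 (tt N3655 (iv1 F8390)) (tt N1711 F7595) (tt N3654 F8384) (tt N4934 D7142) (tt N1016 (iv4 D3288)) (tt N3393 (iv5 F7587)) (tt N3743 F8644) (tt N2443 F5484))
theorem Q2278 : ∀ i, i < 2278 → P i := stepQ 2277 Q2277 (allL N2277 (tt N3939 F9127) (tt N1017 (iv0 D3290)) (tt N3937 F11374) (tt N4935 D7143) (tt N4936 D7144) (tt N3938 F9121) (tt N1057 F5514) (tt N3938 F11372))
theorem Q2279 : ∀ i, i < 2279 → P i := stepQ 2278 Q2278 (allL N2278 (tt N1017 (iv1 D3291)) (tt N3939 F9126) (tt N3938 (iv2 F11373)) (tt N4368 (iv3 F12647)) (tt N4937 D7146) (tt N3937 (iv5 F9118)) (tt N3971 (iv6 F9214)) (tt N3937 (iv7 F11375)))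
theorem Q2280 : ∀ i, i < 2280 → P i := stepQ 2279 Q2279 (allL N2279 (tt N1030 F5280) (tt N2461 (iv0 F5522)) (tt N2470 (iv2 F5533)) (tt N2279 F5278) (tt N4919 (iv4 F26605)) (tt N1017 (iv5 D3292)) (tt N2068 F5279) (tt N2469 (iv7 F5535)))
theorem Q2281 : ∀ i, i < 2281 → P i := stepQ 2280 Q2280 (allL N2280 (tt N3938 (iv1 F9120)) (tt N3937 (iv0 F9119)) (tt N3939 (iv2 F9123)) (tt N2280 F5281) (tt N4933 (iv4 F11458)) (tt N2469 F5538) (tt N3944 (iv6 F9141)) (tt N1017 (iv7 D3293)))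
theorem Q2282 : ∀ i, i < 2282 → P i := stepQ 2281 Q2281 (allL N2281 (tt N4290 (iv1 F10372)) (tt N4897 (iv0 F11389)) (tt N2281 F5284) (tt N3939 (iv3 F26377)) (tt N1018 (iv4 D3296)) (tt N3910 (iv5 F10295)) (tt N2356 F26329) (tt N3933 (iv7 F9106)))
theorem Q2283 : ∀ i, i < 2283 → P i := stepQ 2282 Q2282 (allL N2282 (tt N1972 (iv1 F10298)) (tt N4295 F10402) (tt N2282 F5285) (tt N1020 F5286) (tt N1971 F10292) (tt N1018 (iv5 D3297)) (tt N1849 (iv6 F5287)) (tt N3934 (iv7 F9109)))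
theorem Q2284 : ∀ i, i < 2284 → P i := stepQ 2283 Q2283 (allL N2283 (tt N4938 D7150) (tt N4510 (iv0 F10734)) (tt N2283 F5288) (tt N1021 F5289) (tt N2356 (iv4 F26321)) (tt N1822 F26289) (tt N1018 (iv6 D3298)) (tt N2356 F26290))
theorem Q2285 : ∀ i, i < 2285 → P i := stepQ 2284 Q2284 (allL N2284 (tt N4931 (iv1 F26525)) (tt N4930 (iv0 F26526)) (tt N4933 (iv2 F26524)) (tt N1019 (iv3 D3299)) (tt N3939 F26428) (tt N4939 D7156) (tt N4940 D7157) (tt N3935 (iv7 F9112)))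
theorem Q2286 : ∀ i, i < 2286 → P i := stepQ 2285 Q2285 (allL N2285 (tt N4928 (iv1 F11454)) (tt N4927 F11451) (tt N3941 (iv2 F9130)) (tt N4939 (iv3 F11477)) (tt N4829 (iv4 F11275)) (tt N1019 (iv5 D3300)) (tt N4941 D7158) (tt N3936 (iv7 F9114)))
theorem Q2287 : ∀ i, i < 2287 → P i := stepQ 2286 Q2286 (allL N2286 (tt N4942 D7159) (tt N4493 (iv0 F12706)) (tt N3942 (iv2 F9132)) (tt N4940 (iv3 F11478)) (tt N1021 F5290) (tt N4943 D7161) (tt N1019 (iv6 D3301)) (tt N4940 F26550))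
theorem Q2288 : ∀ i, i < 2288 → P i := stepQ 2287 Q2287 (allL N2287 (tt N1711 (iv1 F8386)) (tt N3655 F8389) (tt N2443 (iv2 F5481)) (tt N4944 D7163) (tt N1020 (iv4 D3302)) (tt N3394 F7592) (tt N1612 F5291) (tt N3654 (iv7 F8385)))
theorem Q2289 : ∀ i, i < 2289 → P i := stepQ 2288 Q2288 (allL N2288 (tt N3944 (iv1 F9143)) (tt N1021 (iv0 D3303)) (tt N3943 F9136) (tt N2617 (iv3 F10070)) (tt N4945 D7164) (tt N1046 F5293) (tt N2074 F5292) (tt N2120 (iv7 F5294)))
theorem Q2290 : ∀ i, i < 2290 → P i := stepQ 2289 Q2289 (allL N2289 (tt N2333 F5337) (tt N2331 (iv0 F5334)) (tt N2445 (iv2 F5487)) (tt N1822 F26287) (tt N1823 (iv4 F26319)) (tt N1021 (iv5 D3304)) (tt N1850 F5295) (tt N2355 F26288))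
theorem Q2291 : ∀ i, i < 2291 → P i := stepQ 2290 Q2290 (allL N2290 (tt N2120 (iv1 F5296)) (tt N3943 F9138) (tt N3944 (iv2 F9139)) (tt N2356 F26311) (tt N4940 (iv4 F26450)) (tt N2355 F26312) (tt N3939 (iv6 F9125)) (tt N1021 (iv7 D3305)))
theorem Q2292 : ∀ i, i < 2292 → P i := stepQ 2291 Q2291 (allL N2291 (tt N4946 D7166) (tt N4947 D7167) (tt N4948 D7168) (tt N1022 (iv3 D3307)) (tt N4949 D7169) (tt N4950 D7170) (tt N4951 D7171) (tt N3948 (iv7 F9149)))
theorem Q2293 : ∀ i, i < 2293 → P i := stepQ 2292 Q2292 (allL N2292 (tt N4952 D7172) (tt N4953 D7173) (tt N3946 (iv2 F9145)) (tt N4950 (iv3 F11499)) (tt N4823 (iv4 F11273)) (tt N1022 (iv5 D3308)) (tt N4954 D7174) (tt N3949 (iv7 F9151)))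
theorem Q2294 : ∀ i, i < 2294 → P i := stepQ 2293 Q2293 (allL N2293 (tt N4936 (iv1 F20615)) (tt N4937 (iv0 F11554)) (tt N3947 (iv2 F9147)) (tt N4951 (iv3 F11500)) (tt N2023 F5299) (tt N4955 D7177) (tt N1022 (iv6 D3309)) (tt N4956 D7178))
theorem Q2295 : ∀ i, i < 2295 → P i := stepQ 2294 Q2294 (allL N2294 (tt N4957 D7179) (tt N4958 D7180) (tt N4959 D7181) (tt N1023 (iv3 D3311)) (tt N4960 D7182) (tt N4961 D7183) (tt N4962 D7184) (tt N3945 (iv7 F9144)))
theorem Q2296 : ∀ i, i < 2296 → P i := stepQ 2295 Q2295 (allL N2295 (tt N4953 (iv1 F11505)) (tt N4952 F11502) (tt N3949 (iv2 F9150)) (tt N4961 (iv3 F11511)) (tt N4813 (iv4 F11268)) (tt N1023 (iv5 D3312)) (tt N4963 D7185) (tt N3946 (iv7 F9146)))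
theorem Q2297 : ∀ i, i < 2297 → P i := stepQ 2296 Q2296 (allL N2296 (tt N4945 (iv1 F11496)) (tt N4487 (iv0 F20642)) (tt N3950 (iv2 F9152)) (tt N4962 (iv3 F11512)) (tt N2025 F5302) (tt N4964 D7187) (tt N1023 (iv6 D3313)) (tt N4965 D7188))
theorem Q2298 : ∀ i, i < 2298 → P i := stepQ 2297 Q2297 (allL N2297 (tt N4966 D7189) (tt N1024 (iv0 D3314)) (tt N4967 D7190) (tt N4968 D7191) (tt N4969 D7192) (tt N4970 D7193) (tt N4968 F50745) (tt N4971 D7195))
theorem Q2299 : ∀ i, i < 2299 → P i := stepQ 2298 Q2298 (allL N2298 (tt N1024 (iv1 D3315)) (tt N4966 F11518) (tt N4971 (iv2 F11520)) (tt N4972 D7196) (tt N4973 D7197) (tt N4974 D7198) (tt N4975 D7199) (tt N4967 F11519))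
theorem Q2300 : ∀ i, i < 2300 → P i := stepQ 2299 Q2299 (allL N2299 (tt N4967 F24779) (tt N4971 (iv0 F24781)) (tt N1024 (iv2 D3316)) (tt N3953 (iv3 F9154)) (tt N4375 (iv4 F10524)) (tt N4976 D7202) (tt N1067 F5303) (tt N4966 (iv7 F11517)))
theorem Q2301 : ∀ i, i < 2301 → P i := stepQ 2300 Q2300 (allL N2300 (tt N4977 D7203) (tt N4978 D7204) (tt N4976 (iv2 F11525)) (tt N1025 F5304) (tt N4979 D7205) (tt N1024 (iv5 D3317)) (tt N4980 D7206) (tt N4981 D7207))
theorem Q2302 : ∀ i, i < 2302 → P i := stepQ 2301 Q2301 (allL N2301 (tt N4971 (iv1 F24782)) (tt N4967 F24778) (tt N4966 F11516) (tt N1026 F5305) (tt N4377 (iv4 F10528)) (tt N4981 (iv5 F11529)) (tt N4982 D7208) (tt N1024 (iv7 D3318)))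
theorem Q2303 : ∀ i, i < 2303 → P i := stepQ 2302 Q2302 (allL N2302 (tt N3960 (iv1 F9175)) (tt N1025 (iv0 D3319)) (tt N3956 F9159) (tt N4983 D7209) (tt N4800 (iv4 F11252)) (tt N2015 F5306) (tt N4984 D7210) (tt N3957 (iv7 F9163)))
theorem Q2304 : ∀ i, i < 2304 → P i := stepQ 2303 Q2303 (allL N2303 (tt N1025 (iv1 D3320)) (tt N3960 F9174) (tt N3957 F9165) (tt N4985 D7211) (tt N4778 (iv4 F11230)) (tt N2021 F5307) (tt N4986 D7212) (tt N3956 F9160))
theorem Q2305 : ∀ i, i < 2305 → P i := stepQ 2304 Q2304 (allL N2304 (tt N4840 (iv1 F11282)) (tt N4839 F11281) (tt N3958 (iv2 F9166)) (tt N4987 D7213) (tt N1025 (iv4 D3321)) (tt N3908 (iv5 F9011)) (tt N4988 D7214) (tt N3907 F9008))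
theorem Q2306 : ∀ i, i < 2306 → P i := stepQ 2305 Q2305 (allL N2305 (tt N4989 D7215) (tt N4990 D7216) (tt N3959 (iv2 F9169)) (tt N4980 (iv3 F11526)) (tt N4988 (iv4 F11534)) (tt N1072 F5308) (tt N1025 (iv6 D3322)) (tt N4991 D7217))
theorem Q2307 : ∀ i, i < 2307 → P i := stepQ 2306 Q2306 (allL N2306 (tt N3957 (iv1 F9162)) (tt N3956 F9161) (tt N3960 (iv2 F9171)) (tt N4981 (iv3 F11528)) (tt N3907 (iv4 F9007)) (tt N1026 F5309) (tt N4992 D7218) (tt N1025 (iv7 D3323)))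
theorem Q2308 : ∀ i, i < 2308 → P i := stepQ 2307 Q2307 (allL N2307 (tt N4042 (iv1 F9364)) (tt N4041 F9363) (tt N3961 (iv2 F9176)) (tt N4982 (iv3 F11530)) (tt N1027 F5310) (tt N4993 D7219) (tt N1026 (iv6 D3324)) (tt N1073 F5311))
theorem Q2309 : ∀ i, i < 2309 → P i := stepQ 2308 Q2308 (allL N2308 (tt N1883 F5313) (tt N2519 (iv0 F5608)) (tt N2524 F5615) (tt N4994 D7220) (tt N1028 (iv4 D3325)) (tt N4995 D7221) (tt N4996 D7222) (tt N1848 F5312))
theorem Q2310 : ∀ i, i < 2310 → P i := stepQ 2309 Q2309 (allL N2309 (tt N4997 D7223) (tt N4998 D7224) (tt N2531 (iv2 F5620)) (tt N1030 F5314) (tt N4996 (iv4 F11542)) (tt N2309 F5315) (tt N1028 (iv6 D3326)) (tt N4999 D7225))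
theorem Q2311 : ∀ i, i < 2311 → P i := stepQ 2310 Q2310 (allL N2310 (tt N5000 D7226) (tt N5001 D7227) (tt N5002 D7228) (tt N1029 (iv3 D3327)) (tt N4994 (iv4 F11537)) (tt N2503 (iv5 F5581)) (tt N5003 D7229) (tt N1855 F5316))
theorem Q2312 : ∀ i, i < 2312 → P i := stepQ 2311 Q2311 (allL N2311 (tt N5004 D7230) (tt N5005 D7231) (tt N2468 (iv2 F5527)) (tt N5003 (iv3 F11552)) (tt N1030 F5317) (tt N5006 D7232) (tt N1029 (iv6 D3328)) (tt N5007 D7233))
theorem Q2313 : ∀ i, i < 2313 → P i := stepQ 2312 Q2312 (allL N2312 (tt N2461 F5523) (tt N1030 (iv0 D3329)) (tt N2469 F5536) (tt N3910 F26429) (tt N3921 (iv4 F26527)) (tt N3939 (iv5 F9124)) (tt N2421 F5437) (tt N2470 F5534))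
theorem Q2314 : ∀ i, i < 2314 → P i := stepQ 2313 Q2313 (allL N2313 (tt N2470 (iv1 F5530)) (tt N2469 F5529) (tt N2461 (iv2 F5519)) (tt N4999 (iv3 F11544)) (tt N5007 (iv4 F11555)) (tt N2313 F5318) (tt N1854 F5319) (tt N1030 (iv7 D3330)))
theorem Q2315 : ∀ i, i < 2315 → P i := stepQ 2314 Q2314 (allL N2314 (tt N5008 D7236) (tt N5009 D7237) (tt N5010 D7238) (tt N1031 (iv3 D3331)) (tt N2466 (iv4 F5526)) (tt N5011 D7239) (tt N5012 D7240) (tt N2422 (iv7 F5441)))
theorem Q2316 : ∀ i, i < 2316 → P i := stepQ 2315 Q2315 (allL N2315 (tt N1824 F5321) (tt N1826 F5322) (tt N2353 F5386) (tt N5011 (iv3 F11558)) (tt N1185 F5320) (tt N1031 (iv5 D3332)) (tt N5013 D7241) (tt N2352 F5381))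
theorem Q2317 : ∀ i, i < 2317 → P i := stepQ 2316 Q2316 (allL N2316 (tt N3921 F26591) (tt N4919 (iv0 F26603)) (tt N2533 (iv2 F5624)) (tt N5012 (iv3 F11559)) (tt N1863 F5323) (tt N5014 D7244) (tt N1031 (iv6 D3333)) (tt N4918 F26630))
theorem Q2318 : ∀ i, i < 2318 → P i := stepQ 2317 Q2317 (allL N2317 (tt N5015 D7246) (tt N5016 D7247) (tt N5017 D7248) (tt N1032 (iv3 D3334)) (tt N5018 D7249) (tt N5019 D7250) (tt N3540 (iv6 F8100)) (tt N2532 (iv7 F5623)))
theorem Q2319 : ∀ i, i < 2319 → P i := stepQ 2318 Q2318 (allL N2318 (tt N1826 F5325) (tt N1824 F5326) (tt N2352 F5380) (tt N5019 (iv3 F11565)) (tt N1186 F5324) (tt N1032 (iv5 D3335)) (tt N5020 D7251) (tt N2353 (iv7 F5383)))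
theorem Q2320 : ∀ i, i < 2320 → P i := stepQ 2319 Q2319 (allL N2319 (tt N3977 (iv1 F9225)) (tt N1033 (iv0 D3336)) (tt N3976 (iv2 F27223)) (tt N5021 D7253) (tt N5022 D7254) (tt N5023 D7255) (tt N4882 F50453) (tt N3975 (iv7 F27224)))
theorem Q2321 : ∀ i, i < 2321 → P i := stepQ 2320 Q2320 (allL N2320 (tt N1033 (iv1 D3337)) (tt N3977 F9227) (tt N3975 F27226) (tt N5024 D7258) (tt N5025 D7259) (tt N5026 D7260) (tt N5027 D7261) (tt N3976 F27227))
theorem Q2322 : ∀ i, i < 2322 → P i := stepQ 2321 Q2321 (allL N2321 (tt N3976 (iv1 F9226)) (tt N3975 F9221) (tt N1033 (iv2 D3338)) (tt N3965 (iv3 F9195)) (tt N2321 F5327) (tt N5028 D7262) (tt N5029 D7263) (tt N3977 (iv7 F9224)))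
theorem Q2323 : ∀ i, i < 2323 → P i := stepQ 2322 Q2322 (allL N2322 (tt N5030 D7264) (tt N5031 D7265) (tt N5028 (iv2 F11570)) (tt N1034 F5328) (tt N5032 D7266) (tt N1033 (iv5 D3339)) (tt N5033 D7267) (tt N3978 (iv7 F9229)))
theorem Q2324 : ∀ i, i < 2324 → P i := stepQ 2323 Q2323 (allL N2323 (tt N5034 D7268) (tt N5034 (iv0 F26580)) (tt N5029 (iv2 F11571)) (tt N1035 F5329) (tt N2323 F5330) (tt N5035 D7270) (tt N1033 (iv6 D3340)) (tt N5029 F26501))
theorem Q2325 : ∀ i, i < 2325 → P i := stepQ 2324 Q2324 (allL N2324 (tt N5036 D7272) (tt N5037 D7273) (tt N3968 (iv2 F9203)) (tt N5033 (iv3 F11574)) (tt N1230 F5331) (tt N5038 D7274) (tt N1034 (iv6 D3341)) (tt N5039 D7275))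
theorem Q2326 : ∀ i, i < 2326 → P i := stepQ 2325 Q2325 (allL N2325 (tt N3967 F26334) (tt N1035 (iv0 D3342)) (tt N2544 (iv2 F12633)) (tt N5040 D7277) (tt N1866 F10684) (tt N5041 D7278) (tt N4887 (iv6 F11583)) (tt N2547 (iv7 F12636)))
theorem Q2327 : ∀ i, i < 2327 → P i := stepQ 2326 Q2326 (allL N2326 (tt N1035 (iv1 D3343)) (tt N3967 F26333) (tt N2547 (iv2 F12635)) (tt N5042 D7280) (tt N1867 F10673) (tt N5043 D7281) (tt N5044 D7282) (tt N2544 (iv7 F12634)))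
theorem Q2328 : ∀ i, i < 2328 → P i := stepQ 2327 Q2327 (allL N2327 (tt N5045 D7283) (tt N5046 D7284) (tt N3969 (iv2 F9206)) (tt N5035 (iv3 F11575)) (tt N5047 D7285) (tt N1035 (iv5 D3344)) (tt N5038 (iv6 F11578)) (tt N5048 D7286))
theorem Q2329 : ∀ i, i < 2329 → P i := stepQ 2328 Q2328 (allL N2328 (tt N2547 (iv1 F10668)) (tt N2544 (iv0 F10685)) (tt N3967 F26335) (tt N5029 (iv3 F26402)) (tt N1038 F5332) (tt N5048 (iv5 F11590)) (tt N3965 (iv6 F26358)) (tt N1035 (iv7 D3345)))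
theorem Q2330 : ∀ i, i < 2330 → P i := stepQ 2329 Q2329 (allL N2329 (tt N3836 (iv1 F12642)) (tt N3380 (iv0 F12641)) (tt N2543 (iv2 F12597)) (tt N1036 (iv3 D3347)) (tt N5049 D7290) (tt N5050 D7291) (tt N4891 (iv6 F11343)) (tt N3835 (iv7 F12596)))
theorem Q2331 : ∀ i, i < 2331 → P i := stepQ 2330 Q2330 (allL N2330 (tt N4082 F10680) (tt N1137 F10681) (tt N3970 F11381) (tt N5051 D7292) (tt N1036 (iv4 D3348)) (tt N5052 D7293) (tt N4892 (iv6 F11344)) (tt N3972 (iv7 F11380)))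
theorem Q2332 : ∀ i, i < 2332 → P i := stepQ 2331 Q2331 (allL N2331 (tt N2289 F5334) (tt N4049 F9389) (tt N3971 (iv2 F11371)) (tt N5050 (iv3 F11591)) (tt N5053 D7294) (tt N1036 (iv5 D3349)) (tt N3938 F9122) (tt N3973 F11370))
theorem Q2333 : ∀ i, i < 2333 → P i := stepQ 2332 Q2332 (allL N2332 (tt N1137 F10678) (tt N4082 F10679) (tt N3972 (iv2 F11382)) (tt N5054 D7301) (tt N1037 (iv4 D3352)) (tt N5055 D7302) (tt N5056 D7303) (tt N3970 F11383))
theorem Q2334 : ∀ i, i < 2334 → P i := stepQ 2333 Q2333 (allL N2333 (tt N4049 F9390) (tt N2289 (iv0 F5337)) (tt N3973 F11368) (tt N2548 (iv3 F12600)) (tt N5057 D7304) (tt N1037 (iv5 D3353)) (tt N1056 F5336) (tt N3971 (iv7 F11369)))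
theorem Q2335 : ∀ i, i < 2335 → P i := stepQ 2334 Q2334 (allL N2334 (tt N2420 F5435) (tt N2421 F9377) (tt N3974 F11352) (tt N2549 (iv3 F12601)) (tt N5056 (iv4 F11601)) (tt N4894 (iv5 F11348)) (tt N1037 (iv6 D3354)) (tt N4894 (iv7 F11349)))
theorem Q2336 : ∀ i, i < 2336 → P i := stepQ 2335 Q2335 (allL N2335 (tt N1051 F5340) (tt N1822 F5341) (tt N2335 F5338) (tt N5058 D7305) (tt N1039 (iv4 D3355)) (tt N3964 F26266) (tt N2358 (iv6 F26274)) (tt N1966 F5339))
theorem Q2337 : ∀ i, i < 2337 → P i := stepQ 2336 Q2336 (allL N2336 (tt N4044 F10333) (tt N2357 F26291) (tt N2336 F5342) (tt N2518 (iv3 F5605)) (tt N2358 F26292) (tt N2336 F5343) (tt N1039 (iv6 D3356)) (tt N4898 (iv7 F11393)))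
theorem Q2338 : ∀ i, i < 2338 → P i := stepQ 2337 Q2337 (allL N2337 (tt N1808 F5345) (tt N1042 F5346) (tt N2337 F5344) (tt N4118 (iv3 F26296)) (tt N1040 (iv4 D3357)) (tt N4938 (iv5 F26298)) (tt N2087 (iv6 F26299)) (tt N2338 (iv7 F5348)))
theorem Q2339 : ∀ i, i < 2339 → P i := stepQ 2338 Q2338 (allL N2338 (tt N1042 F5349) (tt N1808 F5350) (tt N2338 F5347) (tt N5059 D7310) (tt N1041 (iv4 D3358)) (tt N4510 (iv5 F26302)) (tt N2258 (iv6 F26303)) (tt N2337 F5348))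
theorem Q2340 : ∀ i, i < 2340 → P i := stepQ 2339 Q2339 (allL N2339 (tt N3910 (iv1 F26378)) (tt N2260 (iv0 F26392)) (tt N2339 F5351) (tt N2522 (iv3 F5611)) (tt N2258 F26355) (tt N2339 F5352) (tt N1041 (iv6 D3359)) (tt N4900 (iv7 F26412)))
theorem Q2341 : ∀ i, i < 2341 → P i := stepQ 2340 Q2340 (allL N2340 (tt N1242 (iv1 F5367)) (tt N1243 F5368) (tt N1251 F5362) (tt N2340 F5363) (tt N1238 F5364) (tt N1249 F5365) (tt N1249 F5366) (tt N1043 (iv7 D3366)))
theorem Q2342 : ∀ i, i < 2342 → P i := stepQ 2341 Q2341 (allL N2341 (tt N3965 (iv1 F9197)) (tt N1044 (iv0 D3367)) (tt N2616 F26474) (tt N5060 D7328) (tt N1887 (iv4 F26399)) (tt N5061 D7330) (tt N4317 (iv6 F26400)) (tt N2619 F26475))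
theorem Q2343 : ∀ i, i < 2343 → P i := stepQ 2342 Q2342 (allL N2342 (tt N1044 (iv1 D3368)) (tt N3965 F9199) (tt N2619 F26477) (tt N5062 D7333) (tt N1888 (iv4 F26356)) (tt N5063 D7335) (tt N3920 (iv6 F26401)) (tt N2616 F26478))
theorem Q2344 : ∀ i, i < 2344 → P i := stepQ 2343 Q2343 (allL N2343 (tt N5064 D7339) (tt N5065 D7340) (tt N3980 (iv2 F26397)) (tt N1045 F5369) (tt N5066 D7341) (tt N1044 (iv5 D3370)) (tt N5067 D7342) (tt N3966 (iv7 F9201)))
theorem Q2345 : ∀ i, i < 2345 → P i := stepQ 2344 Q2344 (allL N2344 (tt N5068 D7347) (tt N5069 D7348) (tt N3979 (iv2 F9232)) (tt N5067 (iv3 F11660)) (tt N1228 F5371) (tt N5067 F26491) (tt N1045 (iv6 D3372)) (tt N5070 D7350))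
theorem Q2346 : ∀ i, i < 2346 → P i := stepQ 2345 Q2345 (allL N2345 (tt N4126 F10653) (tt N1166 F10654) (tt N3981 (iv2 F9244)) (tt N5071 D7359) (tt N1046 (iv4 D3378)) (tt N5072 D7360) (tt N2073 F5374) (tt N3982 (iv7 F9251)))
theorem Q2347 : ∀ i, i < 2347 → P i := stepQ 2346 Q2346 (allL N2346 (tt N1164 F10054) (tt N3841 F10055) (tt N2618 F10056) (tt N1047 (iv3 D3379)) (tt N5073 D7361) (tt N4484 (iv5 F10693)) (tt N3811 F10057) (tt N3840 (iv7 F10067)))
theorem Q2348 : ∀ i, i < 2348 → P i := stepQ 2347 Q2347 (allL N2347 (tt N1166 F10655) (tt N4126 F10656) (tt N3982 (iv2 F9249)) (tt N4077 (iv3 F26398)) (tt N1047 (iv4 D3380)) (tt N5074 D7363) (tt N3919 (iv6 F9065)) (tt N3981 (iv7 F9246)))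
theorem Q2349 : ∀ i, i < 2349 → P i := stepQ 2348 Q2348 (allL N2348 (tt N3990 (iv1 F9271)) (tt N1049 (iv0 D3381)) (tt N3989 F25559) (tt N5075 D7365) (tt N5076 D7366) (tt N5030 (iv5 F17284)) (tt N5077 D7368) (tt N3988 F25560))
theorem Q2350 : ∀ i, i < 2350 → P i := stepQ 2349 Q2349 (allL N2349 (tt N1049 (iv1 D3382)) (tt N3990 F9273) (tt N3988 (iv2 F25550)) (tt N5078 D7370) (tt N5079 D7371) (tt N5031 (iv5 F24947)) (tt N4924 F41353) (tt N3989 (iv7 F25553)))
theorem Q2351 : ∀ i, i < 2351 → P i := stepQ 2350 Q2350 (allL N2350 (tt N3989 (iv1 F9272)) (tt N3988 F9267) (tt N1049 (iv2 D3383)) (tt N3985 (iv3 F9258)) (tt N2350 F5375) (tt N5080 D7374) (tt N4499 (iv6 F10704)) (tt N3990 (iv7 F9270)))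
theorem Q2352 : ∀ i, i < 2352 → P i := stepQ 2351 Q2351 (allL N2351 (tt N5081 D7375) (tt N5082 D7376) (tt N5080 (iv2 F11671)) (tt N1050 F5376) (tt N5083 D7377) (tt N1049 (iv5 D3384)) (tt N5084 D7378) (tt N3991 (iv7 F9275)))
theorem Q2353 : ∀ i, i < 2353 → P i := stepQ 2352 Q2352 (allL N2352 (tt N1054 (iv1 F5379)) (tt N1050 (iv0 D3385)) (tt N2318 (iv2 F5380)) (tt N5085 D7379) (tt N1145 F5378) (tt N1083 F5377) (tt N5086 D7380) (tt N2315 (iv7 F5381)))
theorem Q2354 : ∀ i, i < 2354 → P i := stepQ 2353 Q2353 (allL N2353 (tt N1050 (iv1 D3386)) (tt N1054 F5382) (tt N2315 (iv2 F5386)) (tt N5087 D7381) (tt N1148 F5385) (tt N1134 F5384) (tt N5088 D7382) (tt N2318 F5383))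
theorem Q2355 : ∀ i, i < 2355 → P i := stepQ 2354 Q2354 (allL N2354 (tt N5089 D7383) (tt N5090 D7384) (tt N3987 (iv2 F9265)) (tt N5084 (iv3 F11673)) (tt N1208 F5387) (tt N4505 (iv5 F10710)) (tt N1050 (iv6 D3387)) (tt N5091 D7385))
theorem Q2356 : ∀ i, i < 2356 → P i := stepQ 2355 Q2355 (allL N2355 (tt N3971 (iv1 F26309)) (tt N3973 (iv0 F26293)) (tt N4049 (iv2 F26310)) (tt N1051 (iv3 D3388)) (tt N1053 F5388) (tt N2290 (iv5 F26312)) (tt N1075 (iv6 F26314)) (tt N2289 (iv7 F26288)))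
theorem Q2357 : ∀ i, i < 2357 → P i := stepQ 2356 Q2356 (allL N2356 (tt N4510 (iv1 F26301)) (tt N4938 (iv0 F26297)) (tt N2356 F5389) (tt N2290 (iv3 F26311)) (tt N2283 F26321) (tt N1051 (iv5 D3389)) (tt N2281 (iv6 F26329)) (tt N2283 (iv7 F26290)))
theorem Q2358 : ∀ i, i < 2358 → P i := stepQ 2357 Q2357 (allL N2357 (tt N2336 (iv1 F26291)) (tt N4898 (iv0 F26315)) (tt N2357 F5390) (tt N1075 (iv3 F26313)) (tt N1052 F5391) (tt N5092 D7394) (tt N1051 (iv6 D3390)) (tt N4044 (iv7 F26318)))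
theorem Q2359 : ∀ i, i < 2359 → P i := stepQ 2358 Q2358 (allL N2358 (tt N2360 (iv1 F5396)) (tt N1052 (iv0 D3391)) (tt N2358 F20129) (tt N5093 D7397) (tt N2336 (iv4 F26292)) (tt N5094 D7399) (tt N2335 F26274) (tt N2359 (iv7 F20131)))
theorem Q2360 : ∀ i, i < 2360 → P i := stepQ 2359 Q2359 (allL N2359 (tt N1052 (iv1 D3392)) (tt N2360 F5397) (tt N2359 F20130) (tt N5095 D7402) (tt N4898 (iv4 F26316)) (tt N5096 D7404) (tt N4897 (iv6 F26328)) (tt N2358 F20131))
theorem Q2361 : ∀ i, i < 2361 → P i := stepQ 2360 Q2360 (allL N2360 (tt N2359 (iv1 F5397)) (tt N2358 F5396) (tt N2360 F5392) (tt N1058 F5393) (tt N4044 (iv4 F26317)) (tt N2360 F5394) (tt N2092 F5395) (tt N1052 (iv7 D3393)))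
theorem Q2362 : ∀ i, i < 2362 → P i := stepQ 2361 Q2361 (allL N2361 (tt N3985 (iv1 F9260)) (tt N1053 (iv0 D3394)) (tt N3984 (iv2 F25422)) (tt N5097 D7407) (tt N2545 (iv4 F26420)) (tt N5064 F25794) (tt N4931 (iv6 F26423)) (tt N3983 F25421))
theorem Q2363 : ∀ i, i < 2363 → P i := stepQ 2362 Q2362 (allL N2362 (tt N1053 (iv1 D3395)) (tt N3985 F9262) (tt N3983 F25415) (tt N5098 D7412) (tt N2548 (iv4 F26379)) (tt N5065 F25799) (tt N3994 (iv6 F26424)) (tt N3984 (iv7 F25423)))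
theorem Q2364 : ∀ i, i < 2364 → P i := stepQ 2363 Q2363 (allL N2363 (tt N3984 (iv1 F9261)) (tt N3983 F9257) (tt N1053 (iv2 D3396)) (tt N3990 (iv3 F9268)) (tt N4049 F26373) (tt N5099 D7416) (tt N4047 (iv6 F26422)) (tt N3985 (iv7 F9259)))
theorem Q2365 : ∀ i, i < 2365 → P i := stepQ 2364 Q2364 (allL N2364 (tt N5100 D7418) (tt N5101 D7419) (tt N5099 (iv2 F11703)) (tt N1054 F5398) (tt N5102 D7420) (tt N1053 (iv5 D3397)) (tt N5103 D7421) (tt N3986 (iv7 F9264)))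
theorem Q2366 : ∀ i, i < 2366 → P i := stepQ 2365 Q2365 (allL N2365 (tt N2513 (iv1 F26425)) (tt N4381 (iv0 F26426)) (tt N4047 (iv2 F26421)) (tt N1055 F5399) (tt N1075 F26374) (tt N5104 D7424) (tt N1053 (iv6 D3398)) (tt N4045 (iv7 F26427)))
theorem Q2367 : ∀ i, i < 2367 → P i := stepQ 2366 Q2366 (allL N2366 (tt N5105 D7426) (tt N5106 D7427) (tt N3993 (iv2 F9278)) (tt N5103 (iv3 F11706)) (tt N1201 F5400) (tt N5107 D7428) (tt N1054 (iv6 D3399)) (tt N5108 D7429))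
theorem Q2368 : ∀ i, i < 2368 → P i := stepQ 2367 Q2367 (allL N2367 (tt N3997 (iv1 F9287)) (tt N1055 (iv0 D3400)) (tt N3994 (iv2 F12652)) (tt N5109 D7431) (tt N2473 (iv4 F12076)) (tt N5110 D7433) (tt N3983 F26443) (tt N3995 (iv7 F12657)))
theorem Q2369 : ∀ i, i < 2369 → P i := stepQ 2368 Q2368 (allL N2368 (tt N1055 (iv1 D3401)) (tt N3997 F9286) (tt N3995 (iv2 F12655)) (tt N5111 D7436) (tt N2474 F11585) (tt N5112 D7437) (tt N4930 (iv6 F20527)) (tt N3994 (iv7 F12654)))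
theorem Q2370 : ∀ i, i < 2370 → P i := stepQ 2369 Q2369 (allL N2369 (tt N5113 D7439) (tt N5114 D7440) (tt N3996 (iv2 F9281)) (tt N5104 (iv3 F11707)) (tt N4866 (iv4 F317298)) (tt N1055 (iv5 D3402)) (tt N5107 (iv6 F11710)) (tt N5115 D7442))
theorem Q2371 : ∀ i, i < 2371 → P i := stepQ 2370 Q2370 (allL N2370 (tt N3995 (iv1 F9280)) (tt N3994 F9285) (tt N3997 (iv2 F9282)) (tt N4045 F26452) (tt N1058 F5401) (tt N5115 (iv5 F11716)) (tt N2128 F5402) (tt N1055 (iv7 D3403)))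
theorem Q2372 : ∀ i, i < 2372 → P i := stepQ 2371 Q2371 (allL N2371 (tt N4016 F11596) (tt N1064 F11597) (tt N3998 F11367) (tt N5116 D7447) (tt N1056 (iv4 D3406)) (tt N5117 D7448) (tt N5057 (iv6 F11602)) (tt N3999 (iv7 F11377)))
theorem Q2373 : ∀ i, i < 2373 → P i := stepQ 2372 Q2372 (allL N2372 (tt N2031 F12610) (tt N3849 (iv0 F12611)) (tt N3848 (iv2 F12670)) (tt N1057 (iv3 D3408)) (tt N5118 D7452) (tt N4891 (iv5 F11342)) (tt N4935 (iv6 F11460)) (tt N3847 (iv7 F12676)))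
theorem Q2374 : ∀ i, i < 2374 → P i := stepQ 2373 Q2373 (allL N2373 (tt N1064 F11594) (tt N4016 F11595) (tt N3999 F11378) (tt N5119 D7453) (tt N1057 (iv4 D3409)) (tt N5120 D7454) (tt N4936 (iv6 F11461)) (tt N3998 F11366))
theorem Q2375 : ∀ i, i < 2375 → P i := stepQ 2374 Q2374 (allL N2374 (tt N4010 (iv1 F9310)) (tt N1059 (iv0 D3411)) (tt N4009 (iv2 F25540)) (tt N5121 D7456) (tt N5122 D7457) (tt N5123 D7458) (tt N5124 D7459) (tt N4008 F25539))
theorem Q2376 : ∀ i, i < 2376 → P i := stepQ 2375 Q2375 (allL N2375 (tt N1059 (iv1 D3412)) (tt N4010 F9312) (tt N4008 F25535) (tt N5125 D7461) (tt N5126 D7462) (tt N5127 D7463) (tt N4947 F41341) (tt N4009 (iv7 F25541)))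
theorem Q2377 : ∀ i, i < 2377 → P i := stepQ 2376 Q2376 (allL N2376 (tt N4009 (iv1 F9311)) (tt N4008 F9307) (tt N1059 (iv2 D3413)) (tt N4002 (iv3 F9291)) (tt N5128 D7465) (tt N5129 D7466) (tt N5130 D7467) (tt N4010 (iv7 F9309)))
theorem Q2378 : ∀ i, i < 2378 → P i := stepQ 2377 Q2377 (allL N2377 (tt N5131 D7468) (tt N5132 D7469) (tt N5128 (iv2 F11720)) (tt N1757 F5405) (tt N1059 (iv4 D3414)) (tt N5133 D7470) (tt N5134 D7471) (tt N4011 (iv7 F9314)))
theorem Q2379 : ∀ i, i < 2379 → P i := stepQ 2378 Q2378 (allL N2378 (tt N5135 D7472) (tt N5136 D7473) (tt N5129 (iv2 F11721)) (tt N1060 F5406) (tt N5137 D7474) (tt N1059 (iv5 D3415)) (tt N5137 (iv6 F298417)) (tt N4012 (iv7 F9316)))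
theorem Q2380 : ∀ i, i < 2380 → P i := stepQ 2379 Q2379 (allL N2379 (tt N5138 D7476) (tt N5139 D7477) (tt N5130 (iv2 F11722)) (tt N1061 F5407) (tt N5134 (iv4 F11726)) (tt N5140 D7478) (tt N1059 (iv6 D3416)) (tt N5141 D7479))
theorem Q2381 : ∀ i, i < 2381 → P i := stepQ 2380 Q2380 (allL N2380 (tt N5142 D7480) (tt N5143 D7481) (tt N4005 (iv2 F9299)) (tt N5137 (iv3 F298416)) (tt N1191 F296839) (tt N5144 D7482) (tt N1060 (iv6 D3417)) (tt N4152 (iv7 F296878)))
theorem Q2382 : ∀ i, i < 2382 → P i := stepQ 2381 Q2381 (allL N2381 (tt N4474 (iv1 F10646)) (tt N4481 (iv0 F10652)) (tt N4006 (iv2 F9301)) (tt N5140 (iv3 F11729)) (tt N5145 D7484) (tt N1061 (iv5 D3418)) (tt N5144 (iv6 F11731)) (tt N5146 D7485))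
theorem Q2383 : ∀ i, i < 2383 → P i := stepQ 2382 Q2382 (allL N2382 (tt N2122 (iv1 F5410)) (tt N2119 F5411) (tt N4007 (iv2 F9302)) (tt N5141 (iv3 F11730)) (tt N1992 F5409) (tt N5146 (iv5 F11736)) (tt N4016 (iv6 F9324)) (tt N1061 (iv7 D3419)))
theorem Q2384 : ∀ i, i < 2384 → P i := stepQ 2383 Q2383 (allL N2383 (tt N4002 (iv1 F9293)) (tt N1062 (iv0 D3420)) (tt N4001 (iv2 F25442)) (tt N5053 F26434) (tt N5147 D7488) (tt N5148 D7489) (tt N4957 F26974) (tt N4000 F25441))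
theorem Q2385 : ∀ i, i < 2385 → P i := stepQ 2384 Q2384 (allL N2384 (tt N1062 (iv1 D3421)) (tt N4002 F9295) (tt N4000 F25440) (tt N5149 D7492) (tt N5150 D7493) (tt N5151 D7494) (tt N5152 D7495) (tt N4001 (iv7 F25443)))
theorem Q2386 : ∀ i, i < 2386 → P i := stepQ 2385 Q2385 (allL N2385 (tt N4001 (iv1 F9294)) (tt N4000 F9290) (tt N1062 (iv2 D3422)) (tt N4010 (iv3 F9308)) (tt N5153 D7496) (tt N5154 D7497) (tt N5155 D7498) (tt N4002 (iv7 F9292)))
theorem Q2387 : ∀ i, i < 2387 → P i := stepQ 2386 Q2386 (allL N2386 (tt N5156 D7499) (tt N5157 D7500) (tt N5153 (iv2 F11742)) (tt N2030 F5412) (tt N1062 (iv4 D3423)) (tt N5158 D7501) (tt N5159 D7502) (tt N3842 (iv7 F8892)))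
theorem Q2388 : ∀ i, i < 2388 → P i := stepQ 2387 Q2387 (allL N2387 (tt N5160 D7503) (tt N5161 D7504) (tt N5154 (iv2 F11743)) (tt N1063 F5413) (tt N5162 D7505) (tt N1062 (iv5 D3424)) (tt N5163 D7506) (tt N4003 (iv7 F9297)))
theorem Q2389 : ∀ i, i < 2389 → P i := stepQ 2388 Q2388 (allL N2388 (tt N4033 F26868) (tt N5164 D7508) (tt N5155 (iv2 F11744)) (tt N1064 F5414) (tt N5159 (iv4 F11748)) (tt N5165 D7509) (tt N1062 (iv6 D3425)) (tt N5166 D7510))
theorem Q2390 : ∀ i, i < 2390 → P i := stepQ 2389 Q2389 (allL N2389 (tt N5167 D7511) (tt N5168 D7512) (tt N4014 (iv2 F9318)) (tt N5163 (iv3 F11750)) (tt N1187 F5415) (tt N5169 D7513) (tt N1063 (iv6 D3426)) (tt N5170 D7514))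
theorem Q2391 : ∀ i, i < 2391 → P i := stepQ 2390 Q2390 (allL N2390 (tt N5171 D7515) (tt N4865 (iv0 F316455)) (tt N4015 (iv2 F9321)) (tt N5165 (iv3 F11751)) (tt N4780 (iv4 F318351)) (tt N1064 (iv5 D3429)) (tt N5169 (iv6 F11753)) (tt N5172 D7518))
theorem Q2392 : ∀ i, i < 2392 → P i := stepQ 2391 Q2391 (allL N2391 (tt N3999 (iv1 F12680)) (tt N3998 (iv0 F12677)) (tt N4016 (iv2 F9322)) (tt N5166 (iv3 F11752)) (tt N2034 F5416) (tt N5172 (iv5 F11757)) (tt N4007 (iv6 F9304)) (tt N1064 (iv7 D3430)))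
theorem Q2393 : ∀ i, i < 2393 → P i := stepQ 2392 Q2392 (allL N2392 (tt N1066 (iv1 F5419)) (tt N1065 (iv0 D3431)) (tt N1069 (iv2 F5417)) (tt N4017 (iv3 F9329)) (tt N4386 (iv4 F10550)) (tt N4235 (iv5 F9797)) (tt N5173 D7519) (tt N1067 F5418))
theorem Q2394 : ∀ i, i < 2394 → P i := stepQ 2393 Q2393 (allL N2393 (tt N1069 (iv1 F11795)) (tt N1067 (iv0 F11796)) (tt N1065 (iv2 D3432)) (tt N5174 D7522) (tt N2394 (iv4 F11797)) (tt N5175 D7524) (tt N5176 D7525) (tt N1066 (iv7 F5420)))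
theorem Q2395 : ∀ i, i < 2395 → P i := stepQ 2394 Q2394 (allL N2394 (tt N5149 (iv1 F25468)) (tt N5177 D7527) (tt N2395 (iv2 F11800)) (tt N1065 (iv3 D3433)) (tt N2393 F11797) (tt N5178 D7529) (tt N5179 D7530) (tt N2400 (iv7 F11802)))
theorem Q2396 : ∀ i, i < 2396 → P i := stepQ 2395 Q2395 (allL N2395 (tt N5180 D7532) (tt N5181 D7533) (tt N2394 F11800) (tt N5182 D7534) (tt N1065 (iv4 D3434)) (tt N5183 D7535) (tt N5184 D7536) (tt N5185 D7537))
theorem Q2397 : ∀ i, i < 2397 → P i := stepQ 2396 Q2396 (allL N2396 (tt N5186 D7538) (tt N4070 F25723) (tt N5175 (iv2 F11764)) (tt N5178 (iv3 F11767)) (tt N5187 D7540) (tt N1065 (iv5 D3435)) (tt N5188 D7541) (tt N5189 D7542))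
theorem Q2398 : ∀ i, i < 2398 → P i := stepQ 2397 Q2397 (allL N2397 (tt N5190 D7543) (tt N4488 (iv0 F53962)) (tt N5176 (iv2 F11766)) (tt N5179 (iv3 F11768)) (tt N5184 (iv4 F11773)) (tt N5191 D7545) (tt N1065 (iv6 D3436)) (tt N5192 D7546))
theorem Q2399 : ∀ i, i < 2399 → P i := stepQ 2398 Q2398 (allL N2398 (tt N1067 F11798) (tt N1069 F11799) (tt N1066 F5421) (tt N2400 (iv3 F11801)) (tt N5185 (iv4 F11775)) (tt N5189 (iv5 F11779)) (tt N5193 D7547) (tt N1065 (iv7 D3437)))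
theorem Q2400 : ∀ i, i < 2400 → P i := stepQ 2399 Q2399 (allL N2399 (tt N5194 D7548) (tt N5121 (iv0 F11811)) (tt N5195 D7550) (tt N1066 (iv3 D3438)) (tt N5195 (iv4 F11808)) (tt N5196 D7552) (tt N5197 D7553) (tt N5174 (iv7 F11761)))
theorem Q2401 : ∀ i, i < 2401 → P i := stepQ 2400 Q2400 (allL N2400 (tt N5181 (iv1 F11771)) (tt N5180 F11776) (tt N5185 (iv2 F11774)) (tt N2398 F11801) (tt N1066 (iv4 D3439)) (tt N5198 D7554) (tt N5199 D7555) (tt N2394 F11802))
theorem Q2402 : ∀ i, i < 2402 → P i := stepQ 2401 Q2401 (allL N2401 (tt N4070 F25724) (tt N5186 F11780) (tt N5189 (iv2 F11778)) (tt N5196 (iv3 F11784)) (tt N5200 D7556) (tt N1066 (iv5 D3440)) (tt N5201 D7557) (tt N5175 (iv7 F11765)))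
theorem Q2403 : ∀ i, i < 2403 → P i := stepQ 2402 Q2402 (allL N2402 (tt N5116 (iv1 F50793)) (tt N5202 D7559) (tt N5193 (iv2 F11781)) (tt N5197 (iv3 F11785)) (tt N5199 (iv4 F11786)) (tt N5203 D7560) (tt N1066 (iv6 D3441)) (tt N5204 D7561))
theorem Q2404 : ∀ i, i < 2404 → P i := stepQ 2403 Q2403 (allL N2403 (tt N4234 (iv1 F9800)) (tt N4233 F9795) (tt N1068 F5426) (tt N4028 (iv3 F9338)) (tt N5205 D7564) (tt N1067 (iv5 D3444)) (tt N5206 D7565) (tt N4235 (iv7 F9798)))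
theorem Q2405 : ∀ i, i < 2405 → P i := stepQ 2404 Q2404 (allL N2404 (tt N4235 (iv1 F9799)) (tt N1068 (iv0 D3445)) (tt N4234 F27170) (tt N5207 D7567) (tt N5208 D7568) (tt N2462 F25818) (tt N5209 D7570) (tt N4233 (iv7 F27177)))
theorem Q2406 : ∀ i, i < 2406 → P i := stepQ 2405 Q2405 (allL N2405 (tt N1068 (iv1 D3446)) (tt N4235 F9801) (tt N4233 (iv2 F27175)) (tt N5210 D7572) (tt N5211 D7573) (tt N2463 (iv5 F25814)) (tt N5212 D7575) (tt N4234 F27174))
theorem Q2407 : ∀ i, i < 2407 → P i := stepQ 2406 Q2406 (allL N2406 (tt N5213 D7576) (tt N5214 D7577) (tt N5205 (iv2 F11819)) (tt N4211 (iv3 F9758)) (tt N1068 (iv4 D3447)) (tt N5215 D7578) (tt N5216 D7579) (tt N4208 F9756))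
theorem Q2408 : ∀ i, i < 2408 → P i := stepQ 2407 Q2407 (allL N2407 (tt N5217 D7580) (tt N5218 D7581) (tt N5206 (iv2 F11820)) (tt N1072 F5427) (tt N5216 (iv4 F11823)) (tt N4980 (iv5 F11527)) (tt N1068 (iv6 D3448)) (tt N5219 D7582))
theorem Q2409 : ∀ i, i < 2409 → P i := stepQ 2408 Q2408 (allL N2408 (tt N5220 D7583) (tt N5221 D7584) (tt N5173 (iv2 F11758)) (tt N1073 F5428) (tt N4403 (iv4 F10562)) (tt N5222 D7585) (tt N1069 (iv6 D3449)) (tt N4982 (iv7 F11531)))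
theorem Q2410 : ∀ i, i < 2410 → P i := stepQ 2409 Q2409 (allL N2409 (tt N5123 F30291) (tt N5127 (iv0 F30292)) (tt N5223 D7588) (tt N1070 (iv3 D3450)) (tt N5224 D7589) (tt N1136 F5429) (tt N5225 D7590) (tt N4036 (iv7 F9353)))
theorem Q2411 : ∀ i, i < 2411 → P i := stepQ 2410 Q2410 (allL N2410 (tt N5226 D7591) (tt N5227 D7592) (tt N4035 (iv2 F9350)) (tt N5225 (iv3 F11828)) (tt N1175 F5430) (tt N5228 D7593) (tt N1070 (iv6 D3451)) (tt N5229 D7594))
theorem Q2412 : ∀ i, i < 2412 → P i := stepQ 2411 Q2411 (allL N2411 (tt N5148 (iv1 F27123)) (tt N5151 F27120) (tt N5230 D7597) (tt N1071 (iv3 D3452)) (tt N5231 D7598) (tt N1165 F5431) (tt N5232 D7599) (tt N4034 (iv7 F9349)))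
theorem Q2413 : ∀ i, i < 2413 → P i := stepQ 2412 Q2412 (allL N2412 (tt N5233 D7600) (tt N5234 D7601) (tt N4037 (iv2 F9354)) (tt N5232 (iv3 F11833)) (tt N1155 F5432) (tt N5235 D7602) (tt N1071 (iv6 D3453)) (tt N5236 D7603))
theorem Q2414 : ∀ i, i < 2414 → P i := stepQ 2413 Q2413 (allL N2413 (tt N4040 (iv1 F9362)) (tt N1072 (iv0 D3454)) (tt N4038 F53047) (tt N5237 D7605) (tt N5238 D7606) (tt N5239 D7607) (tt N5240 D7608) (tt N4039 (iv7 F53052)))
theorem Q2415 : ∀ i, i < 2415 → P i := stepQ 2414 Q2414 (allL N2414 (tt N1072 (iv1 D3455)) (tt N4040 F9361) (tt N4039 (iv2 F53051)) (tt N5241 D7610) (tt N5242 D7611) (tt N5243 D7612) (tt N5244 D7613) (tt N4038 F53048))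
theorem Q2416 : ∀ i, i < 2416 → P i := stepQ 2415 Q2415 (allL N2415 (tt N4039 (iv1 F9356)) (tt N4038 F9360) (tt N4040 (iv2 F9357)) (tt N5219 (iv3 F11824)) (tt N4247 (iv4 F9815)) (tt N4991 (iv5 F11535)) (tt N4240 (iv6 F9808)) (tt N1072 (iv7 D3456)))
theorem Q2417 : ∀ i, i < 2417 → P i := stepQ 2416 Q2416 (allL N2416 (tt N3961 (iv1 F9180)) (tt N1073 (iv0 D3457)) (tt N4041 F12420) (tt N5245 D7615) (tt N2043 (iv4 F12422)) (tt N5246 D7617) (tt N3534 (iv6 F12423)) (tt N4042 F12421))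
theorem Q2418 : ∀ i, i < 2418 → P i := stepQ 2417 Q2417 (allL N2417 (tt N1073 (iv1 D3458)) (tt N3961 F9179) (tt N4042 (iv2 F12418)) (tt N4027 (iv3 F26572)) (tt N2044 F12417) (tt N5247 D7622) (tt N4024 F26465) (tt N4041 (iv7 F12419)))
theorem Q2419 : ∀ i, i < 2419 → P i := stepQ 2418 Q2418 (allL N2418 (tt N5248 D7624) (tt N5249 D7625) (tt N4043 (iv2 F9365)) (tt N5222 (iv3 F11825)) (tt N5250 D7626) (tt N1073 (iv5 D3459)) (tt N4239 (iv6 F9805)) (tt N4993 (iv7 F11536)))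
theorem Q2420 : ∀ i, i < 2420 → P i := stepQ 2419 Q2419 (allL N2419 (tt N4381 (iv1 F11989)) (tt N2513 (iv0 F11990)) (tt N4045 (iv2 F9370)) (tt N5251 D7629) (tt N1074 (iv4 D3460)) (tt N5252 D7630) (tt N4052 (iv6 F9400)) (tt N4047 (iv7 F9379)))
theorem Q2421 : ∀ i, i < 2421 → P i := stepQ 2420 Q2420 (allL N2420 (tt N5253 D7631) (tt N2334 (iv0 F5435)) (tt N4046 (iv2 F9373)) (tt N2420 F5433) (tt N5254 D7632) (tt N1074 (iv5 D3461)) (tt N2108 F5434) (tt N4048 (iv7 F9382)))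
theorem Q2422 : ∀ i, i < 2422 → P i := stepQ 2421 Q2421 (allL N2421 (tt N2334 (iv1 F9377)) (tt N5253 F11846) (tt N4048 (iv2 F9380)) (tt N5092 F26375) (tt N5255 D7639) (tt N1075 (iv5 D3464)) (tt N2312 (iv6 F5437)) (tt N4046 (iv7 F9375)))
theorem Q2423 : ∀ i, i < 2423 → P i := stepQ 2422 Q2422 (allL N2422 (tt N5256 D7640) (tt N5257 D7641) (tt N5258 D7642) (tt N1083 (iv3 D3466)) (tt N1103 F5440) (tt N5085 (iv5 F11674)) (tt N3567 (iv6 F8172)) (tt N2314 F5441))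
theorem Q2424 : ∀ i, i < 2424 → P i := stepQ 2423 Q2423 (allL N2423 (tt N1680 (iv1 F5447)) (tt N1727 (iv0 F5446)) (tt N1732 F5442) (tt N1084 (iv3 D3467)) (tt N1085 F5443) (tt N1731 F5444) (tt N5259 D7643) (tt N2423 F5445))
theorem Q2425 : ∀ i, i < 2425 → P i := stepQ 2424 Q2424 (allL N2424 (tt N3709 (iv1 F22437)) (tt N1637 (iv0 F22438)) (tt N2425 (iv2 F5448)) (tt N5259 (iv3 F11869)) (tt N3792 (iv4 F8813)) (tt N5260 D7646) (tt N1084 (iv6 D3468)) (tt N3708 (iv7 F22456)))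
theorem Q2426 : ∀ i, i < 2426 → P i := stepQ 2425 Q2425 (allL N2425 (tt N1687 (iv1 F22449)) (tt N3608 (iv0 F22450)) (tt N2424 F5448) (tt N3368 (iv3 F7532)) (tt N5259 (iv4 F11870)) (tt N5261 D7650) (tt N1085 (iv6 D3469)) (tt N3607 (iv7 F22444)))
theorem Q2427 : ∀ i, i < 2427 → P i := stepQ 2426 Q2426 (allL N2426 (tt N5262 D7652) (tt N5263 D7653) (tt N1087 F5449) (tt N2167 F5450) (tt N3547 (iv4 F8117)) (tt N5264 D7654) (tt N1086 (iv6 D3470)) (tt N5265 D7655))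
theorem Q2428 : ∀ i, i < 2428 → P i := stepQ 2427 Q2427 (allL N2427 (tt N5265 (iv1 F11892)) (tt N1087 (iv0 D3471)) (tt N5262 (iv2 F26027)) (tt N5266 D7657) (tt N5267 D7658) (tt N5268 D7659) (tt N5269 D7660) (tt N5263 (iv7 F26030)))
theorem Q2429 : ∀ i, i < 2429 → P i := stepQ 2428 Q2428 (allL N2428 (tt N1087 (iv1 D3472)) (tt N5265 F11891) (tt N5263 (iv2 F26029)) (tt N5270 D7662) (tt N5271 D7663) (tt N5272 D7664) (tt N5273 D7665) (tt N5262 (iv7 F26028)))
theorem Q2430 : ∀ i, i < 2430 → P i := stepQ 2429 Q2429 (allL N2429 (tt N5274 D7666) (tt N5275 D7667) (tt N5264 (iv2 F11883)) (tt N1090 F5451) (tt N5276 D7668) (tt N1087 (iv5 D3473)) (tt N1769 F5452) (tt N5277 D7669))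
theorem Q2431 : ∀ i, i < 2431 → P i := stepQ 2430 Q2430 (allL N2430 (tt N5263 (iv1 F11882)) (tt N5262 F11890) (tt N5265 (iv2 F11887)) (tt N1091 F5453) (tt N3551 (iv4 F8121)) (tt N5277 (iv5 F11903)) (tt N2430 F5454) (tt N1087 (iv7 D3474)))
theorem Q2432 : ∀ i, i < 2432 → P i := stepQ 2431 Q2431 (allL N2431 (tt N3575 F19490) (tt N1628 (iv0 F19491)) (tt N3573 F19446) (tt N1088 (iv3 D3476)) (tt N2150 (iv4 F10313)) (tt N5278 D7673) (tt N5279 D7674) (tt N2195 F7857))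
theorem Q2433 : ∀ i, i < 2433 → P i := stepQ 2432 Q2432 (allL N2432 (tt N4569 (iv1 F10902)) (tt N4783 (iv0 F11239)) (tt N2193 (iv2 F7859)) (tt N5278 (iv3 F11912)) (tt N5280 D7675) (tt N1088 (iv5 D3478)) (tt N5281 D7676) (tt N2196 F7858))
theorem Q2434 : ∀ i, i < 2434 → P i := stepQ 2433 Q2433 (allL N2433 (tt N1692 (iv1 F7600)) (tt N3614 F8240) (tt N2194 F7866) (tt N5279 (iv3 F11914)) (tt N1617 (iv4 F5457)) (tt N1778 F5456) (tt N1088 (iv6 D3479)) (tt N2223 (iv7 F7870)))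
theorem Q2435 : ∀ i, i < 2435 → P i := stepQ 2434 Q2434 (allL N2434 (tt N1679 F10314) (tt N3693 F10315) (tt N3691 F10312) (tt N1089 (iv3 D3481)) (tt N5282 D7677) (tt N5283 D7678) (tt N5284 D7679) (tt N2192 (iv7 F7852)))
theorem Q2436 : ∀ i, i < 2436 → P i := stepQ 2435 Q2435 (allL N2435 (tt N4783 (iv1 F11240)) (tt N4569 (iv0 F10901)) (tt N2196 (iv2 F7854)) (tt N5283 (iv3 F11925)) (tt N5285 D7680) (tt N1089 (iv5 D3482)) (tt N5286 D7681) (tt N2193 (iv7 F7853)))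
theorem Q2437 : ∀ i, i < 2437 → P i := stepQ 2436 Q2436 (allL N2436 (tt N3717 (iv1 F8526)) (tt N1636 F8225) (tt N2197 (iv2 F7855)) (tt N5284 (iv3 F11927)) (tt N1619 F5464) (tt N4464 (iv5 F10629)) (tt N1089 (iv6 D3483)) (tt N3716 F8519))
theorem Q2438 : ∀ i, i < 2438 → P i := stepQ 2437 Q2437 (allL N2437 (tt N2201 (iv1 F5472)) (tt N1090 (iv0 D3484)) (tt N2198 F5467) (tt N5287 D7682) (tt N5288 D7683) (tt N2211 F5465) (tt N5289 D7684) (tt N2199 (iv7 F5466)))
theorem Q2439 : ∀ i, i < 2439 → P i := stepQ 2438 Q2438 (allL N2438 (tt N1090 (iv1 D3485)) (tt N2201 F5468) (tt N2199 F5471) (tt N5290 D7685) (tt N5291 D7686) (tt N1773 (iv5 F5470)) (tt N5292 D7687) (tt N2198 F5469))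
theorem Q2440 : ∀ i, i < 2440 → P i := stepQ 2439 Q2439 (allL N2439 (tt N5293 D7688) (tt N5294 D7689) (tt N2200 F5474) (tt N5295 D7690) (tt N1090 (iv4 D3486)) (tt N5296 D7691) (tt N1779 F5475) (tt N5297 D7692))
theorem Q2441 : ∀ i, i < 2441 → P i := stepQ 2440 Q2440 (allL N2440 (tt N2199 (iv1 F5478)) (tt N2198 F5479) (tt N2201 F5476) (tt N5277 (iv3 F11902)) (tt N5297 (iv4 F11957)) (tt N1091 F5477) (tt N5298 D7693) (tt N1090 (iv7 D3487)))
theorem Q2442 : ∀ i, i < 2442 → P i := stepQ 2441 Q2441 (allL N2441 (tt N3676 (iv1 F19457)) (tt N1947 (iv0 F19458)) (tt N3674 F19505) (tt N1092 (iv3 D3488)) (tt N2441 F5480) (tt N5299 D7697) (tt N5300 D7698) (tt N3554 (iv7 F8127)))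
theorem Q2443 : ∀ i, i < 2443 → P i := stepQ 2442 Q2442 (allL N2442 (tt N4534 (iv1 F10802)) (tt N4871 (iv0 F11321)) (tt N3553 (iv2 F8124)) (tt N5299 (iv3 F11967)) (tt N5301 D7699) (tt N1092 (iv5 D3489)) (tt N5302 D7700) (tt N3555 (iv7 F8129)))
theorem Q2444 : ∀ i, i < 2444 → P i := stepQ 2443 Q2443 (allL N2443 (tt N1658 (iv1 F5485)) (tt N3763 F8719) (tt N2287 F5481) (tt N5300 (iv3 F11968)) (tt N1094 F5482) (tt N2009 F5483) (tt N1092 (iv6 D3490)) (tt N2276 (iv7 F5484)))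
theorem Q2445 : ∀ i, i < 2445 → P i := stepQ 2444 Q2444 (allL N2444 (tt N5303 D7701) (tt N4496 F10702) (tt N2126 F26437) (tt N4499 (iv3 F26529)) (tt N1093 (iv4 D3491)) (tt N5304 D7703) (tt N3985 F26438) (tt N4052 (iv7 F9401)))
theorem Q2446 : ∀ i, i < 2446 → P i := stepQ 2445 Q2445 (allL N2445 (tt N3973 F9220) (tt N3971 (iv0 F9215)) (tt N2289 F5487) (tt N2445 F5488) (tt N3985 (iv4 F26380)) (tt N1801 F5489) (tt N1093 (iv6 D3492)) (tt N4049 (iv7 F9388)))
theorem Q2447 : ∀ i, i < 2447 → P i := stepQ 2446 Q2446 (allL N2446 (tt N4511 F26325) (tt N4509 (iv0 F10726)) (tt N2446 F5493) (tt N1097 F5494) (tt N2092 (iv4 F26327)) (tt N1095 (iv5 D3496)) (tt N4044 (iv6 F9368)) (tt N2091 F26326))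
theorem Q2448 : ∀ i, i < 2448 → P i := stepQ 2447 Q2447 (allL N2447 (tt N4294 (iv1 F10394)) (tt N1970 F10389) (tt N2447 F5495) (tt N1098 F5496) (tt N2088 F10320) (tt N4468 (iv5 F10635)) (tt N1095 (iv6 D3497)) (tt N4293 (iv7 F10388)))
theorem Q2449 : ∀ i, i < 2449 → P i := stepQ 2448 Q2448 (allL N2448 (tt N1716 F10288) (tt N3777 F10289) (tt N3775 F10290) (tt N1096 (iv3 D3498)) (tt N2086 F10291) (tt N5305 D7706) (tt N5306 D7707) (tt N3552 (iv7 F8123)))
theorem Q2450 : ∀ i, i < 2450 → P i := stepQ 2449 Q2449 (allL N2449 (tt N4871 (iv1 F11322)) (tt N4534 (iv0 F10801)) (tt N3555 (iv2 F8128)) (tt N5305 (iv3 F11981)) (tt N5307 D7708) (tt N1096 (iv5 D3499)) (tt N5308 D7709) (tt N3553 (iv7 F8125)))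
theorem Q2451 : ∀ i, i < 2451 → P i := stepQ 2450 Q2450 (allL N2450 (tt N3643 F8290) (tt N1699 F8647) (tt N3556 (iv2 F8130)) (tt N5306 (iv3 F11982)) (tt N1098 F5497) (tt N4435 (iv5 F10605)) (tt N1096 (iv6 D3500)) (tt N3642 F8286))
theorem Q2452 : ∀ i, i < 2452 → P i := stepQ 2451 Q2451 (allL N2451 (tt N4496 F10701) (tt N5303 F11974) (tt N4052 (iv2 F9399)) (tt N2128 (iv3 F26451)) (tt N1097 (iv4 D3501)) (tt N5309 D7711) (tt N4045 (iv6 F9371)) (tt N2126 F26449))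
theorem Q2453 : ∀ i, i < 2453 → P i := stepQ 2452 Q2452 (allL N2452 (tt N3569 (iv1 F8177)) (tt N1606 F5508) (tt N2272 F5498) (tt N5310 D7712) (tt N1099 (iv4 D3502)) (tt N5311 D7713) (tt N1794 F5499) (tt N2256 F5500))
theorem Q2454 : ∀ i, i < 2454 → P i := stepQ 2453 Q2453 (allL N2453 (tt N1967 F10198) (tt N4292 F10383) (tt N2453 F5502) (tt N1100 (iv3 D3503)) (tt N4468 F26409) (tt N1782 F5503) (tt N5312 D7715) (tt N2261 F5504))
theorem Q2455 : ∀ i, i < 2455 → P i := stepQ 2454 Q2454 (allL N2454 (tt N1606 F5507) (tt N3569 F8176) (tt N2256 F5505) (tt N4469 F26621) (tt N1100 (iv4 D3504)) (tt N5313 D7717) (tt N5314 D7718) (tt N2272 F5506))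
theorem Q2456 : ∀ i, i < 2456 → P i := stepQ 2455 Q2455 (allL N2455 (tt N2254 F5512) (tt N2253 (iv0 F5513)) (tt N2255 F5509) (tt N5312 (iv3 F12001)) (tt N5314 (iv4 F12012)) (tt N1788 F5510) (tt N1100 (iv6 D3505)) (tt N1788 F5511))
theorem Q2457 : ∀ i, i < 2457 → P i := stepQ 2456 Q2456 (allL N2456 (tt N4055 (iv1 F9407)) (tt N1101 (iv0 D3506)) (tt N3537 (iv2 F8088)) (tt N5315 D7719) (tt N1620 F5515) (tt N5316 D7720) (tt N3402 (iv6 F7627)) (tt N3538 (iv7 F8095)))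
theorem Q2458 : ∀ i, i < 2458 → P i := stepQ 2457 Q2457 (allL N2457 (tt N1101 (iv1 D3507)) (tt N4055 F9406) (tt N3538 (iv2 F8094)) (tt N5317 D7721) (tt N1621 F5516) (tt N5318 D7722) (tt N5319 D7723) (tt N3537 (iv7 F8090)))
theorem Q2459 : ∀ i, i < 2459 → P i := stepQ 2458 Q2458 (allL N2458 (tt N5320 D7724) (tt N5321 D7725) (tt N5322 D7726) (tt N1101 (iv3 D3508)) (tt N3567 (iv4 F8171)) (tt N5323 D7727) (tt N1103 F5517) (tt N5324 D7728))
theorem Q2460 : ∀ i, i < 2460 → P i := stepQ 2459 Q2459 (allL N2459 (tt N5325 D7729) (tt N5326 D7730) (tt N4054 (iv2 F9403)) (tt N5323 (iv3 F12019)) (tt N5327 D7731) (tt N1101 (iv5 D3509)) (tt N5328 D7732) (tt N5329 D7733))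
theorem Q2461 : ∀ i, i < 2461 → P i := stepQ 2460 Q2460 (allL N2460 (tt N3538 (iv1 F8097)) (tt N3537 (iv0 F8091)) (tt N4055 (iv2 F9404)) (tt N5324 (iv3 F12020)) (tt N1102 F5518) (tt N5329 (iv5 F12034)) (tt N5330 D7734) (tt N1101 (iv7 D3510)))
theorem Q2462 : ∀ i, i < 2462 → P i := stepQ 2461 Q2461 (allL N2461 (tt N2279 F5522) (tt N2312 (iv0 F5523)) (tt N2313 F5519) (tt N3570 (iv3 F8179)) (tt N5330 (iv4 F12036)) (tt N2461 F5520) (tt N1102 (iv6 D3511)) (tt N1106 F5521))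
theorem Q2463 : ∀ i, i < 2463 → P i := stepQ 2462 Q2462 (allL N2462 (tt N5331 D7735) (tt N1103 (iv0 D3512)) (tt N5332 D7736) (tt N5333 D7737) (tt N5334 D7738) (tt N2404 (iv5 F25818)) (tt N5335 D7740) (tt N5336 D7741))
theorem Q2464 : ∀ i, i < 2464 → P i := stepQ 2463 Q2463 (allL N2463 (tt N1103 (iv1 D3513)) (tt N5331 F12046) (tt N5336 (iv2 F12048)) (tt N5337 D7742) (tt N5338 D7743) (tt N2405 F25814) (tt N5339 D7745) (tt N5332 F12047))
theorem Q2465 : ∀ i, i < 2465 → P i := stepQ 2464 Q2464 (allL N2464 (tt N5332 F27158) (tt N5336 (iv0 F27161)) (tt N1103 (iv2 D3514)) (tt N4057 (iv3 F9408)) (tt N5258 (iv4 F11863)) (tt N5186 F25728) (tt N5322 (iv6 F12018)) (tt N5331 (iv7 F12045)))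
theorem Q2466 : ∀ i, i < 2466 → P i := stepQ 2465 Q2465 (allL N2465 (tt N5189 F25746) (tt N5175 (iv0 F25747)) (tt N5186 (iv2 F25725)) (tt N1104 F5524) (tt N5340 D7751) (tt N1103 (iv5 D3515)) (tt N5341 D7752) (tt N4070 (iv7 F9421)))
theorem Q2467 : ∀ i, i < 2467 → P i := stepQ 2466 Q2466 (allL N2466 (tt N5336 (iv1 F27162)) (tt N5332 F27157) (tt N5331 F12042) (tt N1105 F5525) (tt N2314 F5526) (tt N4070 (iv5 F9420)) (tt N5342 D7753) (tt N1103 (iv7 D3516)))
theorem Q2468 : ∀ i, i < 2468 → P i := stepQ 2467 Q2467 (allL N2467 (tt N5343 D7754) (tt N5344 D7755) (tt N4059 (iv2 F9411)) (tt N5341 (iv3 F12054)) (tt N2555 (iv4 F5649)) (tt N5328 (iv5 F12032)) (tt N1104 (iv6 D3517)) (tt N5345 D7756))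
theorem Q2469 : ∀ i, i < 2469 → P i := stepQ 2468 Q2468 (allL N2468 (tt N5346 D7757) (tt N5347 D7758) (tt N2311 F5527) (tt N5342 (iv3 F12055)) (tt N1106 F5528) (tt N5348 D7759) (tt N1105 (iv6 D3518)) (tt N5330 (iv7 F12037)))
theorem Q2470 : ∀ i, i < 2470 → P i := stepQ 2469 Q2469 (allL N2469 (tt N2313 (iv1 F5529)) (tt N1106 (iv0 D3519)) (tt N2312 (iv2 F5536)) (tt N2469 F5537) (tt N5349 D7760) (tt N2280 (iv5 F5538)) (tt N4048 (iv6 F9383)) (tt N2279 F5535))
theorem Q2471 : ∀ i, i < 2471 → P i := stepQ 2470 Q2470 (allL N2470 (tt N1106 (iv1 D3520)) (tt N2313 F5530) (tt N2279 F5533) (tt N2260 F26454) (tt N2270 (iv4 F26570)) (tt N1799 (iv5 F5532)) (tt N2109 (iv6 F5531)) (tt N2312 (iv7 F5534)))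
theorem Q2472 : ∀ i, i < 2472 → P i := stepQ 2471 Q2471 (allL N2471 (tt N1527 F5541) (tt N1761 F5542) (tt N1758 F5539) (tt N4011 (iv3 F9313)) (tt N1109 (iv4 D3521)) (tt N5350 D7762) (tt N5351 D7763) (tt N1757 F5540))
theorem Q2473 : ∀ i, i < 2473 → P i := stepQ 2472 Q2472 (allL N2472 (tt N5093 (iv1 F12681)) (tt N5352 D7765) (tt N3433 (iv2 F7686)) (tt N1110 F5543) (tt N5351 (iv4 F12069)) (tt N2472 F5544) (tt N1109 (iv6 D3522)) (tt N5353 D7766))
theorem Q2474 : ∀ i, i < 2474 → P i := stepQ 2473 Q2473 (allL N2473 (tt N2034 (iv1 F5549)) (tt N1110 (iv0 D3523)) (tt N2032 (iv2 F12614)) (tt N4384 F12075) (tt N2367 F12076) (tt N5354 D7768) (tt N4086 (iv6 F9459)) (tt N2033 (iv7 F12615)))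
theorem Q2475 : ∀ i, i < 2475 → P i := stepQ 2474 Q2474 (allL N2474 (tt N1110 (iv1 D3524)) (tt N2034 F5545) (tt N2033 F12618) (tt N1829 (iv3 F12622)) (tt N2368 (iv4 F11585)) (tt N4084 (iv5 F9455)) (tt N5355 D7771) (tt N2032 F12619))
theorem Q2476 : ∀ i, i < 2476 → P i := stepQ 2475 Q2475 (allL N2475 (tt N2033 (iv1 F5550)) (tt N2032 F5551) (tt N2034 F5546) (tt N5353 (iv3 F12070)) (tt N4016 (iv4 F9323)) (tt N2475 F5547) (tt N1992 F5548) (tt N1110 (iv7 D3525)))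
theorem Q2477 : ∀ i, i < 2477 → P i := stepQ 2476 Q2476 (allL N2476 (tt N2810 (iv1 F5906)) (tt N1111 (iv0 D3526)) (tt N2809 (iv2 F12130)) (tt N2626 F5707) (tt N2971 (iv4 F12128)) (tt N3168 F7298) (tt N5356 D7774) (tt N2808 (iv7 F12173)))
theorem Q2478 : ∀ i, i < 2478 → P i := stepQ 2477 Q2477 (allL N2477 (tt N1111 (iv1 D3527)) (tt N2810 F5907) (tt N2808 F12174) (tt N5357 D7775) (tt N1361 (iv4 F5552)) (tt N3169 F7302) (tt N1198 (iv6 F16797)) (tt N2809 (iv7 F12131)))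
theorem Q2479 : ∀ i, i < 2479 → P i := stepQ 2478 Q2478 (allL N2478 (tt N2809 F5902) (tt N2808 F5900) (tt N1111 (iv2 D3528)) (tt N2805 (iv3 F5888)) (tt N1273 F5553) (tt N2758 (iv5 F5852)) (tt N5358 D7777) (tt N2810 (iv7 F5905)))
theorem Q2480 : ∀ i, i < 2480 → P i := stepQ 2479 Q2479 (allL N2479 (tt N5359 D7778) (tt N5360 D7779) (tt N5358 (iv2 F12248)) (tt N1112 F5554) (tt N1274 F5555) (tt N5361 D7780) (tt N1111 (iv6 D3529)) (tt N5362 D7781))
theorem Q2481 : ∀ i, i < 2481 → P i := stepQ 2480 Q2480 (allL N2480 (tt N2556 (iv1 F5652)) (tt N1239 F5556) (tt N2807 (iv2 F5896)) (tt N5361 (iv3 F12250)) (tt N5363 D7782) (tt N1112 (iv5 D3530)) (tt N2763 (iv6 F5854)) (tt N4252 (iv7 F9828)))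
theorem Q2482 : ∀ i, i < 2482 → P i := stepQ 2481 Q2481 (allL N2481 (tt N1880 (iv1 F5559)) (tt N1357 F5560) (tt N2599 F5683) (tt N5362 (iv3 F12251)) (tt N1270 F5557) (tt N4252 (iv5 F9829)) (tt N1944 F5558) (tt N1112 (iv7 D3531)))
theorem Q2483 : ∀ i, i < 2483 → P i := stepQ 2482 Q2482 (allL N2482 (tt N2805 (iv1 F5891)) (tt N1113 (iv0 D3532)) (tt N2804 (iv2 F12833)) (tt N2574 F5666) (tt N5364 D7784) (tt N4171 (iv5 F14048)) (tt N1202 F16982) (tt N2803 (iv7 F12832)))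
theorem Q2484 : ∀ i, i < 2484 → P i := stepQ 2483 Q2483 (allL N2483 (tt N1113 (iv1 D3533)) (tt N2805 (iv0 F5893)) (tt N2803 (iv2 F12830)) (tt N5365 D7788) (tt N2569 (iv4 F5664)) (tt N4172 (iv5 F14051)) (tt N5366 D7790) (tt N2804 (iv7 F12834)))
theorem Q2485 : ∀ i, i < 2485 → P i := stepQ 2484 Q2484 (allL N2484 (tt N2804 (iv1 F5892)) (tt N2803 F5887) (tt N1113 (iv2 D3534)) (tt N2810 (iv3 F5903)) (tt N2484 F5561) (tt N2765 (iv5 F5855)) (tt N5367 D7791) (tt N2805 (iv7 F5890)))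
theorem Q2486 : ∀ i, i < 2486 → P i := stepQ 2485 Q2485 (allL N2485 (tt N5368 D7792) (tt N2699 F16990) (tt N5367 (iv2 F12256)) (tt N1114 F5562) (tt N2485 F5563) (tt N5369 D7794) (tt N1113 (iv6 D3535)) (tt N2794 (iv7 F5870)))
theorem Q2487 : ∀ i, i < 2487 → P i := stepQ 2486 Q2486 (allL N2486 (tt N2603 (iv1 F5691)) (tt N2601 (iv0 F5688)) (tt N2793 (iv2 F5868)) (tt N5369 (iv3 F12258)) (tt N5370 D7795) (tt N1114 (iv5 D3536)) (tt N2770 (iv6 F5857)) (tt N2795 (iv7 F5871)))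
theorem Q2488 : ∀ i, i < 2488 → P i := stepQ 2487 Q2487 (allL N2487 (tt N1116 (iv1 F5567)) (tt N1115 (iv0 D3537)) (tt N1119 (iv2 F5564)) (tt N2552 (iv3 F5637)) (tt N1302 F5565) (tt N5371 D7796) (tt N5372 D7797) (tt N1117 F5566))
theorem Q2489 : ∀ i, i < 2489 → P i := stepQ 2488 Q2488 (allL N2488 (tt N1119 (iv1 F12287)) (tt N1117 (iv0 F12288)) (tt N1115 (iv2 D3538)) (tt N5373 D7800) (tt N2829 F12286) (tt N2735 (iv5 F12290)) (tt N5374 D7802) (tt N1116 (iv7 F5568)))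
theorem Q2490 : ∀ i, i < 2490 → P i := stepQ 2489 Q2489 (allL N2489 (tt N5365 (iv1 F12814)) (tt N5375 D7804) (tt N5376 D7805) (tt N1115 (iv3 D3539)) (tt N2558 F5653) (tt N2739 F7230) (tt N5377 D7806) (tt N5378 D7807))
theorem Q2491 : ∀ i, i < 2491 → P i := stepQ 2490 Q2490 (allL N2490 (tt N3042 F12107) (tt N1335 (iv0 F6152)) (tt N2829 (iv2 F12284)) (tt N2970 F6141) (tt N1115 (iv4 D3540)) (tt N3270 (iv5 F7317)) (tt N5379 D7808) (tt N3041 (iv7 F12303)))
theorem Q2492 : ∀ i, i < 2492 → P i := stepQ 2491 Q2491 (allL N2491 (tt N5380 D7809) (tt N2602 F17500) (tt N5374 (iv2 F12336)) (tt N5377 (iv3 F12338)) (tt N5379 (iv4 F12346)) (tt N5381 D7811) (tt N1115 (iv6 D3542)) (tt N5382 D7812))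
theorem Q2493 : ∀ i, i < 2493 → P i := stepQ 2492 Q2492 (allL N2492 (tt N1117 F12292) (tt N1119 F12293) (tt N1116 F5569) (tt N5378 (iv3 F12339)) (tt N3041 F12294) (tt N2736 (iv5 F12297)) (tt N2755 F12295) (tt N1115 (iv7 D3543)))
theorem Q2494 : ∀ i, i < 2494 → P i := stepQ 2493 Q2493 (allL N2493 (tt N2623 F12102) (tt N2626 F12204) (tt N5383 D7813) (tt N1116 (iv3 D3544)) (tt N5384 D7814) (tt N2742 F7226) (tt N5385 D7815) (tt N5373 (iv7 F12270)))
theorem Q2495 : ∀ i, i < 2495 → P i := stepQ 2494 Q2494 (allL N2494 (tt N1335 F12191) (tt N3042 (iv0 F12101)) (tt N3041 (iv2 F12302)) (tt N1325 (iv3 F5570)) (tt N1116 (iv4 D3545)) (tt N3274 (iv5 F7321)) (tt N5386 D7816) (tt N2829 (iv7 F12285)))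
theorem Q2496 : ∀ i, i < 2496 → P i := stepQ 2495 Q2495 (allL N2495 (tt N2502 F7216) (tt N2712 (iv0 F7231)) (tt N2755 (iv2 F12300)) (tt N5385 (iv3 F12356)) (tt N5386 (iv4 F12358)) (tt N5387 D7817) (tt N1116 (iv6 D3547)) (tt N2756 (iv7 F12301)))
theorem Q2497 : ∀ i, i < 2497 → P i := stepQ 2496 Q2496 (allL N2496 (tt N1218 F6940) (tt N1214 F6941) (tt N1118 F5573) (tt N4065 (iv3 F9417)) (tt N5388 D7818) (tt N1117 (iv5 D3550)) (tt N5389 D7819) (tt N5371 (iv7 F12260)))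
theorem Q2498 : ∀ i, i < 2498 → P i := stepQ 2497 Q2497 (allL N2497 (tt N5371 (iv1 F12261)) (tt N1118 (iv0 D3551)) (tt N1218 F7217) (tt N5390 D7820) (tt N5391 D7821) (tt N1215 F7218) (tt N5390 F295918) (tt N1214 F7219))
theorem Q2499 : ∀ i, i < 2499 → P i := stepQ 2498 Q2498 (allL N2498 (tt N1118 (iv1 D3552)) (tt N5371 F12262) (tt N1214 (iv2 F7169)) (tt N5392 D7823) (tt N5393 D7824) (tt N1211 (iv5 F7170)) (tt N5394 D7825) (tt N1218 F7168))
theorem Q2500 : ∀ i, i < 2500 → P i := stepQ 2499 Q2499 (allL N2499 (tt N5395 D7826) (tt N5396 D7827) (tt N5388 (iv2 F12359)) (tt N5397 D7828) (tt N1118 (iv4 D3553)) (tt N5398 D7829) (tt N5399 D7830) (tt N5400 D7831))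
theorem Q2501 : ∀ i, i < 2501 → P i := stepQ 2500 Q2500 (allL N2500 (tt N5401 D7832) (tt N5402 D7833) (tt N5389 (iv2 F12362)) (tt N1121 F5574) (tt N5399 (iv4 F12382)) (tt N1224 F5575) (tt N1118 (iv6 D3554)) (tt N5403 D7834))
theorem Q2502 : ∀ i, i < 2502 → P i := stepQ 2501 Q2501 (allL N2501 (tt N1214 F6938) (tt N1218 F6939) (tt N5371 (iv2 F12259)) (tt N1122 F5576) (tt N5400 (iv4 F12383)) (tt N1119 F5577) (tt N5404 D7835) (tt N1118 (iv7 D3555)))
theorem Q2503 : ∀ i, i < 2503 → P i := stepQ 2502 Q2502 (allL N2502 (tt N5405 D7836) (tt N2495 (iv0 F7216)) (tt N5372 (iv2 F12263)) (tt N1123 F5578) (tt N1317 F5579) (tt N5406 D7837) (tt N1119 (iv6 D3556)) (tt N1226 F5580))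
theorem Q2504 : ∀ i, i < 2504 → P i := stepQ 2503 Q2503 (allL N2503 (tt N4021 (iv1 F26966)) (tt N4026 F26961) (tt N5407 D7840) (tt N1120 (iv3 D3557)) (tt N5397 (iv4 F12381)) (tt N2310 F5581) (tt N5408 D7841) (tt N4058 (iv7 F9410)))
theorem Q2505 : ∀ i, i < 2505 → P i := stepQ 2504 Q2504 (allL N2504 (tt N5409 D7842) (tt N5410 D7843) (tt N4071 (iv2 F9422)) (tt N5408 (iv3 F12396)) (tt N1121 F5582) (tt N5411 D7844) (tt N1120 (iv6 D3558)) (tt N5412 D7845))
theorem Q2506 : ∀ i, i < 2506 → P i := stepQ 2505 Q2505 (allL N2505 (tt N4074 (iv1 F9429)) (tt N1121 (iv0 D3559)) (tt N4072 (iv2 F43145)) (tt N5413 D7847) (tt N5414 D7848) (tt N5415 D7849) (tt N5416 D7850) (tt N4073 (iv7 F43146)))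
theorem Q2507 : ∀ i, i < 2507 → P i := stepQ 2506 Q2506 (allL N2506 (tt N1121 (iv1 D3560)) (tt N4074 F9428) (tt N4073 F43149) (tt N5417 D7852) (tt N5418 D7853) (tt N5419 D7854) (tt N5420 D7855) (tt N4072 F43150))
theorem Q2508 : ∀ i, i < 2508 → P i := stepQ 2507 Q2507 (allL N2507 (tt N4073 (iv1 F9424)) (tt N4072 F9427) (tt N4074 (iv2 F9425)) (tt N5403 (iv3 F12386)) (tt N5412 (iv4 F12398)) (tt N1235 F5583) (tt N5421 D7856) (tt N1121 (iv7 D3561)))
theorem Q2509 : ∀ i, i < 2509 → P i := stepQ 2508 Q2508 (allL N2508 (tt N5422 D7857) (tt N5423 D7858) (tt N2555 (iv2 F5648)) (tt N5404 (iv3 F12388)) (tt N4059 (iv4 F9412)) (tt N5424 D7859) (tt N1122 (iv6 D3562)) (tt N5421 (iv7 F12401)))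
theorem Q2510 : ∀ i, i < 2510 → P i := stepQ 2509 Q2509 (allL N2509 (tt N4252 (iv1 F9827)) (tt N2807 (iv0 F5898)) (tt N2556 (iv2 F5650)) (tt N5406 (iv3 F12393)) (tt N5425 D7860) (tt N1123 (iv5 D3563)) (tt N5424 (iv6 F12402)) (tt N1239 F5584))
theorem Q2511 : ∀ i, i < 2511 → P i := stepQ 2510 Q2510 (allL N2510 (tt N1758 F5587) (tt N1757 F5588) (tt N1761 F5585) (tt N5426 D7861) (tt N1124 (iv4 D3564)) (tt N3861 (iv5 F8907)) (tt N5427 D7862) (tt N1527 F5586))
theorem Q2512 : ∀ i, i < 2512 → P i := stepQ 2511 Q2511 (allL N2511 (tt N5428 D7863) (tt N4411 F12413) (tt N1762 F5589) (tt N1126 F5590) (tt N5427 (iv4 F12409)) (tt N2511 F5591) (tt N1124 (iv6 D3565)) (tt N5429 D7864))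
theorem Q2513 : ∀ i, i < 2513 → P i := stepQ 2512 Q2512 (allL N2512 (tt N5430 D7865) (tt N5431 D7866) (tt N5432 D7867) (tt N1125 (iv3 D3566)) (tt N5426 (iv4 F12406)) (tt N2823 (iv5 F5922)) (tt N5433 D7868) (tt N1543 F5592))
theorem Q2514 : ∀ i, i < 2514 → P i := stepQ 2513 Q2513 (allL N2513 (tt N2419 F11990) (tt N2365 F26425) (tt N2042 F5593) (tt N5433 (iv3 F12438)) (tt N1126 F5594) (tt N5434 D7869) (tt N1125 (iv6 D3567)) (tt N5435 D7870))
theorem Q2515 : ∀ i, i < 2515 → P i := stepQ 2514 Q2514 (allL N2514 (tt N2029 F5596) (tt N1126 (iv0 D3568)) (tt N2043 F7862) (tt N3865 F8916) (tt N4041 F12025) (tt N5436 D7871) (tt N1618 F5595) (tt N2044 (iv7 F7863)))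
theorem Q2516 : ∀ i, i < 2516 → P i := stepQ 2515 Q2515 (allL N2515 (tt N1126 (iv1 D3569)) (tt N2029 F5597) (tt N2044 (iv2 F7865)) (tt N5437 D7872) (tt N4042 F12027) (tt N5438 D7873) (tt N5439 D7874) (tt N2043 F7864))
theorem Q2517 : ∀ i, i < 2517 → P i := stepQ 2516 Q2516 (allL N2516 (tt N2044 (iv1 F5601)) (tt N2043 (iv0 F5602)) (tt N2029 F5598) (tt N5429 (iv3 F12426)) (tt N5435 (iv4 F12441)) (tt N2516 F5599) (tt N1542 F5600) (tt N1126 (iv7 D3570)))
theorem Q2518 : ∀ i, i < 2518 → P i := stepQ 2517 Q2517 (allL N2517 (tt N2030 F5604) (tt N3381 (iv0 F7570)) (tt N3436 (iv2 F7692)) (tt N5440 D7875) (tt N1127 (iv4 D3571)) (tt N5441 D7876) (tt N5442 D7877) (tt N1550 F5603))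
theorem Q2519 : ∀ i, i < 2519 → P i := stepQ 2518 Q2518 (allL N2518 (tt N5443 D7878) (tt N5437 F12469) (tt N3437 (iv2 F7696)) (tt N2336 F5605) (tt N5442 (iv4 F12465)) (tt N2518 F5606) (tt N1127 (iv6 D3572)) (tt N5444 D7879))
theorem Q2520 : ∀ i, i < 2520 → P i := stepQ 2519 Q2519 (allL N2519 (tt N2308 F5608) (tt N2604 (iv0 F5694)) (tt N1131 F5607) (tt N5445 D7880) (tt N1128 (iv4 D3573)) (tt N5446 D7881) (tt N5447 D7882) (tt N3431 (iv7 F7680)))
theorem Q2521 : ∀ i, i < 2521 → P i := stepQ 2520 Q2520 (allL N2520 (tt N5448 D7883) (tt N5449 D7884) (tt N1132 F5609) (tt N3380 (iv3 F7566)) (tt N5447 (iv4 F12480)) (tt N3432 (iv5 F7685)) (tt N1128 (iv6 D3574)) (tt N5450 D7885))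
theorem Q2522 : ∀ i, i < 2522 → P i := stepQ 2521 Q2521 (allL N2521 (tt N1163 F5610) (tt N3379 (iv0 F7563)) (tt N3830 F8861) (tt N5451 D7886) (tt N1129 (iv4 D3575)) (tt N5452 D7887) (tt N5453 D7888) (tt N3831 (iv7 F8864)))
theorem Q2523 : ∀ i, i < 2523 → P i := stepQ 2522 Q2522 (allL N2522 (tt N5454 D7889) (tt N5455 D7890) (tt N4114 (iv2 F9519)) (tt N2339 F5611) (tt N5453 (iv4 F12490)) (tt N2522 F5612) (tt N1129 (iv6 D3576)) (tt N5456 D7891))
theorem Q2524 : ∀ i, i < 2524 → P i := stepQ 2523 Q2523 (allL N2523 (tt N3379 (iv1 F7564)) (tt N1163 F5613) (tt N3831 F8866) (tt N5457 D7892) (tt N1130 (iv4 D3577)) (tt N5458 D7893) (tt N3468 (iv6 F7771)) (tt N3830 F8862))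
theorem Q2525 : ∀ i, i < 2525 → P i := stepQ 2524 Q2524 (allL N2524 (tt N3431 (iv1 F7682)) (tt N1131 (iv0 D3578)) (tt N2308 (iv2 F5615)) (tt N5459 D7894) (tt N1133 F5614) (tt N5460 D7895) (tt N5461 D7896) (tt N2604 (iv7 F5693)))
theorem Q2526 : ∀ i, i < 2526 → P i := stepQ 2525 Q2525 (allL N2525 (tt N5462 D7897) (tt N5463 D7898) (tt N5464 D7899) (tt N1131 (iv3 D3579)) (tt N1136 F5616) (tt N5465 D7900) (tt N5466 D7901) (tt N4115 (iv7 F9523)))
theorem Q2527 : ∀ i, i < 2527 → P i := stepQ 2526 Q2526 (allL N2526 (tt N3861 (iv1 F8909)) (tt N1760 F5617) (tt N5446 (iv2 F12474)) (tt N5465 (iv3 F12508)) (tt N3838 (iv4 F8877)) (tt N1131 (iv5 D3580)) (tt N5467 D7902) (tt N4116 (iv7 F9525)))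
theorem Q2528 : ∀ i, i < 2528 → P i := stepQ 2527 Q2527 (allL N2527 (tt N5468 D7903) (tt N5469 D7904) (tt N5447 (iv2 F12479)) (tt N5466 (iv3 F12509)) (tt N1132 F5618) (tt N5470 D7905) (tt N1131 (iv6 D3581)) (tt N5471 D7906))
theorem Q2529 : ∀ i, i < 2529 → P i := stepQ 2528 Q2528 (allL N2528 (tt N5450 (iv1 F12486)) (tt N1132 (iv0 D3582)) (tt N5448 (iv2 F20147)) (tt N3963 (iv3 F12664)) (tt N5472 D7909) (tt N4291 (iv5 F26285)) (tt N5473 D7911) (tt N5449 (iv7 F20145)))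
theorem Q2530 : ∀ i, i < 2530 → P i := stepQ 2529 Q2529 (allL N2529 (tt N1132 (iv1 D3583)) (tt N5450 F12485) (tt N5449 (iv2 F20144)) (tt N2529 F20120) (tt N5474 D7914) (tt N5475 D7915) (tt N5476 D7916) (tt N5448 (iv7 F20149)))
theorem Q2531 : ∀ i, i < 2531 → P i := stepQ 2530 Q2530 (allL N2530 (tt N5449 (iv1 F12482)) (tt N5448 F12484) (tt N5450 (iv2 F12483)) (tt N1140 F5619) (tt N5471 (iv4 F12515)) (tt N4120 (iv5 F9530)) (tt N4120 (iv6 F9531)) (tt N1132 (iv7 D3584)))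
theorem Q2532 : ∀ i, i < 2532 → P i := stepQ 2531 Q2531 (allL N2531 (tt N5477 D7917) (tt N5478 D7918) (tt N2309 F5620) (tt N1135 F5621) (tt N5461 (iv4 F12505)) (tt N2531 F5622) (tt N1133 (iv6 D3585)) (tt N5479 D7919))
theorem Q2533 : ∀ i, i < 2533 → P i := stepQ 2532 Q2532 (allL N2532 (tt N5480 D7920) (tt N5481 D7921) (tt N5482 D7922) (tt N1134 (iv3 D3586)) (tt N5459 (iv4 F12499)) (tt N5087 (iv5 F11678)) (tt N5483 D7923) (tt N2317 F5623))
theorem Q2534 : ∀ i, i < 2534 → P i := stepQ 2533 Q2533 (allL N2533 (tt N5349 (iv1 F12555)) (tt N2270 F26608) (tt N2316 F5624) (tt N5483 (iv3 F12542)) (tt N1135 F5625) (tt N5484 D7926) (tt N1134 (iv6 D3587)) (tt N5485 D7927))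
theorem Q2535 : ∀ i, i < 2535 → P i := stepQ 2534 Q2534 (allL N2534 (tt N3570 (iv1 F8183)) (tt N1135 (iv0 D3588)) (tt N4075 F9437) (tt N4997 F12533) (tt N5004 F12535) (tt N5486 D7928) (tt N4412 (iv6 F10571)) (tt N4076 F9435))
theorem Q2536 : ∀ i, i < 2536 → P i := stepQ 2535 Q2535 (allL N2535 (tt N1135 (iv1 D3589)) (tt N3570 (iv0 F8182)) (tt N4076 (iv2 F9434)) (tt N5455 (iv3 F12492)) (tt N5005 F12039) (tt N2023 (iv5 F5626)) (tt N3647 (iv6 F8307)) (tt N4075 (iv7 F9436)))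
theorem Q2537 : ∀ i, i < 2537 → P i := stepQ 2536 Q2536 (allL N2536 (tt N4076 (iv1 F9431)) (tt N4075 F9430) (tt N3570 (iv2 F8178)) (tt N5479 (iv3 F12525)) (tt N5485 (iv4 F12546)) (tt N2536 F5627) (tt N1607 F5628) (tt N1135 (iv7 D3590)))
theorem Q2538 : ∀ i, i < 2538 → P i := stepQ 2537 Q2537 (allL N2537 (tt N4123 (iv1 F9535)) (tt N1136 (iv0 D3591)) (tt N4122 (iv2 F27236)) (tt N5487 D7930) (tt N5488 D7931) (tt N5489 D7932) (tt N5490 D7933) (tt N4121 (iv7 F27237)))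
theorem Q2539 : ∀ i, i < 2539 → P i := stepQ 2538 Q2538 (allL N2538 (tt N1136 (iv1 D3592)) (tt N4123 F9537) (tt N4121 F27238) (tt N5491 D7935) (tt N5492 D7936) (tt N5493 D7937) (tt N5494 D7938) (tt N4122 F27239))
theorem Q2540 : ∀ i, i < 2540 → P i := stepQ 2539 Q2539 (allL N2539 (tt N4122 (iv1 F9536)) (tt N4121 F9532) (tt N1136 (iv2 D3593)) (tt N4079 (iv3 F9439)) (tt N5464 (iv4 F12507)) (tt N5223 (iv5 F11826)) (tt N5495 D7939) (tt N4123 (iv7 F9534)))
theorem Q2541 : ∀ i, i < 2541 → P i := stepQ 2540 Q2540 (allL N2540 (tt N5496 D7940) (tt N5497 D7941) (tt N5495 (iv2 F12573)) (tt N1137 F5629) (tt N5466 (iv4 F12510)) (tt N5498 D7942) (tt N1136 (iv6 D3594)) (tt N5499 D7943))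
theorem Q2542 : ∀ i, i < 2542 → P i := stepQ 2541 Q2541 (allL N2541 (tt N5500 D7944) (tt N5501 D7945) (tt N4081 (iv2 F9446)) (tt N5498 (iv3 F12574)) (tt N5502 D7946) (tt N1137 (iv5 D3597)) (tt N5228 (iv6 F11829)) (tt N5503 D7947))
theorem Q2543 : ∀ i, i < 2543 → P i := stepQ 2542 Q2542 (allL N2542 (tt N3972 (iv1 F10658)) (tt N3970 (iv0 F10688)) (tt N4082 (iv2 F9447)) (tt N5499 (iv3 F12575)) (tt N1140 F5630) (tt N5503 (iv5 F12577)) (tt N4126 (iv6 F9543)) (tt N1137 (iv7 D3598)))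
theorem Q2544 : ∀ i, i < 2544 → P i := stepQ 2543 Q2543 (allL N2543 (tt N5504 D7954) (tt N1750 F10687) (tt N2329 F12597) (tt N1138 (iv3 D3600)) (tt N5468 F12598) (tt N5505 D7955) (tt N5506 D7956) (tt N4085 F12637))
theorem Q2545 : ∀ i, i < 2545 → P i := stepQ 2544 Q2544 (allL N2544 (tt N2328 F10685) (tt N1812 F10686) (tt N2325 F12633) (tt N5507 D7957) (tt N1138 (iv4 D3601)) (tt N5508 D7958) (tt N5509 D7959) (tt N2326 F12634))
theorem Q2546 : ∀ i, i < 2546 → P i := stepQ 2545 Q2545 (allL N2545 (tt N3533 F7947) (tt N5439 F12458) (tt N4083 (iv2 F12628)) (tt N5505 (iv3 F12666)) (tt N2361 F26420) (tt N1138 (iv5 D3602)) (tt N5510 D7961) (tt N4086 F12638))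
theorem Q2547 : ∀ i, i < 2547 → P i := stepQ 2546 Q2546 (allL N2546 (tt N3566 F8170) (tt N2016 (iv0 F5633)) (tt N4084 (iv2 F12623)) (tt N5506 (iv3 F12668)) (tt N5509 (iv4 F12686)) (tt N2033 F5632) (tt N1138 (iv6 D3603)) (tt N5354 F12650))
theorem Q2548 : ∀ i, i < 2548 → P i := stepQ 2547 Q2547 (allL N2547 (tt N1812 F10667) (tt N2328 F10668) (tt N2326 F12635) (tt N5511 D7962) (tt N1139 (iv4 D3606)) (tt N5512 D7963) (tt N5513 D7964) (tt N2325 F12636))
theorem Q2549 : ∀ i, i < 2549 → P i := stepQ 2548 Q2548 (allL N2548 (tt N5439 (iv1 F12459)) (tt N3533 (iv0 F7945)) (tt N4086 (iv2 F12639)) (tt N2333 F12600) (tt N2362 F26379) (tt N1139 (iv5 D3607)) (tt N2032 F5635) (tt N4083 (iv7 F12629)))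
theorem Q2550 : ∀ i, i < 2550 → P i := stepQ 2549 Q2549 (allL N2549 (tt N4410 F10569) (tt N4412 F12449) (tt N4087 F12643) (tt N2334 F12601) (tt N5513 (iv4 F12708)) (tt N5514 D7966) (tt N1139 (iv6 D3608)) (tt N5514 (iv7 F12717)))
theorem Q2551 : ∀ i, i < 2551 → P i := stepQ 2550 Q2550 (allL N2550 (tt N1859 (iv1 F5636)) (tt N1141 (iv0 D3609)) (tt N1858 F12327) (tt N2833 F5928) (tt N5515 D7967) (tt N4197 (iv5 F14007)) (tt N4216 (iv6 F13906)) (tt N1857 F12328))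
theorem Q2552 : ∀ i, i < 2552 → P i := stepQ 2551 Q2551 (allL N2551 (tt N1141 (iv1 D3610)) (tt N1859 F5641) (tt N1857 F12329) (tt N5516 D7970) (tt N5517 D7971) (tt N4196 (iv5 F14010)) (tt N5518 D7973) (tt N1858 F12330))
theorem Q2553 : ∀ i, i < 2553 → P i := stepQ 2552 Q2552 (allL N2552 (tt N1858 (iv1 F5642)) (tt N1857 F5640) (tt N1141 (iv2 D3611)) (tt N2487 F5637) (tt N2552 F5638) (tt N5519 D7974) (tt N5520 D7975) (tt N1859 F5639))
theorem Q2554 : ∀ i, i < 2554 → P i := stepQ 2553 Q2553 (allL N2553 (tt N1921 F14021) (tt N1925 F14022) (tt N5519 (iv2 F12732)) (tt N1142 F5643) (tt N5521 D7978) (tt N1141 (iv5 D3612)) (tt N5522 D7979) (tt N1860 F5644))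
theorem Q2555 : ∀ i, i < 2555 → P i := stepQ 2554 Q2554 (allL N2554 (tt N5523 D7980) (tt N4064 (iv0 F14031)) (tt N5520 (iv2 F12737)) (tt N1143 F5645) (tt N2554 F5646) (tt N5524 D7982) (tt N1141 (iv6 D3613)) (tt N1933 F5647))
theorem Q2556 : ∀ i, i < 2556 → P i := stepQ 2555 Q2555 (allL N2555 (tt N5525 D7983) (tt N5526 D7984) (tt N2508 F5648) (tt N5522 (iv3 F12747)) (tt N2467 F5649) (tt N5527 D7985) (tt N1142 (iv6 D3614)) (tt N5528 D7986))
theorem Q2557 : ∀ i, i < 2557 → P i := stepQ 2556 Q2556 (allL N2556 (tt N2796 (iv1 F5872)) (tt N2480 F5652) (tt N2509 F5650) (tt N5524 (iv3 F12750)) (tt N5529 D7987) (tt N1143 (iv5 D3615)) (tt N5527 (iv6 F12756)) (tt N1945 F5651))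
theorem Q2558 : ∀ i, i < 2558 → P i := stepQ 2557 Q2557 (allL N2557 (tt N4090 (iv1 F9466)) (tt N1144 (iv0 D3616)) (tt N4089 (iv2 F12342)) (tt N4063 F9415) (tt N5530 D7988) (tt N5531 D7989) (tt N5532 D7990) (tt N4088 (iv7 F12345)))
theorem Q2559 : ∀ i, i < 2559 → P i := stepQ 2558 Q2558 (allL N2558 (tt N1144 (iv1 D3617)) (tt N4090 (iv0 F9468)) (tt N4088 F12343) (tt N5533 D7991) (tt N2489 (iv4 F5653)) (tt N5534 D7992) (tt N5535 D7993) (tt N4089 F12341))
theorem Q2560 : ∀ i, i < 2560 → P i := stepQ 2559 Q2559 (allL N2559 (tt N4089 (iv1 F9467)) (tt N4088 F9461) (tt N1144 (iv2 D3618)) (tt N2966 F6118) (tt N2559 F5654) (tt N5536 D7994) (tt N5537 D7995) (tt N4090 (iv7 F9465)))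
theorem Q2561 : ∀ i, i < 2561 → P i := stepQ 2560 Q2560 (allL N2560 (tt N5538 D7996) (tt N3227 F295878) (tt N5536 (iv2 F12776)) (tt N1145 F5655) (tt N5539 D7998) (tt N1144 (iv5 D3619)) (tt N5540 D7999) (tt N2662 (iv7 F5740)))
theorem Q2562 : ∀ i, i < 2562 → P i := stepQ 2561 Q2561 (allL N2561 (tt N5541 D8000) (tt N5542 D8001) (tt N5537 (iv2 F12777)) (tt N1146 F5656) (tt N2561 F5657) (tt N5543 D8002) (tt N1144 (iv6 D3620)) (tt N2645 (iv7 F5722)))
theorem Q2563 : ∀ i, i < 2563 → P i := stepQ 2562 Q2562 (allL N2562 (tt N5544 D8003) (tt N5545 D8004) (tt N2665 (iv2 F5744)) (tt N5540 (iv3 F12779)) (tt N5086 (iv4 F11677)) (tt N5546 D8005) (tt N1145 (iv6 D3621)) (tt N5547 D8006))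
theorem Q2564 : ∀ i, i < 2564 → P i := stepQ 2563 Q2563 (allL N2563 (tt N4111 (iv1 F9511)) (tt N1158 F5658) (tt N2644 (iv2 F5716)) (tt N5543 (iv3 F12780)) (tt N5548 D8007) (tt N1146 (iv5 D3622)) (tt N5546 (iv6 F12781)) (tt N2646 (iv7 F5724)))
theorem Q2565 : ∀ i, i < 2565 → P i := stepQ 2564 Q2564 (allL N2564 (tt N2966 F6117) (tt N1147 (iv0 D3623)) (tt N2910 (iv2 F6282)) (tt N2906 (iv3 F6287)) (tt N2909 F6281) (tt N2817 (iv5 F7337)) (tt N5549 D8008) (tt N2924 (iv7 F6284)))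
theorem Q2566 : ∀ i, i < 2566 → P i := stepQ 2565 Q2565 (allL N2565 (tt N1147 (iv1 D3624)) (tt N2966 (iv0 F6116)) (tt N2924 F6285) (tt N5550 D8009) (tt N2912 (iv4 F6296)) (tt N2818 F7027) (tt N5551 D8010) (tt N2910 F6283))
theorem Q2567 : ∀ i, i < 2567 → P i := stepQ 2566 Q2566 (allL N2566 (tt N2910 F6033) (tt N2924 F6056) (tt N1147 (iv2 D3625)) (tt N4090 (iv3 F9462)) (tt N1265 F5659) (tt N5552 D8011) (tt N1256 F5660) (tt N2966 (iv7 F6115)))
theorem Q2568 : ∀ i, i < 2568 → P i := stepQ 2567 Q2567 (allL N2567 (tt N3224 (iv1 F7022)) (tt N3197 (iv0 F7021)) (tt N5552 (iv2 F12784)) (tt N1148 F5661) (tt N5553 D8012) (tt N1147 (iv5 D3626)) (tt N5554 D8013) (tt N2664 (iv7 F5743)))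
theorem Q2569 : ∀ i, i < 2569 → P i := stepQ 2568 Q2568 (allL N2568 (tt N5555 D8014) (tt N5556 D8015) (tt N2663 (iv2 F5741)) (tt N5554 (iv3 F12787)) (tt N5088 (iv4 F11681)) (tt N1260 F5662) (tt N1148 (iv6 D3627)) (tt N5557 D8016))
theorem Q2570 : ∀ i, i < 2570 → P i := stepQ 2569 Q2569 (allL N2569 (tt N5550 (iv1 F12974)) (tt N2915 (iv0 F6043)) (tt N5558 D8024) (tt N1149 (iv3 D3629)) (tt N2483 F5664) (tt N5559 D8025) (tt N5560 D8026) (tt N4129 (iv7 F12829)))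
theorem Q2571 : ∀ i, i < 2571 → P i := stepQ 2570 Q2570 (allL N2570 (tt N5384 F12353) (tt N5516 F12724) (tt N4132 (iv2 F12821)) (tt N5561 D8028) (tt N1149 (iv4 D3630)) (tt N2707 F296219) (tt N5562 D8030) (tt N4130 F12816))
theorem Q2572 : ∀ i, i < 2572 → P i := stepQ 2571 Q2571 (allL N2571 (tt N2657 (iv1 F13326)) (tt N1906 (iv0 F13327)) (tt N2659 (iv2 F13424)) (tt N5559 (iv3 F12803)) (tt N5563 D8033) (tt N1149 (iv5 D3631)) (tt N5564 D8034) (tt N2658 F13423))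
theorem Q2573 : ∀ i, i < 2573 → P i := stepQ 2572 Q2572 (allL N2572 (tt N5565 D8035) (tt N1894 (iv0 F13347)) (tt N4133 (iv2 F12825)) (tt N5560 (iv3 F12804)) (tt N5562 (iv4 F12840)) (tt N5566 D8037) (tt N1149 (iv6 D3632)) (tt N2654 F16977))
theorem Q2574 : ∀ i, i < 2574 → P i := stepQ 2573 Q2573 (allL N2573 (tt N4060 F12355) (tt N4063 F12728) (tt N5567 D8039) (tt N1150 (iv3 D3634)) (tt N5567 F12844) (tt N5568 D8040) (tt N2655 F16980) (tt N4131 (iv7 F12820)))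
theorem Q2575 : ∀ i, i < 2575 → P i := stepQ 2574 Q2574 (allL N2574 (tt N5516 (iv1 F12796)) (tt N5384 (iv0 F12354)) (tt N4130 (iv2 F12817)) (tt N2482 (iv3 F5666)) (tt N1150 (iv4 D3635)) (tt N2708 (iv5 F296688)) (tt N2656 F16981) (tt N4132 (iv7 F12822)))
theorem Q2576 : ∀ i, i < 2576 → P i := stepQ 2575 Q2575 (allL N2575 (tt N1906 F13328) (tt N2657 F13329) (tt N2658 F13422) (tt N5568 (iv3 F12849)) (tt N5569 D8044) (tt N1150 (iv5 D3636)) (tt N5570 D8045) (tt N2659 (iv7 F13425)))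
theorem Q2577 : ∀ i, i < 2577 → P i := stepQ 2576 Q2576 (allL N2576 (tt N4137 (iv1 F9574)) (tt N4136 F9573) (tt N1152 F5667) (tt N4093 (iv3 F9473)) (tt N5571 D8050) (tt N1151 (iv5 D3638)) (tt N5572 D8051) (tt N4134 (iv7 F9567)))
theorem Q2578 : ∀ i, i < 2578 → P i := stepQ 2577 Q2577 (allL N2577 (tt N5573 D8052) (tt N5574 D8053) (tt N1153 F5668) (tt N4094 (iv3 F9478)) (tt N4094 (iv4 F9479)) (tt N5575 D8054) (tt N1151 (iv6 D3639)) (tt N5576 D8055))
theorem Q2579 : ∀ i, i < 2579 → P i := stepQ 2578 Q2578 (allL N2578 (tt N4134 (iv1 F9569)) (tt N1152 (iv0 D3640)) (tt N4137 (iv2 F13440)) (tt N5577 D8057) (tt N5578 D8058) (tt N1181 (iv5 F13443)) (tt N5579 D8060) (tt N4136 (iv7 F13437)))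
theorem Q2580 : ∀ i, i < 2580 → P i := stepQ 2579 Q2579 (allL N2579 (tt N1152 (iv1 D3641)) (tt N4134 F9568) (tt N4136 (iv2 F13436)) (tt N5580 D8062) (tt N5581 D8063) (tt N1182 (iv5 F13439)) (tt N5582 D8065) (tt N4137 (iv7 F13441)))
theorem Q2581 : ∀ i, i < 2581 → P i := stepQ 2580 Q2580 (allL N2580 (tt N5583 D8066) (tt N5584 D8067) (tt N5571 (iv2 F12854)) (tt N5231 (iv3 F11832)) (tt N1152 (iv4 D3642)) (tt N5585 D8068) (tt N5586 D8069) (tt N4138 (iv7 F9575)))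
theorem Q2582 : ∀ i, i < 2582 → P i := stepQ 2581 Q2581 (allL N2581 (tt N5587 D8070) (tt N5588 D8071) (tt N5572 (iv2 F12855)) (tt N1155 F5669) (tt N5586 (iv4 F12864)) (tt N5589 D8072) (tt N1152 (iv6 D3643)) (tt N5590 D8073))
theorem Q2583 : ∀ i, i < 2583 → P i := stepQ 2582 Q2582 (allL N2582 (tt N5576 (iv1 F12861)) (tt N1153 (iv0 D3644)) (tt N5573 (iv2 F21680)) (tt N5591 D8075) (tt N5592 D8076) (tt N5593 D8077) (tt N4163 (iv6 F21529)) (tt N5574 (iv7 F21679)))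
theorem Q2584 : ∀ i, i < 2584 → P i := stepQ 2583 Q2583 (allL N2583 (tt N1153 (iv1 D3645)) (tt N5576 F12860) (tt N5574 (iv2 F21676)) (tt N5594 D8080) (tt N5595 D8081) (tt N5596 D8082) (tt N2583 F21675) (tt N5573 (iv7 F21681)))
theorem Q2585 : ∀ i, i < 2585 → P i := stepQ 2584 Q2584 (allL N2584 (tt N5566 (iv1 F17009)) (tt N5597 D8085) (tt N5575 (iv2 F12857)) (tt N1158 F5670) (tt N5598 D8086) (tt N1153 (iv5 D3646)) (tt N5589 (iv6 F12866)) (tt N5599 D8087))
theorem Q2586 : ∀ i, i < 2586 → P i := stepQ 2585 Q2585 (allL N2585 (tt N5574 (iv1 F12856)) (tt N5573 F12859) (tt N5576 (iv2 F12858)) (tt N1159 F5671) (tt N4102 (iv4 F9486)) (tt N5599 (iv5 F12871)) (tt N4142 (iv6 F9580)) (tt N1153 (iv7 D3647)))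
theorem Q2587 : ∀ i, i < 2587 → P i := stepQ 2586 Q2586 (allL N2586 (tt N5531 (iv1 F13768)) (tt N5534 (iv0 F13757)) (tt N5600 D8090) (tt N1154 (iv3 D3648)) (tt N5601 D8091) (tt N1180 F5672) (tt N5602 D8092) (tt N2801 (iv7 F5884)))
theorem Q2588 : ∀ i, i < 2588 → P i := stepQ 2587 Q2587 (allL N2587 (tt N5238 (iv1 F28953)) (tt N5242 (iv0 F28954)) (tt N2828 (iv2 F5924)) (tt N5602 (iv3 F12874)) (tt N2040 F5673) (tt N5603 D8095) (tt N1154 (iv6 D3649)) (tt N5604 D8096))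
theorem Q2589 : ∀ i, i < 2589 → P i := stepQ 2588 Q2588 (allL N2588 (tt N4106 (iv1 F9495)) (tt N1155 (iv0 D3650)) (tt N4103 F28802) (tt N5605 D8098) (tt N5606 D8099) (tt N5607 D8100) (tt N5608 D8101) (tt N4104 (iv7 F28813)))
theorem Q2590 : ∀ i, i < 2590 → P i := stepQ 2589 Q2589 (allL N2589 (tt N1155 (iv1 D3651)) (tt N4106 F9494) (tt N4104 (iv2 F28812)) (tt N5609 D8103) (tt N5610 D8104) (tt N5611 D8105) (tt N5612 D8106) (tt N4103 F28808))
theorem Q2591 : ∀ i, i < 2591 → P i := stepQ 2590 Q2590 (allL N2590 (tt N5613 D8107) (tt N5614 D8108) (tt N4105 (iv2 F9489)) (tt N5589 (iv3 F12865)) (tt N5615 D8109) (tt N1155 (iv5 D3652)) (tt N1158 F5674) (tt N5616 D8110))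
theorem Q2592 : ∀ i, i < 2592 → P i := stepQ 2591 Q2591 (allL N2591 (tt N4104 (iv1 F9488)) (tt N4103 F9493) (tt N4106 (iv2 F9491)) (tt N5590 (iv3 F12867)) (tt N5236 (iv4 F11835)) (tt N5616 (iv5 F12881)) (tt N4146 (iv6 F9585)) (tt N1155 (iv7 D3653)))
theorem Q2593 : ∀ i, i < 2593 → P i := stepQ 2592 Q2592 (allL N2592 (tt N5617 D8111) (tt N5535 (iv0 F17607)) (tt N5618 D8113) (tt N1156 (iv3 D3654)) (tt N2592 F5675) (tt N5619 D8114) (tt N2677 (iv6 F5764)) (tt N4108 (iv7 F9502)))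
theorem Q2594 : ∀ i, i < 2594 → P i := stepQ 2593 Q2593 (allL N2593 (tt N1178 F5676) (tt N4148 F9592) (tt N4107 (iv2 F9496)) (tt N5619 (iv3 F12883)) (tt N5620 D8115) (tt N1156 (iv5 D3655)) (tt N5621 D8116) (tt N4109 (iv7 F9504)))
theorem Q2595 : ∀ i, i < 2595 → P i := stepQ 2594 Q2594 (allL N2594 (tt N5549 (iv1 F17515)) (tt N5622 D8118) (tt N5623 D8119) (tt N1157 (iv3 D3656)) (tt N1353 F5677) (tt N5624 D8120) (tt N2594 F5678) (tt N3022 (iv7 F6202)))
theorem Q2596 : ∀ i, i < 2596 → P i := stepQ 2595 Q2595 (allL N2595 (tt N4148 (iv1 F9593)) (tt N1178 F5679) (tt N4109 (iv2 F9503)) (tt N5624 (iv3 F12886)) (tt N5625 D8121) (tt N1157 (iv5 D3657)) (tt N5626 D8122) (tt N4107 (iv7 F9497)))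
theorem Q2597 : ∀ i, i < 2597 → P i := stepQ 2596 Q2596 (allL N2596 (tt N1158 (iv1 D3658)) (tt N4111 F9510) (tt N2646 (iv2 F5723)) (tt N5627 D8123) (tt N5628 D8124) (tt N1262 F5680) (tt N5629 D8125) (tt N2644 (iv7 F5717)))
theorem Q2598 : ∀ i, i < 2598 → P i := stepQ 2597 Q2597 (allL N2597 (tt N5529 (iv1 F12765)) (tt N2797 (iv0 F5874)) (tt N4110 (iv2 F9507)) (tt N5630 D8126) (tt N1158 (iv4 D3659)) (tt N5631 D8127) (tt N5615 (iv6 F12880)) (tt N5632 D8128))
theorem Q2599 : ∀ i, i < 2599 → P i := stepQ 2598 Q2598 (allL N2598 (tt N2646 (iv1 F5726)) (tt N2644 (iv0 F5718)) (tt N4111 (iv2 F9508)) (tt N5599 (iv3 F12870)) (tt N5632 (iv4 F12894)) (tt N1159 F5681) (tt N5633 D8129) (tt N1158 (iv7 D3660)))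
theorem Q2600 : ∀ i, i < 2600 → P i := stepQ 2599 Q2599 (allL N2599 (tt N1161 (iv1 F5684)) (tt N1160 (iv0 D3661)) (tt N2481 (iv2 F5683)) (tt N5634 D8130) (tt N1249 F5682) (tt N2796 (iv5 F5873)) (tt N1238 (iv6 F5686)) (tt N1246 F5685))
theorem Q2601 : ∀ i, i < 2601 → P i := stepQ 2600 Q2600 (allL N2600 (tt N5635 D8131) (tt N5518 (iv0 F21439)) (tt N5636 D8133) (tt N1160 (iv3 D3662)) (tt N2600 F5687) (tt N5637 D8134) (tt N2680 (iv6 F5777)) (tt N4112 (iv7 F9514)))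
theorem Q2602 : ∀ i, i < 2602 → P i := stepQ 2601 Q2601 (allL N2601 (tt N2486 F5688) (tt N4251 (iv0 F9825)) (tt N3030 (iv2 F6235)) (tt N5637 (iv3 F12902)) (tt N5638 D8135) (tt N1160 (iv5 D3663)) (tt N5639 D8136) (tt N4113 (iv7 F9516)))
theorem Q2603 : ∀ i, i < 2603 → P i := stepQ 2602 Q2602 (allL N2602 (tt N2491 (iv1 F17500)) (tt N5640 D8138) (tt N5641 D8139) (tt N1161 (iv3 D3664)) (tt N1359 F5689) (tt N5642 D8140) (tt N2602 F5690) (tt N3029 (iv7 F6234)))
theorem Q2604 : ∀ i, i < 2604 → P i := stepQ 2603 Q2603 (allL N2603 (tt N4251 (iv1 F9826)) (tt N2486 F5691) (tt N4113 (iv2 F9515)) (tt N5642 (iv3 F12906)) (tt N5643 D8141) (tt N1161 (iv5 D3665)) (tt N5644 D8142) (tt N3030 (iv7 F6236)))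
theorem Q2605 : ∀ i, i < 2605 → P i := stepQ 2604 Q2604 (allL N2604 (tt N2519 F5694) (tt N1883 F5695) (tt N1848 F5692) (tt N5018 (iv3 F11564)) (tt N1162 (iv4 D3666)) (tt N5645 D8143) (tt N3513 (iv6 F7907)) (tt N2524 F5693))
theorem Q2606 : ∀ i, i < 2606 → P i := stepQ 2605 Q2605 (allL N2605 (tt N5646 D8144) (tt N5647 D8145) (tt N5648 D8146) (tt N1163 (iv3 D3667)) (tt N1165 F5696) (tt N5649 D8147) (tt N5650 D8148) (tt N3832 (iv7 F8869)))
theorem Q2607 : ∀ i, i < 2607 → P i := stepQ 2606 Q2606 (allL N2606 (tt N3435 (iv1 F7691)) (tt N5441 (iv0 F12464)) (tt N3838 (iv2 F8876)) (tt N5649 (iv3 F12916)) (tt N5446 (iv4 F12476)) (tt N1163 (iv5 D3668)) (tt N5651 D8149) (tt N3833 (iv7 F8870)))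
theorem Q2608 : ∀ i, i < 2608 → P i := stepQ 2607 Q2607 (allL N2607 (tt N5652 D8150) (tt N5451 (iv0 F26349)) (tt N3839 (iv2 F8879)) (tt N5650 (iv3 F12917)) (tt N1164 F5697) (tt N5653 D8152) (tt N1163 (iv6 D3669)) (tt N5654 D8153))
theorem Q2609 : ∀ i, i < 2609 → P i := stepQ 2608 Q2608 (allL N2608 (tt N3841 (iv1 F8890)) (tt N1164 (iv0 D3670)) (tt N3840 F8882) (tt N1887 (iv3 F8768)) (tt N5655 D8154) (tt N5656 D8155) (tt N3779 F8767) (tt N2618 F8769))
theorem Q2610 : ∀ i, i < 2610 → P i := stepQ 2609 Q2609 (allL N2609 (tt N2618 (iv1 F8886)) (tt N3840 F8887) (tt N3841 (iv2 F8888)) (tt N1169 F5698) (tt N5654 (iv4 F12920)) (tt N3836 (iv5 F8874)) (tt N3836 (iv6 F8875)) (tt N1164 (iv7 D3672)))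
theorem Q2611 : ∀ i, i < 2611 → P i := stepQ 2610 Q2610 (allL N2610 (tt N4079 (iv1 F9441)) (tt N1165 (iv0 D3673)) (tt N4078 (iv2 F26574)) (tt N3981 F26413) (tt N5657 D8158) (tt N5658 D8159) (tt N4570 (iv6 F26505)) (tt N4077 (iv7 F26575)))
theorem Q2612 : ∀ i, i < 2612 → P i := stepQ 2611 Q2611 (allL N2611 (tt N1165 (iv1 D3674)) (tt N4079 F9443) (tt N4077 F26618) (tt N5659 D8162) (tt N5660 D8163) (tt N5661 D8164) (tt N5662 D8165) (tt N4078 F26619))
theorem Q2613 : ∀ i, i < 2613 → P i := stepQ 2612 Q2612 (allL N2612 (tt N4078 (iv1 F9442)) (tt N4077 F9438) (tt N1165 (iv2 D3675)) (tt N4123 (iv3 F9533)) (tt N5648 (iv4 F12915)) (tt N5230 (iv5 F11831)) (tt N5000 F26653) (tt N4079 (iv7 F9440)))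
theorem Q2614 : ∀ i, i < 2614 → P i := stepQ 2613 Q2613 (allL N2613 (tt N1855 (iv1 F26770)) (tt N5002 (iv0 F26771)) (tt N5000 (iv2 F26642)) (tt N1166 F5699) (tt N5650 (iv4 F12918)) (tt N4030 (iv5 F27018)) (tt N1165 (iv6 D3676)) (tt N5001 F26623))
theorem Q2615 : ∀ i, i < 2615 → P i := stepQ 2614 Q2614 (allL N2614 (tt N5663 D8171) (tt N5664 D8172) (tt N4125 (iv2 F9540)) (tt N4030 F27020) (tt N5665 D8173) (tt N1166 (iv5 D3679)) (tt N5235 (iv6 F11834)) (tt N5666 D8174))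
theorem Q2616 : ∀ i, i < 2616 → P i := stepQ 2615 Q2615 (allL N2615 (tt N3982 (iv1 F10677)) (tt N3981 (iv0 F10674)) (tt N4126 (iv2 F9541)) (tt N5001 (iv3 F26583)) (tt N1169 F5700) (tt N5666 (iv5 F12930)) (tt N4082 (iv6 F9449)) (tt N1166 (iv7 D3680)))
theorem Q2617 : ∀ i, i < 2617 → P i := stepQ 2616 Q2616 (allL N2616 (tt N1810 F26363) (tt N1818 F10670) (tt N2341 (iv2 F26474)) (tt N5667 D8175) (tt N1167 (iv4 D3683)) (tt N5101 F26514) (tt N4315 (iv6 F10432)) (tt N2342 (iv7 F26478)))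
theorem Q2618 : ∀ i, i < 2618 → P i := stepQ 2617 Q2617 (allL N2617 (tt N5668 D8177) (tt N2025 (iv0 F7954)) (tt N4127 (iv2 F9549)) (tt N2288 F10070) (tt N5669 D8178) (tt N1167 (iv5 D3684)) (tt N3530 F7940) (tt N4128 (iv7 F9559)))
theorem Q2619 : ∀ i, i < 2619 → P i := stepQ 2618 Q2618 (allL N2618 (tt N1752 (iv1 F8885)) (tt N2609 F8886) (tt N2346 (iv2 F10056)) (tt N1168 (iv3 D3686)) (tt N5670 D8179) (tt N5671 D8180) (tt N4363 F10510) (tt N2608 (iv7 F8769)))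
theorem Q2620 : ∀ i, i < 2620 → P i := stepQ 2619 Q2619 (allL N2619 (tt N1818 F10671) (tt N1810 F26360) (tt N2342 (iv2 F26477)) (tt N5672 D8181) (tt N1168 (iv4 D3687)) (tt N5100 F26513) (tt N2249 (iv6 F8002)) (tt N2341 (iv7 F26475)))
theorem Q2621 : ∀ i, i < 2621 → P i := stepQ 2620 Q2620 (allL N2620 (tt N2025 F7946) (tt N5668 F12938) (tt N4128 (iv2 F9557)) (tt N5671 (iv3 F12950)) (tt N4583 (iv4 F10935)) (tt N1168 (iv5 D3688)) (tt N1991 F5703) (tt N4127 (iv7 F9551)))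
theorem Q2622 : ∀ i, i < 2622 → P i := stepQ 2621 Q2621 (allL N2621 (tt N1534 F7999) (tt N1537 F8000) (tt N2014 F8032) (tt N4363 (iv3 F10505)) (tt N2249 F8001) (tt N1715 (iv5 F7983)) (tt N1168 (iv6 D3689)) (tt N1714 F8028))
theorem Q2623 : ∀ i, i < 2623 → P i := stepQ 2622 Q2622 (allL N2622 (tt N5533 F12773) (tt N5673 D8183) (tt N2852 F12185) (tt N1170 (iv3 D3691)) (tt N1272 F5705) (tt N5674 D8184) (tt N1410 (iv6 F16744)) (tt N2854 (iv7 F12165)))
theorem Q2624 : ∀ i, i < 2624 → P i := stepQ 2623 Q2623 (allL N2623 (tt N5675 D8186) (tt N2493 (iv0 F12102)) (tt N4092 F12201) (tt N5676 D8187) (tt N1170 (iv4 D3692)) (tt N5677 D8188) (tt N2669 (iv6 F16759)) (tt N4091 (iv7 F12205)))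
theorem Q2625 : ∀ i, i < 2625 → P i := stepQ 2624 Q2624 (allL N2624 (tt N1908 (iv1 F296170)) (tt N1901 F13416) (tt N2673 F13319) (tt N5674 (iv3 F12961)) (tt N5090 (iv4 F296185)) (tt N1170 (iv5 D3693)) (tt N5678 D8193) (tt N2672 (iv7 F13323)))
theorem Q2626 : ∀ i, i < 2626 → P i := stepQ 2625 Q2625 (allL N2625 (tt N2918 (iv1 F12104)) (tt N2906 (iv0 F12100)) (tt N2913 (iv2 F12106)) (tt N1171 (iv3 D3696)) (tt N3042 F12099) (tt N3208 F12103) (tt N5679 D8198) (tt N2914 (iv7 F12184)))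
theorem Q2627 : ∀ i, i < 2627 → P i := stepQ 2626 Q2626 (allL N2626 (tt N2493 (iv1 F12204)) (tt N5675 F12966) (tt N4091 F12208) (tt N2476 (iv3 F5707)) (tt N1171 (iv4 D3697)) (tt N5680 D8199) (tt N5681 D8200) (tt N4092 F12171))
theorem Q2628 : ∀ i, i < 2628 → P i := stepQ 2627 Q2627 (allL N2627 (tt N1901 (iv1 F13413)) (tt N1908 (iv0 F296169)) (tt N2672 (iv2 F13322)) (tt N3208 (iv3 F12105)) (tt N5089 (iv4 F296706)) (tt N1171 (iv5 D3698)) (tt N5682 D8202) (tt N2673 F13321))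
theorem Q2629 : ∀ i, i < 2629 → P i := stepQ 2628 Q2628 (allL N2628 (tt N2638 F12983) (tt N2630 F12990) (tt N2635 F13006) (tt N5679 (iv3 F12978)) (tt N5681 (iv4 F12982)) (tt N5683 D8204) (tt N1171 (iv6 D3699)) (tt N2636 (iv7 F13008)))
theorem Q2630 : ∀ i, i < 2630 → P i := stepQ 2629 Q2629 (allL N2629 (tt N4096 (iv1 F9481)) (tt N4095 F9480) (tt N1173 F5708) (tt N4134 (iv3 F9566)) (tt N5244 (iv4 F296883)) (tt N1172 (iv5 D3700)) (tt N5242 (iv6 F296884)) (tt N4093 (iv7 F9474)))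
theorem Q2631 : ∀ i, i < 2631 → P i := stepQ 2630 Q2630 (allL N2630 (tt N2628 (iv1 F12990)) (tt N4150 (iv0 F16793)) (tt N1174 F5709) (tt N4135 (iv3 F9571)) (tt N4135 (iv4 F9572)) (tt N5684 D8210) (tt N1172 (iv6 D3701)) (tt N5685 D8211))
theorem Q2632 : ∀ i, i < 2632 → P i := stepQ 2631 Q2631 (allL N2631 (tt N4093 (iv1 F9476)) (tt N1173 (iv0 D3702)) (tt N4096 (iv2 F13448)) (tt N3123 (iv3 F13333)) (tt N5686 D8214) (tt N1188 (iv5 F13334)) (tt N5687 D8216) (tt N4095 (iv7 F13447)))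
theorem Q2633 : ∀ i, i < 2633 → P i := stepQ 2632 Q2632 (allL N2632 (tt N1173 (iv1 D3703)) (tt N4093 F9475) (tt N4095 (iv2 F13444)) (tt N5688 D8218) (tt N5689 D8219) (tt N1189 (iv5 F13340)) (tt N4143 (iv6 F296881)) (tt N4096 (iv7 F13451)))
theorem Q2634 : ∀ i, i < 2634 → P i := stepQ 2633 Q2633 (allL N2633 (tt N5690 D8222) (tt N5691 D8223) (tt N5244 F296980) (tt N5224 (iv3 F11827)) (tt N1173 (iv4 D3704)) (tt N5692 D8224) (tt N4039 (iv6 F298697)) (tt N4097 (iv7 F9482)))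
theorem Q2635 : ∀ i, i < 2635 → P i := stepQ 2634 Q2634 (allL N2634 (tt N2828 F297106) (tt N5604 (iv0 F298124)) (tt N5242 F297107) (tt N1175 F5710) (tt N4039 (iv4 F298696)) (tt N5693 D8228) (tt N1173 (iv6 D3705)) (tt N5238 (iv7 F298123)))
theorem Q2636 : ∀ i, i < 2636 → P i := stepQ 2635 Q2635 (allL N2635 (tt N5685 (iv1 F12994)) (tt N1174 (iv0 D3706)) (tt N2628 (iv2 F13006)) (tt N5694 D8231) (tt N5695 D8232) (tt N5696 D8233) (tt N1870 F13004) (tt N4150 (iv7 F16796)))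
theorem Q2637 : ∀ i, i < 2637 → P i := stepQ 2636 Q2636 (allL N2636 (tt N1174 (iv1 D3707)) (tt N5685 F12993) (tt N4150 (iv2 F16795)) (tt N5697 D8234) (tt N5698 D8235) (tt N5699 D8236) (tt N1189 F16761) (tt N2628 F13008))
theorem Q2638 : ∀ i, i < 2638 → P i := stepQ 2637 Q2637 (allL N2637 (tt N5700 D8238) (tt N5621 F296260) (tt N5684 (iv2 F12991)) (tt N1178 F5711) (tt N5701 D8240) (tt N1174 (iv5 D3708)) (tt N5693 (iv6 F12999)) (tt N5702 D8241))
theorem Q2639 : ∀ i, i < 2639 → P i := stepQ 2638 Q2638 (allL N2638 (tt N4150 (iv1 F16794)) (tt N2628 (iv0 F12983)) (tt N5685 (iv2 F12992)) (tt N1179 F5712) (tt N4142 (iv4 F9579)) (tt N5702 (iv5 F13020)) (tt N4102 (iv6 F9487)) (tt N1174 (iv7 D3709)))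
theorem Q2640 : ∀ i, i < 2640 → P i := stepQ 2639 Q2639 (allL N2639 (tt N4146 (iv1 F9588)) (tt N1175 (iv0 D3710)) (tt N4143 (iv2 F30514)) (tt N5703 D8243) (tt N5704 D8244) (tt N5705 D8245) (tt N4095 F296182) (tt N4144 F30513))
theorem Q2641 : ∀ i, i < 2641 → P i := stepQ 2640 Q2640 (allL N2640 (tt N1175 (iv1 D3711)) (tt N4146 F9587) (tt N4144 F30503) (tt N5706 D8248) (tt N5707 D8249) (tt N5708 D8250) (tt N5709 D8251) (tt N4143 (iv7 F30515)))
theorem Q2642 : ∀ i, i < 2642 → P i := stepQ 2641 Q2641 (allL N2641 (tt N5710 D8252) (tt N5711 D8253) (tt N4145 (iv2 F9582)) (tt N5693 (iv3 F12998)) (tt N5712 D8254) (tt N1175 (iv5 D3712)) (tt N1178 F5713) (tt N5713 D8255))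
theorem Q2643 : ∀ i, i < 2643 → P i := stepQ 2642 Q2642 (allL N2642 (tt N4144 (iv1 F9581)) (tt N4143 F9586) (tt N4146 (iv2 F9584)) (tt N5238 (iv3 F298122)) (tt N5229 (iv4 F11830)) (tt N5713 (iv5 F13025)) (tt N4106 (iv6 F9492)) (tt N1175 (iv7 D3713)))
theorem Q2644 : ∀ i, i < 2644 → P i := stepQ 2643 Q2643 (allL N2643 (tt N5714 D8256) (tt N5551 (iv0 F12783)) (tt N5715 D8257) (tt N1176 (iv3 D3714)) (tt N1329 F5714) (tt N5716 D8258) (tt N1328 F5715) (tt N2822 (iv7 F5921)))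
theorem Q2645 : ∀ i, i < 2645 → P i := stepQ 2644 Q2644 (allL N2644 (tt N2598 F5718) (tt N1878 F5719) (tt N2563 F5716) (tt N5716 (iv3 F13030)) (tt N5717 D8259) (tt N1176 (iv5 D3715)) (tt N5718 D8260) (tt N2596 F5717))
theorem Q2646 : ∀ i, i < 2646 → P i := stepQ 2645 Q2645 (allL N2645 (tt N5532 (iv1 F13770)) (tt N5719 D8262) (tt N5720 D8263) (tt N1177 (iv3 D3716)) (tt N2645 F5720) (tt N5721 D8264) (tt N1180 F5721) (tt N2561 F5722))
theorem Q2647 : ∀ i, i < 2647 → P i := stepQ 2646 Q2646 (allL N2646 (tt N1878 F5725) (tt N2598 F5726) (tt N2596 F5723) (tt N5721 (iv3 F13044)) (tt N5722 D8265) (tt N1177 (iv5 D3717)) (tt N5603 (iv6 F12875)) (tt N2563 F5724))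
theorem Q2648 : ∀ i, i < 2648 → P i := stepQ 2647 Q2647 (allL N2647 (tt N5643 (iv1 F12907)) (tt N5638 (iv0 F12903)) (tt N4147 (iv2 F9589)) (tt N5723 D8266) (tt N1178 (iv4 D3718)) (tt N5632 (iv5 F12895)) (tt N5712 (iv6 F13024)) (tt N5631 (iv7 F12893)))
theorem Q2649 : ∀ i, i < 2649 → P i := stepQ 2648 Q2648 (allL N2648 (tt N4107 (iv1 F9499)) (tt N4109 (iv0 F9505)) (tt N4148 (iv2 F9590)) (tt N5702 (iv3 F13019)) (tt N5631 (iv4 F12892)) (tt N1179 F5727) (tt N5724 D8267) (tt N1178 (iv7 D3719)))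
theorem Q2650 : ∀ i, i < 2650 → P i := stepQ 2649 Q2649 (allL N2649 (tt N2800 (iv1 F5880)) (tt N1180 (iv0 D3720)) (tt N2799 (iv2 F6449)) (tt N1924 F5728) (tt N5725 D8268) (tt N5726 D8269) (tt N5727 D8270) (tt N2798 F6450))
theorem Q2651 : ∀ i, i < 2651 → P i := stepQ 2650 Q2650 (allL N2650 (tt N1180 (iv1 D3721)) (tt N2800 (iv0 F5882)) (tt N2798 F6448) (tt N3115 (iv3 F6659)) (tt N1212 (iv4 F5729)) (tt N5728 D8271) (tt N2650 F7210) (tt N2799 (iv7 F6447)))
theorem Q2652 : ∀ i, i < 2652 → P i := stepQ 2651 Q2651 (allL N2651 (tt N2799 (iv1 F5881)) (tt N2798 F5875) (tt N1180 (iv2 D3722)) (tt N2811 (iv3 F5908)) (tt N2651 F5730) (tt N5600 (iv5 F12872)) (tt N5720 (iv6 F13039)) (tt N2800 (iv7 F5879)))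
theorem Q2653 : ∀ i, i < 2653 → P i := stepQ 2652 Q2652 (allL N2652 (tt N2813 (iv1 F6872)) (tt N1450 (iv0 F5733)) (tt N4165 (iv2 F13062)) (tt N1181 (iv3 D3724)) (tt N1203 F5732) (tt N5577 (iv5 F13442)) (tt N5729 D8276) (tt N4156 (iv7 F13068)))
theorem Q2654 : ∀ i, i < 2654 → P i := stepQ 2653 Q2653 (allL N2653 (tt N2726 F5834) (tt N4183 F9711) (tt N4159 (iv2 F13078)) (tt N5730 D8277) (tt N1181 (iv4 D3725)) (tt N5731 D8278) (tt N5732 D8279) (tt N4157 (iv7 F13081)))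
theorem Q2655 : ∀ i, i < 2655 → P i := stepQ 2654 Q2654 (allL N2654 (tt N4135 (iv1 F16975)) (tt N4142 (iv0 F16976)) (tt N4140 F16973) (tt N5729 (iv3 F13095)) (tt N5732 (iv4 F13102)) (tt N5733 D8286) (tt N1181 (iv6 D3727)) (tt N2572 (iv7 F16977)))
theorem Q2656 : ∀ i, i < 2656 → P i := stepQ 2655 Q2655 (allL N2655 (tt N1920 F5998) (tt N1924 F9717) (tt N5734 D8288) (tt N1182 (iv3 D3729)) (tt N5734 (iv4 F13109)) (tt N5580 (iv5 F13438)) (tt N2573 (iv6 F16980)) (tt N4158 (iv7 F13075)))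
theorem Q2657 : ∀ i, i < 2657 → P i := stepQ 2656 Q2656 (allL N2656 (tt N4183 (iv1 F9712)) (tt N2726 (iv0 F5997)) (tt N4157 F13079) (tt N1202 F5735) (tt N1182 (iv4 D3730)) (tt N5735 D8291) (tt N2574 (iv6 F16981)) (tt N4159 F13076))
theorem Q2658 : ∀ i, i < 2658 → P i := stepQ 2657 Q2657 (allL N2657 (tt N2575 (iv1 F13329)) (tt N2571 F13326) (tt N1184 F5736) (tt N4151 (iv3 F9610)) (tt N5736 D8299) (tt N1183 (iv5 D3733)) (tt N5737 D8300) (tt N4160 (iv7 F9639)))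
theorem Q2659 : ∀ i, i < 2659 → P i := stepQ 2658 Q2658 (allL N2658 (tt N4160 (iv1 F9641)) (tt N1184 (iv0 D3734)) (tt N2575 (iv2 F13422)) (tt N5738 D8302) (tt N5739 D8303) (tt N1890 F13421) (tt N5740 D8305) (tt N2571 (iv7 F13423)))
theorem Q2660 : ∀ i, i < 2660 → P i := stepQ 2659 Q2659 (allL N2659 (tt N1184 (iv1 D3735)) (tt N4160 F9640) (tt N2571 F13424) (tt N5741 D8307) (tt N5742 D8308) (tt N1891 (iv5 F13426)) (tt N5743 D8310) (tt N2575 F13425))
theorem Q2661 : ∀ i, i < 2661 → P i := stepQ 2660 Q2660 (allL N2660 (tt N5744 D8311) (tt N5745 D8312) (tt N5736 (iv2 F13115)) (tt N5162 (iv3 F11749)) (tt N1184 (iv4 D3736)) (tt N5746 D8313) (tt N5747 D8314) (tt N4162 (iv7 F9648)))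
theorem Q2662 : ∀ i, i < 2662 → P i := stepQ 2661 Q2661 (allL N2661 (tt N5748 D8315) (tt N5748 (iv0 F299005)) (tt N5737 (iv2 F13116)) (tt N1187 F5737) (tt N5747 (iv4 F13121)) (tt N2661 F5738) (tt N1184 (iv6 D3737)) (tt N5737 (iv7 F298950)))
theorem Q2663 : ∀ i, i < 2663 → P i := stepQ 2662 Q2662 (allL N2662 (tt N5726 (iv1 F13316)) (tt N5728 (iv0 F13308)) (tt N5749 D8320) (tt N1185 (iv3 D3738)) (tt N5750 D8321) (tt N1869 F5739) (tt N5751 D8322) (tt N2560 F5740))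
theorem Q2664 : ∀ i, i < 2664 → P i := stepQ 2663 Q2663 (allL N2663 (tt N5752 D8323) (tt N5753 D8324) (tt N2568 F5741) (tt N5751 (iv3 F13132)) (tt N5013 (iv4 F11560)) (tt N2802 (iv5 F5886)) (tt N1185 (iv6 D3739)) (tt N5754 D8325))
theorem Q2665 : ∀ i, i < 2665 → P i := stepQ 2664 Q2664 (allL N2664 (tt N2812 (iv1 F7184)) (tt N2814 F7183) (tt N5755 D8326) (tt N1186 (iv3 D3740)) (tt N5756 D8327) (tt N1328 F5742) (tt N5757 D8328) (tt N2567 F5743))
theorem Q2666 : ∀ i, i < 2666 → P i := stepQ 2665 Q2665 (allL N2665 (tt N5758 D8329) (tt N5759 D8330) (tt N2562 F5744) (tt N5757 (iv3 F13145)) (tt N5020 (iv4 F11566)) (tt N5718 (iv5 F13036)) (tt N1186 (iv6 D3741)) (tt N5760 D8331))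
theorem Q2667 : ∀ i, i < 2667 → P i := stepQ 2666 Q2666 (allL N2666 (tt N4153 (iv1 F296879)) (tt N1187 (iv0 D3742)) (tt N4154 F28791) (tt N5761 D8333) (tt N5762 D8334) (tt N5763 D8335) (tt N5764 D8336) (tt N4155 (iv7 F28799)))
theorem Q2668 : ∀ i, i < 2668 → P i := stepQ 2667 Q2667 (allL N2667 (tt N1187 (iv1 D3743)) (tt N4153 F297152) (tt N4155 (iv2 F28798)) (tt N5765 D8338) (tt N5766 D8339) (tt N5767 D8340) (tt N5768 D8341) (tt N4154 F28797))
theorem Q2669 : ∀ i, i < 2669 → P i := stepQ 2668 Q2668 (allL N2668 (tt N4155 (iv1 F9619)) (tt N4154 F9623) (tt N4153 F297783) (tt N5737 (iv3 F298949)) (tt N5170 (iv4 F11754)) (tt N2668 F5745) (tt N4151 F297784) (tt N1187 (iv7 D3744)))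
theorem Q2670 : ∀ i, i < 2670 → P i := stepQ 2669 Q2669 (allL N2669 (tt N5769 D8342) (tt N1216 (iv0 F5823)) (tt N3163 (iv2 F6754)) (tt N3121 (iv3 F6664)) (tt N1188 (iv4 D3746)) (tt N5770 D8343) (tt N2623 F16759) (tt N4149 (iv7 F9596)))
theorem Q2671 : ∀ i, i < 2671 → P i := stepQ 2670 Q2670 (allL N2670 (tt N1452 (iv1 F6539)) (tt N1442 (iv0 F6545)) (tt N1448 F6445) (tt N1189 (iv3 D3750)) (tt N2718 (iv4 F5820)) (tt N5688 (iv5 F13338)) (tt N5697 (iv6 F16802)) (tt N1449 F6436))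
theorem Q2672 : ∀ i, i < 2672 → P i := stepQ 2671 Q2671 (allL N2671 (tt N1216 F6668) (tt N5769 F13159) (tt N4149 (iv2 F9594)) (tt N1197 F5748) (tt N1189 (iv4 D3751)) (tt N5771 D8355) (tt N5698 (iv6 F16804)) (tt N3163 (iv7 F6756)))
theorem Q2673 : ∀ i, i < 2673 → P i := stepQ 2672 Q2672 (allL N2672 (tt N4151 (iv1 F9613)) (tt N1191 (iv0 D3756)) (tt N2627 F13322) (tt N5772 D8367) (tt N5773 D8368) (tt N1870 (iv5 F13324)) (tt N5774 D8370) (tt N2624 F13323))
theorem Q2674 : ∀ i, i < 2674 → P i := stepQ 2673 Q2673 (allL N2673 (tt N1191 (iv1 D3757)) (tt N4151 F9612) (tt N2624 (iv2 F13319)) (tt N5775 D8372) (tt N5776 D8373) (tt N1871 (iv5 F13320)) (tt N5777 D8375) (tt N2627 (iv7 F13321)))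
theorem Q2675 : ∀ i, i < 2675 → P i := stepQ 2674 Q2674 (allL N2674 (tt N1909 (iv1 F295890)) (tt N1192 (iv0 D3760)) (tt N2675 (iv2 F15751)) (tt N3188 F6797) (tt N5778 D8385) (tt N1193 (iv5 F295741)) (tt N4099 (iv6 F16906)) (tt N2674 F15750))
theorem Q2676 : ∀ i, i < 2676 → P i := stepQ 2675 Q2675 (allL N2675 (tt N1192 (iv1 D3761)) (tt N1909 (iv0 F295889)) (tt N2674 F15751) (tt N3228 F17432) (tt N5779 D8390) (tt N1194 F295783) (tt N5780 D8392) (tt N2675 F15752))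
theorem Q2677 : ∀ i, i < 2677 → P i := stepQ 2676 Q2676 (allL N2676 (tt N3225 F17405) (tt N2815 (iv0 F17411)) (tt N5781 D8412) (tt N1193 (iv3 D3767)) (tt N1405 F5758) (tt N3188 F295656) (tt N3022 (iv6 F6201)) (tt N2676 F5759))
theorem Q2678 : ∀ i, i < 2678 → P i := stepQ 2677 Q2677 (allL N2677 (tt N5727 (iv1 F17603)) (tt N3230 F295633) (tt N5782 D8418) (tt N1194 (iv3 D3769)) (tt N2677 F5763) (tt N3228 F295784) (tt N2592 F5764) (tt N2677 F5765))
theorem Q2679 : ∀ i, i < 2679 → P i := stepQ 2678 Q2678 (allL N2678 (tt N2724 (iv1 F17439)) (tt N1219 (iv0 F17440)) (tt N2733 (iv2 F17414)) (tt N1195 (iv3 D3772)) (tt N1403 F293608) (tt N5783 D8428) (tt N3029 (iv6 F6233)) (tt N2678 F5772))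
theorem Q2680 : ∀ i, i < 2680 → P i := stepQ 2679 Q2679 (allL N2679 (tt N1916 F5774) (tt N1209 F5775) (tt N2681 (iv2 F5779)) (tt N5783 (iv3 F13232)) (tt N4163 (iv4 F295898)) (tt N1195 (iv5 D3773)) (tt N5592 (iv6 F295899)) (tt N2679 F5773))
theorem Q2681 : ∀ i, i < 2681 → P i := stepQ 2680 Q2680 (allL N2680 (tt N4191 F17470) (tt N1926 (iv0 F17510)) (tt N4195 (iv2 F17467)) (tt N1196 (iv3 D3774)) (tt N2680 F5776) (tt N2705 F295965) (tt N2600 F5777) (tt N2680 F5778))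
theorem Q2682 : ∀ i, i < 2682 → P i := stepQ 2681 Q2681 (allL N2681 (tt N1209 F5781) (tt N1916 F5782) (tt N2679 F5779) (tt N2705 F295897) (tt N4164 (iv4 F295962)) (tt N1196 (iv5 D3775)) (tt N5784 D8434) (tt N2681 F5780))
theorem Q2683 : ∀ i, i < 2683 → P i := stepQ 2682 Q2682 (allL N2682 (tt N2870 (iv1 F6408)) (tt N2859 F6458) (tt N1383 F6382) (tt N2718 F5821) (tt N1197 (iv4 D3777)) (tt N5785 D8435) (tt N5786 D8436) (tt N2869 F6405))
theorem Q2684 : ∀ i, i < 2684 → P i := stepQ 2683 Q2683 (allL N2683 (tt N4226 (iv1 F9783)) (tt N1227 F7084) (tt N3166 (iv2 F6768)) (tt N5771 (iv3 F13170)) (tt N5787 D8437) (tt N1197 (iv5 D3778)) (tt N5788 D8438) (tt N3164 (iv7 F6760)))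
theorem Q2685 : ∀ i, i < 2685 → P i := stepQ 2684 Q2684 (allL N2684 (tt N5789 D8439) (tt N3364 (iv0 F16845)) (tt N3167 (iv2 F6770)) (tt N5698 (iv3 F16803)) (tt N5786 (iv4 F13249)) (tt N5790 D8441) (tt N1197 (iv6 D3779)) (tt N5356 (iv7 F16799)))
theorem Q2686 : ∀ i, i < 2686 → P i := stepQ 2685 Q2685 (allL N2685 (tt N1285 F6471) (tt N1289 F6472) (tt N3121 (iv2 F6663)) (tt N1198 (iv3 D3781)) (tt N1443 F5785) (tt N5791 D8443) (tt N5357 (iv6 F16792)) (tt N3165 (iv7 F6763)))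
theorem Q2687 : ∀ i, i < 2687 → P i := stepQ 2686 Q2686 (allL N2686 (tt N1227 F7083) (tt N4226 F9784) (tt N3164 (iv2 F6759)) (tt N5791 (iv3 F13250)) (tt N5792 D8445) (tt N1198 (iv5 D3782)) (tt N5793 D8446) (tt N3166 (iv7 F6769)))
theorem Q2688 : ∀ i, i < 2688 → P i := stepQ 2687 Q2687 (allL N2687 (tt N3169 (iv1 F6773)) (tt N3168 F6772) (tt N1200 F5786) (tt N4170 (iv3 F9673)) (tt N5794 D8451) (tt N1199 (iv5 D3784)) (tt N5795 D8452) (tt N3159 (iv7 F6738)))
theorem Q2689 : ∀ i, i < 2689 → P i := stepQ 2688 Q2688 (allL N2688 (tt N3159 (iv1 F6740)) (tt N1200 (iv0 D3785)) (tt N3169 F12177) (tt N5796 D8453) (tt N5797 D8454) (tt N2808 (iv5 F6929)) (tt N5798 D8455) (tt N3168 (iv7 F12176)))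
theorem Q2690 : ∀ i, i < 2690 → P i := stepQ 2689 Q2689 (allL N2689 (tt N1200 (iv1 D3786)) (tt N3159 F6739) (tt N3168 (iv2 F12178)) (tt N5799 D8456) (tt N5800 D8457) (tt N2809 (iv5 F6932)) (tt N5801 D8458) (tt N3169 F12179))
theorem Q2691 : ∀ i, i < 2691 → P i := stepQ 2690 Q2690 (allL N2690 (tt N5802 D8459) (tt N5803 D8460) (tt N5794 (iv2 F13253)) (tt N5102 (iv3 F11705)) (tt N1200 (iv4 D3787)) (tt N5804 D8461) (tt N5805 D8462) (tt N3170 (iv7 F6774)))
theorem Q2692 : ∀ i, i < 2692 → P i := stepQ 2691 Q2691 (allL N2691 (tt N5806 D8463) (tt N5807 D8464) (tt N5795 (iv2 F13254)) (tt N1201 F5787) (tt N5805 (iv4 F13260)) (tt N2691 F5788) (tt N1200 (iv6 D3788)) (tt N5808 D8465))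
theorem Q2693 : ∀ i, i < 2693 → P i := stepQ 2692 Q2692 (allL N2692 (tt N4177 (iv1 F9688)) (tt N1201 (iv0 D3789)) (tt N4175 (iv2 F29854)) (tt N5809 D8467) (tt N5167 F29132) (tt N5810 D8469) (tt N5811 D8470) (tt N4176 F29853))
theorem Q2694 : ∀ i, i < 2694 → P i := stepQ 2693 Q2693 (allL N2693 (tt N1201 (iv1 D3790)) (tt N4177 F9687) (tt N4176 F29849) (tt N5812 D8472) (tt N5168 F29135) (tt N5813 D8474) (tt N5814 D8475) (tt N4175 (iv7 F29855)))
theorem Q2695 : ∀ i, i < 2695 → P i := stepQ 2694 Q2694 (allL N2694 (tt N4176 (iv1 F9682)) (tt N4175 F9686) (tt N4177 (iv2 F9683)) (tt N5808 (iv3 F13261)) (tt N5108 (iv4 F11711)) (tt N2694 F5789) (tt N4180 (iv6 F9693)) (tt N1201 (iv7 D3791)))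
theorem Q2696 : ∀ i, i < 2696 → P i := stepQ 2695 Q2695 (allL N2695 (tt N1450 F6852) (tt N2813 (iv0 F6765)) (tt N4156 F13069) (tt N5734 (iv3 F13105)) (tt N1202 (iv4 D3793)) (tt N5815 D8476) (tt N5364 (iv6 F16984)) (tt N4165 F13067))
theorem Q2697 : ∀ i, i < 2697 → P i := stepQ 2696 Q2696 (allL N2696 (tt N4219 F14293) (tt N1229 F14294) (tt N4169 F13089) (tt N5735 (iv3 F13112)) (tt N5816 D8480) (tt N1202 (iv5 D3794)) (tt N5817 D8481) (tt N4166 (iv7 F13091)))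
theorem Q2698 : ∀ i, i < 2698 → P i := stepQ 2697 Q2697 (allL N2697 (tt N5725 F13054) (tt N1212 F6873) (tt N5730 (iv2 F13097)) (tt N1203 (iv3 D3797)) (tt N5730 (iv4 F13098)) (tt N5818 D8486) (tt N5819 D8487) (tt N4168 F13082))
theorem Q2699 : ∀ i, i < 2699 → P i := stepQ 2698 Q2698 (allL N2698 (tt N1229 (iv1 F14291)) (tt N4219 (iv0 F14292)) (tt N4166 F13092) (tt N5818 (iv3 F13269)) (tt N5820 D8488) (tt N1203 (iv5 D3798)) (tt N5821 D8489) (tt N4169 F13088))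
theorem Q2700 : ∀ i, i < 2700 → P i := stepQ 2699 Q2699 (allL N2699 (tt N2485 (iv1 F16990)) (tt N5822 D8491) (tt N4167 (iv2 F13093)) (tt N5819 (iv3 F13270)) (tt N5729 (iv4 F13096)) (tt N5823 D8492) (tt N1203 (iv6 D3799)) (tt N5366 F16989))
theorem Q2701 : ∀ i, i < 2701 → P i := stepQ 2700 Q2700 (allL N2700 (tt N4172 (iv1 F9678)) (tt N4171 F9677) (tt N1205 F5792) (tt N3159 (iv3 F6737)) (tt N5824 D8494) (tt N1204 (iv5 D3800)) (tt N4066 (iv6 F296196)) (tt N4170 (iv7 F9674)))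
theorem Q2702 : ∀ i, i < 2702 → P i := stepQ 2701 Q2701 (allL N2701 (tt N2706 (iv1 F5798)) (tt N2705 F5797) (tt N1206 F5793) (tt N3160 (iv3 F6742)) (tt N2701 F5794) (tt N4191 F295996) (tt N1204 (iv6 D3801)) (tt N2701 F5795))
theorem Q2703 : ∀ i, i < 2703 → P i := stepQ 2702 Q2702 (allL N2702 (tt N4170 (iv1 F9676)) (tt N1205 (iv0 D3802)) (tt N4172 (iv2 F14050)) (tt N4178 F296677) (tt N5825 D8499) (tt N2803 (iv5 F13465)) (tt N5826 D8501) (tt N4171 (iv7 F14049)))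
theorem Q2704 : ∀ i, i < 2704 → P i := stepQ 2703 Q2703 (allL N2703 (tt N1205 (iv1 D3803)) (tt N4170 F9675) (tt N4171 (iv2 F14046)) (tt N5827 D8503) (tt N5828 D8504) (tt N2804 (iv5 F13460)) (tt N5829 D8506) (tt N4172 (iv7 F14052)))
theorem Q2705 : ∀ i, i < 2705 → P i := stepQ 2704 Q2704 (allL N2704 (tt N5830 D8507) (tt N5831 D8508) (tt N5824 (iv2 F13271)) (tt N5083 (iv3 F11672)) (tt N1205 (iv4 D3804)) (tt N5832 D8509) (tt N4194 (iv6 F297093)) (tt N4173 (iv7 F9679)))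
theorem Q2706 : ∀ i, i < 2706 → P i := stepQ 2705 Q2705 (allL N2705 (tt N2701 (iv1 F5797)) (tt N1206 (iv0 D3806)) (tt N2706 (iv2 F21687)) (tt N2681 (iv3 F295897)) (tt N5833 D8517) (tt N2680 (iv5 F295965)) (tt N5834 D8519) (tt N2705 F21686))
theorem Q2707 : ∀ i, i < 2707 → P i := stepQ 2706 Q2706 (allL N2706 (tt N1206 (iv1 D3807)) (tt N2701 F5798) (tt N2705 F21687) (tt N5835 D8521) (tt N5836 D8522) (tt N4195 (iv5 F295874)) (tt N5837 D8524) (tt N2706 F21688))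
theorem Q2708 : ∀ i, i < 2708 → P i := stepQ 2707 Q2707 (allL N2707 (tt N4180 (iv1 F9696)) (tt N1208 (iv0 D3809)) (tt N4178 (iv2 F29745)) (tt N5838 D8529) (tt N5142 F29940) (tt N2570 (iv5 F296219)) (tt N5839 D8532) (tt N4179 F29744))
theorem Q2709 : ∀ i, i < 2709 → P i := stepQ 2708 Q2708 (allL N2708 (tt N1208 (iv1 D3810)) (tt N4180 F9695) (tt N4179 F29738) (tt N4171 F296687) (tt N5143 F29944) (tt N2574 F296688) (tt N5840 D8537) (tt N4178 (iv7 F29746)))
theorem Q2710 : ∀ i, i < 2710 → P i := stepQ 2709 Q2709 (allL N2709 (tt N4179 (iv1 F9689)) (tt N4178 F9694) (tt N4180 (iv2 F9692)) (tt N4067 F296669) (tt N5091 (iv4 F11682)) (tt N4183 F296670) (tt N4177 (iv6 F9685)) (tt N1208 (iv7 D3812)))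
theorem Q2711 : ∀ i, i < 2711 → P i := stepQ 2710 Q2710 (allL N2710 (tt N5779 F295984) (tt N5778 F295985) (tt N2728 (iv2 F295986)) (tt N2734 (iv3 F296014)) (tt N1209 (iv4 D3813)) (tt N2728 (iv5 F295988)) (tt N2725 (iv6 F296174)) (tt N2710 F5802))
theorem Q2712 : ∀ i, i < 2712 → P i := stepQ 2711 Q2711 (allL N2711 (tt N1222 (iv1 F5805)) (tt N1221 F5806) (tt N1225 F5803) (tt N4181 (iv3 F9701)) (tt N5841 D8543) (tt N1210 (iv5 D3814)) (tt N5842 D8544) (tt N1220 F5804))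
theorem Q2713 : ∀ i, i < 2713 → P i := stepQ 2712 Q2712 (allL N2712 (tt N2495 F7231) (tt N5405 F12390) (tt N1226 F5807) (tt N4182 (iv3 F9706)) (tt N1440 F5808) (tt N5843 D8545) (tt N1210 (iv6 D3815)) (tt N5372 (iv7 F12265)))
theorem Q2714 : ∀ i, i < 2714 → P i := stepQ 2713 Q2713 (allL N2713 (tt N4149 F9598) (tt N3163 (iv0 F6757)) (tt N5769 F13158) (tt N1211 (iv3 D3818)) (tt N2863 F6430) (tt N5392 (iv5 F12369)) (tt N2713 F7188) (tt N1216 F5811))
theorem Q2715 : ∀ i, i < 2715 → P i := stepQ 2714 Q2714 (allL N2714 (tt N1212 (iv1 D3823)) (tt N5725 (iv0 F13053)) (tt N4168 F13080) (tt N4157 (iv3 F9631)) (tt N4168 (iv4 F9669)) (tt N5844 D8546) (tt N5375 (iv6 F17002)) (tt N5730 (iv7 F13099)))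
theorem Q2716 : ∀ i, i < 2716 → P i := stepQ 2715 Q2715 (allL N2715 (tt N5730 (iv1 F13101)) (tt N4168 (iv0 F9670)) (tt N1212 (iv2 D3824)) (tt N5769 (iv3 F13157)) (tt N2798 (iv4 F6451)) (tt N5845 D8548) (tt N2715 F7212) (tt N5725 (iv7 F13052)))
theorem Q2717 : ∀ i, i < 2717 → P i := stepQ 2716 Q2716 (allL N2716 (tt N5827 (iv1 F27412)) (tt N5838 F295976) (tt N5845 (iv2 F13304)) (tt N1214 F5817) (tt N5846 D8551) (tt N1212 (iv5 D3825)) (tt N5847 D8552) (tt N5390 (iv7 F12365)))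
theorem Q2718 : ∀ i, i < 2718 → P i := stepQ 2717 Q2717 (allL N2717 (tt N4168 F9671) (tt N5730 (iv0 F13100)) (tt N5725 (iv2 F13050)) (tt N1215 F5819) (tt N2799 F6434) (tt N5390 (iv5 F12364)) (tt N5848 D8553) (tt N1212 (iv7 D3827)))
theorem Q2719 : ∀ i, i < 2719 → P i := stepQ 2718 Q2718 (allL N2718 (tt N1217 F5822) (tt N1213 (iv0 D3828)) (tt N1395 (iv2 F6392)) (tt N2682 (iv3 F5821)) (tt N2670 F5820) (tt N5849 D8554) (tt N5850 D8555) (tt N2860 (iv7 F6407)))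
theorem Q2720 : ∀ i, i < 2720 → P i := stepQ 2719 Q2719 (allL N2719 (tt N1383 F5825) (tt N2869 F6409) (tt N2859 (iv2 F6410)) (tt N1213 (iv3 D3830)) (tt N3115 F6658) (tt N5851 D8556) (tt N2719 F7203) (tt N2870 (iv7 F6455)))
theorem Q2721 : ∀ i, i < 2721 → P i := stepQ 2720 Q2720 (allL N2720 (tt N5852 D8557) (tt N3043 (iv0 F12195)) (tt N2861 (iv2 F6459)) (tt N5851 (iv3 F13386)) (tt N5853 D8558) (tt N1213 (iv5 D3831)) (tt N5854 D8559) (tt N5855 D8560))
theorem Q2722 : ∀ i, i < 2722 → P i := stepQ 2721 Q2721 (allL N2721 (tt N2860 F6425) (tt N1395 (iv0 F6469)) (tt N1217 F5827) (tt N2870 F6427) (tt N1215 F5828) (tt N5855 (iv5 F13397)) (tt N5856 D8561) (tt N1213 (iv7 D3833)))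
theorem Q2723 : ∀ i, i < 2723 → P i := stepQ 2722 Q2722 (allL N2722 (tt N5857 D8562) (tt N5858 D8563) (tt N5393 (iv2 F12371)) (tt N5859 D8564) (tt N1214 (iv4 D3836)) (tt N5860 D8565) (tt N5861 D8566) (tt N5391 (iv7 F12367)))
theorem Q2724 : ∀ i, i < 2724 → P i := stepQ 2723 Q2723 (allL N2723 (tt N5862 D8567) (tt N5812 F117764) (tt N5394 (iv2 F12373)) (tt N5847 (iv3 F13374)) (tt N5861 (iv4 F13407)) (tt N2723 F7215) (tt N1214 (iv6 D3837)) (tt N5847 F296236))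
theorem Q2725 : ∀ i, i < 2725 → P i := stepQ 2724 Q2724 (allL N2724 (tt N2733 (iv1 F7213)) (tt N2678 F17439) (tt N1219 F5833) (tt N5848 (iv3 F13376)) (tt N5856 (iv4 F13402)) (tt N5848 F295692) (tt N1215 (iv6 D3843)) (tt N2724 F7191))
theorem Q2726 : ∀ i, i < 2726 → P i := stepQ 2725 Q2725 (allL N2725 (tt N3163 F6758) (tt N4149 (iv0 F9597)) (tt N1216 (iv2 D3845)) (tt N5725 (iv3 F13051)) (tt N1923 (iv4 F6465)) (tt N5863 D8571) (tt N2710 F296174) (tt N5769 (iv7 F13160)))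
theorem Q2727 : ∀ i, i < 2727 → P i := stepQ 2726 Q2726 (allL N2726 (tt N2656 F5997) (tt N2653 (iv0 F5834)) (tt N1923 F6464) (tt N2865 (iv3 F6420)) (tt N1216 (iv4 D3846)) (tt N1915 (iv5 F296089)) (tt N1916 F295953) (tt N2863 (iv7 F6454)))
theorem Q2728 : ∀ i, i < 2728 → P i := stepQ 2727 Q2727 (allL N2727 (tt N5864 D8575) (tt N5796 F13481) (tt N5863 (iv2 F13411)) (tt N1218 F5835) (tt N5865 D8576) (tt N1216 (iv5 D3847)) (tt N5863 F295928) (tt N5392 (iv7 F12370)))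
theorem Q2729 : ∀ i, i < 2729 → P i := stepQ 2728 Q2728 (allL N2728 (tt N5778 (iv1 F17601)) (tt N5779 (iv0 F17604)) (tt N2710 F295986) (tt N1219 F5836) (tt N1916 F295987) (tt N2710 F295988) (tt N1216 (iv6 D3848)) (tt N2728 F7189))
theorem Q2730 : ∀ i, i < 2730 → P i := stepQ 2729 Q2729 (allL N2729 (tt N3043 (iv1 F12198)) (tt N5852 F13390) (tt N5855 (iv2 F13396)) (tt N2836 (iv3 F7018)) (tt N5866 D8581) (tt N1217 (iv5 D3849)) (tt N5867 D8582) (tt N2861 F6460))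
theorem Q2731 : ∀ i, i < 2731 → P i := stepQ 2730 Q2730 (allL N2730 (tt N3111 F17466) (tt N5868 D8584) (tt N5856 (iv2 F13401)) (tt N2868 (iv3 F6422)) (tt N1219 F5837) (tt N3112 (iv5 F293290)) (tt N1217 (iv6 D3850)) (tt N2730 F7192))
theorem Q2732 : ∀ i, i < 2732 → P i := stepQ 2731 Q2731 (allL N2731 (tt N5858 (iv1 F13406)) (tt N5857 F13405) (tt N5391 (iv2 F12366)) (tt N5869 D8586) (tt N1218 (iv4 D3851)) (tt N5870 D8587) (tt N5871 D8588) (tt N5393 (iv7 F12372)))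
theorem Q2733 : ∀ i, i < 2733 → P i := stepQ 2732 Q2732 (allL N2732 (tt N5838 F117914) (tt N5827 (iv0 F295902)) (tt N5390 (iv2 F295877)) (tt N5863 (iv3 F295873)) (tt N5871 (iv4 F13499)) (tt N5725 F295739) (tt N1218 (iv6 D3852)) (tt N5845 (iv7 F295903)))
theorem Q2734 : ∀ i, i < 2734 → P i := stepQ 2733 Q2733 (allL N2733 (tt N1219 (iv1 D3854)) (tt N2724 F7213) (tt N2678 F17414) (tt N4195 (iv3 F17452)) (tt N1464 F13605) (tt N5835 F295728) (tt N5380 (iv6 F13507)) (tt N2733 F17073))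
theorem Q2735 : ∀ i, i < 2735 → P i := stepQ 2734 Q2734 (allL N2734 (tt N5783 (iv1 F17442)) (tt N5835 (iv0 F295651)) (tt N5848 (iv2 F295638)) (tt N2710 F296014) (tt N5727 (iv4 F295637)) (tt N1219 (iv5 D3855)) (tt N5725 (iv6 F295654)) (tt N2734 F7193))
theorem Q2736 : ∀ i, i < 2736 → P i := stepQ 2735 Q2735 (allL N2735 (tt N1225 (iv1 F5840)) (tt N1220 (iv0 D3866)) (tt N1221 F12289) (tt N5872 D8603) (tt N5873 D8604) (tt N2488 F12290) (tt N5874 D8605) (tt N1222 F12291))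
theorem Q2737 : ∀ i, i < 2737 → P i := stepQ 2736 Q2736 (allL N2736 (tt N1220 (iv1 D3867)) (tt N1225 F5841) (tt N1222 F12296) (tt N5875 D8606) (tt N5876 D8607) (tt N2492 F12297) (tt N5877 D8608) (tt N1221 F12298))
theorem Q2738 : ∀ i, i < 2738 → P i := stepQ 2737 Q2737 (allL N2737 (tt N5878 D8609) (tt N5879 D8610) (tt N1223 F5842) (tt N5880 D8611) (tt N1220 (iv4 D3868)) (tt N5881 D8612) (tt N5882 D8613) (tt N5841 (iv7 F13298)))
theorem Q2739 : ∀ i, i < 2739 → P i := stepQ 2738 Q2738 (allL N2738 (tt N5883 D8614) (tt N5884 D8615) (tt N1224 F5843) (tt N4199 (iv3 F9752)) (tt N5882 (iv4 F13526)) (tt N5389 (iv5 F12363)) (tt N1220 (iv6 D3869)) (tt N5885 D8616))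
theorem Q2740 : ∀ i, i < 2740 → P i := stepQ 2739 Q2739 (allL N2739 (tt N5818 (iv1 F28021)) (tt N5844 (iv0 F13534)) (tt N5886 D8619) (tt N1221 (iv3 D3871)) (tt N5887 D8620) (tt N2489 (iv5 F7230)) (tt N5888 D8621) (tt N5875 (iv7 F13516)))
theorem Q2741 : ∀ i, i < 2741 → P i := stepQ 2740 Q2740 (allL N2740 (tt N5889 D8622) (tt N5890 D8623) (tt N5873 (iv2 F13512)) (tt N5891 D8624) (tt N1221 (iv4 D3872)) (tt N5892 D8625) (tt N5893 D8626) (tt N5876 (iv7 F13518)))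
theorem Q2742 : ∀ i, i < 2742 → P i := stepQ 2741 Q2741 (allL N2741 (tt N5894 D8627) (tt N5895 D8628) (tt N5874 (iv2 F13514)) (tt N5888 (iv3 F13535)) (tt N5893 (iv4 F13540)) (tt N5896 D8629) (tt N1221 (iv6 D3874)) (tt N5897 D8630))
theorem Q2743 : ∀ i, i < 2743 → P i := stepQ 2742 Q2742 (allL N2742 (tt N5770 F13358) (tt N5771 (iv0 F16297)) (tt N5898 D8632) (tt N1222 (iv3 D3876)) (tt N5899 D8633) (tt N2493 (iv5 F7226)) (tt N5900 D8634) (tt N5872 (iv7 F13511)))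
theorem Q2744 : ∀ i, i < 2744 → P i := stepQ 2743 Q2743 (allL N2743 (tt N5890 (iv1 F13538)) (tt N5889 F13537) (tt N5876 (iv2 F13517)) (tt N5901 D8635) (tt N1222 (iv4 D3877)) (tt N5902 D8636) (tt N5903 D8637) (tt N5873 (iv7 F13513)))
theorem Q2745 : ∀ i, i < 2745 → P i := stepQ 2744 Q2744 (allL N2744 (tt N5904 D8638) (tt N5905 D8639) (tt N5877 (iv2 F13519)) (tt N5900 (iv3 F13544)) (tt N5903 (iv4 F13546)) (tt N5906 D8640) (tt N1222 (iv6 D3879)) (tt N5907 D8641))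
theorem Q2746 : ∀ i, i < 2746 → P i := stepQ 2745 Q2745 (allL N2745 (tt N5841 (iv1 F13301)) (tt N1223 (iv0 D3880)) (tt N5878 (iv2 F13848)) (tt N5908 D8643) (tt N2916 (iv4 F7228)) (tt N5909 D8644) (tt N5910 D8645) (tt N5879 (iv7 F13852)))
theorem Q2747 : ∀ i, i < 2747 → P i := stepQ 2746 Q2746 (allL N2746 (tt N1223 (iv1 D3881)) (tt N5841 (iv0 F13300)) (tt N5879 (iv2 F13851)) (tt N5911 D8647) (tt N2925 (iv4 F7224)) (tt N5912 D8648) (tt N5913 D8649) (tt N5878 (iv7 F13849)))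
theorem Q2748 : ∀ i, i < 2748 → P i := stepQ 2747 Q2747 (allL N2747 (tt N5914 D8650) (tt N5915 D8651) (tt N5916 D8652) (tt N1223 (iv3 D3882)) (tt N1231 F5846) (tt N5917 D8653) (tt N5918 D8654) (tt N4031 (iv7 F9345)))
theorem Q2749 : ∀ i, i < 2749 → P i := stepQ 2748 Q2748 (allL N2748 (tt N5919 D8655) (tt N5920 D8656) (tt N5881 (iv2 F13522)) (tt N5917 (iv3 F13557)) (tt N5921 D8657) (tt N1223 (iv5 D3883)) (tt N5922 D8658) (tt N5923 D8659))
theorem Q2750 : ∀ i, i < 2750 → P i := stepQ 2749 Q2749 (allL N2749 (tt N5924 D8660) (tt N5925 D8661) (tt N5882 (iv2 F13525)) (tt N5918 (iv3 F13558)) (tt N1224 F5847) (tt N5926 D8662) (tt N1223 (iv6 D3884)) (tt N5927 D8663))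
theorem Q2751 : ∀ i, i < 2751 → P i := stepQ 2750 Q2750 (allL N2750 (tt N5879 (iv1 F13521)) (tt N5878 F13520) (tt N5841 (iv2 F13297)) (tt N4031 (iv3 F9344)) (tt N1225 F5848) (tt N5923 (iv5 F13575)) (tt N5928 D8664) (tt N1223 (iv7 D3885)))
theorem Q2752 : ∀ i, i < 2752 → P i := stepQ 2751 Q2751 (allL N2751 (tt N5885 (iv1 F13531)) (tt N1224 (iv0 D3886)) (tt N5883 (iv2 F29623)) (tt N5929 D8666) (tt N5930 D8667) (tt N5931 D8668) (tt N5929 F296287) (tt N5884 F29622))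
theorem Q2753 : ∀ i, i < 2753 → P i := stepQ 2752 Q2752 (allL N2752 (tt N1224 (iv1 D3887)) (tt N5885 F13530) (tt N5884 F29618) (tt N5932 D8671) (tt N5933 D8672) (tt N5934 D8673) (tt N5935 D8674) (tt N5883 (iv7 F29624)))
theorem Q2754 : ∀ i, i < 2754 → P i := stepQ 2753 Q2753 (allL N2753 (tt N5884 (iv1 F13527)) (tt N5883 F13529) (tt N5885 (iv2 F13528)) (tt N1235 F5849) (tt N5927 (iv4 F13576)) (tt N5403 (iv5 F12387)) (tt N5936 D8675) (tt N1224 (iv7 D3888)))
theorem Q2755 : ∀ i, i < 2755 → P i := stepQ 2754 Q2754 (allL N2754 (tt N5937 D8676) (tt N5938 D8677) (tt N5842 (iv2 F13302)) (tt N1236 F5850) (tt N5928 (iv4 F13577)) (tt N5939 D8678) (tt N1225 (iv6 D3889)) (tt N5936 (iv7 F13583)))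
theorem Q2756 : ∀ i, i < 2756 → P i := stepQ 2755 Q2755 (allL N2755 (tt N5372 F12266) (tt N1226 (iv0 D3890)) (tt N2495 F12300) (tt N5940 D8679) (tt N5941 D8680) (tt N5942 D8681) (tt N2492 (iv6 F12295)) (tt N5405 (iv7 F12391)))
theorem Q2757 : ∀ i, i < 2757 → P i := stepQ 2756 Q2756 (allL N2756 (tt N1226 (iv1 D3891)) (tt N5372 F12267) (tt N5405 F12389) (tt N5943 D8682) (tt N5944 D8683) (tt N5945 D8684) (tt N5640 (iv6 F17498)) (tt N2495 F12301))
theorem Q2758 : ∀ i, i < 2758 → P i := stepQ 2757 Q2757 (allL N2757 (tt N5381 F12347) (tt N5946 D8686) (tt N5843 (iv2 F13303)) (tt N1239 F5851) (tt N5947 D8687) (tt N1226 (iv5 D3892)) (tt N5939 (iv6 F13585)) (tt N5406 (iv7 F12394)))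
theorem Q2759 : ∀ i, i < 2759 → P i := stepQ 2758 Q2758 (allL N2758 (tt N3166 (iv1 F7272)) (tt N3164 F7271) (tt N1227 (iv2 D3895)) (tt N4219 (iv3 F9764)) (tt N5948 D8688) (tt N2478 F5852) (tt N5949 D8689) (tt N4226 (iv7 F9782)))
theorem Q2760 : ∀ i, i < 2760 → P i := stepQ 2759 Q2759 (allL N2759 (tt N5950 D8690) (tt N5951 D8691) (tt N5948 (iv2 F13610)) (tt N5066 (iv3 F11659)) (tt N1227 (iv4 D3896)) (tt N5952 D8692) (tt N5953 D8693) (tt N4227 (iv7 F9785)))
theorem Q2761 : ∀ i, i < 2761 → P i := stepQ 2760 Q2760 (allL N2760 (tt N5954 D8694) (tt N5955 D8695) (tt N5949 (iv2 F13611)) (tt N1228 F5853) (tt N5953 (iv4 F13614)) (tt N5956 D8696) (tt N1227 (iv6 D3897)) (tt N5957 D8697))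
theorem Q2762 : ∀ i, i < 2762 → P i := stepQ 2761 Q2761 (allL N2761 (tt N4225 (iv1 F9779)) (tt N1228 (iv0 D3898)) (tt N4222 (iv2 F29865)) (tt N5958 D8699) (tt N5233 F42342) (tt N5959 D8701) (tt N5960 D8702) (tt N4223 (iv7 F29866)))
theorem Q2763 : ∀ i, i < 2763 → P i := stepQ 2762 Q2762 (allL N2762 (tt N1228 (iv1 D3899)) (tt N4225 F9778) (tt N4223 F29872) (tt N5895 F117664) (tt N5234 F42346) (tt N5961 D8706) (tt N5962 D8707) (tt N4222 F29873))
theorem Q2764 : ∀ i, i < 2764 → P i := stepQ 2763 Q2763 (allL N2763 (tt N5963 D8708) (tt N5964 D8709) (tt N4224 (iv2 F9773)) (tt N5956 (iv3 F13615)) (tt N5965 D8710) (tt N1228 (iv5 D3900)) (tt N2480 F5854) (tt N5966 D8711))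
theorem Q2765 : ∀ i, i < 2765 → P i := stepQ 2764 Q2764 (allL N2764 (tt N4223 (iv1 F9772)) (tt N4222 F9777) (tt N4225 (iv2 F9775)) (tt N5957 (iv3 F13617)) (tt N5070 (iv4 F11664)) (tt N5966 (iv5 F13623)) (tt N4232 (iv6 F9791)) (tt N1228 (iv7 D3901)))
theorem Q2766 : ∀ i, i < 2766 → P i := stepQ 2765 Q2765 (allL N2765 (tt N4169 (iv1 F14056)) (tt N4166 (iv0 F14053)) (tt N1229 (iv2 D3904)) (tt N4226 (iv3 F9780)) (tt N5967 D8722) (tt N2484 F5855) (tt N5968 D8723) (tt N4219 (iv7 F9766)))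
theorem Q2767 : ∀ i, i < 2767 → P i := stepQ 2766 Q2766 (allL N2766 (tt N5969 D8724) (tt N5970 D8725) (tt N5967 (iv2 F13626)) (tt N5032 (iv3 F11573)) (tt N1229 (iv4 D3905)) (tt N5971 D8726) (tt N5972 D8727) (tt N4220 (iv7 F9770)))
theorem Q2768 : ∀ i, i < 2768 → P i := stepQ 2767 Q2767 (allL N2767 (tt N4215 (iv1 F297324)) (tt N5973 D8729) (tt N5968 (iv2 F13627)) (tt N1230 F5856) (tt N5972 (iv4 F13632)) (tt N5974 D8730) (tt N1229 (iv6 D3906)) (tt N5975 D8731))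
theorem Q2769 : ∀ i, i < 2769 → P i := stepQ 2768 Q2768 (allL N2768 (tt N4232 (iv1 F9794)) (tt N1230 (iv0 D3907)) (tt N4229 F29764) (tt N5904 F117966) (tt N5226 F42181) (tt N5976 D8735) (tt N5731 F296671) (tt N4230 F29765))
theorem Q2770 : ∀ i, i < 2770 → P i := stepQ 2769 Q2769 (allL N2769 (tt N1230 (iv1 D3908)) (tt N4232 F9793) (tt N4230 (iv2 F29762)) (tt N5977 D8738) (tt N5227 F42185) (tt N5978 D8740) (tt N5979 D8741) (tt N4229 (iv7 F29763)))
theorem Q2771 : ∀ i, i < 2771 → P i := stepQ 2770 Q2770 (allL N2770 (tt N5980 D8742) (tt N5981 D8743) (tt N4231 (iv2 F9788)) (tt N5974 (iv3 F13633)) (tt N5982 D8744) (tt N1230 (iv5 D3909)) (tt N2486 F5857) (tt N5983 D8745))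
theorem Q2772 : ∀ i, i < 2772 → P i := stepQ 2771 Q2771 (allL N2771 (tt N4230 (iv1 F9787)) (tt N4229 F9792) (tt N4232 (iv2 F9790)) (tt N5975 (iv3 F13635)) (tt N5039 (iv4 F11579)) (tt N5983 (iv5 F13641)) (tt N4225 (iv6 F9776)) (tt N1230 (iv7 D3910)))
theorem Q2773 : ∀ i, i < 2773 → P i := stepQ 2772 Q2772 (allL N2772 (tt N4028 (iv1 F9341)) (tt N1231 (iv0 D3911)) (tt N4030 F27019) (tt N5984 D8747) (tt N5985 D8748) (tt N5000 (iv5 F25983)) (tt N5986 D8750) (tt N4029 (iv7 F27026)))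
theorem Q2774 : ∀ i, i < 2774 → P i := stepQ 2773 Q2773 (allL N2773 (tt N1231 (iv1 D3912)) (tt N4028 F9340) (tt N4029 (iv2 F27025)) (tt N5666 (iv3 F26584)) (tt N5987 D8753) (tt N5001 (iv5 F25987)) (tt N5988 D8755) (tt N4030 F27024))
theorem Q2775 : ∀ i, i < 2775 → P i := stepQ 2774 Q2774 (allL N2774 (tt N4030 (iv1 F9343)) (tt N4029 F9342) (tt N1231 (iv2 D3913)) (tt N4235 (iv3 F9796)) (tt N5916 (iv4 F13556)) (tt N4017 (iv5 F9330)) (tt N5989 D8756) (tt N4028 (iv7 F9339)))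
theorem Q2776 : ∀ i, i < 2776 → P i := stepQ 2775 Q2775 (allL N2775 (tt N5990 D8757) (tt N5991 D8758) (tt N5989 (iv2 F13644)) (tt N1232 F5858) (tt N5918 (iv4 F13559)) (tt N5992 D8759) (tt N1231 (iv6 D3914)) (tt N5993 D8760))
theorem Q2777 : ∀ i, i < 2777 → P i := stepQ 2776 Q2776 (allL N2776 (tt N4240 (iv1 F9811)) (tt N1232 (iv0 D3915)) (tt N4237 F30412) (tt N5994 D8762) (tt N2825 F28967) (tt N5995 D8764) (tt N5996 D8765) (tt N4238 F30413))
theorem Q2778 : ∀ i, i < 2778 → P i := stepQ 2777 Q2777 (allL N2777 (tt N1232 (iv1 D3916)) (tt N4240 F9810) (tt N4238 F30402) (tt N5997 D8767) (tt N2826 F28977) (tt N5998 D8769) (tt N5999 D8770) (tt N4237 F30403))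
theorem Q2779 : ∀ i, i < 2779 → P i := stepQ 2778 Q2778 (allL N2778 (tt N6000 D8771) (tt N6001 D8772) (tt N4239 (iv2 F9804)) (tt N5992 (iv3 F13645)) (tt N6002 D8773) (tt N1232 (iv5 D3917)) (tt N4043 (iv6 F9366)) (tt N6003 D8774))
theorem Q2780 : ∀ i, i < 2780 → P i := stepQ 2779 Q2779 (allL N2779 (tt N4238 (iv1 F9803)) (tt N4237 F9809) (tt N4240 (iv2 F9806)) (tt N5993 (iv3 F13646)) (tt N1235 F5859) (tt N6003 (iv5 F13649)) (tt N4040 (iv6 F9359)) (tt N1232 (iv7 D3918)))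
theorem Q2781 : ∀ i, i < 2781 → P i := stepQ 2780 Q2780 (allL N2780 (tt N6004 D8781) (tt N5793 F116721) (tt N6005 D8783) (tt N1233 (iv3 D3920)) (tt N6006 D8784) (tt N6007 D8785) (tt N6008 D8786) (tt N4244 (iv7 F13699)))
theorem Q2782 : ∀ i, i < 2782 → P i := stepQ 2781 Q2781 (allL N2781 (tt N6009 D8788) (tt N4407 F30046) (tt N4242 (iv2 F13708)) (tt N6010 D8790) (tt N1233 (iv4 D3921)) (tt N6011 D8791) (tt N6012 D8792) (tt N4245 (iv7 F13701)))
theorem Q2783 : ∀ i, i < 2783 → P i := stepQ 2782 Q2782 (allL N2782 (tt N6013 D8794) (tt N6014 D8795) (tt N4243 (iv2 F13710)) (tt N6007 (iv3 F13660)) (tt N6015 D8796) (tt N1233 (iv5 D3922)) (tt N6016 D8797) (tt N2783 F13706))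
theorem Q2784 : ∀ i, i < 2784 → P i := stepQ 2783 Q2783 (allL N2783 (tt N5979 (iv1 F29780)) (tt N6017 D8800) (tt N2786 (iv2 F13705)) (tt N6008 (iv3 F13661)) (tt N6012 (iv4 F13665)) (tt N1941 F5861) (tt N1233 (iv6 D3923)) (tt N2782 (iv7 F13706)))
theorem Q2785 : ∀ i, i < 2785 → P i := stepQ 2784 Q2784 (allL N2784 (tt N5817 F117181) (tt N6018 D8804) (tt N6019 D8805) (tt N1234 (iv3 D3925)) (tt N6020 D8806) (tt N6021 D8807) (tt N6022 D8808) (tt N4241 (iv7 F13707)))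
theorem Q2786 : ∀ i, i < 2786 → P i := stepQ 2785 Q2785 (allL N2785 (tt N4407 F30047) (tt N6009 F13668) (tt N4245 (iv2 F13700)) (tt N6023 D8809) (tt N1234 (iv4 D3926)) (tt N6024 D8810) (tt N6025 D8811) (tt N4242 (iv7 F13709)))
theorem Q2787 : ∀ i, i < 2787 → P i := stepQ 2786 Q2786 (allL N2786 (tt N6014 (iv1 F13670)) (tt N6013 F13675) (tt N2783 F13705) (tt N6021 (iv3 F13683)) (tt N6026 D8812) (tt N1234 (iv5 D3927)) (tt N1940 (iv6 F5863)) (tt N4243 (iv7 F13711)))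
theorem Q2788 : ∀ i, i < 2788 → P i := stepQ 2787 Q2787 (allL N2787 (tt N6027 D8813) (tt N5960 (iv0 F13715)) (tt N4246 (iv2 F13697)) (tt N6022 (iv3 F13685)) (tt N6025 (iv4 F13686)) (tt N6028 D8815) (tt N1234 (iv6 D3928)) (tt N6028 F13692))
theorem Q2789 : ∀ i, i < 2789 → P i := stepQ 2788 Q2788 (allL N2788 (tt N4249 (iv1 F9820)) (tt N4248 F9819) (tt N4247 (iv2 F9814)) (tt N5936 (iv3 F13582)) (tt N4040 (iv4 F9358)) (tt N6029 D8816) (tt N1235 (iv6 D3929)) (tt N1236 F5864))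
theorem Q2790 : ∀ i, i < 2790 → P i := stepQ 2789 Q2789 (allL N2789 (tt N4247 (iv1 F9818)) (tt N1236 (iv0 D3930)) (tt N4248 (iv2 F44656)) (tt N6030 D8818) (tt N4404 (iv4 F43120)) (tt N6031 D8820) (tt N6032 D8821) (tt N4249 F44655))
theorem Q2791 : ∀ i, i < 2791 → P i := stepQ 2790 Q2790 (allL N2790 (tt N1236 (iv1 D3931)) (tt N4247 F9817) (tt N4249 F44651) (tt N4205 (iv3 F297326)) (tt N4405 F43124) (tt N6033 D8825) (tt N4203 F296978) (tt N4248 (iv7 F44657)))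
theorem Q2792 : ∀ i, i < 2792 → P i := stepQ 2791 Q2791 (allL N2791 (tt N6034 D8827) (tt N6035 D8828) (tt N4250 (iv2 F9821)) (tt N5939 (iv3 F13584)) (tt N6036 D8829) (tt N1236 (iv5 D3932)) (tt N1239 F5865) (tt N6029 (iv7 F13717)))
theorem Q2793 : ∀ i, i < 2793 → P i := stepQ 2792 Q2792 (allL N2792 (tt N5356 F12241) (tt N3167 (iv0 F16846)) (tt N5789 (iv2 F16809)) (tt N1237 (iv3 D3933)) (tt N1280 F5866) (tt N6037 D8832) (tt N1250 F5867) (tt N3364 (iv7 F7512)))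
theorem Q2794 : ∀ i, i < 2794 → P i := stepQ 2793 Q2793 (allL N2793 (tt N4113 (iv1 F9518)) (tt N3030 (iv0 F6237)) (tt N2486 F5868) (tt N6037 (iv3 F13724)) (tt N6038 D8833) (tt N1237 (iv5 D3934)) (tt N4231 (iv6 F9789)) (tt N4251 (iv7 F9824)))
theorem Q2795 : ∀ i, i < 2795 → P i := stepQ 2794 Q2794 (allL N2794 (tt N4167 (iv1 F16996)) (tt N5366 (iv0 F13348)) (tt N5822 (iv2 F16992)) (tt N1238 (iv3 D3935)) (tt N2794 F5869) (tt N6039 D8836) (tt N5634 (iv6 F12899)) (tt N2485 F5870))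
theorem Q2796 : ∀ i, i < 2796 → P i := stepQ 2795 Q2795 (allL N2795 (tt N3030 (iv1 F6238)) (tt N4113 (iv0 F9517)) (tt N4251 (iv2 F9823)) (tt N6039 (iv3 F13734)) (tt N6040 D8837) (tt N1238 (iv5 D3936)) (tt N6041 D8838) (tt N2486 F5871))
theorem Q2797 : ∀ i, i < 2797 → P i := stepQ 2796 Q2796 (allL N2796 (tt N1239 (iv1 D3937)) (tt N2556 F5872) (tt N4252 F9830) (tt N6042 D8839) (tt N6043 D8840) (tt N2599 F5873) (tt N6044 D8841) (tt N2807 (iv7 F5897)))
theorem Q2798 : ∀ i, i < 2798 → P i := stepQ 2797 Q2797 (allL N2797 (tt N2597 F5874) (tt N6045 D8842) (tt N4253 (iv2 F9831)) (tt N6046 D8843) (tt N1239 (iv4 D3938)) (tt N5529 (iv5 F12764)) (tt N6036 (iv6 F13720)) (tt N5425 (iv7 F12403)))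
theorem Q2799 : ∀ i, i < 2799 → P i := stepQ 2798 Q2798 (allL N2798 (tt N2651 (iv1 F5875)) (tt N1240 (iv0 D3939)) (tt N2650 (iv2 F6448)) (tt N4184 (iv3 F9716)) (tt N2715 F6451) (tt N5538 F13310) (tt N2798 F7211) (tt N2649 (iv7 F6450)))
theorem Q2800 : ∀ i, i < 2800 → P i := stepQ 2799 Q2799 (allL N2799 (tt N1240 (iv1 D3940)) (tt N2651 F5881) (tt N2649 F6449) (tt N3146 (iv3 F6697)) (tt N2717 (iv4 F6434)) (tt N3227 (iv5 F295729)) (tt N3230 F295640) (tt N2650 F6447))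
theorem Q2801 : ∀ i, i < 2801 → P i := stepQ 2800 Q2800 (allL N2800 (tt N2650 F5882) (tt N2649 F5880) (tt N1240 (iv2 D3941)) (tt N1256 F5877) (tt N2800 F5878) (tt N6047 D8845) (tt N4090 (iv6 F9464)) (tt N2651 F5879))
theorem Q2802 : ∀ i, i < 2802 → P i := stepQ 2801 Q2801 (allL N2801 (tt N6048 D8846) (tt N6049 D8847) (tt N6047 (iv2 F13753)) (tt N1241 F5883) (tt N6050 D8848) (tt N1240 (iv5 D3942)) (tt N6051 D8849) (tt N2586 F5884))
theorem Q2803 : ∀ i, i < 2803 → P i := stepQ 2802 Q2802 (allL N2802 (tt N6052 D8850) (tt N6053 D8851) (tt N1260 F5885) (tt N6051 (iv3 F13774)) (tt N4407 (iv4 F10564)) (tt N2663 F5886) (tt N1241 (iv6 D3943)) (tt N6054 D8852))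
theorem Q2804 : ∀ i, i < 2804 → P i := stepQ 2803 Q2803 (allL N2803 (tt N2484 (iv1 F5887)) (tt N1245 (iv0 D3944)) (tt N2483 F12830) (tt N4132 (iv3 F9564)) (tt N5558 F12831) (tt N2702 F13465) (tt N5368 (iv6 F14298)) (tt N2482 F12832))
theorem Q2805 : ∀ i, i < 2805 → P i := stepQ 2804 Q2804 (allL N2804 (tt N1245 (iv1 D3945)) (tt N2484 F5892) (tt N2482 F12833) (tt N6055 D8854) (tt N4129 (iv4 F9562)) (tt N2703 F13460) (tt N1911 F16983) (tt N2483 F12834))
theorem Q2806 : ∀ i, i < 2806 → P i := stepQ 2805 Q2805 (allL N2805 (tt N2483 F5893) (tt N2482 F5891) (tt N1245 (iv2 D3946)) (tt N2478 F5888) (tt N2805 F5889) (tt N4219 (iv5 F9765)) (tt N6056 D8856) (tt N2484 F5890))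
theorem Q2807 : ∀ i, i < 2807 → P i := stepQ 2806 Q2806 (allL N2806 (tt N5834 (iv1 F17001)) (tt N6057 D8858) (tt N6056 (iv2 F13792)) (tt N1246 F5894) (tt N2806 F5895) (tt N6058 D8859) (tt N1245 (iv6 D3947)) (tt N5634 (iv7 F12900)))
theorem Q2808 : ∀ i, i < 2808 → P i := stepQ 2807 Q2807 (allL N2807 (tt N2509 F5898) (tt N1945 F5899) (tt N2480 F5896) (tt N6058 (iv3 F13795)) (tt N6059 D8860) (tt N1246 (iv5 D3948)) (tt N4224 (iv6 F9774)) (tt N2796 F5897))
theorem Q2809 : ∀ i, i < 2809 → P i := stepQ 2808 Q2808 (allL N2808 (tt N2478 (iv1 F5900)) (tt N1250 (iv0 D3949)) (tt N2477 (iv2 F12174)) (tt N4092 (iv3 F9471)) (tt N3035 (iv4 F12175)) (tt N2688 F6929) (tt N1429 (iv6 F16760)) (tt N2476 F12173))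
theorem Q2810 : ∀ i, i < 2810 → P i := stepQ 2809 Q2809 (allL N2809 (tt N1250 (iv1 D3950)) (tt N2478 (iv0 F5902)) (tt N2476 F12130) (tt N6060 D8862) (tt N1331 (iv4 F5901)) (tt N2689 F6932) (tt N6061 D8863) (tt N2477 F12131))
theorem Q2811 : ∀ i, i < 2811 → P i := stepQ 2810 Q2810 (allL N2810 (tt N2477 (iv1 F5907)) (tt N2476 F5906) (tt N1250 (iv2 D3951)) (tt N2484 F5903) (tt N1279 F5904) (tt N4226 (iv5 F9781)) (tt N5789 (iv6 F16812)) (tt N2478 F5905))
theorem Q2812 : ∀ i, i < 2812 → P i := stepQ 2811 Q2811 (allL N2811 (tt N1255 (iv1 F5912)) (tt N1254 (iv0 D3952)) (tt N1258 (iv2 F5910)) (tt N2651 F5908) (tt N1282 F5909) (tt N6062 D8864) (tt N6063 D8865) (tt N1256 F5911))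
theorem Q2813 : ∀ i, i < 2813 → P i := stepQ 2812 Q2812 (allL N2812 (tt N5552 (iv1 F12785)) (tt N2664 F7184) (tt N3197 (iv2 F6853)) (tt N3193 (iv3 F6825)) (tt N6064 D8866) (tt N1254 (iv5 D3955)) (tt N6065 D8867) (tt N3224 (iv7 F6966)))
theorem Q2814 : ∀ i, i < 2814 → P i := stepQ 2813 Q2813 (allL N2813 (tt N2695 F6765) (tt N2652 F6872) (tt N3206 (iv2 F6869)) (tt N1255 (iv3 D3958)) (tt N3206 (iv4 F6871)) (tt N6066 D8868) (tt N6067 D8869) (tt N3196 (iv7 F6851)))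
theorem Q2815 : ∀ i, i < 2815 → P i := stepQ 2814 Q2814 (allL N2814 (tt N2664 (iv1 F7183)) (tt N5552 F12786) (tt N3224 (iv2 F6964)) (tt N6066 (iv3 F13828)) (tt N6068 D8870) (tt N1255 (iv5 D3959)) (tt N6069 D8871) (tt N3197 (iv7 F6854)))
theorem Q2816 : ∀ i, i < 2816 → P i := stepQ 2815 Q2815 (allL N2815 (tt N2676 F17411) (tt N5781 F17412) (tt N3225 (iv2 F6967)) (tt N6067 (iv3 F13829)) (tt N3201 (iv4 F6863)) (tt N6070 D8874) (tt N1255 (iv6 D3960)) (tt N2815 F7151))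
theorem Q2817 : ∀ i, i < 2817 → P i := stepQ 2816 Q2816 (allL N2816 (tt N6071 D8875) (tt N6072 D8876) (tt N1257 F5915) (tt N6047 (iv3 F13754)) (tt N6073 D8877) (tt N1256 (iv5 D3961)) (tt N6074 D8878) (tt N6062 (iv7 F13818)))
theorem Q2818 : ∀ i, i < 2818 → P i := stepQ 2817 Q2817 (allL N2817 (tt N6062 (iv1 F13819)) (tt N1257 (iv0 D3962)) (tt N6071 F13836) (tt N6075 D8879) (tt N6076 D8880) (tt N2564 F7337) (tt N6077 D8881) (tt N6072 (iv7 F13839)))
theorem Q2819 : ∀ i, i < 2819 → P i := stepQ 2818 Q2818 (allL N2818 (tt N1257 (iv1 D3963)) (tt N6062 (iv0 F13820)) (tt N6072 F13841) (tt N6078 D8882) (tt N6079 D8883) (tt N2565 (iv5 F7027)) (tt N6080 D8884) (tt N6071 F13837))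
theorem Q2820 : ∀ i, i < 2820 → P i := stepQ 2819 Q2819 (allL N2819 (tt N6081 D8885) (tt N6082 D8886) (tt N6073 (iv2 F13843)) (tt N6083 D8887) (tt N1257 (iv4 D3964)) (tt N6084 D8888) (tt N6085 D8889) (tt N6086 D8890))
theorem Q2821 : ∀ i, i < 2821 → P i := stepQ 2820 Q2820 (allL N2820 (tt N6087 D8891) (tt N6088 D8892) (tt N6074 (iv2 F13844)) (tt N1260 F5916) (tt N6085 (iv4 F13856)) (tt N5554 (iv5 F12788)) (tt N1257 (iv6 D3965)) (tt N6089 D8893))
theorem Q2822 : ∀ i, i < 2822 → P i := stepQ 2821 Q2821 (allL N2821 (tt N6072 (iv1 F13838)) (tt N6071 F13835) (tt N6062 (iv2 F13816)) (tt N1261 F5917) (tt N6086 (iv4 F13857)) (tt N1258 F5918) (tt N6090 D8894) (tt N1257 (iv7 D3966)))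
theorem Q2823 : ∀ i, i < 2823 → P i := stepQ 2822 Q2822 (allL N2822 (tt N6091 D8895) (tt N6092 D8896) (tt N6063 (iv2 F13821)) (tt N1262 F5919) (tt N1297 F5920) (tt N5627 (iv5 F12888)) (tt N1258 (iv6 D3967)) (tt N2643 F5921))
theorem Q2824 : ∀ i, i < 2824 → P i := stepQ 2823 Q2823 (allL N2823 (tt N6093 D8897) (tt N6094 D8898) (tt N6095 D8899) (tt N1259 (iv3 D3968)) (tt N6083 (iv4 F13855)) (tt N2512 F5922) (tt N6096 D8900) (tt N3412 (iv7 F7642)))
theorem Q2825 : ∀ i, i < 2825 → P i := stepQ 2824 Q2824 (allL N2824 (tt N4242 F30436) (tt N4245 F30437) (tt N4407 (iv2 F10563)) (tt N6096 (iv3 F13869)) (tt N1260 F5923) (tt N6097 D8903) (tt N1259 (iv6 D3969)) (tt N6009 (iv7 F30049)))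
theorem Q2826 : ∀ i, i < 2826 → P i := stepQ 2825 Q2825 (allL N2825 (tt N6054 (iv1 F13782)) (tt N1260 (iv0 D3970)) (tt N6052 F30400) (tt N6098 D8906) (tt N2776 (iv4 F28967)) (tt N6099 D8908) (tt N6100 D8909) (tt N6053 F30401))
theorem Q2827 : ∀ i, i < 2827 → P i := stepQ 2826 Q2826 (allL N2826 (tt N1260 (iv1 D3971)) (tt N6054 F13781) (tt N6053 F30393) (tt N6101 D8911) (tt N2777 (iv4 F28977)) (tt N6102 D8913) (tt N6103 D8914) (tt N6052 (iv7 F30394)))
theorem Q2828 : ∀ i, i < 2828 → P i := stepQ 2827 Q2827 (allL N2827 (tt N6053 (iv1 F13776)) (tt N6052 F13780) (tt N6054 (iv2 F13777)) (tt N6089 (iv3 F13858)) (tt N6009 F30050) (tt N5557 (iv5 F12789)) (tt N6104 D8915) (tt N1260 (iv7 D3972)))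
theorem Q2829 : ∀ i, i < 2829 → P i := stepQ 2828 Q2828 (allL N2828 (tt N6105 D8916) (tt N2634 (iv0 F297106)) (tt N2587 F5924) (tt N6090 (iv3 F13859)) (tt N3413 (iv4 F7644)) (tt N5629 (iv5 F12891)) (tt N1261 (iv6 D3973)) (tt N6104 (iv7 F13877)))
theorem Q2830 : ∀ i, i < 2830 → P i := stepQ 2829 Q2829 (allL N2829 (tt N1364 F12193) (tt N2981 F12194) (tt N2490 F12284) (tt N1263 (iv3 D3975)) (tt N2488 (iv4 F12286)) (tt N2881 F7007) (tt N6106 D8918) (tt N2494 F12285))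
theorem Q2831 : ∀ i, i < 2831 → P i := stepQ 2830 Q2830 (allL N2830 (tt N6107 D8919) (tt N5357 (iv0 F12246)) (tt N2964 (iv2 F12323)) (tt N6108 D8920) (tt N1263 (iv4 D3976)) (tt N6109 D8921) (tt N6110 D8922) (tt N2962 (iv7 F12322)))
theorem Q2832 : ∀ i, i < 2832 → P i := stepQ 2831 Q2831 (allL N2831 (tt N3021 F17513) (tt N1353 (iv0 F17521)) (tt N2965 (iv2 F12324)) (tt N6106 (iv3 F13883)) (tt N6110 (iv4 F13897)) (tt N6111 D8925) (tt N1263 (iv6 D3978)) (tt N3020 F17528))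
theorem Q2833 : ∀ i, i < 2833 → P i := stepQ 2832 Q2832 (allL N2832 (tt N3035 F12244) (tt N1331 F12245) (tt N3034 (iv2 F12305)) (tt N1264 (iv3 D3980)) (tt N5673 F12959) (tt N2884 F7026) (tt N6112 D8927) (tt N2963 F12275))
theorem Q2834 : ∀ i, i < 2834 → P i := stepQ 2833 Q2833 (allL N2833 (tt N5357 F12243) (tt N6107 F13887) (tt N2962 F12326) (tt N2550 (iv3 F5928)) (tt N1264 (iv4 D3981)) (tt N6113 D8928) (tt N6114 D8929) (tt N2964 F12325))
theorem Q2835 : ∀ i, i < 2835 → P i := stepQ 2834 Q2834 (allL N2834 (tt N1329 F7024) (tt N2858 F7025) (tt N2894 F12332) (tt N6112 (iv3 F13900)) (tt N6114 (iv4 F13903)) (tt N6115 D8930) (tt N1264 (iv6 D3983)) (tt N2895 (iv7 F12333)))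
theorem Q2836 : ∀ i, i < 2836 → P i := stepQ 2835 Q2835 (allL N2835 (tt N1290 (iv1 F7182)) (tt N1286 F7179) (tt N1266 F5929) (tt N2835 F5930) (tt N6116 D8931) (tt N1265 (iv5 D3984)) (tt N6117 D8932) (tt N2948 (iv7 F6085)))
theorem Q2837 : ∀ i, i < 2837 → P i := stepQ 2836 Q2836 (allL N2836 (tt N2948 (iv1 F6086)) (tt N1266 (iv0 D3985)) (tt N1290 F7017) (tt N2729 F7018) (tt N6118 D8933) (tt N1287 F7019) (tt N6119 D8934) (tt N1286 F7020))
theorem Q2838 : ∀ i, i < 2838 → P i := stepQ 2837 Q2837 (allL N2837 (tt N1266 (iv1 D3986)) (tt N2948 F6088) (tt N1286 F7014) (tt N6120 D8935) (tt N6121 D8936) (tt N1283 F7015) (tt N6122 D8937) (tt N1290 F7016))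
theorem Q2839 : ∀ i, i < 2839 → P i := stepQ 2838 Q2838 (allL N2838 (tt N6123 D8938) (tt N3199 (iv0 F6912)) (tt N6116 (iv2 F13908)) (tt N2941 (iv3 F6073)) (tt N1266 (iv4 D3987)) (tt N6124 D8939) (tt N6125 D8940) (tt N2938 F6071))
theorem Q2840 : ∀ i, i < 2840 → P i := stepQ 2839 Q2839 (allL N2839 (tt N6126 D8941) (tt N6127 D8942) (tt N6117 (iv2 F13909)) (tt N1267 F5931) (tt N6125 (iv4 F13923)) (tt N1296 F5932) (tt N1266 (iv6 D3988)) (tt N6128 D8943))
theorem Q2841 : ∀ i, i < 2841 → P i := stepQ 2840 Q2840 (allL N2840 (tt N2842 (iv1 F5935)) (tt N1267 (iv0 D3989)) (tt N2840 F30659) (tt N6129 D8945) (tt N2950 F15292) (tt N6130 D8947) (tt N6131 D8948) (tt N2841 F30660))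
theorem Q2842 : ∀ i, i < 2842 → P i := stepQ 2841 Q2841 (allL N2841 (tt N1267 (iv1 D3990)) (tt N2842 F5936) (tt N2841 F30657) (tt N6132 D8950) (tt N2951 (iv4 F15266)) (tt N6133 D8952) (tt N3334 (iv6 F292112)) (tt N2840 (iv7 F30660)))
theorem Q2843 : ∀ i, i < 2843 → P i := stepQ 2842 Q2842 (allL N2842 (tt N2841 (iv1 F5936)) (tt N2840 F5935) (tt N2842 F5933) (tt N6128 (iv3 F13924)) (tt N2961 (iv4 F6100)) (tt N1300 F5934) (tt N2952 (iv6 F6094)) (tt N1267 (iv7 D3991)))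
theorem Q2844 : ∀ i, i < 2844 → P i := stepQ 2843 Q2843 (allL N2843 (tt N5673 (iv1 F12958)) (tt N5533 (iv0 F12774)) (tt N2854 F12200) (tt N2913 F6039) (tt N1271 (iv4 D3993)) (tt N6134 D8954) (tt N6135 D8955) (tt N2852 (iv7 F12199)))
theorem Q2845 : ∀ i, i < 2845 → P i := stepQ 2844 Q2844 (allL N2844 (tt N3157 (iv1 F16771)) (tt N1280 F7291) (tt N2855 F12212) (tt N3046 (iv3 F6315)) (tt N6135 (iv4 F13932)) (tt N6136 D8956) (tt N1271 (iv6 D3995)) (tt N1408 (iv7 F16770)))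
theorem Q2846 : ∀ i, i < 2846 → P i := stepQ 2845 Q2845 (allL N2845 (tt N2909 (iv1 F12147)) (tt N2912 F12148) (tt N2908 (iv2 F6269)) (tt N1272 (iv3 D3997)) (tt N5676 (iv4 F12970)) (tt N3177 F7301) (tt N1409 (iv6 F16764)) (tt N2853 F12145))
theorem Q2847 : ∀ i, i < 2847 → P i := stepQ 2846 Q2846 (allL N2846 (tt N3189 F16883) (tt N6137 D8963) (tt N1274 F5939) (tt N2846 F5940) (tt N5358 (iv4 F12249)) (tt N6138 D8964) (tt N1273 (iv6 D4000)) (tt N6139 D8965))
theorem Q2848 : ∀ i, i < 2848 → P i := stepQ 2847 Q2847 (allL N2847 (tt N6139 (iv1 F13945)) (tt N1274 (iv0 D4001)) (tt N3189 (iv2 F16877)) (tt N6140 D8967) (tt N6141 D8968) (tt N6119 (iv5 F294130)) (tt N1437 (iv6 F16880)) (tt N6137 (iv7 F14737)))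
theorem Q2849 : ∀ i, i < 2849 → P i := stepQ 2848 Q2848 (allL N2848 (tt N1274 (iv1 D4002)) (tt N6139 F13944) (tt N6137 (iv2 F14736)) (tt N6142 D8972) (tt N6143 D8973) (tt N6144 D8974) (tt N2848 F14741) (tt N3189 F16881))
theorem Q2850 : ∀ i, i < 2850 → P i := stepQ 2849 Q2849 (allL N2849 (tt N6136 (iv1 F16776)) (tt N3158 (iv0 F7299)) (tt N6138 (iv2 F13937)) (tt N1275 F5941) (tt N6145 D8977) (tt N1274 (iv5 D4003)) (tt N3072 (iv6 F291974)) (tt N3365 (iv7 F7522)))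
theorem Q2851 : ∀ i, i < 2851 → P i := stepQ 2850 Q2850 (allL N2850 (tt N6137 (iv1 F13935)) (tt N3189 F16882) (tt N6139 (iv2 F13940)) (tt N1276 F5942) (tt N5362 (iv4 F12252)) (tt N3365 (iv5 F7521)) (tt N1517 F5943) (tt N1274 (iv7 D4004)))
theorem Q2852 : ∀ i, i < 2852 → P i := stepQ 2851 Q2851 (allL N2851 (tt N1514 (iv1 F292747)) (tt N2902 (iv0 F6013)) (tt N2851 F5944) (tt N6146 D8978) (tt N1275 (iv4 D4005)) (tt N1418 (iv5 F292752)) (tt N1491 (iv6 F292753)) (tt N3141 (iv7 F291743)))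
theorem Q2853 : ∀ i, i < 2853 → P i := stepQ 2852 Q2852 (allL N2852 (tt N6147 D8979) (tt N6148 D8980) (tt N2622 (iv2 F12185)) (tt N2982 (iv3 F6158)) (tt N1277 (iv4 D4007)) (tt N6149 D8981) (tt N1420 (iv6 F16739)) (tt N2843 F12199))
theorem Q2854 : ∀ i, i < 2854 → P i := stepQ 2853 Q2853 (allL N2853 (tt N6150 D8987) (tt N1304 F12149) (tt N2974 (iv2 F6146)) (tt N1278 (iv3 D4011)) (tt N6107 (iv4 F13885)) (tt N3130 F6931) (tt N6151 D8988) (tt N2845 (iv7 F12145)))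
theorem Q2855 : ∀ i, i < 2855 → P i := stepQ 2854 Q2854 (allL N2854 (tt N6148 (iv1 F13955)) (tt N6147 F13952) (tt N2843 (iv2 F12200)) (tt N1870 F5947) (tt N1278 (iv4 D4012)) (tt N5772 (iv5 F13325)) (tt N5694 F13003) (tt N2622 F12165))
theorem Q2856 : ∀ i, i < 2856 → P i := stepQ 2855 Q2855 (allL N2855 (tt N1517 F7509) (tt N2856 (iv0 F7085)) (tt N2844 (iv2 F12212)) (tt N6151 (iv3 F13978)) (tt N5694 (iv4 F13002)) (tt N6152 D8989) (tt N1278 (iv6 D4014)) (tt N1425 (iv7 F16766)))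
theorem Q2857 : ∀ i, i < 2857 → P i := stepQ 2856 Q2856 (allL N2856 (tt N2855 F7085) (tt N1408 (iv0 F16769)) (tt N1280 F5948) (tt N2856 F5949) (tt N5789 (iv4 F16811)) (tt N6153 D8990) (tt N1279 (iv6 D4015)) (tt N3157 (iv7 F16774)))
theorem Q2858 : ∀ i, i < 2858 → P i := stepQ 2857 Q2857 (allL N2857 (tt N6154 D8994) (tt N2877 (iv0 F293893)) (tt N6153 (iv2 F13980)) (tt N1281 F5950) (tt N6155 D8996) (tt N1280 (iv5 D4018)) (tt N3330 (iv6 F7403)) (tt N3113 F293752))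
theorem Q2859 : ∀ i, i < 2859 → P i := stepQ 2858 Q2858 (allL N2858 (tt N2834 (iv1 F7025)) (tt N2968 F6124) (tt N1297 F5952) (tt N2858 F5953) (tt N6063 (iv4 F13823)) (tt N6156 D8998) (tt N1282 (iv6 D4020)) (tt N2967 (iv7 F6121)))
theorem Q2860 : ∀ i, i < 2860 → P i := stepQ 2859 Q2859 (allL N2859 (tt N2682 (iv1 F6458)) (tt N1393 F6456) (tt N2719 F6410) (tt N1283 (iv3 D4023)) (tt N3145 (iv4 F6688)) (tt N6120 (iv5 F13917)) (tt N2859 F7202) (tt N1288 F5956))
theorem Q2861 : ∀ i, i < 2861 → P i := stepQ 2860 Q2860 (allL N2860 (tt N1284 (iv1 D4028)) (tt N2721 (iv0 F6425)) (tt N1386 (iv2 F6468)) (tt N2869 (iv3 F5985)) (tt N1449 (iv4 F6435)) (tt N6157 D8999) (tt N2981 F16743) (tt N2718 F6407))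
theorem Q2862 : ∀ i, i < 2862 → P i := stepQ 2861 Q2861 (allL N2861 (tt N2983 (iv1 F6919)) (tt N6158 D9001) (tt N2720 F6459) (tt N1286 F5965) (tt N2937 F7185) (tt N1284 (iv5 D4030)) (tt N6159 D9002) (tt N2729 (iv7 F6460)))
theorem Q2863 : ∀ i, i < 2863 → P i := stepQ 2862 Q2862 (allL N2862 (tt N1289 (iv1 F5978)) (tt N1285 (iv0 D4033)) (tt N3165 F6767) (tt N4149 (iv3 F9595)) (tt N1422 F5972) (tt N6160 D9003) (tt N6161 D9004) (tt N3121 (iv7 F6665)))
theorem Q2864 : ∀ i, i < 2864 → P i := stepQ 2863 Q2863 (allL N2863 (tt N4159 F9635) (tt N4157 (iv0 F9630)) (tt N4183 (iv2 F9708)) (tt N1285 (iv3 D4035)) (tt N2713 (iv4 F6430)) (tt N4180 (iv5 F296215)) (tt N2863 F7187) (tt N2726 F6454))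
theorem Q2865 : ∀ i, i < 2865 → P i := stepQ 2864 Q2864 (allL N2864 (tt N6162 D9006) (tt N5799 (iv0 F13809)) (tt N4185 (iv2 F9720)) (tt N4180 (iv3 F296214)) (tt N6163 D9007) (tt N1285 (iv5 D4036)) (tt N5808 (iv6 F296442)) (tt N3171 F296081))
theorem Q2866 : ∀ i, i < 2866 → P i := stepQ 2865 Q2865 (allL N2865 (tt N3121 F6667) (tt N3165 (iv0 F6764)) (tt N1289 F5976) (tt N2726 F6420) (tt N1287 F5977) (tt N3171 (iv5 F295954)) (tt N3174 F295870) (tt N1285 (iv7 D4038)))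
theorem Q2867 : ∀ i, i < 2867 → P i := stepQ 2866 Q2866 (allL N2866 (tt N6164 D9011) (tt N6165 D9012) (tt N6121 (iv2 F13919)) (tt N6166 D9013) (tt N1286 (iv4 D4041)) (tt N6167 D9014) (tt N6168 D9015) (tt N6118 (iv7 F13913)))
theorem Q2868 : ∀ i, i < 2868 → P i := stepQ 2867 Q2867 (allL N2867 (tt N6169 D9016) (tt N3096 F66169) (tt N6122 (iv2 F13921)) (tt N6159 (iv3 F14001)) (tt N6168 (iv4 F14074)) (tt N2867 F7214) (tt N1286 (iv6 D4042)) (tt N6170 D9018))
theorem Q2869 : ∀ i, i < 2869 → P i := stepQ 2868 Q2868 (allL N2868 (tt N2878 (iv1 F7197)) (tt N1405 (iv0 F17464)) (tt N1291 F5983) (tt N2730 F6422) (tt N3174 F295762) (tt N1437 (iv5 F294310)) (tt N1287 (iv6 D4048)) (tt N2868 F7195))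
theorem Q2870 : ∀ i, i < 2870 → P i := stepQ 2869 Q2869 (allL N2869 (tt N2719 (iv1 F6409)) (tt N1288 (iv0 D4049)) (tt N1393 F6406) (tt N2860 F5985) (tt N1429 F5984) (tt N6171 D9020) (tt N3035 F16751) (tt N2682 (iv7 F6405)))
theorem Q2871 : ∀ i, i < 2871 → P i := stepQ 2870 Q2870 (allL N2870 (tt N1393 F5987) (tt N2682 F6408) (tt N1288 (iv2 D4051)) (tt N2721 (iv3 F6427)) (tt N3146 F6695) (tt N6172 D9022) (tt N6173 D9023) (tt N2719 F6455))
theorem Q2872 : ∀ i, i < 2872 → P i := stepQ 2871 Q2871 (allL N2871 (tt N1410 (iv1 F6481)) (tt N1406 (iv0 F5988)) (tt N3146 (iv2 F6696)) (tt N4188 (iv3 F9728)) (tt N1288 (iv4 D4052)) (tt N6069 (iv5 F295872)) (tt N6070 F295733) (tt N3145 F6692))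
theorem Q2873 : ∀ i, i < 2873 → P i := stepQ 2872 Q2872 (allL N2872 (tt N6174 D9026) (tt N3036 F14093) (tt N6172 (iv2 F14088)) (tt N1290 F5989) (tt N6175 D9027) (tt N1288 (iv5 D4053)) (tt N6176 D9028) (tt N6120 (iv7 F13918)))
theorem Q2874 : ∀ i, i < 2874 → P i := stepQ 2873 Q2873 (allL N2873 (tt N6177 D9029) (tt N3109 F17408) (tt N6173 (iv2 F14094)) (tt N1291 F5990) (tt N6070 (iv4 F295647)) (tt N3187 F294250) (tt N1288 (iv6 D4054)) (tt N2873 F7198))
theorem Q2875 : ∀ i, i < 2875 → P i := stepQ 2874 Q2874 (allL N2874 (tt N5799 (iv1 F13810)) (tt N6162 F14062) (tt N3171 F295997) (tt N4066 (iv3 F14016)) (tt N6178 D9032) (tt N1289 (iv5 D4055)) (tt N3159 F295998) (tt N4185 (iv7 F9722)))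
theorem Q2876 : ∀ i, i < 2876 → P i := stepQ 2875 Q2875 (allL N2875 (tt N6179 D9034) (tt N6180 D9035) (tt N3174 F295737) (tt N4191 (iv3 F9738)) (tt N1291 F5991) (tt N3160 (iv5 F295896)) (tt N1289 (iv6 D4056)) (tt N2875 F7199))
theorem Q2877 : ∀ i, i < 2877 → P i := stepQ 2876 Q2876 (allL N2876 (tt N6165 (iv1 F14072)) (tt N6164 F14071) (tt N6118 (iv2 F13912)) (tt N6181 D9037) (tt N1290 (iv4 D4057)) (tt N6182 D9038) (tt N6183 D9039) (tt N6121 (iv7 F13920)))
theorem Q2878 : ∀ i, i < 2878 → P i := stepQ 2877 Q2877 (allL N2877 (tt N2857 F293893) (tt N6184 D9041) (tt N6119 (iv2 F13914)) (tt N6176 (iv3 F14108)) (tt N6183 (iv4 F14117)) (tt N3189 F293894) (tt N1290 (iv6 D4058)) (tt N6144 F293895))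
theorem Q2879 : ∀ i, i < 2879 → P i := stepQ 2878 Q2878 (allL N2878 (tt N1291 (iv1 D4060)) (tt N2868 F7197) (tt N1405 (iv2 F17479)) (tt N2878 F17430) (tt N5781 (iv4 F17480)) (tt N1428 F293598) (tt N3021 (iv6 F17484)) (tt N2878 F17485))
theorem Q2880 : ∀ i, i < 2880 → P i := stepQ 2879 Q2879 (allL N2879 (tt N3250 F7324) (tt N3277 F7329) (tt N1295 F6001) (tt N6185 D9054) (tt N1292 (iv4 D4071)) (tt N6186 D9055) (tt N6187 D9056) (tt N3278 (iv7 F7332)))
theorem Q2881 : ∀ i, i < 2881 → P i := stepQ 2880 Q2880 (allL N2880 (tt N6188 D9057) (tt N6189 D9058) (tt N1296 F6002) (tt N2880 F6003) (tt N6187 (iv4 F14132)) (tt N6117 (iv5 F13911)) (tt N1292 (iv6 D4072)) (tt N6190 D9059))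
theorem Q2882 : ∀ i, i < 2882 → P i := stepQ 2881 Q2881 (allL N2881 (tt N3056 (iv1 F12196)) (tt N6157 (iv0 F13991)) (tt N3270 (iv2 F12315)) (tt N1293 (iv3 D4074)) (tt N3241 F7006) (tt N2829 (iv5 F7007)) (tt N6191 D9060) (tt N3274 (iv7 F12310)))
theorem Q2883 : ∀ i, i < 2883 → P i := stepQ 2882 Q2882 (allL N2882 (tt N6192 D9061) (tt N6193 D9062) (tt N3340 (iv2 F12318)) (tt N6194 D9063) (tt N1293 (iv4 D4075)) (tt N6195 D9064) (tt N6196 D9065) (tt N3337 (iv7 F12317)))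
theorem Q2884 : ∀ i, i < 2884 → P i := stepQ 2883 Q2883 (allL N2883 (tt N6197 D9066) (tt N3017 F66043) (tt N3341 (iv2 F12319)) (tt N6191 (iv3 F14139)) (tt N6196 (iv4 F14146)) (tt N3328 F292029) (tt N1293 (iv6 D4077)) (tt N6198 D9069))
theorem Q2885 : ∀ i, i < 2885 → P i := stepQ 2884 Q2884 (allL N2884 (tt N6171 (iv1 F14082)) (tt N2993 F14084) (tt N6199 D9070) (tt N1294 (iv3 D4079)) (tt N6200 D9071) (tt N2832 (iv5 F7026)) (tt N6201 D9072) (tt N3339 (iv7 F12299)))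
theorem Q2886 : ∀ i, i < 2886 → P i := stepQ 2885 Q2885 (allL N2885 (tt N6193 (iv1 F14144)) (tt N6192 F14141) (tt N3337 (iv2 F12321)) (tt N6202 D9073) (tt N1294 (iv4 D4080)) (tt N6203 D9074) (tt N6204 D9075) (tt N3340 F12320))
theorem Q2887 : ∀ i, i < 2887 → P i := stepQ 2886 Q2886 (allL N2886 (tt N3072 F62490) (tt N6205 D9077) (tt N3338 F12331) (tt N6201 (iv3 F14153)) (tt N6204 (iv4 F14154)) (tt N6206 D9078) (tt N1294 (iv6 D4082)) (tt N6207 D9079))
theorem Q2888 : ∀ i, i < 2888 → P i := stepQ 2887 Q2887 (allL N2887 (tt N3278 (iv1 F7333)) (tt N1295 (iv0 D4083)) (tt N3250 (iv2 F7233)) (tt N6208 D9080) (tt N3249 F7234) (tt N6209 D9081) (tt N6210 D9082) (tt N3277 (iv7 F7330)))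
theorem Q2889 : ∀ i, i < 2889 → P i := stepQ 2888 Q2888 (allL N2888 (tt N1295 (iv1 D4084)) (tt N3278 F7334) (tt N3277 F7328) (tt N6211 D9083) (tt N3238 (iv4 F6980)) (tt N6212 D9084) (tt N6213 D9085) (tt N3250 (iv7 F7232)))
theorem Q2890 : ∀ i, i < 2890 → P i := stepQ 2889 Q2889 (allL N2889 (tt N6214 D9086) (tt N6215 D9087) (tt N6186 (iv2 F14130)) (tt N3285 (iv3 F7342)) (tt N6216 D9088) (tt N1295 (iv5 D4085)) (tt N6217 D9089) (tt N3279 (iv7 F7339)))
theorem Q2891 : ∀ i, i < 2891 → P i := stepQ 2890 Q2890 (allL N2890 (tt N6218 D9090) (tt N6219 D9091) (tt N6187 (iv2 F14131)) (tt N3290 (iv3 F7345)) (tt N1296 F6006) (tt N6220 D9092) (tt N1295 (iv6 D4086)) (tt N6221 D9093))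
theorem Q2892 : ∀ i, i < 2892 → P i := stepQ 2891 Q2891 (allL N2891 (tt N6190 (iv1 F14138)) (tt N1296 (iv0 D4087)) (tt N6188 (iv2 F31050)) (tt N6222 D9095) (tt N6223 D9096) (tt N6224 D9097) (tt N6225 D9098) (tt N6189 F31049))
theorem Q2893 : ∀ i, i < 2893 → P i := stepQ 2892 Q2892 (allL N2892 (tt N1296 (iv1 D4088)) (tt N6190 F14137) (tt N6189 F31045) (tt N6226 D9100) (tt N6227 D9101) (tt N6228 D9102) (tt N6229 D9103) (tt N6188 (iv7 F31051)))
theorem Q2894 : ∀ i, i < 2894 → P i := stepQ 2893 Q2893 (allL N2893 (tt N6189 (iv1 F14133)) (tt N6188 F14136) (tt N6190 (iv2 F14134)) (tt N1300 F6007) (tt N6221 (iv4 F14160)) (tt N6128 (iv5 F13925)) (tt N3346 (iv6 F7427)) (tt N1296 (iv7 D4089)))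
theorem Q2895 : ∀ i, i < 2895 → P i := stepQ 2894 Q2894 (allL N2894 (tt N2967 (iv1 F6123)) (tt N1297 (iv0 D4090)) (tt N2834 (iv2 F12332)) (tt N5386 (iv3 F12357)) (tt N6230 D9104) (tt N3184 (iv5 F292550)) (tt N1325 F7325) (tt N2968 (iv7 F12334)))
theorem Q2896 : ∀ i, i < 2896 → P i := stepQ 2895 Q2895 (allL N2895 (tt N1297 (iv1 D4091)) (tt N2967 F6122) (tt N2968 F12335) (tt N6231 D9106) (tt N6232 D9107) (tt N3185 F292520) (tt N3023 F17523) (tt N2834 F12333))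
theorem Q2897 : ∀ i, i < 2897 → P i := stepQ 2896 Q2896 (allL N2896 (tt N6111 F13898) (tt N6233 D9110) (tt N6156 (iv2 F13987)) (tt N1301 F6008) (tt N6234 D9111) (tt N1297 (iv5 D4092)) (tt N3345 (iv6 F7425)) (tt N2969 (iv7 F6127)))
theorem Q2898 : ∀ i, i < 2898 → P i := stepQ 2897 Q2897 (allL N2897 (tt N6235 D9118) (tt N2998 (iv0 F35605)) (tt N6236 D9120) (tt N1298 (iv3 D4094)) (tt N6237 D9121) (tt N6238 D9122) (tt N6239 D9123) (tt N2900 (iv7 F14214)))
theorem Q2899 : ∀ i, i < 2899 → P i := stepQ 2898 Q2898 (allL N2898 (tt N3366 (iv1 F291744)) (tt N3074 (iv0 F15300)) (tt N2898 F14207) (tt N6238 (iv3 F14188)) (tt N1516 F290750) (tt N1298 (iv5 D4096)) (tt N1519 F291696) (tt N2899 (iv7 F14210)))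
theorem Q2900 : ∀ i, i < 2900 → P i := stepQ 2899 Q2899 (allL N2899 (tt N3074 (iv1 F15301)) (tt N3366 F291871) (tt N2899 F14209) (tt N6239 (iv3 F14189)) (tt N3348 (iv4 F15278)) (tt N1299 F6010) (tt N1298 (iv6 D4097)) (tt N2898 F14210))
theorem Q2901 : ∀ i, i < 2901 → P i := stepQ 2900 Q2900 (allL N2900 (tt N3055 (iv1 F35617)) (tt N6240 D9136) (tt N6241 D9137) (tt N1299 (iv3 D4099)) (tt N6242 D9138) (tt N6239 F14190) (tt N6243 D9139) (tt N2897 F14214))
theorem Q2902 : ∀ i, i < 2902 → P i := stepQ 2901 Q2901 (allL N2901 (tt N3027 F291735) (tt N1355 F291736) (tt N2901 F14206) (tt N6243 (iv3 F14231)) (tt N1324 F291737) (tt N1519 F291738) (tt N1299 (iv6 D4101)) (tt N1519 F291739))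
theorem Q2903 : ∀ i, i < 2903 → P i := stepQ 2902 Q2902 (allL N2902 (tt N2851 F6013) (tt N3141 F292739) (tt N2902 F6012) (tt N6244 D9143) (tt N1301 (iv4 D4102)) (tt N1514 (iv5 F292749)) (tt N1510 F292740) (tt N1514 (iv7 F292750)))
theorem Q2904 : ∀ i, i < 2904 → P i := stepQ 2903 Q2903 (allL N2903 (tt N1313 (iv1 F6017)) (tt N1312 F6018) (tt N1316 F6014) (tt N2903 F6015) (tt N6245 D9144) (tt N1302 (iv5 D4103)) (tt N6246 D9145) (tt N1311 F6016))
theorem Q2905 : ∀ i, i < 2905 → P i := stepQ 2904 Q2904 (allL N2904 (tt N1486 (iv1 F6022)) (tt N1485 F6023) (tt N1317 F6019) (tt N2904 F6020) (tt N5372 (iv4 F12264)) (tt N6247 D9146) (tt N1302 (iv6 D4104)) (tt N1440 F6021))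
theorem Q2906 : ∀ i, i < 2906 → P i := stepQ 2905 Q2905 (allL N2905 (tt N1332 F6290) (tt N1336 F6291) (tt N3037 F6277) (tt N1303 (iv3 D4107)) (tt N3037 F6292) (tt N3235 F6999) (tt N6248 D9147) (tt N1308 F6026))
theorem Q2907 : ∀ i, i < 2907 → P i := stepQ 2906 Q2906 (allL N2906 (tt N2625 F12100) (tt N2982 F6286) (tt N1305 F6027) (tt N2564 F6287) (tt N1303 (iv4 D4108)) (tt N6075 (iv5 F13845)) (tt N6249 D9148) (tt N1309 F6028))
theorem Q2908 : ∀ i, i < 2908 → P i := stepQ 2907 Q2907 (allL N2907 (tt N1358 F17449) (tt N3032 (iv0 F17461)) (tt N1306 F6031) (tt N6248 (iv3 F14248)) (tt N6249 (iv4 F14251)) (tt N6250 D9150) (tt N1303 (iv6 D4110)) (tt N3031 F17504))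
theorem Q2909 : ∀ i, i < 2909 → P i := stepQ 2908 Q2908 (allL N2908 (tt N1304 (iv1 D4112)) (tt N6150 F13976) (tt N2845 F6269) (tt N1362 (iv3 F6034)) (tt N5357 (iv4 F12242)) (tt N6251 D9151) (tt N1443 (iv6 F16814)) (tt N2974 (iv7 F12146)))
theorem Q2910 : ∀ i, i < 2910 → P i := stepQ 2909 Q2909 (allL N2909 (tt N2974 F6301) (tt N2845 F12147) (tt N1304 (iv2 D4113)) (tt N3037 (iv3 F6278)) (tt N2564 (iv4 F6281)) (tt N3249 (iv5 F7235)) (tt N6252 D9153) (tt N6150 (iv7 F13977)))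
theorem Q2911 : ∀ i, i < 2911 → P i := stepQ 2910 Q2910 (allL N2910 (tt N1328 F6032) (tt N2566 (iv0 F6033)) (tt N2564 F6282) (tt N6253 D9154) (tt N1304 (iv4 D4114)) (tt N6071 (iv5 F13834)) (tt N6254 D9155) (tt N2565 (iv7 F6283)))
theorem Q2912 : ∀ i, i < 2912 → P i := stepQ 2911 Q2911 (allL N2911 (tt N6255 D9156) (tt N6256 D9157) (tt N6252 (iv2 F14264)) (tt N1306 F6036) (tt N6254 (iv4 F14272)) (tt N6257 D9158) (tt N1304 (iv6 D4116)) (tt N6258 D9159))
theorem Q2913 : ∀ i, i < 2913 → P i := stepQ 2912 Q2912 (allL N2912 (tt N2845 (iv1 F12148)) (tt N2974 F6295) (tt N6150 F13975) (tt N1307 F6037) (tt N2565 F6296) (tt N3238 (iv5 F6991)) (tt N3303 (iv6 F7355)) (tt N1304 (iv7 D4117)))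
theorem Q2914 : ∀ i, i < 2914 → P i := stepQ 2913 Q2913 (allL N2913 (tt N1309 F6040) (tt N1305 (iv0 D4118)) (tt N2625 F12106) (tt N2843 (iv3 F6039)) (tt N1364 F6038) (tt N6259 D9160) (tt N6260 D9161) (tt N2982 F12181))
theorem Q2915 : ∀ i, i < 2915 → P i := stepQ 2914 Q2914 (allL N2914 (tt N1305 (iv1 D4119)) (tt N1309 F6042) (tt N2982 F12182) (tt N1871 F12183) (tt N2981 (iv4 F12186)) (tt N5775 F13369) (tt N1449 (iv6 F16738)) (tt N2625 F12184))
theorem Q2916 : ∀ i, i < 2916 → P i := stepQ 2915 Q2915 (allL N2915 (tt N2569 F6043) (tt N5364 F12802) (tt N6253 (iv2 F14266)) (tt N1305 (iv3 D4120)) (tt N6253 (iv4 F14267)) (tt N6261 D9163) (tt N6262 D9164) (tt N6263 D9165))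
theorem Q2917 : ∀ i, i < 2917 → P i := stepQ 2916 Q2916 (allL N2916 (tt N3202 F12197) (tt N3204 (iv0 F7236)) (tt N6075 (iv2 F13850)) (tt N6261 (iv3 F14289)) (tt N2745 F7228) (tt N1305 (iv5 D4121)) (tt N6264 D9166) (tt N6265 D9167))
theorem Q2918 : ∀ i, i < 2918 → P i := stepQ 2917 Q2917 (allL N2917 (tt N6266 D9168) (tt N6267 D9169) (tt N6249 (iv2 F14249)) (tt N6262 (iv3 F14302)) (tt N1306 F6044) (tt N6268 D9170) (tt N1305 (iv6 D4122)) (tt N6269 D9171))
theorem Q2919 : ∀ i, i < 2919 → P i := stepQ 2918 Q2918 (allL N2918 (tt N2982 F6297) (tt N2625 F12104) (tt N1309 F6045) (tt N6263 (iv3 F14304)) (tt N1307 F6046) (tt N6265 (iv5 F14311)) (tt N3304 (iv6 F7357)) (tt N1305 (iv7 D4123)))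
theorem Q2920 : ∀ i, i < 2920 → P i := stepQ 2919 Q2919 (allL N2919 (tt N3031 (iv1 F17457)) (tt N1306 (iv0 D4129)) (tt N1358 F17416) (tt N2919 F17451) (tt N5380 F13604) (tt N3102 (iv5 F291875)) (tt N1464 F7237) (tt N3032 (iv7 F17463)))
theorem Q2921 : ∀ i, i < 2921 → P i := stepQ 2920 Q2920 (allL N2920 (tt N6247 F14247) (tt N1487 (iv0 F6956)) (tt N6250 (iv2 F14253)) (tt N6257 (iv3 F14273)) (tt N6270 D9180) (tt N1306 (iv5 D4131)) (tt N3063 (iv6 F291037)) (tt N6271 D9181))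
theorem Q2922 : ∀ i, i < 2922 → P i := stepQ 2921 Q2921 (allL N2921 (tt N3032 (iv1 F17462)) (tt N1358 F17448) (tt N3031 F17501) (tt N6258 (iv3 F14274)) (tt N6269 (iv4 F14313)) (tt N6271 (iv5 F14323)) (tt N2946 F7223) (tt N1306 (iv7 D4132)))
theorem Q2923 : ∀ i, i < 2923 → P i := stepQ 2922 Q2922 (allL N2922 (tt N1336 F6298) (tt N1332 F6299) (tt N1308 (iv2 D4135)) (tt N6150 (iv3 F13974)) (tt N1308 F6300) (tt N3260 (iv5 F7241)) (tt N6272 D9182) (tt N3037 (iv7 F6279)))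
theorem Q2924 : ∀ i, i < 2924 → P i := stepQ 2923 Q2923 (allL N2923 (tt N2976 (iv1 F14334)) (tt N3068 (iv0 F14335)) (tt N6272 (iv2 F14326)) (tt N1310 F6054) (tt N6272 (iv4 F14327)) (tt N6273 D9185) (tt N1308 (iv6 D4138)) (tt N3305 (iv7 F7359)))
theorem Q2925 : ∀ i, i < 2925 → P i := stepQ 2924 Q2924 (allL N2924 (tt N2566 (iv1 F6056)) (tt N1328 (iv0 F6055)) (tt N2565 (iv2 F6285)) (tt N1309 (iv3 D4139)) (tt N6150 (iv4 F13973)) (tt N6072 (iv5 F13840)) (tt N6091 (iv6 F13861)) (tt N2564 F6284))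
theorem Q2926 : ∀ i, i < 2926 → P i := stepQ 2925 Q2925 (allL N2925 (tt N3204 F13572) (tt N3202 (iv0 F7111)) (tt N6265 (iv2 F14309)) (tt N6072 F13842) (tt N2746 F7224) (tt N1309 (iv5 D4140)) (tt N6274 D9186) (tt N6075 (iv7 F13846)))
theorem Q2927 : ∀ i, i < 2927 → P i := stepQ 2926 Q2926 (allL N2926 (tt N5679 F12979) (tt N3203 F16821) (tt N3304 (iv2 F7356)) (tt N6091 (iv3 F13860)) (tt N1310 F6057) (tt N6275 D9188) (tt N1309 (iv6 D4141)) (tt N3306 (iv7 F7360)))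
theorem Q2928 : ∀ i, i < 2928 → P i := stepQ 2927 Q2927 (allL N2927 (tt N3033 F17505) (tt N3102 F292462) (tt N3107 F292463) (tt N6273 (iv3 F14329)) (tt N6276 D9190) (tt N1310 (iv5 D4146)) (tt N3267 (iv6 F7315)) (tt N3108 F292464))
theorem Q2929 : ∀ i, i < 2929 → P i := stepQ 2928 Q2928 (allL N2928 (tt N5866 (iv1 F13492)) (tt N5853 (iv0 F13393)) (tt N1314 F6064) (tt N6277 D9191) (tt N1311 (iv4 D4160)) (tt N6278 D9192) (tt N6279 D9193) (tt N6245 (iv7 F14238)))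
theorem Q2930 : ∀ i, i < 2930 → P i := stepQ 2929 Q2929 (allL N2929 (tt N6280 D9194) (tt N6281 D9195) (tt N1315 F6065) (tt N2929 F6066) (tt N6279 (iv4 F14340)) (tt N1468 F6067) (tt N1311 (iv6 D4161)) (tt N6282 D9196))
theorem Q2931 : ∀ i, i < 2931 → P i := stepQ 2930 Q2930 (allL N2930 (tt N3130 (iv1 F12151)) (tt N6251 (iv0 F14260)) (tt N6283 D9197) (tt N1312 (iv3 D4163)) (tt N6284 D9198) (tt N1447 F7137) (tt N6285 D9199) (tt N1446 F7138))
theorem Q2932 : ∀ i, i < 2932 → P i := stepQ 2931 Q2931 (allL N2931 (tt N6286 D9200) (tt N6287 D9201) (tt N1462 F7139) (tt N6288 D9202) (tt N1312 (iv4 D4164)) (tt N6289 D9203) (tt N6290 D9204) (tt N1453 F7140))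
theorem Q2933 : ∀ i, i < 2933 → P i := stepQ 2932 Q2932 (allL N2932 (tt N3052 F291858) (tt N3071 (iv0 F292703)) (tt N1463 F7141) (tt N6285 (iv3 F14359)) (tt N6290 (iv4 F14372)) (tt N1344 (iv5 F292943)) (tt N1312 (iv6 D4166)) (tt N3069 (iv7 F292131)))
theorem Q2934 : ∀ i, i < 2934 → P i := stepQ 2933 Q2933 (allL N2933 (tt N3038 (iv1 F7305)) (tt N3045 F12164) (tt N6291 D9209) (tt N1313 (iv3 D4168)) (tt N6292 D9210) (tt N1441 F7142) (tt N6293 D9211) (tt N1457 F7143))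
theorem Q2935 : ∀ i, i < 2935 → P i := stepQ 2934 Q2934 (allL N2934 (tt N6287 (iv1 F14364)) (tt N6286 F14361) (tt N1453 F7144) (tt N6294 D9212) (tt N1313 (iv4 D4169)) (tt N6295 D9213) (tt N6296 D9214) (tt N1462 F7145))
theorem Q2936 : ∀ i, i < 2936 → P i := stepQ 2935 Q2935 (allL N2935 (tt N3140 F65749) (tt N6297 D9216) (tt N1454 F7146) (tt N6293 (iv3 F14389)) (tt N6296 (iv4 F14395)) (tt N2935 F7147) (tt N1313 (iv6 D4171)) (tt N6298 D9217))
theorem Q2937 : ∀ i, i < 2937 → P i := stepQ 2936 Q2936 (allL N2936 (tt N6245 (iv1 F14240)) (tt N1314 (iv0 D4172)) (tt N5866 (iv2 F13489)) (tt N6299 D9218) (tt N5855 F13399) (tt N6300 D9219) (tt N6301 D9220) (tt N5853 (iv7 F13400)))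
theorem Q2938 : ∀ i, i < 2938 → P i := stepQ 2937 Q2937 (allL N2937 (tt N1314 (iv1 D4173)) (tt N6245 (iv0 F14239)) (tt N5853 (iv2 F13391)) (tt N6302 D9221) (tt N2861 (iv4 F7185)) (tt N6303 D9222) (tt N6304 D9223) (tt N5866 (iv7 F13490)))
theorem Q2939 : ∀ i, i < 2939 → P i := stepQ 2938 Q2938 (allL N2938 (tt N6305 D9224) (tt N6284 (iv0 F14356)) (tt N6306 D9225) (tt N1314 (iv3 D4174)) (tt N1318 F6070) (tt N6307 D9226) (tt N6308 D9227) (tt N2838 (iv7 F6071)))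
theorem Q2940 : ∀ i, i < 2940 → P i := stepQ 2939 Q2939 (allL N2939 (tt N3271 (iv1 F7319)) (tt N3275 (iv0 F7327)) (tt N6278 (iv2 F14338)) (tt N6307 (iv3 F14422)) (tt N6309 D9228) (tt N1314 (iv5 D4175)) (tt N6310 D9229) (tt N6311 D9230))
theorem Q2941 : ∀ i, i < 2941 → P i := stepQ 2940 Q2940 (allL N2940 (tt N6312 D9231) (tt N6313 D9232) (tt N6279 (iv2 F14339)) (tt N6308 (iv3 F14424)) (tt N1315 F6072) (tt N6314 D9233) (tt N1314 (iv6 D4176)) (tt N6315 D9234))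
theorem Q2942 : ∀ i, i < 2942 → P i := stepQ 2941 Q2941 (allL N2941 (tt N5853 (iv1 F13394)) (tt N5866 (iv0 F13491)) (tt N6245 (iv2 F14237)) (tt N2838 F6073) (tt N1316 F6074) (tt N6311 (iv5 F14429)) (tt N6316 D9235) (tt N1314 (iv7 D4177)))
theorem Q2943 : ∀ i, i < 2943 → P i := stepQ 2942 Q2942 (allL N2942 (tt N6282 (iv1 F14347)) (tt N1315 (iv0 D4178)) (tt N6280 (iv2 F63510)) (tt N6317 D9237) (tt N6318 D9238) (tt N6319 D9239) (tt N6320 D9240) (tt N6281 F63509))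
theorem Q2944 : ∀ i, i < 2944 → P i := stepQ 2943 Q2943 (allL N2943 (tt N1315 (iv1 D4179)) (tt N6282 F14346) (tt N6281 F63503) (tt N6321 D9242) (tt N6322 D9243) (tt N6323 D9244) (tt N6324 D9245) (tt N6280 (iv7 F63511)))
theorem Q2945 : ∀ i, i < 2945 → P i := stepQ 2944 Q2944 (allL N2944 (tt N6281 (iv1 F14341)) (tt N6280 F14345) (tt N6282 (iv2 F14342)) (tt N1322 F6075) (tt N6315 (iv4 F14430)) (tt N1483 F6076) (tt N6325 D9246) (tt N1315 (iv7 D4180)))
theorem Q2946 : ∀ i, i < 2946 → P i := stepQ 2945 Q2945 (allL N2945 (tt N6326 D9247) (tt N6327 D9248) (tt N6246 (iv2 F14241)) (tt N1323 F6077) (tt N6316 (iv4 F14432)) (tt N3349 (iv5 F290968)) (tt N1316 (iv6 D4181)) (tt N6325 (iv7 F14436)))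
theorem Q2947 : ∀ i, i < 2947 → P i := stepQ 2946 Q2946 (allL N2946 (tt N1440 (iv1 F6078)) (tt N1317 (iv0 D4182)) (tt N1486 (iv2 F7222)) (tt N6328 D9250) (tt N6329 D9251) (tt N6330 D9252) (tt N2921 (iv6 F7223)) (tt N1485 F7221))
theorem Q2948 : ∀ i, i < 2948 → P i := stepQ 2947 Q2947 (allL N2947 (tt N6271 (iv1 F14325)) (tt N6250 (iv0 F14255)) (tt N6247 (iv2 F14243)) (tt N1324 F6080) (tt N6331 D9253) (tt N1317 (iv5 D4184)) (tt N3349 (iv6 F290969)) (tt N1487 F6081))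
theorem Q2949 : ∀ i, i < 2949 → P i := stepQ 2948 Q2948 (allL N2948 (tt N2837 (iv1 F6088)) (tt N2836 F6086) (tt N1318 (iv2 D4187)) (tt N2948 F6083) (tt N6306 (iv4 F14418)) (tt N1327 F6084) (tt N6332 D9254) (tt N2835 F6085))
theorem Q2950 : ∀ i, i < 2950 → P i := stepQ 2949 Q2949 (allL N2949 (tt N6333 D9255) (tt N6334 D9256) (tt N6332 (iv2 F14452)) (tt N1319 F6089) (tt N6308 (iv4 F14425)) (tt N3362 F291347) (tt N1318 (iv6 D4188)) (tt N6335 D9258))
theorem Q2951 : ∀ i, i < 2951 → P i := stepQ 2950 Q2950 (allL N2950 (tt N2952 (iv1 F6095)) (tt N1319 (iv0 D4189)) (tt N2950 F30661) (tt N6336 D9260) (tt N2840 (iv4 F15292)) (tt N6337 D9262) (tt N6133 (iv6 F13929)) (tt N2951 F30662))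
theorem Q2952 : ∀ i, i < 2952 → P i := stepQ 2951 Q2951 (allL N2951 (tt N1319 (iv1 D4190)) (tt N2952 F6096) (tt N2951 F30658) (tt N6338 D9264) (tt N2841 F15266) (tt N3144 F290845) (tt N3319 (iv6 F291315)) (tt N2950 (iv7 F30662)))
theorem Q2953 : ∀ i, i < 2953 → P i := stepQ 2952 Q2952 (allL N2952 (tt N2951 (iv1 F6096)) (tt N2950 F6095) (tt N2952 F6092) (tt N6335 (iv3 F14456)) (tt N1322 F6093) (tt N1509 (iv5 F291110)) (tt N2842 F6094) (tt N1319 (iv7 D4192)))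
theorem Q2954 : ∀ i, i < 2954 → P i := stepQ 2953 Q2953 (allL N2953 (tt N6339 D9278) (tt N3179 F63153) (tt N6340 D9280) (tt N1320 (iv3 D4194)) (tt N6341 D9281) (tt N6342 D9282) (tt N6343 D9283) (tt N2957 F16069))
theorem Q2955 : ∀ i, i < 2955 → P i := stepQ 2954 Q2954 (allL N2954 (tt N2961 F16064) (tt N1323 F16065) (tt N2954 F16066) (tt N6344 D9287) (tt N1320 (iv4 D4195)) (tt N6345 D9288) (tt N2959 F16067) (tt N2958 F16068))
theorem Q2956 : ∀ i, i < 2956 → P i := stepQ 2955 Q2955 (allL N2955 (tt N6346 D9291) (tt N3079 (iv0 F292950)) (tt N2955 F16072) (tt N6342 (iv3 F14476)) (tt N6347 D9293) (tt N1320 (iv5 D4196)) (tt N3018 F292745) (tt N2959 F16073))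
theorem Q2957 : ∀ i, i < 2957 → P i := stepQ 2956 Q2956 (allL N2956 (tt N3144 (iv1 F14860)) (tt N6337 F291108) (tt N2956 F16070) (tt N6343 (iv3 F14477)) (tt N2959 F16071) (tt N3019 F291109) (tt N1320 (iv6 D4197)) (tt N6347 (iv7 F15425)))
theorem Q2958 : ∀ i, i < 2958 → P i := stepQ 2957 Q2957 (allL N2957 (tt N3129 F63185) (tt N6348 D9301) (tt N6349 D9302) (tt N1321 (iv3 D4199)) (tt N6350 D9303) (tt N6351 D9304) (tt N6352 D9305) (tt N2953 (iv7 F16069)))
theorem Q2959 : ∀ i, i < 2959 → P i := stepQ 2958 Q2958 (allL N2958 (tt N1323 (iv1 F16060)) (tt N2961 (iv0 F16061)) (tt N2958 F16056) (tt N6353 D9306) (tt N1321 (iv4 D4200)) (tt N3097 (iv5 F291411)) (tt N3016 (iv6 F291412)) (tt N2954 (iv7 F16068)))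
theorem Q2960 : ∀ i, i < 2960 → P i := stepQ 2959 Q2959 (allL N2959 (tt N3079 (iv1 F292951)) (tt N6346 F14489) (tt N2959 F16057) (tt N6351 (iv3 F14491)) (tt N2956 (iv4 F16071)) (tt N1321 (iv5 D4201)) (tt N2954 (iv6 F16067)) (tt N2955 (iv7 F16073)))
theorem Q2961 : ∀ i, i < 2961 → P i := stepQ 2960 Q2960 (allL N2960 (tt N3077 F291860) (tt N1379 F291861) (tt N2960 F16052) (tt N6352 (iv3 F14492)) (tt N3016 (iv4 F293301)) (tt N6354 D9312) (tt N1321 (iv6 D4202)) (tt N3075 F291863))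
theorem Q2962 : ∀ i, i < 2962 → P i := stepQ 2961 Q2961 (allL N2961 (tt N2958 F16061) (tt N2954 (iv0 F16064)) (tt N2961 F6099) (tt N6325 (iv3 F14435)) (tt N2842 F6100) (tt N1504 F291410) (tt N1322 (iv6 D4203)) (tt N1323 F6101))
theorem Q2963 : ∀ i, i < 2963 → P i := stepQ 2962 Q2962 (allL N2962 (tt N5676 F12972) (tt N6060 (iv0 F13807)) (tt N2833 (iv2 F12326)) (tt N5384 (iv3 F12352)) (tt N1325 (iv4 D4209)) (tt N6355 D9328) (tt N6230 (iv6 F14166)) (tt N2830 F12322))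
theorem Q2964 : ∀ i, i < 2964 → P i := stepQ 2963 Q2963 (allL N2963 (tt N2971 F12306) (tt N1361 F12307) (tt N2970 (iv2 F12274)) (tt N1326 (iv3 D4213)) (tt N6147 (iv4 F13950)) (tt N3339 (iv5 F7421)) (tt N6356 D9329) (tt N2832 (iv7 F12275)))
theorem Q2965 : ∀ i, i < 2965 → P i := stepQ 2964 Q2964 (allL N2964 (tt N6060 F13808) (tt N5676 (iv0 F12971)) (tt N2830 F12323) (tt N1857 F6113) (tt N1326 (iv4 D4214)) (tt N4200 F14037) (tt N6357 D9330) (tt N2833 (iv7 F12325)))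
theorem Q2966 : ∀ i, i < 2966 → P i := stepQ 2965 Q2965 (allL N2965 (tt N1352 F17519) (tt N3024 (iv0 F17525)) (tt N2831 F12324) (tt N6356 (iv3 F14517)) (tt N6357 (iv4 F14520)) (tt N6358 D9332) (tt N1326 (iv6 D4216)) (tt N3023 (iv7 F17530)))
theorem Q2967 : ∀ i, i < 2967 → P i := stepQ 2966 Q2966 (allL N2966 (tt N2565 F6116) (tt N2564 (iv0 F6117)) (tt N1328 F6114) (tt N2559 (iv3 F6118)) (tt N1327 (iv4 D4217)) (tt N5755 (iv5 F13140)) (tt N5715 (iv6 F13029)) (tt N2566 F6115))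
theorem Q2968 : ∀ i, i < 2968 → P i := stepQ 2967 Q2967 (allL N2967 (tt N2895 (iv1 F6122)) (tt N2894 F6123) (tt N1329 F6119) (tt N2967 F6120) (tt N5715 (iv4 F13028)) (tt N6359 D9333) (tt N1327 (iv6 D4218)) (tt N2858 F6121))
theorem Q2969 : ∀ i, i < 2969 → P i := stepQ 2968 Q2968 (allL N2968 (tt N2858 (iv1 F6124)) (tt N1329 (iv0 D4219)) (tt N2895 (iv2 F12335)) (tt N5944 F13596) (tt N6360 D9334) (tt N6361 D9335) (tt N3020 F17527) (tt N2894 F12334))
theorem Q2970 : ∀ i, i < 2970 → P i := stepQ 2969 Q2969 (allL N2969 (tt N6362 D9336) (tt N6358 (iv0 F14524)) (tt N6359 (iv2 F14526)) (tt N1330 F6126) (tt N6363 D9337) (tt N1329 (iv5 D4221)) (tt N3362 F291931) (tt N2896 F6127))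
theorem Q2971 : ∀ i, i < 2971 → P i := stepQ 2970 Q2970 (allL N2970 (tt N1331 (iv1 D4230)) (tt N3035 (iv0 F12190)) (tt N2963 F12274) (tt N2490 (iv3 F6141)) (tt N5533 (iv4 F12772)) (tt N6364 D9339) (tt N6365 D9340) (tt N3034 F12304))
theorem Q2972 : ∀ i, i < 2972 → P i := stepQ 2971 Q2971 (allL N2971 (tt N3034 F12125) (tt N2963 (iv0 F12306)) (tt N1331 (iv2 D4231)) (tt N3042 F12127) (tt N2476 F12128) (tt N6174 (iv5 F14101)) (tt N6366 D9341) (tt N3035 F12129))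
theorem Q2973 : ∀ i, i < 2973 → P i := stepQ 2972 Q2972 (allL N2972 (tt N6120 (iv1 F14092)) (tt N6172 (iv0 F14091)) (tt N6174 F14104) (tt N1333 F6142) (tt N3134 F6923) (tt N1331 (iv5 D4232)) (tt N6367 D9342) (tt N3036 F12224))
theorem Q2974 : ∀ i, i < 2974 → P i := stepQ 2973 Q2973 (allL N2973 (tt N6231 (iv1 F16923)) (tt N6368 D9344) (tt N6366 (iv2 F14549)) (tt N1334 F6143) (tt N6061 (iv4 F13812)) (tt N6369 D9345) (tt N1331 (iv6 D4233)) (tt N3080 (iv7 F16831)))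
theorem Q2975 : ∀ i, i < 2975 → P i := stepQ 2974 Q2974 (allL N2974 (tt N2912 (iv1 F6295)) (tt N2909 (iv0 F6301)) (tt N2853 F6146) (tt N1332 (iv3 D4236)) (tt N6060 (iv4 F13804)) (tt N3198 F6913) (tt N6370 D9347) (tt N2908 F12146))
theorem Q2976 : ∀ i, i < 2976 → P i := stepQ 2975 Q2975 (allL N2975 (tt N6291 (iv1 F14384)) (tt N1457 F6914) (tt N3045 (iv2 F12158)) (tt N3198 F6915) (tt N3103 F6916) (tt N1332 (iv5 D4237)) (tt N6371 D9348) (tt N3038 (iv7 F12160)))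
theorem Q2977 : ∀ i, i < 2977 → P i := stepQ 2976 Q2976 (allL N2976 (tt N6372 D9349) (tt N2923 F14334) (tt N3046 (iv2 F12238)) (tt N6370 (iv3 F14561)) (tt N1334 F6148) (tt N6373 D9350) (tt N1332 (iv6 D4238)) (tt N3083 (iv7 F16835)))
theorem Q2978 : ∀ i, i < 2978 → P i := stepQ 2977 Q2977 (allL N2977 (tt N6292 (iv1 F14388)) (tt N6374 D9352) (tt N3047 F12226) (tt N6375 D9353) (tt N1333 (iv4 D4242)) (tt N6376 D9354) (tt N6377 D9355) (tt N3039 F12225))
theorem Q2979 : ∀ i, i < 2979 → P i := stepQ 2978 Q2978 (allL N2978 (tt N6378 D9356) (tt N6338 F35783) (tt N3048 (iv2 F12240)) (tt N6367 (iv3 F14552)) (tt N6377 (iv4 F14577)) (tt N6379 D9358) (tt N1333 (iv6 D4243)) (tt N6380 D9359))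
theorem Q2980 : ∀ i, i < 2980 → P i := stepQ 2979 Q2979 (allL N2979 (tt N1374 F7068) (tt N1334 (iv0 D4245)) (tt N1376 F7069) (tt N2979 F7070) (tt N2979 F7071) (tt N3234 F292194) (tt N2992 F7072) (tt N1369 F7073))
theorem Q2981 : ∀ i, i < 2981 → P i := stepQ 2980 Q2980 (allL N2980 (tt N6381 D9361) (tt N1346 F16823) (tt N3049 (iv2 F12239)) (tt N6369 (iv3 F14556)) (tt N6382 D9363) (tt N1334 (iv5 D4247)) (tt N6379 (iv6 F14578)) (tt N3084 (iv7 F16836)))
theorem Q2982 : ∀ i, i < 2982 → P i := stepQ 2981 Q2981 (allL N2981 (tt N2829 (iv1 F12194)) (tt N3041 (iv0 F12189)) (tt N1335 (iv2 D4251)) (tt N3035 (iv3 F12187)) (tt N2914 F12186) (tt N5852 (iv5 F13388)) (tt N2860 (iv6 F16743)) (tt N3042 (iv7 F12188)))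
theorem Q2983 : ∀ i, i < 2983 → P i := stepQ 2982 Q2982 (allL N2982 (tt N2906 (iv1 F6286)) (tt N2918 (iv0 F6297)) (tt N2914 (iv2 F12182)) (tt N2852 F6158) (tt N1335 (iv4 D4252)) (tt N3207 (iv5 F6937)) (tt N3085 (iv6 F16737)) (tt N2913 (iv7 F12181)))
theorem Q2984 : ∀ i, i < 2984 → P i := stepQ 2983 Q2983 (allL N2983 (tt N5855 F13398) (tt N2861 F6919) (tt N5852 F13389) (tt N1337 F6163) (tt N3213 F6920) (tt N1335 (iv5 D4253)) (tt N6383 D9367) (tt N3043 (iv7 F12237)))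
theorem Q2985 : ∀ i, i < 2985 → P i := stepQ 2984 Q2984 (allL N2984 (tt N1457 F7307) (tt N6291 F14385) (tt N3038 F12161) (tt N1413 F6925) (tt N3104 F6926) (tt N1336 (iv5 D4255)) (tt N6384 D9372) (tt N3045 (iv7 F12154)))
theorem Q2986 : ∀ i, i < 2986 → P i := stepQ 2985 Q2985 (allL N2985 (tt N6374 (iv1 F14574)) (tt N6292 (iv0 F14387)) (tt N3039 F12231) (tt N6385 D9377) (tt N1337 (iv4 D4257)) (tt N6386 D9378) (tt N6387 D9379) (tt N3047 (iv7 F12233)))
theorem Q2987 : ∀ i, i < 2987 → P i := stepQ 2986 Q2986 (allL N2986 (tt N6129 F35685) (tt N6388 D9381) (tt N3040 F12232) (tt N6383 (iv3 F14593)) (tt N6387 (iv4 F14602)) (tt N2998 (iv5 F16782)) (tt N1337 (iv6 D4258)) (tt N6389 D9383))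
theorem Q2988 : ∀ i, i < 2988 → P i := stepQ 2987 Q2987 (allL N2987 (tt N3060 (iv1 F6336)) (tt N3059 F6335) (tt N1342 F6168) (tt N6390 D9397) (tt N1338 (iv4 D4263)) (tt N6391 D9398) (tt N6392 D9399) (tt N3050 (iv7 F6318)))
theorem Q2989 : ∀ i, i < 2989 → P i := stepQ 2988 Q2988 (allL N2988 (tt N6393 D9400) (tt N6394 D9401) (tt N1343 F6169) (tt N2988 F6170) (tt N6392 (iv4 F14617)) (tt N6395 D9402) (tt N1338 (iv6 D4264)) (tt N6396 D9403))
theorem Q2990 : ∀ i, i < 2990 → P i := stepQ 2989 Q2989 (allL N2989 (tt N1347 (iv1 F6177)) (tt N1339 (iv0 D4265)) (tt N1344 (iv2 F14719)) (tt N6397 D9405) (tt N6140 (iv4 F13947)) (tt N1463 (iv5 F292701)) (tt N1402 (iv6 F16838)) (tt N1345 (iv7 F14725)))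
theorem Q2991 : ∀ i, i < 2991 → P i := stepQ 2990 Q2990 (allL N2990 (tt N1339 (iv1 D4266)) (tt N1347 F6171) (tt N1345 F14726) (tt N6398 D9409) (tt N6399 D9410) (tt N3069 (iv5 F16863)) (tt N2990 F14714) (tt N1344 F14727))
theorem Q2992 : ∀ i, i < 2992 → P i := stepQ 2991 Q2991 (allL N2991 (tt N3049 F16824) (tt N3084 F7278) (tt N1346 F6172) (tt N2991 F6173) (tt N6400 D9414) (tt N1339 (iv5 D4267)) (tt N6395 (iv6 F14621)) (tt N6381 (iv7 F16854)))
theorem Q2993 : ∀ i, i < 2993 → P i := stepQ 2992 Q2992 (allL N2992 (tt N1345 (iv1 F6178)) (tt N1344 F6179) (tt N1347 F6174) (tt N2992 F6175) (tt N2992 F6176) (tt N6381 (iv5 F16853)) (tt N2979 (iv6 F7072)) (tt N1339 (iv7 D4268)))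
theorem Q2994 : ∀ i, i < 2994 → P i := stepQ 2993 Q2993 (allL N2993 (tt N2884 (iv1 F14084)) (tt N6364 (iv0 F14545)) (tt N5785 (iv2 F13244)) (tt N1340 (iv3 D4270)) (tt N3325 F7393) (tt N1383 F7255) (tt N6401 D9416) (tt N3053 F7256))
theorem Q2995 : ∀ i, i < 2995 → P i := stepQ 2994 Q2994 (allL N2994 (tt N3261 (iv1 F7312)) (tt N6402 D9417) (tt N3057 F7257) (tt N6403 D9418) (tt N1340 (iv4 D4271)) (tt N6404 D9419) (tt N6405 D9420) (tt N3054 F7258))
theorem Q2996 : ∀ i, i < 2996 → P i := stepQ 2995 Q2995 (allL N2995 (tt N6406 D9421) (tt N3349 F66488) (tt N3058 F7260) (tt N6401 (iv3 F14648)) (tt N6405 (iv4 F14650)) (tt N6407 D9423) (tt N1340 (iv6 D4273)) (tt N6408 D9424))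
theorem Q2997 : ∀ i, i < 2997 → P i := stepQ 2996 Q2996 (allL N2996 (tt N3270 (iv1 F7318)) (tt N3274 F12316) (tt N6157 (iv2 F13989)) (tt N1341 (iv3 D4275)) (tt N6409 D9425) (tt N1386 F7247) (tt N6410 D9426) (tt N3056 F7248))
theorem Q2998 : ∀ i, i < 2998 → P i := stepQ 2997 Q2997 (allL N2997 (tt N6402 (iv1 F14649)) (tt N3261 (iv0 F7311)) (tt N3054 F7249) (tt N6411 D9427) (tt N1341 (iv4 D4276)) (tt N6412 D9428) (tt N6413 D9429) (tt N3057 F7250))
theorem Q2999 : ∀ i, i < 2999 → P i := stepQ 2998 Q2998 (allL N2998 (tt N2897 F35605) (tt N6241 F35606) (tt N3055 F7251) (tt N6410 (iv3 F14656)) (tt N6413 (iv4 F14657)) (tt N2986 F16782) (tt N1341 (iv6 D4278)) (tt N6240 F35629))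
theorem Q3000 : ∀ i, i < 3000 → P i := stepQ 2999 Q2999 (allL N2999 (tt N3050 (iv1 F6320)) (tt N1342 (iv0 D4279)) (tt N3060 (iv2 F7273)) (tt N6414 D9434) (tt N3082 F7274) (tt N6415 D9435) (tt N6416 D9436) (tt N3059 F7275))
theorem Q3001 : ∀ i, i < 3001 → P i := stepQ 3000 Q3000 (allL N3000 (tt N1342 (iv1 D4280)) (tt N3050 F6319) (tt N3059 (iv2 F7262)) (tt N6417 D9437) (tt N3086 F7261) (tt N6418 D9438) (tt N6419 D9439) (tt N3060 (iv7 F7263)))
theorem Q3002 : ∀ i, i < 3002 → P i := stepQ 3001 Q3001 (allL N3001 (tt N6420 D9440) (tt N6421 D9441) (tt N6391 (iv2 F14614)) (tt N3061 (iv3 F6337)) (tt N6422 D9442) (tt N1342 (iv5 D4281)) (tt N6423 D9443) (tt N3061 (iv7 F6338)))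
theorem Q3003 : ∀ i, i < 3003 → P i := stepQ 3002 Q3002 (allL N3002 (tt N6424 D9444) (tt N6425 D9445) (tt N6392 (iv2 F14616)) (tt N3062 (iv3 F6339)) (tt N1343 F6182) (tt N6426 D9446) (tt N1342 (iv6 D4282)) (tt N6427 D9447))
theorem Q3004 : ∀ i, i < 3004 → P i := stepQ 3003 Q3003 (allL N3003 (tt N6396 (iv1 F14626)) (tt N1343 (iv0 D4283)) (tt N6393 F35740) (tt N6428 D9449) (tt N6429 D9450) (tt N6430 D9451) (tt N6431 D9452) (tt N6394 (iv7 F35752)))
theorem Q3005 : ∀ i, i < 3005 → P i := stepQ 3004 Q3004 (allL N3004 (tt N1343 (iv1 D4284)) (tt N6396 F14625) (tt N6394 (iv2 F35751)) (tt N6432 D9454) (tt N6433 D9455) (tt N6434 D9456) (tt N6435 D9457) (tt N6393 F35746))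
theorem Q3006 : ∀ i, i < 3006 → P i := stepQ 3005 Q3005 (allL N3005 (tt N6436 D9458) (tt N1474 (iv0 F292297)) (tt N6395 (iv2 F14619)) (tt N1350 F6183) (tt N6437 D9460) (tt N1343 (iv5 D4285)) (tt N1346 F6184) (tt N3332 F291442))
theorem Q3007 : ∀ i, i < 3007 → P i := stepQ 3006 Q3006 (allL N3006 (tt N6394 (iv1 F14618)) (tt N6393 F14624) (tt N6396 (iv2 F14622)) (tt N1351 F6185) (tt N6427 (iv4 F14672)) (tt N3332 (iv5 F291178)) (tt N3066 (iv6 F6344)) (tt N1343 (iv7 D4286)))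
theorem Q3008 : ∀ i, i < 3008 → P i := stepQ 3007 Q3007 (allL N3007 (tt N6438 D9468) (tt N6365 (iv0 F17524)) (tt N6439 D9470) (tt N1344 (iv3 D4288)) (tt N6440 D9471) (tt N6285 (iv5 F292878)) (tt N3109 (iv6 F16866)) (tt N6398 (iv7 F14728)))
theorem Q3009 : ∀ i, i < 3009 → P i := stepQ 3008 Q3008 (allL N3008 (tt N6441 D9475) (tt N6248 (iv0 F17400)) (tt N6140 (iv2 F14721)) (tt N6442 D9477) (tt N1344 (iv4 D4289)) (tt N6443 D9478) (tt N3110 (iv6 F16867)) (tt N6399 (iv7 F14730)))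
theorem Q3010 : ∀ i, i < 3010 → P i := stepQ 3009 Q3009 (allL N3009 (tt N5379 (iv1 F17516)) (tt N6444 D9489) (tt N6445 D9490) (tt N1345 (iv3 D4293)) (tt N6446 D9491) (tt N6447 D9492) (tt N3009 F14703) (tt N6397 (iv7 F14720)))
theorem Q3011 : ∀ i, i < 3011 → P i := stepQ 3010 Q3010 (allL N3010 (tt N6248 (iv1 F17401)) (tt N6441 F14695) (tt N6399 (iv2 F14729)) (tt N6137 (iv3 F13936)) (tt N1345 (iv4 D4294)) (tt N6448 D9493) (tt N3010 F14704) (tt N6140 (iv7 F14722)))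
theorem Q3012 : ∀ i, i < 3012 → P i := stepQ 3011 Q3011 (allL N3011 (tt N3071 (iv1 F16840)) (tt N3052 F16827) (tt N3069 (iv2 F16862)) (tt N6447 (iv3 F14754)) (tt N6449 D9494) (tt N1345 (iv5 D4295)) (tt N6298 F291846) (tt N1463 (iv7 F292702)))
theorem Q3013 : ∀ i, i < 3013 → P i := stepQ 3012 Q3012 (allL N3012 (tt N1346 (iv1 D4298)) (tt N6381 (iv0 F16851)) (tt N3084 F6934) (tt N6450 D9499) (tt N6451 D9500) (tt N1374 F16828) (tt N6452 D9501) (tt N3049 F16829))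
theorem Q3014 : ∀ i, i < 3014 → P i := stepQ 3013 Q3013 (allL N3013 (tt N6453 D9502) (tt N6454 D9503) (tt N6400 (iv2 F14631)) (tt N6455 D9504) (tt N1346 (iv4 D4299)) (tt N6456 D9505) (tt N6437 (iv6 F14675)) (tt N6457 D9506))
theorem Q3015 : ∀ i, i < 3015 → P i := stepQ 3014 Q3014 (allL N3014 (tt N3084 F7277) (tt N3049 F16830) (tt N6381 (iv2 F16852)) (tt N1356 F6188) (tt N6457 (iv4 F14760)) (tt N1347 F6189) (tt N6458 D9507) (tt N1346 (iv7 D4300)))
theorem Q3016 : ∀ i, i < 3016 → P i := stepQ 3015 Q3015 (allL N3015 (tt N6198 F66047) (tt N3341 F66048) (tt N6197 F66049) (tt N1348 (iv3 D4302)) (tt N6459 D9517) (tt N6460 D9518) (tt N3026 F292977) (tt N3017 F14841))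
theorem Q3017 : ∀ i, i < 3017 → P i := stepQ 3016 Q3016 (allL N3016 (tt N6461 D9527) (tt N3142 (iv0 F292135)) (tt N3016 F14844) (tt N6460 (iv3 F14772)) (tt N2960 F293301) (tt N1348 (iv5 D4304)) (tt N2958 F291412) (tt N3018 F14845))
theorem Q3018 : ∀ i, i < 3018 → P i := stepQ 3017 Q3017 (allL N3017 (tt N2883 (iv1 F66043)) (tt N6462 D9535) (tt N6463 D9536) (tt N1349 (iv3 D4307)) (tt N6464 D9537) (tt N6465 D9538) (tt N6466 D9539) (tt N3015 (iv7 F14841)))
theorem Q3019 : ∀ i, i < 3019 → P i := stepQ 3018 Q3018 (allL N3018 (tt N3142 (iv1 F292136)) (tt N6461 (iv0 F14783)) (tt N3018 F14838) (tt N6465 (iv3 F14819)) (tt N3075 (iv4 F293302)) (tt N1349 (iv5 D4309)) (tt N2955 (iv6 F292745)) (tt N3016 (iv7 F14845)))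
theorem Q3020 : ∀ i, i < 3020 → P i := stepQ 3019 Q3019 (allL N3019 (tt N1516 F290748) (tt N3348 (iv0 F14835)) (tt N3019 F14834) (tt N6466 (iv3 F14820)) (tt N3333 (iv4 F14801)) (tt N2956 (iv5 F291109)) (tt N1349 (iv6 D4310)) (tt N3363 F290749))
theorem Q3021 : ∀ i, i < 3021 → P i := stepQ 3020 Q3020 (allL N3020 (tt N3024 (iv1 F6212)) (tt N1352 (iv0 D4315)) (tt N3023 (iv2 F17529)) (tt N6444 (iv3 F17542)) (tt N6467 D9562) (tt N6362 (iv5 F17526)) (tt N2968 (iv6 F17527)) (tt N2831 (iv7 F17528)))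
theorem Q3022 : ∀ i, i < 3022 → P i := stepQ 3021 Q3021 (allL N3021 (tt N3023 (iv1 F6213)) (tt N2831 (iv0 F17513)) (tt N1352 (iv2 D4317)) (tt N3021 F6199) (tt N6468 D9570) (tt N3162 F292526) (tt N2878 F17484) (tt N3024 (iv7 F6211)))
theorem Q3023 : ∀ i, i < 3023 → P i := stepQ 3022 Q3022 (allL N3022 (tt N6469 D9572) (tt N6254 (iv0 F17517)) (tt N6468 (iv2 F14923)) (tt N1876 F6200) (tt N1352 (iv4 D4318)) (tt N6470 D9574) (tt N2676 F6201) (tt N2594 F6202))
theorem Q3024 : ∀ i, i < 3024 → P i := stepQ 3023 Q3023 (allL N3023 (tt N1353 (iv1 D4323)) (tt N3021 F6213) (tt N3020 F17529) (tt N6438 (iv3 F27366)) (tt N6471 D9591) (tt N6233 (iv5 F17522)) (tt N2895 (iv6 F17523)) (tt N2965 F17530))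
theorem Q3025 : ∀ i, i < 3025 → P i := stepQ 3024 Q3024 (allL N3024 (tt N2965 F17525) (tt N3020 F6212) (tt N1353 (iv2 D4324)) (tt N3024 F6209) (tt N5623 (iv4 F12884)) (tt N6472 D9594) (tt N3024 F6210) (tt N3021 F6211))
theorem Q3026 : ∀ i, i < 3026 → P i := stepQ 3025 Q3025 (allL N3025 (tt N6361 (iv1 F17547)) (tt N6115 (iv0 F17548)) (tt N6472 (iv2 F14946)) (tt N1354 F6215) (tt N6473 D9597) (tt N1353 (iv5 D4325)) (tt N3139 (iv6 F294113)) (tt N1436 (iv7 F293293)))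
theorem Q3027 : ∀ i, i < 3027 → P i := stepQ 3026 Q3026 (allL N3026 (tt N6474 D9604) (tt N6475 D9605) (tt N6476 D9606) (tt N1355 (iv3 D4328)) (tt N6455 (iv4 F14759)) (tt N3096 (iv5 F292975)) (tt N3015 (iv6 F292977)) (tt N6477 D9608))
theorem Q3028 : ∀ i, i < 3028 → P i := stepQ 3027 Q3027 (allL N3027 (tt N1519 (iv1 F6230)) (tt N2901 (iv0 F291735)) (tt N3027 F6226) (tt N6477 (iv3 F14969)) (tt N1356 F6227) (tt N1381 F6228) (tt N3363 (iv6 F291728)) (tt N1355 (iv7 D4330)))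
theorem Q3029 : ∀ i, i < 3029 → P i := stepQ 3028 Q3028 (allL N3028 (tt N1511 (iv1 F293101)) (tt N1510 F292743) (tt N3028 F6231) (tt N6458 (iv3 F14761)) (tt N3363 F292744) (tt N3079 (iv5 F6359)) (tt N1356 (iv6 D4331)) (tt N3333 (iv7 F292949)))
theorem Q3030 : ∀ i, i < 3030 → P i := stepQ 3029 Q3029 (allL N3029 (tt N5382 (iv1 F17487)) (tt N5374 (iv0 F17488)) (tt N5380 (iv2 F17454)) (tt N1357 (iv3 D4332)) (tt N1358 F6232) (tt N6478 D9616) (tt N2678 F6233) (tt N2602 F6234))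
theorem Q3031 : ∀ i, i < 3031 → P i := stepQ 3030 Q3030 (allL N3030 (tt N2793 F6237) (tt N2795 F6238) (tt N2601 F6235) (tt N6478 (iv3 F14986)) (tt N6479 D9617) (tt N1357 (iv5 D4333)) (tt N6480 D9618) (tt N2603 F6236))
theorem Q3032 : ∀ i, i < 3032 → P i := stepQ 3031 Q3031 (allL N3031 (tt N1359 (iv1 D4341)) (tt N2919 F17457) (tt N2921 (iv2 F17501)) (tt N6481 D9645) (tt N6482 D9646) (tt N3307 (iv5 F17502)) (tt N1486 (iv6 F17503)) (tt N2907 (iv7 F17504)))
theorem Q3033 : ∀ i, i < 3033 → P i := stepQ 3032 Q3032 (allL N3032 (tt N2907 F17461) (tt N2921 F17462) (tt N1359 (iv2 D4342)) (tt N3032 F6247) (tt N5641 (iv4 F12904)) (tt N6483 D9649) (tt N3032 F6248) (tt N2919 F17463))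
theorem Q3034 : ∀ i, i < 3034 → P i := stepQ 3033 Q3033 (allL N3033 (tt N6330 (iv1 F17506)) (tt N2927 (iv0 F17505)) (tt N6483 (iv2 F15018)) (tt N1360 F6253) (tt N6484 D9652) (tt N1359 (iv5 D4343)) (tt N3095 F291698) (tt N1400 F291699))
theorem Q3035 : ∀ i, i < 3035 → P i := stepQ 3034 Q3034 (allL N3034 (tt N1361 (iv1 D4353)) (tt N2971 (iv0 F12125)) (tt N2832 F12305) (tt N3041 (iv3 F6311)) (tt N6148 F13957) (tt N6199 (iv5 F14148)) (tt N6368 F14554) (tt N2970 (iv7 F12304)))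
theorem Q3036 : ∀ i, i < 3036 → P i := stepQ 3035 Q3035 (allL N3035 (tt N2970 F12190) (tt N2832 (iv0 F12244)) (tt N1361 (iv2 D4354)) (tt N2981 F12187) (tt N2808 F12175) (tt N6485 D9659) (tt N2869 (iv6 F16751)) (tt N2971 (iv7 F12129)))
theorem Q3037 : ∀ i, i < 3037 → P i := stepQ 3036 Q3036 (allL N3036 (tt N2872 (iv1 F14093)) (tt N5851 (iv0 F13387)) (tt N6485 (iv2 F15038)) (tt N1363 F6273) (tt N3181 F7284) (tt N1361 (iv5 D4355)) (tt N6486 D9661) (tt N2972 (iv7 F12224)))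
theorem Q3038 : ∀ i, i < 3038 → P i := stepQ 3037 Q3037 (allL N3037 (tt N1365 (iv1 F6280)) (tt N1362 (iv0 D4358)) (tt N2905 (iv2 F6277)) (tt N2909 F6278) (tt N2905 (iv4 F6292)) (tt N6487 D9666) (tt N6488 D9667) (tt N2922 F6279))
theorem Q3039 : ∀ i, i < 3039 → P i := stepQ 3038 Q3038 (allL N3038 (tt N3220 (iv1 F7306)) (tt N2933 F7305) (tt N2984 (iv2 F12161)) (tt N6251 (iv3 F14258)) (tt N3089 (iv4 F7304)) (tt N1362 (iv5 D4359)) (tt N6489 D9668) (tt N2975 F12160))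
theorem Q3040 : ∀ i, i < 3040 → P i := stepQ 3039 Q3039 (allL N3039 (tt N3222 F7285) (tt N6490 D9673) (tt N2985 (iv2 F12231)) (tt N6491 D9674) (tt N1363 (iv4 D4364)) (tt N6492 D9675) (tt N6493 D9676) (tt N2977 (iv7 F12225)))
theorem Q3041 : ∀ i, i < 3041 → P i := stepQ 3040 Q3040 (allL N3040 (tt N6494 D9677) (tt N6132 F35661) (tt N2986 (iv2 F12232)) (tt N6486 (iv3 F15047)) (tt N6493 (iv4 F15077)) (tt N3055 (iv5 F16837)) (tt N1363 (iv6 D4365)) (tt N6495 D9680))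
theorem Q3042 : ∀ i, i < 3042 → P i := stepQ 3041 Q3041 (allL N3041 (tt N2981 F12189) (tt N1364 (iv0 D4372)) (tt N2494 F12302) (tt N3034 F6311) (tt N2492 (iv4 F12294)) (tt N6496 D9694) (tt N5941 (iv6 F13592)) (tt N2490 F12303))
theorem Q3043 : ∀ i, i < 3043 → P i := stepQ 3042 Q3042 (allL N3042 (tt N2494 F12101) (tt N2490 (iv0 F12107)) (tt N1364 (iv2 D4374)) (tt N2971 (iv3 F12127)) (tt N2625 (iv4 F12099)) (tt N6158 (iv5 F13997)) (tt N6497 D9695) (tt N2981 F12188))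
theorem Q3044 : ∀ i, i < 3044 → P i := stepQ 3043 Q3043 (allL N3043 (tt N2720 F12195) (tt N2729 F12198) (tt N6158 F13998) (tt N1366 F6312) (tt N6286 (iv4 F14360)) (tt N1364 (iv5 D4375)) (tt N6498 D9696) (tt N2983 F12237))
theorem Q3045 : ∀ i, i < 3045 → P i := stepQ 3044 Q3044 (allL N3044 (tt N6499 D9697) (tt N5386 (iv0 F13381)) (tt N6497 (iv2 F15124)) (tt N1367 F6313) (tt N6260 (iv4 F14283)) (tt N6500 D9698) (tt N1364 (iv6 D4376)) (tt N3067 F12235))
theorem Q3046 : ∀ i, i < 3046 → P i := stepQ 3045 Q3045 (allL N3045 (tt N2933 (iv1 F12164)) (tt N3220 F7293) (tt N2975 F12158) (tt N1433 F7294) (tt N3090 F7295) (tt N1365 (iv5 D4377)) (tt N6501 D9699) (tt N2984 F12154))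
theorem Q3047 : ∀ i, i < 3047 → P i := stepQ 3046 Q3046 (allL N3046 (tt N3305 (iv1 F14566)) (tt N6272 (iv0 F14328)) (tt N2976 F12238) (tt N2844 F6315) (tt N1367 F6316) (tt N6502 D9700) (tt N1365 (iv6 D4378)) (tt N3068 F12216))
theorem Q3048 : ∀ i, i < 3048 → P i := stepQ 3047 Q3047 (allL N3047 (tt N6490 (iv1 F15069)) (tt N3222 (iv0 F7308)) (tt N2977 (iv2 F12226)) (tt N6503 D9701) (tt N1366 (iv4 D4379)) (tt N6504 D9702) (tt N6505 D9703) (tt N2985 F12233))
theorem Q3049 : ∀ i, i < 3049 → P i := stepQ 3048 Q3048 (allL N3048 (tt N6336 F35667) (tt N6506 D9705) (tt N2978 F12240) (tt N6498 (iv3 F15129)) (tt N6505 (iv4 F15142)) (tt N3301 (iv5 F290745)) (tt N1366 (iv6 D4380)) (tt N6507 D9707))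
theorem Q3050 : ∀ i, i < 3050 → P i := stepQ 3049 Q3049 (allL N3049 (tt N3014 (iv1 F16830)) (tt N2991 (iv0 F16824)) (tt N2980 F12239) (tt N6500 (iv3 F15133)) (tt N6508 D9710) (tt N1367 (iv5 D4383)) (tt N3301 F291099) (tt N3012 (iv7 F16829)))
theorem Q3051 : ∀ i, i < 3051 → P i := stepQ 3050 Q3050 (allL N3050 (tt N3000 (iv1 F6319)) (tt N2999 F6320) (tt N1372 F6317) (tt N6509 D9711) (tt N1368 (iv4 D4385)) (tt N6422 (iv5 F14669)) (tt N6510 D9712) (tt N2987 F6318))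
theorem Q3052 : ∀ i, i < 3052 → P i := stepQ 3051 Q3051 (allL N3051 (tt N6511 D9713) (tt N6512 D9714) (tt N1373 F6321) (tt N3051 F6322) (tt N6510 (iv4 F15158)) (tt N6513 D9715) (tt N1368 (iv6 D4386)) (tt N6514 D9716))
theorem Q3053 : ∀ i, i < 3053 → P i := stepQ 3052 Q3052 (allL N3052 (tt N3011 (iv1 F16827)) (tt N2932 (iv0 F291858)) (tt N1375 F6324) (tt N3052 F6325) (tt N6515 D9719) (tt N1369 (iv5 D4389)) (tt N6513 (iv6 F15162)) (tt N3234 (iv7 F291859)))
theorem Q3054 : ∀ i, i < 3054 → P i := stepQ 3053 Q3053 (allL N3053 (tt N3339 (iv1 F13247)) (tt N6199 F14150) (tt N6171 (iv2 F14079)) (tt N1370 (iv3 D4392)) (tt N3312 F7371) (tt N1393 F7052) (tt N6516 D9720) (tt N2993 (iv7 F7256)))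
theorem Q3055 : ∀ i, i < 3055 → P i := stepQ 3054 Q3054 (allL N3054 (tt N6517 D9721) (tt N6518 D9722) (tt N2997 (iv2 F7249)) (tt N6519 D9723) (tt N1370 (iv4 D4393)) (tt N6520 D9724) (tt N6521 D9725) (tt N2994 (iv7 F7258)))
theorem Q3056 : ∀ i, i < 3056 → P i := stepQ 3055 Q3055 (allL N3055 (tt N6236 F35616) (tt N2900 F35617) (tt N2998 (iv2 F7251)) (tt N6516 (iv3 F15173)) (tt N6521 (iv4 F15186)) (tt N3040 F16837) (tt N1370 (iv6 D4395)) (tt N6235 F35604))
theorem Q3057 : ∀ i, i < 3057 → P i := stepQ 3056 Q3056 (allL N3056 (tt N6496 (iv1 F15122)) (tt N2881 F12196) (tt N5849 (iv2 F13378)) (tt N1371 (iv3 D4397)) (tt N3252 (iv4 F7089)) (tt N1395 F7060) (tt N6522 D9730) (tt N2996 (iv7 F7248)))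
theorem Q3058 : ∀ i, i < 3058 → P i := stepQ 3057 Q3057 (allL N3057 (tt N6518 (iv1 F15178)) (tt N6517 F15175) (tt N2994 (iv2 F7257)) (tt N6523 D9731) (tt N1371 (iv4 D4398)) (tt N6524 D9732) (tt N6525 D9733) (tt N2997 (iv7 F7250)))
theorem Q3059 : ∀ i, i < 3059 → P i := stepQ 3058 Q3058 (allL N3058 (tt N3347 F66484) (tt N6526 D9735) (tt N2995 (iv2 F7260)) (tt N6522 (iv3 F15195)) (tt N6525 (iv4 F15200)) (tt N6452 (iv5 F14758)) (tt N1371 (iv6 D4400)) (tt N6527 D9736))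
theorem Q3060 : ∀ i, i < 3060 → P i := stepQ 3059 Q3059 (allL N3059 (tt N2987 (iv1 F6335)) (tt N1372 (iv0 D4401)) (tt N3000 F7262) (tt N6528 D9737) (tt N3099 F7049) (tt N6529 D9738) (tt N6530 D9739) (tt N2999 (iv7 F7275)))
theorem Q3061 : ∀ i, i < 3061 → P i := stepQ 3060 Q3060 (allL N3060 (tt N1372 (iv1 D4402)) (tt N2987 F6336) (tt N2999 F7273) (tt N6531 D9740) (tt N3100 F7078) (tt N6532 D9741) (tt N6533 D9742) (tt N3000 F7263))
theorem Q3062 : ∀ i, i < 3062 → P i := stepQ 3061 Q3061 (allL N3061 (tt N6534 D9743) (tt N6535 D9744) (tt N6422 (iv2 F14667)) (tt N3001 F6337) (tt N6391 (iv4 F14615)) (tt N1372 (iv5 D4403)) (tt N6536 D9745) (tt N3001 F6338))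
theorem Q3063 : ∀ i, i < 3063 → P i := stepQ 3062 Q3062 (allL N3062 (tt N6537 D9746) (tt N6538 D9747) (tt N6510 (iv2 F15157)) (tt N3002 F6339) (tt N1373 F6340) (tt N6539 D9748) (tt N1372 (iv6 D4404)) (tt N6540 D9749))
theorem Q3064 : ∀ i, i < 3064 → P i := stepQ 3063 Q3063 (allL N3063 (tt N6514 (iv1 F15168)) (tt N1373 (iv0 D4405)) (tt N6511 (iv2 F35927)) (tt N6541 D9751) (tt N6542 D9752) (tt N1471 (iv5 F291345)) (tt N2920 F291037) (tt N6512 F35926))
theorem Q3065 : ∀ i, i < 3065 → P i := stepQ 3064 Q3064 (allL N3064 (tt N1373 (iv1 D4406)) (tt N6514 F15167) (tt N6512 F35920) (tt N6543 D9756) (tt N6544 D9757) (tt N6545 D9758) (tt N6546 D9759) (tt N6511 (iv7 F35928)))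
theorem Q3066 : ∀ i, i < 3066 → P i := stepQ 3065 Q3065 (allL N3065 (tt N6547 D9760) (tt N6548 D9761) (tt N6513 (iv2 F15160)) (tt N1379 F6341) (tt N6549 D9762) (tt N1373 (iv5 D4407)) (tt N1375 F6342) (tt N6550 D9763))
theorem Q3067 : ∀ i, i < 3067 → P i := stepQ 3066 Q3066 (allL N3066 (tt N6512 (iv1 F15159)) (tt N6511 F15166) (tt N6514 (iv2 F15163)) (tt N1380 F6343) (tt N6540 (iv4 F15232)) (tt N6550 (iv5 F15238)) (tt N3006 F6344) (tt N1373 (iv7 D4408)))
theorem Q3068 : ∀ i, i < 3068 → P i := stepQ 3067 Q3067 (allL N3067 (tt N5941 F14568) (tt N5944 F14569) (tt N5850 (iv2 F16788)) (tt N1374 (iv3 D4415)) (tt N3203 (iv4 F16778)) (tt N6450 (iv5 F16790)) (tt N1395 F16757) (tt N3044 (iv7 F12235)))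
theorem Q3069 : ∀ i, i < 3069 → P i := stepQ 3068 Q3068 (allL N3068 (tt N2923 F14335) (tt N6372 F14567) (tt N3083 (iv2 F16834)) (tt N1408 F16819) (tt N1374 (iv4 D4416)) (tt N6551 D9766) (tt N1396 F16820) (tt N3046 (iv7 F12216)))
theorem Q3070 : ∀ i, i < 3070 → P i := stepQ 3069 Q3069 (allL N3069 (tt N3234 F292129) (tt N1375 (iv0 D4419)) (tt N3011 F16862) (tt N6552 D9770) (tt N6553 D9771) (tt N2990 F16863) (tt N3219 F292130) (tt N2932 F292131))
theorem Q3071 : ∀ i, i < 3071 → P i := stepQ 3070 Q3070 (allL N3070 (tt N6554 D9778) (tt N6555 D9779) (tt N6515 (iv2 F15172)) (tt N6556 D9780) (tt N1375 (iv4 D4421)) (tt N6557 D9781) (tt N6549 (iv6 F15236)) (tt N6558 D9782))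
theorem Q3072 : ∀ i, i < 3072 → P i := stepQ 3071 Q3071 (allL N3071 (tt N2932 F292703) (tt N3011 F16840) (tt N3234 F292704) (tt N1382 F6347) (tt N6558 (iv4 F15252)) (tt N1376 F6348) (tt N6559 D9783) (tt N1375 (iv7 D4422)))
theorem Q3073 : ∀ i, i < 3073 → P i := stepQ 3072 Q3072 (allL N3072 (tt N6560 D9789) (tt N2886 (iv0 F62490)) (tt N6561 D9791) (tt N1377 (iv3 D4424)) (tt N6562 D9792) (tt N1490 F291973) (tt N2849 F291974) (tt N3073 (iv7 F15322)))
theorem Q3074 : ∀ i, i < 3074 → P i := stepQ 3073 Q3073 (allL N3073 (tt N3338 (iv1 F62485)) (tt N6207 (iv0 F62486)) (tt N6205 (iv2 F62480)) (tt N1378 (iv3 D4429)) (tt N6563 D9808) (tt N3317 (iv5 F293743)) (tt N6564 D9810) (tt N3072 F15322))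
theorem Q3075 : ∀ i, i < 3075 → P i := stepQ 3074 Q3074 (allL N3074 (tt N2898 F15300) (tt N2899 F15301) (tt N3074 F15327) (tt N6564 (iv3 F15386)) (tt N3321 (iv4 F14811)) (tt N6565 D9812) (tt N1378 (iv6 D4432)) (tt N3366 F292138))
theorem Q3076 : ∀ i, i < 3076 → P i := stepQ 3075 Q3075 (allL N3075 (tt N1379 (iv1 D4434)) (tt N3077 F6357) (tt N3075 F14872) (tt N6566 D9817) (tt N3018 F293302) (tt N3076 F293703) (tt N6347 F291727) (tt N2960 (iv7 F291863)))
theorem Q3077 : ∀ i, i < 3077 → P i := stepQ 3076 Q3076 (allL N3076 (tt N3319 (iv1 F292944)) (tt N3320 (iv0 F292134)) (tt N3076 F6352) (tt N6567 D9822) (tt N1379 (iv4 D4435)) (tt N3075 (iv5 F293703)) (tt N1381 F6353) (tt N6354 F292097))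
theorem Q3078 : ∀ i, i < 3078 → P i := stepQ 3077 Q3077 (allL N3077 (tt N3075 (iv1 F6357)) (tt N2960 (iv0 F291860)) (tt N3077 F6354) (tt N6550 (iv3 F15237)) (tt N6354 F292946) (tt N1380 F6355) (tt N6346 F292947) (tt N1379 (iv7 D4436)))
theorem Q3079 : ∀ i, i < 3079 → P i := stepQ 3078 Q3078 (allL N3078 (tt N6170 (iv1 F293740)) (tt N6122 (iv0 F293307)) (tt N6169 (iv2 F293308)) (tt N1381 (iv3 D4437)) (tt N6556 (iv4 F15251)) (tt N6477 (iv5 F14970)) (tt N6567 (iv6 F15439)) (tt N3096 (iv7 F292976)))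
theorem Q3080 : ∀ i, i < 3080 → P i := stepQ 3079 Q3079 (allL N3079 (tt N2955 F292950) (tt N2959 F292951) (tt N3079 F6358) (tt N6559 (iv3 F15253)) (tt N3097 F292952) (tt N3028 F6359) (tt N1382 (iv6 D4438)) (tt N6346 F292953))
theorem Q3081 : ∀ i, i < 3081 → P i := stepQ 3080 Q3080 (allL N3080 (tt N6112 (iv1 F16870)) (tt N6568 D9831) (tt N5786 (iv2 F13248)) (tt N1385 F6370) (tt N3167 (iv4 F6771)) (tt N6569 D9832) (tt N1383 (iv6 D4448)) (tt N2973 F16831))
theorem Q3082 : ∀ i, i < 3082 → P i := stepQ 3081 Q3081 (allL N3081 (tt N1447 (iv1 F6534)) (tt N1444 (iv0 F6527)) (tt N1422 F6373) (tt N1384 (iv3 D4451)) (tt N3165 (iv4 F6762)) (tt N6570 D9834) (tt N6571 D9835) (tt N1443 (iv7 F6439)))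
theorem Q3083 : ∀ i, i < 3083 → P i := stepQ 3082 Q3082 (allL N3082 (tt N3260 F7242) (tt N3235 F7243) (tt N3100 (iv2 F6572)) (tt N6570 (iv3 F15462)) (tt N2999 (iv4 F7274)) (tt N1384 (iv5 D4452)) (tt N6572 D9836) (tt N3099 (iv7 F6554)))
theorem Q3084 : ∀ i, i < 3084 → P i := stepQ 3083 Q3083 (allL N3083 (tt N6272 F16832) (tt N3305 F16833) (tt N3068 F16834) (tt N6571 (iv3 F15468)) (tt N1385 F6375) (tt N6573 D9839) (tt N1384 (iv6 D4453)) (tt N2976 F16835))
theorem Q3085 : ∀ i, i < 3085 → P i := stepQ 3084 Q3084 (allL N3084 (tt N2991 (iv1 F7278)) (tt N3014 (iv0 F7277)) (tt N3012 (iv2 F6934)) (tt N6569 (iv3 F15457)) (tt N6574 D9847) (tt N1385 (iv5 D4461)) (tt N6407 (iv6 F14651)) (tt N2980 F16836))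
theorem Q3086 : ∀ i, i < 3086 → P i := stepQ 3085 Q3085 (allL N3085 (tt N1442 (iv1 F6546)) (tt N1452 (iv0 F6538)) (tt N1449 F6493) (tt N1420 F6494) (tt N1386 (iv4 D4463)) (tt N6575 D9848) (tt N2982 F16737) (tt N1448 F6495))
theorem Q3087 : ∀ i, i < 3087 → P i := stepQ 3086 Q3086 (allL N3086 (tt N3235 (iv1 F7310)) (tt N3260 F7244) (tt N3099 (iv2 F6553)) (tt N1421 F6503) (tt N3000 (iv4 F7261)) (tt N1387 (iv5 D4466)) (tt N6576 D9854) (tt N3100 (iv7 F6574)))
theorem Q3088 : ∀ i, i < 3088 → P i := stepQ 3087 Q3087 (allL N3087 (tt N3104 (iv1 F6600)) (tt N3103 F6599) (tt N1389 F6506) (tt N6577 D9867) (tt N1388 (iv4 D4474)) (tt N6578 D9868) (tt N6579 D9869) (tt N3101 (iv7 F6589)))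
theorem Q3089 : ∀ i, i < 3089 → P i := stepQ 3088 Q3088 (allL N3088 (tt N6580 D9870) (tt N6581 D9871) (tt N1390 F6507) (tt N3088 F6508) (tt N6579 (iv4 F15518)) (tt N3088 F6509) (tt N1388 (iv6 D4475)) (tt N6582 D9872))
theorem Q3090 : ∀ i, i < 3090 → P i := stepQ 3089 Q3089 (allL N3089 (tt N3101 (iv1 F6591)) (tt N1389 (iv0 D4486)) (tt N3104 F12163) (tt N6583 D9873) (tt N3038 F7304) (tt N6534 (iv5 F15219)) (tt N6584 D9874) (tt N3103 (iv7 F12162)))
theorem Q3091 : ∀ i, i < 3091 → P i := stepQ 3090 Q3090 (allL N3090 (tt N1389 (iv1 D4487)) (tt N3101 F6590) (tt N3103 (iv2 F12159)) (tt N6585 D9875) (tt N3045 (iv4 F7295)) (tt N6535 (iv5 F15226)) (tt N6586 D9876) (tt N3104 (iv7 F12157)))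
theorem Q3092 : ∀ i, i < 3092 → P i := stepQ 3091 Q3091 (allL N3091 (tt N6415 (iv1 F14660)) (tt N6418 (iv0 F14662)) (tt N6578 (iv2 F15513)) (tt N3105 (iv3 F6601)) (tt N6587 D9877) (tt N1389 (iv5 D4488)) (tt N6588 D9878) (tt N3105 (iv7 F6602)))
theorem Q3093 : ∀ i, i < 3093 → P i := stepQ 3092 Q3092 (allL N3092 (tt N6589 D9879) (tt N6590 D9880) (tt N6579 (iv2 F15517)) (tt N3106 (iv3 F6603)) (tt N1390 F6512) (tt N6591 D9881) (tt N1389 (iv6 D4489)) (tt N6592 D9882))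
theorem Q3094 : ∀ i, i < 3094 → P i := stepQ 3093 Q3093 (allL N3093 (tt N6582 (iv1 F15526)) (tt N1390 (iv0 D4490)) (tt N6580 F35730) (tt N6593 D9884) (tt N6594 D9885) (tt N6595 D9886) (tt N6596 D9887) (tt N6581 (iv7 F35739)))
theorem Q3095 : ∀ i, i < 3095 → P i := stepQ 3094 Q3094 (allL N3094 (tt N1390 (iv1 D4491)) (tt N6582 F15525) (tt N6581 (iv2 F35738)) (tt N6597 D9889) (tt N6598 D9890) (tt N6599 D9891) (tt N6600 D9892) (tt N6580 F35737))
theorem Q3096 : ∀ i, i < 3096 → P i := stepQ 3095 Q3095 (allL N3095 (tt N6581 (iv1 F15519)) (tt N6580 F15524) (tt N6582 (iv2 F15521)) (tt N1392 F6513) (tt N6592 (iv4 F15534)) (tt N3095 F6514) (tt N3033 (iv6 F291698)) (tt N1390 (iv7 D4492)))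
theorem Q3097 : ∀ i, i < 3097 → P i := stepQ 3096 Q3096 (allL N3096 (tt N2867 (iv1 F66169)) (tt N6601 D9902) (tt N6602 D9903) (tt N1391 (iv3 D4499)) (tt N6603 D9904) (tt N3026 F292975) (tt N6604 D9905) (tt N3078 F292976))
theorem Q3098 : ∀ i, i < 3098 → P i := stepQ 3097 Q3097 (allL N3097 (tt N6605 D9906) (tt N6131 (iv0 F14787)) (tt N3097 F14861) (tt N6604 (iv3 F15559)) (tt N3079 (iv4 F292952)) (tt N2958 F291411) (tt N1391 (iv6 D4501)) (tt N6345 (iv7 F292203)))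
theorem Q3099 : ∀ i, i < 3099 → P i := stepQ 3098 Q3098 (allL N3098 (tt N1396 (iv1 F6525)) (tt N1394 (iv0 D4504)) (tt N1441 (iv2 F6524)) (tt N1444 (iv3 F6529)) (tt N1441 (iv4 F6544)) (tt N6291 (iv5 F14382)) (tt N3098 F7156) (tt N1456 F6526))
theorem Q3100 : ∀ i, i < 3100 → P i := stepQ 3099 Q3099 (allL N3099 (tt N6487 (iv1 F15055)) (tt N1472 (iv0 F7104)) (tt N3086 F6553) (tt N3194 (iv3 F6843)) (tt N3059 (iv4 F7049)) (tt N1394 (iv5 D4505)) (tt N6606 D9912) (tt N3082 F6554))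
theorem Q3101 : ∀ i, i < 3101 → P i := stepQ 3100 Q3100 (allL N3100 (tt N1472 (iv1 F7105)) (tt N6487 (iv0 F15054)) (tt N3082 F6572) (tt N1407 F6573) (tt N3060 (iv4 F7078)) (tt N1396 (iv5 D4517)) (tt N6607 D9927) (tt N3086 F6574))
theorem Q3102 : ∀ i, i < 3102 → P i := stepQ 3101 Q3101 (allL N3101 (tt N3090 (iv1 F6590)) (tt N3089 F6591) (tt N1399 F6588) (tt N6608 D9937) (tt N1397 (iv4 D4525)) (tt N6587 (iv5 F15531)) (tt N6609 D9938) (tt N3087 F6589))
theorem Q3103 : ∀ i, i < 3103 → P i := stepQ 3102 Q3102 (allL N3102 (tt N2927 (iv1 F292462)) (tt N6330 F291874) (tt N1400 F6592) (tt N3102 F6593) (tt N6609 (iv4 F15669)) (tt N2919 F291875) (tt N1397 (iv6 D4526)) (tt N6483 F291876))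
theorem Q3104 : ∀ i, i < 3104 → P i := stepQ 3103 Q3103 (allL N3103 (tt N3087 (iv1 F6599)) (tt N1399 (iv0 D4538)) (tt N3090 F12159) (tt N6610 D9944) (tt N2975 (iv4 F6916)) (tt N6420 (iv5 F14663)) (tt N6611 D9945) (tt N3089 F12162))
theorem Q3105 : ∀ i, i < 3105 → P i := stepQ 3104 Q3104 (allL N3104 (tt N1399 (iv1 D4539)) (tt N3087 F6600) (tt N3089 (iv2 F12163)) (tt N6612 D9946) (tt N2984 (iv4 F6926)) (tt N6421 (iv5 F14665)) (tt N6613 D9947) (tt N3090 F12157))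
theorem Q3106 : ∀ i, i < 3106 → P i := stepQ 3105 Q3105 (allL N3105 (tt N6529 (iv1 F15211)) (tt N6532 (iv0 F15217)) (tt N6587 (iv2 F15529)) (tt N3091 F6601) (tt N6578 (iv4 F15514)) (tt N1399 (iv5 D4540)) (tt N6614 D9948) (tt N3091 F6602))
theorem Q3107 : ∀ i, i < 3107 → P i := stepQ 3106 Q3106 (allL N3106 (tt N6615 D9949) (tt N6616 D9950) (tt N6609 (iv2 F15668)) (tt N3092 F6603) (tt N1400 F6604) (tt N6617 D9951) (tt N1399 (iv6 D4541)) (tt N6484 (iv7 F292725)))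
theorem Q3108 : ∀ i, i < 3108 → P i := stepQ 3107 Q3107 (allL N3107 (tt N6483 F291636) (tt N1400 (iv0 D4542)) (tt N2927 (iv2 F292463)) (tt N6618 D9954) (tt N6619 D9955) (tt N1485 F291637) (tt N6620 D9957) (tt N6330 F291638))
theorem Q3109 : ∀ i, i < 3109 → P i := stepQ 3108 Q3108 (allL N3108 (tt N1400 (iv1 D4543)) (tt N6483 F291653) (tt N6330 F291654) (tt N6621 D9959) (tt N6622 D9960) (tt N1486 F291655) (tt N6623 D9962) (tt N2927 (iv7 F292464)))
theorem Q3110 : ∀ i, i < 3110 → P i := stepQ 3109 Q3109 (allL N3109 (tt N2873 (iv1 F17408)) (tt N6173 (iv0 F17409)) (tt N6177 (iv2 F17421)) (tt N1401 (iv3 D4547)) (tt N3173 F6778) (tt N3201 (iv5 F293810)) (tt N3007 F16866) (tt N3109 F15736))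
theorem Q3111 : ∀ i, i < 3111 → P i := stepQ 3110 Q3110 (allL N3110 (tt N3221 F17386) (tt N1458 (iv0 F17387)) (tt N3112 (iv2 F15740)) (tt N6624 D9981) (tt N1401 (iv4 D4548)) (tt N5856 (iv5 F293454)) (tt N3008 F16867) (tt N3110 F15737))
theorem Q3112 : ∀ i, i < 3112 → P i := stepQ 3111 Q3111 (allL N3111 (tt N5856 F17437) (tt N2730 (iv0 F17466)) (tt N5868 (iv2 F17471)) (tt N1402 (iv3 D4552)) (tt N3229 F17438) (tt N1458 (iv5 F293122)) (tt N6397 (iv6 F16857)) (tt N3111 F15739))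
theorem Q3113 : ∀ i, i < 3113 → P i := stepQ 3112 Q3112 (allL N3112 (tt N1458 (iv1 F17388)) (tt N3221 F17385) (tt N3110 F15740) (tt N1437 (iv3 F6611)) (tt N1402 (iv4 D4553)) (tt N2730 F293290) (tt N6140 (iv6 F16858)) (tt N3112 F15741))
theorem Q3114 : ∀ i, i < 3114 → P i := stepQ 3113 Q3113 (allL N3113 (tt N6119 (iv1 F62531)) (tt N6144 (iv0 F294236)) (tt N6184 (iv2 F62530)) (tt N1404 (iv3 D4565)) (tt N6625 D10027) (tt N1517 (iv5 F293964)) (tt N6626 D10029) (tt N2857 (iv7 F293752)))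
theorem Q3115 : ∀ i, i < 3115 → P i := stepQ 3114 Q3114 (allL N3114 (tt N6130 F14788) (tt N6133 F15294) (tt N3114 F15354) (tt N6626 (iv3 F15851)) (tt N3144 (iv4 F14813)) (tt N3366 (iv5 F291745)) (tt N1404 (iv6 D4568)) (tt N6565 (iv7 F15392)))
theorem Q3116 : ∀ i, i < 3116 → P i := stepQ 3115 Q3115 (allL N3115 (tt N1406 (iv1 D4586)) (tt N1410 F6657) (tt N3145 F6691) (tt N2650 F6659) (tt N2719 (iv4 F6658)) (tt N6627 D10082) (tt N3115 F7205) (tt N3146 (iv7 F6694)))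
theorem Q3117 : ∀ i, i < 3117 → P i := stepQ 3116 Q3116 (allL N3116 (tt N6628 D10083) (tt N6629 D10084) (tt N3153 (iv2 F6722)) (tt N3202 (iv3 F6864)) (tt N5950 (iv4 F13612)) (tt N1406 (iv5 D4587)) (tt N6630 D10085) (tt N3147 (iv7 F6699)))
theorem Q3118 : ∀ i, i < 3118 → P i := stepQ 3117 Q3117 (allL N3117 (tt N6631 D10086) (tt N6632 D10087) (tt N3154 (iv2 F6724)) (tt N3203 (iv3 F6865)) (tt N1408 F6660) (tt N6633 D10088) (tt N1406 (iv6 D4588)) (tt N6135 (iv7 F16748)))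
theorem Q3119 : ∀ i, i < 3119 → P i := stepQ 3118 Q3118 (allL N3118 (tt N6200 (iv1 F14152)) (tt N6634 D10090) (tt N3155 (iv2 F6726)) (tt N6635 D10091) (tt N1407 (iv4 D4591)) (tt N6636 D10092) (tt N6637 D10093) (tt N3148 (iv7 F6705)))
theorem Q3120 : ∀ i, i < 3120 → P i := stepQ 3119 Q3119 (allL N3119 (tt N6638 D10094) (tt N3362 (iv0 F66708)) (tt N3156 (iv2 F6728)) (tt N6607 (iv3 F15635)) (tt N6637 (iv4 F15951)) (tt N6639 D10096) (tt N1407 (iv6 D4592)) (tt N6640 D10097))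
theorem Q3121 : ∀ i, i < 3121 → P i := stepQ 3120 Q3120 (allL N3120 (tt N6138 F13939) (tt N3365 (iv0 F7523)) (tt N3158 (iv2 F6730)) (tt N6551 (iv3 F16849)) (tt N6641 D10108) (tt N1408 (iv5 D4595)) (tt N6639 (iv6 F15952)) (tt N6136 (iv7 F16777)))
theorem Q3122 : ∀ i, i < 3122 → P i := stepQ 3121 Q3121 (allL N3121 (tt N1919 F6666) (tt N2865 (iv0 F6667)) (tt N2685 F6663) (tt N2669 F6664) (tt N1409 (iv4 D4597)) (tt N6642 D10110) (tt N5676 (iv6 F16758)) (tt N2862 F6665))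
theorem Q3123 : ∀ i, i < 3123 → P i := stepQ 3122 Q3122 (allL N3122 (tt N3249 (iv1 F7335)) (tt N3238 F7336) (tt N3194 (iv2 F6842)) (tt N1411 F6669) (tt N6643 D10112) (tt N1409 (iv5 D4598)) (tt N6644 D10113) (tt N3151 (iv7 F6720)))
theorem Q3124 : ∀ i, i < 3124 → P i := stepQ 3123 Q3123 (allL N3123 (tt N6629 (iv1 F15944)) (tt N6628 F15943) (tt N3147 (iv2 F6698)) (tt N2631 F13333) (tt N5951 F13613) (tt N1410 (iv5 D4600)) (tt N6645 D10118) (tt N3153 (iv7 F6723)))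
theorem Q3125 : ∀ i, i < 3125 → P i := stepQ 3124 Q3124 (allL N3124 (tt N6634 (iv1 F15948)) (tt N6200 (iv0 F14151)) (tt N3148 (iv2 F6704)) (tt N6646 D10123) (tt N1411 (iv4 D4602)) (tt N6647 D10124) (tt N6648 D10125) (tt N3155 (iv7 F6727)))
theorem Q3126 : ∀ i, i < 3126 → P i := stepQ 3125 Q3125 (allL N3125 (tt N1508 (iv1 F63122)) (tt N3359 (iv0 F63123)) (tt N3149 (iv2 F6706)) (tt N6644 (iv3 F15969)) (tt N6648 (iv4 F15976)) (tt N3179 F16815) (tt N1411 (iv6 D4603)) (tt N3358 (iv7 F63124)))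
theorem Q3127 : ∀ i, i < 3127 → P i := stepQ 3126 Q3126 (allL N3126 (tt N3181 (iv1 F6785)) (tt N3180 F6784) (tt N1415 F6674) (tt N6649 D10144) (tt N1412 (iv4 D4608)) (tt N6650 D10145) (tt N6651 D10146) (tt N3161 (iv7 F6746)))
theorem Q3128 : ∀ i, i < 3128 → P i := stepQ 3127 Q3127 (allL N3127 (tt N6652 D10147) (tt N6653 D10148) (tt N1416 F6675) (tt N3127 F6676) (tt N6651 (iv4 F15987)) (tt N3127 F6677) (tt N1412 (iv6 D4609)) (tt N6654 D10149))
theorem Q3129 : ∀ i, i < 3129 → P i := stepQ 3128 Q3128 (allL N3128 (tt N6175 (iv1 F14107)) (tt N6655 D10150) (tt N3178 F12152) (tt N6656 D10151) (tt N1413 (iv4 D4612)) (tt N6657 D10152) (tt N6658 D10153) (tt N3175 (iv7 F12155)))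
theorem Q3130 : ∀ i, i < 3130 → P i := stepQ 3129 Q3129 (allL N3129 (tt N6340 (iv1 F63184)) (tt N2957 (iv0 F63185)) (tt N3179 F12153) (tt N6384 (iv3 F14597)) (tt N6658 (iv4 F15998)) (tt N3149 (iv5 F16768)) (tt N1413 (iv6 D4614)) (tt N6339 (iv7 F63186)))
theorem Q3131 : ∀ i, i < 3131 → P i := stepQ 3130 Q3130 (allL N3130 (tt N3195 (iv1 F12150)) (tt N2930 F12151) (tt N3198 F6933) (tt N1414 (iv3 D4616)) (tt N6659 D10158) (tt N2853 (iv5 F6931)) (tt N6660 D10159) (tt N3177 F12143))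
theorem Q3132 : ∀ i, i < 3132 → P i := stepQ 3131 Q3131 (allL N3131 (tt N6655 (iv1 F15995)) (tt N6175 (iv0 F14106)) (tt N3175 F12156) (tt N6661 D10160) (tt N1414 (iv4 D4617)) (tt N6662 D10161) (tt N6663 D10162) (tt N3178 F12144))
theorem Q3133 : ∀ i, i < 3133 → P i := stepQ 3132 Q3132 (allL N3132 (tt N6344 (iv1 F63244)) (tt N6664 D10164) (tt N3176 (iv2 F12211)) (tt N6660 (iv3 F16004)) (tt N6663 (iv4 F16005)) (tt N3344 (iv5 F291580)) (tt N1414 (iv6 D4619)) (tt N6665 D10166))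
theorem Q3134 : ∀ i, i < 3134 → P i := stepQ 3133 Q3133 (allL N3133 (tt N3161 (iv1 F6748)) (tt N1415 (iv0 D4620)) (tt N3181 (iv2 F12229)) (tt N6666 D10167) (tt N6485 (iv4 F15042)) (tt N6667 D10168) (tt N6668 D10169) (tt N3180 F12230))
theorem Q3135 : ∀ i, i < 3135 → P i := stepQ 3134 Q3134 (allL N3134 (tt N1415 (iv1 D4621)) (tt N3161 (iv0 F6747)) (tt N3180 F12228) (tt N6669 D10170) (tt N2972 (iv4 F6923)) (tt N6670 D10171) (tt N6671 D10172) (tt N3181 (iv7 F12227)))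
theorem Q3136 : ∀ i, i < 3136 → P i := stepQ 3135 Q3135 (allL N3135 (tt N6672 D10173) (tt N6673 D10174) (tt N6650 (iv2 F15985)) (tt N3182 (iv3 F6787)) (tt N6674 D10175) (tt N1415 (iv5 D4622)) (tt N6675 D10176) (tt N3182 (iv7 F6788)))
theorem Q3137 : ∀ i, i < 3137 → P i := stepQ 3136 Q3136 (allL N3136 (tt N6676 D10177) (tt N6677 D10178) (tt N6651 (iv2 F15986)) (tt N3183 (iv3 F6789)) (tt N1416 F6682) (tt N6678 D10179) (tt N1415 (iv6 D4623)) (tt N6679 D10180))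
theorem Q3138 : ∀ i, i < 3138 → P i := stepQ 3137 Q3137 (allL N3137 (tt N6654 (iv1 F15994)) (tt N1416 (iv0 D4624)) (tt N6652 F63367) (tt N6680 D10182) (tt N6681 D10183) (tt N6682 D10184) (tt N6683 D10185) (tt N6653 (iv7 F63376)))
theorem Q3139 : ∀ i, i < 3139 → P i := stepQ 3138 Q3138 (allL N3138 (tt N1416 (iv1 D4625)) (tt N6654 F15993) (tt N6653 (iv2 F63375)) (tt N6684 D10187) (tt N6685 D10188) (tt N6686 D10189) (tt N6687 D10190) (tt N6652 F63374))
theorem Q3140 : ∀ i, i < 3140 → P i := stepQ 3139 Q3139 (allL N3139 (tt N6653 (iv1 F15988)) (tt N6652 F15992) (tt N6654 (iv2 F15989)) (tt N1419 F6683) (tt N6679 (iv4 F16013)) (tt N3139 F6684) (tt N3025 F294113) (tt N1416 (iv7 D4626)))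
theorem Q3141 : ∀ i, i < 3141 → P i := stepQ 3140 Q3140 (allL N3140 (tt N3219 (iv1 F65750)) (tt N2935 (iv0 F65749)) (tt N3218 (iv2 F65753)) (tt N1417 (iv3 D4628)) (tt N6688 D10194) (tt N6689 D10195) (tt N6690 D10196) (tt N3143 F15347))
theorem Q3142 : ∀ i, i < 3142 → P i := stepQ 3141 Q3141 (allL N3141 (tt N2902 (iv1 F292739)) (tt N1514 (iv0 F7457)) (tt N3141 F15350) (tt N6689 (iv3 F16018)) (tt N1518 F291742) (tt N1417 (iv5 D4630)) (tt N3350 F291927) (tt N2851 F291743))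
theorem Q3143 : ∀ i, i < 3143 → P i := stepQ 3142 Q3142 (allL N3142 (tt N3016 F292135) (tt N3018 F292136) (tt N3142 F15339) (tt N6690 (iv3 F16019)) (tt N1498 F293741) (tt N3335 F7410) (tt N1417 (iv6 D4631)) (tt N6461 F292137))
theorem Q3144 : ∀ i, i < 3144 → P i := stepQ 3143 Q3143 (allL N3143 (tt N1454 (iv1 F65723)) (tt N6298 (iv0 F65724)) (tt N6297 (iv2 F65718)) (tt N1418 (iv3 D4633)) (tt N6691 D10202) (tt N6146 F293746) (tt N6692 D10204) (tt N3140 (iv7 F15347)))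
theorem Q3145 : ∀ i, i < 3145 → P i := stepQ 3144 Q3144 (allL N3144 (tt N6347 (iv1 F16080)) (tt N2956 F14860) (tt N3144 F15355) (tt N6692 (iv3 F16042)) (tt N3114 F14813) (tt N2951 (iv5 F290845)) (tt N1418 (iv6 D4636)) (tt N6337 (iv7 F290854)))
theorem Q3146 : ∀ i, i < 3146 → P i := stepQ 3145 Q3145 (allL N3145 (tt N1423 (iv1 F6690)) (tt N1420 (iv0 D4637)) (tt N3115 (iv2 F6691)) (tt N1920 F6689) (tt N2859 F6688) (tt N6693 D10207) (tt N3145 F7204) (tt N2871 (iv7 F6692)))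
theorem Q3147 : ∀ i, i < 3147 → P i := stepQ 3146 Q3146 (allL N3146 (tt N1420 (iv1 D4638)) (tt N1423 F6693) (tt N2871 F6696) (tt N2799 F6697) (tt N2870 (iv4 F6695)) (tt N6694 D10208) (tt N6695 D10209) (tt N3115 F6694))
theorem Q3148 : ∀ i, i < 3148 → P i := stepQ 3147 Q3147 (allL N3147 (tt N6696 D10210) (tt N6697 D10211) (tt N3123 F6698) (tt N6575 (iv3 F15480)) (tt N6698 D10212) (tt N1420 (iv5 D4639)) (tt N6699 D10213) (tt N3116 F6699))
theorem Q3149 : ∀ i, i < 3149 → P i := stepQ 3148 Q3148 (allL N3148 (tt N6700 D10218) (tt N6701 D10219) (tt N3124 F6704) (tt N6702 D10220) (tt N1421 (iv4 D4643)) (tt N6703 D10221) (tt N6704 D10222) (tt N3118 F6705))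
theorem Q3150 : ∀ i, i < 3150 → P i := stepQ 3149 Q3149 (allL N3149 (tt N3353 (iv1 F63142)) (tt N1512 (iv0 F63143)) (tt N3125 F6706) (tt N6576 (iv3 F15490)) (tt N6704 (iv4 F16172)) (tt N3129 F16768) (tt N1421 (iv6 D4644)) (tt N3352 (iv7 F63144)))
theorem Q3151 : ∀ i, i < 3151 → P i := stepQ 3150 Q3150 (allL N3150 (tt N1443 (iv1 F6717)) (tt N1422 (iv0 D4649)) (tt N1447 (iv2 F6716)) (tt N1456 F6714) (tt N1459 F6715) (tt N6283 (iv5 F14349)) (tt N6705 D10241) (tt N1444 F6718))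
theorem Q3152 : ∀ i, i < 3152 → P i := stepQ 3151 Q3151 (allL N3151 (tt N6706 D10242) (tt N1469 F14142) (tt N6570 (iv2 F15461)) (tt N1424 F6719) (tt N6192 (iv4 F14140)) (tt N1422 (iv5 D4650)) (tt N6707 D10243) (tt N3122 F6720))
theorem Q3153 : ∀ i, i < 3153 → P i := stepQ 3152 Q3152 (allL N3152 (tt N6708 D10244) (tt N6328 (iv0 F16934)) (tt N6571 (iv2 F15467)) (tt N1425 F6721) (tt N6161 (iv4 F14040)) (tt N6709 D10246) (tt N1422 (iv6 D4651)) (tt N6151 F16817))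
theorem Q3154 : ∀ i, i < 3154 → P i := stepQ 3153 Q3153 (allL N3153 (tt N6697 (iv1 F16141)) (tt N6696 F16138) (tt N3116 F6722) (tt N4095 (iv3 F13445)) (tt N6710 D10248) (tt N1423 (iv5 D4652)) (tt N5703 (iv6 F295992)) (tt N3123 F6723))
theorem Q3155 : ∀ i, i < 3155 → P i := stepQ 3154 Q3154 (allL N3154 (tt N6711 D10250) (tt N6712 D10251) (tt N3117 F6724) (tt N4150 (iv3 F9603)) (tt N1425 F6725) (tt N6713 D10252) (tt N1423 (iv6 D4653)) (tt N5694 F16763))
theorem Q3156 : ∀ i, i < 3156 → P i := stepQ 3155 Q3155 (allL N3155 (tt N6701 (iv1 F16163)) (tt N6700 F16160) (tt N3118 F6726) (tt N6714 D10254) (tt N1424 (iv4 D4654)) (tt N6715 D10255) (tt N6716 D10256) (tt N3124 F6727))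
theorem Q3157 : ∀ i, i < 3157 → P i := stepQ 3156 Q3156 (allL N3156 (tt N3357 (iv1 F66773)) (tt N6717 D10258) (tt N3119 F6728) (tt N6707 (iv3 F16202)) (tt N6716 (iv4 F16223)) (tt N6718 D10259) (tt N1424 (iv6 D4655)) (tt N6719 D10260))
theorem Q3158 : ∀ i, i < 3158 → P i := stepQ 3157 Q3157 (allL N3157 (tt N1425 (iv1 D4657)) (tt N2844 F16771) (tt N1517 F16772) (tt N3157 F16328) (tt N6720 D10268) (tt N6184 (iv5 F294155)) (tt N6139 F16773) (tt N2856 F16774))
theorem Q3159 : ∀ i, i < 3159 → P i := stepQ 3158 Q3158 (allL N3158 (tt N2849 F7299) (tt N6721 D10271) (tt N3120 F6730) (tt N6709 (iv3 F16203)) (tt N6722 D10272) (tt N1425 (iv5 D4658)) (tt N6718 (iv6 F16226)) (tt N6152 F16818))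
theorem Q3160 : ∀ i, i < 3160 → P i := stepQ 3159 Q3159 (allL N3159 (tt N2689 (iv1 F6739)) (tt N2688 F6740) (tt N1431 F6736) (tt N2700 F6737) (tt N6723 D10274) (tt N1426 (iv5 D4660)) (tt N2874 (iv6 F295998)) (tt N2687 F6738))
theorem Q3161 : ∀ i, i < 3161 → P i := stepQ 3160 Q3160 (allL N3160 (tt N3173 (iv1 F6777)) (tt N3172 F6776) (tt N1432 F6741) (tt N2701 F6742) (tt N1428 F6743) (tt N2875 F295896) (tt N1426 (iv6 D4661)) (tt N3160 F6744))
theorem Q3162 : ∀ i, i < 3162 → P i := stepQ 3161 Q3161 (allL N3161 (tt N3134 F6747) (tt N3133 F6748) (tt N1435 F6745) (tt N6724 D10277) (tt N1427 (iv4 D4662)) (tt N6725 D10278) (tt N6726 D10279) (tt N3126 F6746))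
theorem Q3163 : ∀ i, i < 3163 → P i := stepQ 3162 Q3162 (allL N3162 (tt N6115 (iv1 F292872)) (tt N6361 F292276) (tt N1436 F6749) (tt N3162 F6750) (tt N6726 (iv4 F16279)) (tt N3021 (iv5 F292526)) (tt N1427 (iv6 D4663)) (tt N6472 (iv7 F293330)))
theorem Q3164 : ∀ i, i < 3164 → P i := stepQ 3163 Q3163 (allL N3163 (tt N2713 F6757) (tt N2725 (iv0 F6758)) (tt N2669 F6754) (tt N1429 (iv3 D4665)) (tt N1899 F6755) (tt N6727 D10285) (tt N4092 (iv6 F16741)) (tt N2671 F6756))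
theorem Q3165 : ∀ i, i < 3165 → P i := stepQ 3164 Q3164 (allL N3164 (tt N2758 (iv1 F7271)) (tt N1936 F7270) (tt N2686 F6759) (tt N6727 (iv3 F16293)) (tt N6728 D10287) (tt N1429 (iv5 D4666)) (tt N6729 D10288) (tt N2683 F6760))
theorem Q3166 : ∀ i, i < 3166 → P i := stepQ 3165 Q3165 (allL N3165 (tt N2865 F6764) (tt N1919 F6766) (tt N2862 (iv2 F6767)) (tt N1430 (iv3 D4668)) (tt N3081 F6762) (tt N6730 D10293) (tt N6731 D10294) (tt N2685 F6763))
theorem Q3167 : ∀ i, i < 3167 → P i := stepQ 3166 Q3166 (allL N3166 (tt N1936 (iv1 F7268)) (tt N2758 F7272) (tt N2683 F6768) (tt N6730 (iv3 F16314)) (tt N6732 D10295) (tt N1430 (iv5 D4669)) (tt N6733 D10296) (tt N2686 F6769))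
theorem Q3168 : ∀ i, i < 3168 → P i := stepQ 3167 Q3167 (allL N3167 (tt N2792 F16846) (tt N6720 (iv0 F16329)) (tt N2684 F6770) (tt N6731 (iv3 F16319)) (tt N3080 F6771) (tt N6734 D10299) (tt N1430 (iv6 D4670)) (tt N6061 F16847))
theorem Q3169 : ∀ i, i < 3169 → P i := stepQ 3168 Q3168 (allL N3168 (tt N2687 (iv1 F6772)) (tt N1431 (iv0 D4671)) (tt N2689 F12178) (tt N5680 (iv3 F12980)) (tt N6735 D10301) (tt N2476 (iv5 F7298)) (tt N6736 D10302) (tt N2688 F12176))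
theorem Q3170 : ∀ i, i < 3170 → P i := stepQ 3169 Q3169 (allL N3169 (tt N1431 (iv1 D4672)) (tt N2687 F6773) (tt N2688 (iv2 F12177)) (tt N6737 D10303) (tt N6738 D10304) (tt N2477 (iv5 F7302)) (tt N6739 D10305) (tt N2689 (iv7 F12179)))
theorem Q3171 : ∀ i, i < 3171 → P i := stepQ 3170 Q3170 (allL N3170 (tt N6740 D10306) (tt N6741 D10307) (tt N6723 (iv2 F16260)) (tt N6742 D10308) (tt N1431 (iv4 D4673)) (tt N6743 D10309) (tt N6744 D10310) (tt N2690 F6774))
theorem Q3172 : ∀ i, i < 3172 → P i := stepQ 3171 Q3171 (allL N3171 (tt N6745 D10311) (tt N6737 (iv0 F296083)) (tt N2874 (iv2 F295997)) (tt N1915 F6775) (tt N6744 (iv4 F16401)) (tt N2865 F295954) (tt N1431 (iv6 D4674)) (tt N2864 (iv7 F296081)))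
theorem Q3173 : ∀ i, i < 3173 → P i := stepQ 3172 Q3172 (allL N3172 (tt N3160 (iv1 F6776)) (tt N1432 (iv0 D4675)) (tt N3173 F15757) (tt N5779 (iv3 F13185)) (tt N6177 (iv4 F17423)) (tt N6180 (iv5 F295720)) (tt N5359 (iv6 F16874)) (tt N3172 F15756))
theorem Q3174 : ∀ i, i < 3174 → P i := stepQ 3173 Q3173 (allL N3173 (tt N1432 (iv1 D4676)) (tt N3160 F6777) (tt N3172 (iv2 F15757)) (tt N6179 (iv3 F17397)) (tt N3109 (iv4 F6778)) (tt N6179 (iv5 F295649)) (tt N6440 (iv6 F16865)) (tt N3173 F15758))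
theorem Q3175 : ∀ i, i < 3175 → P i := stepQ 3174 Q3174 (allL N3174 (tt N6180 F295736) (tt N6179 (iv0 F295895)) (tt N2875 (iv2 F295737)) (tt N1916 F6779) (tt N2868 (iv4 F295762)) (tt N1432 (iv5 D4677)) (tt N2865 (iv6 F295870)) (tt N3174 F6780))
theorem Q3176 : ∀ i, i < 3176 → P i := stepQ 3175 Q3175 (allL N3175 (tt N6746 D10323) (tt N6747 D10324) (tt N3131 (iv2 F12156)) (tt N6748 D10325) (tt N1433 (iv4 D4680)) (tt N6749 D10326) (tt N6750 D10327) (tt N3128 F12155))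
theorem Q3177 : ∀ i, i < 3177 → P i := stepQ 3176 Q3176 (allL N3176 (tt N6751 D10328) (tt N6353 F63246) (tt N3132 F12211) (tt N6501 (iv3 F15135)) (tt N6750 (iv4 F16430)) (tt N6752 D10330) (tt N1433 (iv6 D4682)) (tt N6753 D10331))
theorem Q3178 : ∀ i, i < 3178 → P i := stepQ 3177 Q3177 (allL N3177 (tt N6283 (iv1 F14351)) (tt N1446 F14065) (tt N6251 (iv2 F14257)) (tt N1434 (iv3 D4684)) (tt N6164 (iv4 F14070)) (tt N2845 (iv5 F7301)) (tt N6754 D10332) (tt N3130 (iv7 F12143)))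
theorem Q3179 : ∀ i, i < 3179 → P i := stepQ 3178 Q3178 (allL N3178 (tt N6747 (iv1 F16421)) (tt N6746 F16418) (tt N3128 (iv2 F12152)) (tt N6755 D10333) (tt N1434 (iv4 D4685)) (tt N6756 D10334) (tt N6757 D10335) (tt N3131 (iv7 F12144)))
theorem Q3180 : ∀ i, i < 3180 → P i := stepQ 3179 Q3179 (allL N3179 (tt N2953 (iv1 F63153)) (tt N6349 (iv0 F63154)) (tt N3129 (iv2 F12153)) (tt N6754 (iv3 F16439)) (tt N6757 (iv4 F16444)) (tt N3125 (iv5 F16815)) (tt N1434 (iv6 D4687)) (tt N6348 (iv7 F63155)))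
theorem Q3181 : ∀ i, i < 3181 → P i := stepQ 3180 Q3180 (allL N3180 (tt N3126 (iv1 F6784)) (tt N1435 (iv0 D4688)) (tt N3134 (iv2 F12228)) (tt N6758 D10340) (tt N6174 (iv4 F14102)) (tt N6759 D10341) (tt N6760 D10342) (tt N3133 (iv7 F12230)))
theorem Q3182 : ∀ i, i < 3182 → P i := stepQ 3181 Q3181 (allL N3181 (tt N1435 (iv1 D4689)) (tt N3126 F6785) (tt N3133 F12229) (tt N6761 D10343) (tt N3036 (iv4 F7284)) (tt N6762 D10344) (tt N6763 D10345) (tt N3134 F12227))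
theorem Q3183 : ∀ i, i < 3183 → P i := stepQ 3182 Q3182 (allL N3182 (tt N6764 D10346) (tt N6765 D10347) (tt N6725 (iv2 F16273)) (tt N3135 F6787) (tt N6766 D10348) (tt N1435 (iv5 D4690)) (tt N6767 D10349) (tt N3135 F6788))
theorem Q3184 : ∀ i, i < 3184 → P i := stepQ 3183 Q3183 (allL N3183 (tt N6768 D10350) (tt N6769 D10351) (tt N6726 (iv2 F16278)) (tt N3136 F6789) (tt N1436 F6790) (tt N6770 D10352) (tt N1435 (iv6 D4691)) (tt N6473 F292219))
theorem Q3185 : ∀ i, i < 3185 → P i := stepQ 3184 Q3184 (allL N3184 (tt N6472 (iv1 F293328)) (tt N1436 (iv0 D4692)) (tt N6115 (iv2 F292873)) (tt N6771 D10355) (tt N6772 D10356) (tt N2894 F292550) (tt N6773 D10358) (tt N6361 F292551))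
theorem Q3186 : ∀ i, i < 3186 → P i := stepQ 3185 Q3185 (allL N3185 (tt N1436 (iv1 D4693)) (tt N6472 (iv0 F293327)) (tt N6361 F292263) (tt N6774 D10360) (tt N6775 D10361) (tt N2895 (iv5 F292520)) (tt N6776 D10363) (tt N6115 (iv7 F292874)))
theorem Q3187 : ∀ i, i < 3187 → P i := stepQ 3186 Q3186 (allL N3186 (tt N6070 (iv1 F295645)) (tt N6695 (iv0 F17428)) (tt N3188 F15768) (tt N3229 F17436) (tt N1437 (iv4 D4697)) (tt N5781 F295643) (tt N6141 (iv6 F16879)) (tt N3186 F15772))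
theorem Q3188 : ∀ i, i < 3188 → P i := stepQ 3187 Q3187 (allL N3187 (tt N6705 F17395) (tt N3201 (iv0 F17402)) (tt N6624 (iv2 F15712)) (tt N1438 (iv3 D4701)) (tt N6180 (iv4 F17419)) (tt N2873 (iv5 F294250)) (tt N6255 (iv6 F17584)) (tt N3187 F15747))
theorem Q3189 : ∀ i, i < 3189 → P i := stepQ 3188 Q3188 (allL N3188 (tt N6695 (iv1 F17429)) (tt N6070 (iv0 F295644)) (tt N3186 (iv2 F15768)) (tt N2674 (iv3 F6797)) (tt N1438 (iv4 D4702)) (tt N2676 (iv5 F295656)) (tt N6777 D10385) (tt N3188 F15748))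
theorem Q3190 : ∀ i, i < 3190 → P i := stepQ 3189 Q3189 (allL N3189 (tt N2850 (iv1 F16882)) (tt N2846 (iv0 F16883)) (tt N2847 F16877) (tt N6255 (iv3 F17583)) (tt N6777 (iv4 F16520)) (tt N2877 (iv5 F293894)) (tt N1438 (iv6 D4704)) (tt N2848 (iv7 F16881)))
theorem Q3191 : ∀ i, i < 3191 → P i := stepQ 3190 Q3190 (allL N3190 (tt N1476 (iv1 F6815)) (tt N1475 F6816) (tt N1480 F6813) (tt N6778 D10427) (tt N1439 (iv4 D4723)) (tt N5921 (iv5 F13565)) (tt N6779 D10428) (tt N1467 F6814))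
theorem Q3192 : ∀ i, i < 3192 → P i := stepQ 3191 Q3191 (allL N3191 (tt N6780 D10429) (tt N6379 F290729) (tt N1484 F6817) (tt N3191 F6818) (tt N6779 (iv4 F16600)) (tt N6781 D10431) (tt N1439 (iv6 D4724)) (tt N6782 D10432))
theorem Q3193 : ∀ i, i < 3193 → P i := stepQ 3192 Q3192 (allL N3192 (tt N6250 F14256) (tt N6271 F14324) (tt N1487 F6819) (tt N3192 F6820) (tt N6783 D10433) (tt N1440 (iv5 D4725)) (tt N6781 (iv6 F16604)) (tt N6247 (iv7 F14245)))
theorem Q3194 : ∀ i, i < 3194 → P i := stepQ 3193 Q3193 (allL N3193 (tt N5775 (iv1 F13372)) (tt N6259 (iv0 F14278)) (tt N1451 F6824) (tt N2812 F6825) (tt N5396 F12379) (tt N1442 (iv5 D4728)) (tt N6784 D10434) (tt N1460 F6826))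
theorem Q3195 : ∀ i, i < 3195 → P i := stepQ 3194 Q3194 (allL N3194 (tt N1469 F7048) (tt N6706 F16200) (tt N3122 F6842) (tt N3099 F6843) (tt N6193 F14145) (tt N1443 (iv5 D4738)) (tt N6785 D10435) (tt N6570 (iv7 F15463)))
theorem Q3196 : ∀ i, i < 3196 → P i := stepQ 3195 Q3195 (allL N3195 (tt N6251 (iv1 F14261)) (tt N3130 F12150) (tt N1446 F6846) (tt N6291 (iv3 F14381)) (tt N6305 (iv4 F14413)) (tt N1444 (iv5 D4740)) (tt N6786 D10440) (tt N6283 (iv7 F14350)))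
theorem Q3197 : ∀ i, i < 3197 → P i := stepQ 3196 Q3196 (allL N3196 (tt N4165 F9667) (tt N4156 (iv0 F9629)) (tt N1450 F6849) (tt N1445 (iv3 D4742)) (tt N1450 F6850) (tt N6787 D10441) (tt N3196 F7155) (tt N2813 F6851))
theorem Q3198 : ∀ i, i < 3198 → P i := stepQ 3197 Q3197 (allL N3197 (tt N2567 F7021) (tt N5755 F13143) (tt N2812 F6853) (tt N6787 (iv3 F16628)) (tt N6788 D10442) (tt N1445 (iv5 D4743)) (tt N6789 D10443) (tt N2814 F6854))
theorem Q3199 : ∀ i, i < 3199 → P i := stepQ 3198 Q3198 (allL N3198 (tt N1446 (iv1 D4746)) (tt N6283 F14352) (tt N3130 (iv2 F6933)) (tt N2975 (iv3 F6915)) (tt N6165 F14073) (tt N2974 (iv5 F6913)) (tt N6790 D10444) (tt N6251 (iv7 F14259)))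
theorem Q3200 : ∀ i, i < 3200 → P i := stepQ 3199 Q3199 (allL N3199 (tt N2838 F6912) (tt N6306 F14421) (tt N6305 F14414) (tt N6791 D10445) (tt N1446 (iv4 D4747)) (tt N6792 D10446) (tt N6793 D10447) (tt N6284 (iv7 F14355)))
theorem Q3201 : ∀ i, i < 3201 → P i := stepQ 3200 Q3200 (allL N3200 (tt N6794 D10448) (tt N6795 D10449) (tt N6786 (iv2 F16625)) (tt N1454 F6857) (tt N6793 (iv4 F16643)) (tt N3200 F7153) (tt N1446 (iv6 D4748)) (tt N6796 D10450))
theorem Q3202 : ∀ i, i < 3202 → P i := stepQ 3201 Q3201 (allL N3201 (tt N3187 F17402) (tt N6624 F17403) (tt N6705 (iv2 F16192)) (tt N1455 F6862) (tt N2815 F6863) (tt N3109 F293810) (tt N1447 (iv6 D4754)) (tt N3201 F7152))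
theorem Q3203 : ∀ i, i < 3203 → P i := stepQ 3202 Q3202 (allL N3202 (tt N2925 F7111) (tt N2916 (iv0 F12197)) (tt N5688 (iv2 F13337)) (tt N3116 F6864) (tt N6797 D10454) (tt N1448 (iv5 D4755)) (tt N6798 D10455) (tt N6575 (iv7 F15481)))
theorem Q3204 : ∀ i, i < 3204 → P i := stepQ 3203 Q3203 (allL N3203 (tt N2926 (iv1 F16821)) (tt N6329 (iv0 F16822)) (tt N5697 (iv2 F16800)) (tt N3117 F6865) (tt N3067 F16778) (tt N6799 D10458) (tt N1448 (iv6 D4756)) (tt N6260 F16779))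
theorem Q3205 : ∀ i, i < 3205 → P i := stepQ 3204 Q3204 (allL N3204 (tt N2916 F7236) (tt N2925 (iv0 F13572)) (tt N6575 (iv2 F15479)) (tt N4096 (iv3 F13449)) (tt N6800 D10460) (tt N1449 (iv5 D4757)) (tt N6801 D10461) (tt N5688 (iv7 F13339)))
theorem Q3206 : ∀ i, i < 3206 → P i := stepQ 3205 Q3205 (allL N3205 (tt N5738 F13278) (tt N6802 D10466) (tt N6787 (iv2 F16627)) (tt N1451 F6867) (tt N6803 D10467) (tt N1450 (iv5 D4759)) (tt N6804 D10468) (tt N6805 D10469))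
theorem Q3207 : ∀ i, i < 3207 → P i := stepQ 3206 Q3206 (allL N3206 (tt N4156 F9628) (tt N4165 (iv0 F9666)) (tt N2813 F6869) (tt N1452 F6870) (tt N2813 F6871) (tt N6805 (iv5 F16672)) (tt N6806 D10470) (tt N1450 (iv7 D4761)))
theorem Q3208 : ∀ i, i < 3208 → P i := stepQ 3207 Q3207 (allL N3207 (tt N1460 (iv1 F6877)) (tt N1451 (iv0 D4762)) (tt N5775 (iv2 F13370)) (tt N6149 (iv3 F13961)) (tt N6807 D10471) (tt N2982 F6937) (tt N6808 D10472) (tt N6259 (iv7 F14277)))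
theorem Q3209 : ∀ i, i < 3209 → P i := stepQ 3208 Q3208 (allL N3208 (tt N1451 (iv1 D4763)) (tt N1460 F6874) (tt N6259 (iv2 F14275)) (tt N2627 F12105) (tt N6809 D10473) (tt N2625 (iv5 F12103)) (tt N6810 D10474) (tt N5775 (iv7 F13366)))
theorem Q3210 : ∀ i, i < 3210 → P i := stepQ 3209 Q3209 (allL N3209 (tt N5388 (iv1 F12361)) (tt N5400 F12384) (tt N5396 (iv2 F12380)) (tt N6811 D10475) (tt N1451 (iv4 D4764)) (tt N5919 F13570) (tt N6812 D10476) (tt N5395 F12377))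
theorem Q3211 : ∀ i, i < 3211 → P i := stepQ 3210 Q3210 (allL N3210 (tt N6813 D10477) (tt N5761 F296259) (tt N6784 (iv2 F16612)) (tt N6804 (iv3 F16668)) (tt N6812 (iv4 F16687)) (tt N3210 F7220) (tt N1451 (iv6 D4765)) (tt N6814 D10479))
theorem Q3212 : ∀ i, i < 3212 → P i := stepQ 3211 Q3211 (allL N3211 (tt N6259 (iv1 F14279)) (tt N5775 (iv0 F13371)) (tt N1460 F6875) (tt N6805 (iv3 F16671)) (tt N5395 (iv4 F12375)) (tt N1452 F6876) (tt N5726 F295925) (tt N1451 (iv7 D4766)))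
theorem Q3213 : ∀ i, i < 3213 → P i := stepQ 3212 Q3212 (allL N3212 (tt N3229 (iv1 F7166)) (tt N3228 F7165) (tt N1461 F6879) (tt N6806 (iv3 F16675)) (tt N1455 F6880) (tt N5727 F295691) (tt N1452 (iv6 D4771)) (tt N3212 F7163))
theorem Q3214 : ∀ i, i < 3214 → P i := stepQ 3213 Q3213 (allL N3213 (tt N1462 (iv1 F6887)) (tt N1453 (iv0 D4782)) (tt N6287 F14367) (tt N6815 D10482) (tt N2983 (iv4 F6920)) (tt N6816 D10483) (tt N6817 D10484) (tt N6286 F14363))
theorem Q3215 : ∀ i, i < 3215 → P i := stepQ 3214 Q3214 (allL N3214 (tt N1453 (iv1 D4783)) (tt N1462 F6883) (tt N6286 F14362) (tt N6818 D10485) (tt N6158 F13999) (tt N6819 D10486) (tt N6820 D10487) (tt N6287 (iv7 F14365)))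
theorem Q3216 : ∀ i, i < 3216 → P i := stepQ 3215 Q3215 (allL N3215 (tt N5832 F13279) (tt N6821 D10488) (tt N6822 D10489) (tt N1453 (iv3 D4784)) (tt N6791 (iv4 F16636)) (tt N5970 F13630) (tt N6823 D10490) (tt N6288 (iv7 F14368)))
theorem Q3217 : ∀ i, i < 3217 → P i := stepQ 3216 Q3216 (allL N3216 (tt N6824 D10491) (tt N6825 D10492) (tt N6295 (iv2 F14392)) (tt N5970 (iv3 F13629)) (tt N5920 F13563) (tt N1453 (iv5 D4785)) (tt N6826 D10493) (tt N6289 (iv7 F14370)))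
theorem Q3218 : ∀ i, i < 3218 → P i := stepQ 3217 Q3217 (allL N3217 (tt N6827 D10494) (tt N6828 D10495) (tt N6296 (iv2 F14394)) (tt N6823 (iv3 F16697)) (tt N1454 F6884) (tt N6829 D10496) (tt N1453 (iv6 D4786)) (tt N6830 D10497))
theorem Q3219 : ∀ i, i < 3219 → P i := stepQ 3218 Q3218 (allL N3218 (tt N6298 (iv1 F14402)) (tt N1454 (iv0 D4788)) (tt N3140 F65753) (tt N3218 F65781) (tt N6831 D10500) (tt N6832 D10501) (tt N6833 D10502) (tt N6297 F35517))
theorem Q3220 : ∀ i, i < 3220 → P i := stepQ 3219 Q3219 (allL N3219 (tt N6297 (iv1 F14396)) (tt N3140 F65750) (tt N6298 (iv2 F14397)) (tt N6796 (iv3 F16644)) (tt N6830 (iv4 F16702)) (tt N3219 F7154) (tt N3069 (iv6 F292130)) (tt N1454 (iv7 D4791)))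
theorem Q3221 : ∀ i, i < 3221 → P i := stepQ 3220 Q3220 (allL N3220 (tt N3045 (iv1 F7293)) (tt N3038 F7306) (tt N1457 F6900) (tt N6283 (iv3 F14348)) (tt N6374 (iv4 F14575)) (tt N1456 (iv5 D4811)) (tt N6834 D10509) (tt N6291 (iv7 F14383)))
theorem Q3222 : ∀ i, i < 3222 → P i := stepQ 3221 Q3221 (allL N3221 (tt N3112 (iv1 F17385)) (tt N3110 (iv0 F17386)) (tt N1458 F6902) (tt N6705 (iv3 F16193)) (tt N1458 F6903) (tt N5868 (iv5 F293291)) (tt N1456 (iv6 D4812)) (tt N3221 F7157))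
theorem Q3223 : ∀ i, i < 3223 → P i := stepQ 3222 Q3222 (allL N3222 (tt N3047 F7308) (tt N3039 (iv0 F7285)) (tt N6374 F14576) (tt N6835 D10511) (tt N1457 (iv4 D4815)) (tt N6836 D10512) (tt N6837 D10513) (tt N6292 (iv7 F14386)))
theorem Q3224 : ∀ i, i < 3224 → P i := stepQ 3223 Q3223 (allL N3223 (tt N6838 D10514) (tt N6839 D10515) (tt N6834 (iv2 F16707)) (tt N1463 F6961) (tt N6837 (iv4 F16713)) (tt N6397 F291985) (tt N1457 (iv6 D4816)) (tt N6447 F291986))
theorem Q3225 : ∀ i, i < 3225 → P i := stepQ 3224 Q3224 (allL N3224 (tt N5755 (iv1 F13142)) (tt N2567 F7022) (tt N2814 F6964) (tt N1460 F6965) (tt N6840 D10531) (tt N1459 (iv5 D4821)) (tt N6694 F295776) (tt N2812 F6966))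
theorem Q3226 : ∀ i, i < 3226 → P i := stepQ 3225 Q3225 (allL N3225 (tt N5781 (iv1 F17404)) (tt N2676 (iv0 F17405)) (tt N2815 F6967) (tt N1461 F6968) (tt N6705 (iv4 F16194)) (tt N6695 F295648) (tt N1459 (iv6 D4822)) (tt N3225 F7150))
theorem Q3227 : ∀ i, i < 3227 → P i := stepQ 3226 Q3226 (allL N3226 (tt N5400 (iv1 F12385)) (tt N5388 (iv0 F12360)) (tt N5395 F12376) (tt N6841 D10534) (tt N1460 (iv4 D4823)) (tt N5920 (iv5 F13561)) (tt N6842 D10535) (tt N5396 (iv7 F12378)))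
theorem Q3228 : ∀ i, i < 3228 → P i := stepQ 3227 Q3227 (allL N3227 (tt N2560 (iv1 F295878)) (tt N5749 (iv0 F295879)) (tt N5726 (iv2 F295876)) (tt N6694 (iv3 F295734)) (tt N6842 (iv4 F16733)) (tt N2799 F295729) (tt N1460 (iv6 D4824)) (tt N5728 (iv7 F295880)))
theorem Q3229 : ∀ i, i < 3229 → P i := stepQ 3228 Q3228 (allL N3228 (tt N3212 (iv1 F7165)) (tt N1461 (iv0 D4825)) (tt N3229 F17434) (tt N2675 (iv3 F17432)) (tt N5868 (iv4 F17433)) (tt N2677 (iv5 F295784)) (tt N6843 D10544) (tt N3228 F17435))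
theorem Q3230 : ∀ i, i < 3230 → P i := stepQ 3229 Q3229 (allL N3229 (tt N1461 (iv1 D4826)) (tt N3212 F7166) (tt N3228 (iv2 F17434)) (tt N3186 (iv3 F17436)) (tt N3111 (iv4 F17438)) (tt N5782 (iv5 F295635)) (tt N6266 (iv6 F17027)) (tt N3229 F17431))
theorem Q3231 : ∀ i, i < 3231 → P i := stepQ 3230 Q3230 (allL N3230 (tt N2677 (iv1 F295633)) (tt N5782 (iv0 F295634)) (tt N5727 (iv2 F295636)) (tt N6695 (iv3 F295528)) (tt N5848 (iv4 F295639)) (tt N1461 (iv5 D4827)) (tt N2799 (iv6 F295640)) (tt N3230 F7164))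
theorem Q3232 : ∀ i, i < 3232 → P i := stepQ 3231 Q3231 (allL N3231 (tt N6844 D10549) (tt N6845 D10550) (tt N6846 D10551) (tt N1462 (iv3 D4829)) (tt N6835 (iv4 F16710)) (tt N6847 D10552) (tt N6848 D10553) (tt N6294 (iv7 F14391)))
theorem Q3233 : ∀ i, i < 3233 → P i := stepQ 3232 Q3232 (allL N3232 (tt N6825 (iv1 F16700)) (tt N6824 F16699) (tt N6289 (iv2 F14369)) (tt N6847 (iv3 F17032)) (tt N5919 (iv4 F13569)) (tt N1462 (iv5 D4830)) (tt N6849 D10554) (tt N6295 (iv7 F14393)))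
theorem Q3234 : ∀ i, i < 3234 → P i := stepQ 3233 Q3233 (allL N3233 (tt N6850 D10555) (tt N6851 D10556) (tt N6290 (iv2 F14371)) (tt N6848 (iv3 F17033)) (tt N1463 F6970) (tt N6852 D10557) (tt N1462 (iv6 D4831)) (tt N6449 F293701))
theorem Q3235 : ∀ i, i < 3235 → P i := stepQ 3234 Q3234 (allL N3234 (tt N1463 (iv1 D4833)) (tt N3069 (iv0 F292129)) (tt N3071 (iv2 F292704)) (tt N3234 F62161) (tt N6853 D10566) (tt N2979 (iv5 F292194)) (tt N6854 D10568) (tt N3052 F291859))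
theorem Q3236 : ∀ i, i < 3236 → P i := stepQ 3235 Q3235 (allL N3235 (tt N3082 (iv1 F7243)) (tt N3086 F7310) (tt N6487 (iv2 F15051)) (tt N1465 (iv3 D4850)) (tt N6517 (iv4 F15174)) (tt N2905 (iv5 F6999)) (tt N6855 D10600) (tt N1472 (iv7 F7107)))
theorem Q3237 : ∀ i, i < 3237 → P i := stepQ 3236 Q3236 (allL N3236 (tt N6856 D10601) (tt N6409 (iv0 F14654)) (tt N1470 F7092) (tt N6857 D10602) (tt N1465 (iv4 D4851)) (tt N6858 D10603) (tt N6859 D10604) (tt N1473 (iv7 F7096)))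
theorem Q3238 : ∀ i, i < 3238 → P i := stepQ 3237 Q3237 (allL N3237 (tt N3318 F65658) (tt N6860 D10606) (tt N1471 F7099) (tt N6855 (iv3 F17107)) (tt N6859 (iv4 F17118)) (tt N6511 (iv5 F291525)) (tt N1465 (iv6 D4853)) (tt N6545 (iv7 F291344)))
theorem Q3239 : ∀ i, i < 3239 → P i := stepQ 3238 Q3238 (allL N3238 (tt N3122 (iv1 F7336)) (tt N6570 (iv0 F15464)) (tt N6706 F16199) (tt N1466 (iv3 D4855)) (tt N2888 F6980) (tt N2912 F6991) (tt N6861 D10609) (tt N1469 F7103))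
theorem Q3240 : ∀ i, i < 3240 → P i := stepQ 3239 Q3239 (allL N3239 (tt N6409 (iv1 F14655)) (tt N6856 F17110) (tt N1473 (iv2 F7095)) (tt N6862 D10610) (tt N1466 (iv4 D4856)) (tt N6863 D10611) (tt N6864 D10612) (tt N1470 (iv7 F7091)))
theorem Q3241 : ∀ i, i < 3241 → P i := stepQ 3240 Q3240 (allL N3240 (tt N6395 F291765) (tt N3332 F62708) (tt N1474 (iv2 F7109)) (tt N6861 (iv3 F17128)) (tt N6864 (iv4 F17139)) (tt N6620 F291766) (tt N1466 (iv6 D4858)) (tt N6436 (iv7 F292296)))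
theorem Q3242 : ∀ i, i < 3242 → P i := stepQ 3241 Q3241 (allL N3241 (tt N1480 (iv1 F7005)) (tt N1467 (iv0 D4859)) (tt N1475 F12311) (tt N6865 D10617) (tt N2881 (iv4 F7006)) (tt N6866 D10618) (tt N6867 D10619) (tt N1476 F12312))
theorem Q3243 : ∀ i, i < 3243 → P i := stepQ 3242 Q3242 (allL N3242 (tt N1467 (iv1 D4860)) (tt N1480 F7028) (tt N1476 F12313) (tt N6868 D10620) (tt N6496 (iv4 F15123)) (tt N6869 D10621) (tt N6870 D10622) (tt N1475 F12314))
theorem Q3244 : ∀ i, i < 3244 → P i := stepQ 3243 Q3243 (allL N3243 (tt N6871 D10623) (tt N6872 D10624) (tt N6873 D10625) (tt N1467 (iv3 D4861)) (tt N3243 F7029) (tt N6874 D10626) (tt N6875 D10627) (tt N6778 (iv7 F16598)))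
theorem Q3245 : ∀ i, i < 3245 → P i := stepQ 3244 Q3244 (allL N3244 (tt N6303 (iv1 F14411)) (tt N6300 (iv0 F14405)) (tt N1478 F7030) (tt N6874 (iv3 F17167)) (tt N5923 (iv4 F13574)) (tt N1467 (iv5 D4862)) (tt N6876 D10628) (tt N5921 (iv7 F13567)))
theorem Q3246 : ∀ i, i < 3246 → P i := stepQ 3245 Q3245 (allL N3245 (tt N6877 D10629) (tt N6878 D10630) (tt N1479 F7031) (tt N6875 (iv3 F17168)) (tt N1468 F7032) (tt N6879 D10631) (tt N1467 (iv6 D4863)) (tt N6880 D10632))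
theorem Q3247 : ∀ i, i < 3247 → P i := stepQ 3246 Q3246 (allL N3246 (tt N1483 (iv1 F7036)) (tt N1468 (iv0 D4864)) (tt N1481 F17351) (tt N6881 D10634) (tt N6882 D10635) (tt N6883 D10636) (tt N3297 F7350) (tt N1482 F17352))
theorem Q3248 : ∀ i, i < 3248 → P i := stepQ 3247 Q3247 (allL N3247 (tt N1468 (iv1 D4865)) (tt N1483 F7033) (tt N1482 (iv2 F17346)) (tt N6884 D10638) (tt N6885 D10639) (tt N3294 (iv5 F7348)) (tt N6886 D10640) (tt N1481 (iv7 F17350)))
theorem Q3249 : ∀ i, i < 3249 → P i := stepQ 3248 Q3248 (allL N3248 (tt N1482 (iv1 F7037)) (tt N1481 F7038) (tt N1483 F7034) (tt N3248 F7035) (tt N6880 (iv4 F17174)) (tt N6282 (iv5 F14344)) (tt N6782 (iv6 F16607)) (tt N1468 (iv7 D4866)))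
theorem Q3250 : ∀ i, i < 3250 → P i := stepQ 3249 Q3249 (allL N3249 (tt N6570 F15466) (tt N3122 F7335) (tt N1469 (iv2 D4875)) (tt N6487 (iv3 F15052)) (tt N2887 (iv4 F7234)) (tt N2909 F7235) (tt N6887 D10641) (tt N6706 (iv7 F16201)))
theorem Q3251 : ∀ i, i < 3251 → P i := stepQ 3250 Q3250 (allL N3250 (tt N1477 F7047) (tt N2879 (iv0 F7324)) (tt N2887 F7233) (tt N6888 D10642) (tt N1469 (iv4 D4876)) (tt N6889 D10643) (tt N6890 D10644) (tt N2888 F7232))
theorem Q3252 : ∀ i, i < 3252 → P i := stepQ 3251 Q3251 (allL N3251 (tt N6891 D10645) (tt N6892 D10646) (tt N6887 (iv2 F17182)) (tt N1471 F7087) (tt N6890 (iv4 F17190)) (tt N6541 (iv5 F291607)) (tt N1469 (iv6 D4878)) (tt N6893 D10648))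
theorem Q3253 : ∀ i, i < 3253 → P i := stepQ 3252 Q3252 (allL N3252 (tt N1473 (iv1 F7094)) (tt N1470 (iv0 D4880)) (tt N6856 F17109) (tt N6894 D10649) (tt N3056 F7089) (tt N6824 (iv5 F16698)) (tt N6895 D10650) (tt N6409 (iv7 F14653)))
theorem Q3254 : ∀ i, i < 3254 → P i := stepQ 3253 Q3253 (allL N3253 (tt N1470 (iv1 D4881)) (tt N1473 F7238) (tt N6409 (iv2 F14652)) (tt N6896 D10651) (tt N6157 (iv4 F13992)) (tt N6825 (iv5 F16701)) (tt N6897 D10652) (tt N6856 (iv7 F17111)))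
theorem Q3255 : ∀ i, i < 3255 → P i := stepQ 3254 Q3254 (allL N3254 (tt N5971 F13631) (tt N6898 D10653) (tt N6899 D10654) (tt N1470 (iv3 D4882)) (tt N6888 (iv4 F17184)) (tt N6900 D10655) (tt N6901 D10656) (tt N6862 (iv7 F17131)))
theorem Q3256 : ∀ i, i < 3256 → P i := stepQ 3255 Q3255 (allL N3255 (tt N6902 D10657) (tt N6903 D10658) (tt N6858 (iv2 F17113)) (tt N6900 (iv3 F17198)) (tt N5912 (iv4 F13552)) (tt N1470 (iv5 D4883)) (tt N6904 D10659) (tt N6863 (iv7 F17135)))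
theorem Q3257 : ∀ i, i < 3257 → P i := stepQ 3256 Q3256 (allL N3256 (tt N6905 D10660) (tt N6906 D10661) (tt N6859 (iv2 F17117)) (tt N6901 (iv3 F17205)) (tt N1471 F7239) (tt N6907 D10662) (tt N1470 (iv6 D4884)) (tt N6908 D10663))
theorem Q3258 : ∀ i, i < 3258 → P i := stepQ 3257 Q3257 (allL N3257 (tt N6545 (iv1 F291343)) (tt N1471 (iv0 D4885)) (tt N3318 F65665) (tt N3257 F65671) (tt N6909 D10666) (tt N6910 D10667) (tt N6911 D10668) (tt N6860 (iv7 F35518)))
theorem Q3259 : ∀ i, i < 3259 → P i := stepQ 3258 Q3258 (allL N3258 (tt N1471 (iv1 D4886)) (tt N6545 (iv0 F291342)) (tt N6860 F35526) (tt N1492 (iv3 F65668)) (tt N6912 D10671) (tt N6913 D10672) (tt N6914 D10673) (tt N3318 F65659))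
theorem Q3260 : ∀ i, i < 3260 → P i := stepQ 3259 Q3259 (allL N3259 (tt N6860 (iv1 F17120)) (tt N3318 (iv0 F65657)) (tt N6545 F292103) (tt N6893 (iv3 F17193)) (tt N6908 (iv4 F17214)) (tt N6512 F292104) (tt N6436 (iv6 F292295)) (tt N1471 (iv7 D4888)))
theorem Q3261 : ∀ i, i < 3261 → P i := stepQ 3260 Q3260 (allL N3260 (tt N3086 (iv1 F7244)) (tt N3082 (iv0 F7242)) (tt N1472 (iv2 D4889)) (tt N6706 (iv3 F16198)) (tt N6518 (iv4 F15180)) (tt N2922 F7241) (tt N6915 D10678) (tt N6487 (iv7 F15053)))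
theorem Q3262 : ∀ i, i < 3262 → P i := stepQ 3261 Q3261 (allL N3261 (tt N2997 F7311) (tt N2994 F7312) (tt N6518 F15181) (tt N6916 D10679) (tt N1472 (iv4 D4890)) (tt N6917 D10680) (tt N6918 D10681) (tt N6517 F15177))
theorem Q3263 : ∀ i, i < 3263 → P i := stepQ 3262 Q3262 (allL N3262 (tt N6919 D10682) (tt N6920 D10683) (tt N6915 (iv2 F17221)) (tt N1474 F7313) (tt N6918 (iv4 F17225)) (tt N6921 D10684) (tt N1472 (iv6 D4891)) (tt N6922 D10685))
theorem Q3264 : ∀ i, i < 3264 → P i := stepQ 3263 Q3263 (allL N3263 (tt N6923 D10686) (tt N6924 D10687) (tt N6925 D10688) (tt N1473 (iv3 D4892)) (tt N6916 (iv4 F17222)) (tt N6926 D10689) (tt N6927 D10690) (tt N6857 (iv7 F17112)))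
theorem Q3265 : ∀ i, i < 3265 → P i := stepQ 3264 Q3264 (allL N3264 (tt N6903 (iv1 F17210)) (tt N6902 F17207) (tt N6863 (iv2 F17133)) (tt N6926 (iv3 F17231)) (tt N5909 (iv4 F13549)) (tt N1473 (iv5 D4893)) (tt N6928 D10691) (tt N6858 (iv7 F17114)))
theorem Q3266 : ∀ i, i < 3266 → P i := stepQ 3265 Q3265 (allL N3265 (tt N6929 D10692) (tt N6930 D10693) (tt N6864 (iv2 F17138)) (tt N6927 (iv3 F17232)) (tt N1474 F7314) (tt N6931 D10694) (tt N1473 (iv6 D4894)) (tt N6932 D10695))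
theorem Q3267 : ∀ i, i < 3267 → P i := stepQ 3266 Q3266 (allL N3266 (tt N1474 (iv1 D4896)) (tt N6436 (iv0 F292293)) (tt N3332 (iv2 F62697)) (tt N3266 F62162) (tt N6933 D10703) (tt N6396 F291443) (tt N6934 D10705) (tt N6395 F291444))
theorem Q3268 : ∀ i, i < 3268 → P i := stepQ 3267 Q3267 (allL N3267 (tt N6935 D10706) (tt N6936 D10707) (tt N6620 F292093) (tt N6921 (iv3 F17226)) (tt N6937 D10708) (tt N1474 (iv5 D4897)) (tt N2927 F7315) (tt N6938 D10709))
theorem Q3269 : ∀ i, i < 3269 → P i := stepQ 3268 Q3268 (allL N3268 (tt N3332 F62709) (tt N6395 F291879) (tt N6436 (iv2 F292294)) (tt N6922 (iv3 F17228)) (tt N6932 (iv4 F17233)) (tt N6938 (iv5 F17239)) (tt N6545 F291880) (tt N1474 (iv7 D4898)))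
theorem Q3270 : ∀ i, i < 3270 → P i := stepQ 3269 Q3269 (allL N3269 (tt N6939 D10710) (tt N6940 D10711) (tt N6941 D10712) (tt N1475 (iv3 D4900)) (tt N6942 D10713) (tt N6943 D10714) (tt N6944 D10715) (tt N6868 (iv7 F17156)))
theorem Q3271 : ∀ i, i < 3271 → P i := stepQ 3270 Q3270 (allL N3270 (tt N5849 (iv1 F13382)) (tt N2996 F7318) (tt N2881 F12315) (tt N6364 (iv3 F14543)) (tt N1475 (iv4 D4901)) (tt N2490 F7317) (tt N6945 D10716) (tt N6496 (iv7 F15120)))
theorem Q3272 : ∀ i, i < 3272 → P i := stepQ 3271 Q3271 (allL N3271 (tt N6946 D10717) (tt N2939 F7319) (tt N6866 (iv2 F17150)) (tt N6943 (iv3 F17242)) (tt N5902 (iv4 F13545)) (tt N1475 (iv5 D4902)) (tt N6947 D10718) (tt N6869 (iv7 F17158)))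
theorem Q3273 : ∀ i, i < 3273 → P i := stepQ 3272 Q3272 (allL N3272 (tt N6909 (iv1 F66059)) (tt N6912 (iv0 F66060)) (tt N6867 (iv2 F17154)) (tt N6944 (iv3 F17243)) (tt N6945 (iv4 F17245)) (tt N6948 D10721) (tt N1475 (iv6 D4903)) (tt N6949 D10722))
theorem Q3274 : ∀ i, i < 3274 → P i := stepQ 3273 Q3273 (allL N3273 (tt N6950 D10723) (tt N6951 D10724) (tt N6952 D10725) (tt N1476 (iv3 D4905)) (tt N6953 D10726) (tt N6954 D10727) (tt N6955 D10728) (tt N6865 (iv7 F17149)))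
theorem Q3275 : ∀ i, i < 3275 → P i := stepQ 3274 Q3274 (allL N3274 (tt N2996 (iv1 F12316)) (tt N5849 (iv0 F13380)) (tt N6496 (iv2 F15118)) (tt N1500 (iv3 F7322)) (tt N1476 (iv4 D4906)) (tt N2494 F7321) (tt N6956 D10729) (tt N2881 F12310))
theorem Q3276 : ∀ i, i < 3276 → P i := stepQ 3275 Q3275 (allL N3275 (tt N2939 F7327) (tt N6946 F17249) (tt N6869 (iv2 F17157)) (tt N6954 (iv3 F17253)) (tt N5892 (iv4 F13539)) (tt N1476 (iv5 D4907)) (tt N6957 D10730) (tt N6866 (iv7 F17151)))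
theorem Q3277 : ∀ i, i < 3277 → P i := stepQ 3276 Q3276 (allL N3276 (tt N6437 F292524) (tt N6933 F62714) (tt N6870 (iv2 F17161)) (tt N6955 (iv3 F17255)) (tt N6956 (iv4 F17257)) (tt N6958 D10733) (tt N1476 (iv6 D4908)) (tt N6959 D10734))
theorem Q3278 : ∀ i, i < 3278 → P i := stepQ 3277 Q3277 (allL N3277 (tt N2879 (iv1 F7329)) (tt N1477 (iv0 D4909)) (tt N2888 (iv2 F7328)) (tt N6960 D10735) (tt N6706 (iv4 F16197)) (tt N6961 D10736) (tt N6962 D10737) (tt N2887 F7330))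
theorem Q3279 : ∀ i, i < 3279 → P i := stepQ 3278 Q3278 (allL N3278 (tt N2888 (iv1 F7334)) (tt N2887 F7333) (tt N1477 (iv2 D4910)) (tt N6873 (iv3 F17163)) (tt N1502 F7331) (tt N6963 D10738) (tt N6964 D10739) (tt N2879 F7332))
theorem Q3280 : ∀ i, i < 3280 → P i := stepQ 3279 Q3279 (allL N3279 (tt N6965 D10740) (tt N6792 (iv0 F16641)) (tt N6963 (iv2 F17263)) (tt N1478 F7338) (tt N6966 D10741) (tt N1477 (iv5 D4911)) (tt N6967 D10742) (tt N2889 F7339))
theorem Q3281 : ∀ i, i < 3281 → P i := stepQ 3280 Q3280 (allL N3280 (tt N6968 D10743) (tt N6969 D10744) (tt N6964 (iv2 F17268)) (tt N1479 F7340) (tt N1503 F7341) (tt N6970 D10745) (tt N1477 (iv6 D4912)) (tt N6971 D10746))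
theorem Q3282 : ∀ i, i < 3282 → P i := stepQ 3281 Q3281 (allL N3281 (tt N5921 F13568) (tt N1478 (iv0 D4913)) (tt N6303 (iv2 F14408)) (tt N6972 D10747) (tt N5870 (iv4 F13498)) (tt N5853 (iv5 F13392)) (tt N6973 D10748) (tt N6300 (iv7 F14404)))
theorem Q3283 : ∀ i, i < 3283 → P i := stepQ 3282 Q3282 (allL N3282 (tt N1478 (iv1 D4914)) (tt N5921 (iv0 F13566)) (tt N6300 (iv2 F14403)) (tt N6974 D10749) (tt N5860 (iv4 F13494)) (tt N5866 F13493) (tt N6975 D10750) (tt N6303 (iv7 F14409)))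
theorem Q3284 : ∀ i, i < 3284 → P i := stepQ 3283 Q3283 (allL N3283 (tt N5920 (iv1 F13560)) (tt N5919 (iv0 F13571)) (tt N5923 (iv2 F13573)) (tt N6976 D10751) (tt N1478 (iv4 D4915)) (tt N5841 (iv5 F13299)) (tt N6977 D10752) (tt N5881 (iv7 F13523)))
theorem Q3285 : ∀ i, i < 3285 → P i := stepQ 3284 Q3284 (allL N3284 (tt N6978 D10753) (tt N6979 D10754) (tt N6876 (iv2 F17170)) (tt N6967 (iv3 F17277)) (tt N6977 (iv4 F17285)) (tt N6980 D10755) (tt N1478 (iv6 D4916)) (tt N6981 D10756))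
theorem Q3286 : ∀ i, i < 3286 → P i := stepQ 3285 Q3285 (allL N3285 (tt N6300 (iv1 F14406)) (tt N6303 (iv0 F14410)) (tt N5921 (iv2 F13564)) (tt N2889 F7342) (tt N5881 (iv4 F13524)) (tt N1480 F7343) (tt N6982 D10757) (tt N1478 (iv7 D4917)))
theorem Q3287 : ∀ i, i < 3287 → P i := stepQ 3286 Q3286 (allL N3286 (tt N6880 (iv1 F17178)) (tt N1479 (iv0 D4918)) (tt N6877 (iv2 F31062)) (tt N6983 D10759) (tt N6984 D10760) (tt N6985 D10761) (tt N6986 D10762) (tt N6878 (iv7 F31065)))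
theorem Q3288 : ∀ i, i < 3288 → P i := stepQ 3287 Q3287 (allL N3287 (tt N1479 (iv1 D4919)) (tt N6880 F17176) (tt N6878 (iv2 F31064)) (tt N6987 D10764) (tt N6988 D10765) (tt N6989 D10766) (tt N6990 D10767) (tt N6877 (iv7 F31063)))
theorem Q3289 : ∀ i, i < 3289 → P i := stepQ 3288 Q3288 (allL N3288 (tt N6991 D10768) (tt N6992 D10769) (tt N6879 (iv2 F17172)) (tt N6970 (iv3 F17278)) (tt N6993 D10770) (tt N1479 (iv5 D4920)) (tt N6980 (iv6 F17286)) (tt N6994 D10771))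
theorem Q3290 : ∀ i, i < 3290 → P i := stepQ 3289 Q3289 (allL N3289 (tt N6878 (iv1 F17171)) (tt N6877 F17175) (tt N6880 (iv2 F17173)) (tt N6971 (iv3 F17279)) (tt N1483 F7344) (tt N6994 (iv5 F17291)) (tt N6995 D10772) (tt N1479 (iv7 D4921)))
theorem Q3291 : ∀ i, i < 3291 → P i := stepQ 3290 Q3290 (allL N3290 (tt N6996 D10773) (tt N6997 D10774) (tt N6779 (iv2 F16599)) (tt N2890 F7345) (tt N1484 F7346) (tt N6998 D10775) (tt N1480 (iv6 D4922)) (tt N6995 (iv7 F17294)))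
theorem Q3292 : ∀ i, i < 3292 → P i := stepQ 3291 Q3291 (allL N3291 (tt N6999 D10782) (tt N6785 F63099) (tt N7000 D10784) (tt N1481 (iv3 D4924)) (tt N7001 D10785) (tt N7002 D10786) (tt N7003 D10787) (tt N6884 (iv7 F17347)))
theorem Q3293 : ∀ i, i < 3293 → P i := stepQ 3292 Q3292 (allL N3292 (tt N7004 D10789) (tt N6897 F35583) (tt N6882 (iv2 F17356)) (tt N7005 D10791) (tt N1481 (iv4 D4925)) (tt N7006 D10792) (tt N7007 D10793) (tt N6885 (iv7 F17349)))
theorem Q3294 : ∀ i, i < 3294 → P i := stepQ 3293 Q3293 (allL N3293 (tt N7008 D10795) (tt N7009 D10796) (tt N6883 (iv2 F17358)) (tt N7002 (iv3 F17308)) (tt N7010 D10797) (tt N1481 (iv5 D4926)) (tt N7011 D10798) (tt N3294 F17354))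
theorem Q3295 : ∀ i, i < 3295 → P i := stepQ 3294 Q3294 (allL N3294 (tt N6934 F35467) (tt N6458 F292993) (tt N3297 (iv2 F17353)) (tt N7003 (iv3 F17309)) (tt N7007 (iv4 F17313)) (tt N3247 F7348) (tt N1481 (iv6 D4927)) (tt N3293 (iv7 F17354)))
theorem Q3296 : ∀ i, i < 3296 → P i := stepQ 3295 Q3295 (allL N3295 (tt N6606 F63119) (tt N7012 D10805) (tt N7013 D10806) (tt N1482 (iv3 D4929)) (tt N7014 D10807) (tt N7015 D10808) (tt N7016 D10809) (tt N6881 (iv7 F17355)))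
theorem Q3297 : ∀ i, i < 3297 → P i := stepQ 3296 Q3296 (allL N3296 (tt N6897 F35584) (tt N7004 F17316) (tt N6885 (iv2 F17348)) (tt N7017 D10810) (tt N1482 (iv4 D4930)) (tt N7018 D10811) (tt N7019 D10812) (tt N6882 (iv7 F17357)))
theorem Q3298 : ∀ i, i < 3298 → P i := stepQ 3297 Q3297 (allL N3297 (tt N7009 (iv1 F17318)) (tt N7008 F17323) (tt N3294 F17353) (tt N7015 (iv3 F17331)) (tt N7020 D10813) (tt N1482 (iv5 D4931)) (tt N3246 (iv6 F7350)) (tt N6883 (iv7 F17359)))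
theorem Q3299 : ∀ i, i < 3299 → P i := stepQ 3298 Q3298 (allL N3298 (tt N6689 F65716) (tt N6911 (iv0 F17366)) (tt N6886 (iv2 F17345)) (tt N7016 (iv3 F17333)) (tt N7019 (iv4 F17334)) (tt N7021 D10816) (tt N1482 (iv6 D4932)) (tt N7021 F17340))
theorem Q3300 : ∀ i, i < 3300 → P i := stepQ 3299 Q3299 (allL N3299 (tt N6379 F290724) (tt N6780 F16608) (tt N6782 (iv2 F16605)) (tt N1515 F7351) (tt N6995 (iv4 F17293)) (tt N7022 D10817) (tt N1483 (iv6 D4933)) (tt N1484 F7352))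
theorem Q3301 : ∀ i, i < 3301 → P i := stepQ 3300 Q3300 (allL N3300 (tt N6782 (iv1 F16610)) (tt N1484 (iv0 D4934)) (tt N6780 (iv2 F66822)) (tt N7023 D10819) (tt N7024 D10820) (tt N6380 F290604) (tt N7025 D10822) (tt N6379 (iv7 F290673)))
theorem Q3302 : ∀ i, i < 3302 → P i := stepQ 3301 Q3301 (allL N3301 (tt N1484 (iv1 D4935)) (tt N6782 F16609) (tt N6379 F290744) (tt N7026 D10824) (tt N7027 D10825) (tt N3048 F290745) (tt N3049 (iv6 F291099)) (tt N6780 (iv7 F66823)))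
theorem Q3303 : ∀ i, i < 3303 → P i := stepQ 3302 Q3302 (allL N3302 (tt N7028 D10828) (tt N6435 (iv0 F290605)) (tt N6781 (iv2 F16602)) (tt N1516 F7353) (tt N7029 D10830) (tt N1484 (iv5 D4936)) (tt N1487 F7354) (tt N7022 (iv7 F17369)))
theorem Q3304 : ∀ i, i < 3304 → P i := stepQ 3303 Q3303 (allL N3303 (tt N6151 F15465) (tt N6571 F16938) (tt N6708 F16931) (tt N1485 (iv3 D4937)) (tt N5551 (iv4 F12782)) (tt N6618 (iv5 F292642)) (tt N2912 F7355) (tt N6328 (iv7 F14440)))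
theorem Q3305 : ∀ i, i < 3305 → P i := stepQ 3304 Q3304 (allL N3304 (tt N6260 F14284) (tt N5697 F14285) (tt N2926 F7356) (tt N7030 D10832) (tt N1485 (iv4 D4938)) (tt N7031 D10833) (tt N2918 F7357) (tt N6329 (iv7 F14444)))
theorem Q3306 : ∀ i, i < 3306 → P i := stepQ 3305 Q3305 (allL N3305 (tt N3083 (iv1 F16833)) (tt N3046 F14566) (tt N6372 F14564) (tt N1486 (iv3 D4940)) (tt N6372 (iv4 F14563)) (tt N6621 (iv5 F292645)) (tt N6481 (iv6 F17573)) (tt N2923 F7359))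
theorem Q3307 : ∀ i, i < 3307 → P i := stepQ 3306 Q3306 (allL N3306 (tt N5697 (iv1 F14286)) (tt N6260 (iv0 F14287)) (tt N6329 (iv2 F14442)) (tt N5714 (iv3 F13026)) (tt N1486 (iv4 D4941)) (tt N7032 D10837) (tt N6482 (iv6 F17563)) (tt N2926 F7360))
theorem Q3308 : ∀ i, i < 3308 → P i := stepQ 3307 Q3307 (allL N3307 (tt N1487 (iv1 D4944)) (tt N6247 (iv0 F14246)) (tt N6271 (iv2 F14322)) (tt N7033 D10840) (tt N7034 D10841) (tt N3031 F17502) (tt N7035 D10842) (tt N6250 (iv7 F14254)))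
theorem Q3309 : ∀ i, i < 3309 → P i := stepQ 3308 Q3308 (allL N3308 (tt N7036 D10843) (tt N7037 D10844) (tt N6783 (iv2 F16611)) (tt N7038 D10845) (tt N1487 (iv4 D4945)) (tt N7039 D10846) (tt N7029 (iv6 F17372)) (tt N6331 (iv7 F14451)))
theorem Q3310 : ∀ i, i < 3310 → P i := stepQ 3309 Q3309 (allL N3309 (tt N3325 (iv1 F7392)) (tt N3324 F7391) (tt N1489 F7368) (tt N7040 D10847) (tt N1488 (iv4 D4946)) (tt N7041 D10848) (tt N7042 D10849) (tt N3322 (iv7 F7386)))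
theorem Q3311 : ∀ i, i < 3311 → P i := stepQ 3310 Q3310 (allL N3310 (tt N7043 D10850) (tt N7044 D10851) (tt N1490 F7369) (tt N3310 F7370) (tt N7042 (iv4 F17642)) (tt N6561 (iv5 F293008)) (tt N1488 (iv6 D4947)) (tt N7045 D10853))
theorem Q3312 : ∀ i, i < 3312 → P i := stepQ 3311 Q3311 (allL N3311 (tt N3322 (iv1 F7388)) (tt N1489 (iv0 D4948)) (tt N3325 (iv2 F7396)) (tt N7046 D10854) (tt N5785 (iv4 F13246)) (tt N6672 (iv5 F16011)) (tt N7047 D10855) (tt N3324 F7397))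
theorem Q3313 : ∀ i, i < 3313 → P i := stepQ 3312 Q3312 (allL N3312 (tt N1489 (iv1 D4949)) (tt N3322 (iv0 F7387)) (tt N3324 F7395) (tt N7048 D10856) (tt N3053 (iv4 F7371)) (tt N6673 (iv5 F16012)) (tt N7049 D10857) (tt N3325 (iv7 F7394)))
theorem Q3314 : ∀ i, i < 3314 → P i := stepQ 3313 Q3313 (allL N3313 (tt N6759 (iv1 F16456)) (tt N6762 (iv0 F16462)) (tt N7041 (iv2 F17638)) (tt N3326 (iv3 F7398)) (tt N7050 D10858) (tt N1489 (iv5 D4950)) (tt N7051 D10859) (tt N3326 (iv7 F7399)))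
theorem Q3315 : ∀ i, i < 3315 → P i := stepQ 3314 Q3314 (allL N3314 (tt N7052 D10860) (tt N7053 D10861) (tt N7042 (iv2 F17641)) (tt N3327 (iv3 F7400)) (tt N1490 F7372) (tt N7054 D10862) (tt N1489 (iv6 D4951)) (tt N7055 D10863))
theorem Q3316 : ∀ i, i < 3316 → P i := stepQ 3315 Q3315 (allL N3315 (tt N7045 (iv1 F17652)) (tt N1490 (iv0 D4952)) (tt N7043 F63377) (tt N7056 D10865) (tt N7057 D10866) (tt N7058 D10867) (tt N7059 D10868) (tt N7044 (iv7 F63389)))
theorem Q3317 : ∀ i, i < 3317 → P i := stepQ 3316 Q3316 (allL N3316 (tt N1490 (iv1 D4953)) (tt N7045 F17651) (tt N7044 (iv2 F63388)) (tt N7060 D10870) (tt N7061 D10871) (tt N7062 D10872) (tt N7063 D10873) (tt N7043 F63383))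
theorem Q3318 : ∀ i, i < 3318 → P i := stepQ 3317 Q3317 (allL N3317 (tt N7044 (iv1 F17644)) (tt N7043 F17650) (tt N7045 (iv2 F17648)) (tt N1493 F7375) (tt N7055 (iv4 F17655)) (tt N3073 F293743) (tt N3331 (iv6 F7405)) (tt N1490 (iv7 D4955)))
theorem Q3319 : ∀ i, i < 3319 → P i := stepQ 3318 Q3318 (allL N3318 (tt N3259 F65657) (tt N3237 (iv0 F65658)) (tt N3257 (iv2 F65665)) (tt N1491 (iv3 D4957)) (tt N7064 D10881) (tt N7065 D10882) (tt N6146 F293747) (tt N3258 (iv7 F65659)))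
theorem Q3320 : ∀ i, i < 3320 → P i := stepQ 3319 Q3319 (allL N3319 (tt N6354 F14496) (tt N3076 F292944) (tt N3319 F15373) (tt N7065 (iv3 F17664)) (tt N3334 F292945) (tt N1491 (iv5 D4959)) (tt N2951 F291315) (tt N3320 F15371))
theorem Q3321 : ∀ i, i < 3321 → P i := stepQ 3320 Q3320 (allL N3320 (tt N3076 F292134) (tt N6354 (iv0 F14505)) (tt N3320 F15372) (tt N6913 F65696) (tt N3335 (iv4 F292966)) (tt N1492 (iv5 D4963)) (tt N6130 F291867) (tt N3319 (iv7 F15371)))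
theorem Q3322 : ∀ i, i < 3322 → P i := stepQ 3321 Q3321 (allL N3321 (tt N1506 (iv1 F291212)) (tt N3351 F290965) (tt N3321 F15369) (tt N6914 F65697) (tt N3074 F14811) (tt N6131 F292204) (tt N1492 (iv6 D4964)) (tt N3350 (iv7 F291211)))
theorem Q3323 : ∀ i, i < 3323 → P i := stepQ 3322 Q3322 (allL N3322 (tt N3312 F7387) (tt N3311 F7388) (tt N1495 F7385) (tt N7066 D10901) (tt N1494 (iv4 D4969)) (tt N7067 D10902) (tt N7068 D10903) (tt N3309 F7386))
theorem Q3324 : ∀ i, i < 3324 → P i := stepQ 3323 Q3323 (allL N3323 (tt N7069 D10904) (tt N7070 D10905) (tt N1496 F7389) (tt N3323 F7390) (tt N7068 (iv4 F17710)) (tt N7071 D10906) (tt N1494 (iv6 D4970)) (tt N7072 D10907))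
theorem Q3325 : ∀ i, i < 3325 → P i := stepQ 3324 Q3324 (allL N3324 (tt N3309 (iv1 F7391)) (tt N1495 (iv0 D4971)) (tt N3312 (iv2 F7395)) (tt N7073 D10908) (tt N6171 (iv4 F14083)) (tt N6764 (iv5 F16465)) (tt N7074 D10909) (tt N3311 (iv7 F7397)))
theorem Q3326 : ∀ i, i < 3326 → P i := stepQ 3325 Q3325 (allL N3325 (tt N1495 (iv1 D4972)) (tt N3309 F7392) (tt N3311 F7396) (tt N7075 D10910) (tt N2993 (iv4 F7393)) (tt N6765 (iv5 F16471)) (tt N7076 D10911) (tt N3312 F7394))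
theorem Q3327 : ∀ i, i < 3327 → P i := stepQ 3326 Q3326 (allL N3326 (tt N6667 (iv1 F16007)) (tt N6670 (iv0 F16009)) (tt N7067 (iv2 F17704)) (tt N3313 F7398) (tt N7077 D10912) (tt N1495 (iv5 D4973)) (tt N7078 D10913) (tt N3313 F7399))
theorem Q3328 : ∀ i, i < 3328 → P i := stepQ 3327 Q3327 (allL N3327 (tt N7079 D10914) (tt N7080 D10915) (tt N7068 (iv2 F17709)) (tt N3314 F7400) (tt N1496 F7401) (tt N7081 D10916) (tt N1495 (iv6 D4974)) (tt N7082 D10917))
theorem Q3329 : ∀ i, i < 3329 → P i := stepQ 3328 Q3328 (allL N3328 (tt N7072 (iv1 F17720)) (tt N1496 (iv0 D4975)) (tt N7069 (iv2 F62806)) (tt N7083 D10919) (tt N7084 D10920) (tt N2883 (iv5 F292029)) (tt N6111 F291585) (tt N7070 F62805))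
theorem Q3330 : ∀ i, i < 3330 → P i := stepQ 3329 Q3329 (allL N3329 (tt N1496 (iv1 D4976)) (tt N7072 F17719) (tt N7070 F62797) (tt N7085 D10924) (tt N7086 D10925) (tt N6462 (iv5 F294086)) (tt N7087 D10927) (tt N7069 (iv7 F62807)))
theorem Q3331 : ∀ i, i < 3331 → P i := stepQ 3330 Q3330 (allL N3330 (tt N7088 D10928) (tt N7089 D10929) (tt N7071 (iv2 F17712)) (tt N1498 F7402) (tt N7090 D10930) (tt N1496 (iv5 D4977)) (tt N2857 F7403) (tt N7091 D10931))
theorem Q3332 : ∀ i, i < 3332 → P i := stepQ 3331 Q3331 (allL N3331 (tt N7070 (iv1 F17711)) (tt N7069 F17718) (tt N7072 (iv2 F17715)) (tt N1499 F7404) (tt N7082 (iv4 F17734)) (tt N7091 (iv5 F17740)) (tt N3317 F7405) (tt N1496 (iv7 D4978)))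
theorem Q3333 : ∀ i, i < 3333 → P i := stepQ 3332 Q3332 (allL N3332 (tt N3240 (iv1 F62708)) (tt N3268 (iv0 F62709)) (tt N3266 F62697) (tt N1497 (iv3 D4985)) (tt N7092 D10946) (tt N3006 F291178) (tt N7009 F62698) (tt N3005 (iv7 F291442)))
theorem Q3334 : ∀ i, i < 3334 → P i := stepQ 3333 Q3333 (allL N3333 (tt N1510 F14823) (tt N1511 F14824) (tt N3333 F14833) (tt N7009 F62695) (tt N3019 F14801) (tt N6346 (iv5 F14484)) (tt N1497 (iv6 D4988)) (tt N3028 F292949))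
theorem Q3335 : ∀ i, i < 3335 → P i := stepQ 3334 Q3334 (allL N3334 (tt N3336 (iv1 F7415)) (tt N1498 (iv0 D4989)) (tt N3334 F15366) (tt N6935 F65729) (tt N3319 (iv4 F292945)) (tt N6461 (iv5 F293195)) (tt N2841 F292112) (tt N3335 F15365))
theorem Q3336 : ∀ i, i < 3336 → P i := stepQ 3335 Q3335 (allL N3335 (tt N1498 (iv1 D4990)) (tt N3336 F7416) (tt N3335 F15364) (tt N7093 D10952) (tt N3320 F292966) (tt N3142 (iv5 F7410)) (tt N6605 F293048) (tt N3334 (iv7 F15365)))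
theorem Q3337 : ∀ i, i < 3337 → P i := stepQ 3336 Q3336 (allL N3336 (tt N3335 (iv1 F7416)) (tt N3334 F7415) (tt N3336 F7413) (tt N7091 (iv3 F17739)) (tt N6461 (iv4 F293218)) (tt N1499 F7414) (tt N6565 F292139) (tt N1498 (iv7 D4992)))
theorem Q3338 : ∀ i, i < 3338 → P i := stepQ 3337 Q3337 (allL N3337 (tt N6643 (iv1 F15968)) (tt N7094 D10958) (tt N2885 F12321) (tt N6953 (iv3 F17251)) (tt N1500 (iv4 D4994)) (tt N7095 D10959) (tt N7096 D10960) (tt N2882 F12317))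
theorem Q3339 : ∀ i, i < 3339 → P i := stepQ 3338 Q3338 (allL N3338 (tt N6561 (iv1 F62495)) (tt N3073 F62485) (tt N2886 (iv2 F12331)) (tt N6956 (iv3 F17256)) (tt N7096 (iv4 F17808)) (tt N6773 F292523) (tt N1500 (iv6 D4995)) (tt N6560 F62500))
theorem Q3340 : ∀ i, i < 3340 → P i := stepQ 3339 Q3339 (allL N3339 (tt N5785 (iv1 F13245)) (tt N3053 F13247) (tt N6364 (iv2 F14542)) (tt N1501 (iv3 D4997)) (tt N6700 (iv4 F16159)) (tt N2963 F7421) (tt N7097 D10965) (tt N2884 F12299))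
theorem Q3341 : ∀ i, i < 3341 → P i := stepQ 3340 Q3340 (allL N3340 (tt N7094 (iv1 F17801)) (tt N6643 (iv0 F15967)) (tt N2882 F12318) (tt N7098 D10966) (tt N1501 (iv4 D4998)) (tt N7099 D10967) (tt N7100 D10968) (tt N2885 (iv7 F12320)))
theorem Q3342 : ∀ i, i < 3342 → P i := stepQ 3341 Q3341 (allL N3341 (tt N3015 (iv1 F66048)) (tt N6463 (iv0 F66044)) (tt N2883 F12319) (tt N7097 (iv3 F17817)) (tt N7100 (iv4 F17822)) (tt N7069 (iv5 F291948)) (tt N1501 (iv6 D4999)) (tt N6462 F66038))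
theorem Q3343 : ∀ i, i < 3343 → P i := stepQ 3342 Q3342 (allL N3342 (tt N7101 D10973) (tt N6752 (iv0 F291213)) (tt N1503 F7422) (tt N3342 F7423) (tt N6964 (iv4 F17269)) (tt N7102 D10975) (tt N1502 (iv6 D5000)) (tt N7103 D10976))
theorem Q3344 : ∀ i, i < 3344 → P i := stepQ 3343 Q3343 (allL N3343 (tt N7103 (iv1 F17840)) (tt N1503 (iv0 D5001)) (tt N7101 (iv2 F66583)) (tt N7104 D10978) (tt N7105 D10979) (tt N6753 F290972) (tt N7106 D10981) (tt N6752 (iv7 F291215)))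
theorem Q3345 : ∀ i, i < 3345 → P i := stepQ 3344 Q3344 (allL N3344 (tt N1503 (iv1 D5002)) (tt N7103 F17839) (tt N6752 F291579) (tt N7107 D10983) (tt N7108 D10984) (tt N3132 F291580) (tt N6152 (iv6 F292512)) (tt N7101 (iv7 F66584)))
theorem Q3346 : ∀ i, i < 3346 → P i := stepQ 3345 Q3345 (allL N3345 (tt N7109 D10987) (tt N7063 (iv0 F291025)) (tt N7102 (iv2 F17832)) (tt N1506 F7424) (tt N7110 D10989) (tt N1503 (iv5 D5003)) (tt N2896 F7425) (tt N7111 D10990))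
theorem Q3347 : ∀ i, i < 3347 → P i := stepQ 3346 Q3346 (allL N3346 (tt N6752 (iv1 F291214)) (tt N7101 F17838) (tt N7103 (iv2 F17835)) (tt N1507 F7426) (tt N6971 (iv4 F17280)) (tt N7111 (iv5 F17845)) (tt N2893 F7427) (tt N1503 (iv7 D5004)))
theorem Q3348 : ∀ i, i < 3348 → P i := stepQ 3347 Q3347 (allL N3347 (tt N6408 (iv1 F66483)) (tt N3058 (iv0 F66484)) (tt N6406 (iv2 F66485)) (tt N1504 (iv3 D5006)) (tt N7112 D10994) (tt N6325 (iv5 F291051)) (tt N7022 F290725) (tt N3349 F15273))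
theorem Q3349 : ∀ i, i < 3349 → P i := stepQ 3348 Q3348 (allL N3348 (tt N3019 F14835) (tt N3363 (iv0 F290747)) (tt N3348 F15277) (tt N7022 F290719) (tt N2899 F15278) (tt N1515 (iv5 F291045)) (tt N1504 (iv6 D5009)) (tt N1516 F290720))
theorem Q3350 : ∀ i, i < 3350 → P i := stepQ 3349 Q3349 (allL N3349 (tt N2995 (iv1 F66488)) (tt N6527 (iv0 F66487)) (tt N6526 (iv2 F66486)) (tt N1505 (iv3 D5011)) (tt N7113 D11003) (tt N2945 F290968) (tt N2947 F290969) (tt N3347 (iv7 F15273)))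
theorem Q3351 : ∀ i, i < 3351 → P i := stepQ 3350 Q3350 (allL N3350 (tt N3351 (iv1 F7434)) (tt N1506 (iv0 D5015)) (tt N3350 F30669) (tt N7114 D11008) (tt N3366 F291926) (tt N6605 (iv5 F15560)) (tt N3141 (iv6 F291927)) (tt N3321 F291211))
theorem Q3352 : ∀ i, i < 3352 → P i := stepQ 3351 Q3351 (allL N3351 (tt N3321 (iv1 F290965)) (tt N3350 F7434) (tt N3351 F7432) (tt N7111 (iv3 F17844)) (tt N1511 (iv4 F291202)) (tt N1507 F7433) (tt N1509 (iv6 F291111)) (tt N1506 (iv7 D5018)))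
theorem Q3353 : ∀ i, i < 3353 → P i := stepQ 3352 Q3352 (allL N3352 (tt N3359 (iv1 F7485)) (tt N1508 (iv0 D5025)) (tt N3358 (iv2 F35370)) (tt N7012 (iv3 F34856)) (tt N7115 D11021) (tt N6339 F35868) (tt N6640 (iv6 F63172)) (tt N3149 F63144))
theorem Q3354 : ∀ i, i < 3354 → P i := stepQ 3353 Q3353 (allL N3353 (tt N3358 (iv1 F7486)) (tt N3149 F63142) (tt N1508 (iv2 D5027)) (tt N3353 F7480) (tt N7116 D11029) (tt N7117 D11030) (tt N7118 D11031) (tt N3359 (iv7 F7484)))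
theorem Q3355 : ∀ i, i < 3355 → P i := stepQ 3354 Q3354 (allL N3354 (tt N7119 D11032) (tt N7049 (iv0 F35640)) (tt N7116 (iv2 F17893)) (tt N7120 D11034) (tt N1508 (iv4 D5028)) (tt N7121 D11035) (tt N7122 D11036) (tt N3360 (iv7 F7488)))
theorem Q3356 : ∀ i, i < 3356 → P i := stepQ 3355 Q3355 (allL N3355 (tt N7123 D11037) (tt N7087 (iv0 F63188)) (tt N7117 (iv2 F17894)) (tt N1510 F7446) (tt N7124 D11039) (tt N1508 (iv5 D5029)) (tt N6244 (iv6 F291911)) (tt N3356 F7475))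
theorem Q3357 : ∀ i, i < 3357 → P i := stepQ 3356 Q3356 (allL N3356 (tt N7125 D11041) (tt N7126 D11042) (tt N7118 (iv2 F17896)) (tt N1511 F7447) (tt N7122 (iv4 F17901)) (tt N1512 (iv5 F7448)) (tt N1508 (iv6 D5030)) (tt N3355 (iv7 F7475)))
theorem Q3358 : ∀ i, i < 3358 → P i := stepQ 3357 Q3357 (allL N3357 (tt N6640 F66772) (tt N3156 F66773) (tt N6638 F66712) (tt N1509 (iv3 D5034)) (tt N7120 (iv4 F17900)) (tt N6335 (iv5 F291217)) (tt N7111 F290785) (tt N3362 (iv7 F7490)))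
theorem Q3359 : ∀ i, i < 3359 → P i := stepQ 3358 Q3358 (allL N3358 (tt N1512 (iv1 D5043)) (tt N3353 F7486) (tt N3352 F35370) (tt N6999 (iv3 F35318)) (tt N7127 D11060) (tt N6348 F35838) (tt N6719 (iv6 F63156)) (tt N3125 F63124))
theorem Q3360 : ∀ i, i < 3360 → P i := stepQ 3359 Q3359 (allL N3359 (tt N3125 F63123) (tt N3352 F7485) (tt N1512 (iv2 D5044)) (tt N3359 F7483) (tt N7128 D11063) (tt N7118 F17898) (tt N7129 D11064) (tt N3353 F7484))
theorem Q3361 : ∀ i, i < 3361 → P i := stepQ 3360 Q3360 (allL N3360 (tt N7074 (iv1 F35592)) (tt N7130 D11066) (tt N7128 (iv2 F17925)) (tt N7131 D11067) (tt N1512 (iv4 D5045)) (tt N7132 D11068) (tt N7133 D11069) (tt N3354 F7488))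
theorem Q3362 : ∀ i, i < 3362 → P i := stepQ 3361 Q3361 (allL N3361 (tt N6682 F63250) (tt N6686 F63251) (tt N7129 (iv2 F17929)) (tt N1514 F7489) (tt N7133 (iv4 F17936)) (tt N6244 (iv5 F291910)) (tt N1512 (iv6 D5046)) (tt N6244 (iv7 F291912)))
theorem Q3363 : ∀ i, i < 3363 → P i := stepQ 3362 Q3362 (allL N3362 (tt N3119 F66708) (tt N6719 (iv0 F66711)) (tt N6717 F66762) (tt N1513 (iv3 D5047)) (tt N7131 (iv4 F17933)) (tt N2949 (iv5 F291347)) (tt N2969 (iv6 F291931)) (tt N3357 F7490))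
theorem Q3364 : ∀ i, i < 3364 → P i := stepQ 3363 Q3363 (allL N3363 (tt N3348 F290747) (tt N1516 (iv0 D5061)) (tt N3363 F16086) (tt N7134 D11079) (tt N3028 (iv4 F292744)) (tt N6347 (iv5 F16082)) (tt N3027 F291728) (tt N3019 (iv7 F290749)))
theorem Q3365 : ∀ i, i < 3365 → P i := stepQ 3364 Q3364 (allL N3364 (tt N2684 F16845) (tt N6061 (iv0 F13814)) (tt N6720 F16963) (tt N1944 F7511) (tt N1517 (iv4 D5067)) (tt N7135 D11084) (tt N5362 (iv6 F12253)) (tt N2792 F7512))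
theorem Q3366 : ∀ i, i < 3366 → P i := stepQ 3365 Q3365 (allL N3365 (tt N3120 F7523) (tt N6152 (iv0 F16807)) (tt N6721 (iv2 F16237)) (tt N1518 (iv3 D5071)) (tt N7136 D11090) (tt N2850 F7521) (tt N7137 D11091) (tt N2849 F7522))
theorem Q3367 : ∀ i, i < 3367 → P i := stepQ 3366 Q3366 (allL N3366 (tt N2899 (iv1 F291871)) (tt N2898 F291744) (tt N3366 F7529) (tt N7137 (iv3 F17976)) (tt N3350 (iv4 F291926)) (tt N3114 F291745) (tt N1518 (iv6 D5073)) (tt N3074 (iv7 F292138)))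
theorem Q3368 : ∀ i, i < 3368 → P i := stepQ 3367 Q3367 (allL N3367 (tt N6431 (iv1 F292488)) (tt N7138 D11097) (tt N7139 D11098) (tt N1519 (iv3 D5074)) (tt N7038 (iv4 F17636)) (tt N6243 (iv5 F292489)) (tt N6238 F291734) (tt N6243 (iv7 F292490)))
theorem Q3369 : ∀ i, i < 3369 → P i := stepQ 3368 Q3368 (allL N3368 (tt N4264 (iv1 F22458)) (tt N4268 (iv0 F22459)) (tt N1734 F7531) (tt N2425 F7532) (tt N1734 F7533) (tt N7140 D11101) (tt N1520 (iv6 D5075)) (tt N7141 D11102))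
theorem Q3370 : ∀ i, i < 3370 → P i := stepQ 3369 Q3369 (allL N3369 (tt N1738 F7537) (tt N1521 (iv0 D5076)) (tt N1735 (iv2 F7535)) (tt N7142 D11103) (tt N1546 F9901) (tt N7143 D11104) (tt N7144 D11105) (tt N1736 (iv7 F7536)))
theorem Q3371 : ∀ i, i < 3371 → P i := stepQ 3370 Q3370 (allL N3370 (tt N1521 (iv1 D5077)) (tt N1738 F7538) (tt N1736 F7541) (tt N3695 (iv3 F9908)) (tt N1536 (iv4 F7540)) (tt N7145 D11106) (tt N7146 D11107) (tt N1735 F7539))
theorem Q3372 : ∀ i, i < 3372 → P i := stepQ 3371 Q3371 (allL N3371 (tt N7147 D11108) (tt N7148 D11109) (tt N1737 F7542) (tt N4686 (iv3 F11101)) (tt N7149 D11110) (tt N1521 (iv5 D5078)) (tt N7140 (iv6 F17988)) (tt N7150 D11111))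
theorem Q3373 : ∀ i, i < 3373 → P i := stepQ 3372 Q3372 (allL N3372 (tt N1736 (iv1 F7546)) (tt N1735 F7547) (tt N1738 F7543) (tt N3718 F10119) (tt N1524 F7544) (tt N7150 (iv5 F18011)) (tt N3372 F7545) (tt N1521 (iv7 D5079)))
theorem Q3374 : ∀ i, i < 3374 → P i := stepQ 3373 Q3373 (allL N3373 (tt N1974 F10161) (tt N1551 F10162) (tt N1739 F7548) (tt N7151 D11112) (tt N1522 (iv4 D5080)) (tt N7152 D11113) (tt N7153 D11114) (tt N1742 F7549))
theorem Q3375 : ∀ i, i < 3375 → P i := stepQ 3374 Q3374 (allL N3374 (tt N2245 (iv1 F10012)) (tt N4363 F10508) (tt N1740 F7550) (tt N3417 (iv3 F10210)) (tt N7154 D11115) (tt N1522 (iv5 D5081)) (tt N7155 D11116) (tt N1743 F7551))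
theorem Q3376 : ∀ i, i < 3376 → P i := stepQ 3375 Q3375 (allL N3375 (tt N2113 (iv1 F10020)) (tt N3629 (iv0 F8416)) (tt N1741 F7552) (tt N3418 F10184) (tt N7153 (iv4 F18021)) (tt N3661 F8414) (tt N1522 (iv6 D5082)) (tt N7156 D11117))
theorem Q3377 : ∀ i, i < 3377 → P i := stepQ 3376 Q3376 (allL N3376 (tt N1748 (iv1 F7558)) (tt N1523 (iv0 D5083)) (tt N1745 (iv2 F7891)) (tt N3419 F10338) (tt N7157 D11118) (tt N3753 (iv5 F8684)) (tt N7158 D11119) (tt N1746 (iv7 F7893)))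
theorem Q3378 : ∀ i, i < 3378 → P i := stepQ 3377 Q3377 (allL N3377 (tt N7159 D11120) (tt N7160 D11121) (tt N1747 F7553) (tt N7161 D11122) (tt N1523 (iv4 D5084)) (tt N7162 D11123) (tt N1527 F7554) (tt N7163 D11124))
theorem Q3379 : ∀ i, i < 3379 → P i := stepQ 3378 Q3378 (allL N3378 (tt N1746 (iv1 F7559)) (tt N1745 F7560) (tt N1748 F7555) (tt N1542 F7556) (tt N7163 (iv4 F18050)) (tt N1524 F7557) (tt N5429 (iv6 F12428)) (tt N1523 (iv7 D5085)))
theorem Q3380 : ∀ i, i < 3380 → P i := stepQ 3379 Q3379 (allL N3379 (tt N2521 F7563) (tt N2523 F7564) (tt N1749 F7561) (tt N7164 D11125) (tt N1525 (iv4 D5086)) (tt N7165 D11126) (tt N7166 D11127) (tt N1751 F7562))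
theorem Q3381 : ∀ i, i < 3381 → P i := stepQ 3380 Q3380 (allL N3380 (tt N2329 F12641) (tt N4085 F10683) (tt N1750 F7565) (tt N2520 F7566) (tt N7166 (iv4 F18061)) (tt N1752 F7567) (tt N1525 (iv6 D5087)) (tt N5504 (iv7 F12592)))
theorem Q3382 : ∀ i, i < 3382 → P i := stepQ 3381 Q3381 (allL N3381 (tt N2517 F7570) (tt N1557 F7571) (tt N1753 F7568) (tt N7167 D11128) (tt N1526 (iv4 D5088)) (tt N7168 D11129) (tt N3781 (iv6 F8778)) (tt N1754 F7569))
theorem Q3383 : ∀ i, i < 3383 → P i := stepQ 3382 Q3382 (allL N3382 (tt N1761 (iv1 F7574)) (tt N1527 (iv0 D5089)) (tt N1757 (iv2 F7573)) (tt N7169 D11130) (tt N1549 F7572) (tt N7170 D11131) (tt N7171 D11132) (tt N1758 F7575))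
theorem Q3384 : ∀ i, i < 3384 → P i := stepQ 3383 Q3383 (allL N3383 (tt N7172 D11133) (tt N7173 D11134) (tt N7174 D11135) (tt N1527 (iv3 D5090)) (tt N1543 F7576) (tt N7175 D11136) (tt N7161 (iv6 F18047)) (tt N5426 (iv7 F12407)))
theorem Q3385 : ∀ i, i < 3385 → P i := stepQ 3384 Q3384 (allL N3384 (tt N5446 (iv1 F12478)) (tt N4116 (iv0 F9526)) (tt N1760 F7577) (tt N7175 (iv3 F18079)) (tt N3863 (iv4 F8912)) (tt N1527 (iv5 D5091)) (tt N7176 D11137) (tt N3861 (iv7 F8910)))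
theorem Q3386 : ∀ i, i < 3386 → P i := stepQ 3385 Q3385 (allL N3385 (tt N3543 F8108) (tt N4254 F9837) (tt N1946 F7578) (tt N3664 (iv3 F8425)) (tt N1528 (iv4 D5092)) (tt N3657 (iv5 F8397)) (tt N7177 D11138) (tt N3385 F7579))
theorem Q3387 : ∀ i, i < 3387 → P i := stepQ 3386 Q3386 (allL N3386 (tt N4523 (iv1 F19481)) (tt N2056 (iv0 F19482)) (tt N3387 (iv2 F7580)) (tt N4323 (iv3 F10445)) (tt N7177 (iv4 F18082)) (tt N7178 D11141) (tt N1528 (iv6 D5093)) (tt N4522 (iv7 F19454)))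
theorem Q3388 : ∀ i, i < 3388 → P i := stepQ 3387 Q3387 (allL N3387 (tt N2097 F19455) (tt N4440 (iv0 F19456)) (tt N3386 F7580) (tt N3572 (iv3 F8190)) (tt N4255 (iv4 F9840)) (tt N7179 D11145) (tt N1529 (iv6 D5094)) (tt N4439 (iv7 F19486)))
theorem Q3389 : ∀ i, i < 3389 → P i := stepQ 3388 Q3388 (allL N3388 (tt N7180 D11147) (tt N7181 D11148) (tt N1531 F7581) (tt N2003 F7582) (tt N2172 F7583) (tt N7182 D11149) (tt N1530 (iv6 D5095)) (tt N7183 D11150))
theorem Q3390 : ∀ i, i < 3390 → P i := stepQ 3389 Q3389 (allL N3389 (tt N7183 (iv1 F18107)) (tt N1531 (iv0 D5096)) (tt N7180 (iv2 F18949)) (tt N7184 D11152) (tt N7185 D11153) (tt N7186 D11154) (tt N7187 D11155) (tt N7181 (iv7 F18946)))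
theorem Q3391 : ∀ i, i < 3391 → P i := stepQ 3390 Q3390 (allL N3390 (tt N1531 (iv1 D5097)) (tt N7183 F18103) (tt N7181 (iv2 F18945)) (tt N7188 D11157) (tt N4267 (iv4 F10354)) (tt N7189 D11158) (tt N7190 D11159) (tt N7180 (iv7 F18950)))
theorem Q3392 : ∀ i, i < 3392 → P i := stepQ 3391 Q3391 (allL N3391 (tt N7191 D11160) (tt N7192 D11161) (tt N7182 (iv2 F18097)) (tt N1532 F7584) (tt N7193 D11162) (tt N1531 (iv5 D5098)) (tt N3550 (iv6 F8119)) (tt N7194 D11163))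
theorem Q3393 : ∀ i, i < 3393 → P i := stepQ 3392 Q3392 (allL N3392 (tt N7181 (iv1 F18095)) (tt N7180 (iv0 F18094)) (tt N7183 (iv2 F18099)) (tt N1533 F7585) (tt N3718 F10120) (tt N7194 (iv5 F18116)) (tt N3392 F7586) (tt N1531 (iv7 D5099)))
theorem Q3394 : ∀ i, i < 3394 → P i := stepQ 3393 Q3393 (allL N3393 (tt N2011 (iv1 F7594)) (tt N1532 (iv0 D5100)) (tt N2008 F7589) (tt N7195 D11164) (tt N2228 F8236) (tt N2276 F7587) (tt N7196 D11165) (tt N2009 (iv7 F7588)))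
theorem Q3395 : ∀ i, i < 3395 → P i := stepQ 3394 Q3394 (allL N3394 (tt N1532 (iv1 D5101)) (tt N2011 F7590) (tt N2009 F7593) (tt N3680 (iv3 F11489)) (tt N2229 (iv4 F7601)) (tt N2287 (iv5 F7592)) (tt N7197 D11166) (tt N2008 F7591))
theorem Q3396 : ∀ i, i < 3396 → P i := stepQ 3395 Q3395 (allL N3395 (tt N3899 (iv1 F8991)) (tt N3902 (iv0 F8996)) (tt N2010 F7602) (tt N7198 D11167) (tt N1532 (iv4 D5102)) (tt N7199 D11168) (tt N3558 (iv6 F8136)) (tt N4811 (iv7 F11267)))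
theorem Q3397 : ∀ i, i < 3397 → P i := stepQ 3396 Q3396 (allL N3396 (tt N2009 (iv1 F7605)) (tt N2008 F7606) (tt N2011 F7603) (tt N7194 (iv3 F18115)) (tt N4811 (iv4 F11264)) (tt N1533 F7604) (tt N7200 D11169) (tt N1532 (iv7 D5103)))
theorem Q3398 : ∀ i, i < 3398 → P i := stepQ 3397 Q3397 (allL N3397 (tt N3918 (iv1 F9061)) (tt N3919 (iv0 F9067)) (tt N2015 F7609) (tt N7201 D11170) (tt N1534 (iv4 D5105)) (tt N3956 (iv5 F9158)) (tt N7202 D11171) (tt N2021 F7610))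
theorem Q3399 : ∀ i, i < 3399 → P i := stepQ 3398 Q3398 (allL N3398 (tt N4084 F9456) (tt N5354 (iv0 F12082)) (tt N2016 F7612) (tt N3813 (iv3 F8832)) (tt N7202 (iv4 F18130)) (tt N3566 (iv5 F8168)) (tt N1534 (iv6 D5106)) (tt N3566 (iv7 F8169)))
theorem Q3400 : ∀ i, i < 3400 → P i := stepQ 3399 Q3399 (allL N3399 (tt N1702 (iv1 F7620)) (tt N1995 (iv0 F7994)) (tt N2017 F7616) (tt N3815 (iv3 F8837)) (tt N3892 (iv4 F8969)) (tt N1604 F7617) (tt N1650 F7618) (tt N1535 (iv7 D5108)))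
theorem Q3401 : ∀ i, i < 3401 → P i := stepQ 3400 Q3400 (allL N3400 (tt N4899 (iv1 F11399)) (tt N3505 F10211) (tt N3426 (iv2 F9943)) (tt N1537 F7623) (tt N7203 D11172) (tt N1536 (iv5 D5110)) (tt N3466 (iv6 F9912)) (tt N2012 F7624))
theorem Q3402 : ∀ i, i < 3402 → P i := stepQ 3401 Q3401 (allL N3401 (tt N1584 F10212) (tt N1587 F10213) (tt N3427 (iv2 F9947)) (tt N1538 F7625) (tt N7146 (iv4 F18005)) (tt N3745 (iv5 F8655)) (tt N1536 (iv6 D5111)) (tt N3745 (iv7 F8656)))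
theorem Q3403 : ∀ i, i < 3403 → P i := stepQ 3402 Q3402 (allL N3402 (tt N3919 (iv1 F9068)) (tt N3918 (iv0 F9060)) (tt N2021 F7626) (tt N7204 D11173) (tt N1537 (iv4 D5112)) (tt N3957 (iv5 F9164)) (tt N2456 F7627) (tt N2015 F7628))
theorem Q3404 : ∀ i, i < 3404 → P i := stepQ 3403 Q3403 (allL N3403 (tt N5355 F12091) (tt N5510 (iv0 F12699)) (tt N2023 (iv2 F7894)) (tt N3821 (iv3 F8849)) (tt N3947 (iv4 F9148)) (tt N4076 F9433) (tt N1539 (iv6 D5114)) (tt N5486 (iv7 F12567)))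
theorem Q3405 : ∀ i, i < 3405 → P i := stepQ 3404 Q3404 (allL N3404 (tt N1547 F10270) (tt N3430 F10271) (tt N3428 (iv2 F10217)) (tt N1540 (iv3 D5116)) (tt N7160 (iv4 F18044)) (tt N3462 F10272) (tt N7205 D11174) (tt N2022 F7895))
theorem Q3406 : ∀ i, i < 3406 → P i := stepQ 3405 Q3405 (allL N3405 (tt N4127 F9552) (tt N4128 (iv0 F9560)) (tt N2025 F7896) (tt N7205 (iv3 F18137)) (tt N3950 (iv4 F9153)) (tt N3563 (iv5 F8159)) (tt N1540 (iv6 D5117)) (tt N5668 (iv7 F12939)))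
theorem Q3407 : ∀ i, i < 3407 → P i := stepQ 3406 Q3406 (allL N3406 (tt N7206 D11175) (tt N7207 D11176) (tt N7208 D11177) (tt N1541 (iv3 D5118)) (tt N7161 (iv4 F18046)) (tt N7209 D11178) (tt N1543 F7632) (tt N7210 D11179))
theorem Q3408 : ∀ i, i < 3408 → P i := stepQ 3407 Q3407 (allL N3407 (tt N2251 F7634) (tt N2271 F7635) (tt N2027 F7633) (tt N7209 (iv3 F18140)) (tt N7211 D11180) (tt N1541 (iv5 D5119)) (tt N7212 D11181) (tt N7213 D11182))
theorem Q3409 : ∀ i, i < 3409 → P i := stepQ 3408 Q3408 (allL N3408 (tt N1800 (iv1 F7638)) (tt N1797 F7639) (tt N2028 F7636) (tt N7210 (iv3 F18141)) (tt N1542 F7637) (tt N7213 (iv5 F18149)) (tt N5435 (iv6 F12442)) (tt N1541 (iv7 D5120)))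
theorem Q3410 : ∀ i, i < 3410 → P i := stepQ 3409 Q3409 (allL N3409 (tt N5432 (iv1 F12435)) (tt N1543 (iv0 D5121)) (tt N5431 F37232) (tt N7214 D11184) (tt N7215 D11185) (tt N7216 D11186) (tt N7217 D11187) (tt N5430 F37233))
theorem Q3411 : ∀ i, i < 3411 → P i := stepQ 3410 Q3410 (allL N3410 (tt N1543 (iv1 D5122)) (tt N5432 F12437) (tt N5430 (iv2 F37228)) (tt N7218 D11189) (tt N7219 D11190) (tt N7220 D11191) (tt N7221 D11192) (tt N5431 (iv7 F37231)))
theorem Q3412 : ∀ i, i < 3412 → P i := stepQ 3411 Q3411 (allL N3411 (tt N5431 (iv1 F12436)) (tt N5430 F12432) (tt N1543 (iv2 D5123)) (tt N2037 F7640) (tt N7174 (iv4 F18078)) (tt N7222 D11193) (tt N7208 (iv6 F18139)) (tt N5432 (iv7 F12434)))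
theorem Q3413 : ∀ i, i < 3413 → P i := stepQ 3412 Q3412 (allL N3412 (tt N7223 D11194) (tt N7224 D11195) (tt N7222 (iv2 F18155)) (tt N1544 F7641) (tt N7225 D11196) (tt N1543 (iv5 D5124)) (tt N7226 D11197) (tt N2823 F7642))
theorem Q3414 : ∀ i, i < 3414 → P i := stepQ 3413 Q3413 (allL N3413 (tt N7227 D11198) (tt N7228 D11199) (tt N2040 F7643) (tt N7226 (iv3 F18164)) (tt N2828 F7644) (tt N7212 (iv5 F18146)) (tt N1544 (iv6 D5125)) (tt N7229 D11200))
theorem Q3415 : ∀ i, i < 3415 → P i := stepQ 3414 Q3414 (allL N3414 (tt N1987 (iv1 F7653)) (tt N1545 (iv0 D5126)) (tt N1984 F8365) (tt N3414 F8372) (tt N3766 (iv4 F10074)) (tt N7230 D11201) (tt N1587 F7645) (tt N1985 (iv7 F8366)))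
theorem Q3416 : ∀ i, i < 3416 → P i := stepQ 3415 Q3415 (allL N3415 (tt N7231 D11202) (tt N3498 (iv0 F7825)) (tt N1986 F7647) (tt N1723 F7648) (tt N7171 (iv4 F18075)) (tt N1545 (iv5 D5128)) (tt N1549 F7649) (tt N7232 D11203))
theorem Q3417 : ∀ i, i < 3417 → P i := stepQ 3416 Q3416 (allL N3416 (tt N1985 (iv1 F7654)) (tt N1984 F7655) (tt N1987 F7650) (tt N1724 F7651) (tt N3789 (iv4 F8803)) (tt N7232 (iv5 F18182)) (tt N3416 F7652) (tt N1545 (iv7 D5129)))
theorem Q3418 : ∀ i, i < 3418 → P i := stepQ 3417 Q3417 (allL N3417 (tt N3505 F7832) (tt N4899 F11398) (tt N2012 F10209) (tt N3374 F10210) (tt N7233 D11204) (tt N1546 (iv5 D5133)) (tt N7234 D11205) (tt N3426 (iv7 F10208)))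
theorem Q3419 : ∀ i, i < 3419 → P i := stepQ 3418 Q3418 (allL N3418 (tt N4310 (iv1 F10488)) (tt N3496 (iv0 F7821)) (tt N2013 F10181) (tt N3375 (iv3 F10184)) (tt N7144 (iv4 F18000)) (tt N3467 F7769) (tt N1546 (iv6 D5134)) (tt N7235 D11206))
theorem Q3420 : ∀ i, i < 3420 → P i := stepQ 3419 Q3419 (allL N3419 (tt N3430 (iv1 F7678)) (tt N1547 (iv0 D5140)) (tt N2022 (iv2 F10337)) (tt N3376 (iv3 F10338)) (tt N7159 (iv4 F18038)) (tt N7236 D11207) (tt N7237 D11208) (tt N3428 F10336))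
theorem Q3421 : ∀ i, i < 3421 → P i := stepQ 3420 Q3420 (allL N3420 (tt N3820 F10306) (tt N3822 (iv0 F10309)) (tt N3429 (iv2 F7671)) (tt N7238 D11209) (tt N1547 (iv4 D5142)) (tt N7239 D11210) (tt N1550 F7658) (tt N7240 D11211))
theorem Q3422 : ∀ i, i < 3422 → P i := stepQ 3421 Q3421 (allL N3421 (tt N3428 (iv1 F7670)) (tt N2022 (iv0 F10325)) (tt N3430 (iv2 F7673)) (tt N2257 F10308) (tt N7240 (iv4 F18207)) (tt N1548 F7659) (tt N5444 (iv6 F12472)) (tt N1547 (iv7 D5143)))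
theorem Q3423 : ∀ i, i < 3423 → P i := stepQ 3422 Q3422 (allL N3422 (tt N7241 D11212) (tt N7242 D11213) (tt N7243 D11214) (tt N1550 (iv3 D5144)) (tt N4291 (iv4 F10373)) (tt N7244 D11215) (tt N7238 (iv6 F18206)) (tt N5440 (iv7 F12461)))
theorem Q3424 : ∀ i, i < 3424 → P i := stepQ 3423 Q3423 (allL N3423 (tt N3833 (iv1 F8871)) (tt N3838 (iv0 F8878)) (tt N3435 (iv2 F7690)) (tt N7244 (iv3 F18210)) (tt N5441 (iv4 F12463)) (tt N1550 (iv5 D5145)) (tt N7245 D11216) (tt N5441 (iv7 F12462)))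
theorem Q3425 : ∀ i, i < 3425 → P i := stepQ 3424 Q3424 (allL N3424 (tt N7246 D11217) (tt N7247 D11218) (tt N1973 F7661) (tt N4261 (iv3 F9852)) (tt N7248 D11219) (tt N1551 (iv5 D5148)) (tt N4261 (iv6 F9853)) (tt N7249 D11220))
theorem Q3426 : ∀ i, i < 3426 → P i := stepQ 3425 Q3425 (allL N3425 (tt N1742 F9915) (tt N1739 F9916) (tt N1974 F7662) (tt N4262 (iv3 F9855)) (tt N1554 F7663) (tt N7249 (iv5 F18220)) (tt N3425 F7664) (tt N1551 (iv7 D5149)))
theorem Q3427 : ∀ i, i < 3427 → P i := stepQ 3426 Q3426 (allL N3426 (tt N4352 (iv1 F10479)) (tt N4351 F10475) (tt N3400 F9943) (tt N1743 F9944) (tt N7250 D11221) (tt N1552 (iv5 D5158)) (tt N3452 (iv6 F7752)) (tt N3417 F10208))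
theorem Q3428 : ∀ i, i < 3428 → P i := stepQ 3427 Q3427 (allL N3427 (tt N3442 F9945) (tt N3444 F9946) (tt N3401 F9947) (tt N1744 F9948) (tt N3803 F9949) (tt N3494 (iv5 F7819)) (tt N1552 (iv6 D5159)) (tt N3494 (iv7 F10214)))
theorem Q3429 : ∀ i, i < 3429 → P i := stepQ 3428 Q3428 (allL N3428 (tt N1553 (iv1 D5161)) (tt N3421 F7670) (tt N3404 F10217) (tt N1746 F10218) (tt N3825 F10219) (tt N3448 (iv5 F7750)) (tt N7251 D11222) (tt N3419 (iv7 F10336)))
theorem Q3430 : ∀ i, i < 3430 → P i := stepQ 3429 Q3429 (allL N3429 (tt N7157 (iv1 F18035)) (tt N4370 (iv0 F10519)) (tt N3420 F7671) (tt N7252 D11223) (tt N1553 (iv4 D5162)) (tt N7253 D11224) (tt N1557 F7672) (tt N7254 D11225))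
theorem Q3431 : ∀ i, i < 3431 → P i := stepQ 3430 Q3430 (allL N3430 (tt N3404 (iv1 F10271)) (tt N3419 F7678) (tt N3421 F7673) (tt N3430 F7674) (tt N7254 (iv4 F18231)) (tt N1554 F7675) (tt N7255 D11226) (tt N1553 (iv7 D5163)))
theorem Q3432 : ∀ i, i < 3432 → P i := stepQ 3431 Q3431 (allL N3431 (tt N1848 F7681) (tt N2524 F7682) (tt N1883 F7679) (tt N7256 D11227) (tt N1555 (iv4 D5164)) (tt N3860 (iv5 F8905)) (tt N7257 D11228) (tt N2519 F7680))
theorem Q3433 : ∀ i, i < 3433 → P i := stepQ 3432 Q3432 (allL N3432 (tt N7258 D11229) (tt N5059 F26346) (tt N1884 F7683) (tt N1752 F7684) (tt N7257 (iv4 F18243)) (tt N2520 F7685) (tt N1555 (iv6 D5165)) (tt N7259 D11230))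
theorem Q3434 : ∀ i, i < 3434 → P i := stepQ 3433 Q3433 (allL N3433 (tt N7260 D11231) (tt N5095 F12660) (tt N2472 F7686) (tt N1756 F7687) (tt N3854 (iv4 F8900)) (tt N3433 F7688) (tt N1556 (iv6 D5166)) (tt N7261 D11232))
theorem Q3435 : ∀ i, i < 3435 → P i := stepQ 3434 Q3434 (allL N3434 (tt N7262 D11233) (tt N7263 D11234) (tt N7264 D11235) (tt N1557 (iv3 D5167)) (tt N3434 F7689) (tt N7265 D11236) (tt N7252 (iv6 F18228)) (tt N7266 D11237))
theorem Q3436 : ∀ i, i < 3436 → P i := stepQ 3435 Q3435 (allL N3435 (tt N7165 (iv1 F18059)) (tt N2606 F7691) (tt N3423 F7690) (tt N7265 (iv3 F18267)) (tt N7267 D11238) (tt N1557 (iv5 D5168)) (tt N7268 D11239) (tt N7267 (iv7 F18274)))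
theorem Q3437 : ∀ i, i < 3437 → P i := stepQ 3436 Q3436 (allL N3436 (tt N1754 (iv1 F7694)) (tt N1753 F7695) (tt N2517 F7692) (tt N7266 (iv3 F18268)) (tt N1558 F7693) (tt N7267 (iv5 F18271)) (tt N7269 D11240) (tt N1557 (iv7 D5169)))
theorem Q3438 : ∀ i, i < 3438 → P i := stepQ 3437 Q3437 (allL N3437 (tt N4409 F10566) (tt N7270 D11241) (tt N2518 F7696) (tt N3437 F7697) (tt N7269 (iv4 F18277)) (tt N3437 F7698) (tt N1558 (iv6 D5170)) (tt N7255 (iv7 F18237)))
theorem Q3439 : ∀ i, i < 3439 → P i := stepQ 3438 Q3438 (allL N3438 (tt N2180 F10348) (tt N4678 (iv0 F11091)) (tt N4623 (iv2 F11001)) (tt N1561 F7699) (tt N3658 (iv4 F8402)) (tt N7271 D11242) (tt N1559 (iv6 D5171)) (tt N4703 (iv7 F11147)))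
theorem Q3440 : ∀ i, i < 3440 → P i := stepQ 3439 Q3439 (allL N3439 (tt N7272 D11243) (tt N5270 (iv0 F19523)) (tt N1578 F7700) (tt N3790 (iv3 F8808)) (tt N1673 F7701) (tt N7273 D11245) (tt N1560 (iv6 D5172)) (tt N7274 D11246))
theorem Q3441 : ∀ i, i < 3441 → P i := stepQ 3440 Q3440 (allL N3440 (tt N7275 D11247) (tt N7276 D11248) (tt N1581 F7738) (tt N7271 (iv3 F18282)) (tt N7277 D11249) (tt N1561 (iv5 D5174)) (tt N7273 (iv6 F18285)) (tt N7278 D11250))
theorem Q3442 : ∀ i, i < 3442 → P i := stepQ 3441 Q3441 (allL N3441 (tt N1580 (iv1 F7742)) (tt N1579 F7743) (tt N1582 F7739) (tt N4703 F11144) (tt N1564 F7740) (tt N7278 (iv5 F18302)) (tt N3441 F7741) (tt N1561 (iv7 D5175)))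
theorem Q3443 : ∀ i, i < 3443 → P i := stepQ 3442 Q3442 (allL N3442 (tt N3745 (iv1 F9896)) (tt N3427 (iv0 F9945)) (tt N1584 F8362) (tt N3442 F8346) (tt N7279 D11251) (tt N1562 (iv5 D5179)) (tt N4356 F10490) (tt N1587 F8363))
theorem Q3444 : ∀ i, i < 3444 → P i := stepQ 3443 Q3443 (allL N3443 (tt N3451 (iv1 F18314)) (tt N7280 D11253) (tt N1585 F8364) (tt N3443 F8347) (tt N3678 (iv4 F10140)) (tt N4312 F10425) (tt N1562 (iv6 D5180)) (tt N7281 D11254))
theorem Q3445 : ∀ i, i < 3445 → P i := stepQ 3444 Q3444 (allL N3444 (tt N3427 (iv1 F9946)) (tt N3745 F9894) (tt N1587 F8354) (tt N1971 (iv3 F10094)) (tt N4944 (iv4 F11484)) (tt N1563 (iv5 D5184)) (tt N1984 (iv6 F7748)) (tt N1584 F8355))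
theorem Q3446 : ∀ i, i < 3446 → P i := stepQ 3445 Q3445 (allL N3445 (tt N7236 F18198) (tt N3462 (iv0 F10303)) (tt N1588 F8356) (tt N1972 (iv3 F10207)) (tt N2265 F10206) (tt N4351 (iv5 F10474)) (tt N1563 (iv6 D5185)) (tt N7282 D11255))
theorem Q3447 : ∀ i, i < 3447 → P i := stepQ 3446 Q3446 (allL N3446 (tt N3474 F10227) (tt N1574 F10228) (tt N3460 (iv2 F10263)) (tt N4657 (iv3 F22495)) (tt N1565 (iv4 D5188)) (tt N7283 D11257) (tt N7284 D11258) (tt N3463 (iv7 F10256)))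
theorem Q3448 : ∀ i, i < 3448 → P i := stepQ 3447 Q3447 (allL N3447 (tt N7285 D11259) (tt N7286 D11260) (tt N3461 F10339) (tt N3507 (iv3 F10340)) (tt N7287 D11261) (tt N1565 (iv5 D5189)) (tt N7288 D11262) (tt N3464 (iv7 F10341)))
theorem Q3449 : ∀ i, i < 3449 → P i := stepQ 3448 Q3448 (allL N3448 (tt N1588 F18200) (tt N7282 F18326) (tt N3462 (iv2 F10267)) (tt N3508 (iv3 F10220)) (tt N7284 (iv4 F18328)) (tt N3428 F7750) (tt N1565 (iv6 D5190)) (tt N7236 (iv7 F18197)))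
theorem Q3450 : ∀ i, i < 3450 → P i := stepQ 3449 Q3449 (allL N3449 (tt N1574 F10237) (tt N3474 F10238) (tt N3463 (iv2 F10255)) (tt N4627 F11008) (tt N1566 (iv4 D5193)) (tt N7289 D11263) (tt N7290 D11264) (tt N3460 (iv7 F10264)))
theorem Q3451 : ∀ i, i < 3451 → P i := stepQ 3450 Q3450 (allL N3450 (tt N7286 (iv1 F18334)) (tt N7285 F18332) (tt N3464 F10342) (tt N1602 F10241) (tt N7291 D11265) (tt N1566 (iv5 D5194)) (tt N4409 (iv6 F10565)) (tt N3461 (iv7 F10266)))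
theorem Q3452 : ∀ i, i < 3452 → P i := stepQ 3451 Q3451 (allL N3451 (tt N3499 F10396) (tt N3443 F18314) (tt N3465 (iv2 F10331)) (tt N1603 F10243) (tt N7290 (iv4 F18341)) (tt N7292 D11266) (tt N1566 (iv6 D5195)) (tt N3497 (iv7 F10322)))
theorem Q3453 : ∀ i, i < 3453 → P i := stepQ 3452 Q3452 (allL N3452 (tt N3469 (iv1 F7777)) (tt N1567 (iv0 D5196)) (tt N3466 (iv2 F10178)) (tt N3511 F10183) (tt N7293 D11267) (tt N7235 (iv5 F18191)) (tt N3426 F7752) (tt N3467 (iv7 F10182)))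
theorem Q3454 : ∀ i, i < 3454 → P i := stepQ 3453 Q3453 (allL N3453 (tt N1567 (iv1 D5197)) (tt N3469 F7776) (tt N3467 F10179) (tt N1605 F9965) (tt N7294 D11268) (tt N2013 F9966) (tt N7295 D11269) (tt N3466 F9967))
theorem Q3455 : ∀ i, i < 3455 → P i := stepQ 3454 Q3454 (allL N3454 (tt N7296 D11270) (tt N7297 D11271) (tt N3468 (iv2 F7770)) (tt N7298 D11272) (tt N1567 (iv4 D5198)) (tt N7299 D11273) (tt N3831 F8867) (tt N7300 D11274))
theorem Q3456 : ∀ i, i < 3456 → P i := stepQ 3455 Q3455 (allL N3455 (tt N3467 (iv1 F7768)) (tt N3466 F7775) (tt N3469 (iv2 F7772)) (tt N4292 (iv3 F10380)) (tt N7300 (iv4 F18355)) (tt N1568 F7754) (tt N5456 (iv6 F12495)) (tt N1567 (iv7 D5199)))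
theorem Q3457 : ∀ i, i < 3457 → P i := stepQ 3456 Q3456 (allL N3456 (tt N2096 (iv1 F7760)) (tt N1569 (iv0 D5200)) (tt N2093 (iv2 F10245)) (tt N7301 D11275) (tt N1589 F10224) (tt N7302 D11276) (tt N4908 (iv6 F11431)) (tt N2094 (iv7 F10249)))
theorem Q3458 : ∀ i, i < 3458 → P i := stepQ 3457 Q3457 (allL N3457 (tt N1569 (iv1 D5201)) (tt N2096 F7755) (tt N2094 F10273) (tt N5282 (iv3 F11923)) (tt N1590 F10274) (tt N7303 D11277) (tt N7304 D11278) (tt N2093 F10275))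
theorem Q3459 : ∀ i, i < 3459 → P i := stepQ 3458 Q3458 (allL N3458 (tt N7305 D11279) (tt N7306 D11280) (tt N2095 F7756) (tt N4420 (iv3 F10590)) (tt N7307 D11281) (tt N1569 (iv5 D5202)) (tt N4420 (iv6 F10591)) (tt N7308 D11282))
theorem Q3460 : ∀ i, i < 3460 → P i := stepQ 3459 Q3459 (allL N3459 (tt N2094 (iv1 F7761)) (tt N2093 F7762) (tt N2096 F7757) (tt N4421 (iv3 F10593)) (tt N1573 F7758) (tt N7308 (iv5 F18370)) (tt N3459 F7759) (tt N1569 (iv7 D5203)))
theorem Q3461 : ∀ i, i < 3461 → P i := stepQ 3460 Q3460 (allL N3460 (tt N3471 F10261) (tt N1576 F10262) (tt N3446 F10263) (tt N2150 (iv3 F7764)) (tt N1570 (iv4 D5206)) (tt N7309 D11283) (tt N7310 D11284) (tt N3449 F10264))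
theorem Q3462 : ∀ i, i < 3462 → P i := stepQ 3461 Q3461 (allL N3461 (tt N7311 D11285) (tt N7312 D11286) (tt N3447 (iv2 F10339)) (tt N1616 F10265) (tt N7313 D11287) (tt N1570 (iv5 D5207)) (tt N7314 D11288) (tt N3450 F10266))
theorem Q3463 : ∀ i, i < 3463 → P i := stepQ 3462 Q3462 (allL N3462 (tt N3445 F10303) (tt N3506 F10304) (tt N3448 F10267) (tt N1617 F10268) (tt N7310 (iv4 F18382)) (tt N3404 (iv5 F10272)) (tt N1570 (iv6 D5208)) (tt N3504 (iv7 F10324)))
theorem Q3464 : ∀ i, i < 3464 → P i := stepQ 3463 Q3463 (allL N3463 (tt N1576 F10253) (tt N3471 F10254) (tt N3449 F10255) (tt N4654 (iv3 F22514)) (tt N1571 (iv4 D5211)) (tt N7315 D11290) (tt N7316 D11291) (tt N3446 F10256))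
theorem Q3465 : ∀ i, i < 3465 → P i := stepQ 3464 Q3464 (allL N3464 (tt N7312 (iv1 F18396)) (tt N7311 F18392) (tt N3450 (iv2 F10342)) (tt N3660 (iv3 F10343)) (tt N7317 D11292) (tt N1571 (iv5 D5212)) (tt N5443 (iv6 F12466)) (tt N3447 F10341))
theorem Q3466 : ∀ i, i < 3466 → P i := stepQ 3465 Q3465 (allL N3465 (tt N7281 (iv1 F18320)) (tt N1585 F10330) (tt N3451 F10331) (tt N3630 F10332) (tt N7316 (iv4 F18413)) (tt N7318 D11293) (tt N1571 (iv6 D5213)) (tt N7280 (iv7 F18313)))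
theorem Q3467 : ∀ i, i < 3467 → P i := stepQ 3466 Q3466 (allL N3466 (tt N3455 (iv1 F7775)) (tt N1572 (iv0 D5214)) (tt N3452 F10178) (tt N1620 F9911) (tt N7319 D11294) (tt N4357 (iv5 F10494)) (tt N3400 F9912) (tt N3453 (iv7 F9967)))
theorem Q3468 : ∀ i, i < 3468 → P i := stepQ 3467 Q3467 (allL N3467 (tt N1572 (iv1 D5215)) (tt N3455 F7768) (tt N3453 (iv2 F10179)) (tt N3661 F10180) (tt N7320 D11295) (tt N3418 (iv5 F7769)) (tt N7321 D11296) (tt N3452 F10182))
theorem Q3469 : ∀ i, i < 3469 → P i := stepQ 3468 Q3468 (allL N3468 (tt N7322 D11297) (tt N7323 D11298) (tt N3454 F7770) (tt N7324 D11299) (tt N1572 (iv4 D5216)) (tt N7325 D11300) (tt N2523 F7771) (tt N7326 D11301))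
theorem Q3470 : ∀ i, i < 3470 → P i := stepQ 3469 Q3469 (allL N3469 (tt N3453 (iv1 F7776)) (tt N3452 F7777) (tt N3455 F7772) (tt N3469 F7773) (tt N7326 (iv4 F18445)) (tt N1573 F7774) (tt N7327 D11302) (tt N1572 (iv7 D5217)))
theorem Q3471 : ∀ i, i < 3471 → P i := stepQ 3470 Q3470 (allL N3470 (tt N7328 D11303) (tt N7329 D11304) (tt N3473 (iv2 F7787)) (tt N3872 (iv3 F8924)) (tt N7330 D11305) (tt N1574 (iv5 D5220)) (tt N4665 (iv6 F11067)) (tt N7331 D11306))
theorem Q3472 : ∀ i, i < 3472 → P i := stepQ 3471 Q3471 (allL N3471 (tt N3463 (iv1 F10254)) (tt N3460 (iv0 F10261)) (tt N3474 (iv2 F7788)) (tt N3873 (iv3 F8927)) (tt N1592 F7779) (tt N7331 (iv5 F18455)) (tt N3471 F7780) (tt N1574 (iv7 D5221)))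
theorem Q3473 : ∀ i, i < 3473 → P i := stepQ 3472 Q3472 (allL N3472 (tt N4603 (iv1 F22512)) (tt N7332 D11308) (tt N2163 F7781) (tt N2159 F7782) (tt N2163 F7783) (tt N7333 D11309) (tt N1575 (iv6 D5222)) (tt N7334 D11310))
theorem Q3474 : ∀ i, i < 3474 → P i := stepQ 3473 Q3473 (allL N3473 (tt N7335 D11311) (tt N7336 D11312) (tt N3470 F7787) (tt N4689 (iv3 F11105)) (tt N7337 D11313) (tt N1576 (iv5 D5225)) (tt N7333 (iv6 F18459)) (tt N7338 D11314))
theorem Q3475 : ∀ i, i < 3475 → P i := stepQ 3474 Q3474 (allL N3474 (tt N3449 (iv1 F10238)) (tt N3446 (iv0 F10227)) (tt N3471 F7788) (tt N4690 (iv3 F11107)) (tt N1667 F7789) (tt N7338 (iv5 F18472)) (tt N3474 F7790) (tt N1576 (iv7 D5226)))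
theorem Q3476 : ∀ i, i < 3476 → P i := stepQ 3475 Q3475 (allL N3475 (tt N2212 F10150) (tt N1577 (iv0 D5227)) (tt N1771 F10151) (tt N2203 F10152) (tt N7339 D11315) (tt N7340 D11316) (tt N7341 D11317) (tt N2213 F10153))
theorem Q3477 : ∀ i, i < 3477 → P i := stepQ 3476 Q3476 (allL N3476 (tt N7342 D11318) (tt N2225 (iv0 F11195)) (tt N4624 (iv2 F11003)) (tt N1581 F7793) (tt N7343 D11319) (tt N1577 (iv5 D5229)) (tt N3574 (iv6 F8193)) (tt N7344 D11320))
theorem Q3478 : ∀ i, i < 3478 → P i := stepQ 3477 Q3477 (allL N3477 (tt N2213 F10168) (tt N1771 F10169) (tt N2212 F10158) (tt N1582 F7794) (tt N1633 F7795) (tt N7344 (iv5 F18497)) (tt N3477 F7796) (tt N1577 (iv7 D5230)))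
theorem Q3479 : ∀ i, i < 3479 → P i := stepQ 3478 Q3478 (allL N3478 (tt N7274 (iv1 F18291)) (tt N1578 (iv0 D5231)) (tt N7272 (iv2 F26036)) (tt N5262 (iv3 F19466)) (tt N7272 (iv4 F19528)) (tt N7345 D11324) (tt N7346 D11325) (tt N5270 (iv7 F26041)))
theorem Q3480 : ∀ i, i < 3480 → P i := stepQ 3479 Q3479 (allL N3479 (tt N1578 (iv1 D5232)) (tt N7274 F18290) (tt N5270 (iv2 F26040)) (tt N7347 D11327) (tt N5270 (iv4 F19520)) (tt N7348 D11329) (tt N7349 D11330) (tt N7272 (iv7 F26037)))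
theorem Q3481 : ∀ i, i < 3481 → P i := stepQ 3480 Q3480 (allL N3480 (tt N7350 D11331) (tt N7351 D11332) (tt N7273 (iv2 F18284)) (tt N3574 (iv3 F8192)) (tt N7352 D11333) (tt N1578 (iv5 D5233)) (tt N1581 F7797) (tt N7353 D11334))
theorem Q3482 : ∀ i, i < 3482 → P i := stepQ 3481 Q3481 (allL N3481 (tt N5270 (iv1 F19524)) (tt N7272 F18289) (tt N7274 (iv2 F18286)) (tt N3575 (iv3 F8194)) (tt N4258 (iv4 F9845)) (tt N7353 (iv5 F18501)) (tt N3481 F7798) (tt N1578 (iv7 D5234)))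
theorem Q3483 : ∀ i, i < 3483 → P i := stepQ 3482 Q3482 (allL N3482 (tt N1770 F10114) (tt N1766 F10115) (tt N1767 F10125) (tt N1579 (iv3 D5235)) (tt N1647 F10015) (tt N7354 D11335) (tt N7355 D11336) (tt N1768 (iv7 F10126)))
theorem Q3484 : ∀ i, i < 3484 → P i := stepQ 3483 Q3483 (allL N3483 (tt N7356 D11337) (tt N7357 D11338) (tt N4283 (iv2 F9888)) (tt N7354 (iv3 F18503)) (tt N7358 D11339) (tt N1579 (iv5 D5236)) (tt N7359 D11340) (tt N3750 F10017))
theorem Q3485 : ∀ i, i < 3485 → P i := stepQ 3484 Q3484 (allL N3484 (tt N7316 F18414) (tt N7360 D11341) (tt N4284 (iv2 F9890)) (tt N7355 (iv3 F18507)) (tt N1646 F10018) (tt N7361 D11342) (tt N1579 (iv6 D5237)) (tt N7362 D11343))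
theorem Q3486 : ∀ i, i < 3486 → P i := stepQ 3485 Q3485 (allL N3485 (tt N4687 (iv1 F19408)) (tt N7363 D11345) (tt N7364 D11346) (tt N1580 (iv3 D5238)) (tt N1690 F7799) (tt N7365 D11347) (tt N7366 D11348) (tt N3599 (iv7 F8218)))
theorem Q3487 : ∀ i, i < 3487 → P i := stepQ 3486 Q3486 (allL N3486 (tt N7357 (iv1 F18512)) (tt N7356 F18511) (tt N3750 F10007) (tt N7365 (iv3 F18525)) (tt N7367 D11349) (tt N1580 (iv5 D5239)) (tt N7368 D11350) (tt N4283 (iv7 F9889)))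
theorem Q3488 : ∀ i, i < 3488 → P i := stepQ 3487 Q3487 (allL N3487 (tt N7369 D11351) (tt N7284 F18330) (tt N3751 F10008) (tt N7366 (iv3 F18526)) (tt N1678 F10009) (tt N7370 D11352) (tt N1580 (iv6 D5240)) (tt N7371 D11353))
theorem Q3489 : ∀ i, i < 3489 → P i := stepQ 3488 Q3488 (allL N3488 (tt N7278 (iv1 F18304)) (tt N1581 (iv0 D5241)) (tt N7275 F18293) (tt N7372 D11354) (tt N7373 D11355) (tt N3628 (iv5 F10139)) (tt N7374 D11356) (tt N7276 (iv7 F18297)))
theorem Q3490 : ∀ i, i < 3490 → P i := stepQ 3489 Q3489 (allL N3489 (tt N1581 (iv1 D5242)) (tt N7278 F18303) (tt N7276 (iv2 F18299)) (tt N7375 D11357) (tt N7376 D11358) (tt N3683 (iv5 F10112)) (tt N7377 D11359) (tt N7275 F18294))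
theorem Q3491 : ∀ i, i < 3491 → P i := stepQ 3490 Q3490 (allL N3490 (tt N7378 D11360) (tt N7379 D11361) (tt N7277 (iv2 F18300)) (tt N7380 D11362) (tt N1581 (iv4 D5243)) (tt N7381 D11363) (tt N7352 (iv6 F18500)) (tt N7382 D11364))
theorem Q3492 : ∀ i, i < 3492 → P i := stepQ 3491 Q3491 (allL N3491 (tt N7276 (iv1 F18296)) (tt N7275 F18295) (tt N7278 (iv2 F18301)) (tt N7344 (iv3 F18496)) (tt N7382 (iv4 F18548)) (tt N1582 F7801) (tt N7383 D11365) (tt N1581 (iv7 D5244)))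
theorem Q3493 : ∀ i, i < 3493 → P i := stepQ 3492 Q3492 (allL N3492 (tt N7384 D11366) (tt N7385 D11367) (tt N3677 F10176) (tt N1783 F9953) (tt N7386 D11368) (tt N1583 (iv5 D5260)) (tt N7387 D11369) (tt N2264 F9954))
theorem Q3494 : ∀ i, i < 3494 → P i := stepQ 3493 Q3493 (allL N3493 (tt N7304 F18364) (tt N7388 D11370) (tt N3678 F10141) (tt N1784 F9955) (tt N1585 F7815) (tt N7389 D11371) (tt N1583 (iv6 D5261)) (tt N7390 D11372))
theorem Q3495 : ∀ i, i < 3495 → P i := stepQ 3494 Q3494 (allL N3494 (tt N1587 (iv1 F7824)) (tt N1584 (iv0 D5263)) (tt N3745 (iv2 F10215)) (tt N3627 (iv3 F10216)) (tt N7391 D11373) (tt N3427 F7819) (tt N7235 (iv6 F18192)) (tt N3427 F10214))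
theorem Q3496 : ∀ i, i < 3496 → P i := stepQ 3495 Q3495 (allL N3495 (tt N7392 D11374) (tt N3818 F10186) (tt N7279 (iv2 F18305)) (tt N3654 (iv3 F10300)) (tt N1584 (iv4 D5265)) (tt N4343 (iv5 F10467)) (tt N7393 D11375) (tt N4944 (iv7 F11486)))
theorem Q3497 : ∀ i, i < 3497 → P i := stepQ 3496 Q3496 (allL N3496 (tt N3418 F7821) (tt N4357 F10496) (tt N4356 (iv2 F10491)) (tt N3912 (iv3 F10196)) (tt N7393 (iv4 F18576)) (tt N7286 F18335) (tt N1584 (iv6 D5266)) (tt N4355 F10486))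
theorem Q3498 : ∀ i, i < 3498 → P i := stepQ 3497 Q3497 (allL N3497 (tt N1585 (iv1 D5269)) (tt N7281 F18319) (tt N7280 (iv2 F18311)) (tt N1653 F10321) (tt N7360 F18514) (tt N7394 D11376) (tt N3504 (iv6 F7831)) (tt N3451 F10322))
theorem Q3499 : ∀ i, i < 3499 → P i := stepQ 3498 Q3498 (allL N3498 (tt N3415 F7825) (tt N4313 F10430) (tt N4312 (iv2 F10426)) (tt N2090 F10349) (tt N7395 D11377) (tt N1585 (iv5 D5270)) (tt N7286 (iv6 F18337)) (tt N4311 (iv7 F10752)))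
theorem Q3500 : ∀ i, i < 3500 → P i := stepQ 3499 Q3499 (allL N3499 (tt N7280 (iv1 F18309)) (tt N3451 (iv0 F10396)) (tt N7281 (iv2 F18315)) (tt N4294 (iv3 F10391)) (tt N7390 (iv4 F18565)) (tt N4311 (iv5 F10751)) (tt N7282 (iv6 F18325)) (tt N1585 (iv7 D5271)))
theorem Q3501 : ∀ i, i < 3501 → P i := stepQ 3500 Q3500 (allL N3500 (tt N2048 F19360) (tt N2234 F9975) (tt N1791 F9976) (tt N1586 (iv3 D5279)) (tt N3500 F8374) (tt N7396 D11378) (tt N7397 D11379) (tt N2235 F9977))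
theorem Q3502 : ∀ i, i < 3502 → P i := stepQ 3501 Q3501 (allL N3501 (tt N7385 (iv1 F18555)) (tt N7384 F18552) (tt N2264 F10177) (tt N7396 (iv3 F18586)) (tt N7398 D11380) (tt N1586 (iv5 D5280)) (tt N7399 D11381) (tt N3677 F10175))
theorem Q3503 : ∀ i, i < 3503 → P i := stepQ 3502 Q3502 (allL N3502 (tt N7400 D11382) (tt N4514 (iv0 F10755)) (tt N2265 (iv2 F10205)) (tt N7397 (iv3 F18591)) (tt N1588 F7829) (tt N7401 D11383) (tt N1586 (iv6 D5281)) (tt N7402 D11384))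
theorem Q3504 : ∀ i, i < 3504 → P i := stepQ 3503 Q3503 (allL N3503 (tt N3818 F11424) (tt N7392 F18573) (tt N4944 F11487) (tt N7403 D11385) (tt N1587 (iv4 D5282)) (tt N7404 D11386) (tt N3766 F10075) (tt N7279 (iv7 F18306)))
theorem Q3505 : ∀ i, i < 3505 → P i := stepQ 3504 Q3504 (allL N3504 (tt N7282 (iv1 F18327)) (tt N1588 (iv0 D5283)) (tt N7236 (iv2 F18195)) (tt N1660 F10323) (tt N7369 (iv4 F18529)) (tt N2022 (iv5 F10327)) (tt N3497 F7831) (tt N3462 F10324))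
theorem Q3506 : ∀ i, i < 3506 → P i := stepQ 3505 Q3505 (allL N3505 (tt N3400 (iv1 F10211)) (tt N3417 (iv0 F7832)) (tt N4351 F10478) (tt N3505 F8370) (tt N7405 D11387) (tt N1588 (iv5 D5285)) (tt N7230 (iv6 F18174)) (tt N4352 (iv7 F10480)))
theorem Q3507 : ∀ i, i < 3507 → P i := stepQ 3506 Q3506 (allL N3506 (tt N3462 (iv1 F10304)) (tt N7236 F18199) (tt N7282 (iv2 F18321)) (tt N3506 F8371) (tt N7402 (iv4 F18606)) (tt N4352 F10482) (tt N7281 (iv6 F18318)) (tt N1588 (iv7 D5286)))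
theorem Q3508 : ∀ i, i < 3508 → P i := stepQ 3507 Q3507 (allL N3507 (tt N4564 F10893) (tt N7406 D11388) (tt N3528 (iv2 F7932)) (tt N3447 F10340) (tt N7407 D11389) (tt N1589 (iv5 D5290)) (tt N7408 D11390) (tt N3660 (iv7 F8410)))
theorem Q3509 : ∀ i, i < 3509 → P i := stepQ 3508 Q3508 (allL N3508 (tt N1678 F8687) (tt N3755 F8696) (tt N3529 (iv2 F7935)) (tt N3448 F10220) (tt N4908 F11429) (tt N1746 F7901) (tt N1589 (iv6 D5291)) (tt N3753 (iv7 F8686)))
theorem Q3510 : ∀ i, i < 3510 → P i := stepQ 3509 Q3509 (allL N3509 (tt N7406 (iv1 F18620)) (tt N4564 (iv0 F10892)) (tt N3660 (iv2 F8409)) (tt N1618 F7902) (tt N7409 D11391) (tt N1590 (iv5 D5293)) (tt N3865 (iv6 F8915)) (tt N3528 (iv7 F7934)))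
theorem Q3511 : ∀ i, i < 3511 → P i := stepQ 3510 Q3510 (allL N3510 (tt N3633 F8648) (tt N1959 (iv0 F10111)) (tt N3630 (iv2 F8458)) (tt N1619 F7903) (tt N7304 (iv4 F18363)) (tt N4460 (iv5 F10623)) (tt N1590 (iv6 D5294)) (tt N3631 (iv7 F8457)))
theorem Q3512 : ∀ i, i < 3512 → P i := stepQ 3511 Q3511 (allL N3511 (tt N3663 (iv1 F8423)) (tt N1591 (iv0 D5295)) (tt N3536 (iv2 F8086)) (tt N3452 (iv3 F10183)) (tt N7322 (iv4 F18437)) (tt N7156 (iv5 F18029)) (tt N1743 F7904) (tt N3661 (iv7 F8413)))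
theorem Q3513 : ∀ i, i < 3513 → P i := stepQ 3512 Q3512 (allL N3512 (tt N1591 (iv1 D5296)) (tt N3663 F8422) (tt N3661 (iv2 F8415)) (tt N1621 F7906) (tt N7323 (iv4 F18433)) (tt N1741 (iv5 F7905)) (tt N7410 D11392) (tt N3536 (iv7 F8085)))
theorem Q3514 : ∀ i, i < 3514 → P i := stepQ 3513 Q3513 (allL N3513 (tt N7293 F18347) (tt N7294 (iv0 F18348)) (tt N3662 (iv2 F8417)) (tt N7411 D11393) (tt N1591 (iv4 D5297)) (tt N7412 D11394) (tt N2604 F7907) (tt N7413 D11395))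
theorem Q3515 : ∀ i, i < 3515 → P i := stepQ 3514 Q3514 (allL N3514 (tt N3661 (iv1 F8412)) (tt N3536 (iv0 F8104)) (tt N3663 (iv2 F8419)) (tt N1607 F7908) (tt N7413 (iv4 F18635)) (tt N1592 F7909) (tt N5479 (iv6 F12527)) (tt N1591 (iv7 D5298)))
theorem Q3516 : ∀ i, i < 3516 → P i := stepQ 3515 Q3515 (allL N3515 (tt N1720 F7912) (tt N3689 (iv0 F8468)) (tt N3544 (iv2 F8110)) (tt N1593 (iv3 D5299)) (tt N1609 F7911) (tt N3543 (iv5 F8105)) (tt N7414 D11396) (tt N3515 F7910))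
theorem Q3517 : ∀ i, i < 3517 → P i := stepQ 3516 Q3516 (allL N3516 (tt N1998 F7915) (tt N3666 (iv0 F8435)) (tt N2047 F7913) (tt N3571 (iv3 F8186)) (tt N1593 (iv4 D5300)) (tt N3689 (iv5 F8467)) (tt N7415 D11397) (tt N3516 F7914))
theorem Q3518 : ∀ i, i < 3518 → P i := stepQ 3517 Q3517 (allL N3517 (tt N3635 F19386) (tt N1709 (iv0 F19387)) (tt N3518 (iv2 F7916)) (tt N7414 (iv3 F18638)) (tt N7415 (iv4 F18641)) (tt N7416 D11400) (tt N1593 (iv6 D5301)) (tt N3634 (iv7 F19347)))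
theorem Q3519 : ∀ i, i < 3519 → P i := stepQ 3518 Q3518 (allL N3518 (tt N1647 (iv1 F19348)) (tt N3757 (iv0 F19349)) (tt N3517 F7916) (tt N4594 (iv3 F10966)) (tt N4416 (iv4 F10579)) (tt N7417 D11404) (tt N1594 (iv6 D5302)) (tt N3756 (iv7 F19385)))
theorem Q3520 : ∀ i, i < 3520 → P i := stepQ 3519 Q3519 (allL N3519 (tt N7418 D11406) (tt N7419 D11407) (tt N1596 F7917) (tt N3547 (iv3 F8116)) (tt N1764 F7918) (tt N7420 D11408) (tt N1595 (iv6 D5303)) (tt N7421 D11409))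
theorem Q3521 : ∀ i, i < 3521 → P i := stepQ 3520 Q3520 (allL N3520 (tt N7421 (iv1 F18659)) (tt N1596 (iv0 D5304)) (tt N7418 (iv2 F22887)) (tt N7422 D11411) (tt N7423 D11412) (tt N7424 D11413) (tt N7425 D11414) (tt N7419 (iv7 F22891)))
theorem Q3522 : ∀ i, i < 3522 → P i := stepQ 3521 Q3521 (allL N3521 (tt N1596 (iv1 D5305)) (tt N7421 F18657) (tt N7419 (iv2 F22890)) (tt N7426 D11416) (tt N4426 (iv4 F10601)) (tt N7427 D11417) (tt N7428 D11418) (tt N7418 (iv7 F22888)))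
theorem Q3523 : ∀ i, i < 3523 → P i := stepQ 3522 Q3522 (allL N3522 (tt N7429 D11419) (tt N7430 D11420) (tt N7420 (iv2 F18651)) (tt N1597 F7919) (tt N7431 D11421) (tt N1596 (iv5 D5306)) (tt N2006 F7920) (tt N7432 D11422))
theorem Q3524 : ∀ i, i < 3524 → P i := stepQ 3523 Q3523 (allL N3523 (tt N7419 (iv1 F18650)) (tt N7418 F18656) (tt N7421 (iv2 F18653)) (tt N1598 F7921) (tt N3873 (iv4 F8928)) (tt N7432 (iv5 F18665)) (tt N3523 F7922) (tt N1596 (iv7 D5307)))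
theorem Q3525 : ∀ i, i < 3525 → P i := stepQ 3524 Q3524 (allL N3524 (tt N3559 (iv1 F8140)) (tt N1597 (iv0 D5308)) (tt N3557 F8132) (tt N7433 D11423) (tt N5293 (iv4 F11946)) (tt N2244 F7923) (tt N7434 D11424) (tt N2243 (iv7 F7924)))
theorem Q3526 : ∀ i, i < 3526 → P i := stepQ 3525 Q3525 (allL N3525 (tt N1597 (iv1 D5309)) (tt N3559 F8139) (tt N2243 F7926) (tt N7389 (iv3 F18562)) (tt N5294 (iv4 F11952)) (tt N1784 (iv5 F7925)) (tt N7435 D11425) (tt N3557 (iv7 F8133)))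
theorem Q3527 : ∀ i, i < 3527 → P i := stepQ 3526 Q3526 (allL N3526 (tt N4748 (iv1 F11202)) (tt N4751 (iv0 F11204)) (tt N3558 (iv2 F8135)) (tt N7436 D11426) (tt N1597 (iv4 D5310)) (tt N7437 D11427) (tt N2010 F7927) (tt N7438 D11428))
theorem Q3528 : ∀ i, i < 3528 → P i := stepQ 3527 Q3527 (allL N3527 (tt N2243 (iv1 F7929)) (tt N3557 F8134) (tt N3559 (iv2 F8137)) (tt N7432 (iv3 F18664)) (tt N7438 (iv4 F18671)) (tt N1598 F7928) (tt N7439 D11429) (tt N1597 (iv7 D5311)))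
theorem Q3529 : ∀ i, i < 3529 → P i := stepQ 3528 Q3528 (allL N3528 (tt N7440 D11430) (tt N4577 (iv0 F10922)) (tt N3507 F7932) (tt N1600 F7933) (tt N7441 D11431) (tt N1599 (iv5 D5313)) (tt N7442 D11432) (tt N3509 F7934))
theorem Q3530 : ∀ i, i < 3530 → P i := stepQ 3529 Q3529 (allL N3529 (tt N1708 F8550) (tt N3685 F8551) (tt N3508 F7935) (tt N1601 F7936) (tt N4514 (iv4 F10754)) (tt N2024 F7937) (tt N1599 (iv6 D5314)) (tt N3684 F8454))
theorem Q3531 : ∀ i, i < 3531 → P i := stepQ 3530 Q3530 (allL N3530 (tt N1602 (iv1 F7939)) (tt N1600 (iv0 D5315)) (tt N3560 F8149) (tt N2074 (iv3 F10071)) (tt N5303 (iv4 F11973)) (tt N1990 F7938) (tt N2617 (iv6 F7940)) (tt N3561 (iv7 F8152)))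
theorem Q3532 : ∀ i, i < 3532 → P i := stepQ 3531 Q3531 (allL N3531 (tt N1600 (iv1 D5316)) (tt N1602 F7941) (tt N3561 (iv2 F8154)) (tt N7406 (iv3 F18624)) (tt N4496 (iv4 F10700)) (tt N1652 (iv5 F7942)) (tt N1654 F7943) (tt N3560 F8150))
theorem Q3533 : ∀ i, i < 3533 → P i := stepQ 3532 Q3532 (allL N3532 (tt N4482 (iv1 F10691)) (tt N4580 F10930) (tt N3562 (iv2 F8156)) (tt N7443 D11433) (tt N1600 (iv4 D5317)) (tt N7444 D11434) (tt N7445 D11435) (tt N3564 (iv7 F8161)))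
theorem Q3534 : ∀ i, i < 3534 → P i := stepQ 3533 Q3533 (allL N3533 (tt N2548 F7945) (tt N2545 (iv0 F7947)) (tt N3563 (iv2 F8158)) (tt N7442 (iv3 F18685)) (tt N7445 (iv4 F18692)) (tt N2025 F7944) (tt N1600 (iv6 D5318)) (tt N4413 (iv7 F10572)))
theorem Q3535 : ∀ i, i < 3535 → P i := stepQ 3534 Q3534 (allL N3534 (tt N4580 F10929) (tt N4482 (iv0 F10690)) (tt N3564 (iv2 F8160)) (tt N7446 D11436) (tt N1602 (iv4 D5325)) (tt N7447 D11437) (tt N2416 F12423) (tt N3562 (iv7 F8157)))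
theorem Q3536 : ∀ i, i < 3536 → P i := stepQ 3535 Q3535 (allL N3535 (tt N1994 F8082) (tt N1993 (iv0 F8083)) (tt N3565 (iv2 F8162)) (tt N7292 (iv3 F18343)) (tt N4554 (iv4 F10864)) (tt N1603 (iv5 D5326)) (tt N4410 (iv6 F10568)) (tt N3647 (iv7 F8308)))
theorem Q3537 : ∀ i, i < 3537 → P i := stepQ 3536 Q3536 (allL N3536 (tt N3514 F8104) (tt N1666 (iv0 F8087)) (tt N3511 F8086) (tt N1604 (iv3 D5327)) (tt N7296 (iv4 F18352)) (tt N3815 (iv5 F8838)) (tt N2019 F8084) (tt N3512 F8085))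
theorem Q3538 : ∀ i, i < 3538 → P i := stepQ 3537 Q3537 (allL N3537 (tt N2460 F8091) (tt N1853 (iv0 F8092)) (tt N2456 F8088) (tt N7448 D11438) (tt N1604 (iv4 D5328)) (tt N7449 D11439) (tt N2021 F8089) (tt N2457 F8090))
theorem Q3539 : ∀ i, i < 3539 → P i := stepQ 3538 Q3538 (allL N3538 (tt N1853 F8096) (tt N2460 F8097) (tt N2457 F8094) (tt N7450 D11440) (tt N1605 (iv4 D5330)) (tt N7451 D11441) (tt N7452 D11442) (tt N2456 F8095))
theorem Q3540 : ∀ i, i < 3540 → P i := stepQ 3539 Q3539 (allL N3539 (tt N5354 F12084) (tt N4084 F9457) (tt N3566 (iv2 F8167)) (tt N7295 (iv3 F18349)) (tt N7452 (iv4 F18708)) (tt N2016 F8098) (tt N1605 (iv6 D5331)) (tt N2016 F8099))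
theorem Q3541 : ∀ i, i < 3541 → P i := stepQ 3540 Q3540 (allL N3540 (tt N7453 D11443) (tt N7454 D11444) (tt N7455 D11445) (tt N1606 (iv3 D5332)) (tt N7411 (iv4 F18633)) (tt N7456 D11446) (tt N2317 F8100) (tt N7457 D11447))
theorem Q3542 : ∀ i, i < 3542 → P i := stepQ 3541 Q3541 (allL N3541 (tt N5304 (iv1 F11977)) (tt N5309 (iv0 F11985)) (tt N3568 (iv2 F8173)) (tt N7456 (iv3 F18712)) (tt N7458 D11448) (tt N1606 (iv5 D5333)) (tt N7459 D11449) (tt N7460 D11450))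
theorem Q3543 : ∀ i, i < 3543 → P i := stepQ 3542 Q3542 (allL N3542 (tt N2256 (iv1 F8102)) (tt N2272 F8103) (tt N3569 (iv2 F8174)) (tt N7457 (iv3 F18713)) (tt N1607 F8101) (tt N7460 (iv5 F18715)) (tt N5485 (iv6 F12547)) (tt N1606 (iv7 D5334)))
theorem Q3544 : ∀ i, i < 3544 → P i := stepQ 3543 Q3543 (allL N3543 (tt N1946 (iv1 F8109)) (tt N3385 (iv0 F8108)) (tt N4254 F9836) (tt N1608 (iv3 D5335)) (tt N2131 F8107) (tt N3515 F8105) (tt N7461 D11451) (tt N3543 F8106))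
theorem Q3545 : ∀ i, i < 3545 → P i := stepQ 3544 Q3544 (allL N3544 (tt N3689 (iv1 F8469)) (tt N1720 (iv0 F8113)) (tt N3515 F8110) (tt N2132 F8111) (tt N1608 (iv4 D5336)) (tt N4254 (iv5 F9833)) (tt N7462 D11452) (tt N3544 F8112))
theorem Q3546 : ∀ i, i < 3546 → P i := stepQ 3545 Q3545 (allL N3545 (tt N3737 (iv1 F19325)) (tt N1656 (iv0 F19326)) (tt N3546 (iv2 F8114)) (tt N7461 (iv3 F18716)) (tt N7462 (iv4 F18720)) (tt N7463 D11455) (tt N1608 (iv6 D5337)) (tt N3736 (iv7 F19380)))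
theorem Q3547 : ∀ i, i < 3547 → P i := stepQ 3546 Q3546 (allL N3546 (tt N1697 F19381) (tt N3649 (iv0 F19382)) (tt N3545 F8114) (tt N4630 (iv3 F11023)) (tt N7414 (iv4 F18639)) (tt N7464 D11459) (tt N1609 (iv6 D5338)) (tt N3648 (iv7 F19328)))
theorem Q3548 : ∀ i, i < 3548 → P i := stepQ 3547 Q3547 (allL N3547 (tt N7465 D11461) (tt N7466 D11462) (tt N1611 F8115) (tt N3519 F8116) (tt N2426 F8117) (tt N7467 D11463) (tt N1610 (iv6 D5339)) (tt N7468 D11464))
theorem Q3549 : ∀ i, i < 3549 → P i := stepQ 3548 Q3548 (allL N3548 (tt N7468 (iv1 F18743)) (tt N1611 (iv0 D5340)) (tt N7465 (iv2 F22895)) (tt N7469 D11466) (tt N7470 D11467) (tt N7471 D11468) (tt N7472 D11469) (tt N7466 (iv7 F22900)))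
theorem Q3550 : ∀ i, i < 3550 → P i := stepQ 3549 Q3549 (allL N3549 (tt N1611 (iv1 D5341)) (tt N7468 F18740) (tt N7466 (iv2 F22899)) (tt N7473 D11471) (tt N7474 D11472) (tt N7475 D11473) (tt N7476 D11474) (tt N7465 (iv7 F22896)))
theorem Q3551 : ∀ i, i < 3551 → P i := stepQ 3550 Q3550 (allL N3550 (tt N7477 D11475) (tt N7478 D11476) (tt N7467 (iv2 F18732)) (tt N1614 F8118) (tt N7479 D11477) (tt N1611 (iv5 D5342)) (tt N3391 F8119) (tt N7480 D11478))
theorem Q3552 : ∀ i, i < 3552 → P i := stepQ 3551 Q3551 (allL N3551 (tt N7466 (iv1 F18731)) (tt N7465 F18739) (tt N7468 (iv2 F18735)) (tt N1615 F8120) (tt N2430 F8121) (tt N7480 (iv5 F18753)) (tt N3551 F8122) (tt N1611 (iv7 D5343)))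
theorem Q3553 : ∀ i, i < 3553 → P i := stepQ 3552 Q3552 (allL N3552 (tt N3768 F10284) (tt N1721 F10285) (tt N3766 F10286) (tt N1612 (iv3 D5344)) (tt N1984 F10287) (tt N7481 D11479) (tt N4944 (iv6 F11485)) (tt N2448 F8123))
theorem Q3554 : ∀ i, i < 3554 → P i := stepQ 3553 Q3553 (allL N3553 (tt N4445 (iv1 F10613)) (tt N7482 D11480) (tt N2442 F8124) (tt N7481 (iv3 F18754)) (tt N7483 D11481) (tt N1612 (iv5 D5345)) (tt N7484 D11482) (tt N2449 F8125))
theorem Q3555 : ∀ i, i < 3555 → P i := stepQ 3554 Q3554 (allL N3554 (tt N1673 (iv1 F19503)) (tt N4258 F19502) (tt N4256 (iv2 F19459)) (tt N1613 (iv3 D5346)) (tt N3554 F8126) (tt N7485 D11486) (tt N7486 D11487) (tt N2441 F8127))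
theorem Q3556 : ∀ i, i < 3556 → P i := stepQ 3555 Q3555 (allL N3555 (tt N7482 (iv1 F18756)) (tt N4445 (iv0 F10612)) (tt N2449 F8128) (tt N7485 (iv3 F18771)) (tt N7487 D11488) (tt N1613 (iv5 D5347)) (tt N7488 D11489) (tt N2442 F8129))
theorem Q3557 : ∀ i, i < 3557 → P i := stepQ 3556 Q3556 (allL N3556 (tt N3744 (iv1 F8654)) (tt N1649 F8287) (tt N2450 F8130) (tt N7486 (iv3 F18773)) (tt N1852 F8131) (tt N4526 (iv5 F10774)) (tt N1613 (iv6 D5348)) (tt N3743 (iv7 F8646)))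
theorem Q3558 : ∀ i, i < 3558 → P i := stepQ 3557 Q3557 (allL N3557 (tt N3527 (iv1 F8134)) (tt N1614 (iv0 D5349)) (tt N3524 (iv2 F8132)) (tt N7489 D11490) (tt N4753 (iv4 F11206)) (tt N3917 (iv5 F9050)) (tt N7490 D11491) (tt N3525 F8133))
theorem Q3559 : ∀ i, i < 3559 → P i := stepQ 3558 Q3558 (allL N3558 (tt N5288 (iv1 F11936)) (tt N5291 (iv0 F11943)) (tt N3526 F8135) (tt N7491 D11492) (tt N1614 (iv4 D5350)) (tt N7492 D11493) (tt N3395 F8136) (tt N7493 D11494))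
theorem Q3560 : ∀ i, i < 3560 → P i := stepQ 3559 Q3559 (allL N3559 (tt N3525 (iv1 F8139)) (tt N3524 F8140) (tt N3527 F8137) (tt N7480 (iv3 F18752)) (tt N7493 (iv4 F18787)) (tt N1615 F8138) (tt N7494 D11495) (tt N1614 (iv7 D5351)))
theorem Q3561 : ∀ i, i < 3561 → P i := stepQ 3560 Q3560 (allL N3560 (tt N1618 (iv1 F8148)) (tt N1616 (iv0 D5356)) (tt N3530 (iv2 F8149)) (tt N7440 (iv3 F18681)) (tt N4587 F26535) (tt N1995 F8147) (tt N4127 (iv6 F9550)) (tt N3531 (iv7 F8150)))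
theorem Q3562 : ∀ i, i < 3562 → P i := stepQ 3561 Q3561 (allL N3561 (tt N1616 (iv1 D5357)) (tt N1618 F8151) (tt N3531 F8154) (tt N2079 F10073) (tt N4586 (iv4 F10941)) (tt N1702 (iv5 F8153)) (tt N1704 F8155) (tt N3530 F8152))
theorem Q3563 : ∀ i, i < 3563 → P i := stepQ 3562 Q3562 (allL N3562 (tt N4572 (iv1 F10909)) (tt N4490 F10698) (tt N3532 F8156) (tt N7495 D11497) (tt N1616 (iv4 D5358)) (tt N5325 (iv5 F12021)) (tt N7496 D11498) (tt N3534 F8157))
theorem Q3564 : ∀ i, i < 3564 → P i := stepQ 3563 Q3563 (allL N3563 (tt N4086 F9460) (tt N4083 (iv0 F9454)) (tt N3533 F8158) (tt N7314 (iv3 F18405)) (tt N7496 (iv4 F18801)) (tt N3405 F8159) (tt N1616 (iv6 D5359)) (tt N5439 (iv7 F12457)))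
theorem Q3565 : ∀ i, i < 3565 → P i := stepQ 3564 Q3564 (allL N3564 (tt N4490 F10697) (tt N4572 (iv0 F10908)) (tt N3534 F8160) (tt N7497 D11499) (tt N1618 (iv4 D5360)) (tt N5326 (iv5 F12022)) (tt N4041 (iv6 F12023)) (tt N3532 F8161))
theorem Q3566 : ∀ i, i < 3566 → P i := stepQ 3565 Q3565 (allL N3565 (tt N1989 F8163) (tt N1988 (iv0 F8164)) (tt N3535 F8162) (tt N4460 F10625) (tt N4471 (iv4 F10642)) (tt N1619 (iv5 D5361)) (tt N5436 (iv6 F12446)) (tt N3749 (iv7 F8671)))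
theorem Q3567 : ∀ i, i < 3567 → P i := stepQ 3566 Q3566 (allL N3566 (tt N4360 (iv1 F10499)) (tt N2546 (iv0 F8170)) (tt N3539 F8167) (tt N7410 (iv3 F18628)) (tt N5319 (iv4 F12016)) (tt N3398 F8168) (tt N1621 (iv6 D5363)) (tt N3398 F8169))
theorem Q3568 : ∀ i, i < 3568 → P i := stepQ 3567 Q3567 (allL N3567 (tt N7498 D11500) (tt N7499 D11501) (tt N7500 D11502) (tt N1622 (iv3 D5364)) (tt N2458 F8171) (tt N7501 D11503) (tt N2422 F8172) (tt N7502 D11504))
theorem Q3569 : ∀ i, i < 3569 → P i := stepQ 3568 Q3568 (allL N3568 (tt N4588 F26539) (tt N7503 D11506) (tt N3541 F8173) (tt N7501 (iv3 F18806)) (tt N7504 D11507) (tt N1622 (iv5 D5365)) (tt N7505 D11508) (tt N7506 D11509))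
theorem Q3570 : ∀ i, i < 3570 → P i := stepQ 3569 Q3569 (allL N3569 (tt N2454 (iv1 F8176)) (tt N2452 F8177) (tt N3542 F8174) (tt N7502 (iv3 F18807)) (tt N1623 F8175) (tt N7506 (iv5 F18824)) (tt N4918 F26639) (tt N1622 (iv7 D5366)))
theorem Q3571 : ∀ i, i < 3571 → P i := stepQ 3570 Q3570 (allL N3570 (tt N2535 F8182) (tt N2534 F8183) (tt N2536 F8178) (tt N2461 F8179) (tt N4918 F26634) (tt N3570 F8180) (tt N1623 (iv6 D5367)) (tt N1863 F8181))
theorem Q3572 : ∀ i, i < 3572 → P i := stepQ 3571 Q3571 (allL N3571 (tt N1627 (iv1 F8188)) (tt N1624 (iv0 D5368)) (tt N2045 (iv2 F8187)) (tt N3516 F8186) (tt N2147 F8185) (tt N2145 F8184) (tt N7507 D11510) (tt N3571 F8189))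
theorem Q3573 : ∀ i, i < 3573 → P i := stepQ 3572 Q3572 (allL N3572 (tt N7508 D11511) (tt N7509 D11512) (tt N3577 (iv2 F8197)) (tt N3387 F8190) (tt N1625 F8191) (tt N7510 D11513) (tt N1624 (iv6 D5369)) (tt N7511 D11514))
theorem Q3574 : ∀ i, i < 3574 → P i := stepQ 3573 Q3573 (allL N3573 (tt N3580 (iv1 F8205)) (tt N1625 (iv0 D5370)) (tt N2431 (iv2 F19446)) (tt N3686 (iv3 F19447)) (tt N4626 F19445) (tt N7512 D11518) (tt N7513 D11519) (tt N3578 F19499))
theorem Q3575 : ∀ i, i < 3575 → P i := stepQ 3574 Q3574 (allL N3574 (tt N7514 D11525) (tt N4750 (iv0 F19436)) (tt N3579 (iv2 F8200)) (tt N3480 F8192) (tt N7515 D11527) (tt N1625 (iv5 D5372)) (tt N3476 F8193) (tt N7516 D11528))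
theorem Q3576 : ∀ i, i < 3576 → P i := stepQ 3575 Q3575 (allL N3575 (tt N3578 (iv1 F8199)) (tt N2431 (iv0 F19490)) (tt N3580 (iv2 F8201)) (tt N3481 F8194) (tt N7511 (iv4 F18832)) (tt N7516 (iv5 F18838)) (tt N3575 F8195) (tt N1625 (iv7 D5373)))
theorem Q3577 : ∀ i, i < 3577 → P i := stepQ 3576 Q3576 (allL N3576 (tt N4458 (iv1 F19531)) (tt N7517 D11530) (tt N3790 (iv2 F8807)) (tt N1628 F8196) (tt N4318 (iv4 F10440)) (tt N7518 D11531) (tt N1626 (iv6 D5374)) (tt N7519 D11532))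
theorem Q3578 : ∀ i, i < 3578 → P i := stepQ 3577 Q3577 (allL N3577 (tt N4422 (iv1 F22507)) (tt N7520 D11534) (tt N3572 F8197) (tt N4319 (iv3 F10441)) (tt N1628 F8198) (tt N7521 D11535) (tt N1627 (iv6 D5375)) (tt N7522 D11536))
theorem Q3579 : ∀ i, i < 3579 → P i := stepQ 3578 Q3578 (allL N3578 (tt N1628 (iv1 D5377)) (tt N3575 F8199) (tt N2195 (iv2 F19492)) (tt N3691 (iv3 F19493)) (tt N2151 (iv4 F19494)) (tt N7523 D11545) (tt N7524 D11546) (tt N3573 (iv7 F19499)))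
theorem Q3580 : ∀ i, i < 3580 → P i := stepQ 3579 Q3579 (allL N3579 (tt N5287 (iv1 F19432)) (tt N7525 D11548) (tt N3574 F8200) (tt N7518 (iv3 F18839)) (tt N7526 D11549) (tt N1628 (iv5 D5378)) (tt N4624 (iv6 F11004)) (tt N7527 D11550))
theorem Q3581 : ∀ i, i < 3581 → P i := stepQ 3580 Q3580 (allL N3580 (tt N2195 (iv1 F19450)) (tt N3573 F8205) (tt N3575 F8201) (tt N7519 (iv3 F18840)) (tt N7522 (iv4 F18845)) (tt N7527 (iv5 F18855)) (tt N3580 F8202) (tt N1628 (iv7 D5379)))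
theorem Q3582 : ∀ i, i < 3582 → P i := stepQ 3581 Q3581 (allL N3581 (tt N1633 (iv1 F8210)) (tt N1629 (iv0 D5380)) (tt N1630 F18925) (tt N7528 D11552) (tt N7529 D11553) (tt N7530 D11554) (tt N7531 D11555) (tt N1631 F18926))
theorem Q3583 : ∀ i, i < 3583 → P i := stepQ 3582 Q3582 (allL N3582 (tt N1629 (iv1 D5381)) (tt N1633 F8206) (tt N1631 (iv2 F18918)) (tt N4268 F9864) (tt N7188 (iv4 F18113)) (tt N7532 D11557) (tt N7533 D11558) (tt N1630 (iv7 F18924)))
theorem Q3584 : ∀ i, i < 3584 → P i := stepQ 3583 Q3583 (allL N3583 (tt N7534 D11559) (tt N7535 D11560) (tt N1632 F8207) (tt N3696 (iv3 F8481)) (tt N7536 D11561) (tt N1629 (iv5 D5382)) (tt N3696 (iv6 F8482)) (tt N7537 D11562))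
theorem Q3585 : ∀ i, i < 3585 → P i := stepQ 3584 Q3584 (allL N3584 (tt N1631 (iv1 F8211)) (tt N1630 F8212) (tt N1633 F8208) (tt N3697 (iv3 F8484)) (tt N2212 F10159) (tt N7537 (iv5 F18871)) (tt N3584 F8209) (tt N1629 (iv7 D5383)))
theorem Q3586 : ∀ i, i < 3586 → P i := stepQ 3585 Q3585 (allL N3585 (tt N7141 F22453) (tt N1734 F22454) (tt N4264 (iv2 F18909)) (tt N1630 (iv3 D5385)) (tt N4259 F9860) (tt N7538 D11572) (tt N7539 D11573) (tt N4268 (iv7 F18917)))
theorem Q3587 : ∀ i, i < 3587 → P i := stepQ 3586 Q3586 (allL N3586 (tt N7540 D11575) (tt N4414 (iv0 F19398)) (tt N7529 (iv2 F18929)) (tt N7180 (iv3 F18093)) (tt N1630 (iv4 D5386)) (tt N7541 D11577) (tt N7542 D11578) (tt N7188 (iv7 F18920)))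
theorem Q3588 : ∀ i, i < 3588 → P i := stepQ 3587 Q3587 (allL N3587 (tt N7543 D11580) (tt N7544 D11581) (tt N7530 (iv2 F18931)) (tt N7538 (iv3 F18883)) (tt N7545 D11582) (tt N1630 (iv5 D5387)) (tt N7546 D11583) (tt N7532 (iv7 F18922)))
theorem Q3589 : ∀ i, i < 3589 → P i := stepQ 3588 Q3588 (allL N3588 (tt N7524 (iv1 F19495)) (tt N7547 D11586) (tt N7531 (iv2 F18933)) (tt N7539 (iv3 F18884)) (tt N7542 (iv4 F18888)) (tt N7548 D11587) (tt N1630 (iv6 D5388)) (tt N7549 D11588))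
theorem Q3590 : ∀ i, i < 3590 → P i := stepQ 3589 Q3589 (allL N3589 (tt N1733 F18906) (tt N7550 D11591) (tt N7551 D11592) (tt N1631 (iv3 D5390)) (tt N7552 D11593) (tt N7553 D11594) (tt N7554 D11595) (tt N7528 (iv7 F18928)))
theorem Q3591 : ∀ i, i < 3591 → P i := stepQ 3590 Q3590 (allL N3590 (tt N4414 (iv1 F19399)) (tt N7540 F18891) (tt N7188 (iv2 F18919)) (tt N7555 D11596) (tt N1631 (iv4 D5391)) (tt N7556 D11597) (tt N7557 D11598) (tt N7529 (iv7 F18930)))
theorem Q3592 : ∀ i, i < 3592 → P i := stepQ 3591 Q3591 (allL N3591 (tt N7544 (iv1 F18892)) (tt N7543 F18895) (tt N7532 (iv2 F18921)) (tt N7553 (iv3 F18899)) (tt N7558 D11599) (tt N1631 (iv5 D5392)) (tt N7559 D11600) (tt N7530 (iv7 F18932)))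
theorem Q3593 : ∀ i, i < 3593 → P i := stepQ 3592 Q3592 (allL N3592 (tt N4809 (iv1 F20387)) (tt N7513 (iv0 F24202)) (tt N7533 (iv2 F18923)) (tt N7554 (iv3 F18900)) (tt N7557 (iv4 F18953)) (tt N7560 D11603) (tt N1631 (iv6 D5393)) (tt N7561 D11604))
theorem Q3594 : ∀ i, i < 3594 → P i := stepQ 3593 Q3593 (allL N3593 (tt N7537 (iv1 F18874)) (tt N1632 (iv0 D5394)) (tt N7534 (iv2 F22926)) (tt N7562 D11606) (tt N7563 D11607) (tt N7564 D11608) (tt N7565 D11609) (tt N7535 (iv7 F22924)))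
theorem Q3595 : ∀ i, i < 3595 → P i := stepQ 3594 Q3594 (allL N3594 (tt N1632 (iv1 D5395)) (tt N7537 F18873) (tt N7535 (iv2 F22923)) (tt N7566 D11611) (tt N7567 D11612) (tt N7568 D11613) (tt N7569 D11614) (tt N7534 (iv7 F22927)))
theorem Q3596 : ∀ i, i < 3596 → P i := stepQ 3595 Q3595 (allL N3595 (tt N7570 D11615) (tt N7571 D11616) (tt N7536 (iv2 F18869)) (tt N7572 D11617) (tt N1632 (iv4 D5396)) (tt N7573 D11618) (tt N3706 (iv6 F8491)) (tt N7574 D11619))
theorem Q3597 : ∀ i, i < 3597 → P i := stepQ 3596 Q3596 (allL N3596 (tt N7535 (iv1 F18867)) (tt N7534 F18872) (tt N7537 (iv2 F18870)) (tt N1643 F8215) (tt N7574 (iv4 F18958)) (tt N1633 F8216) (tt N7575 D11620) (tt N1632 (iv7 D5397)))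
theorem Q3598 : ∀ i, i < 3598 → P i := stepQ 3597 Q3597 (allL N3597 (tt N3719 (iv1 F8530)) (tt N1634 (iv0 D5398)) (tt N3718 (iv2 F10166)) (tt N7550 (iv3 F18913)) (tt N7183 (iv4 F18101)) (tt N7576 D11621) (tt N3597 F10167) (tt N2172 F10165))
theorem Q3599 : ∀ i, i < 3599 → P i := stepQ 3598 Q3598 (allL N3598 (tt N3718 (iv1 F8531)) (tt N2172 (iv0 F10116)) (tt N1634 (iv2 D5400)) (tt N3709 (iv3 F8495)) (tt N3877 (iv4 F10122)) (tt N7577 D11622) (tt N7578 D11623) (tt N3719 (iv7 F8529)))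
theorem Q3600 : ∀ i, i < 3600 → P i := stepQ 3599 Q3599 (allL N3599 (tt N7579 D11624) (tt N4596 (iv0 F19317)) (tt N3877 F10123) (tt N1957 F8217) (tt N1634 (iv4 D5401)) (tt N7580 D11626) (tt N7581 D11627) (tt N3485 F8218))
theorem Q3601 : ∀ i, i < 3601 → P i := stepQ 3600 Q3600 (allL N3600 (tt N7582 D11628) (tt N7583 D11629) (tt N7577 (iv2 F18962)) (tt N1635 F8219) (tt N7584 D11630) (tt N1634 (iv5 D5402)) (tt N7585 D11631) (tt N3720 (iv7 F8534)))
theorem Q3602 : ∀ i, i < 3602 → P i := stepQ 3601 Q3601 (allL N3601 (tt N7586 D11632) (tt N7587 D11633) (tt N7578 (iv2 F18963)) (tt N1636 F8220) (tt N7581 (iv4 F18970)) (tt N4647 (iv5 F11037)) (tt N1634 (iv6 D5403)) (tt N7588 D11634))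
theorem Q3603 : ∀ i, i < 3603 → P i := stepQ 3602 Q3602 (allL N3602 (tt N1635 (iv1 D5404)) (tt N1638 F8221) (tt N3713 F8512) (tt N7544 (iv3 F19598)) (tt N7589 D11636) (tt N3746 (iv5 F8660)) (tt N7590 D11637) (tt N3712 F8508))
theorem Q3604 : ∀ i, i < 3604 → P i := stepQ 3603 Q3603 (allL N3603 (tt N4917 (iv1 F11443)) (tt N7591 D11638) (tt N3714 (iv2 F8513)) (tt N7592 D11639) (tt N1635 (iv4 D5405)) (tt N3619 (iv5 F8243)) (tt N7593 D11640) (tt N3722 (iv7 F8537)))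
theorem Q3605 : ∀ i, i < 3605 → P i := stepQ 3604 Q3604 (allL N3604 (tt N7594 D11641) (tt N7595 D11642) (tt N3715 (iv2 F8515)) (tt N7585 (iv3 F18971)) (tt N7593 (iv4 F18984)) (tt N4648 (iv5 F11041)) (tt N1635 (iv6 D5406)) (tt N7596 D11643))
theorem Q3606 : ∀ i, i < 3606 → P i := stepQ 3605 Q3605 (allL N3605 (tt N1636 (iv1 D5408)) (tt N3717 F8525) (tt N3716 F8518) (tt N7547 (iv3 F19330)) (tt N1653 F8222) (tt N4465 (iv5 F10632)) (tt N2223 (iv6 F8223)) (tt N2197 F8224))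
theorem Q3607 : ∀ i, i < 3607 → P i := stepQ 3606 Q3606 (allL N3606 (tt N3716 (iv1 F8516)) (tt N2197 (iv0 F8228)) (tt N3717 (iv2 F8521)) (tt N7588 (iv3 F18976)) (tt N1962 F8226) (tt N2139 F8227) (tt N3725 (iv6 F8547)) (tt N1636 (iv7 D5409)))
theorem Q3608 : ∀ i, i < 3608 → P i := stepQ 3607 Q3607 (allL N3607 (tt N1637 (iv1 D5411)) (tt N3709 F8499) (tt N3708 (iv2 F22455)) (tt N7141 (iv3 F22447)) (tt N7597 D11652) (tt N7598 D11653) (tt N3607 F22448) (tt N2425 F22444))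
theorem Q3609 : ∀ i, i < 3609 → P i := stepQ 3608 Q3608 (allL N3608 (tt N2425 F22450) (tt N3708 F8494) (tt N1637 (iv2 D5412)) (tt N3719 (iv3 F8528)) (tt N3649 (iv4 F10109)) (tt N7599 D11655) (tt N7600 D11656) (tt N3709 (iv7 F8496)))
theorem Q3610 : ∀ i, i < 3610 → P i := stepQ 3609 Q3609 (allL N3609 (tt N7601 D11657) (tt N4722 (iv0 F22587)) (tt N7599 (iv2 F18997)) (tt N1638 F8230) (tt N7602 D11659) (tt N1637 (iv5 D5414)) (tt N7603 D11660) (tt N3710 (iv7 F8503)))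
theorem Q3611 : ∀ i, i < 3611 → P i := stepQ 3610 Q3610 (allL N3610 (tt N4726 (iv1 F22597)) (tt N4730 (iv0 F24073)) (tt N7600 (iv2 F18998)) (tt N1639 F8231) (tt N3651 (iv4 F10113)) (tt N7604 D11663) (tt N1637 (iv6 D5415)) (tt N7605 D11664))
theorem Q3612 : ∀ i, i < 3612 → P i := stepQ 3611 Q3611 (allL N3611 (tt N7591 (iv1 F18982)) (tt N4917 (iv0 F11442)) (tt N3722 (iv2 F8536)) (tt N7606 D11665) (tt N1638 (iv4 D5416)) (tt N3616 (iv5 F8241)) (tt N7607 D11666) (tt N3714 (iv7 F8514)))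
theorem Q3613 : ∀ i, i < 3613 → P i := stepQ 3612 Q3612 (allL N3612 (tt N7608 D11667) (tt N7590 (iv0 F18981)) (tt N3723 (iv2 F8538)) (tt N7603 (iv3 F18999)) (tt N7607 (iv4 F19004)) (tt N7609 D11668) (tt N1638 (iv6 D5417)) (tt N7610 D11669))
theorem Q3614 : ∀ i, i < 3614 → P i := stepQ 3613 Q3613 (allL N3613 (tt N1775 F8234) (tt N1772 F8233) (tt N2206 F8232) (tt N7604 (iv3 F19000)) (tt N7611 D11670) (tt N1639 (iv5 D5419)) (tt N7609 (iv6 F19006)) (tt N2207 (iv7 F8237)))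
theorem Q3615 : ∀ i, i < 3615 → P i := stepQ 3614 Q3614 (allL N3614 (tt N2433 (iv1 F8240)) (tt N3724 F8544) (tt N3725 (iv2 F8545)) (tt N7605 (iv3 F19002)) (tt N1964 F8238) (tt N2207 F8239) (tt N3717 (iv6 F8524)) (tt N1639 (iv7 D5420)))
theorem Q3616 : ∀ i, i < 3616 → P i := stepQ 3615 Q3615 (allL N3615 (tt N7576 (iv1 F20250)) (tt N4686 (iv0 F20247)) (tt N7612 D11673) (tt N1640 (iv3 D5421)) (tt N7613 D11674) (tt N4288 (iv5 F10365)) (tt N7614 D11675) (tt N3729 (iv7 F8558)))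
theorem Q3617 : ∀ i, i < 3617 → P i := stepQ 3616 Q3616 (allL N3616 (tt N4280 (iv1 F9872)) (tt N1955 F8242) (tt N3727 (iv2 F8553)) (tt N7615 D11676) (tt N1640 (iv4 D5422)) (tt N3611 F8241) (tt N7616 D11677) (tt N3730 (iv7 F8561)))
theorem Q3618 : ∀ i, i < 3618 → P i := stepQ 3617 Q3617 (allL N3617 (tt N7617 D11678) (tt N7618 D11679) (tt N3728 (iv2 F8557)) (tt N7614 (iv3 F19012)) (tt N7616 (iv4 F19014)) (tt N7619 D11680) (tt N1640 (iv6 D5423)) (tt N7620 D11681))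
theorem Q3619 : ∀ i, i < 3619 → P i := stepQ 3618 Q3618 (allL N3618 (tt N5260 (iv1 F22442)) (tt N7598 (iv0 F19489)) (tt N7621 D11684) (tt N1641 (iv3 D5424)) (tt N7622 D11685) (tt N4289 (iv5 F10367)) (tt N7623 D11686) (tt N3726 (iv7 F8552)))
theorem Q3620 : ∀ i, i < 3620 → P i := stepQ 3619 Q3619 (allL N3619 (tt N1955 F8244) (tt N4280 (iv0 F9871)) (tt N3730 (iv2 F8559)) (tt N7624 D11687) (tt N1641 (iv4 D5425)) (tt N3603 F8243) (tt N7625 D11688) (tt N3727 (iv7 F8554)))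
theorem Q3621 : ∀ i, i < 3621 → P i := stepQ 3620 Q3620 (allL N3620 (tt N7626 D11689) (tt N7627 D11690) (tt N3731 (iv2 F8563)) (tt N7623 (iv3 F19019)) (tt N7625 (iv4 F19021)) (tt N4551 (iv5 F10855)) (tt N1641 (iv6 D5426)) (tt N7628 D11691))
theorem Q3622 : ∀ i, i < 3622 → P i := stepQ 3621 Q3621 (allL N3621 (tt N3624 F8250) (tt N1642 (iv0 D5427)) (tt N3732 F8566) (tt N7629 D11692) (tt N1975 F8245) (tt N3652 (iv5 F8381)) (tt N7630 D11693) (tt N3733 (iv7 F8569)))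
theorem Q3623 : ∀ i, i < 3623 → P i := stepQ 3622 Q3622 (allL N3622 (tt N1642 (iv1 D5428)) (tt N3624 F8249) (tt N3733 F8571) (tt N5633 F322498) (tt N1976 F8246) (tt N3640 (iv5 F8284)) (tt N5599 (iv6 F323633)) (tt N3732 F8567))
theorem Q3624 : ∀ i, i < 3624 → P i := stepQ 3623 Q3623 (allL N3623 (tt N7631 D11696) (tt N7632 D11697) (tt N7633 D11698) (tt N1642 (iv3 D5429)) (tt N7572 (iv4 F18957)) (tt N7634 D11699) (tt N3734 (iv6 F8572)) (tt N7635 D11700))
theorem Q3625 : ∀ i, i < 3625 → P i := stepQ 3624 Q3624 (allL N3624 (tt N3622 (iv1 F8249)) (tt N3621 (iv0 F8250)) (tt N3625 (iv2 F8251)) (tt N7634 (iv3 F19024)) (tt N1696 F8247) (tt N1642 (iv5 D5430)) (tt N7636 D11701) (tt N1695 F8248))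
theorem Q3626 : ∀ i, i < 3626 → P i := stepQ 3625 Q3625 (allL N3625 (tt N3733 (iv1 F8568)) (tt N3732 F8565) (tt N3624 F8251) (tt N7635 (iv3 F19026)) (tt N1643 F8252) (tt N1695 F8253) (tt N7637 D11702) (tt N1642 (iv7 D5431)))
theorem Q3627 : ∀ i, i < 3627 → P i := stepQ 3626 Q3626 (allL N3626 (tt N7638 D11703) (tt N7638 F19033) (tt N3735 (iv2 F8573)) (tt N7575 (iv3 F18959)) (tt N7637 (iv4 F19030)) (tt N3626 F8254) (tt N1643 (iv6 D5432)) (tt N3735 (iv7 F8575)))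
theorem Q3628 : ∀ i, i < 3628 → P i := stepQ 3627 Q3627 (allL N3627 (tt N1677 (iv1 F8270)) (tt N1645 (iv0 D5442)) (tt N3644 F8297) (tt N3494 F10216) (tt N7639 D11704) (tt N1744 F8269) (tt N7156 (iv6 F18030)) (tt N1744 (iv7 F8298)))
theorem Q3629 : ∀ i, i < 3629 → P i := stepQ 3628 Q3628 (allL N3628 (tt N7391 (iv1 F18570)) (tt N7146 F18006) (tt N4285 F10137) (tt N7640 D11705) (tt N1645 (iv4 D5444)) (tt N3488 F10139) (tt N7641 D11706) (tt N3752 (iv7 F8683)))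
theorem Q3630 : ∀ i, i < 3630 → P i := stepQ 3629 Q3629 (allL N3629 (tt N3375 F8416) (tt N3815 F8840) (tt N3814 (iv2 F8834)) (tt N1652 F8272) (tt N7641 (iv4 F19044)) (tt N7406 F18621) (tt N1645 (iv6 D5445)) (tt N3780 (iv7 F8772)))
theorem Q3631 : ∀ i, i < 3631 → P i := stepQ 3630 Q3630 (allL N3630 (tt N4287 (iv1 F10364)) (tt N1646 (iv0 D5446)) (tt N3510 F8458) (tt N3465 (iv3 F10332)) (tt N4517 (iv4 F10756)) (tt N4562 F10887) (tt N1665 F8459) (tt N4286 (iv7 F10356)))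
theorem Q3632 : ∀ i, i < 3632 → P i := stepQ 3631 Q3631 (allL N3631 (tt N1646 (iv1 D5447)) (tt N4287 F10363) (tt N4286 (iv2 F10358)) (tt N1703 F8456) (tt N7642 D11707) (tt N4561 (iv5 F10881)) (tt N3684 (iv6 F8455)) (tt N3510 F8457))
theorem Q3633 : ∀ i, i < 3633 → P i := stepQ 3632 Q3632 (allL N3632 (tt N1723 F8274) (tt N3773 F8742) (tt N2121 (iv2 F10002)) (tt N1654 F8273) (tt N7643 D11708) (tt N1646 (iv5 D5448)) (tt N7406 F18622) (tt N3771 F8736))
theorem Q3634 : ∀ i, i < 3634 → P i := stepQ 3633 Q3633 (allL N3633 (tt N4286 (iv1 F10355)) (tt N3510 (iv0 F8648)) (tt N4287 (iv2 F10359)) (tt N1655 F8275) (tt N7362 (iv4 F18517)) (tt N3771 (iv5 F8735)) (tt N3755 (iv6 F8695)) (tt N1646 (iv7 D5449)))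
theorem Q3635 : ∀ i, i < 3635 → P i := stepQ 3634 Q3634 (allL N3634 (tt N3757 (iv1 F8701)) (tt N1647 (iv0 D5450)) (tt N3756 (iv2 F19383)) (tt N7644 D11710) (tt N7645 D11711) (tt N7646 D11712) (tt N3634 F19339) (tt N3517 F19347))
theorem Q3636 : ∀ i, i < 3636 → P i := stepQ 3635 Q3635 (allL N3635 (tt N3756 (iv1 F8702)) (tt N3517 (iv0 F19386)) (tt N1647 (iv2 D5452)) (tt N3737 (iv3 F8626)) (tt N1767 F10124) (tt N7647 D11718) (tt N7648 D11719) (tt N3757 (iv7 F8700)))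
theorem Q3637 : ∀ i, i < 3637 → P i := stepQ 3636 Q3636 (allL N3636 (tt N7649 D11720) (tt N7650 D11721) (tt N7647 (iv2 F19063)) (tt N1648 F8276) (tt N7651 D11722) (tt N1647 (iv5 D5453)) (tt N7652 D11723) (tt N3758 (iv7 F8705)))
theorem Q3638 : ∀ i, i < 3638 → P i := stepQ 3637 Q3637 (allL N3637 (tt N7653 D11724) (tt N7654 D11725) (tt N7648 (iv2 F19064)) (tt N1649 F8277) (tt N7355 (iv4 F18508)) (tt N4449 (iv5 F10615)) (tt N1647 (iv6 D5454)) (tt N7655 D11726))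
theorem Q3639 : ∀ i, i < 3639 → P i := stepQ 3638 Q3638 (allL N3638 (tt N1657 (iv1 F8279)) (tt N1648 (iv0 D5455)) (tt N2268 (iv2 F8280)) (tt N7656 D11727) (tt N7657 D11728) (tt N1793 F8278) (tt N7658 D11729) (tt N3740 (iv7 F8635)))
theorem Q3640 : ∀ i, i < 3640 → P i := stepQ 3639 Q3639 (allL N3639 (tt N1648 (iv1 D5456)) (tt N1657 F8281) (tt N3740 F8637) (tt N7659 D11730) (tt N7660 D11731) (tt N2269 F8283) (tt N7661 D11732) (tt N2268 F8282))
theorem Q3641 : ∀ i, i < 3641 → P i := stepQ 3640 Q3640 (allL N3640 (tt N4806 (iv1 F11260)) (tt N7589 (iv0 F18978)) (tt N3741 (iv2 F8638)) (tt N7662 D11733) (tt N1648 (iv4 D5457)) (tt N3622 F8284) (tt N7663 D11734) (tt N3760 (iv7 F8709)))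
theorem Q3642 : ∀ i, i < 3642 → P i := stepQ 3641 Q3641 (allL N3641 (tt N7664 D11735) (tt N7665 D11736) (tt N3742 (iv2 F8641)) (tt N7652 (iv3 F19066)) (tt N7663 (iv4 F19089)) (tt N4451 (iv5 F10617)) (tt N1648 (iv6 D5458)) (tt N7666 D11737))
theorem Q3643 : ∀ i, i < 3643 → P i := stepQ 3642 Q3642 (allL N3642 (tt N1649 (iv1 D5460)) (tt N3744 F8653) (tt N3743 (iv2 F8645)) (tt N7393 (iv3 F18575)) (tt N1980 F8285) (tt N4527 (iv5 F10780)) (tt N3654 F8387) (tt N2450 (iv7 F8286)))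
theorem Q3644 : ∀ i, i < 3644 → P i := stepQ 3643 Q3643 (allL N3643 (tt N3743 (iv1 F8642)) (tt N2450 (iv0 F8290)) (tt N3744 (iv2 F8649)) (tt N7655 (iv3 F19067)) (tt N1655 F8288) (tt N2102 F8289) (tt N3763 (iv6 F8718)) (tt N1649 (iv7 D5461)))
theorem Q3645 : ∀ i, i < 3645 → P i := stepQ 3644 Q3644 (allL N3644 (tt N1707 F8293) (tt N1958 F9996) (tt N3627 (iv2 F8297)) (tt N1650 (iv3 D5462)) (tt N7392 (iv4 F18572)) (tt N2020 F8291) (tt N3815 (iv6 F8839)) (tt N2020 F8292))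
theorem Q3646 : ∀ i, i < 3646 → P i := stepQ 3645 Q3645 (allL N3645 (tt N1659 (iv1 F8303)) (tt N1651 (iv0 D5463)) (tt N2269 (iv2 F8302)) (tt N7667 D11738) (tt N1795 F8301) (tt N3740 (iv5 F8636)) (tt N2244 (iv6 F8305)) (tt N1793 F8304))
theorem Q3647 : ∀ i, i < 3647 → P i := stepQ 3646 Q3646 (allL N3646 (tt N7668 D11739) (tt N7190 (iv0 F20306)) (tt N7669 D11741) (tt N1651 (iv3 D5464)) (tt N7640 (iv4 F19039)) (tt N4300 (iv5 F10406)) (tt N4870 (iv6 F11318)) (tt N3764 (iv7 F8722)))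
theorem Q3648 : ∀ i, i < 3648 → P i := stepQ 3647 Q3647 (allL N3647 (tt N1988 F8309) (tt N1989 (iv0 F8310)) (tt N3749 (iv2 F8670)) (tt N7394 (iv3 F18579)) (tt N4472 (iv4 F10645)) (tt N1653 (iv5 D5466)) (tt N2535 F8307) (tt N3535 F8308))
theorem Q3649 : ∀ i, i < 3649 → P i := stepQ 3648 Q3648 (allL N3648 (tt N1656 (iv1 D5493)) (tt N3737 F8630) (tt N3736 (iv2 F19378)) (tt N7670 D11748) (tt N7644 (iv4 F19056)) (tt N7671 D11749) (tt N3648 F19329) (tt N3546 F19328))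
theorem Q3650 : ∀ i, i < 3650 → P i := stepQ 3649 Q3649 (allL N3649 (tt N3546 F19382) (tt N3736 F8625) (tt N1656 (iv2 D5494)) (tt N3757 (iv3 F8699)) (tt N3608 F10109) (tt N7672 D11751) (tt N7673 D11752) (tt N3737 (iv7 F8627)))
theorem Q3651 : ∀ i, i < 3651 → P i := stepQ 3650 Q3650 (allL N3650 (tt N7674 D11753) (tt N7675 D11754) (tt N7672 (iv2 F19104)) (tt N1657 F8379) (tt N7676 D11755) (tt N1656 (iv5 D5495)) (tt N7677 D11756) (tt N3738 (iv7 F8632)))
theorem Q3652 : ∀ i, i < 3652 → P i := stepQ 3651 Q3651 (allL N3651 (tt N7678 D11757) (tt N7679 D11758) (tt N7673 (iv2 F19105)) (tt N1658 F8380) (tt N3610 F10113) (tt N4858 (iv5 F11304)) (tt N1656 (iv6 D5496)) (tt N7680 D11759))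
theorem Q3653 : ∀ i, i < 3653 → P i := stepQ 3652 Q3652 (allL N3652 (tt N7589 (iv1 F18979)) (tt N4806 (iv0 F11259)) (tt N3760 (iv2 F8707)) (tt N7681 D11760) (tt N1657 (iv4 D5497)) (tt N3621 F8381) (tt N7682 D11761) (tt N3741 (iv7 F8639)))
theorem Q3654 : ∀ i, i < 3654 → P i := stepQ 3653 Q3653 (allL N3653 (tt N7683 D11762) (tt N7661 (iv0 F19087)) (tt N3761 (iv2 F8710)) (tt N7677 (iv3 F19107)) (tt N7682 (iv4 F19111)) (tt N4860 (iv5 F11309)) (tt N1657 (iv6 D5498)) (tt N7684 D11763))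
theorem Q3655 : ∀ i, i < 3655 → P i := stepQ 3654 Q3654 (allL N3654 (tt N3763 (iv1 F8720)) (tt N1658 (iv0 D5499)) (tt N2276 (iv2 F8384)) (tt N3495 F10300) (tt N1798 F8383) (tt N2008 F8382) (tt N3642 (iv6 F8387)) (tt N2287 F8385))
theorem Q3656 : ∀ i, i < 3656 → P i := stepQ 3655 Q3655 (allL N3655 (tt N2287 (iv1 F8389)) (tt N2276 F8390) (tt N3763 (iv2 F8715)) (tt N7680 (iv3 F19108)) (tt N1662 F8388) (tt N3914 (iv5 F9043)) (tt N3744 (iv6 F8652)) (tt N1658 (iv7 D5500)))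
theorem Q3657 : ∀ i, i < 3657 → P i := stepQ 3656 Q3656 (allL N3656 (tt N7685 D11764) (tt N7686 D11765) (tt N7687 D11766) (tt N1659 (iv3 D5501)) (tt N4289 (iv4 F10366)) (tt N4302 (iv5 F10409)) (tt N2054 F8391) (tt N3747 (iv7 F8663)))
theorem Q3658 : ∀ i, i < 3658 → P i := stepQ 3657 Q3657 (allL N3657 (tt N2001 (iv1 F8400)) (tt N1999 F8399) (tt N1663 (iv2 D5503)) (tt N1670 F8395) (tt N2143 F8396) (tt N3385 F8397) (tt N7688 D11767) (tt N3657 F8398))
theorem Q3659 : ∀ i, i < 3659 → P i := stepQ 3658 Q3658 (allL N3658 (tt N4332 F10463) (tt N4336 (iv0 F18104)) (tt N7688 (iv2 F19113)) (tt N1664 F8401) (tt N3438 F8402) (tt N7689 D11768) (tt N1663 (iv6 D5504)) (tt N4901 (iv7 F11416)))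
theorem Q3660 : ∀ i, i < 3660 → P i := stepQ 3659 Q3659 (allL N3659 (tt N4343 F10468) (tt N7404 (iv0 F18614)) (tt N1675 F8406) (tt N7689 (iv3 F19118)) (tt N7690 D11769) (tt N1664 (iv5 D5507)) (tt N4257 (iv6 F9843)) (tt N4902 (iv7 F11418)))
theorem Q3661 : ∀ i, i < 3661 → P i := stepQ 3660 Q3660 (allL N3660 (tt N4577 F10921) (tt N7440 F18678) (tt N3509 F8409) (tt N3464 F10343) (tt N7691 D11770) (tt N1665 (iv5 D5509)) (tt N5428 (iv6 F12410)) (tt N3507 F8410))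
theorem Q3662 : ∀ i, i < 3662 → P i := stepQ 3661 Q3661 (allL N3661 (tt N1666 (iv1 D5511)) (tt N3514 F8412) (tt N3512 F8415) (tt N3467 (iv3 F10180)) (tt N7297 (iv4 F18354)) (tt N3375 (iv5 F8414)) (tt N7692 D11771) (tt N3511 F8413))
theorem Q3663 : ∀ i, i < 3663 → P i := stepQ 3662 Q3662 (allL N3662 (tt N7319 F18424) (tt N7320 (iv0 F18427)) (tt N3513 F8417) (tt N7693 D11772) (tt N1666 (iv4 D5512)) (tt N7694 D11773) (tt N1848 F8418) (tt N7695 D11774))
theorem Q3664 : ∀ i, i < 3664 → P i := stepQ 3663 Q3663 (allL N3663 (tt N3512 (iv1 F8422)) (tt N3511 F8423) (tt N3514 F8419) (tt N1854 F8420) (tt N7695 (iv4 F19131)) (tt N1667 F8421) (tt N4999 (iv6 F11546)) (tt N1666 (iv7 D5513)))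
theorem Q3665 : ∀ i, i < 3665 → P i := stepQ 3664 Q3664 (allL N3664 (tt N2132 F8428) (tt N2129 F8429) (tt N1671 F8424) (tt N3385 F8425) (tt N1668 (iv4 D5514)) (tt N1670 F8426) (tt N7696 D11775) (tt N3664 F8427))
theorem Q3666 : ∀ i, i < 3666 → P i := stepQ 3665 Q3665 (allL N3665 (tt N7697 D11776) (tt N5282 (iv0 F19479)) (tt N3667 (iv2 F8437)) (tt N2002 F8430) (tt N7696 (iv4 F19136)) (tt N7698 D11778) (tt N1668 (iv6 D5515)) (tt N7699 D11779))
theorem Q3667 : ∀ i, i < 3667 → P i := stepQ 3666 Q3666 (allL N3666 (tt N3516 F8435) (tt N2047 (iv0 F8436)) (tt N1998 F8431) (tt N1669 (iv3 D5516)) (tt N1730 F8432) (tt N1999 F8433) (tt N7700 D11780) (tt N3666 F8434))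
theorem Q3668 : ∀ i, i < 3668 → P i := stepQ 3667 Q3667 (allL N3667 (tt N4512 (iv1 F19514)) (tt N7701 D11782) (tt N3665 F8437) (tt N7700 (iv3 F19142)) (tt N3669 (iv4 F8441)) (tt N7702 D11783) (tt N1669 (iv6 D5517)) (tt N7703 D11784))
theorem Q3669 : ∀ i, i < 3669 → P i := stepQ 3668 Q3668 (allL N3668 (tt N7704 D11785) (tt N4335 F18106) (tt N1672 F8438) (tt N7688 (iv3 F19114)) (tt N1682 F8439) (tt N7705 D11786) (tt N1670 (iv6 D5518)) (tt N7706 D11787))
theorem Q3670 : ∀ i, i < 3670 → P i := stepQ 3669 Q3669 (allL N3669 (tt N4604 (iv1 F19525)) (tt N4608 (iv0 F22921)) (tt N7696 (iv2 F19134)) (tt N1673 F8440) (tt N3667 F8441) (tt N7707 D11790) (tt N1671 (iv6 D5519)) (tt N7708 D11791))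
theorem Q3671 : ∀ i, i < 3671 → P i := stepQ 3670 Q3670 (allL N3670 (tt N7706 (iv1 F19164)) (tt N1672 (iv0 D5520)) (tt N7704 F19154) (tt N4327 F18111) (tt N7709 D11792) (tt N7710 D11793) (tt N7711 D11794) (tt N4335 (iv7 F18943)))
theorem Q3672 : ∀ i, i < 3672 → P i := stepQ 3671 Q3671 (allL N3671 (tt N1672 (iv1 D5521)) (tt N7706 F19163) (tt N4335 (iv2 F19156)) (tt N7712 D11795) (tt N7713 D11796) (tt N7714 D11797) (tt N7715 D11798) (tt N7704 F19155))
theorem Q3673 : ∀ i, i < 3673 → P i := stepQ 3672 Q3672 (allL N3672 (tt N7716 D11799) (tt N7717 D11800) (tt N7705 (iv2 F19159)) (tt N1675 F8442) (tt N7718 D11801) (tt N1672 (iv5 D5522)) (tt N7707 (iv6 F19166)) (tt N7719 D11802))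
theorem Q3674 : ∀ i, i < 3674 → P i := stepQ 3673 Q3673 (allL N3673 (tt N4335 F18105) (tt N7704 F19157) (tt N7706 (iv2 F19160)) (tt N1676 F8443) (tt N1686 F8444) (tt N7719 (iv5 F19180)) (tt N3673 F8445) (tt N1672 (iv7 D5523)))
theorem Q3675 : ∀ i, i < 3675 → P i := stepQ 3674 Q3674 (allL N3674 (tt N4258 (iv1 F9849)) (tt N1673 (iv0 D5524)) (tt N2441 (iv2 F19505)) (tt N3766 (iv3 F19506)) (tt N3674 F19507) (tt N7720 D11806) (tt N7403 (iv6 F19508)) (tt N4256 (iv7 F19504)))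
theorem Q3676 : ∀ i, i < 3676 → P i := stepQ 3675 Q3675 (allL N3675 (tt N7721 D11813) (tt N4856 (iv0 F19422)) (tt N4257 (iv2 F9842)) (tt N7707 (iv3 F19165)) (tt N7722 D11815) (tt N1673 (iv5 D5526)) (tt N1675 F8446) (tt N7723 D11816))
theorem Q3677 : ∀ i, i < 3677 → P i := stepQ 3676 Q3676 (allL N3676 (tt N4256 (iv1 F9841)) (tt N2441 F19457) (tt N4258 (iv2 F9844)) (tt N7708 (iv3 F19167)) (tt N7274 (iv4 F18287)) (tt N7723 (iv5 F19184)) (tt N3676 F8447) (tt N1673 (iv7 D5527)))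
theorem Q3678 : ∀ i, i < 3678 → P i := stepQ 3677 Q3677 (allL N3677 (tt N4904 (iv1 F11422)) (tt N4903 F11421) (tt N3492 (iv2 F10176)) (tt N4848 (iv3 F11296)) (tt N7724 D11817) (tt N1674 (iv5 D5531)) (tt N7725 D11818) (tt N3501 (iv7 F10175)))
theorem Q3679 : ∀ i, i < 3679 → P i := stepQ 3678 Q3678 (allL N3678 (tt N4517 (iv1 F19052)) (tt N7642 (iv0 F19049)) (tt N3493 (iv2 F10141)) (tt N4849 (iv3 F11298)) (tt N3443 F10140) (tt N7726 D11819) (tt N1674 (iv6 D5532)) (tt N7727 D11820))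
theorem Q3680 : ∀ i, i < 3680 → P i := stepQ 3679 Q3679 (allL N3679 (tt N4902 (iv1 F11420)) (tt N1675 (iv0 D5537)) (tt N4343 (iv2 F11491)) (tt N7728 D11821) (tt N7729 D11822) (tt N7279 (iv5 F18307)) (tt N7730 D11823) (tt N7404 (iv7 F18613)))
theorem Q3681 : ∀ i, i < 3681 → P i := stepQ 3680 Q3680 (allL N3680 (tt N1675 (iv1 D5538)) (tt N4902 F11419) (tt N7404 (iv2 F18612)) (tt N3394 F11489) (tt N7731 D11824) (tt N4944 (iv5 F11488)) (tt N7732 D11825) (tt N4343 F11490))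
theorem Q3682 : ∀ i, i < 3682 → P i := stepQ 3681 Q3681 (allL N3681 (tt N7373 (iv1 F18538)) (tt N7376 (iv0 F18541)) (tt N7690 (iv2 F19119)) (tt N7733 D11826) (tt N1675 (iv4 D5539)) (tt N7734 D11827) (tt N7722 (iv6 F19183)) (tt N7735 D11828))
theorem Q3683 : ∀ i, i < 3683 → P i := stepQ 3682 Q3682 (allL N3682 (tt N7404 (iv1 F18615)) (tt N4343 F10469) (tt N4902 (iv2 F11417)) (tt N7719 (iv3 F19179)) (tt N7735 (iv4 F19216)) (tt N1676 F8450) (tt N7736 D11829) (tt N1675 (iv7 D5540)))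
theorem Q3684 : ∀ i, i < 3684 → P i := stepQ 3683 Q3683 (allL N3683 (tt N7146 F18007) (tt N7391 (iv0 F18569)) (tt N3752 (iv2 F8682)) (tt N7737 D11830) (tt N1677 (iv4 D5544)) (tt N3489 F10112) (tt N2063 (iv6 F10034)) (tt N4285 (iv7 F10138)))
theorem Q3685 : ∀ i, i < 3685 → P i := stepQ 3684 Q3684 (allL N3684 (tt N3755 (iv1 F8697)) (tt N1678 (iv0 D5545)) (tt N3753 F8685) (tt N1713 (iv3 F8453)) (tt N4907 (iv4 F11426)) (tt N1745 F8452) (tt N3631 F8455) (tt N3529 (iv7 F8454)))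
theorem Q3686 : ∀ i, i < 3686 → P i := stepQ 3685 Q3685 (allL N3685 (tt N3529 (iv1 F8551)) (tt N3753 F8688) (tt N3755 (iv2 F8693)) (tt N1983 F10110) (tt N7371 (iv4 F18535)) (tt N3811 F8830) (tt N4287 (iv6 F10362)) (tt N1678 (iv7 D5548)))
theorem Q3687 : ∀ i, i < 3687 → P i := stepQ 3686 Q3686 (allL N3686 (tt N3693 (iv1 F8477)) (tt N1679 (iv0 D5549)) (tt N2192 (iv2 F10317)) (tt N3573 F19447) (tt N7697 (iv4 F19464)) (tt N7738 D11832) (tt N7739 D11833) (tt N3691 F10316))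
theorem Q3688 : ∀ i, i < 3688 → P i := stepQ 3687 Q3687 (allL N3687 (tt N7740 D11834) (tt N5290 (iv0 F11940)) (tt N3692 (iv2 F8472)) (tt N3784 (iv3 F8787)) (tt N7741 D11835) (tt N1679 (iv5 D5551)) (tt N4595 (iv6 F10968)) (tt N7742 D11836))
theorem Q3689 : ∀ i, i < 3689 → P i := stepQ 3688 Q3688 (allL N3688 (tt N3691 (iv1 F8471)) (tt N2192 (iv0 F10310)) (tt N3693 (iv2 F8473)) (tt N3785 (iv3 F8788)) (tt N2138 F8462) (tt N7742 (iv5 F19227)) (tt N3688 F8463) (tt N1679 (iv7 D5552)))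
theorem Q3690 : ∀ i, i < 3690 → P i := stepQ 3689 Q3689 (allL N3689 (tt N3515 F8468) (tt N3544 F8469) (tt N1720 F8464) (tt N2145 F8465) (tt N1680 (iv4 D5553)) (tt N3516 F8467) (tt N7743 D11837) (tt N3689 F8466))
theorem Q3691 : ∀ i, i < 3691 → P i := stepQ 3690 Q3690 (allL N3690 (tt N5267 F18742) (tt N5271 (iv0 F19937)) (tt N3786 (iv2 F8792)) (tt N1681 F8470) (tt N7743 (iv4 F19230)) (tt N7744 D11839) (tt N1680 (iv6 D5554)) (tt N7745 D11840))
theorem Q3692 : ∀ i, i < 3692 → P i := stepQ 3691 Q3691 (allL N3691 (tt N1681 (iv1 D5556)) (tt N3688 F8471) (tt N2434 (iv2 F10312)) (tt N3578 F19493) (tt N7701 (iv4 F19510)) (tt N7746 D11842) (tt N7747 D11843) (tt N3686 (iv7 F10316)))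
theorem Q3693 : ∀ i, i < 3693 → P i := stepQ 3692 Q3692 (allL N3692 (tt N4747 (iv1 F19245)) (tt N7748 D11845) (tt N3687 F8472) (tt N7744 (iv3 F19232)) (tt N7749 D11846) (tt N1681 (iv5 D5557)) (tt N4598 (iv6 F10975)) (tt N7750 D11847))
theorem Q3694 : ∀ i, i < 3694 → P i := stepQ 3693 Q3693 (allL N3693 (tt N2434 (iv1 F10315)) (tt N3686 F8477) (tt N3688 F8473) (tt N7745 (iv3 F19233)) (tt N4602 (iv4 F10985)) (tt N7750 (iv5 F19248)) (tt N3693 F8474) (tt N1681 (iv7 D5558)))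
theorem Q3695 : ∀ i, i < 3695 → P i := stepQ 3694 Q3694 (allL N3694 (tt N1686 (iv1 F8486)) (tt N1682 (iv0 D5559)) (tt N1683 F10142) (tt N7751 D11848) (tt N2203 (iv4 F10144)) (tt N7752 D11849) (tt N7753 D11850) (tt N1684 F10143))
theorem Q3696 : ∀ i, i < 3696 → P i := stepQ 3695 Q3695 (allL N3695 (tt N1682 (iv1 D5560)) (tt N1686 F8478) (tt N1684 F9979) (tt N3370 F9908) (tt N1774 F9909) (tt N7754 D11851) (tt N7755 D11852) (tt N1683 F9980))
theorem Q3697 : ∀ i, i < 3697 → P i := stepQ 3696 Q3696 (allL N3696 (tt N7756 D11853) (tt N7757 D11854) (tt N1685 F8480) (tt N3583 F8481) (tt N7758 D11855) (tt N1682 (iv5 D5561)) (tt N3583 F8482) (tt N7759 D11856))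
theorem Q3698 : ∀ i, i < 3698 → P i := stepQ 3697 Q3697 (allL N3697 (tt N1684 (iv1 F8487)) (tt N1683 F8488) (tt N1686 F8483) (tt N3584 F8484) (tt N7706 (iv4 F19161)) (tt N7759 (iv5 F19275)) (tt N3697 F8485) (tt N1682 (iv7 D5562)))
theorem Q3699 : ∀ i, i < 3699 → P i := stepQ 3698 Q3698 (allL N3698 (tt N7760 D11857) (tt N7761 D11858) (tt N7752 (iv2 F19254)) (tt N3799 (iv3 F10185)) (tt N7762 D11859) (tt N1683 (iv5 D5565)) (tt N7763 D11860) (tt N7754 (iv7 F19262)))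
theorem Q3700 : ∀ i, i < 3700 → P i := stepQ 3699 Q3699 (allL N3699 (tt N7747 (iv1 F19295)) (tt N7764 D11862) (tt N7753 (iv2 F19257)) (tt N3800 (iv3 F10174)) (tt N2205 F10173) (tt N7765 D11863) (tt N1683 (iv6 D5566)) (tt N7766 D11864))
theorem Q3701 : ∀ i, i < 3701 → P i := stepQ 3700 Q3700 (allL N3700 (tt N3792 F22446) (tt N7597 F18996) (tt N3801 F10172) (tt N1684 (iv3 D5568)) (tt N7767 D11865) (tt N7768 D11866) (tt N7769 D11867) (tt N7751 (iv7 F19252)))
theorem Q3702 : ∀ i, i < 3702 → P i := stepQ 3701 Q3701 (allL N3701 (tt N2133 F19316) (tt N2202 F10146) (tt N1774 F10147) (tt N2213 F10148) (tt N1684 (iv4 D5569)) (tt N7770 D11868) (tt N7771 D11869) (tt N2203 F10149))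
theorem Q3703 : ∀ i, i < 3703 → P i := stepQ 3702 Q3702 (allL N3702 (tt N7761 (iv1 F19289)) (tt N7760 F19287) (tt N7754 (iv2 F19260)) (tt N7768 (iv3 F19303)) (tt N7772 D11870) (tt N1684 (iv5 D5570)) (tt N7773 D11871) (tt N7752 (iv7 F19255)))
theorem Q3704 : ∀ i, i < 3704 → P i := stepQ 3703 Q3703 (allL N3703 (tt N7774 D11872) (tt N7739 (iv0 F24296)) (tt N7755 (iv2 F19264)) (tt N7769 (iv3 F19304)) (tt N7771 (iv4 F19312)) (tt N4792 (iv5 F18487)) (tt N1684 (iv6 D5571)) (tt N7775 D11874))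
theorem Q3705 : ∀ i, i < 3705 → P i := stepQ 3704 Q3704 (allL N3704 (tt N7759 (iv1 F19278)) (tt N1685 (iv0 D5572)) (tt N7756 F19284) (tt N3804 F19280) (tt N7776 D11875) (tt N4795 (iv5 F19279)) (tt N7777 D11876) (tt N7757 F19281))
theorem Q3706 : ∀ i, i < 3706 → P i := stepQ 3705 Q3705 (allL N3705 (tt N1685 (iv1 D5573)) (tt N7759 F19277) (tt N7757 (iv2 F19283)) (tt N7778 D11877) (tt N7779 D11878) (tt N4796 (iv5 F24206)) (tt N7780 D11880) (tt N7756 (iv7 F19285)))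
theorem Q3707 : ∀ i, i < 3707 → P i := stepQ 3706 Q3706 (allL N3706 (tt N7781 D11881) (tt N7782 D11882) (tt N7758 (iv2 F19271)) (tt N7783 D11883) (tt N1685 (iv4 D5574)) (tt N7784 D11884) (tt N3595 F8491) (tt N7785 D11885))
theorem Q3708 : ∀ i, i < 3708 → P i := stepQ 3707 Q3707 (allL N3707 (tt N7757 (iv1 F19268)) (tt N7756 F19276) (tt N7759 (iv2 F19273)) (tt N1696 F8492) (tt N7785 (iv4 F19570)) (tt N1686 F8493) (tt N7786 D11886) (tt N1685 (iv7 D5575)))
theorem Q3709 : ∀ i, i < 3709 → P i := stepQ 3708 Q3708 (allL N3708 (tt N3608 (iv1 F8494)) (tt N1687 (iv0 D5576)) (tt N3607 F22455) (tt N7597 F18995) (tt N7787 D11888) (tt N7788 D11889) (tt N3708 F22468) (tt N2424 F22456))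
theorem Q3710 : ∀ i, i < 3710 → P i := stepQ 3709 Q3709 (allL N3709 (tt N3607 (iv1 F8499)) (tt N2424 F22437) (tt N1687 (iv2 D5578)) (tt N3598 F8495) (tt N3737 F10107) (tt N7789 D11895) (tt N7790 D11896) (tt N3608 F8496))
theorem Q3711 : ∀ i, i < 3711 → P i := stepQ 3710 Q3710 (allL N3710 (tt N7791 D11897) (tt N7792 D11898) (tt N7789 (iv2 F19581)) (tt N1688 F8502) (tt N7793 D11899) (tt N1687 (iv5 D5580)) (tt N7794 D11900) (tt N3609 F8503))
theorem Q3712 : ∀ i, i < 3712 → P i := stepQ 3711 Q3711 (allL N3711 (tt N7795 D11901) (tt N7796 D11902) (tt N7790 (iv2 F19586)) (tt N1689 F8504) (tt N3739 F10108) (tt N4617 (iv5 F10995)) (tt N1687 (iv6 D5581)) (tt N7797 D11903))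
theorem Q3713 : ∀ i, i < 3713 → P i := stepQ 3712 Q3712 (allL N3712 (tt N1691 (iv1 F8506)) (tt N1688 (iv0 D5582)) (tt N2219 (iv2 F8507)) (tt N7798 D11904) (tt N7799 D11905) (tt N1776 F8505) (tt N7800 D11906) (tt N3602 (iv7 F8508)))
theorem Q3714 : ∀ i, i < 3714 → P i := stepQ 3713 Q3713 (allL N3713 (tt N1688 (iv1 D5583)) (tt N1691 F8509) (tt N3602 (iv2 F8512)) (tt N7761 F19291) (tt N7801 D11907) (tt N2220 F8511) (tt N7802 D11908) (tt N2219 F8510))
theorem Q3715 : ∀ i, i < 3715 → P i := stepQ 3714 Q3714 (allL N3714 (tt N7657 (iv1 F19074)) (tt N7660 (iv0 F19084)) (tt N3603 F8513) (tt N7803 D11909) (tt N1688 (iv4 D5584)) (tt N3730 (iv5 F8560)) (tt N7804 D11910) (tt N3611 F8514))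
theorem Q3716 : ∀ i, i < 3716 → P i := stepQ 3715 Q3715 (allL N3715 (tt N7805 D11911) (tt N7806 D11912) (tt N3604 F8515) (tt N7794 (iv3 F19591)) (tt N7804 (iv4 F19620)) (tt N4618 (iv5 F10996)) (tt N1688 (iv6 D5585)) (tt N7807 D11913))
theorem Q3717 : ∀ i, i < 3717 → P i := stepQ 3716 Q3716 (allL N3716 (tt N1689 (iv1 D5587)) (tt N3606 F8516) (tt N3605 (iv2 F8518)) (tt N7764 F19293) (tt N1703 F8517) (tt N4549 (iv5 F10850)) (tt N3724 (iv6 F8542)) (tt N2436 (iv7 F8519)))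
theorem Q3718 : ∀ i, i < 3718 → P i := stepQ 3717 Q3717 (allL N3717 (tt N3605 (iv1 F8525)) (tt N2436 F8526) (tt N3606 F8521) (tt N7797 (iv3 F19592)) (tt N1981 F8522) (tt N2154 F8523) (tt N3614 F8524) (tt N1689 (iv7 D5588)))
theorem Q3719 : ∀ i, i < 3719 → P i := stepQ 3718 Q3718 (allL N3718 (tt N1690 (iv1 D5590)) (tt N3598 F8531) (tt N3597 F10166) (tt N3372 (iv3 F10119)) (tt N3392 (iv4 F10120)) (tt N7808 D11914) (tt N3718 F10121) (tt N2173 F10118))
theorem Q3720 : ∀ i, i < 3720 → P i := stepQ 3719 Q3719 (allL N3719 (tt N2173 (iv1 F10164)) (tt N3597 F8530) (tt N1690 (iv2 D5591)) (tt N3608 F8528) (tt N7364 (iv4 F18522)) (tt N7809 D11915) (tt N7810 D11916) (tt N3598 F8529))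
theorem Q3721 : ∀ i, i < 3721 → P i := stepQ 3720 Q3720 (allL N3720 (tt N7811 D11917) (tt N7812 D11918) (tt N7809 (iv2 F19632)) (tt N1691 F8533) (tt N7813 D11919) (tt N1690 (iv5 D5592)) (tt N7814 D11920) (tt N3600 F8534))
theorem Q3722 : ∀ i, i < 3722 → P i := stepQ 3721 Q3721 (allL N3721 (tt N7815 D11921) (tt N7816 D11922) (tt N7810 (iv2 F19637)) (tt N1692 F8535) (tt N7366 (iv4 F18527)) (tt N4770 (iv5 F11219)) (tt N1690 (iv6 D5593)) (tt N7817 D11923))
theorem Q3723 : ∀ i, i < 3723 → P i := stepQ 3722 Q3722 (allL N3722 (tt N7660 (iv1 F19085)) (tt N7657 (iv0 F19073)) (tt N3611 F8536) (tt N7818 D11924) (tt N1691 (iv4 D5594)) (tt N3727 (iv5 F8555)) (tt N7819 D11925) (tt N3603 F8537))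
theorem Q3724 : ∀ i, i < 3724 → P i := stepQ 3723 Q3723 (allL N3723 (tt N7820 D11926) (tt N7802 (iv0 F19616)) (tt N3612 F8538) (tt N7814 (iv3 F19643)) (tt N7819 (iv4 F19665)) (tt N4772 (iv5 F11222)) (tt N1691 (iv6 D5595)) (tt N7821 D11927))
theorem Q3725 : ∀ i, i < 3725 → P i := stepQ 3724 Q3724 (allL N3724 (tt N3614 (iv1 F8544)) (tt N1692 (iv0 D5596)) (tt N2223 (iv2 F8541)) (tt N7774 F19561) (tt N1713 F8540) (tt N1777 F8539) (tt N3716 F8542) (tt N2194 F8543))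
theorem Q3726 : ∀ i, i < 3726 → P i := stepQ 3725 Q3725 (allL N3725 (tt N2194 (iv1 F8548)) (tt N2223 F8549) (tt N3614 F8545) (tt N7817 (iv3 F19657)) (tt N1983 F8546) (tt N3888 (iv5 F8957)) (tt N3606 F8547) (tt N1692 (iv7 D5597)))
theorem Q3727 : ∀ i, i < 3727 → P i := stepQ 3726 Q3726 (allL N3726 (tt N7788 (iv1 F22344)) (tt N5261 (iv0 F22451)) (tt N7822 D11930) (tt N1693 (iv3 D5598)) (tt N7823 D11931) (tt N4306 (iv5 F10417)) (tt N7824 D11932) (tt N3618 F8552))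
theorem Q3728 : ∀ i, i < 3728 → P i := stepQ 3727 Q3727 (allL N3727 (tt N4281 (iv1 F9877)) (tt N1977 F8556) (tt N3616 F8553) (tt N7825 D11933) (tt N1693 (iv4 D5599)) (tt N3722 F8555) (tt N7826 D11934) (tt N3619 F8554))
theorem Q3729 : ∀ i, i < 3729 → P i := stepQ 3728 Q3728 (allL N3728 (tt N7827 D11935) (tt N7828 D11936) (tt N3617 F8557) (tt N7824 (iv3 F19681)) (tt N7826 (iv4 F19685)) (tt N4803 (iv5 F11257)) (tt N1693 (iv6 D5600)) (tt N7829 D11937))
theorem Q3730 : ∀ i, i < 3730 → P i := stepQ 3729 Q3729 (allL N3729 (tt N4685 F11099) (tt N7808 F19630) (tt N7830 D11938) (tt N1694 (iv3 D5601)) (tt N7831 D11939) (tt N4307 (iv5 F10419)) (tt N7832 D11940) (tt N3615 F8558))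
theorem Q3731 : ∀ i, i < 3731 → P i := stepQ 3730 Q3730 (allL N3730 (tt N1977 F8562) (tt N4281 F9876) (tt N3619 F8559) (tt N7833 D11941) (tt N1694 (iv4 D5602)) (tt N3714 F8560) (tt N7834 D11942) (tt N3616 F8561))
theorem Q3732 : ∀ i, i < 3732 → P i := stepQ 3731 Q3731 (allL N3731 (tt N7835 D11943) (tt N7836 D11944) (tt N3620 F8563) (tt N7832 (iv3 F19697)) (tt N7834 (iv4 F19701)) (tt N4467 (iv5 F10633)) (tt N1694 (iv6 D5603)) (tt N7837 D11945))
theorem Q3733 : ∀ i, i < 3733 → P i := stepQ 3732 Q3732 (allL N3732 (tt N3625 (iv1 F8565)) (tt N1695 (iv0 D5604)) (tt N3621 (iv2 F8566)) (tt N7838 D11946) (tt N1953 F8564) (tt N3760 (iv5 F8708)) (tt N7839 D11947) (tt N3622 (iv7 F8567)))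
theorem Q3734 : ∀ i, i < 3734 → P i := stepQ 3733 Q3733 (allL N3733 (tt N1695 (iv1 D5605)) (tt N3625 F8568) (tt N3622 (iv2 F8571)) (tt N7840 D11948) (tt N1954 F8570) (tt N3741 (iv5 F8640)) (tt N7841 D11949) (tt N3621 F8569))
theorem Q3735 : ∀ i, i < 3735 → P i := stepQ 3734 Q3734 (allL N3734 (tt N7842 D11950) (tt N7843 D11951) (tt N7844 D11952) (tt N1695 (iv3 D5606)) (tt N7783 (iv4 F19568)) (tt N7635 (iv5 F19027)) (tt N3623 F8572) (tt N7634 F19025))
theorem Q3736 : ∀ i, i < 3736 → P i := stepQ 3735 Q3735 (allL N3735 (tt N7845 D11953) (tt N7845 F19716) (tt N3626 F8573) (tt N7786 (iv3 F19571)) (tt N7636 (iv4 F19028)) (tt N3735 F8574) (tt N1696 (iv6 D5607)) (tt N3626 F8575))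
theorem Q3737 : ∀ i, i < 3737 → P i := stepQ 3736 Q3736 (allL N3736 (tt N3649 (iv1 F8625)) (tt N1697 (iv0 D5634)) (tt N3648 F19378) (tt N7846 D11954) (tt N7847 D11955) (tt N7848 D11956) (tt N3736 F19379) (tt N3545 F19380))
theorem Q3738 : ∀ i, i < 3738 → P i := stepQ 3737 Q3737 (allL N3737 (tt N3648 (iv1 F8630)) (tt N3545 F19325) (tt N1697 (iv2 D5636)) (tt N3635 F8626) (tt N3709 (iv4 F10107)) (tt N7849 D11957) (tt N7850 D11958) (tt N3649 F8627))
theorem Q3739 : ∀ i, i < 3739 → P i := stepQ 3738 Q3738 (allL N3738 (tt N7851 D11959) (tt N7852 D11960) (tt N7849 (iv2 F19729)) (tt N1698 F8631) (tt N7853 D11961) (tt N1697 (iv5 D5637)) (tt N7854 D11962) (tt N3650 F8632))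
theorem Q3740 : ∀ i, i < 3740 → P i := stepQ 3739 Q3739 (allL N3739 (tt N7855 D11963) (tt N7856 D11964) (tt N7850 (iv2 F19735)) (tt N1699 F8633) (tt N3711 (iv4 F10108)) (tt N4538 (iv5 F10808)) (tt N1697 (iv6 D5638)) (tt N7857 D11965))
theorem Q3741 : ∀ i, i < 3741 → P i := stepQ 3740 Q3740 (allL N3740 (tt N1698 (iv1 D5639)) (tt N1710 F8634) (tt N3639 (iv2 F8637)) (tt N7858 D11966) (tt N7591 (iv4 F18983)) (tt N3645 F8636) (tt N7859 D11967) (tt N3638 F8635))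
theorem Q3742 : ∀ i, i < 3742 → P i := stepQ 3741 Q3741 (allL N3741 (tt N7799 (iv1 F19606)) (tt N7801 (iv0 F19612)) (tt N3640 F8638) (tt N7860 D11968) (tt N1698 (iv4 D5640)) (tt N3733 F8640) (tt N7861 D11969) (tt N3652 F8639))
theorem Q3743 : ∀ i, i < 3743 → P i := stepQ 3742 Q3742 (allL N3742 (tt N7862 D11970) (tt N7863 D11971) (tt N3641 F8641) (tt N7854 (iv3 F19741)) (tt N7861 (iv4 F19755)) (tt N4540 (iv5 F10814)) (tt N1698 (iv6 D5641)) (tt N7864 D11972))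
theorem Q3744 : ∀ i, i < 3744 → P i := stepQ 3743 Q3743 (allL N3743 (tt N1699 (iv1 D5643)) (tt N3643 F8642) (tt N3642 F8645) (tt N7865 D11973) (tt N1961 F8643) (tt N4436 (iv5 F10608)) (tt N2276 (iv6 F8644)) (tt N3556 F8646))
theorem Q3745 : ∀ i, i < 3745 → P i := stepQ 3744 Q3744 (allL N3744 (tt N3642 (iv1 F8653)) (tt N3556 F8654) (tt N3643 F8649) (tt N7857 (iv3 F19742)) (tt N1705 F8650) (tt N2059 F8651) (tt N3655 F8652) (tt N1699 (iv7 D5644)))
theorem Q3746 : ∀ i, i < 3746 → P i := stepQ 3745 Q3745 (allL N3745 (tt N3444 (iv1 F9894)) (tt N3442 F9896) (tt N3494 F10215) (tt N1700 (iv3 D5645)) (tt N7866 D11974) (tt N3401 F8655) (tt N4357 (iv6 F10495)) (tt N3401 F8656))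
theorem Q3747 : ∀ i, i < 3747 → P i := stepQ 3746 Q3746 (allL N3746 (tt N1982 F8661) (tt N1979 F8662) (tt N2220 F8657) (tt N7867 D11975) (tt N1700 (iv4 D5646)) (tt N3602 F8660) (tt N2211 F8658) (tt N1776 F8659))
theorem Q3748 : ∀ i, i < 3748 → P i := stepQ 3747 Q3747 (allL N3747 (tt N7868 D11976) (tt N4338 (iv0 F22595)) (tt N7869 D11978) (tt N1701 (iv3 D5647)) (tt N4306 (iv4 F10416)) (tt N4275 (iv5 F9867)) (tt N7870 D11979) (tt N3656 F8663))
theorem Q3749 : ∀ i, i < 3749 → P i := stepQ 3748 Q3748 (allL N3748 (tt N1784 F8667) (tt N2244 (iv0 F8668)) (tt N2242 F8664) (tt N7870 (iv3 F19781)) (tt N1702 F8665) (tt N7482 (iv5 F18758)) (tt N1701 (iv6 D5648)) (tt N2101 F8666))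
theorem Q3750 : ∀ i, i < 3750 → P i := stepQ 3749 Q3749 (allL N3749 (tt N1993 F8672) (tt N1994 (iv0 F8673)) (tt N3647 F8670) (tt N4561 (iv3 F10880)) (tt N4555 (iv4 F10870)) (tt N1703 (iv5 D5649)) (tt N4076 F9432) (tt N3565 F8671))
theorem Q3751 : ∀ i, i < 3751 → P i := stepQ 3750 Q3750 (allL N3750 (tt N7871 D11980) (tt N7872 D11981) (tt N3486 (iv2 F10007)) (tt N3880 (iv3 F10132)) (tt N7873 D11982) (tt N1706 (iv5 D5653)) (tt N7874 D11983) (tt N3483 (iv7 F10017)))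
theorem Q3752 : ∀ i, i < 3752 → P i := stepQ 3751 Q3751 (allL N3751 (tt N7875 D11984) (tt N7310 (iv0 F18389)) (tt N3487 (iv2 F10008)) (tt N3881 F10131) (tt N1708 F8681) (tt N7876 D11985) (tt N1706 (iv6 D5654)) (tt N7877 D11986))
theorem Q3753 : ∀ i, i < 3753 → P i := stepQ 3752 Q3752 (allL N3752 (tt N3803 F10136) (tt N7866 (iv0 F19768)) (tt N3683 F8682) (tt N7816 F19644) (tt N1707 (iv4 D5655)) (tt N7276 F18298) (tt N3769 (iv6 F8730)) (tt N3628 F8683))
theorem Q3754 : ∀ i, i < 3754 → P i := stepQ 3753 Q3753 (allL N3753 (tt N3685 (iv1 F8688)) (tt N1708 (iv0 D5656)) (tt N3684 (iv2 F8685)) (tt N7236 (iv3 F18196)) (tt N7400 (iv4 F18597)) (tt N3376 F8684) (tt N4286 F10357) (tt N3508 F8686))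
theorem Q3755 : ∀ i, i < 3755 → P i := stepQ 3754 Q3754 (allL N3754 (tt N1743 F8691) (tt N1740 (iv0 F8692)) (tt N2245 (iv2 F10013)) (tt N1714 F8690) (tt N7878 D11987) (tt N1708 (iv5 D5657)) (tt N3770 (iv6 F8732)) (tt N4363 (iv7 F10509)))
theorem Q3756 : ∀ i, i < 3756 → P i := stepQ 3755 Q3755 (allL N3755 (tt N3508 (iv1 F8696)) (tt N3684 F8697) (tt N3685 F8693) (tt N1715 F8694) (tt N7877 (iv4 F19805)) (tt N4363 (iv5 F10506)) (tt N3633 F8695) (tt N1708 (iv7 D5658)))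
theorem Q3757 : ∀ i, i < 3757 → P i := stepQ 3756 Q3756 (allL N3756 (tt N1709 (iv1 D5660)) (tt N3635 F8702) (tt N3634 F19383) (tt N4759 (iv3 F11213)) (tt N7879 D11988) (tt N7880 D11989) (tt N3756 F19384) (tt N3518 F19385))
theorem Q3758 : ∀ i, i < 3758 → P i := stepQ 3757 Q3757 (allL N3757 (tt N3518 F19349) (tt N3634 F8701) (tt N1709 (iv2 D5661)) (tt N3649 F8699) (tt N3874 (iv4 F10134)) (tt N7881 D11990) (tt N7882 D11991) (tt N3635 F8700))
theorem Q3759 : ∀ i, i < 3759 → P i := stepQ 3758 Q3758 (allL N3758 (tt N7883 D11992) (tt N7884 D11993) (tt N7881 (iv2 F19822)) (tt N1710 F8704) (tt N7885 D11994) (tt N1709 (iv5 D5662)) (tt N7886 D11995) (tt N3636 F8705))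
theorem Q3760 : ∀ i, i < 3760 → P i := stepQ 3759 Q3759 (allL N3759 (tt N7887 D11996) (tt N7888 D11997) (tt N7882 (iv2 F19827)) (tt N1711 F8706) (tt N3881 (iv4 F10130)) (tt N7889 D11998) (tt N1709 (iv6 D5663)) (tt N7890 D11999))
theorem Q3761 : ∀ i, i < 3761 → P i := stepQ 3760 Q3760 (allL N3760 (tt N7801 (iv1 F19613)) (tt N7799 (iv0 F19605)) (tt N3652 F8707) (tt N7891 D12000) (tt N1710 (iv4 D5664)) (tt N3732 F8708) (tt N7892 D12001) (tt N3640 F8709))
theorem Q3762 : ∀ i, i < 3762 → P i := stepQ 3761 Q3761 (allL N3761 (tt N7893 D12002) (tt N7859 (iv0 F19750)) (tt N3653 F8710) (tt N7886 (iv3 F19833)) (tt N7892 (iv4 F19842)) (tt N7894 D12003) (tt N1710 (iv6 D5665)) (tt N7895 D12004))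
theorem Q3763 : ∀ i, i < 3763 → P i := stepQ 3762 Q3762 (allL N3762 (tt N1792 F8712) (tt N1783 F8713) (tt N2238 F8711) (tt N7889 (iv3 F19834)) (tt N4775 (iv4 F11226)) (tt N1711 (iv5 D5666)) (tt N7894 (iv6 F19844)) (tt N2239 (iv7 F8714)))
theorem Q3764 : ∀ i, i < 3764 → P i := stepQ 3763 Q3763 (allL N3763 (tt N2443 (iv1 F8719)) (tt N3654 F8720) (tt N3655 F8715) (tt N7890 (iv3 F19836)) (tt N1715 F8716) (tt N2239 F8717) (tt N3643 F8718) (tt N1711 (iv7 D5667)))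
theorem Q3765 : ∀ i, i < 3765 → P i := stepQ 3764 Q3764 (allL N3764 (tt N7896 D12005) (tt N7897 D12006) (tt N7898 D12007) (tt N1712 (iv3 D5668)) (tt N7816 F19645) (tt N4277 (iv5 F9868)) (tt N2097 F8721) (tt N3646 F8722))
theorem Q3766 : ∀ i, i < 3766 → P i := stepQ 3765 Q3765 (allL N3765 (tt N1794 F8725) (tt N1787 F8726) (tt N2248 F8723) (tt N7899 D12008) (tt N1714 (iv4 D5669)) (tt N4928 (iv5 F11456)) (tt N4314 (iv6 F10431)) (tt N2249 F8724))
theorem Q3767 : ∀ i, i < 3767 → P i := stepQ 3766 Q3766 (allL N3766 (tt N3777 (iv1 F8752)) (tt N1716 (iv0 D5670)) (tt N3552 (iv2 F10286)) (tt N3674 F19506) (tt N3414 F10074) (tt N7900 D12009) (tt N3503 (iv6 F10075)) (tt N3775 (iv7 F10077)))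
theorem Q3768 : ∀ i, i < 3768 → P i := stepQ 3767 Q3767 (allL N3767 (tt N7901 D12010) (tt N7389 (iv0 F18563)) (tt N3776 (iv2 F8747)) (tt N4634 (iv3 F11026)) (tt N7902 D12011) (tt N1716 (iv5 D5672)) (tt N4415 (iv6 F10576)) (tt N7903 D12012))
theorem Q3769 : ∀ i, i < 3769 → P i := stepQ 3768 Q3768 (allL N3768 (tt N3775 (iv1 F8746)) (tt N3552 (iv0 F10284)) (tt N3777 (iv2 F8748)) (tt N4635 (iv3 F11027)) (tt N1719 F8728) (tt N7903 (iv5 F19868)) (tt N3768 F8729) (tt N1716 (iv7 D5673)))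
theorem Q3770 : ∀ i, i < 3770 → P i := stepQ 3769 Q3769 (allL N3769 (tt N3789 F10050) (tt N1726 F10051) (tt N2063 F10052) (tt N4524 (iv3 F10766)) (tt N1717 (iv4 D5674)) (tt N7904 D12013) (tt N3752 F8730) (tt N3778 (iv7 F8763)))
theorem Q3771 : ∀ i, i < 3771 → P i := stepQ 3770 Q3770 (allL N3770 (tt N4562 (iv1 F10885)) (tt N4561 F10882) (tt N2064 (iv2 F10035)) (tt N1988 F8731) (tt N7905 D12014) (tt N1717 (iv5 D5675)) (tt N3754 F8732) (tt N3779 (iv7 F8766)))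
theorem Q3772 : ∀ i, i < 3772 → P i := stepQ 3771 Q3771 (allL N3771 (tt N3782 (iv1 F8782)) (tt N1718 (iv0 D5680)) (tt N2075 (iv2 F10025)) (tt N1991 F8734) (tt N7906 D12015) (tt N3633 F8735) (tt N5671 (iv6 F12951)) (tt N3632 (iv7 F8736)))
theorem Q3773 : ∀ i, i < 3773 → P i := stepQ 3772 Q3772 (allL N3772 (tt N7907 D12016) (tt N7395 (iv0 F18584)) (tt N3781 (iv2 F8777)) (tt N7908 D12017) (tt N1718 (iv4 D5682)) (tt N7909 D12018) (tt N1753 F8739) (tt N7910 D12019))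
theorem Q3774 : ∀ i, i < 3774 → P i := stepQ 3773 Q3773 (allL N3773 (tt N3632 (iv1 F8742)) (tt N2075 (iv0 F10023)) (tt N3782 (iv2 F8779)) (tt N1997 F8740) (tt N7910 (iv4 F19880)) (tt N1719 F8741) (tt N4385 (iv6 F10543)) (tt N1718 (iv7 D5683)))
theorem Q3775 : ∀ i, i < 3775 → P i := stepQ 3774 Q3774 (allL N3774 (tt N7470 F18745) (tt N7474 (iv0 F18747)) (tt N7743 (iv2 F19228)) (tt N1721 F8743) (tt N3786 (iv4 F8794)) (tt N7911 D12020) (tt N1720 (iv6 D5684)) (tt N7912 D12021))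
theorem Q3776 : ∀ i, i < 3776 → P i := stepQ 3775 Q3775 (allL N3775 (tt N1721 (iv1 D5686)) (tt N3768 F8746) (tt N2448 (iv2 F10290)) (tt N4256 (iv3 F19460)) (tt N1985 (iv4 F10076)) (tt N7913 D12022) (tt N7914 D12023) (tt N3766 F10077))
theorem Q3777 : ∀ i, i < 3777 → P i := stepQ 3776 Q3776 (allL N3776 (tt N7489 F18780) (tt N7726 (iv0 F19189)) (tt N3767 F8747) (tt N7911 (iv3 F19881)) (tt N7915 D12024) (tt N1721 (iv5 D5687)) (tt N4417 (iv6 F10582)) (tt N7916 D12025))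
theorem Q3778 : ∀ i, i < 3778 → P i := stepQ 3777 Q3777 (allL N3777 (tt N2448 (iv1 F10289)) (tt N3766 F8752) (tt N3768 F8748) (tt N7912 (iv3 F19882)) (tt N1724 F8749) (tt N7916 (iv5 F19891)) (tt N3777 F8750) (tt N1721 (iv7 D5688)))
theorem Q3779 : ∀ i, i < 3779 → P i := stepQ 3778 Q3778 (allL N3778 (tt N1729 F10062) (tt N3785 F10063) (tt N2111 F10064) (tt N2177 F10318) (tt N1722 (iv4 D5692)) (tt N7917 D12026) (tt N7918 D12027) (tt N3769 F8763))
theorem Q3780 : ∀ i, i < 3780 → P i := stepQ 3779 Q3779 (allL N3779 (tt N4461 (iv1 F10626)) (tt N4460 F10624) (tt N2112 (iv2 F10053)) (tt N1994 F8765) (tt N7919 D12028) (tt N1722 (iv5 D5693)) (tt N2608 (iv6 F8767)) (tt N3770 F8766))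
theorem Q3781 : ∀ i, i < 3781 → P i := stepQ 3780 Q3780 (allL N3780 (tt N7156 (iv1 F18032)) (tt N1741 F8836) (tt N2113 (iv2 F10021)) (tt N1995 F8771) (tt N7918 (iv4 F19899)) (tt N7440 (iv5 F18676)) (tt N1722 (iv6 D5694)) (tt N3629 F8772))
theorem Q3782 : ∀ i, i < 3782 → P i := stepQ 3781 Q3781 (allL N3781 (tt N7920 D12029) (tt N7921 D12030) (tt N3772 F8777) (tt N7922 D12031) (tt N1723 (iv4 D5696)) (tt N7923 D12032) (tt N3381 F8778) (tt N7924 D12033))
theorem Q3783 : ∀ i, i < 3783 → P i := stepQ 3782 Q3782 (allL N3782 (tt N2121 (iv1 F10001)) (tt N3771 F8782) (tt N3773 F8779) (tt N7232 (iv3 F18181)) (tt N7924 (iv4 F19917)) (tt N1724 F8780) (tt N3849 (iv6 F8895)) (tt N1723 (iv7 D5697)))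
theorem Q3784 : ∀ i, i < 3784 → P i := stepQ 3783 Q3783 (allL N3783 (tt N4675 F19357) (tt N4715 F19358) (tt N3787 (iv2 F8795)) (tt N2130 F8783) (tt N2048 F8784) (tt N7925 D12034) (tt N1725 (iv6 D5698)) (tt N4714 (iv7 F19415)))
theorem Q3785 : ∀ i, i < 3785 → P i := stepQ 3784 Q3784 (allL N3784 (tt N7926 D12035) (tt N7927 D12036) (tt N3788 (iv2 F8801)) (tt N3687 F8787) (tt N7928 D12037) (tt N1726 (iv5 D5700)) (tt N7925 (iv6 F19921)) (tt N7929 D12038))
theorem Q3786 : ∀ i, i < 3786 → P i := stepQ 3785 Q3785 (allL N3785 (tt N3778 (iv1 F10063)) (tt N2063 (iv0 F8791)) (tt N3789 (iv2 F8802)) (tt N3688 F8788) (tt N1987 F8789) (tt N7929 (iv5 F19927)) (tt N3785 F8790) (tt N1726 (iv7 D5701)))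
theorem Q3787 : ∀ i, i < 3787 → P i := stepQ 3786 Q3786 (allL N3786 (tt N5266 F11895) (tt N7347 (iv0 F19521)) (tt N3690 F8792) (tt N1729 F8793) (tt N3774 F8794) (tt N7930 D12039) (tt N1727 (iv6 D5702)) (tt N7931 D12040))
theorem Q3788 : ∀ i, i < 3788 → P i := stepQ 3787 Q3787 (allL N3787 (tt N4704 F19402) (tt N2184 F19403) (tt N3783 F8795) (tt N4687 (iv3 F11103)) (tt N2046 F8796) (tt N7932 D12041) (tt N1728 (iv6 D5703)) (tt N4846 F19372))
theorem Q3789 : ∀ i, i < 3789 → P i := stepQ 3788 Q3788 (allL N3788 (tt N7933 D12042) (tt N7361 (iv0 F18516)) (tt N3784 F8801) (tt N7930 (iv3 F19930)) (tt N7934 D12043) (tt N1729 (iv5 D5705)) (tt N7932 (iv6 F19943)) (tt N7935 D12044))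
theorem Q3790 : ∀ i, i < 3790 → P i := stepQ 3789 Q3789 (allL N3789 (tt N2111 (iv1 F8805)) (tt N3769 (iv0 F10050)) (tt N3785 F8802) (tt N7931 (iv3 F19932)) (tt N3416 F8803) (tt N7935 (iv5 F19950)) (tt N3789 F8804) (tt N1729 (iv7 D5706)))
theorem Q3791 : ∀ i, i < 3791 → P i := stepQ 3790 Q3790 (allL N3790 (tt N4691 (iv1 F19516)) (tt N4558 (iv0 F19512)) (tt N3576 F8807) (tt N3439 F8808) (tt N7700 (iv4 F19143)) (tt N7936 D12045) (tt N1730 (iv6 D5707)) (tt N7937 D12046))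
theorem Q3792 : ∀ i, i < 3792 → P i := stepQ 3791 Q3791 (allL N3791 (tt N7528 F18863) (tt N7551 F18952) (tt N1733 F8809) (tt N2172 F8810) (tt N1766 F8811) (tt N7938 D12047) (tt N1731 (iv6 D5708)) (tt N7550 (iv7 F18907)))
theorem Q3793 : ∀ i, i < 3793 → P i := stepQ 3792 Q3792 (allL N3792 (tt N7142 (iv1 F22445)) (tt N3700 (iv0 F22446)) (tt N5259 (iv2 F11868)) (tt N1734 F8812) (tt N2424 F8813) (tt N7939 D12050) (tt N1732 (iv6 D5709)) (tt N7787 (iv7 F22467)))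
theorem Q3794 : ∀ i, i < 3794 → P i := stepQ 3793 Q3793 (allL N3793 (tt N7550 (iv1 F18911)) (tt N1733 (iv0 D5710)) (tt N7528 (iv2 F18927)) (tt N4264 F10353) (tt N7940 D12052) (tt N7941 D12053) (tt N7942 D12054) (tt N7551 F18910))
theorem Q3795 : ∀ i, i < 3795 → P i := stepQ 3794 Q3794 (allL N3794 (tt N7943 D12055) (tt N7566 (iv0 F38138)) (tt N7938 (iv2 F19961)) (tt N1737 F8814) (tt N7944 D12057) (tt N1733 (iv5 D5712)) (tt N7939 (iv6 F19964)) (tt N7945 D12058))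
theorem Q3796 : ∀ i, i < 3796 → P i := stepQ 3795 Q3795 (allL N3795 (tt N7551 (iv1 F18951)) (tt N7528 (iv0 F18864)) (tt N7550 F18912) (tt N1738 F8815) (tt N1770 F8816) (tt N7945 (iv5 F19974)) (tt N3795 F8817) (tt N1733 (iv7 D5713)))
theorem Q3797 : ∀ i, i < 3797 → P i := stepQ 3796 Q3796 (allL N3796 (tt N1734 (iv1 D5715)) (tt N7141 F17994) (tt N4268 (iv2 F22462)) (tt N7551 (iv3 F22463)) (tt N4260 (iv4 F22464)) (tt N7946 D12067) (tt N7947 D12068) (tt N4264 (iv7 F22461)))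
theorem Q3798 : ∀ i, i < 3798 → P i := stepQ 3797 Q3797 (allL N3797 (tt N7562 (iv1 F36863)) (tt N7948 D12070) (tt N7140 (iv2 F17986)) (tt N7939 (iv3 F19963)) (tt N7949 D12071) (tt N1734 (iv5 D5716)) (tt N1737 F8818) (tt N7950 D12072))
theorem Q3799 : ∀ i, i < 3799 → P i := stepQ 3798 Q3798 (allL N3798 (tt N4268 (iv1 F22460)) (tt N4264 (iv0 F22457)) (tt N7141 (iv2 F17989)) (tt N7787 (iv3 F22465)) (tt N7141 (iv4 F17991)) (tt N7950 (iv5 F19978)) (tt N3798 F8819) (tt N1734 (iv7 D5717)))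
theorem Q3800 : ∀ i, i < 3800 → P i := stepQ 3799 Q3799 (allL N3799 (tt N7876 (iv1 F19803)) (tt N7951 D12073) (tt N7143 (iv2 F17997)) (tt N3698 F10185) (tt N7952 D12074) (tt N1735 (iv5 D5718)) (tt N7953 D12075) (tt N7145 (iv7 F18003)))
theorem Q3801 : ∀ i, i < 3801 → P i := stepQ 3800 Q3800 (allL N3800 (tt N7918 F19901) (tt N7954 D12076) (tt N7144 (iv2 F17999)) (tt N3699 F10174) (tt N2013 F8820) (tt N7329 F18454) (tt N1735 (iv6 D5719)) (tt N7955 D12077))
theorem Q3802 : ∀ i, i < 3802 → P i := stepQ 3801 Q3801 (allL N3801 (tt N5259 (iv1 F22440)) (tt N7787 (iv0 F19575)) (tt N3700 (iv2 F10172)) (tt N1736 (iv3 D5720)) (tt N3816 (iv4 F8847)) (tt N7956 D12078) (tt N7957 D12079) (tt N7142 (iv7 F17996)))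
theorem Q3803 : ∀ i, i < 3803 → P i := stepQ 3802 Q3802 (allL N3802 (tt N7951 (iv1 F19979)) (tt N7876 (iv0 F19802)) (tt N7145 (iv2 F18002)) (tt N7956 (iv3 F19995)) (tt N7958 D12080) (tt N1736 (iv5 D5721)) (tt N7959 D12081) (tt N7143 (iv7 F17998)))
theorem Q3804 : ∀ i, i < 3804 → P i := stepQ 3803 Q3803 (allL N3803 (tt N4285 F9892) (tt N3752 (iv0 F10136)) (tt N7146 (iv2 F18004)) (tt N7957 (iv3 F19997)) (tt N3427 (iv4 F9949)) (tt N7356 (iv5 F18510)) (tt N1736 (iv6 D5722)) (tt N7391 (iv7 F18568)))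
theorem Q3805 : ∀ i, i < 3805 → P i := stepQ 3804 Q3804 (allL N3804 (tt N7150 (iv1 F18014)) (tt N1737 (iv0 D5723)) (tt N7147 F18387) (tt N3704 (iv3 F19280)) (tt N7960 D12082) (tt N7369 (iv5 F18528)) (tt N7961 D12083) (tt N7148 F18385))
theorem Q3806 : ∀ i, i < 3806 → P i := stepQ 3805 Q3805 (allL N3805 (tt N1737 (iv1 D5724)) (tt N7150 F18013) (tt N7148 (iv2 F18384)) (tt N7962 D12084) (tt N7963 D12085) (tt N7284 (iv5 F18329)) (tt N7964 D12086) (tt N7147 (iv7 F18386)))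
theorem Q3807 : ∀ i, i < 3807 → P i := stepQ 3806 Q3806 (allL N3806 (tt N7965 D12087) (tt N7966 D12088) (tt N7149 (iv2 F18009)) (tt N7967 D12089) (tt N1737 (iv4 D5725)) (tt N7968 D12090) (tt N7949 (iv6 F19977)) (tt N7969 D12091))
theorem Q3808 : ∀ i, i < 3808 → P i := stepQ 3807 Q3807 (allL N3807 (tt N7148 (iv1 F18008)) (tt N7147 F18012) (tt N7150 (iv2 F18010)) (tt N7945 (iv3 F19973)) (tt N7969 (iv4 F20004)) (tt N1738 F8821) (tt N7970 D12092) (tt N1737 (iv7 D5726)))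
theorem Q3809 : ∀ i, i < 3809 → P i := stepQ 3808 Q3808 (allL N3808 (tt N7670 F19102) (tt N4631 F19396) (tt N7339 (iv2 F18479)) (tt N1739 (iv3 D5729)) (tt N1771 F8825) (tt N7971 D12093) (tt N7972 D12094) (tt N2214 F8826))
theorem Q3810 : ∀ i, i < 3810 → P i := stepQ 3809 Q3809 (allL N3809 (tt N7401 (iv1 F18604)) (tt N7659 F19079) (tt N7152 (iv2 F18017)) (tt N7971 (iv3 F20006)) (tt N7973 D12095) (tt N1739 (iv5 D5730)) (tt N7974 D12096) (tt N4361 (iv7 F10502)))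
theorem Q3811 : ∀ i, i < 3811 → P i := stepQ 3810 Q3810 (allL N3810 (tt N7914 F19888) (tt N7393 (iv0 F18578)) (tt N7153 (iv2 F18020)) (tt N7972 (iv3 F20008)) (tt N1741 F8827) (tt N7306 F18366) (tt N1739 (iv6 D5731)) (tt N7975 D12097))
theorem Q3812 : ∀ i, i < 3812 → P i := stepQ 3811 Q3811 (allL N3811 (tt N1740 (iv1 D5732)) (tt N1743 F8828) (tt N4363 F10507) (tt N1786 F10036) (tt N7976 D12098) (tt N3685 (iv5 F8830)) (tt N2346 (iv6 F10057)) (tt N2245 F10037))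
theorem Q3813 : ∀ i, i < 3813 → P i := stepQ 3812 Q3812 (allL N3812 (tt N7405 (iv1 F18619)) (tt N7977 D12099) (tt N7154 (iv2 F18024)) (tt N7978 D12100) (tt N1740 (iv4 D5733)) (tt N7979 D12101) (tt N7980 D12102) (tt N4364 (iv7 F10512)))
theorem Q3814 : ∀ i, i < 3814 → P i := stepQ 3813 Q3813 (allL N3813 (tt N5506 F12673) (tt N7981 D12103) (tt N7155 (iv2 F18026)) (tt N3398 F8832) (tt N7980 (iv4 F20023)) (tt N7410 (iv5 F18629)) (tt N1740 (iv6 D5734)) (tt N7410 (iv7 F18630)))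
theorem Q3815 : ∀ i, i < 3815 → P i := stepQ 3814 Q3814 (allL N3814 (tt N1741 (iv1 D5736)) (tt N7156 F18031) (tt N3629 F8834) (tt N1789 F9998) (tt N7954 (iv4 F19984)) (tt N4577 (iv5 F10919)) (tt N1958 F9999) (tt N2113 (iv7 F10022)))
theorem Q3816 : ∀ i, i < 3816 → P i := stepQ 3815 Q3815 (allL N3815 (tt N3629 (iv1 F8840)) (tt N2113 (iv0 F10019)) (tt N7156 (iv2 F18028)) (tt N3399 F8837) (tt N7975 (iv4 F20010)) (tt N3536 F8838) (tt N3644 F8839) (tt N1741 (iv7 D5737)))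
theorem Q3817 : ∀ i, i < 3817 → P i := stepQ 3816 Q3816 (allL N3816 (tt N7462 (iv1 F19323)) (tt N7644 (iv0 F19057)) (tt N7767 (iv2 F19301)) (tt N1742 (iv3 D5740)) (tt N3801 F8847) (tt N7982 D12104) (tt N7983 D12105) (tt N7151 (iv7 F18016)))
theorem Q3818 : ∀ i, i < 3818 → P i := stepQ 3817 Q3817 (allL N3817 (tt N7659 (iv1 F19080)) (tt N7401 (iv0 F18603)) (tt N4361 (iv2 F10501)) (tt N7982 (iv3 F20028)) (tt N7984 D12106) (tt N1742 (iv5 D5741)) (tt N7985 D12107) (tt N7152 (iv7 F18018)))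
theorem Q3819 : ∀ i, i < 3819 → P i := stepQ 3818 Q3818 (allL N3818 (tt N3495 (iv1 F10186)) (tt N3503 (iv0 F11424)) (tt N4362 (iv2 F10503)) (tt N7983 (iv3 F20029)) (tt N1744 F8848) (tt N4904 F11423) (tt N1742 (iv6 D5742)) (tt N7639 (iv7 F19035)))
theorem Q3820 : ∀ i, i < 3820 → P i := stepQ 3819 Q3819 (allL N3819 (tt N7977 (iv1 F20018)) (tt N7405 (iv0 F18618)) (tt N4364 (iv2 F10511)) (tt N7986 D12108) (tt N1743 (iv4 D5743)) (tt N7987 D12109) (tt N7322 (iv6 F18438)) (tt N7154 (iv7 F18025)))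
theorem Q3821 : ∀ i, i < 3821 → P i := stepQ 3820 Q3820 (allL N3820 (tt N7254 (iv1 F18233)) (tt N3420 (iv0 F10306)) (tt N7157 (iv2 F18033)) (tt N7988 D12110) (tt N1745 (iv4 D5744)) (tt N7989 D12111) (tt N7990 D12112) (tt N4370 (iv7 F10518)))
theorem Q3822 : ∀ i, i < 3822 → P i := stepQ 3821 Q3821 (allL N3821 (tt N7991 D12113) (tt N7992 D12114) (tt N7158 (iv2 F18036)) (tt N3403 F8849) (tt N7990 (iv4 F20034)) (tt N5478 F12521) (tt N1745 (iv6 D5745)) (tt N7993 D12115))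
theorem Q3823 : ∀ i, i < 3823 → P i := stepQ 3822 Q3822 (allL N3822 (tt N3420 F10309) (tt N7254 F18232) (tt N4370 (iv2 F10517)) (tt N7994 D12116) (tt N1746 (iv4 D5747)) (tt N7995 D12117) (tt N7996 D12118) (tt N7157 (iv7 F18034)))
theorem Q3824 : ∀ i, i < 3824 → P i := stepQ 3823 Q3823 (allL N3823 (tt N7997 D12119) (tt N5671 (iv0 F12953)) (tt N4371 (iv2 F10520)) (tt N7251 (iv3 F18226)) (tt N7996 (iv4 F20045)) (tt N7408 (iv5 F18626)) (tt N1746 (iv6 D5748)) (tt N7998 D12120))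
theorem Q3825 : ∀ i, i < 3825 → P i := stepQ 3824 Q3824 (allL N3824 (tt N7163 (iv1 F18052)) (tt N1747 (iv0 D5749)) (tt N7159 F18039) (tt N4949 (iv3 F11498)) (tt N2022 F8851) (tt N7999 D12121) (tt N8000 D12122) (tt N7160 (iv7 F18043)))
theorem Q3826 : ∀ i, i < 3826 → P i := stepQ 3825 Q3825 (allL N3825 (tt N1747 (iv1 D5750)) (tt N7163 F18051) (tt N7160 F18045) (tt N8001 D12123) (tt N3428 (iv4 F10219)) (tt N8002 D12124) (tt N8003 D12125) (tt N7159 F18040))
theorem Q3827 : ∀ i, i < 3827 → P i := stepQ 3826 Q3826 (allL N3826 (tt N8004 D12126) (tt N8005 D12127) (tt N8006 D12128) (tt N1747 (iv3 D5751)) (tt N1804 F8853) (tt N8007 D12129) (tt N1759 F8854) (tt N8008 D12130))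
theorem Q3828 : ∀ i, i < 3828 → P i := stepQ 3827 Q3827 (allL N3827 (tt N8009 D12131) (tt N8010 D12132) (tt N7162 (iv2 F18048)) (tt N8007 (iv3 F20058)) (tt N8011 D12133) (tt N1747 (iv5 D5752)) (tt N8012 D12134) (tt N8013 D12135))
theorem Q3829 : ∀ i, i < 3829 → P i := stepQ 3828 Q3828 (allL N3828 (tt N7160 (iv1 F18042)) (tt N7159 F18041) (tt N7163 (iv2 F18049)) (tt N8008 (iv3 F20059)) (tt N1748 F8855) (tt N8013 (iv5 F20064)) (tt N8014 D12136) (tt N1747 (iv7 D5753)))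
theorem Q3830 : ∀ i, i < 3830 → P i := stepQ 3829 Q3829 (allL N3829 (tt N4411 (iv1 F12416)) (tt N5428 (iv0 F12412)) (tt N5429 (iv2 F12425)) (tt N1807 F8856) (tt N8014 (iv4 F20065)) (tt N3829 F8857) (tt N1748 (iv6 D5754)) (tt N1762 F8858))
theorem Q3831 : ∀ i, i < 3831 → P i := stepQ 3830 Q3830 (allL N3830 (tt N1751 (iv1 F8860)) (tt N1749 (iv0 D5755)) (tt N2521 (iv2 F8861)) (tt N8015 D12137) (tt N1882 F8859) (tt N8016 D12138) (tt N8017 D12139) (tt N2523 (iv7 F8862)))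
theorem Q3832 : ∀ i, i < 3832 → P i := stepQ 3831 Q3831 (allL N3831 (tt N1749 (iv1 D5756)) (tt N1751 F8863) (tt N2523 (iv2 F8866)) (tt N8018 D12140) (tt N1881 F8865) (tt N8019 D12141) (tt N3454 (iv6 F8867)) (tt N2521 F8864))
theorem Q3833 : ∀ i, i < 3833 → P i := stepQ 3832 Q3832 (allL N3832 (tt N8020 D12142) (tt N8021 D12143) (tt N8022 D12144) (tt N1749 (iv3 D5757)) (tt N1864 F8868) (tt N8023 D12145) (tt N8024 D12146) (tt N2605 F8869))
theorem Q3834 : ∀ i, i < 3834 → P i := stepQ 3833 Q3833 (allL N3833 (tt N7267 (iv1 F18273)) (tt N3423 F8871) (tt N7165 (iv2 F18055)) (tt N8023 (iv3 F20090)) (tt N3860 F8906) (tt N1749 (iv5 D5758)) (tt N8025 D12147) (tt N2606 F8870))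
theorem Q3835 : ∀ i, i < 3835 → P i := stepQ 3834 Q3834 (allL N3834 (tt N8026 D12148) (tt N8027 D12149) (tt N7166 (iv2 F18060)) (tt N8024 (iv3 F20092)) (tt N1750 F8872) (tt N8028 D12150) (tt N1749 (iv6 D5759)) (tt N8029 D12151))
theorem Q3836 : ∀ i, i < 3836 → P i := stepQ 3835 Q3835 (allL N3835 (tt N1750 (iv1 D5761)) (tt N5504 F12593) (tt N4085 (iv2 F12640)) (tt N1814 F12594) (tt N5469 F12595) (tt N8030 D12152) (tt N8031 D12153) (tt N2329 F12596))
theorem Q3837 : ∀ i, i < 3837 → P i := stepQ 3836 Q3836 (allL N3836 (tt N4085 F10682) (tt N2329 F12642) (tt N5504 F12588) (tt N1868 F8873) (tt N8029 (iv4 F20096)) (tt N2609 F8874) (tt N2609 F8875) (tt N1750 (iv7 D5762)))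
theorem Q3838 : ∀ i, i < 3838 → P i := stepQ 3837 Q3837 (allL N3837 (tt N8032 D12154) (tt N8033 D12155) (tt N8034 D12156) (tt N1751 (iv3 D5763)) (tt N7256 (iv4 F18240)) (tt N8035 D12157) (tt N8036 D12158) (tt N7164 (iv7 F18054)))
theorem Q3839 : ∀ i, i < 3839 → P i := stepQ 3838 Q3838 (allL N3838 (tt N3423 F8878) (tt N7267 (iv0 F18272)) (tt N2606 F8876) (tt N8035 (iv3 F20106)) (tt N2526 F8877) (tt N1751 (iv5 D5764)) (tt N8037 D12159) (tt N7165 (iv7 F18057)))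
theorem Q3840 : ∀ i, i < 3840 → P i := stepQ 3839 Q3839 (allL N3839 (tt N8018 (iv1 F26342)) (tt N8038 D12161) (tt N2607 F8879) (tt N8036 (iv3 F20107)) (tt N1752 F8880) (tt N8039 D12162) (tt N1751 (iv6 D5765)) (tt N8040 D12163))
theorem Q3841 : ∀ i, i < 3841 → P i := stepQ 3840 Q3840 (allL N3840 (tt N2609 (iv1 F8887)) (tt N1752 (iv0 D5766)) (tt N2608 (iv2 F8882)) (tt N1819 F10065) (tt N8041 D12164) (tt N7997 (iv5 F20047)) (tt N2112 F10066) (tt N2346 F10067))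
theorem Q3842 : ∀ i, i < 3842 → P i := stepQ 3841 Q3841 (allL N3841 (tt N2346 (iv1 F10055)) (tt N2608 F8890) (tt N2609 F8888) (tt N7259 (iv3 F18252)) (tt N8040 (iv4 F20156)) (tt N5504 (iv5 F12590)) (tt N5504 (iv6 F12591)) (tt N1752 (iv7 D5767)))
theorem Q3843 : ∀ i, i < 3843 → P i := stepQ 3842 Q3842 (allL N3842 (tt N8042 D12165) (tt N8043 D12166) (tt N8044 D12167) (tt N1753 (iv3 D5768)) (tt N1831 F8891) (tt N8045 D12168) (tt N7908 (iv6 F19879)) (tt N2386 F8892))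
theorem Q3844 : ∀ i, i < 3844 → P i := stepQ 3843 Q3843 (allL N3843 (tt N5458 (iv1 F12498)) (tt N5452 (iv0 F12488)) (tt N7168 (iv2 F18064)) (tt N8045 (iv3 F20169)) (tt N3853 (iv4 F8899)) (tt N1753 (iv5 D5769)) (tt N8046 D12169) (tt N4382 (iv7 F10536)))
theorem Q3845 : ∀ i, i < 3845 → P i := stepQ 3844 Q3844 (allL N3844 (tt N8047 D12170) (tt N8048 D12171) (tt N8049 D12172) (tt N1754 (iv3 D5770)) (tt N3852 (iv4 F8898)) (tt N8050 D12173) (tt N8051 D12174) (tt N7167 (iv7 F18063)))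
theorem Q3846 : ∀ i, i < 3846 → P i := stepQ 3845 Q3845 (allL N3845 (tt N5452 (iv1 F12489)) (tt N5458 (iv0 F12497)) (tt N4382 (iv2 F10535)) (tt N8050 (iv3 F20173)) (tt N3850 (iv4 F8896)) (tt N1754 (iv5 D5771)) (tt N8052 D12175) (tt N7168 (iv7 F18065)))
theorem Q3847 : ∀ i, i < 3847 → P i := stepQ 3846 Q3846 (allL N3846 (tt N8053 D12176) (tt N8054 D12177) (tt N4383 (iv2 F10537)) (tt N8051 (iv3 F20174)) (tt N1756 F8893) (tt N8055 D12178) (tt N1754 (iv6 D5772)) (tt N8056 D12179))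
theorem Q3848 : ∀ i, i < 3848 → P i := stepQ 3847 Q3847 (allL N3847 (tt N4385 (iv1 F10546)) (tt N1756 (iv0 D5773)) (tt N4384 F12674) (tt N1828 F12675) (tt N8057 D12180) (tt N7981 F20026) (tt N8030 (iv6 F20101)) (tt N2372 F12676))
theorem Q3849 : ∀ i, i < 3849 → P i := stepQ 3848 Q3848 (allL N3848 (tt N1756 (iv1 D5774)) (tt N4385 F10545) (tt N2372 F12670) (tt N2033 F12671) (tt N8058 D12181) (tt N5506 (iv5 F12669)) (tt N7991 (iv6 F20035)) (tt N4384 F12672))
theorem Q3850 : ∀ i, i < 3850 → P i := stepQ 3849 Q3849 (allL N3849 (tt N2372 F12611) (tt N4384 F10544) (tt N4385 (iv2 F10540)) (tt N7261 (iv3 F18260)) (tt N8056 (iv4 F20176)) (tt N3849 F8894) (tt N3782 F8895) (tt N1756 (iv7 D5775)))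
theorem Q3851 : ∀ i, i < 3851 → P i := stepQ 3850 Q3850 (allL N3850 (tt N5645 (iv1 F12913)) (tt N4995 (iv0 F11540)) (tt N7170 (iv2 F18069)) (tt N5133 (iv3 F11724)) (tt N3845 F8896) (tt N1757 (iv5 D5776)) (tt N8059 D12182) (tt N5350 (iv7 F12066)))
theorem Q3852 : ∀ i, i < 3852 → P i := stepQ 3851 Q3851 (allL N3851 (tt N7906 (iv1 F19876)) (tt N4576 (iv0 F10917)) (tt N7171 (iv2 F18074)) (tt N5134 (iv3 F11725)) (tt N1986 F8897) (tt N8060 D12183) (tt N1757 (iv6 D5777)) (tt N8061 D12184))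
theorem Q3853 : ∀ i, i < 3853 → P i := stepQ 3852 Q3852 (allL N3852 (tt N8062 D12185) (tt N8063 D12186) (tt N8064 D12187) (tt N1758 (iv3 D5778)) (tt N3844 F8898) (tt N8065 D12188) (tt N8066 D12189) (tt N7169 (iv7 F18068)))
theorem Q3854 : ∀ i, i < 3854 → P i := stepQ 3853 Q3853 (allL N3853 (tt N4995 (iv1 F11541)) (tt N5645 (iv0 F12912)) (tt N5350 (iv2 F12065)) (tt N8065 (iv3 F20187)) (tt N3843 F8899) (tt N1758 (iv5 D5779)) (tt N8067 D12190) (tt N7170 (iv7 F18071)))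
theorem Q3855 : ∀ i, i < 3855 → P i := stepQ 3854 Q3854 (allL N3854 (tt N8057 F20179) (tt N8058 (iv0 F20181)) (tt N5351 (iv2 F12068)) (tt N8066 (iv3 F20188)) (tt N3433 F8900) (tt N8068 D12191) (tt N1758 (iv6 D5780)) (tt N8069 D12192))
theorem Q3856 : ∀ i, i < 3856 → P i := stepQ 3855 Q3855 (allL N3855 (tt N8070 D12193) (tt N1759 (iv0 D5781)) (tt N8071 D12194) (tt N8072 D12195) (tt N8073 D12196) (tt N8074 D12197) (tt N8075 D12198) (tt N8076 D12199))
theorem Q3857 : ∀ i, i < 3857 → P i := stepQ 3856 Q3856 (allL N3856 (tt N1759 (iv1 D5782)) (tt N8070 F20196) (tt N8076 (iv2 F20199)) (tt N8077 D12200) (tt N8078 D12201) (tt N8079 D12202) (tt N8080 D12203) (tt N8071 F20197))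
theorem Q3858 : ∀ i, i < 3858 → P i := stepQ 3857 Q3857 (allL N3857 (tt N8071 (iv1 F37262)) (tt N8076 (iv0 F37265)) (tt N1759 (iv2 D5783)) (tt N7174 (iv3 F18077)) (tt N1839 F8901) (tt N8081 D12206) (tt N8006 (iv6 F20057)) (tt N8070 (iv7 F20195)))
theorem Q3859 : ∀ i, i < 3859 → P i := stepQ 3858 Q3858 (allL N3858 (tt N8082 D12207) (tt N8083 D12208) (tt N8081 (iv2 F20204)) (tt N1760 F8902) (tt N8084 D12209) (tt N1759 (iv5 D5784)) (tt N8085 D12210) (tt N8086 D12211))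
theorem Q3860 : ∀ i, i < 3860 → P i := stepQ 3859 Q3859 (allL N3859 (tt N8076 (iv1 F37266)) (tt N8071 (iv0 F37261)) (tt N8070 F20193) (tt N1761 F8903) (tt N1841 F8904) (tt N8086 (iv5 F20207)) (tt N8087 D12212) (tt N1759 (iv7 D5785)))
theorem Q3861 : ∀ i, i < 3861 → P i := stepQ 3860 Q3860 (allL N3860 (tt N1760 (iv1 D5786)) (tt N3861 (iv0 F8908)) (tt N4116 (iv2 F9524)) (tt N8088 D12213) (tt N3833 (iv4 F8906)) (tt N3431 F8905) (tt N8089 D12214) (tt N5446 (iv7 F12475)))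
theorem Q3862 : ∀ i, i < 3862 → P i := stepQ 3861 Q3861 (allL N3861 (tt N3860 F8908) (tt N2526 F8909) (tt N3863 (iv2 F8911)) (tt N8090 D12215) (tt N1760 (iv4 D5787)) (tt N2510 F8907) (tt N8091 D12216) (tt N3384 F8910))
theorem Q3863 : ∀ i, i < 3863 → P i := stepQ 3862 Q3862 (allL N3862 (tt N8092 D12217) (tt N8093 D12218) (tt N7176 (iv2 F18080)) (tt N8085 (iv3 F20205)) (tt N8091 (iv4 F20214)) (tt N8012 (iv5 F20063)) (tt N1760 (iv6 D5788)) (tt N8094 D12219))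
theorem Q3864 : ∀ i, i < 3864 → P i := stepQ 3863 Q3863 (allL N3863 (tt N4116 (iv1 F9527)) (tt N5446 (iv0 F12477)) (tt N3861 F8911) (tt N8086 (iv3 F20206)) (tt N3384 F8912) (tt N1761 F8913) (tt N8095 D12220) (tt N1760 (iv7 D5789)))
theorem Q3865 : ∀ i, i < 3865 → P i := stepQ 3864 Q3864 (allL N3864 (tt N8096 D12221) (tt N8097 D12222) (tt N5427 (iv2 F12408)) (tt N8087 (iv3 F20208)) (tt N1762 F8914) (tt N8098 D12223) (tt N1761 (iv6 D5790)) (tt N8014 (iv7 F20066)))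
theorem Q3866 : ∀ i, i < 3866 → P i := stepQ 3865 Q3865 (allL N3865 (tt N5429 (iv1 F12430)) (tt N1762 (iv0 D5791)) (tt N5428 F12411) (tt N2514 (iv3 F8916)) (tt N8099 D12224) (tt N8100 D12225) (tt N3509 F8915) (tt N4411 (iv7 F10570)))
theorem Q3867 : ∀ i, i < 3867 → P i := stepQ 3866 Q3866 (allL N3866 (tt N1762 (iv1 D5792)) (tt N5429 F12429) (tt N4411 (iv2 F12415)) (tt N7270 F18281) (tt N8101 D12226) (tt N8102 D12227) (tt N8103 D12228) (tt N5428 F12414))
theorem Q3868 : ∀ i, i < 3868 → P i := stepQ 3867 Q3867 (allL N3867 (tt N8104 D12229) (tt N8105 D12230) (tt N2175 F8917) (tt N1764 F8918) (tt N2167 F8919) (tt N8106 D12231) (tt N1763 (iv6 D5793)) (tt N8107 D12232))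
theorem Q3869 : ∀ i, i < 3869 → P i := stepQ 3868 Q3868 (allL N3868 (tt N3873 (iv1 F8932)) (tt N1764 (iv0 D5794)) (tt N2065 (iv2 F10347)) (tt N2160 F22483) (tt N4691 (iv4 F11111)) (tt N8108 D12233) (tt N8109 D12234) (tt N3871 F10346))
theorem Q3870 : ∀ i, i < 3870 → P i := stepQ 3869 Q3869 (allL N3869 (tt N8110 D12235) (tt N4647 (iv0 F11039)) (tt N3872 (iv2 F8923)) (tt N8106 (iv3 F20236)) (tt N8111 D12236) (tt N1764 (iv5 D5796)) (tt N2161 F8920) (tt N8112 D12237))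
theorem Q3871 : ∀ i, i < 3871 → P i := stepQ 3870 Q3870 (allL N3870 (tt N3871 (iv1 F8922)) (tt N2065 (iv0 F10276)) (tt N3873 (iv2 F8926)) (tt N8107 (iv3 F20239)) (tt N7421 (iv4 F18654)) (tt N8112 (iv5 F20253)) (tt N3870 F8921) (tt N1764 (iv7 D5797)))
theorem Q3872 : ∀ i, i < 3872 → P i := stepQ 3871 Q3871 (allL N3871 (tt N1765 (iv1 D5799)) (tt N3870 F8922) (tt N2114 (iv2 F10335)) (tt N2164 F22503) (tt N7517 F19543) (tt N8113 D12238) (tt N8114 D12239) (tt N3868 (iv7 F10346)))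
theorem Q3873 : ∀ i, i < 3873 → P i := stepQ 3872 Q3872 (allL N3872 (tt N4615 (iv1 F20262)) (tt N8115 D12241) (tt N3869 F8923) (tt N3470 F8924) (tt N8116 D12242) (tt N1765 (iv5 D5800)) (tt N2165 F8925) (tt N8117 D12243))
theorem Q3874 : ∀ i, i < 3874 → P i := stepQ 3873 Q3873 (allL N3873 (tt N2114 (iv1 F10345)) (tt N3868 F8932) (tt N3870 F8926) (tt N3471 F8927) (tt N3523 F8928) (tt N8117 (iv5 F20267)) (tt N3873 F8929) (tt N1765 (iv7 D5801)))
theorem Q3875 : ∀ i, i < 3875 → P i := stepQ 3874 Q3874 (allL N3874 (tt N1766 (iv1 D5803)) (tt N1770 F8933) (tt N1768 F10133) (tt N7364 (iv3 F18521)) (tt N3757 F10134) (tt N8118 D12244) (tt N8119 D12245) (tt N1767 F10135))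
theorem Q3876 : ∀ i, i < 3876 → P i := stepQ 3875 Q3875 (allL N3875 (tt N7372 F19042) (tt N8120 D12246) (tt N1769 F8934) (tt N2170 F8935) (tt N8121 D12247) (tt N1766 (iv5 D5804)) (tt N5264 (iv6 F11885)) (tt N8122 D12248))
theorem Q3877 : ∀ i, i < 3877 → P i := stepQ 3876 Q3876 (allL N3876 (tt N1768 (iv1 F8940)) (tt N1767 F8941) (tt N1770 F8936) (tt N2171 F8937) (tt N7550 F18905) (tt N8122 (iv5 F20296)) (tt N3876 F8938) (tt N1766 (iv7 D5805)))
theorem Q3878 : ∀ i, i < 3878 → P i := stepQ 3877 Q3877 (allL N3877 (tt N7363 (iv1 F18524)) (tt N4687 (iv0 F19407)) (tt N3599 (iv2 F10123)) (tt N1767 (iv3 D5807)) (tt N3598 F10122) (tt N8123 D12249) (tt N8124 D12250) (tt N7364 (iv7 F18523)))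
theorem Q3879 : ∀ i, i < 3879 → P i := stepQ 3878 Q3878 (allL N3878 (tt N8125 D12251) (tt N8126 D12252) (tt N7354 (iv2 F18502)) (tt N8123 (iv3 F20300)) (tt N8127 D12253) (tt N1767 (iv5 D5809)) (tt N8128 D12254) (tt N8118 (iv7 F20271)))
theorem Q3880 : ∀ i, i < 3880 → P i := stepQ 3879 Q3879 (allL N3879 (tt N8114 (iv1 F20319)) (tt N8129 D12256) (tt N7355 (iv2 F18506)) (tt N8124 (iv3 F20302)) (tt N7648 (iv4 F19065)) (tt N8130 D12257) (tt N1767 (iv6 D5810)) (tt N8131 D12258))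
theorem Q3881 : ∀ i, i < 3881 → P i := stepQ 3880 Q3880 (allL N3880 (tt N8126 (iv1 F20312)) (tt N8125 F20305) (tt N8118 (iv2 F20270)) (tt N3750 F10132) (tt N8132 D12259) (tt N1768 (iv5 D5814)) (tt N8133 D12260) (tt N7354 (iv7 F18504)))
theorem Q3882 : ∀ i, i < 3882 → P i := stepQ 3881 Q3881 (allL N3881 (tt N4288 F11437) (tt N8109 (iv0 F22282)) (tt N8119 (iv2 F20282)) (tt N3751 (iv3 F10131)) (tt N3759 F10130) (tt N7812 (iv5 F19641)) (tt N1768 (iv6 D5815)) (tt N8134 D12262))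
theorem Q3883 : ∀ i, i < 3883 → P i := stepQ 3882 Q3882 (allL N3882 (tt N8122 (iv1 F20298)) (tt N1769 (iv0 D5816)) (tt N7372 (iv2 F19654)) (tt N8135 D12263) (tt N8136 D12264) (tt N7815 F19655) (tt N8137 D12265) (tt N8120 (iv7 F20290)))
theorem Q3884 : ∀ i, i < 3884 → P i := stepQ 3883 Q3883 (allL N3883 (tt N1769 (iv1 D5817)) (tt N8122 F20297) (tt N8120 (iv2 F20292)) (tt N7276 F19652) (tt N8138 D12266) (tt N7816 (iv5 F19651)) (tt N8139 D12267) (tt N7372 F19653))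
theorem Q3885 : ∀ i, i < 3885 → P i := stepQ 3884 Q3884 (allL N3884 (tt N8140 D12268) (tt N8141 D12269) (tt N8121 (iv2 F20293)) (tt N8142 D12270) (tt N1769 (iv4 D5818)) (tt N8143 D12271) (tt N5276 (iv6 F11901)) (tt N8144 D12272))
theorem Q3886 : ∀ i, i < 3886 → P i := stepQ 3885 Q3885 (allL N3885 (tt N8120 (iv1 F20289)) (tt N7372 (iv0 F18539)) (tt N8122 (iv2 F20294)) (tt N1780 F8944) (tt N8144 (iv4 F20332)) (tt N1770 F8945) (tt N8145 D12273) (tt N1769 (iv7 D5819)))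
theorem Q3887 : ∀ i, i < 3887 → P i := stepQ 3886 Q3886 (allL N3886 (tt N8146 D12274) (tt N8147 D12275) (tt N7340 (iv2 F18483)) (tt N1772 F8952) (tt N8148 D12276) (tt N1771 (iv5 D5823)) (tt N8149 D12277) (tt N2215 F8953))
theorem Q3888 : ∀ i, i < 3888 → P i := stepQ 3887 Q3887 (allL N3887 (tt N8150 D12278) (tt N8151 D12279) (tt N7341 (iv2 F18489)) (tt N1773 F8954) (tt N7972 (iv4 F20009)) (tt N5290 (iv5 F11938)) (tt N1771 (iv6 D5824)) (tt N8152 D12280))
theorem Q3889 : ∀ i, i < 3889 → P i := stepQ 3888 Q3888 (allL N3888 (tt N1772 (iv1 D5825)) (tt N1775 F8955) (tt N2207 (iv2 F8958)) (tt N8126 F20315) (tt N8153 D12281) (tt N3725 F8957) (tt N8154 D12282) (tt N2206 F8956))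
theorem Q3890 : ∀ i, i < 3890 → P i := stepQ 3889 Q3889 (allL N3889 (tt N4859 (iv1 F11308)) (tt N4862 (iv0 F11312)) (tt N2208 F8959) (tt N8155 D12283) (tt N1772 (iv4 D5826)) (tt N8156 D12284) (tt N5114 (iv6 F316520)) (tt N2217 F8960))
theorem Q3891 : ∀ i, i < 3891 → P i := stepQ 3890 Q3890 (allL N3890 (tt N8157 D12286) (tt N8158 D12287) (tt N2209 F8961) (tt N8149 (iv3 F20346)) (tt N5114 (iv4 F316519)) (tt N5292 (iv5 F11945)) (tt N1772 (iv6 D5827)) (tt N8159 D12288))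
theorem Q3892 : ∀ i, i < 3892 → P i := stepQ 3891 Q3891 (allL N3891 (tt N1773 (iv1 D5829)) (tt N2211 F8962) (tt N2210 F8965) (tt N8129 (iv3 F20317)) (tt N1789 F8963) (tt N4740 (iv5 F11198)) (tt N1960 (iv6 F8964)) (tt N2116 F8966))
theorem Q3893 : ∀ i, i < 3893 → P i := stepQ 3892 Q3892 (allL N3892 (tt N2210 (iv1 F8972)) (tt N2116 F8973) (tt N2211 F8968) (tt N8152 (iv3 F20352)) (tt N3399 F8969) (tt N2198 F8970) (tt N2220 F8971) (tt N1773 (iv7 D5830)))
theorem Q3894 : ∀ i, i < 3894 → P i := stepQ 3893 Q3893 (allL N3893 (tt N1774 (iv1 D5832)) (tt N2203 F8978) (tt N2202 F19361) (tt N7363 F19411) (tt N8160 D12289) (tt N8161 D12290) (tt N3893 F19362) (tt N2133 F19363))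
theorem Q3895 : ∀ i, i < 3895 → P i := stepQ 3894 Q3894 (allL N3894 (tt N8162 D12291) (tt N7560 F19426) (tt N7770 (iv2 F19305)) (tt N1775 F8982) (tt N8163 D12292) (tt N1774 (iv5 D5835)) (tt N8164 D12293) (tt N2204 F8983))
theorem Q3896 : ∀ i, i < 3896 → P i := stepQ 3895 Q3895 (allL N3895 (tt N7564 F19428) (tt N7568 (iv0 F24219)) (tt N7771 (iv2 F19310)) (tt N1776 F8984) (tt N7755 (iv4 F19266)) (tt N7798 (iv5 F19596)) (tt N1774 (iv6 D5836)) (tt N7867 (iv7 F19772)))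
theorem Q3897 : ∀ i, i < 3897 → P i := stepQ 3896 Q3896 (allL N3896 (tt N4862 (iv1 F11313)) (tt N4859 (iv0 F11307)) (tt N2217 F8985) (tt N8165 D12295) (tt N1775 (iv4 D5837)) (tt N8166 D12296) (tt N8167 D12297) (tt N2208 F8986))
theorem Q3898 : ∀ i, i < 3898 → P i := stepQ 3897 Q3897 (allL N3897 (tt N8168 D12298) (tt N7619 (iv0 F19017)) (tt N2218 F8987) (tt N8164 (iv3 F20393)) (tt N8167 (iv4 F20401)) (tt N7800 (iv5 F19608)) (tt N1775 (iv6 D5838)) (tt N8169 D12299))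
theorem Q3899 : ∀ i, i < 3899 → P i := stepQ 3898 Q3898 (allL N3898 (tt N7344 F19206) (tt N4624 F19207) (tt N7342 F18491) (tt N1777 (iv3 D5839)) (tt N8170 D12300) (tt N7774 (iv5 F19560)) (tt N8171 D12301) (tt N2225 F8988))
theorem Q3900 : ∀ i, i < 3900 → P i := stepQ 3899 Q3899 (allL N3899 (tt N4349 (iv1 F10472)) (tt N3395 F8991) (tt N2222 F8989) (tt N8172 D12302) (tt N1777 (iv4 D5840)) (tt N8173 D12303) (tt N8174 D12304) (tt N2226 F8990))
theorem Q3901 : ∀ i, i < 3901 → P i := stepQ 3900 Q3900 (allL N3900 (tt N8175 D12305) (tt N8176 D12306) (tt N2224 F8992) (tt N8171 (iv3 F20413)) (tt N8174 (iv4 F20419)) (tt N8177 D12307) (tt N1777 (iv6 D5841)) (tt N8178 D12308))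
theorem Q3902 : ∀ i, i < 3902 → P i := stepQ 3901 Q3901 (allL N3901 (tt N4595 F19551) (tt N8161 (iv0 F20385)) (tt N8179 D12309) (tt N1778 (iv3 D5842)) (tt N8180 D12310) (tt N5279 F11916) (tt N8181 D12311) (tt N2221 F8993))
theorem Q3903 : ∀ i, i < 3903 → P i := stepQ 3902 Q3902 (allL N3902 (tt N3395 F8996) (tt N4349 F10471) (tt N2226 F8994) (tt N8182 D12312) (tt N1778 (iv4 D5843)) (tt N8183 D12313) (tt N8184 D12314) (tt N2222 F8995))
theorem Q3904 : ∀ i, i < 3904 → P i := stepQ 3903 Q3903 (allL N3903 (tt N8185 D12315) (tt N8186 D12316) (tt N2227 F8997) (tt N8181 (iv3 F20435)) (tt N8184 (iv4 F20441)) (tt N5281 (iv5 F11922)) (tt N1778 (iv6 D5844)) (tt N8187 D12317))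
theorem Q3905 : ∀ i, i < 3905 → P i := stepQ 3904 Q3904 (allL N3904 (tt N2232 (iv1 F9001)) (tt N1779 (iv0 D5845)) (tt N2228 (iv2 F8999)) (tt N8188 D12318) (tt N2008 F8998) (tt N8189 D12319) (tt N8190 D12320) (tt N2229 (iv7 F9000)))
theorem Q3906 : ∀ i, i < 3906 → P i := stepQ 3905 Q3905 (allL N3905 (tt N1779 (iv1 D5846)) (tt N2232 F9002) (tt N2229 (iv2 F9005)) (tt N8191 D12321) (tt N2009 F9004) (tt N8192 D12322) (tt N8193 D12323) (tt N2228 F9003))
theorem Q3907 : ∀ i, i < 3907 → P i := stepQ 3906 Q3906 (allL N3906 (tt N8194 D12324) (tt N8195 D12325) (tt N8196 D12326) (tt N1779 (iv3 D5847)) (tt N8142 (iv4 F20331)) (tt N8197 D12327) (tt N5295 (iv6 F11954)) (tt N8198 D12328))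
theorem Q3908 : ∀ i, i < 3908 → P i := stepQ 3907 Q3907 (allL N3907 (tt N8199 D12329) (tt N8200 D12330) (tt N2231 F9006) (tt N8197 (iv3 F20461)) (tt N2306 F9007) (tt N1779 (iv5 D5848)) (tt N8201 D12331) (tt N2304 (iv7 F9008)))
theorem Q3909 : ∀ i, i < 3909 → P i := stepQ 3908 Q3908 (allL N3908 (tt N2229 (iv1 F9012)) (tt N2228 F9013) (tt N2232 F9009) (tt N8198 (iv3 F20463)) (tt N1780 F9010) (tt N2304 F9011) (tt N8202 D12332) (tt N1779 (iv7 D5849)))
theorem Q3910 : ∀ i, i < 3910 → P i := stepQ 3909 Q3909 (allL N3909 (tt N8203 D12333) (tt N8204 D12334) (tt N2233 F9014) (tt N8145 (iv3 F20333)) (tt N8202 (iv4 F20478)) (tt N3909 F9015) (tt N1780 (iv6 D5850)) (tt N5298 (iv7 F11962)))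
theorem Q3911 : ∀ i, i < 3911 → P i := stepQ 3910 Q3910 (allL N3910 (tt N4900 (iv1 F11408)) (tt N2339 F26378) (tt N3910 F9022) (tt N2312 (iv3 F26429)) (tt N1781 (iv4 D5854)) (tt N2281 F10295) (tt N5092 F26367) (tt N2260 F9023))
theorem Q3912 : ∀ i, i < 3912 → P i := stepQ 3911 Q3911 (allL N3911 (tt N5096 F11700) (tt N5094 (iv0 F12005)) (tt N3911 F9024) (tt N1788 F9025) (tt N5092 F26366) (tt N5312 (iv5 F12002)) (tt N1781 (iv6 D5855)) (tt N5312 (iv7 F12003)))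
theorem Q3913 : ∀ i, i < 3913 → P i := stepQ 3912 Q3912 (allL N3912 (tt N1782 (iv1 D5857)) (tt N3913 F9031) (tt N3912 F10195) (tt N3496 F10196) (tt N4293 (iv4 F10384)) (tt N4511 F26386) (tt N1969 (iv6 F10194)) (tt N2088 F10197))
theorem Q3914 : ∀ i, i < 3914 → P i := stepQ 3913 Q3913 (allL N3913 (tt N3912 (iv1 F9031)) (tt N2088 (iv0 F10200)) (tt N3913 F9026) (tt N1790 F9027) (tt N4294 (iv4 F10392)) (tt N2261 F9028) (tt N2262 F9029) (tt N1782 (iv7 D5858)))
theorem Q3915 : ∀ i, i < 3915 → P i := stepQ 3914 Q3914 (allL N3914 (tt N1783 (iv1 D5864)) (tt N1792 F9041) (tt N2239 (iv2 F9044)) (tt N8205 D12337) (tt N4776 (iv4 F11229)) (tt N3655 F9043) (tt N8206 D12338) (tt N2238 F9042))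
theorem Q3916 : ∀ i, i < 3916 → P i := stepQ 3915 Q3915 (allL N3915 (tt N7611 (iv1 F19010)) (tt N8153 (iv0 F20357)) (tt N2240 F9045) (tt N8207 D12339) (tt N1783 (iv4 D5865)) (tt N8199 (iv5 F20465)) (tt N8208 D12340) (tt N2266 F9046))
theorem Q3917 : ∀ i, i < 3917 → P i := stepQ 3916 Q3916 (allL N3916 (tt N8209 D12341) (tt N8210 D12342) (tt N2241 F9047) (tt N7387 (iv3 F18559)) (tt N8208 (iv4 F20493)) (tt N7435 (iv5 F18669)) (tt N1783 (iv6 D5866)) (tt N8211 D12343))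
theorem Q3918 : ∀ i, i < 3918 → P i := stepQ 3917 Q3917 (allL N3917 (tt N2242 (iv1 F9052)) (tt N2101 F9053) (tt N2244 F9048) (tt N7390 (iv3 F18564)) (tt N1790 F9049) (tt N3557 F9050) (tt N2269 F9051) (tt N1784 (iv7 D5867)))
theorem Q3919 : ∀ i, i < 3919 → P i := stepQ 3918 Q3918 (allL N3918 (tt N3402 F9060) (tt N3397 F9061) (tt N2246 F9057) (tt N8212 D12344) (tt N1785 (iv4 D5869)) (tt N4953 (iv5 F11507)) (tt N2110 F9058) (tt N2247 F9059))
theorem Q3920 : ∀ i, i < 3920 → P i := stepQ 3919 Q3919 (allL N3919 (tt N3397 F9067) (tt N3402 F9068) (tt N2247 F9064) (tt N8213 D12345) (tt N1786 (iv4 D5871)) (tt N4952 (iv5 F11501)) (tt N2347 F9065) (tt N2246 F9066))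
theorem Q3921 : ∀ i, i < 3921 → P i := stepQ 3920 Q3920 (allL N3920 (tt N1787 (iv1 D5872)) (tt N1794 F9069) (tt N2249 (iv2 F9072)) (tt N8214 D12346) (tt N2014 F9071) (tt N4927 (iv5 F11450)) (tt N2342 F26401) (tt N2248 F9070))
theorem Q3922 : ∀ i, i < 3922 → P i := stepQ 3921 Q3921 (allL N3921 (tt N5485 (iv1 F26590)) (tt N2316 (iv0 F26591)) (tt N5349 (iv2 F26592)) (tt N1787 (iv3 D5873)) (tt N2312 F26527) (tt N8215 D12350) (tt N5255 (iv6 F26594)) (tt N2270 F9073))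
theorem Q3923 : ∀ i, i < 3923 → P i := stepQ 3922 Q3922 (allL N3922 (tt N7213 (iv1 F18151)) (tt N2027 F9076) (tt N2251 F9074) (tt N8215 (iv3 F20515)) (tt N8200 (iv4 F20473)) (tt N1787 (iv5 D5874)) (tt N8216 D12352) (tt N2271 F9075))
theorem Q3924 : ∀ i, i < 3924 → P i := stepQ 3923 Q3923 (allL N3923 (tt N5509 F12688) (tt N8217 D12353) (tt N2252 F9077) (tt N5255 F26626) (tt N1788 F9078) (tt N8218 D12354) (tt N1787 (iv6 D5875)) (tt N5314 (iv7 F12013)))
theorem Q3925 : ∀ i, i < 3925 → P i := stepQ 3924 Q3924 (allL N3924 (tt N2255 (iv1 F9080)) (tt N1788 (iv0 D5876)) (tt N2253 F11357) (tt N4084 (iv3 F12624)) (tt N8219 D12355) (tt N1829 F9079) (tt N1813 (iv6 F9081)) (tt N2254 F11358))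
theorem Q3926 : ∀ i, i < 3926 → P i := stepQ 3925 Q3925 (allL N3925 (tt N1788 (iv1 D5877)) (tt N2255 F9082) (tt N2254 F11363) (tt N7981 (iv3 F20027)) (tt N8220 D12356) (tt N1828 (iv5 F9083)) (tt N5253 (iv6 F11844)) (tt N2253 F11364))
theorem Q3927 : ∀ i, i < 3927 → P i := stepQ 3926 Q3926 (allL N3926 (tt N1791 (iv1 D5880)) (tt N2235 F9091) (tt N2234 F19404) (tt N7879 (iv3 F19813)) (tt N4714 F11157) (tt N8221 D12357) (tt N3926 F19405) (tt N2048 F19406))
theorem Q3928 : ∀ i, i < 3928 → P i := stepQ 3927 Q3927 (allL N3927 (tt N8222 D12358) (tt N8223 D12359) (tt N7396 (iv2 F18585)) (tt N1792 F9093) (tt N8224 D12360) (tt N1791 (iv5 D5882)) (tt N8225 D12361) (tt N2236 F9094))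
theorem Q3929 : ∀ i, i < 3929 → P i := stepQ 3928 Q3928 (allL N3928 (tt N8226 D12362) (tt N8227 D12363) (tt N7397 (iv2 F18590)) (tt N1793 F9095) (tt N3928 F9096) (tt N7656 (iv5 F19069)) (tt N1791 (iv6 D5883)) (tt N7667 (iv7 F19092)))
theorem Q3930 : ∀ i, i < 3930 → P i := stepQ 3929 Q3929 (allL N3929 (tt N8153 (iv1 F20358)) (tt N7611 (iv0 F19009)) (tt N2266 F9097) (tt N8228 D12364) (tt N1792 (iv4 D5884)) (tt N8200 (iv5 F20472)) (tt N8229 D12365) (tt N2240 F9098))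
theorem Q3931 : ∀ i, i < 3931 → P i := stepQ 3930 Q3930 (allL N3930 (tt N8230 D12366) (tt N8231 D12367) (tt N2267 F9099) (tt N8225 (iv3 F20545)) (tt N8229 (iv4 F20548)) (tt N7658 (iv5 F19076)) (tt N1792 (iv6 D5885)) (tt N8232 D12368))
theorem Q3932 : ∀ i, i < 3932 → P i := stepQ 3931 Q3931 (allL N3931 (tt N8233 D12369) (tt N8234 D12370) (tt N8235 D12371) (tt N1794 (iv3 D5886)) (tt N3931 F9100) (tt N8236 D12372) (tt N5310 (iv6 F11993)) (tt N2250 F9101))
theorem Q3933 : ∀ i, i < 3933 → P i := stepQ 3932 Q3932 (allL N3932 (tt N2027 F9104) (tt N7213 F18150) (tt N2271 F9102) (tt N8236 (iv3 F20568)) (tt N8199 (iv4 F20466)) (tt N1794 (iv5 D5887)) (tt N8237 D12373) (tt N2251 F9103))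
theorem Q3934 : ∀ i, i < 3934 → P i := stepQ 3933 Q3933 (allL N3933 (tt N4897 (iv1 F11390)) (tt N4290 (iv0 F10371)) (tt N3933 F9105) (tt N1799 (iv3 F26390)) (tt N1796 (iv4 D5888)) (tt N2260 (iv5 F10294)) (tt N1796 (iv6 F26391)) (tt N2281 F9106))
theorem Q3935 : ∀ i, i < 3935 → P i := stepQ 3934 Q3934 (allL N3934 (tt N4295 (iv1 F10401)) (tt N1972 F10299) (tt N3934 F9107) (tt N1798 F9108) (tt N1969 (iv4 F10293)) (tt N1796 (iv5 D5889)) (tt N4293 F10386) (tt N2282 F9109))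
theorem Q3936 : ∀ i, i < 3936 → P i := stepQ 3935 Q3935 (allL N3935 (tt N8238 D12378) (tt N8239 D12379) (tt N2275 (iv2 F26565)) (tt N1797 (iv3 D5891)) (tt N1799 F26453) (tt N8240 D12381) (tt N1797 (iv6 F26566)) (tt N2284 F9112))
theorem Q3937 : ∀ i, i < 3937 → P i := stepQ 3936 Q3936 (allL N3936 (tt N4880 (iv1 F11332)) (tt N4878 (iv0 F11329)) (tt N2274 F9113) (tt N8240 (iv3 F20591)) (tt N8192 (iv4 F20456)) (tt N1797 (iv5 D5892)) (tt N8241 D12383) (tt N2285 F9114))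
theorem Q3938 : ∀ i, i < 3938 → P i := stepQ 3937 Q3937 (allL N3937 (tt N2280 F9119) (tt N1799 (iv0 D5894)) (tt N2277 (iv2 F11374)) (tt N5355 F12648) (tt N8242 D12388) (tt N2278 F9118) (tt N1829 F9117) (tt N2278 F11375))
theorem Q3939 : ∀ i, i < 3939 → P i := stepQ 3938 Q3938 (allL N3938 (tt N1799 (iv1 D5895)) (tt N2280 F9120) (tt N2278 F11373) (tt N7992 (iv3 F20041)) (tt N8243 D12389) (tt N2277 (iv5 F9121)) (tt N2331 (iv6 F9122)) (tt N2277 (iv7 F11372)))
theorem Q3940 : ∀ i, i < 3940 → P i := stepQ 3939 Q3939 (allL N3939 (tt N2278 (iv1 F9126)) (tt N2277 (iv0 F9127)) (tt N2280 F9123) (tt N2281 F26377) (tt N2284 (iv4 F26428)) (tt N2312 F9124) (tt N2290 F9125) (tt N1799 (iv7 D5896)))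
theorem Q3941 : ∀ i, i < 3941 → P i := stepQ 3940 Q3940 (allL N3940 (tt N8244 D12390) (tt N8245 D12391) (tt N8246 D12392) (tt N1800 (iv3 D5897)) (tt N3940 F9128) (tt N8247 D12393) (tt N8248 D12394) (tt N2273 F9129))
theorem Q3942 : ∀ i, i < 3942 → P i := stepQ 3941 Q3941 (allL N3941 (tt N4878 (iv1 F11330)) (tt N4880 (iv0 F11331)) (tt N2285 F9130) (tt N8247 (iv3 F20629)) (tt N8189 (iv4 F20451)) (tt N1800 (iv5 D5898)) (tt N8249 D12395) (tt N2274 F9131))
theorem Q3943 : ∀ i, i < 3943 → P i := stepQ 3942 Q3942 (allL N3942 (tt N5669 (iv1 F12944)) (tt N4583 F11483) (tt N2286 F9132) (tt N8248 (iv3 F20631)) (tt N1801 F9133) (tt N8250 D12396) (tt N1800 (iv6 D5899)) (tt N8251 D12397))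
theorem Q3944 : ∀ i, i < 3944 → P i := stepQ 3943 Q3943 (allL N3943 (tt N2290 (iv1 F9138)) (tt N1801 (iv0 D5900)) (tt N2288 (iv2 F9136)) (tt N7997 (iv3 F20049)) (tt N8252 D12398) (tt N1819 F9135) (tt N2118 F9134) (tt N2077 F9137))
theorem Q3945 : ∀ i, i < 3945 → P i := stepQ 3944 Q3944 (allL N3944 (tt N2077 (iv1 F9142)) (tt N2288 F9143) (tt N2290 F9139) (tt N3944 F9140) (tt N8251 (iv4 F20638)) (tt N4049 (iv5 F9387)) (tt N2280 F9141) (tt N1801 (iv7 D5901)))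
theorem Q3946 : ∀ i, i < 3946 → P i := stepQ 3945 Q3945 (allL N3945 (tt N8253 D12399) (tt N8254 D12400) (tt N8255 D12401) (tt N1802 (iv3 D5902)) (tt N7988 (iv4 F20032)) (tt N8256 D12402) (tt N8257 D12403) (tt N2294 F9144))
theorem Q3947 : ∀ i, i < 3947 → P i := stepQ 3946 Q3946 (allL N3946 (tt N4876 (iv1 F11328)) (tt N4874 (iv0 F11325)) (tt N2292 F9145) (tt N8256 (iv3 F20657)) (tt N8183 (iv4 F20438)) (tt N1802 (iv5 D5903)) (tt N8258 D12404) (tt N2295 F9146))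
theorem Q3948 : ∀ i, i < 3948 → P i := stepQ 3947 Q3947 (allL N3947 (tt N8242 F20621) (tt N8243 (iv0 F20619)) (tt N2293 F9147) (tt N8257 (iv3 F20659)) (tt N3403 F9148) (tt N8259 D12405) (tt N1802 (iv6 D5904)) (tt N8260 D12406))
theorem Q3949 : ∀ i, i < 3949 → P i := stepQ 3948 Q3948 (allL N3948 (tt N8261 D12407) (tt N8262 D12408) (tt N8263 D12409) (tt N1803 (iv3 D5905)) (tt N8264 D12410) (tt N8265 D12411) (tt N8266 D12412) (tt N2291 F9149))
theorem Q3950 : ∀ i, i < 3950 → P i := stepQ 3949 Q3949 (allL N3949 (tt N4874 (iv1 F11326)) (tt N4876 (iv0 F11327)) (tt N2295 F9150) (tt N8265 (iv3 F20676)) (tt N8173 (iv4 F20417)) (tt N1803 (iv5 D5906)) (tt N8267 D12413) (tt N2292 F9151))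
theorem Q3951 : ∀ i, i < 3951 → P i := stepQ 3950 Q3950 (allL N3950 (tt N8252 (iv1 F20649)) (tt N4575 F11515) (tt N2296 F9152) (tt N8266 (iv3 F20678)) (tt N3405 F9153) (tt N8268 D12414) (tt N1803 (iv6 D5907)) (tt N8269 D12415))
theorem Q3952 : ∀ i, i < 3952 → P i := stepQ 3951 Q3951 (allL N3951 (tt N8270 D12416) (tt N1804 (iv0 D5908)) (tt N8257 (iv2 F26901)) (tt N8271 D12418) (tt N8272 D12419) (tt N8273 D12420) (tt N8255 (iv6 F26905)) (tt N8274 D12422))
theorem Q3953 : ∀ i, i < 3953 → P i := stepQ 3952 Q3952 (allL N3952 (tt N1804 (iv1 D5909)) (tt N8270 F20689) (tt N8274 (iv2 F20691)) (tt N8260 (iv3 F26897)) (tt N8275 D12424) (tt N8276 D12425) (tt N8277 D12426) (tt N8257 (iv7 F26902)))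
theorem Q3954 : ∀ i, i < 3954 → P i := stepQ 3953 Q3953 (allL N3953 (tt N8257 (iv1 F26925)) (tt N8274 (iv0 F26926)) (tt N1804 (iv2 D5910)) (tt N2299 F9154) (tt N8006 (iv4 F20056)) (tt N8278 D12429) (tt N1839 F9155) (tt N8270 (iv7 F20688)))
theorem Q3955 : ∀ i, i < 3955 → P i := stepQ 3954 Q3954 (allL N3954 (tt N8279 D12430) (tt N8280 D12431) (tt N8278 (iv2 F20694)) (tt N1805 F9156) (tt N8281 D12432) (tt N1804 (iv5 D5911)) (tt N8282 D12433) (tt N8283 D12434))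
theorem Q3956 : ∀ i, i < 3956 → P i := stepQ 3955 Q3955 (allL N3955 (tt N8274 (iv1 F26927)) (tt N8257 (iv0 F26924)) (tt N8270 F20686) (tt N1806 F9157) (tt N8008 (iv4 F20060)) (tt N8283 (iv5 F20699)) (tt N8284 D12435) (tt N1804 (iv7 D5912)))
theorem Q3957 : ∀ i, i < 3957 → P i := stepQ 3956 Q3956 (allL N3956 (tt N2306 (iv1 F9161)) (tt N1805 (iv0 D5913)) (tt N2302 (iv2 F9159)) (tt N8285 D12436) (tt N8166 (iv4 F20396)) (tt N3397 F9158) (tt N8286 D12437) (tt N2303 (iv7 F9160)))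
theorem Q3958 : ∀ i, i < 3958 → P i := stepQ 3957 Q3957 (allL N3957 (tt N1805 (iv1 D5914)) (tt N2306 F9162) (tt N2303 (iv2 F9165)) (tt N8287 D12438) (tt N8156 (iv4 F20365)) (tt N3402 F9164) (tt N8288 D12439) (tt N2302 F9163))
theorem Q3959 : ∀ i, i < 3959 → P i := stepQ 3958 Q3958 (allL N3958 (tt N8200 (iv1 F20470)) (tt N8199 F20467) (tt N2304 F9166) (tt N8289 D12440) (tt N1805 (iv4 D5915)) (tt N2232 F9167) (tt N8290 D12441) (tt N2231 (iv7 F9168)))
theorem Q3960 : ∀ i, i < 3960 → P i := stepQ 3959 Q3959 (allL N3959 (tt N8291 D12442) (tt N8292 D12443) (tt N2305 F9169) (tt N8282 (iv3 F20696)) (tt N8290 (iv4 F20711)) (tt N1844 F9170) (tt N1805 (iv6 D5916)) (tt N8293 D12444))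
theorem Q3961 : ∀ i, i < 3961 → P i := stepQ 3960 Q3960 (allL N3960 (tt N2303 (iv1 F9174)) (tt N2302 F9175) (tt N2306 F9171) (tt N8283 (iv3 F20698)) (tt N2231 F9172) (tt N1806 F9173) (tt N8294 D12445) (tt N1805 (iv7 D5917)))
theorem Q3962 : ∀ i, i < 3962 → P i := stepQ 3961 Q3961 (allL N3961 (tt N2417 (iv1 F9179)) (tt N2416 F9180) (tt N2307 F9176) (tt N8284 (iv3 F20700)) (tt N1807 F9177) (tt N8295 D12446) (tt N1806 (iv6 D5918)) (tt N1845 F9178))
theorem Q3963 : ∀ i, i < 3963 → P i := stepQ 3962 Q3962 (allL N3962 (tt N3964 F26263) (tt N3963 (iv0 F26267)) (tt N3962 F9183) (tt N1815 (iv3 F26269)) (tt N1809 (iv4 F26272)) (tt N1808 (iv5 D5920)) (tt N1808 (iv6 F26270)) (tt N1809 F26265))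
theorem Q3964 : ∀ i, i < 3964 → P i := stepQ 3963 Q3963 (allL N3963 (tt N3962 F26267) (tt N1809 (iv0 D5922)) (tt N3963 F20124) (tt N2528 F12664) (tt N3964 (iv4 F26273)) (tt N1966 (iv5 F26275)) (tt N5096 (iv6 F11699)) (tt N3964 (iv7 F20126)))
theorem Q3965 : ∀ i, i < 3965 → P i := stepQ 3964 Q3964 (allL N3964 (tt N1809 (iv1 D5923)) (tt N3962 (iv0 F26263)) (tt N3964 F20127) (tt N5449 F20095) (tt N3963 F26273) (tt N2335 (iv5 F26266)) (tt N8296 D12458) (tt N3963 F20126))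
theorem Q3966 : ∀ i, i < 3966 → P i := stepQ 3965 Q3965 (allL N3965 (tt N2342 (iv1 F9199)) (tt N2341 F9197) (tt N1810 (iv2 D5927)) (tt N2321 F9195) (tt N1821 F26357) (tt N8297 D12469) (tt N2328 F26358) (tt N1818 F26359))
theorem Q3967 : ∀ i, i < 3967 → P i := stepQ 3966 Q3966 (allL N3966 (tt N8298 D12471) (tt N8299 D12472) (tt N8297 (iv2 F20761)) (tt N1811 F9200) (tt N8300 D12473) (tt N1810 (iv5 D5928)) (tt N8301 D12474) (tt N2343 F9201))
theorem Q3968 : ∀ i, i < 3968 → P i := stepQ 3967 Q3967 (allL N3967 (tt N2326 (iv1 F26333)) (tt N2325 (iv0 F26334)) (tt N2328 (iv2 F26335)) (tt N1812 F9202) (tt N1815 F26295) (tt N8302 D12477) (tt N1810 (iv6 D5929)) (tt N1812 (iv7 F26336)))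
theorem Q3969 : ∀ i, i < 3969 → P i := stepQ 3968 Q3968 (allL N3968 (tt N5704 F30465) (tt N5707 (iv0 F30466)) (tt N2324 F9203) (tt N8301 (iv3 F20772)) (tt N1937 F9204) (tt N8303 D12481) (tt N1811 (iv6 D5930)) (tt N8304 D12482))
theorem Q3970 : ∀ i, i < 3970 → P i := stepQ 3969 Q3969 (allL N3969 (tt N8305 D12483) (tt N8306 D12484) (tt N2327 F9206) (tt N8302 (iv3 F20773)) (tt N8307 D12485) (tt N1812 (iv5 D5933)) (tt N8303 (iv6 F20778)) (tt N8302 (iv7 F26340)))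
theorem Q3971 : ∀ i, i < 3971 → P i := stepQ 3970 Q3970 (allL N3970 (tt N2542 F10688) (tt N1865 F10689) (tt N2330 (iv2 F11381)) (tt N8308 D12487) (tt N1813 (iv4 D5937)) (tt N8309 D12488) (tt N8219 (iv6 F20529)) (tt N2332 (iv7 F11383)))
theorem Q3972 : ∀ i, i < 3972 → P i := stepQ 3971 Q3971 (allL N3971 (tt N2445 F9215) (tt N2355 F26309) (tt N2331 F11371) (tt N4083 F12644) (tt N8310 D12489) (tt N1813 (iv5 D5938)) (tt N2278 F9214) (tt N2333 F11369))
theorem Q3973 : ∀ i, i < 3973 → P i := stepQ 3972 Q3972 (allL N3972 (tt N1865 F10657) (tt N2542 F10658) (tt N2332 F11382) (tt N8311 D12490) (tt N1814 (iv4 D5941)) (tt N8312 D12491) (tt N8313 D12492) (tt N2330 F11380))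
theorem Q3974 : ∀ i, i < 3974 → P i := stepQ 3973 Q3973 (allL N3973 (tt N2355 F26293) (tt N2445 (iv0 F9220)) (tt N2333 (iv2 F11368)) (tt N8030 (iv3 F20099)) (tt N8314 D12493) (tt N1814 (iv5 D5942)) (tt N1828 F9219) (tt N2331 (iv7 F11370)))
theorem Q3975 : ∀ i, i < 3975 → P i := stepQ 3974 Q3974 (allL N3974 (tt N4046 F9376) (tt N4048 (iv0 F9384)) (tt N2334 (iv2 F11352)) (tt N8031 (iv3 F20103)) (tt N8313 (iv4 F20814)) (tt N5253 (iv5 F11843)) (tt N1814 (iv6 D5943)) (tt N5253 (iv7 F11847)))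
theorem Q3976 : ∀ i, i < 3976 → P i := stepQ 3975 Q3975 (allL N3975 (tt N2321 (iv1 F9221)) (tt N1816 (iv0 D5944)) (tt N2320 (iv2 F27226)) (tt N8315 D12495) (tt N8316 D12496) (tt N5081 F27212) (tt N8317 D12498) (tt N2319 F27224))
theorem Q3977 : ∀ i, i < 3977 → P i := stepQ 3976 Q3976 (allL N3976 (tt N1816 (iv1 D5945)) (tt N2321 F9226) (tt N2319 F27223) (tt N8318 D12500) (tt N5487 (iv4 F12571)) (tt N5082 (iv5 F27225)) (tt N8233 F50413) (tt N2320 (iv7 F27227)))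
theorem Q3978 : ∀ i, i < 3978 → P i := stepQ 3977 Q3977 (allL N3977 (tt N2320 (iv1 F9227)) (tt N2319 F9225) (tt N1816 (iv2 D5946)) (tt N1818 F26396) (tt N3977 F9223) (tt N8319 D12503) (tt N1816 (iv6 F26467)) (tt N2321 F9224))
theorem Q3979 : ∀ i, i < 3979 → P i := stepQ 3978 Q3978 (allL N3978 (tt N8320 D12505) (tt N8321 D12506) (tt N8319 (iv2 F20824)) (tt N1817 F9228) (tt N8322 D12507) (tt N1816 (iv5 D5947)) (tt N8323 D12508) (tt N2322 F9229))
theorem Q3980 : ∀ i, i < 3980 → P i := stepQ 3979 Q3979 (allL N3979 (tt N5606 F41759) (tt N5610 (iv0 F41760)) (tt N2344 F9232) (tt N8323 (iv3 F20836)) (tt N1935 F9233) (tt N8324 D12515) (tt N1817 (iv6 D5949)) (tt N8325 D12516))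
theorem Q3981 : ∀ i, i < 3981 → P i := stepQ 3980 Q3980 (allL N3980 (tt N8299 (iv1 F26417)) (tt N8298 (iv0 F26416)) (tt N2343 F26397) (tt N8319 (iv3 F26468)) (tt N8326 D12519) (tt N1818 (iv5 D5952)) (tt N8324 (iv6 F20843)) (tt N8297 (iv7 F26414)))
theorem Q3982 : ∀ i, i < 3982 → P i := stepQ 3981 Q3981 (allL N3981 (tt N2615 F10674) (tt N1886 F10675) (tt N2345 F9244) (tt N2610 (iv3 F26413)) (tt N1819 (iv4 D5955)) (tt N8327 D12522) (tt N2117 F9245) (tt N2347 F9246))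
theorem Q3983 : ∀ i, i < 3983 → P i := stepQ 3982 Q3982 (allL N3982 (tt N1886 F10676) (tt N2615 F10677) (tt N2347 F9249) (tt N8328 D12523) (tt N1820 (iv4 D5957)) (tt N8329 D12524) (tt N2247 F9250) (tt N2345 F9251))
theorem Q3984 : ∀ i, i < 3984 → P i := stepQ 3983 Q3983 (allL N3983 (tt N2363 (iv1 F9257)) (tt N1823 (iv0 D5960)) (tt N2362 (iv2 F25415)) (tt N8330 D12531) (tt N4086 (iv4 F26431)) (tt N8298 (iv5 F26441)) (tt N2367 (iv6 F26443)) (tt N2361 (iv7 F25421)))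
theorem Q3985 : ∀ i, i < 3985 → P i := stepQ 3984 Q3984 (allL N3984 (tt N1823 (iv1 D5961)) (tt N2363 F9261) (tt N2361 F25422) (tt N8331 D12536) (tt N4083 F26381) (tt N8299 (iv5 F26445)) (tt N8239 (iv6 F26563)) (tt N2362 F25423))
theorem Q3986 : ∀ i, i < 3986 → P i := stepQ 3985 Q3985 (allL N3985 (tt N2362 (iv1 F9262)) (tt N2361 F9260) (tt N1823 (iv2 D5962)) (tt N2350 F9258) (tt N2445 F26380) (tt N8332 D12540) (tt N2444 (iv6 F26438)) (tt N2363 F9259))
theorem Q3987 : ∀ i, i < 3987 → P i := stepQ 3986 Q3986 (allL N3986 (tt N5061 F26532) (tt N5063 F26533) (tt N8332 (iv2 F20888)) (tt N1824 F9263) (tt N6742 (iv4 F16396)) (tt N1823 (iv5 D5963)) (tt N8333 D12543) (tt N2364 F9264))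
theorem Q3988 : ∀ i, i < 3988 → P i := stepQ 3987 Q3987 (allL N3987 (tt N5773 (iv1 F296554)) (tt N5776 (iv0 F296899)) (tt N2354 F9265) (tt N8333 (iv3 F20895)) (tt N1915 F9266) (tt N4592 (iv5 F10960)) (tt N1824 (iv6 D5964)) (tt N8334 D12546))
theorem Q3989 : ∀ i, i < 3989 → P i := stepQ 3988 Q3988 (allL N3988 (tt N2350 (iv1 F9267)) (tt N1825 (iv0 D5965)) (tt N2349 F25550) (tt N8335 D12548) (tt N5194 (iv4 F11782)) (tt N8320 (iv5 F27194)) (tt N8244 (iv6 F41331)) (tt N2348 (iv7 F25560)))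
theorem Q3990 : ∀ i, i < 3990 → P i := stepQ 3989 Q3989 (allL N3989 (tt N1825 (iv1 D5966)) (tt N2350 F9272) (tt N2348 (iv2 F25559)) (tt N8336 D12552) (tt N5121 (iv4 F11718)) (tt N8321 (iv5 F27197)) (tt N8337 D12554) (tt N2349 F25553))
theorem Q3991 : ∀ i, i < 3991 → P i := stepQ 3990 Q3990 (allL N3990 (tt N2349 (iv1 F9273)) (tt N2348 F9271) (tt N1825 (iv2 D5967)) (tt N2363 F9268) (tt N3990 F9269) (tt N8338 D12555) (tt N8339 D12556) (tt N2350 F9270))
theorem Q3992 : ∀ i, i < 3992 → P i := stepQ 3991 Q3991 (allL N3991 (tt N5023 (iv1 F20919)) (tt N5026 (iv0 F24909)) (tt N8338 (iv2 F20906)) (tt N1826 F9274) (tt N8340 D12559) (tt N1825 (iv5 D5968)) (tt N8341 D12560) (tt N2351 F9275))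
theorem Q3993 : ∀ i, i < 3993 → P i := stepQ 3992 Q3992 (allL N3992 (tt N8337 (iv1 F27201)) (tt N8342 D12562) (tt N8339 (iv2 F20911)) (tt N1827 F9276) (tt N3992 F9277) (tt N8343 D12563) (tt N1825 (iv6 D5969)) (tt N8344 D12564))
theorem Q3994 : ∀ i, i < 3994 → P i := stepQ 3993 Q3993 (allL N3993 (tt N5762 F41731) (tt N5766 F41732) (tt N2366 F9278) (tt N8341 (iv3 F20920)) (tt N1914 F9279) (tt N8345 D12567) (tt N1826 (iv6 D5970)) (tt N8346 D12568))
theorem Q3995 : ∀ i, i < 3995 → P i := stepQ 3994 Q3994 (allL N3994 (tt N2370 (iv1 F9285)) (tt N1827 (iv0 D5971)) (tt N2367 F12652) (tt N8347 D12569) (tt N2032 F12653) (tt N8348 D12570) (tt N2362 F26424) (tt N2368 F12654))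
theorem Q3996 : ∀ i, i < 3996 → P i := stepQ 3995 Q3995 (allL N3995 (tt N1827 (iv1 D5972)) (tt N2370 F9280) (tt N2368 F12655) (tt N8349 D12571) (tt N2033 F12656) (tt N8350 D12572) (tt N8238 (iv6 F26558)) (tt N2367 F12657))
theorem Q3997 : ∀ i, i < 3997 → P i := stepQ 3996 Q3996 (allL N3996 (tt N8351 D12573) (tt N4779 (iv0 F316026)) (tt N2369 F9281) (tt N8343 (iv3 F20921)) (tt N8209 (iv4 F316221)) (tt N1827 (iv5 D5973)) (tt N8345 (iv6 F20927)) (tt N8352 D12576))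
theorem Q3998 : ∀ i, i < 3998 → P i := stepQ 3997 Q3997 (allL N3997 (tt N2368 (iv1 F9286)) (tt N2367 F9287) (tt N2370 F9282) (tt N8344 (iv3 F20922)) (tt N1830 F9283) (tt N8352 (iv5 F20953)) (tt N2084 F9284) (tt N1827 (iv7 D5974)))
theorem Q3999 : ∀ i, i < 3999 → P i := stepQ 3998 Q3998 (allL N3998 (tt N2391 F12677) (tt N1836 F12678) (tt N2371 (iv2 F11367)) (tt N8353 D12577) (tt N1828 (iv4 D5977)) (tt N8354 D12578) (tt N8314 (iv6 F20816)) (tt N2373 (iv7 F11366)))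
theorem Q4000 : ∀ i, i < 4000 → P i := stepQ 3999 Q3999 (allL N3999 (tt N1836 F12679) (tt N2391 F12680) (tt N2373 (iv2 F11378)) (tt N8355 D12579) (tt N1829 (iv4 D5980)) (tt N8356 D12580) (tt N8242 (iv6 F20612)) (tt N2371 F11377))
theorem Q4001 : ∀ i, i < 4001 → P i := stepQ 4000 Q4000 (allL N4000 (tt N2385 (iv1 F9290)) (tt N1831 (iv0 D5981)) (tt N2384 (iv2 F25440)) (tt N8314 (iv3 F26330)) (tt N8357 D12583) (tt N8358 D12584) (tt N8353 (iv6 F26802)) (tt N2383 (iv7 F25441)))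
theorem Q4002 : ∀ i, i < 4002 → P i := stepQ 4001 Q4001 (allL N4001 (tt N1831 (iv1 D5982)) (tt N2385 F9294) (tt N2383 F25442) (tt N5181 (iv3 F25453)) (tt N8359 D12588) (tt N8360 D12589) (tt N8254 (iv6 F26957)) (tt N2384 F25443))
theorem Q4003 : ∀ i, i < 4003 → P i := stepQ 4002 Q4002 (allL N4002 (tt N2384 (iv1 F9295)) (tt N2383 F9293) (tt N1831 (iv2 D5983)) (tt N2376 F9291) (tt N8044 (iv4 F20164)) (tt N8361 D12591) (tt N8362 D12592) (tt N2385 F9292))
theorem Q4004 : ∀ i, i < 4004 → P i := stepQ 4003 Q4003 (allL N4003 (tt N5658 (iv1 F26756)) (tt N5661 (iv0 F26760)) (tt N8361 (iv2 F20966)) (tt N1832 F9296) (tt N8363 D12595) (tt N1831 (iv5 D5984)) (tt N8364 D12596) (tt N2387 F9297))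
theorem Q4005 : ∀ i, i < 4005 → P i := stepQ 4004 Q4004 (allL N4004 (tt N8365 D12597) (tt N8366 D12598) (tt N8362 (iv2 F20971)) (tt N1833 F9298) (tt N7908 (iv4 F19878)) (tt N8367 D12599) (tt N1831 (iv6 D5985)) (tt N8368 D12600))
theorem Q4006 : ∀ i, i < 4006 → P i := stepQ 4005 Q4005 (allL N4005 (tt N8369 D12601) (tt N8370 D12602) (tt N2380 F9299) (tt N8364 (iv3 F20977)) (tt N1908 F9300) (tt N8371 D12603) (tt N1832 (iv6 D5986)) (tt N8372 D12604))
theorem Q4007 : ∀ i, i < 4007 → P i := stepQ 4006 Q4006 (allL N4006 (tt N4557 (iv1 F10875)) (tt N4571 (iv0 F10906)) (tt N2381 F9301) (tt N8367 (iv3 F20978)) (tt N8373 D12605) (tt N1833 (iv5 D5987)) (tt N8371 (iv6 F20983)) (tt N8374 D12606))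
theorem Q4008 : ∀ i, i < 4008 → P i := stepQ 4007 Q4007 (allL N4007 (tt N2078 (iv1 F9305)) (tt N2076 F9306) (tt N2382 F9302) (tt N8368 (iv3 F20979)) (tt N1997 F9303) (tt N8374 (iv5 F20995)) (tt N2391 F9304) (tt N1833 (iv7 D5988)))
theorem Q4009 : ∀ i, i < 4009 → P i := stepQ 4008 Q4008 (allL N4008 (tt N2376 (iv1 F9307)) (tt N1834 (iv0 D5989)) (tt N2375 (iv2 F25535)) (tt N5079 F11670) (tt N8375 D12608) (tt N8376 D12609) (tt N8261 (iv6 F41357)) (tt N2374 (iv7 F25539)))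
theorem Q4010 : ∀ i, i < 4010 → P i := stepQ 4009 Q4009 (allL N4009 (tt N1834 (iv1 D5990)) (tt N2376 F9311) (tt N2374 F25540) (tt N8377 D12612) (tt N8378 D12613) (tt N8379 D12614) (tt N8380 D12615) (tt N2375 F25541))
theorem Q4011 : ∀ i, i < 4011 → P i := stepQ 4010 Q4010 (allL N4010 (tt N2375 (iv1 F9312)) (tt N2374 F9310) (tt N1834 (iv2 D5991)) (tt N2385 F9308) (tt N8381 D12616) (tt N8382 D12617) (tt N8383 D12618) (tt N2376 F9309))
theorem Q4012 : ∀ i, i < 4012 → P i := stepQ 4011 Q4011 (allL N4011 (tt N8384 D12619) (tt N8385 D12620) (tt N8381 (iv2 F21000)) (tt N2471 F9313) (tt N1834 (iv4 D5992)) (tt N8386 D12621) (tt N8387 D12622) (tt N2377 F9314))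
theorem Q4013 : ∀ i, i < 4013 → P i := stepQ 4012 Q4012 (allL N4012 (tt N5489 (iv1 F27839)) (tt N5493 (iv0 F27840)) (tt N8382 (iv2 F21005)) (tt N1835 F9315) (tt N8388 D12625) (tt N1834 (iv5 D5993)) (tt N8389 D12626) (tt N2378 F9316))
theorem Q4014 : ∀ i, i < 4014 → P i := stepQ 4013 Q4013 (allL N4013 (tt N8390 D12627) (tt N8391 D12628) (tt N8383 (iv2 F21010)) (tt N1836 F9317) (tt N8387 (iv4 F21019)) (tt N8392 D12629) (tt N1834 (iv6 D5994)) (tt N8393 D12630))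
theorem Q4015 : ∀ i, i < 4015 → P i := stepQ 4014 Q4014 (allL N4014 (tt N8394 D12631) (tt N8395 D12632) (tt N2389 F9318) (tt N8389 (iv3 F21024)) (tt N1902 F9319) (tt N8396 D12633) (tt N1835 (iv6 D5995)) (tt N8397 D12634))
theorem Q4016 : ∀ i, i < 4016 → P i := stepQ 4015 Q4015 (allL N4015 (tt N8398 D12635) (tt N8208 (iv0 F316014)) (tt N2390 F9321) (tt N8392 (iv3 F21025)) (tt N8157 (iv4 F316222)) (tt N1836 (iv5 D5998)) (tt N8396 (iv6 F21030)) (tt N8399 D12638))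
theorem Q4017 : ∀ i, i < 4017 → P i := stepQ 4016 Q4016 (allL N4016 (tt N2373 (iv1 F11595)) (tt N2371 (iv0 F11596)) (tt N2391 F9322) (tt N8393 (iv3 F21026)) (tt N2475 F9323) (tt N8399 (iv5 F21047)) (tt N2382 F9324) (tt N1836 (iv7 D5999)))
theorem Q4018 : ∀ i, i < 4018 → P i := stepQ 4017 Q4017 (allL N4017 (tt N1838 (iv1 F9332)) (tt N1837 (iv0 D6000)) (tt N1841 (iv2 F9328)) (tt N2392 F9329) (tt N8070 (iv4 F20194)) (tt N2774 F9330) (tt N8400 D12639) (tt N1839 F9331))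
theorem Q4019 : ∀ i, i < 4019 → P i := stepQ 4018 Q4018 (allL N4018 (tt N1841 (iv1 F26614)) (tt N1839 (iv0 F26615)) (tt N1837 (iv2 D6001)) (tt N7445 F26573) (tt N8401 D12643) (tt N8402 D12644) (tt N7443 (iv6 F26671)) (tt N1838 (iv7 F9333)))
theorem Q4020 : ∀ i, i < 4020 → P i := stepQ 4019 Q4019 (allL N4019 (tt N8377 (iv1 F25572)) (tt N8403 D12647) (tt N8404 D12648) (tt N1837 (iv3 D6002)) (tt N8405 D12649) (tt N8406 D12650) (tt N8407 D12651) (tt N8408 D12652))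
theorem Q4021 : ∀ i, i < 4021 → P i := stepQ 4020 Q4020 (allL N4020 (tt N8409 D12653) (tt N8410 D12654) (tt N8401 (iv2 F21055)) (tt N8411 D12655) (tt N1837 (iv4 D6003)) (tt N8412 D12656) (tt N8413 D12657) (tt N8414 D12658))
theorem Q4022 : ∀ i, i < 4022 → P i := stepQ 4021 Q4021 (allL N4021 (tt N8415 D12659) (tt N2503 F26966) (tt N8402 (iv2 F21057)) (tt N8406 (iv3 F21063)) (tt N8416 D12661) (tt N1837 (iv5 D6004)) (tt N8417 D12662) (tt N8418 D12663))
theorem Q4023 : ∀ i, i < 4023 → P i := stepQ 4022 Q4022 (allL N4022 (tt N8419 D12664) (tt N4578 F26674) (tt N7443 (iv2 F26670)) (tt N8407 (iv3 F21064)) (tt N8413 (iv4 F21070)) (tt N8420 D12666) (tt N1837 (iv6 D6005)) (tt N8421 D12667))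
theorem Q4024 : ∀ i, i < 4024 → P i := stepQ 4023 Q4023 (allL N4023 (tt N1839 F26640) (tt N1841 F26641) (tt N1838 F9334) (tt N8408 (iv3 F21065)) (tt N8414 (iv4 F21072)) (tt N8418 (iv5 F21075)) (tt N8422 D12668) (tt N1837 (iv7 D6006)))
theorem Q4025 : ∀ i, i < 4025 → P i := stepQ 4024 Q4024 (allL N4024 (tt N8310 F26394) (tt N8314 F26395) (tt N8423 D12671) (tt N1838 (iv3 D6007)) (tt N4413 (iv4 F26419)) (tt N8424 D12673) (tt N2417 (iv6 F26465)) (tt N7445 (iv7 F26466)))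
theorem Q4026 : ∀ i, i < 4026 → P i := stepQ 4025 Q4025 (allL N4025 (tt N8410 (iv1 F21069)) (tt N8409 (iv0 F21068)) (tt N8414 (iv2 F21071)) (tt N8425 D12675) (tt N1838 (iv4 D6008)) (tt N8426 D12676) (tt N8427 D12677) (tt N8401 (iv7 F21056)))
theorem Q4027 : ∀ i, i < 4027 → P i := stepQ 4026 Q4026 (allL N4026 (tt N2503 (iv1 F26961)) (tt N8415 F21076) (tt N8418 (iv2 F21074)) (tt N8424 (iv3 F21081)) (tt N8428 D12678) (tt N1838 (iv5 D6009)) (tt N8429 D12679) (tt N8402 (iv7 F21058)))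
theorem Q4028 : ∀ i, i < 4028 → P i := stepQ 4027 Q4027 (allL N4027 (tt N8353 (iv1 F26890)) (tt N8430 D12681) (tt N8422 (iv2 F21077)) (tt N2417 F26572) (tt N8427 (iv4 F21085)) (tt N8431 D12682) (tt N1838 (iv6 D6010)) (tt N8432 D12683))
theorem Q4029 : ∀ i, i < 4029 → P i := stepQ 4028 Q4028 (allL N4028 (tt N2773 (iv1 F9340)) (tt N2772 F9341) (tt N1840 F9337) (tt N2403 F9338) (tt N8433 D12694) (tt N1839 (iv5 D6013)) (tt N8434 D12695) (tt N2774 F9339))
theorem Q4030 : ∀ i, i < 4030 → P i := stepQ 4029 Q4029 (allL N4029 (tt N2774 (iv1 F9342)) (tt N1840 (iv0 D6014)) (tt N2773 F27025) (tt N8435 D12697) (tt N8436 D12698) (tt N4056 (iv5 F27027)) (tt N8437 D12700) (tt N2772 F27026))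
theorem Q4031 : ∀ i, i < 4031 → P i := stepQ 4030 Q4030 (allL N4030 (tt N1840 (iv1 D6015)) (tt N2774 F9343) (tt N2772 (iv2 F27019)) (tt N2614 (iv3 F27020)) (tt N8438 D12703) (tt N2613 F27018) (tt N8439 D12705) (tt N2773 (iv7 F27024)))
theorem Q4032 : ∀ i, i < 4032 → P i := stepQ 4031 Q4031 (allL N4031 (tt N8440 D12706) (tt N8441 D12707) (tt N8433 (iv2 F21090)) (tt N2750 F9344) (tt N1840 (iv4 D6016)) (tt N8442 D12708) (tt N8443 D12709) (tt N2747 F9345))
theorem Q4033 : ∀ i, i < 4033 → P i := stepQ 4032 Q4032 (allL N4032 (tt N8444 D12710) (tt N8445 D12711) (tt N8434 (iv2 F21094)) (tt N1844 F9346) (tt N8443 (iv4 F21103)) (tt N8282 (iv5 F20697)) (tt N1840 (iv6 D6017)) (tt N8446 D12712))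
theorem Q4034 : ∀ i, i < 4034 → P i := stepQ 4033 Q4033 (allL N4033 (tt N8447 D12713) (tt N2388 (iv0 F26868)) (tt N8400 (iv2 F21050)) (tt N1845 F9347) (tt N8087 (iv4 F20209)) (tt N8448 D12715) (tt N1841 (iv6 D6018)) (tt N8284 (iv7 F20701)))
theorem Q4035 : ∀ i, i < 4035 → P i := stepQ 4034 Q4034 (allL N4034 (tt N8358 (iv1 F26949)) (tt N8360 (iv0 F26953)) (tt N8449 D12718) (tt N1842 (iv3 D6019)) (tt N8450 D12719) (tt N1864 F9348) (tt N8451 D12720) (tt N2411 F9349))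
theorem Q4036 : ∀ i, i < 4036 → P i := stepQ 4035 Q4035 (allL N4035 (tt N8452 D12721) (tt N8453 D12722) (tt N2410 F9350) (tt N8451 (iv3 F21117)) (tt N1895 F9351) (tt N8454 D12723) (tt N1842 (iv6 D6020)) (tt N8455 D12724))
theorem Q4037 : ∀ i, i < 4037 → P i := stepQ 4036 Q4036 (allL N4036 (tt N8376 (iv1 F27275)) (tt N8379 (iv0 F27276)) (tt N8456 D12727) (tt N1843 (iv3 D6021)) (tt N8457 D12728) (tt N1885 F9352) (tt N8458 D12729) (tt N2409 F9353))
theorem Q4038 : ∀ i, i < 4038 → P i := stepQ 4037 Q4037 (allL N4037 (tt N8459 D12730) (tt N8460 D12731) (tt N2412 F9354) (tt N8458 (iv3 F21136)) (tt N1875 F9355) (tt N8461 D12732) (tt N1843 (iv6 D6022)) (tt N8462 D12733))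
theorem Q4039 : ∀ i, i < 4039 → P i := stepQ 4038 Q4038 (allL N4038 (tt N2415 (iv1 F9360)) (tt N1844 (iv0 D6023)) (tt N2413 (iv2 F53047)) (tt N8463 D12735) (tt N6105 F41667) (tt N8464 D12737) (tt N8465 D12738) (tt N2414 (iv7 F53048)))
theorem Q4040 : ∀ i, i < 4040 → P i := stepQ 4039 Q4039 (allL N4039 (tt N1844 (iv1 D6024)) (tt N2415 F9356) (tt N2414 F53051) (tt N8466 D12740) (tt N2634 F298696) (tt N8467 D12742) (tt N2633 F298697) (tt N2413 F53052))
theorem Q4041 : ∀ i, i < 4041 → P i := stepQ 4040 Q4040 (allL N4040 (tt N2414 (iv1 F9361)) (tt N2413 F9362) (tt N2415 F9357) (tt N8446 (iv3 F21104)) (tt N2788 F9358) (tt N8293 (iv5 F20714)) (tt N2779 F9359) (tt N1844 (iv7 D6025)))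
theorem Q4042 : ∀ i, i < 4042 → P i := stepQ 4041 Q4041 (allL N4041 (tt N2307 (iv1 F9363)) (tt N1845 (iv0 D6026)) (tt N2416 (iv2 F12420)) (tt N8432 (iv3 F26612)) (tt N2514 (iv4 F12025)) (tt N8468 D12745) (tt N3564 F12023) (tt N2417 F12419))
theorem Q4043 : ∀ i, i < 4043 → P i := stepQ 4042 Q4042 (allL N4042 (tt N1845 (iv1 D6027)) (tt N2307 F9364) (tt N2417 F12418) (tt N8469 D12746) (tt N2515 (iv4 F12027)) (tt N8470 D12747) (tt N8423 (iv6 F26459)) (tt N2416 (iv7 F12421)))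
theorem Q4044 : ∀ i, i < 4044 → P i := stepQ 4043 Q4043 (allL N4043 (tt N8471 D12749) (tt N8472 D12750) (tt N2418 F9365) (tt N8448 (iv3 F21106)) (tt N8473 D12751) (tt N1845 (iv5 D6028)) (tt N2778 F9366) (tt N8295 (iv7 F20721)))
theorem Q4045 : ∀ i, i < 4045 → P i := stepQ 4044 Q4044 (allL N4044 (tt N4898 F11394) (tt N2336 (iv0 F10333)) (tt N4044 F9367) (tt N1846 (iv3 D6029)) (tt N2360 F26317) (tt N8474 D12753) (tt N2446 F9368) (tt N2357 F26318))
theorem Q4046 : ∀ i, i < 4046 → P i := stepQ 4045 Q4045 (allL N4045 (tt N5435 (iv1 F12444)) (tt N2042 F11986) (tt N2419 F9370) (tt N2370 (iv3 F26452)) (tt N1846 (iv4 D6030)) (tt N8475 D12755) (tt N2451 F9371) (tt N2365 F26427))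
theorem Q4047 : ∀ i, i < 4047 → P i := stepQ 4046 Q4046 (allL N4046 (tt N4894 F11351) (tt N3974 (iv0 F9376)) (tt N2420 F9373) (tt N8474 (iv3 F21170)) (tt N8476 D12756) (tt N1846 (iv5 D6031)) (tt N2067 F9374) (tt N2421 F9375))
theorem Q4048 : ∀ i, i < 4048 → P i := stepQ 4047 Q4047 (allL N4047 (tt N2042 F11987) (tt N5435 F12443) (tt N2365 F26421) (tt N8339 (iv3 F26507)) (tt N1847 (iv4 D6032)) (tt N8477 D12758) (tt N2363 F26422) (tt N2419 F9379))
theorem Q4049 : ∀ i, i < 4049 → P i := stepQ 4048 Q4048 (allL N4048 (tt N3974 F9384) (tt N4894 (iv0 F11350)) (tt N2421 F9380) (tt N4048 F9381) (tt N8478 D12760) (tt N1847 (iv5 D6033)) (tt N2469 F9383) (tt N2420 F9382))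
theorem Q4050 : ∀ i, i < 4050 → P i := stepQ 4049 Q4049 (allL N4049 (tt N2331 (iv1 F9389)) (tt N2333 (iv0 F9390)) (tt N2355 F26310) (tt N4049 F9386) (tt N2363 (iv4 F26373)) (tt N3944 F9387) (tt N1847 (iv6 D6034)) (tt N2445 F9388))
theorem Q4051 : ∀ i, i < 4051 → P i := stepQ 4050 Q4050 (allL N4050 (tt N8479 D12761) (tt N8480 D12762) (tt N8481 D12763) (tt N1848 (iv3 D6035)) (tt N1855 F9391) (tt N8482 D12764) (tt N7693 (iv6 F19128)) (tt N4994 (iv7 F11538)))
theorem Q4052 : ∀ i, i < 4052 → P i := stepQ 4051 Q4051 (allL N4051 (tt N5350 (iv1 F12067)) (tt N7170 (iv0 F18072)) (tt N5645 (iv2 F12909)) (tt N8482 (iv3 F21196)) (tt N5460 (iv4 F12502)) (tt N1848 (iv5 D6036)) (tt N8483 D12765) (tt N4995 (iv7 F11539)))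
theorem Q4053 : ∀ i, i < 4053 → P i := stepQ 4052 Q4052 (allL N4052 (tt N4586 F10942) (tt N4587 F26531) (tt N2451 F9399) (tt N8484 D12768) (tt N1851 (iv4 D6040)) (tt N7503 (iv5 F18815)) (tt N2419 F9400) (tt N2444 F9401))
theorem Q4054 : ∀ i, i < 4054 → P i := stepQ 4053 Q4053 (allL N4053 (tt N8485 D12769) (tt N8486 D12770) (tt N8487 D12771) (tt N1853 (iv3 D6041)) (tt N7693 (iv4 F19127)) (tt N8488 D12772) (tt N1855 F9402) (tt N8489 D12773))
theorem Q4055 : ∀ i, i < 4055 → P i := stepQ 4054 Q4054 (allL N4054 (tt N7444 (iv1 F18691)) (tt N7447 (iv0 F18698)) (tt N2459 F9403) (tt N8488 (iv3 F21205)) (tt N8490 D12774) (tt N1853 (iv5 D6042)) (tt N8491 D12775) (tt N8492 D12776))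
theorem Q4056 : ∀ i, i < 4056 → P i := stepQ 4055 Q4055 (allL N4055 (tt N2457 (iv1 F9406)) (tt N2456 F9407) (tt N2460 F9404) (tt N8489 (iv3 F21206)) (tt N1854 F9405) (tt N8492 (iv5 F21214)) (tt N5007 (iv6 F11556)) (tt N1853 (iv7 D6043)))
theorem Q4057 : ∀ i, i < 4057 → P i := stepQ 4056 Q4056 (allL N4056 (tt N5002 (iv1 F11549)) (tt N1855 (iv0 D6044)) (tt N5001 F26772) (tt N8493 D12778) (tt N8494 D12779) (tt N4029 F27027) (tt N8495 D12781) (tt N5000 F26773))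
theorem Q4058 : ∀ i, i < 4058 → P i := stepQ 4057 Q4057 (allL N4057 (tt N5001 (iv1 F11550)) (tt N5000 F11547) (tt N1855 (iv2 D6046)) (tt N2464 F9408) (tt N8481 (iv4 F21195)) (tt N8415 (iv5 F26964)) (tt N8487 (iv6 F21204)) (tt N5002 (iv7 F11548)))
theorem Q4059 : ∀ i, i < 4059 → P i := stepQ 4058 Q4058 (allL N4058 (tt N8418 (iv1 F27126)) (tt N8402 (iv0 F27127)) (tt N8415 (iv2 F26962)) (tt N1856 F9409) (tt N8496 D12790) (tt N1855 (iv5 D6047)) (tt N8497 D12791) (tt N2503 F9410))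
theorem Q4060 : ∀ i, i < 4060 → P i := stepQ 4059 Q4059 (allL N4059 (tt N8498 D12792) (tt N8499 D12793) (tt N2467 F9411) (tt N8497 (iv3 F21228)) (tt N2508 F9412) (tt N8491 (iv5 F21211)) (tt N1856 (iv6 D6048)) (tt N8500 D12794))
theorem Q4061 : ∀ i, i < 4061 → P i := stepQ 4060 Q4060 (allL N4060 (tt N8501 D12795) (tt N2573 (iv0 F12355)) (tt N5517 (iv2 F12725)) (tt N6147 (iv3 F13951)) (tt N1857 (iv4 D6050)) (tt N8502 D12796) (tt N8503 D12797) (tt N5515 (iv7 F12719)))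
theorem Q4062 : ∀ i, i < 4062 → P i := stepQ 4061 Q4061 (allL N4061 (tt N5636 F17554) (tt N4112 F17555) (tt N5518 (iv2 F12731)) (tt N6357 (iv3 F14519)) (tt N8503 (iv4 F21244)) (tt N8504 D12798) (tt N1857 (iv6 D6052)) (tt N5635 (iv7 F17533)))
theorem Q4063 : ∀ i, i < 4063 → P i := stepQ 4062 Q4062 (allL N4062 (tt N4130 (iv1 F12838)) (tt N4132 (iv0 F12770)) (tt N5384 (iv2 F12351)) (tt N1858 (iv3 D6054)) (tt N5383 (iv4 F12350)) (tt N4203 (iv5 F14035)) (tt N8505 D12799) (tt N5516 (iv7 F12723)))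
theorem Q4064 : ∀ i, i < 4064 → P i := stepQ 4063 Q4063 (allL N4063 (tt N2573 (iv1 F12728)) (tt N8501 F21239) (tt N5515 (iv2 F12718)) (tt N2557 (iv3 F9415)) (tt N1858 (iv4 D6055)) (tt N8506 D12800) (tt N8507 D12801) (tt N5517 (iv7 F12726)))
theorem Q4065 : ∀ i, i < 4065 → P i := stepQ 4064 Q4064 (allL N4064 (tt N2554 F14031) (tt N4182 F14032) (tt N4216 (iv2 F13904)) (tt N8505 (iv3 F21246)) (tt N8507 (iv4 F21250)) (tt N8508 D12802) (tt N1858 (iv6 D6057)) (tt N4217 (iv7 F13907)))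
theorem Q4066 : ∀ i, i < 4066 → P i := stepQ 4065 Q4065 (allL N4065 (tt N1925 (iv1 F14019)) (tt N1921 (iv0 F14020)) (tt N1860 F9416) (tt N2496 F9417) (tt N8509 D12803) (tt N1859 (iv5 D6058)) (tt N8510 D12804) (tt N5519 (iv7 F12734)))
theorem Q4067 : ∀ i, i < 4067 → P i := stepQ 4066 Q4066 (allL N4066 (tt N5519 (iv1 F12736)) (tt N1860 (iv0 D6059)) (tt N1925 F14015) (tt N2874 F14016) (tt N8511 D12805) (tt N1922 F14017) (tt N2700 F296196) (tt N1921 F14018))
theorem Q4068 : ∀ i, i < 4068 → P i := stepQ 4067 Q4067 (allL N4067 (tt N1860 (iv1 D6060)) (tt N5519 F12735) (tt N1921 F14012) (tt N2709 (iv3 F296669)) (tt N8512 D12808) (tt N1918 F14013) (tt N8513 D12809) (tt N1925 F14014))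
theorem Q4069 : ∀ i, i < 4069 → P i := stepQ 4068 Q4068 (allL N4068 (tt N8514 D12810) (tt N8515 D12811) (tt N8509 (iv2 F21251)) (tt N8516 D12812) (tt N1860 (iv4 D6061)) (tt N8517 D12813) (tt N8518 D12814) (tt N5521 (iv7 F12746)))
theorem Q4070 : ∀ i, i < 4070 → P i := stepQ 4069 Q4069 (allL N4069 (tt N8519 D12815) (tt N8520 D12816) (tt N8510 (iv2 F21252)) (tt N1862 F9418) (tt N8518 (iv4 F21269)) (tt N1931 F9419) (tt N1860 (iv6 D6062)) (tt N8521 D12817))
theorem Q4071 : ∀ i, i < 4071 → P i := stepQ 4070 Q4070 (allL N4070 (tt N2396 (iv1 F25723)) (tt N2401 (iv0 F25724)) (tt N8522 D12820) (tt N1861 (iv3 D6063)) (tt N8516 (iv4 F21267)) (tt N2466 F9420) (tt N8523 D12821) (tt N2465 F9421))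
theorem Q4072 : ∀ i, i < 4072 → P i := stepQ 4071 Q4071 (allL N4071 (tt N8524 D12822) (tt N8525 D12823) (tt N2504 F9422) (tt N8523 (iv3 F21279)) (tt N1862 F9423) (tt N8526 D12824) (tt N1861 (iv6 D6064)) (tt N8527 D12825))
theorem Q4073 : ∀ i, i < 4073 → P i := stepQ 4072 Q4072 (allL N4072 (tt N2507 (iv1 F9427)) (tt N1862 (iv0 D6065)) (tt N2505 F43145) (tt N8528 D12827) (tt N8529 D12828) (tt N8530 D12829) (tt N8531 D12830) (tt N2506 (iv7 F43150)))
theorem Q4074 : ∀ i, i < 4074 → P i := stepQ 4073 Q4073 (allL N4073 (tt N1862 (iv1 D6066)) (tt N2507 F9424) (tt N2506 (iv2 F43149)) (tt N8532 D12832) (tt N8533 D12833) (tt N8534 D12834) (tt N8535 D12835) (tt N2505 F43146))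
theorem Q4075 : ∀ i, i < 4075 → P i := stepQ 4074 Q4074 (allL N4074 (tt N2506 (iv1 F9428)) (tt N2505 F9429) (tt N2507 F9425) (tt N8521 (iv3 F21270)) (tt N8527 (iv4 F21284)) (tt N1942 F9426) (tt N5528 (iv6 F12759)) (tt N1862 (iv7 D6067)))
theorem Q4076 : ∀ i, i < 4076 → P i := stepQ 4075 Q4075 (allL N4075 (tt N2536 (iv1 F9430)) (tt N1863 (iv0 D6068)) (tt N2534 (iv2 F9437)) (tt N8536 D12836) (tt N5346 F12562) (tt N4369 (iv5 F10516)) (tt N5438 (iv6 F12453)) (tt N2535 F9436))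
theorem Q4077 : ∀ i, i < 4077 → P i := stepQ 4076 Q4076 (allL N4076 (tt N1863 (iv1 D6069)) (tt N2536 F9431) (tt N2535 F9434) (tt N5478 (iv3 F12522)) (tt N5347 (iv4 F12558)) (tt N3403 (iv5 F9433)) (tt N3749 (iv6 F9432)) (tt N2534 (iv7 F9435)))
theorem Q4078 : ∀ i, i < 4078 → P i := stepQ 4077 Q4077 (allL N4077 (tt N2612 (iv1 F9438)) (tt N1864 (iv0 D6070)) (tt N2611 (iv2 F26618)) (tt N2347 F26398) (tt N8537 D12839) (tt N5160 F26854) (tt N8213 (iv6 F26473)) (tt N2610 F26575))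
theorem Q4079 : ∀ i, i < 4079 → P i := stepQ 4078 Q4078 (allL N4078 (tt N1864 (iv1 D6071)) (tt N2612 F9442) (tt N2610 F26574) (tt N8538 D12843) (tt N8539 D12844) (tt N5161 F26863) (tt N8540 D12846) (tt N2611 (iv7 F26619)))
theorem Q4080 : ∀ i, i < 4080 → P i := stepQ 4079 Q4079 (allL N4079 (tt N2611 (iv1 F9443)) (tt N2610 F9441) (tt N1864 (iv2 D6072)) (tt N2539 F9439) (tt N8022 (iv4 F20085)) (tt N8449 (iv5 F21110)) (tt N8541 D12847) (tt N2612 F9440))
theorem Q4081 : ∀ i, i < 4081 → P i := stepQ 4080 Q4080 (allL N4080 (tt N8311 (iv1 F27043)) (tt N8542 D12849) (tt N8541 (iv2 F21299)) (tt N1865 F9444) (tt N8024 (iv4 F20093)) (tt N8543 D12850) (tt N1864 (iv6 D6073)) (tt N8544 D12851))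
theorem Q4082 : ∀ i, i < 4082 → P i := stepQ 4081 Q4081 (allL N4081 (tt N8545 D12852) (tt N8546 D12853) (tt N2541 F9446) (tt N8543 (iv3 F21301)) (tt N8547 D12854) (tt N1865 (iv5 D6076)) (tt N8454 (iv6 F21120)) (tt N8548 D12855))
theorem Q4083 : ∀ i, i < 4083 → P i := stepQ 4082 Q4082 (allL N4082 (tt N2332 (iv1 F10679)) (tt N2330 (iv0 F10680)) (tt N2542 F9447) (tt N8544 (iv3 F21302)) (tt N1868 F9448) (tt N8548 (iv5 F21314)) (tt N2615 F9449) (tt N1865 (iv7 D6077)))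
theorem Q4084 : ∀ i, i < 4084 → P i := stepQ 4083 Q4083 (allL N4083 (tt N3563 F9454) (tt N4413 (iv0 F10574)) (tt N2545 F12628) (tt N3971 (iv3 F12644)) (tt N3984 (iv4 F26381)) (tt N1866 (iv5 D6081)) (tt N4368 F10515) (tt N2548 F12629))
theorem Q4085 : ∀ i, i < 4085 → P i := stepQ 4084 Q4084 (allL N4084 (tt N3539 (iv1 F9457)) (tt N3398 (iv0 F9456)) (tt N2546 F12623) (tt N3924 F12624) (tt N4887 F11584) (tt N2474 F9455) (tt N1866 (iv6 D6082)) (tt N4360 F12625))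
theorem Q4086 : ∀ i, i < 4086 → P i := stepQ 4085 Q4085 (allL N4085 (tt N3380 (iv1 F10683)) (tt N3836 (iv0 F10682)) (tt N3835 F12640) (tt N1867 (iv3 D6084)) (tt N8549 D12857) (tt N8550 D12858) (tt N8551 D12859) (tt N2543 (iv7 F12637)))
theorem Q4087 : ∀ i, i < 4087 → P i := stepQ 4086 Q4086 (allL N4086 (tt N4413 F12085) (tt N3563 (iv0 F9460)) (tt N2548 F12639) (tt N8550 (iv3 F21328)) (tt N3983 F26431) (tt N1867 (iv5 D6086)) (tt N2473 F9459) (tt N2545 (iv7 F12638)))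
theorem Q4088 : ∀ i, i < 4088 → P i := stepQ 4087 Q4087 (allL N4087 (tt N5436 F12448) (tt N5438 F12454) (tt N2549 (iv2 F12643)) (tt N8551 (iv3 F21334)) (tt N5044 (iv4 F11588)) (tt N8552 D12860) (tt N1867 (iv6 D6087)) (tt N8552 (iv7 F21339)))
theorem Q4089 : ∀ i, i < 4089 → P i := stepQ 4088 Q4088 (allL N4088 (tt N2559 (iv1 F9461)) (tt N1869 (iv0 D6088)) (tt N2558 (iv2 F12343)) (tt N5517 (iv3 F12727)) (tt N5376 F12344) (tt N6048 F13764) (tt N8553 D12861) (tt N2557 F12345))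
theorem Q4090 : ∀ i, i < 4090 → P i := stepQ 4089 Q4089 (allL N4089 (tt N1869 (iv1 D6089)) (tt N2559 F9467) (tt N2557 F12342) (tt N6148 F13958) (tt N5378 F12340) (tt N6049 (iv5 F13761)) (tt N5542 (iv6 F13588)) (tt N2558 (iv7 F12341)))
theorem Q4091 : ∀ i, i < 4091 → P i := stepQ 4090 Q4090 (allL N4090 (tt N2558 F9468) (tt N2557 F9466) (tt N1869 (iv2 D6090)) (tt N2566 F9462) (tt N4090 F9463) (tt N5749 (iv5 F13126)) (tt N2800 F9464) (tt N2559 F9465))
theorem Q4092 : ∀ i, i < 4092 → P i := stepQ 4091 Q4091 (allL N4091 (tt N5383 (iv1 F12348)) (tt N5373 (iv0 F12308)) (tt N2626 (iv2 F12208)) (tt N6107 F13889) (tt N1870 (iv4 D6092)) (tt N5864 (iv5 F13478)) (tt N5695 (iv6 F13010)) (tt N2623 F12205))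
theorem Q4093 : ∀ i, i < 4093 → P i := stepQ 4092 Q4092 (allL N4092 (tt N5373 (iv1 F12309)) (tt N5383 F12349) (tt N2623 (iv2 F12201)) (tt N2808 F9471) (tt N1871 (iv4 D6097)) (tt N5796 (iv5 F13256)) (tt N3163 F16741) (tt N2626 (iv7 F12171)))
theorem Q4094 : ∀ i, i < 4094 → P i := stepQ 4093 Q4093 (allL N4093 (tt N2632 (iv1 F9475)) (tt N2631 F9476) (tt N1873 F9472) (tt N2576 F9473) (tt N8554 D12862) (tt N1872 (iv5 D6100)) (tt N8555 D12863) (tt N2629 F9474))
theorem Q4095 : ∀ i, i < 4095 → P i := stepQ 4094 Q4094 (allL N4094 (tt N5780 F16911) (tt N8556 D12864) (tt N1874 F9477) (tt N2577 F9478) (tt N2577 F9479) (tt N8557 D12865) (tt N1872 (iv6 D6101)) (tt N8558 D12866))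
theorem Q4096 : ∀ i, i < 4096 → P i := stepQ 4095 Q4095 (allL N4095 (tt N2629 (iv1 F9480)) (tt N1873 (iv0 D6102)) (tt N2632 F13444) (tt N3153 F13445) (tt N8559 D12867) (tt N1898 F13446) (tt N2639 (iv6 F296182)) (tt N2631 F13447))
theorem Q4097 : ∀ i, i < 4097 → P i := stepQ 4096 Q4096 (allL N4096 (tt N1873 (iv1 D6103)) (tt N2629 F9481) (tt N2631 F13448) (tt N3204 F13449) (tt N8560 D12869) (tt N1899 F13450) (tt N8561 D12870) (tt N2632 F13451))
theorem Q4098 : ∀ i, i < 4098 → P i := stepQ 4097 Q4097 (allL N4097 (tt N8562 D12871) (tt N8563 D12872) (tt N8554 (iv2 F21341)) (tt N8457 (iv3 F21134)) (tt N1873 (iv4 D6104)) (tt N8564 D12873) (tt N8565 D12874) (tt N2633 F9482))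
theorem Q4099 : ∀ i, i < 4099 → P i := stepQ 4098 Q4098 (allL N4098 (tt N8566 D12875) (tt N8567 D12876) (tt N8555 (iv2 F21345)) (tt N1875 F9483) (tt N8565 (iv4 F21377)) (tt N8568 D12877) (tt N1873 (iv6 D6105)) (tt N8569 D12878))
theorem Q4100 : ∀ i, i < 4100 → P i := stepQ 4099 Q4099 (allL N4099 (tt N8558 (iv1 F21362)) (tt N1874 (iv0 D6106)) (tt N5780 F16904) (tt N6777 F16905) (tt N8570 D12879) (tt N8571 D12880) (tt N2674 F16906) (tt N8556 (iv7 F21348)))
theorem Q4101 : ∀ i, i < 4101 → P i := stepQ 4100 Q4100 (allL N4100 (tt N1874 (iv1 D6107)) (tt N8558 F21361) (tt N8556 F21349) (tt N6267 F17597) (tt N8572 D12881) (tt N8573 D12882) (tt N4100 F16913) (tt N5780 F16912))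
theorem Q4102 : ∀ i, i < 4102 → P i := stepQ 4101 Q4101 (allL N4101 (tt N5696 (iv1 F16985)) (tt N5699 (iv0 F16805)) (tt N8557 (iv2 F21354)) (tt N1878 F9484) (tt N8574 D12883) (tt N1874 (iv5 D6108)) (tt N8568 (iv6 F21379)) (tt N8575 D12884))
theorem Q4103 : ∀ i, i < 4103 → P i := stepQ 4102 Q4102 (allL N4102 (tt N8556 (iv1 F21347)) (tt N5780 F21353) (tt N8558 (iv2 F21357)) (tt N1879 F9485) (tt N2585 F9486) (tt N8575 (iv5 F21393)) (tt N2638 F9487) (tt N1874 (iv7 D6109)))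
theorem Q4104 : ∀ i, i < 4104 → P i := stepQ 4103 Q4103 (allL N4103 (tt N2591 (iv1 F9493)) (tt N1875 (iv0 D6110)) (tt N2588 (iv2 F28802)) (tt N8576 D12886) (tt N5068 (iv4 F41941)) (tt N8577 D12888) (tt N5767 F13155) (tt N2589 (iv7 F28808)))
theorem Q4105 : ∀ i, i < 4105 → P i := stepQ 4104 Q4104 (allL N4104 (tt N1875 (iv1 D6111)) (tt N2591 F9488) (tt N2589 F28812) (tt N8578 D12890) (tt N5069 F41950) (tt N8579 D12892) (tt N8567 (iv6 F298470)) (tt N2588 F28813))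
theorem Q4106 : ∀ i, i < 4106 → P i := stepQ 4105 Q4105 (allL N4105 (tt N8580 D12894) (tt N8581 D12895) (tt N2590 F9489) (tt N8568 (iv3 F21378)) (tt N8582 D12896) (tt N1875 (iv5 D6112)) (tt N1878 F9490) (tt N8583 D12897))
theorem Q4107 : ∀ i, i < 4107 → P i := stepQ 4106 Q4106 (allL N4106 (tt N2589 (iv1 F9494)) (tt N2588 F9495) (tt N2591 F9491) (tt N8569 (iv3 F21380)) (tt N8462 (iv4 F21141)) (tt N8583 (iv5 F21401)) (tt N2642 F9492) (tt N1875 (iv7 D6113)))
theorem Q4108 : ∀ i, i < 4108 → P i := stepQ 4107 Q4107 (allL N4107 (tt N1896 F9498) (tt N2648 F9499) (tt N2593 F9496) (tt N6470 (iv3 F14933)) (tt N8584 D12898) (tt N1876 (iv5 D6114)) (tt N8571 F296012) (tt N2595 F9497))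
theorem Q4109 : ∀ i, i < 4109 → P i := stepQ 4108 Q4108 (allL N4108 (tt N8553 (iv1 F27423)) (tt N8585 D12901) (tt N8586 D12902) (tt N1877 (iv3 D6115)) (tt N4108 F9500) (tt N8587 D12903) (tt N4108 F9501) (tt N2592 F9502))
theorem Q4110 : ∀ i, i < 4110 → P i := stepQ 4109 Q4109 (allL N4109 (tt N2648 F9505) (tt N1896 F9506) (tt N2595 F9503) (tt N8587 (iv3 F21421)) (tt N8588 D12904) (tt N1877 (iv5 D6116)) (tt N8589 D12905) (tt N2593 F9504))
theorem Q4111 : ∀ i, i < 4111 → P i := stepQ 4110 Q4110 (allL N4110 (tt N5425 (iv1 F12405)) (tt N4253 (iv0 F9832)) (tt N2597 F9507) (tt N8590 D12906) (tt N1878 (iv4 D6117)) (tt N8591 D12907) (tt N8582 (iv6 F21399)) (tt N6045 (iv7 F13746)))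
theorem Q4112 : ∀ i, i < 4112 → P i := stepQ 4111 Q4111 (allL N4111 (tt N2596 (iv1 F9510)) (tt N2563 F9511) (tt N2598 F9508) (tt N8575 (iv3 F21392)) (tt N6045 (iv4 F13747)) (tt N1879 F9509) (tt N8592 D12908) (tt N1878 (iv7 D6118)))
theorem Q4113 : ∀ i, i < 4113 → P i := stepQ 4112 Q4112 (allL N4112 (tt N4061 (iv1 F17555)) (tt N8593 D12909) (tt N8594 D12910) (tt N1880 (iv3 D6119)) (tt N4112 F9512) (tt N8595 D12911) (tt N4112 F9513) (tt N2600 F9514))
theorem Q4114 : ∀ i, i < 4114 → P i := stepQ 4113 Q4113 (allL N4113 (tt N2795 F9517) (tt N2793 F9518) (tt N2603 F9515) (tt N8595 (iv3 F21447)) (tt N8596 D12912) (tt N1880 (iv5 D6120)) (tt N8597 D12913) (tt N2601 F9516))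
theorem Q4115 : ∀ i, i < 4115 → P i := stepQ 4114 Q4114 (allL N4114 (tt N8536 (iv1 F21464)) (tt N8598 D12915) (tt N2522 F9519) (tt N4114 F9520) (tt N8017 (iv4 F20075)) (tt N4114 F9521) (tt N1882 (iv6 D6121)) (tt N7327 (iv7 F18451)))
theorem Q4116 : ∀ i, i < 4116 → P i := stepQ 4115 Q4115 (allL N4115 (tt N8599 D12916) (tt N8600 D12917) (tt N8601 D12918) (tt N1883 (iv3 D6122)) (tt N1885 F9522) (tt N8602 D12919) (tt N8603 D12920) (tt N2525 F9523))
theorem Q4117 : ∀ i, i < 4117 → P i := stepQ 4116 Q4116 (allL N4116 (tt N3384 F9526) (tt N3863 F9527) (tt N3860 F9524) (tt N8602 (iv3 F21473)) (tt N7165 (iv4 F18056)) (tt N1883 (iv5 D6123)) (tt N8604 D12921) (tt N2526 F9525))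
theorem Q4118 : ∀ i, i < 4118 → P i := stepQ 4117 Q4117 (allL N4117 (tt N5655 F12921) (tt N5073 (iv0 F11667)) (tt N7257 (iv2 F18242)) (tt N8603 (iv3 F21475)) (tt N1884 F9528) (tt N8605 D12922) (tt N1883 (iv6 D6124)) (tt N8606 D12923))
theorem Q4119 : ∀ i, i < 4119 → P i := stepQ 4118 Q4118 (allL N4118 (tt N7259 (iv1 F18256)) (tt N1884 (iv0 D6125)) (tt N7258 F18246) (tt N2337 F26296) (tt N8018 (iv4 F26344)) (tt N8607 D12924) (tt N4508 F10721) (tt N5059 (iv7 F26300)))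
theorem Q4120 : ∀ i, i < 4120 → P i := stepQ 4119 Q4119 (allL N4119 (tt N1884 (iv1 D6126)) (tt N7259 F18255) (tt N5059 F26348) (tt N4119 F18203) (tt N8038 F20117) (tt N8608 D12925) (tt N4352 (iv6 F18201)) (tt N7258 (iv7 F18248)))
theorem Q4121 : ∀ i, i < 4121 → P i := stepQ 4120 Q4120 (allL N4120 (tt N5059 F26347) (tt N7258 F18249) (tt N7259 (iv2 F18251)) (tt N1889 F9529) (tt N8606 (iv4 F21478)) (tt N2530 F9530) (tt N2530 F9531) (tt N1884 (iv7 D6127)))
theorem Q4122 : ∀ i, i < 4122 → P i := stepQ 4121 Q4121 (allL N4121 (tt N2539 (iv1 F9532)) (tt N1885 (iv0 D6128)) (tt N2538 (iv2 F27238)) (tt N5025 F11569) (tt N8609 D12927) (tt N5135 F35185) (tt N8610 D12929) (tt N2537 F27237))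
theorem Q4123 : ∀ i, i < 4123 → P i := stepQ 4122 Q4122 (allL N4122 (tt N1885 (iv1 D6129)) (tt N2539 F9536) (tt N2537 F27236) (tt N8611 D12931) (tt N8612 D12932) (tt N5136 F35189) (tt N8613 D12934) (tt N2538 (iv7 F27239)))
theorem Q4124 : ∀ i, i < 4124 → P i := stepQ 4123 Q4123 (allL N4123 (tt N2538 (iv1 F9537)) (tt N2537 F9535) (tt N1885 (iv2 D6130)) (tt N2612 F9533) (tt N8601 (iv4 F21469)) (tt N8456 (iv5 F21129)) (tt N8614 D12935) (tt N2539 F9534))
theorem Q4125 : ∀ i, i < 4125 → P i := stepQ 4124 Q4124 (allL N4124 (tt N8615 D12936) (tt N8611 (iv0 F27250)) (tt N8614 (iv2 F21490)) (tt N1886 F9538) (tt N8603 (iv4 F21476)) (tt N8616 D12938) (tt N1885 (iv6 D6131)) (tt N8617 D12939))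
theorem Q4126 : ∀ i, i < 4126 → P i := stepQ 4125 Q4125 (allL N4125 (tt N8618 D12940) (tt N8619 D12941) (tt N2614 F9540) (tt N8616 (iv3 F21492)) (tt N8620 D12942) (tt N1886 (iv5 D6134)) (tt N8461 (iv6 F21139)) (tt N8621 D12943))
theorem Q4127 : ∀ i, i < 4127 → P i := stepQ 4126 Q4126 (allL N4126 (tt N2347 (iv1 F10656)) (tt N2345 (iv0 F10653)) (tt N2615 F9541) (tt N8617 (iv3 F21493)) (tt N1889 F9542) (tt N8621 (iv5 F21505)) (tt N2542 F9543) (tt N1886 (iv7 D6135)))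
theorem Q4128 : ∀ i, i < 4128 → P i := stepQ 4127 Q4127 (allL N4127 (tt N4372 (iv1 F10523)) (tt N3405 (iv0 F9552)) (tt N2617 F9549) (tt N5656 (iv3 F12922)) (tt N4942 (iv4 F11479)) (tt N1887 (iv5 D6137)) (tt N3560 F9550) (tt N2620 F9551))
theorem Q4129 : ∀ i, i < 4129 → P i := stepQ 4128 Q4128 (allL N4128 (tt N3405 F9560) (tt N4372 F10522) (tt N2620 F9557) (tt N2120 (iv3 F10072)) (tt N4493 (iv4 F10699)) (tt N1888 (iv5 D6140)) (tt N1996 F9558) (tt N2617 F9559))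
theorem Q4130 : ∀ i, i < 4130 → P i := stepQ 4129 Q4129 (allL N4129 (tt N6253 F14270) (tt N6263 F14306) (tt N5364 F12828) (tt N1890 (iv3 D6142)) (tt N2804 F9562) (tt N5738 F13459) (tt N4156 (iv6 F16986)) (tt N2569 F12829))
theorem Q4131 : ∀ i, i < 4131 → P i := stepQ 4130 Q4130 (allL N4130 (tt N6108 F13894) (tt N4062 F12838) (tt N2574 F12817) (tt N5375 F12337) (tt N1890 (iv4 D6143)) (tt N4179 (iv5 F296142)) (tt N4157 (iv6 F17003)) (tt N2570 (iv7 F12816)))
theorem Q4132 : ∀ i, i < 4132 → P i := stepQ 4131 Q4131 (allL N4131 (tt N5515 (iv1 F12847)) (tt N5517 F12848) (tt N8501 F21238) (tt N1891 (iv3 D6147)) (tt N8501 (iv4 F21236)) (tt N5741 (iv5 F13428)) (tt N8622 D12945) (tt N2573 F12820))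
theorem Q4133 : ∀ i, i < 4133 → P i := stepQ 4132 Q4132 (allL N4132 (tt N4062 F12770) (tt N6108 (iv0 F13893)) (tt N2570 F12821) (tt N2803 F9564) (tt N1891 (iv4 D6148)) (tt N4178 F296975) (tt N8623 D12946) (tt N2574 F12822))
theorem Q4134 : ∀ i, i < 4134 → P i := stepQ 4133 Q4133 (allL N4133 (tt N4142 F13432) (tt N4135 F13433) (tt N2572 F12825) (tt N8622 (iv3 F21512)) (tt N8623 (iv4 F21515)) (tt N8624 D12947) (tt N1891 (iv6 D6150)) (tt N4140 (iv7 F13349)))
theorem Q4135 : ∀ i, i < 4135 → P i := stepQ 4134 Q4134 (allL N4134 (tt N2579 (iv1 F9568)) (tt N2578 F9569) (tt N1893 F9565) (tt N2629 F9566) (tt N8625 D12948) (tt N1892 (iv5 D6151)) (tt N8626 D12949) (tt N2576 F9567))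
theorem Q4136 : ∀ i, i < 4136 → P i := stepQ 4135 Q4135 (allL N4135 (tt N4133 (iv1 F13433)) (tt N2654 F16975) (tt N1894 F9570) (tt N2630 F9571) (tt N2630 F9572) (tt N8627 D12950) (tt N1892 (iv6 D6152)) (tt N5565 (iv7 F13354)))
theorem Q4137 : ∀ i, i < 4137 → P i := stepQ 4136 Q4136 (allL N4136 (tt N2576 (iv1 F9573)) (tt N1893 (iv0 D6153)) (tt N2579 F13436) (tt N8628 D12951) (tt N8629 D12952) (tt N1903 F13345) (tt N8630 D12953) (tt N2578 F13437))
theorem Q4138 : ∀ i, i < 4138 → P i := stepQ 4137 Q4137 (allL N4137 (tt N1893 (iv1 D6154)) (tt N2576 F9574) (tt N2578 F13440) (tt N8631 D12954) (tt N8632 D12955) (tt N1904 F13342) (tt N8633 D12956) (tt N2579 F13441))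
theorem Q4139 : ∀ i, i < 4139 → P i := stepQ 4138 Q4138 (allL N4138 (tt N8634 D12957) (tt N8635 D12958) (tt N8625 (iv2 F21520)) (tt N8450 (iv3 F21115)) (tt N1893 (iv4 D6155)) (tt N8636 D12959) (tt N8637 D12960) (tt N2580 F9575))
theorem Q4140 : ∀ i, i < 4140 → P i := stepQ 4139 Q4139 (allL N4139 (tt N8633 F298278) (tt N8638 D12962) (tt N8626 (iv2 F21524)) (tt N1895 F9576) (tt N8637 (iv4 F21556)) (tt N8639 D12963) (tt N1893 (iv6 D6156)) (tt N8640 D12964))
theorem Q4141 : ∀ i, i < 4141 → P i := stepQ 4140 Q4140 (allL N4140 (tt N1894 (iv1 D6158)) (tt N5565 F13355) (tt N2654 (iv2 F16973)) (tt N8641 D12965) (tt N8642 D12966) (tt N5597 F16972) (tt N1904 (iv6 F16974)) (tt N4133 F13349))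
theorem Q4142 : ∀ i, i < 4142 → P i := stepQ 4141 Q4141 (allL N4141 (tt N8643 D12967) (tt N8644 D12968) (tt N8627 (iv2 F21526)) (tt N1896 F9577) (tt N7666 F325706) (tt N1894 (iv5 D6159)) (tt N8639 (iv6 F21558)) (tt N7663 F325707))
theorem Q4143 : ∀ i, i < 4143 → P i := stepQ 4142 Q4142 (allL N4142 (tt N2654 F16976) (tt N4133 (iv0 F13432)) (tt N5565 F13350) (tt N1897 F9578) (tt N2638 F9579) (tt N7663 F324949) (tt N2585 F9580) (tt N1894 (iv7 D6160)))
theorem Q4144 : ∀ i, i < 4144 → P i := stepQ 4143 Q4143 (allL N4143 (tt N2642 (iv1 F9586)) (tt N1895 (iv0 D6161)) (tt N2639 F30514) (tt N8645 D12972) (tt N5036 (iv4 F41771)) (tt N8646 D12974) (tt N2632 F296881) (tt N2640 F30515))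
theorem Q4145 : ∀ i, i < 4145 → P i := stepQ 4144 Q4144 (allL N4144 (tt N1895 (iv1 D6162)) (tt N2642 F9581) (tt N2640 (iv2 F30503)) (tt N8647 D12977) (tt N5037 F41776) (tt N8648 D12979) (tt N8649 D12980) (tt N2639 (iv7 F30513)))
theorem Q4146 : ∀ i, i < 4146 → P i := stepQ 4145 Q4145 (allL N4145 (tt N8650 D12981) (tt N8651 D12982) (tt N2641 F9582) (tt N8639 (iv3 F21557)) (tt N8652 D12983) (tt N1895 (iv5 D6163)) (tt N1896 F9583) (tt N8653 D12984))
theorem Q4147 : ∀ i, i < 4147 → P i := stepQ 4146 Q4146 (allL N4146 (tt N2640 (iv1 F9587)) (tt N2639 F9588) (tt N2642 F9584) (tt N8640 (iv3 F21559)) (tt N8455 (iv4 F21122)) (tt N8653 (iv5 F21581)) (tt N2591 F9585) (tt N1895 (iv7 D6164)))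
theorem Q4148 : ∀ i, i < 4148 → P i := stepQ 4147 Q4147 (allL N4147 (tt N8596 (iv1 F21454)) (tt N6479 (iv0 F14991)) (tt N2647 F9589) (tt N8654 D12985) (tt N1896 (iv4 D6165)) (tt N6045 (iv5 F13748)) (tt N8652 (iv6 F21579)) (tt N8591 (iv7 F21431)))
theorem Q4149 : ∀ i, i < 4149 → P i := stepQ 4148 Q4148 (allL N4148 (tt N2593 (iv1 F9592)) (tt N2595 F9593) (tt N2648 F9590) (tt N7663 (iv3 F324580)) (tt N8591 (iv4 F21430)) (tt N1897 F9591) (tt N7662 F323144) (tt N1896 (iv7 D6166)))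
theorem Q4150 : ∀ i, i < 4150 → P i := stepQ 4149 Q4149 (allL N4149 (tt N2725 F9597) (tt N2713 (iv0 F9598)) (tt N2671 F9594) (tt N2862 F9595) (tt N1898 (iv4 D6167)) (tt N8655 D12987) (tt N8656 D12988) (tt N2669 F9596))
theorem Q4151 : ∀ i, i < 4151 → P i := stepQ 4150 Q4150 (allL N4150 (tt N2630 F16793) (tt N2638 F16794) (tt N2636 F16795) (tt N3154 F9603) (tt N8656 (iv4 F21596)) (tt N8657 D12989) (tt N1898 (iv6 D6169)) (tt N2635 F16796))
theorem Q4152 : ∀ i, i < 4152 → P i := stepQ 4151 Q4151 (allL N4151 (tt N2673 (iv1 F9612)) (tt N2672 F9613) (tt N1901 F9609) (tt N2657 F9610) (tt N8372 (iv4 F297004)) (tt N1900 (iv5 D6172)) (tt N2668 (iv6 F297784)) (tt N1908 F296553))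
theorem Q4153 : ∀ i, i < 4153 → P i := stepQ 4152 Q4152 (allL N4152 (tt N8370 F296877) (tt N8369 (iv0 F297002)) (tt N8372 (iv2 F297003)) (tt N8388 (iv3 F21022)) (tt N1901 (iv4 D6175)) (tt N8658 D12994) (tt N8397 (iv6 F298463)) (tt N2380 F296878))
theorem Q4154 : ∀ i, i < 4154 → P i := stepQ 4153 Q4153 (allL N4153 (tt N2667 (iv1 F297152)) (tt N2666 F296879) (tt N2668 (iv2 F297783)) (tt N1902 F9617) (tt N8397 (iv4 F298462)) (tt N4153 F9618) (tt N1901 (iv6 D6176)) (tt N1902 F296880))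
theorem Q4155 : ∀ i, i < 4155 → P i := stepQ 4154 Q4154 (allL N4154 (tt N2668 (iv1 F9623)) (tt N1902 (iv0 D6177)) (tt N2666 (iv2 F28791)) (tt N8659 D13000) (tt N5105 F41745) (tt N8660 D13002) (tt N8661 D13003) (tt N2667 (iv7 F28797)))
theorem Q4156 : ∀ i, i < 4156 → P i := stepQ 4155 Q4155 (allL N4155 (tt N1902 (iv1 D6178)) (tt N2668 F9619) (tt N2667 F28798) (tt N8662 D13005) (tt N5106 (iv4 F41740)) (tt N5608 (iv5 F12878)) (tt N8663 D13007) (tt N2666 F28799))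
theorem Q4157 : ∀ i, i < 4157 → P i := stepQ 4156 Q4156 (allL N4156 (tt N3196 F9629) (tt N3206 (iv0 F9628)) (tt N2695 (iv2 F13069)) (tt N1903 (iv3 D6181)) (tt N1911 F9627) (tt N8628 (iv5 F21534)) (tt N4129 F16986) (tt N2652 F13068))
theorem Q4158 : ∀ i, i < 4158 → P i := stepQ 4157 Q4157 (allL N4157 (tt N2863 F9630) (tt N1923 (iv0 F9632)) (tt N2656 (iv2 F13079)) (tt N2714 F9631) (tt N1903 (iv4 D6182)) (tt N8664 D13008) (tt N4130 F17003) (tt N2653 F13081))
theorem Q4159 : ∀ i, i < 4159 → P i := stepQ 4158 Q4158 (allL N4158 (tt N4188 F9730) (tt N4184 (iv0 F9725)) (tt N4186 F13074) (tt N1904 (iv3 D6186)) (tt N4186 (iv4 F9723)) (tt N8631 (iv5 F21542)) (tt N8641 (iv6 F21561)) (tt N2655 F13075))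
theorem Q4160 : ∀ i, i < 4160 → P i := stepQ 4159 Q4159 (allL N4159 (tt N1923 (iv1 F9636)) (tt N2863 (iv0 F9635)) (tt N2653 F13078) (tt N1910 F9634) (tt N1904 (iv4 D6187)) (tt N8665 D13009) (tt N8642 (iv6 F21564)) (tt N2656 (iv7 F13076)))
theorem Q4161 : ∀ i, i < 4161 → P i := stepQ 4160 Q4160 (allL N4160 (tt N2659 (iv1 F9640)) (tt N2658 F9641) (tt N1906 F9637) (tt N1908 F296251) (tt N8666 D13010) (tt N1905 (iv5 D6190)) (tt N1906 (iv6 F296590)) (tt N2657 F9639))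
theorem Q4162 : ∀ i, i < 4162 → P i := stepQ 4161 Q4161 (allL N4161 (tt N4164 (iv1 F9651)) (tt N4163 F9650) (tt N1907 F9642) (tt N1909 F295980) (tt N1909 F295982) (tt N1907 F295981) (tt N1905 (iv6 D6191)) (tt N4161 F9645))
theorem Q4163 : ∀ i, i < 4163 → P i := stepQ 4162 Q4162 (allL N4162 (tt N8667 D13013) (tt N8668 D13014) (tt N8666 (iv2 F21643)) (tt N8363 (iv3 F20975)) (tt N1906 (iv4 D6194)) (tt N8669 D13015) (tt N8666 F297341) (tt N2660 F9648))
theorem Q4164 : ∀ i, i < 4164 → P i := stepQ 4163 Q4163 (allL N4163 (tt N4161 (iv1 F9650)) (tt N1907 (iv0 D6196)) (tt N4164 (iv2 F21682)) (tt N5836 (iv3 F13287)) (tt N2679 F295898) (tt N4164 F295939) (tt N2582 F21529) (tt N4163 F21684))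
theorem Q4165 : ∀ i, i < 4165 → P i := stepQ 4164 Q4164 (allL N4164 (tt N1907 (iv1 D6197)) (tt N4161 F9651) (tt N4163 F21682) (tt N8670 D13024) (tt N2681 F295962) (tt N4163 (iv5 F295939)) (tt N5573 F21568) (tt N4164 F21683))
theorem Q4166 : ∀ i, i < 4166 → P i := stepQ 4165 Q4165 (allL N4165 (tt N3206 F9666) (tt N3196 (iv0 F9667)) (tt N2652 F13062) (tt N4186 (iv3 F9724)) (tt N1910 (iv4 D6205)) (tt N8671 D13042) (tt N8672 D13043) (tt N2695 (iv7 F13067)))
theorem Q4167 : ∀ i, i < 4167 → P i := stepQ 4166 Q4166 (allL N4166 (tt N2765 F14053) (tt N1934 F14054) (tt N2698 (iv2 F13092)) (tt N8665 (iv3 F21637)) (tt N8673 D13044) (tt N1910 (iv5 D6206)) (tt N8674 D13045) (tt N2696 F13091))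
theorem Q4168 : ∀ i, i < 4168 → P i := stepQ 4167 Q4167 (allL N4167 (tt N5367 F16995) (tt N2794 F16996) (tt N2699 F13093) (tt N8642 (iv3 F21566)) (tt N8672 (iv4 F21738)) (tt N8675 D13046) (tt N1910 (iv6 D6207)) (tt N5368 F16997))
theorem Q4169 : ∀ i, i < 4169 → P i := stepQ 4168 Q4168 (allL N4168 (tt N2715 F9670) (tt N2717 (iv0 F9671)) (tt N2714 (iv2 F13080)) (tt N1911 (iv3 D6209)) (tt N2714 F9669) (tt N8676 D13047) (tt N6055 F16998) (tt N2697 (iv7 F13082)))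
theorem Q4170 : ∀ i, i < 4170 → P i := stepQ 4169 Q4169 (allL N4169 (tt N1934 F14055) (tt N2765 F14056) (tt N2696 (iv2 F13089)) (tt N8676 (iv3 F21746)) (tt N8677 D13048) (tt N1911 (iv5 D6210)) (tt N8678 D13049) (tt N2698 (iv7 F13088)))
theorem Q4171 : ∀ i, i < 4171 → P i := stepQ 4170 Q4170 (allL N4170 (tt N2703 (iv1 F9675)) (tt N2702 F9676) (tt N1913 F9672) (tt N2687 F9673) (tt N8679 D13050) (tt N1912 (iv5 D6212)) (tt N8680 D13051) (tt N2700 F9674))
theorem Q4172 : ∀ i, i < 4172 → P i := stepQ 4171 Q4171 (allL N4171 (tt N2700 (iv1 F9677)) (tt N1913 (iv0 D6213)) (tt N2703 F14046) (tt N2708 (iv3 F296687)) (tt N8681 D13052) (tt N2482 F14048) (tt N8682 D13053) (tt N2702 F14049))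
theorem Q4173 : ∀ i, i < 4173 → P i := stepQ 4172 Q4172 (allL N4172 (tt N1913 (iv1 D6214)) (tt N2700 F9678) (tt N2702 F14050) (tt N8683 D13054) (tt N8684 D13055) (tt N2483 F14051) (tt N8685 D13056) (tt N2703 F14052))
theorem Q4174 : ∀ i, i < 4174 → P i := stepQ 4173 Q4173 (allL N4173 (tt N8686 D13057) (tt N6900 (iv0 F17203)) (tt N8679 (iv2 F21754)) (tt N8340 (iv3 F20916)) (tt N1913 (iv4 D6215)) (tt N8687 D13058) (tt N8688 D13059) (tt N2704 F9679))
theorem Q4175 : ∀ i, i < 4175 → P i := stepQ 4174 Q4174 (allL N4174 (tt N8689 D13060) (tt N8690 D13061) (tt N8680 (iv2 F21759)) (tt N1914 F9680) (tt N8688 (iv4 F21785)) (tt N4174 F9681) (tt N1913 (iv6 D6216)) (tt N8513 (iv7 F297706)))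
theorem Q4176 : ∀ i, i < 4176 → P i := stepQ 4175 Q4175 (allL N4175 (tt N2694 (iv1 F9686)) (tt N1914 (iv0 D6217)) (tt N2692 F29854) (tt N8691 D13064) (tt N8394 (iv4 F30384)) (tt N6027 (iv5 F13688)) (tt N8692 D13066) (tt N2693 F29855))
theorem Q4177 : ∀ i, i < 4177 → P i := stepQ 4176 Q4176 (allL N4176 (tt N1914 (iv1 D6218)) (tt N2694 F9682) (tt N2693 (iv2 F29849)) (tt N8689 F298683) (tt N8395 (iv4 F30387)) (tt N5960 (iv5 F13619)) (tt N8693 D13070) (tt N2692 (iv7 F29853)))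
theorem Q4178 : ∀ i, i < 4178 → P i := stepQ 4177 Q4177 (allL N4177 (tt N2693 (iv1 F9687)) (tt N2692 F9688) (tt N2694 F9683) (tt N8513 F298196) (tt N8346 (iv4 F20929)) (tt N4177 F9684) (tt N2709 F9685) (tt N1914 (iv7 D6219)))
theorem Q4179 : ∀ i, i < 4179 → P i := stepQ 4178 Q4178 (allL N4178 (tt N2709 (iv1 F9694)) (tt N1915 (iv0 D6220)) (tt N2707 F29745) (tt N2702 (iv3 F296677)) (tt N8369 F42177) (tt N4132 (iv5 F296975)) (tt N8694 D13075) (tt N2708 F29746))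
theorem Q4180 : ∀ i, i < 4180 → P i := stepQ 4179 Q4179 (allL N4179 (tt N1915 (iv1 D6221)) (tt N2709 F9689) (tt N2708 (iv2 F29738)) (tt N8695 D13077) (tt N8370 (iv4 F42172)) (tt N4130 F296142) (tt N8696 D13080) (tt N2707 (iv7 F29744)))
theorem Q4181 : ∀ i, i < 4181 → P i := stepQ 4180 Q4180 (allL N4180 (tt N2708 (iv1 F9695)) (tt N2707 F9696) (tt N2709 F9692) (tt N2864 F296214) (tt N8334 (iv4 F20898)) (tt N2863 F296215) (tt N2694 F9693) (tt N1915 (iv7 D6223)))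
theorem Q4182 : ∀ i, i < 4182 → P i := stepQ 4181 Q4181 (allL N4181 (tt N1929 (iv1 F9703)) (tt N1928 F9704) (tt N1932 F9700) (tt N2711 F9701) (tt N8697 D13086) (tt N1917 (iv5 D6225)) (tt N8698 D13087) (tt N1927 F9702))
theorem Q4183 : ∀ i, i < 4183 → P i := stepQ 4182 Q4182 (allL N4182 (tt N4064 (iv1 F14032)) (tt N5523 F12748) (tt N1933 F9705) (tt N2712 F9706) (tt N4182 F9707) (tt N8699 D13088) (tt N1917 (iv6 D6226)) (tt N5520 (iv7 F12740)))
theorem Q4184 : ∀ i, i < 4184 → P i := stepQ 4183 Q4183 (allL N4183 (tt N2653 (iv1 F9711)) (tt N2656 F9712) (tt N2863 F9708) (tt N1918 (iv3 D6227)) (tt N5769 (iv4 F13156)) (tt N2709 (iv5 F296670)) (tt N4183 F9709) (tt N1923 F9710))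
theorem Q4185 : ∀ i, i < 4185 → P i := stepQ 4184 Q4184 (allL N4184 (tt N4158 F9725) (tt N5734 F13108) (tt N1920 F9713) (tt N2798 F9716) (tt N1918 (iv4 D6228)) (tt N8700 D13089) (tt N4184 F9714) (tt N1924 F9715))
theorem Q4186 : ∀ i, i < 4186 → P i := stepQ 4185 Q4185 (allL N4185 (tt N6737 F16383) (tt N6745 (iv0 F296084)) (tt N2864 F9720) (tt N1921 F9721) (tt N8701 D13091) (tt N1919 (iv5 D6230)) (tt N8702 D13092) (tt N2874 F9722))
theorem Q4187 : ∀ i, i < 4187 → P i := stepQ 4186 Q4186 (allL N4186 (tt N1924 F9726) (tt N1920 (iv0 D6231)) (tt N4158 (iv2 F13074)) (tt N4165 F9724) (tt N4158 F9723) (tt N8703 D13093) (tt N8704 D13094) (tt N5734 (iv7 F13106)))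
theorem Q4188 : ∀ i, i < 4188 → P i := stepQ 4187 Q4187 (allL N4187 (tt N8705 D13095) (tt N5741 F14023) (tt N8700 (iv2 F21816)) (tt N6693 (iv3 F16124)) (tt N8706 D13096) (tt N1920 (iv5 D6232)) (tt N8707 D13097) (tt N8708 D13098))
theorem Q4189 : ∀ i, i < 4189 → P i := stepQ 4188 Q4188 (allL N4188 (tt N5734 (iv1 F13107)) (tt N4158 (iv0 F9730)) (tt N1924 F9727) (tt N2871 F9728) (tt N1922 F9729) (tt N8708 (iv5 F21852)) (tt N8709 D13099) (tt N1920 (iv7 D6233)))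
theorem Q4190 : ∀ i, i < 4190 → P i := stepQ 4189 Q4189 (allL N4189 (tt N8710 D13100) (tt N8711 D13101) (tt N8512 (iv2 F21263)) (tt N8712 D13102) (tt N1921 (iv4 D6236)) (tt N8713 D13103) (tt N8714 D13104) (tt N8511 (iv7 F21256)))
theorem Q4191 : ∀ i, i < 4191 → P i := stepQ 4190 Q4190 (allL N4190 (tt N8690 (iv1 F297044)) (tt N8689 (iv0 F297710)) (tt N8513 (iv2 F21265)) (tt N8702 (iv3 F21830)) (tt N8714 (iv4 F21865)) (tt N4190 F9732) (tt N1921 (iv6 D6237)) (tt N8680 (iv7 F296929)))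
theorem Q4192 : ∀ i, i < 4192 → P i := stepQ 4191 Q4191 (allL N4191 (tt N4195 (iv1 F9746)) (tt N2680 (iv0 F17470)) (tt N1926 F9737) (tt N2875 F9738) (tt N8709 (iv4 F21858)) (tt N2701 (iv5 F295996)) (tt N1922 (iv6 D6239)) (tt N4191 F9739))
theorem Q4193 : ∀ i, i < 4193 → P i := stepQ 4192 Q4192 (allL N4192 (tt N5741 (iv1 F21819)) (tt N8705 F21845) (tt N8708 (iv2 F21850)) (tt N5726 (iv3 F13055)) (tt N8715 D13112) (tt N1924 (iv5 D6242)) (tt N6805 F295968) (tt N8700 (iv7 F21818)))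
theorem Q4194 : ∀ i, i < 4194 → P i := stepQ 4193 Q4193 (allL N4193 (tt N8670 (iv1 F21861)) (tt N8716 D13114) (tt N8709 (iv2 F21856)) (tt N5727 (iv3 F13056)) (tt N1926 F9743) (tt N6806 (iv5 F295935)) (tt N1924 (iv6 D6243)) (tt N4193 F9744))
theorem Q4195 : ∀ i, i < 4195 → P i := stepQ 4194 Q4194 (allL N4194 (tt N8711 (iv1 F21864)) (tt N8710 F21863) (tt N8511 (iv2 F21255)) (tt N8717 D13116) (tt N1925 (iv4 D6244)) (tt N8718 D13117) (tt N2704 F297093) (tt N8512 (iv7 F21264)))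
theorem Q4196 : ∀ i, i < 4196 → P i := stepQ 4195 Q4195 (allL N4195 (tt N1926 (iv1 D6247)) (tt N4191 F9746) (tt N2680 F17467) (tt N2733 F17452) (tt N4195 F17468) (tt N2706 F295874) (tt N5636 F17469) (tt N4195 F17453))
theorem Q4197 : ∀ i, i < 4197 → P i := stepQ 4196 Q4196 (allL N4196 (tt N1932 (iv1 F9748)) (tt N1927 (iv0 D6249)) (tt N1928 F14025) (tt N8719 D13125) (tt N8720 D13126) (tt N2551 F14010) (tt N8721 D13127) (tt N1929 (iv7 F14029)))
theorem Q4198 : ∀ i, i < 4198 → P i := stepQ 4197 Q4197 (allL N4197 (tt N1927 (iv1 D6250)) (tt N1932 F9749) (tt N1929 (iv2 F14028)) (tt N6113 F14006) (tt N8722 D13128) (tt N2550 F14007) (tt N8723 D13129) (tt N1928 F14027))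
theorem Q4199 : ∀ i, i < 4199 → P i := stepQ 4198 Q4198 (allL N4198 (tt N8724 D13130) (tt N8725 D13131) (tt N1930 F9750) (tt N8726 D13132) (tt N1927 (iv4 D6251)) (tt N8727 D13133) (tt N8728 D13134) (tt N8697 (iv7 F21809)))
theorem Q4200 : ∀ i, i < 4200 → P i := stepQ 4199 Q4199 (allL N4199 (tt N6021 (iv1 F297755)) (tt N8729 D13136) (tt N1931 F9751) (tt N2738 F9752) (tt N8728 (iv4 F21910)) (tt N8510 (iv5 F21254)) (tt N1927 (iv6 D6252)) (tt N8730 D13137))
theorem Q4201 : ∀ i, i < 4201 → P i := stepQ 4200 Q4200 (allL N4200 (tt N6730 (iv1 F16317)) (tt N6642 (iv0 F15960)) (tt N6109 F14038) (tt N1928 (iv3 D6254)) (tt N8731 D13138) (tt N2964 (iv5 F14037)) (tt N8732 D13139) (tt N6113 F14036))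
theorem Q4202 : ∀ i, i < 4202 → P i := stepQ 4201 Q4201 (allL N4201 (tt N8733 D13140) (tt N8734 D13141) (tt N8720 (iv2 F21899)) (tt N8735 D13142) (tt N1928 (iv4 D6255)) (tt N8736 D13143) (tt N8737 D13144) (tt N8722 (iv7 F21903)))
theorem Q4203 : ∀ i, i < 4203 → P i := stepQ 4202 Q4202 (allL N4202 (tt N8738 D13145) (tt N8739 D13146) (tt N8721 (iv2 F21901)) (tt N8732 (iv3 F21921)) (tt N8737 (iv4 F21925)) (tt N8740 D13147) (tt N1928 (iv6 D6257)) (tt N8741 D13148))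
theorem Q4204 : ∀ i, i < 4204 → P i := stepQ 4203 Q4203 (allL N4203 (tt N8664 (iv1 F21630)) (tt N8665 (iv0 F21639)) (tt N8742 D13149) (tt N1929 (iv3 D6259)) (tt N8743 D13150) (tt N4062 F14035) (tt N2790 (iv6 F296978)) (tt N8719 (iv7 F21896)))
theorem Q4205 : ∀ i, i < 4205 → P i := stepQ 4204 Q4204 (allL N4204 (tt N8734 (iv1 F21924)) (tt N8733 F21923) (tt N8722 (iv2 F21902)) (tt N8744 D13152) (tt N1929 (iv4 D6260)) (tt N8745 D13153) (tt N8746 D13154) (tt N8720 (iv7 F21900)))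
theorem Q4206 : ∀ i, i < 4206 → P i := stepQ 4205 Q4205 (allL N4205 (tt N8674 F297325) (tt N8747 D13156) (tt N8723 (iv2 F21904)) (tt N2790 F297326) (tt N8746 (iv4 F21934)) (tt N8748 D13157) (tt N1929 (iv6 D6262)) (tt N8749 D13158))
theorem Q4207 : ∀ i, i < 4207 → P i := stepQ 4206 Q4206 (allL N4206 (tt N8697 (iv1 F21811)) (tt N1930 (iv0 D6263)) (tt N8724 (iv2 F27949)) (tt N8750 D13160) (tt N8502 (iv4 F21243)) (tt N8751 D13161) (tt N8752 D13162) (tt N8725 (iv7 F27948)))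
theorem Q4208 : ∀ i, i < 4208 → P i := stepQ 4207 Q4207 (allL N4207 (tt N1930 (iv1 D6264)) (tt N8697 (iv0 F21810)) (tt N8725 (iv2 F27947)) (tt N8753 D13164) (tt N8506 (iv4 F21248)) (tt N8754 D13165) (tt N8755 D13166) (tt N8724 (iv7 F27950)))
theorem Q4209 : ∀ i, i < 4209 → P i := stepQ 4208 Q4208 (allL N4208 (tt N8756 D13167) (tt N8757 D13168) (tt N8758 D13169) (tt N1930 (iv3 D6265)) (tt N1938 F9755) (tt N8759 D13170) (tt N8760 D13171) (tt N2406 (iv7 F9756)))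
theorem Q4210 : ∀ i, i < 4210 → P i := stepQ 4209 Q4209 (allL N4209 (tt N8761 D13172) (tt N8762 D13173) (tt N8727 (iv2 F21908)) (tt N8759 (iv3 F21948)) (tt N8763 D13174) (tt N1930 (iv5 D6266)) (tt N8764 D13175) (tt N8765 D13176))
theorem Q4211 : ∀ i, i < 4211 → P i := stepQ 4210 Q4210 (allL N4210 (tt N8766 D13177) (tt N8767 D13178) (tt N8728 (iv2 F21909)) (tt N8760 (iv3 F21950)) (tt N1931 F9757) (tt N8768 D13179) (tt N1930 (iv6 D6267)) (tt N8769 D13180))
theorem Q4212 : ∀ i, i < 4212 → P i := stepQ 4211 Q4211 (allL N4211 (tt N8725 (iv1 F21906)) (tt N8724 F21905) (tt N8697 (iv2 F21808)) (tt N2406 F9758) (tt N1932 F9759) (tt N8765 (iv5 F21963)) (tt N8770 D13181) (tt N1930 (iv7 D6268)))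
theorem Q4213 : ∀ i, i < 4213 → P i := stepQ 4212 Q4212 (allL N4212 (tt N8730 (iv1 F21916)) (tt N1931 (iv0 D6269)) (tt N6021 (iv2 F297756)) (tt N8771 D13183) (tt N8772 D13184) (tt N6019 (iv5 F297060)) (tt N8773 D13186) (tt N8729 F44533))
theorem Q4214 : ∀ i, i < 4214 → P i := stepQ 4213 Q4213 (allL N4213 (tt N1931 (iv1 D6270)) (tt N8730 F21915) (tt N8729 F44529) (tt N4243 F298704) (tt N8774 D13189) (tt N4241 F298705) (tt N8775 D13191) (tt N6021 F298706))
theorem Q4215 : ∀ i, i < 4215 → P i := stepQ 4214 Q4214 (allL N4214 (tt N8729 (iv1 F21911)) (tt N6021 F299870) (tt N8730 (iv2 F21912)) (tt N1942 F9760) (tt N8769 (iv4 F21964)) (tt N8521 (iv5 F21271)) (tt N8776 D13192) (tt N1931 (iv7 D6271)))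
theorem Q4216 : ∀ i, i < 4216 → P i := stepQ 4215 Q4215 (allL N4215 (tt N8777 D13193) (tt N2767 F297324) (tt N8698 (iv2 F21812)) (tt N1943 F9761) (tt N8770 (iv4 F21966)) (tt N8778 D13195) (tt N1932 (iv6 D6272)) (tt N8776 (iv7 F21972)))
theorem Q4217 : ∀ i, i < 4217 → P i := stepQ 4216 Q4216 (allL N4216 (tt N5520 (iv1 F12742)) (tt N1933 (iv0 D6273)) (tt N4064 F13904) (tt N6114 F13905) (tt N8779 D13196) (tt N8780 D13197) (tt N2550 F13906) (tt N5523 (iv7 F14033)))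
theorem Q4218 : ∀ i, i < 4218 → P i := stepQ 4217 Q4217 (allL N4217 (tt N1933 (iv1 D6274)) (tt N5520 F12741) (tt N5523 F14034) (tt N8781 D13198) (tt N8782 D13199) (tt N8783 D13200) (tt N8593 F21438) (tt N4064 F13907))
theorem Q4219 : ∀ i, i < 4219 → P i := stepQ 4218 Q4218 (allL N4218 (tt N8504 F21245) (tt N8784 D13201) (tt N8699 (iv2 F21814)) (tt N1945 F9762) (tt N8785 D13202) (tt N1933 (iv5 D6275)) (tt N8778 (iv6 F21974)) (tt N5524 (iv7 F12751)))
theorem Q4220 : ∀ i, i < 4220 → P i := stepQ 4219 Q4219 (allL N4219 (tt N2698 F14292) (tt N2696 (iv0 F14293)) (tt N1934 (iv2 D6278)) (tt N2758 F9764) (tt N8786 D13203) (tt N2805 F9765) (tt N8787 D13204) (tt N2765 F9766))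
theorem Q4221 : ∀ i, i < 4221 → P i := stepQ 4220 Q4220 (allL N4220 (tt N8788 D13205) (tt N8789 D13206) (tt N8786 (iv2 F21986)) (tt N8322 (iv3 F20834)) (tt N1934 (iv4 D6279)) (tt N8790 D13207) (tt N8791 D13208) (tt N2766 F9770))
theorem Q4222 : ∀ i, i < 4222 → P i := stepQ 4221 Q4221 (allL N4221 (tt N8792 D13209) (tt N8793 D13210) (tt N8787 (iv2 F21991)) (tt N1935 F9771) (tt N8791 (iv4 F22008)) (tt N8794 D13211) (tt N1934 (iv6 D6280)) (tt N8795 D13212))
theorem Q4223 : ∀ i, i < 4223 → P i := stepQ 4222 Q4222 (allL N4222 (tt N2764 (iv1 F9777)) (tt N1935 (iv0 D6281)) (tt N2761 F29865) (tt N8796 D13214) (tt N8459 (iv4 F30354)) (tt N8797 D13216) (tt N5813 F13265) (tt N2762 (iv7 F29873)))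
theorem Q4224 : ∀ i, i < 4224 → P i := stepQ 4223 Q4223 (allL N4223 (tt N1935 (iv1 D6282)) (tt N2764 F9772) (tt N2762 (iv2 F29872)) (tt N8739 F121075) (tt N8460 (iv4 F30358)) (tt N8798 D13220) (tt N8799 D13221) (tt N2761 F29866))
theorem Q4225 : ∀ i, i < 4225 → P i := stepQ 4224 Q4224 (allL N4224 (tt N8800 D13222) (tt N8801 D13223) (tt N2763 F9773) (tt N8794 (iv3 F22009)) (tt N8802 D13224) (tt N1935 (iv5 D6283)) (tt N2807 F9774) (tt N8803 D13225))
theorem Q4226 : ∀ i, i < 4226 → P i := stepQ 4225 Q4225 (allL N4225 (tt N2762 (iv1 F9778)) (tt N2761 F9779) (tt N2764 F9775) (tt N8795 (iv3 F22011)) (tt N8325 (iv4 F20845)) (tt N8803 (iv5 F22020)) (tt N2771 F9776) (tt N1935 (iv7 D6284)))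
theorem Q4227 : ∀ i, i < 4227 → P i := stepQ 4226 Q4226 (allL N4226 (tt N2686 (iv1 F9784)) (tt N2683 F9783) (tt N1936 (iv2 D6285)) (tt N2765 F9780) (tt N8804 D13226) (tt N2810 F9781) (tt N8805 D13227) (tt N2758 F9782))
theorem Q4228 : ∀ i, i < 4228 → P i := stepQ 4227 Q4227 (allL N4227 (tt N6698 (iv1 F16149)) (tt N6710 (iv0 F16208)) (tt N8804 (iv2 F22024)) (tt N8300 (iv3 F20770)) (tt N1936 (iv4 D6286)) (tt N8806 D13228) (tt N8807 D13229) (tt N2759 F9785))
theorem Q4229 : ∀ i, i < 4229 → P i := stepQ 4228 Q4228 (allL N4228 (tt N8808 D13230) (tt N8809 D13231) (tt N8805 (iv2 F22029)) (tt N1937 F9786) (tt N8807 (iv4 F22034)) (tt N8810 D13232) (tt N1936 (iv6 D6287)) (tt N8811 D13233))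
theorem Q4230 : ∀ i, i < 4230 → P i := stepQ 4229 Q4229 (allL N4229 (tt N2771 (iv1 F9792)) (tt N1937 (iv0 D6288)) (tt N2768 (iv2 F29764)) (tt N8674 F297365) (tt N8452 (iv4 F42637)) (tt N8812 D13237) (tt N8665 F297366) (tt N2769 F29763))
theorem Q4231 : ∀ i, i < 4231 → P i := stepQ 4230 Q4230 (allL N4230 (tt N1937 (iv1 D6289)) (tt N2771 F9787) (tt N2769 F29762) (tt N8813 D13240) (tt N8453 (iv4 F42641)) (tt N8814 D13242) (tt N6014 (iv6 F29784)) (tt N2768 (iv7 F29765)))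
theorem Q4232 : ∀ i, i < 4232 → P i := stepQ 4231 Q4231 (allL N4231 (tt N8815 D13244) (tt N8816 D13245) (tt N2770 F9788) (tt N8810 (iv3 F22035)) (tt N8817 D13246) (tt N1937 (iv5 D6290)) (tt N2793 F9789) (tt N8818 D13247))
theorem Q4233 : ∀ i, i < 4233 → P i := stepQ 4232 Q4232 (allL N4232 (tt N2769 (iv1 F9793)) (tt N2768 F9794) (tt N2771 F9790) (tt N8811 (iv3 F22037)) (tt N8304 (iv4 F20780)) (tt N8818 (iv5 F22048)) (tt N2764 F9791) (tt N1937 (iv7 D6291)))
theorem Q4234 : ∀ i, i < 4234 → P i := stepQ 4233 Q4233 (allL N4233 (tt N2403 (iv1 F9795)) (tt N1938 (iv0 D6292)) (tt N2405 F27175) (tt N8819 D13249) (tt N8820 D13250) (tt N5336 F27176) (tt N8821 D13252) (tt N2404 F27177))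
theorem Q4235 : ∀ i, i < 4235 → P i := stepQ 4234 Q4234 (allL N4234 (tt N1938 (iv1 D6293)) (tt N2403 F9800) (tt N2404 (iv2 F27170)) (tt N8822 D13254) (tt N8823 D13255) (tt N5332 F27160) (tt N8824 D13257) (tt N2405 (iv7 F27174)))
theorem Q4236 : ∀ i, i < 4236 → P i := stepQ 4235 Q4235 (allL N4235 (tt N2405 (iv1 F9801)) (tt N2404 F9799) (tt N1938 (iv2 D6294)) (tt N2774 F9796) (tt N8758 (iv4 F21943)) (tt N2392 F9797) (tt N8825 D13258) (tt N2403 F9798))
theorem Q4237 : ∀ i, i < 4237 → P i := stepQ 4236 Q4236 (allL N4236 (tt N8826 D13259) (tt N8827 D13260) (tt N8825 (iv2 F22054)) (tt N1939 F9802) (tt N8760 (iv4 F21951)) (tt N8828 D13261) (tt N1938 (iv6 D6295)) (tt N8829 D13262))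
theorem Q4238 : ∀ i, i < 4238 → P i := stepQ 4237 Q4237 (allL N4237 (tt N2779 (iv1 F9809)) (tt N1939 (iv0 D6296)) (tt N2776 (iv2 F30412)) (tt N8830 D13264) (tt N6052 (iv4 F29956)) (tt N8831 D13266) (tt N8832 D13267) (tt N2777 (iv7 F30403)))
theorem Q4239 : ∀ i, i < 4239 → P i := stepQ 4238 Q4238 (allL N4238 (tt N1939 (iv1 D6297)) (tt N2779 F9803) (tt N2777 (iv2 F30402)) (tt N8833 D13269) (tt N6053 (iv4 F29958)) (tt N8834 D13271) (tt N8835 D13272) (tt N2776 (iv7 F30413)))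
theorem Q4240 : ∀ i, i < 4240 → P i := stepQ 4239 Q4239 (allL N4239 (tt N8836 D13273) (tt N8837 D13274) (tt N2778 F9804) (tt N8828 (iv3 F22056)) (tt N8838 D13275) (tt N1939 (iv5 D6298)) (tt N2418 F9805) (tt N8839 D13276))
theorem Q4241 : ∀ i, i < 4241 → P i := stepQ 4240 Q4240 (allL N4240 (tt N2777 (iv1 F9810)) (tt N2776 F9811) (tt N2779 F9806) (tt N8829 (iv3 F22058)) (tt N1942 F9807) (tt N8839 (iv5 F22066)) (tt N2415 F9808) (tt N1939 (iv7 D6299)))
theorem Q4242 : ∀ i, i < 4242 → P i := stepQ 4241 Q4241 (allL N4241 (tt N8840 D13277) (tt N8678 F117177) (tt N8773 (iv2 F297759)) (tt N1940 (iv3 D6301)) (tt N8841 D13280) (tt N4213 (iv5 F298705)) (tt N6021 F13684) (tt N2784 F13707))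
theorem Q4243 : ∀ i, i < 4243 → P i := stepQ 4242 Q4242 (allL N4242 (tt N8842 D13282) (tt N2824 (iv0 F30436)) (tt N2781 F13708) (tt N8843 D13284) (tt N1940 (iv4 D6302)) (tt N8844 D13285) (tt N6026 (iv6 F13687)) (tt N2785 F13709))
theorem Q4244 : ∀ i, i < 4244 → P i := stepQ 4243 Q4243 (allL N4243 (tt N6017 (iv1 F13678)) (tt N5979 (iv0 F29779)) (tt N2782 F13710) (tt N4213 (iv3 F298704)) (tt N8845 D13286) (tt N1940 (iv5 D6303)) (tt N6028 (iv6 F13690)) (tt N2786 F13711))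
theorem Q4245 : ∀ i, i < 4245 → P i := stepQ 4244 Q4244 (allL N4244 (tt N6729 F116659) (tt N8846 D13288) (tt N8847 D13289) (tt N1941 (iv3 D6305)) (tt N8848 D13290) (tt N6008 F13662) (tt N8849 D13291) (tt N2780 F13699))
theorem Q4246 : ∀ i, i < 4246 → P i := stepQ 4245 Q4245 (allL N4245 (tt N2824 (iv1 F30437)) (tt N8842 F22079) (tt N2785 F13700) (tt N8850 D13292) (tt N1941 (iv4 D6306)) (tt N8851 D13293) (tt N8852 D13294) (tt N2781 F13701))
theorem Q4247 : ∀ i, i < 4247 → P i := stepQ 4246 Q4246 (allL N4246 (tt N5810 (iv1 F13716)) (tt N5813 F13696) (tt N2787 F13697) (tt N8849 (iv3 F22093)) (tt N8852 (iv4 F22098)) (tt N6016 (iv5 F13671)) (tt N1941 (iv6 D6307)) (tt N6016 (iv7 F13677)))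
theorem Q4248 : ∀ i, i < 4248 → P i := stepQ 4247 Q4247 (allL N4247 (tt N2790 (iv1 F9817)) (tt N2789 F9818) (tt N2788 F9814) (tt N8776 (iv3 F21971)) (tt N2415 F9815) (tt N8853 D13295) (tt N1942 (iv6 D6308)) (tt N1943 F9816))
theorem Q4249 : ∀ i, i < 4249 → P i := stepQ 4248 Q4248 (allL N4248 (tt N2788 (iv1 F9819)) (tt N1943 (iv0 D6309)) (tt N2789 F44656) (tt N8749 F298689) (tt N7227 (iv4 F37195)) (tt N8854 D13299) (tt N8855 D13300) (tt N2790 F44657))
theorem Q4250 : ∀ i, i < 4250 → P i := stepQ 4249 Q4249 (allL N4249 (tt N1943 (iv1 D6310)) (tt N2788 F9820) (tt N2790 (iv2 F44651)) (tt N8856 D13302) (tt N7228 (iv4 F37327)) (tt N8857 D13304) (tt N8742 F296466) (tt N2789 (iv7 F44655)))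
theorem Q4251 : ∀ i, i < 4251 → P i := stepQ 4250 Q4250 (allL N4250 (tt N8858 D13306) (tt N8859 D13307) (tt N2791 F9821) (tt N8778 (iv3 F21973)) (tt N8860 D13308) (tt N1943 (iv5 D6311)) (tt N1945 F9822) (tt N8853 (iv7 F22100)))
theorem Q4252 : ∀ i, i < 4252 → P i := stepQ 4251 Q4251 (allL N4251 (tt N2601 F9825) (tt N2603 F9826) (tt N2795 F9823) (tt N7135 (iv3 F17962)) (tt N8861 D13309) (tt N1944 (iv5 D6312)) (tt N8862 D13310) (tt N2793 F9824))
theorem Q4253 : ∀ i, i < 4253 → P i := stepQ 4252 Q4252 (allL N4252 (tt N1945 (iv1 D6313)) (tt N2509 F9827) (tt N2796 (iv2 F9830)) (tt N8863 D13311) (tt N8864 D13312) (tt N2481 F9829) (tt N8865 D13313) (tt N2480 F9828))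
theorem Q4254 : ∀ i, i < 4254 → P i := stepQ 4253 Q4253 (allL N4253 (tt N4110 F9832) (tt N5632 F12896) (tt N2797 F9831) (tt N8866 D13314) (tt N1945 (iv4 D6314)) (tt N5425 (iv5 F12404)) (tt N8860 (iv6 F22109)) (tt N5529 (iv7 F12763)))
theorem Q4255 : ∀ i, i < 4255 → P i := stepQ 4254 Q4254 (allL N4254 (tt N3385 (iv1 F9837)) (tt N1946 (iv0 D6315)) (tt N3543 (iv2 F9836)) (tt N2148 F9835) (tt N2174 F9834) (tt N3544 F9833) (tt N8867 D13315) (tt N4254 F9838))
theorem Q4256 : ∀ i, i < 4256 → P i := stepQ 4255 Q4255 (allL N4255 (tt N8868 D13316) (tt N8869 D13317) (tt N7177 (iv2 F18081)) (tt N1947 F9839) (tt N3387 F9840) (tt N8870 D13318) (tt N1946 (iv6 D6316)) (tt N8871 D13319))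
theorem Q4257 : ∀ i, i < 4257 → P i := stepQ 4256 Q4256 (allL N4256 (tt N1947 (iv1 D6318)) (tt N3676 F9841) (tt N3554 F19459) (tt N3775 F19460) (tt N4256 F19461) (tt N8872 D13320) (tt N8873 D13321) (tt N3674 F19504))
theorem Q4258 : ∀ i, i < 4258 → P i := stepQ 4257 Q4257 (allL N4257 (tt N7433 (iv1 F22151)) (tt N8874 D13323) (tt N3675 F9842) (tt N8870 (iv3 F22134)) (tt N8875 D13324) (tt N1947 (iv5 D6319)) (tt N3659 F9843) (tt N8876 D13325))
theorem Q4259 : ∀ i, i < 4259 → P i := stepQ 4258 Q4258 (allL N4258 (tt N3554 (iv1 F19502)) (tt N3674 F9849) (tt N3676 F9844) (tt N8871 (iv3 F22136)) (tt N3481 F9845) (tt N8876 (iv5 F22156)) (tt N4258 F9846) (tt N1947 (iv7 D6320)))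
theorem Q4260 : ∀ i, i < 4260 → P i := stepQ 4259 Q4259 (allL N4259 (tt N1952 (iv1 F9858)) (tt N1948 (iv0 D6321)) (tt N1949 F18915) (tt N8877 D13326) (tt N3585 (iv4 F9860)) (tt N8878 D13327) (tt N8879 D13328) (tt N1950 F18916))
theorem Q4261 : ∀ i, i < 4261 → P i := stepQ 4260 Q4260 (allL N4260 (tt N1948 (iv1 D6322)) (tt N1952 F9850) (tt N1950 F18934) (tt N7713 (iv3 F19176)) (tt N3796 F22464) (tt N8880 D13330) (tt N8881 D13331) (tt N1949 F18935))
theorem Q4262 : ∀ i, i < 4262 → P i := stepQ 4261 Q4261 (allL N4261 (tt N8882 D13332) (tt N8883 D13333) (tt N1951 F9851) (tt N3424 F9852) (tt N8884 D13334) (tt N1948 (iv5 D6323)) (tt N3424 F9853) (tt N8885 D13335))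
theorem Q4263 : ∀ i, i < 4263 → P i := stepQ 4262 Q4262 (allL N4262 (tt N1950 (iv1 F9859)) (tt N1949 F9861) (tt N1952 F9854) (tt N3425 F9855) (tt N4262 F9856) (tt N8885 (iv5 F22192)) (tt N4262 F9857) (tt N1948 (iv7 D6324)))
theorem Q4264 : ∀ i, i < 4264 → P i := stepQ 4263 Q4263 (allL N4263 (tt N4759 F19153) (tt N4597 (iv0 F19319)) (tt N7709 (iv2 F19170)) (tt N1949 (iv3 D6326)) (tt N7704 (iv4 F19152)) (tt N8886 D13336) (tt N8887 D13337) (tt N7713 (iv7 F19175)))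
theorem Q4265 : ∀ i, i < 4265 → P i := stepQ 4264 Q4264 (allL N4264 (tt N3798 F22457) (tt N3368 F22458) (tt N3585 F18909) (tt N3793 (iv3 F10353)) (tt N1949 (iv4 D6327)) (tt N8888 D13339) (tt N8889 D13340) (tt N3796 F22461))
theorem Q4266 : ∀ i, i < 4266 → P i := stepQ 4265 Q4265 (allL N4265 (tt N8890 D13341) (tt N7858 F22211) (tt N8878 (iv2 F22163)) (tt N8886 (iv3 F22197)) (tt N8891 D13342) (tt N1949 (iv5 D6328)) (tt N8892 D13343) (tt N8880 (iv7 F22176)))
theorem Q4267 : ∀ i, i < 4267 → P i := stepQ 4266 Q4266 (allL N4266 (tt N8873 (iv1 F22228)) (tt N7865 (iv0 F22227)) (tt N8879 (iv2 F22166)) (tt N8887 (iv3 F22198)) (tt N8889 (iv4 F22206)) (tt N8893 D13346) (tt N1949 (iv6 D6329)) (tt N8894 D13347))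
theorem Q4268 : ∀ i, i < 4268 → P i := stepQ 4267 Q4267 (allL N4267 (tt N8867 F22129) (tt N7846 (iv0 F19721)) (tt N8895 D13348) (tt N1950 (iv3 D6331)) (tt N3390 F10354) (tt N8896 D13349) (tt N8897 D13350) (tt N8877 (iv7 F22161)))
theorem Q4269 : ∀ i, i < 4269 → P i := stepQ 4268 Q4268 (allL N4268 (tt N3368 F22459) (tt N3798 F22460) (tt N3796 F22462) (tt N3582 (iv3 F9864)) (tt N1950 (iv4 D6332)) (tt N8898 D13351) (tt N8899 D13352) (tt N3585 F18917))
theorem Q4270 : ∀ i, i < 4270 → P i := stepQ 4269 Q4269 (allL N4269 (tt N7858 (iv1 F22212)) (tt N8890 F22208) (tt N8880 (iv2 F22175)) (tt N8896 (iv3 F22220)) (tt N8900 D13353) (tt N1950 (iv5 D6333)) (tt N8901 D13354) (tt N8878 (iv7 F22164)))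
theorem Q4271 : ∀ i, i < 4271 → P i := stepQ 4270 Q4270 (allL N4270 (tt N4934 F22224) (tt N7403 (iv0 F22223)) (tt N8881 (iv2 F22178)) (tt N8897 (iv3 F22221)) (tt N8899 (iv4 F22232)) (tt N8223 (iv5 F20543)) (tt N1950 (iv6 D6334)) (tt N8902 D13355))
theorem Q4272 : ∀ i, i < 4272 → P i := stepQ 4271 Q4271 (allL N4271 (tt N8885 (iv1 F22195)) (tt N1951 (iv0 D6335)) (tt N8882 (iv2 F22940)) (tt N8903 D13357) (tt N8904 D13358) (tt N8226 (iv5 F22196)) (tt N8905 D13359) (tt N8883 (iv7 F22938)))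
theorem Q4273 : ∀ i, i < 4273 → P i := stepQ 4272 Q4272 (allL N4272 (tt N1951 (iv1 D6336)) (tt N8885 F22194) (tt N8883 (iv2 F22937)) (tt N8906 D13361) (tt N8907 D13362) (tt N8227 (iv5 F23670)) (tt N8908 D13364) (tt N8882 (iv7 F22941)))
theorem Q4274 : ∀ i, i < 4274 → P i := stepQ 4273 Q4273 (allL N4273 (tt N8909 D13365) (tt N8910 D13366) (tt N8884 (iv2 F22188)) (tt N8911 D13367) (tt N1951 (iv4 D6337)) (tt N8912 D13368) (tt N4298 (iv6 F10403)) (tt N8913 D13369))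
theorem Q4275 : ∀ i, i < 4275 → P i := stepQ 4274 Q4274 (allL N4274 (tt N8883 (iv1 F22184)) (tt N8882 F22193) (tt N8885 (iv2 F22190)) (tt N1956 F9865) (tt N8913 (iv4 F22238)) (tt N1952 F9866) (tt N8914 D13370) (tt N1951 (iv7 D6338)))
theorem Q4276 : ∀ i, i < 4276 → P i := stepQ 4275 Q4275 (allL N4275 (tt N7848 (iv1 F22342)) (tt N7464 (iv0 F22339)) (tt N8915 D13373) (tt N1953 (iv3 D6339)) (tt N8916 D13374) (tt N3747 F9867) (tt N8917 D13375) (tt N4302 (iv7 F10410)))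
theorem Q4277 : ∀ i, i < 4277 → P i := stepQ 4276 Q4276 (allL N4276 (tt N8918 D13376) (tt N8919 D13377) (tt N4301 (iv2 F10408)) (tt N8917 (iv3 F22244)) (tt N7839 (iv4 F19710)) (tt N8231 F20551) (tt N1953 (iv6 D6340)) (tt N8920 D13378))
theorem Q4278 : ∀ i, i < 4278 → P i := stepQ 4277 Q4277 (allL N4277 (tt N7416 F19555) (tt N7880 F19820) (tt N8921 D13379) (tt N1954 (iv3 D6341)) (tt N8922 D13380) (tt N3764 F9868) (tt N8923 D13381) (tt N4300 (iv7 F10407)))
theorem Q4279 : ∀ i, i < 4279 → P i := stepQ 4278 Q4278 (allL N4278 (tt N8924 D13382) (tt N8925 D13383) (tt N4303 (iv2 F10411)) (tt N8923 (iv3 F22250)) (tt N7841 (iv4 F19713)) (tt N4529 (iv5 F10785)) (tt N1954 (iv6 D6342)) (tt N8926 D13384))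
theorem Q4280 : ∀ i, i < 4280 → P i := stepQ 4279 Q4279 (allL N4279 (tt N8927 D13385) (tt N8928 D13386) (tt N8929 D13387) (tt N1955 (iv3 D6343)) (tt N8911 (iv4 F22237)) (tt N8930 D13388) (tt N4304 (iv6 F10412)) (tt N8931 D13389))
theorem Q4281 : ∀ i, i < 4281 → P i := stepQ 4280 Q4280 (allL N4280 (tt N3619 F9871) (tt N3616 F9872) (tt N4281 (iv2 F9873)) (tt N8930 (iv3 F22251)) (tt N1978 F9869) (tt N1955 (iv5 D6344)) (tt N8932 D13390) (tt N1977 F9870))
theorem Q4282 : ∀ i, i < 4282 → P i := stepQ 4281 Q4281 (allL N4281 (tt N3730 (iv1 F9876)) (tt N3727 F9877) (tt N4280 F9873) (tt N8931 (iv3 F22253)) (tt N1956 F9874) (tt N1977 F9875) (tt N8933 D13391) (tt N1955 (iv7 D6345)))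
theorem Q4283 : ∀ i, i < 4283 → P i := stepQ 4282 Q4282 (allL N4282 (tt N8934 D13392) (tt N8934 F22260) (tt N4305 (iv2 F10413)) (tt N8914 (iv3 F22239)) (tt N8933 (iv4 F22257)) (tt N4282 F9878) (tt N1956 (iv6 D6346)) (tt N4305 (iv7 F10415)))
theorem Q4284 : ∀ i, i < 4284 → P i := stepQ 4283 Q4283 (allL N4283 (tt N7872 (iv1 F19788)) (tt N7871 F19785) (tt N3483 F9888) (tt N7580 (iv3 F18967)) (tt N8935 D13393) (tt N1957 (iv5 D6355)) (tt N8936 D13394) (tt N3486 F9889))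
theorem Q4285 : ∀ i, i < 4285 → P i := stepQ 4284 Q4284 (allL N4284 (tt N7290 F18342) (tt N8937 D13395) (tt N3484 F9890) (tt N7581 (iv3 F18969)) (tt N1959 F9891) (tt N7927 F19924) (tt N1957 (iv6 D6356)) (tt N8938 D13396))
theorem Q4286 : ∀ i, i < 4286 → P i := stepQ 4285 Q4285 (allL N4285 (tt N7866 (iv1 F19769)) (tt N3803 (iv0 F9892)) (tt N3628 (iv2 F10137)) (tt N8939 D13397) (tt N1958 (iv4 D6359)) (tt N7275 (iv5 F18292)) (tt N7954 F19985) (tt N3683 F10138))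
theorem Q4287 : ∀ i, i < 4287 → P i := stepQ 4286 Q4286 (allL N4286 (tt N1959 (iv1 D6360)) (tt N3633 F10355) (tt N3631 F10358) (tt N7280 (iv3 F18312)) (tt N7388 F18561) (tt N4461 F10627) (tt N3753 (iv6 F10357)) (tt N3630 F10356))
theorem Q4288 : ∀ i, i < 4288 → P i := stepQ 4287 Q4287 (allL N4287 (tt N3631 (iv1 F10363)) (tt N3630 F10364) (tt N3633 F10359) (tt N1962 F10360) (tt N8938 (iv4 F22270)) (tt N2075 F10361) (tt N3685 F10362) (tt N1959 (iv7 D6361)))
theorem Q4289 : ∀ i, i < 4289 → P i := stepQ 4288 Q4288 (allL N4288 (tt N8940 D13398) (tt N3881 (iv0 F11437)) (tt N8941 D13399) (tt N1960 (iv3 D6362)) (tt N8939 (iv4 F22275)) (tt N3615 F10365) (tt N8129 F20316) (tt N4307 (iv7 F10421)))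
theorem Q4290 : ∀ i, i < 4290 → P i := stepQ 4289 Q4289 (allL N4289 (tt N4680 (iv1 F22471)) (tt N4723 (iv0 F22472)) (tt N4661 (iv2 F22487)) (tt N1963 (iv3 D6363)) (tt N3656 F10366) (tt N3618 F10367) (tt N2106 F10368) (tt N4306 (iv7 F10418)))
theorem Q4291 : ∀ i, i < 4291 → P i := stepQ 4290 Q4290 (allL N4290 (tt N3933 F10371) (tt N2281 F10372) (tt N4290 F10369) (tt N8942 D13403) (tt N1965 (iv4 D6364)) (tt N4897 (iv5 F11388)) (tt N1966 F10370) (tt N4897 (iv7 F11387)))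
theorem Q4292 : ∀ i, i < 4292 → P i := stepQ 4291 Q4291 (allL N4291 (tt N7288 (iv1 F26305)) (tt N8943 D13405) (tt N8944 D13406) (tt N1966 (iv3 D6365)) (tt N3422 F10373) (tt N2528 F26285) (tt N8942 (iv6 F22294)) (tt N5058 (iv7 F11603)))
theorem Q4293 : ∀ i, i < 4293 → P i := stepQ 4292 Q4292 (allL N4292 (tt N2453 (iv1 F10383)) (tt N2261 F10382) (tt N4292 F10379) (tt N3455 F10380) (tt N2085 F26410) (tt N1968 F10381) (tt N4900 (iv6 F26411)) (tt N1967 (iv7 D6368)))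
theorem Q4294 : ∀ i, i < 4294 → P i := stepQ 4293 Q4293 (allL N4293 (tt N1970 (iv1 D6370)) (tt N4294 F10395) (tt N4293 F10387) (tt N1980 (iv3 F10385)) (tt N3912 F10384) (tt N4507 F10714) (tt N3934 (iv6 F10386)) (tt N2447 F10388))
theorem Q4295 : ∀ i, i < 4295 → P i := stepQ 4294 Q4294 (allL N4294 (tt N4293 (iv1 F10395)) (tt N2447 F10394) (tt N4294 F10390) (tt N3499 F10391) (tt N3913 F10392) (tt N2089 F10393) (tt N4295 (iv6 F10400)) (tt N1970 (iv7 D6371)))
theorem Q4296 : ∀ i, i < 4296 → P i := stepQ 4295 Q4295 (allL N4295 (tt N2282 (iv1 F10402)) (tt N3934 F10401) (tt N4295 F10397) (tt N7282 (iv3 F18322)) (tt N2262 F10398) (tt N2258 F10399) (tt N4294 F10400) (tt N1972 (iv7 D6372)))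
theorem Q4297 : ∀ i, i < 4297 → P i := stepQ 4296 Q4296 (allL N4296 (tt N7249 (iv1 F18222)) (tt N1973 (iv0 D6373)) (tt N7246 F18215) (tt N8945 D13412) (tt N7965 (iv4 F20002)) (tt N4907 F11428) (tt N8946 D13413) (tt N7247 (iv7 F18214)))
theorem Q4298 : ∀ i, i < 4298 → P i := stepQ 4297 Q4297 (allL N4297 (tt N1973 (iv1 D6374)) (tt N7249 F18221) (tt N7247 (iv2 F18213)) (tt N8947 D13414) (tt N7966 (iv4 F20003)) (tt N4908 (iv5 F11432)) (tt N8948 D13415) (tt N7246 F18216))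
theorem Q4299 : ∀ i, i < 4299 → P i := stepQ 4298 Q4298 (allL N4298 (tt N8949 D13416) (tt N8950 D13417) (tt N7248 (iv2 F18218)) (tt N8951 D13418) (tt N1973 (iv4 D6375)) (tt N8952 D13419) (tt N4273 F10403) (tt N8953 D13420))
theorem Q4300 : ∀ i, i < 4300 → P i := stepQ 4299 Q4299 (allL N4299 (tt N7247 (iv1 F18211)) (tt N7246 F18217) (tt N7249 (iv2 F18219)) (tt N1978 F10404) (tt N8953 (iv4 F22314)) (tt N1974 F10405) (tt N8954 D13421) (tt N1973 (iv7 D6376)))
theorem Q4301 : ∀ i, i < 4301 → P i := stepQ 4300 Q4300 (allL N4300 (tt N7646 (iv1 F19821)) (tt N7417 (iv0 F19353)) (tt N8955 D13422) (tt N1975 (iv3 D6377)) (tt N8956 D13423) (tt N3646 F10406) (tt N8957 D13424) (tt N4277 F10407))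
theorem Q4302 : ∀ i, i < 4302 → P i := stepQ 4301 Q4301 (allL N4301 (tt N8958 D13425) (tt N8959 D13426) (tt N4276 F10408) (tt N8957 (iv3 F22326)) (tt N7630 (iv4 F19022)) (tt N4914 (iv5 F11440)) (tt N1975 (iv6 D6378)) (tt N8960 D13427))
theorem Q4303 : ∀ i, i < 4303 → P i := stepQ 4302 Q4302 (allL N4302 (tt N7463 F19487) (tt N7671 F19488) (tt N8961 D13428) (tt N1976 (iv3 D6379)) (tt N8962 D13429) (tt N3656 F10409) (tt N8963 D13430) (tt N4275 F10410))
theorem Q4304 : ∀ i, i < 4304 → P i := stepQ 4303 Q4303 (allL N4303 (tt N8964 D13431) (tt N8965 D13432) (tt N4278 F10411) (tt N8963 (iv3 F22348)) (tt N5599 (iv4 F323632)) (tt N4438 (iv5 F10609)) (tt N1976 (iv6 D6380)) (tt N5598 (iv7 F323635)))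
theorem Q4305 : ∀ i, i < 4305 → P i := stepQ 4304 Q4304 (allL N4304 (tt N8966 D13434) (tt N8967 D13435) (tt N8968 D13436) (tt N1977 (iv3 D6381)) (tt N8951 (iv4 F22312)) (tt N8931 (iv5 F22254)) (tt N4279 F10412) (tt N8930 F22252))
theorem Q4306 : ∀ i, i < 4306 → P i := stepQ 4305 Q4305 (allL N4305 (tt N8969 D13437) (tt N8969 F22357) (tt N4282 F10413) (tt N8954 (iv3 F22317)) (tt N8932 (iv4 F22255)) (tt N4305 F10414) (tt N1978 (iv6 D6382)) (tt N4282 F10415))
theorem Q4307 : ∀ i, i < 4307 → P i := stepQ 4306 Q4306 (allL N4306 (tt N8970 D13438) (tt N2187 (iv0 F22474)) (tt N8971 D13440) (tt N1979 (iv3 D6383)) (tt N3747 F10416) (tt N3726 F10417) (tt N4711 (iv6 F22554)) (tt N4289 F10418))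
theorem Q4308 : ∀ i, i < 4308 → P i := stepQ 4307 Q4307 (allL N4307 (tt N8119 (iv1 F20330)) (tt N8134 (iv0 F20329)) (tt N8109 (iv2 F20245)) (tt N1982 (iv3 D6384)) (tt N7737 (iv4 F19219)) (tt N3729 F10419) (tt N2065 F10420) (tt N4288 F10421))
theorem Q4309 : ∀ i, i < 4309 → P i := stepQ 4308 Q4308 (allL N4308 (tt N7318 F18420) (tt N7394 (iv0 F18582)) (tt N7230 (iv2 F18172)) (tt N2085 F10422) (tt N8972 D13441) (tt N1984 (iv5 D6385)) (tt N4351 F10476) (tt N4508 (iv7 F10720)))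
theorem Q4310 : ∀ i, i < 4310 → P i := stepQ 4309 Q4309 (allL N4309 (tt N7394 F18583) (tt N7318 (iv0 F18419)) (tt N4508 (iv2 F10718)) (tt N4309 F10423) (tt N8973 D13442) (tt N1985 (iv5 D6386)) (tt N7258 (iv6 F18245)) (tt N7230 (iv7 F18175)))
theorem Q4311 : ∀ i, i < 4311 → P i := stepQ 4310 Q4310 (allL N4310 (tt N4357 (iv1 F10497)) (tt N3418 F10488) (tt N4355 (iv2 F10487)) (tt N4310 F10424) (tt N7914 (iv4 F19887)) (tt N7285 (iv5 F18331)) (tt N1985 (iv6 D6387)) (tt N4356 (iv7 F10489)))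
theorem Q4312 : ∀ i, i < 4312 → P i := stepQ 4311 Q4311 (allL N4311 (tt N7232 (iv1 F18184)) (tt N1986 (iv0 D6388)) (tt N7231 F18176) (tt N2089 F10750) (tt N7920 (iv4 F19906)) (tt N3499 F10751) (tt N8974 D13443) (tt N3498 F10752))
theorem Q4313 : ∀ i, i < 4313 → P i := stepQ 4312 Q4312 (allL N4312 (tt N1986 (iv1 D6389)) (tt N7232 F18183) (tt N3498 F10426) (tt N4312 F10427) (tt N7921 (iv4 F19912)) (tt N3443 (iv5 F10425)) (tt N7312 (iv6 F18401)) (tt N7231 (iv7 F18178)))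
theorem Q4314 : ∀ i, i < 4314 → P i := stepQ 4313 Q4313 (allL N4313 (tt N3498 (iv1 F10430)) (tt N7231 F18179) (tt N7232 (iv2 F18180)) (tt N1992 F10428) (tt N8061 (iv4 F20183)) (tt N1987 F10429) (tt N5353 (iv6 F12072)) (tt N1986 (iv7 D6390)))
theorem Q4315 : ∀ i, i < 4315 → P i := stepQ 4314 Q4314 (allL N4314 (tt N4552 (iv1 F10859)) (tt N4553 (iv0 F10862)) (tt N4316 (iv2 F10433)) (tt N8975 D13444) (tt N1988 (iv4 D6391)) (tt N4589 (iv5 F10948)) (tt N3765 F10431) (tt N4317 (iv7 F10438)))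
theorem Q4316 : ∀ i, i < 4316 → P i := stepQ 4315 Q4315 (allL N4315 (tt N4553 (iv1 F10863)) (tt N4552 (iv0 F10858)) (tt N4317 (iv2 F10436)) (tt N8976 D13445) (tt N1989 (iv4 D6392)) (tt N4590 (iv5 F10954)) (tt N2616 F10432) (tt N4316 (iv7 F10435)))
theorem Q4317 : ∀ i, i < 4317 → P i := stepQ 4316 Q4316 (allL N4316 (tt N4469 (iv1 F10639)) (tt N4470 (iv0 F10640)) (tt N4314 F10433) (tt N8977 D13446) (tt N1993 (iv4 D6393)) (tt N4502 (iv5 F10708)) (tt N2248 F10434) (tt N4315 F10435))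
theorem Q4318 : ∀ i, i < 4318 → P i := stepQ 4317 Q4317 (allL N4317 (tt N4470 (iv1 F10641)) (tt N4469 (iv0 F10638)) (tt N4315 F10436) (tt N8978 D13447) (tt N1994 (iv4 D6394)) (tt N4503 (iv5 F10709)) (tt N2341 F26400) (tt N4314 F10438))
theorem Q4319 : ∀ i, i < 4319 → P i := stepQ 4318 Q4318 (allL N4318 (tt N8979 D13448) (tt N8980 D13449) (tt N7700 (iv2 F19141)) (tt N2000 F10439) (tt N3576 F10440) (tt N8981 D13450) (tt N1998 (iv6 D6395)) (tt N8982 D13451))
theorem Q4320 : ∀ i, i < 4320 → P i := stepQ 4319 Q4319 (allL N4319 (tt N8983 D13452) (tt N4515 (iv0 F19540)) (tt N4323 (iv2 F10444)) (tt N3577 F10441) (tt N2000 F10442) (tt N8984 D13453) (tt N1999 (iv6 D6396)) (tt N8985 D13454))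
theorem Q4321 : ∀ i, i < 4321 → P i := stepQ 4320 Q4320 (allL N4320 (tt N4326 (iv1 F10453)) (tt N2000 (iv0 D6397)) (tt N2054 F19533) (tt N4523 F19534) (tt N2160 F22484) (tt N8986 D13455) (tt N7687 F19536) (tt N4324 F19537))
theorem Q4322 : ∀ i, i < 4322 → P i := stepQ 4321 Q4321 (allL N4321 (tt N8987 D13456) (tt N4538 (iv0 F19421)) (tt N4325 (iv2 F10448)) (tt N8981 (iv3 F22386)) (tt N8988 D13457) (tt N2000 (iv5 D6399)) (tt N7178 (iv6 F18083)) (tt N8989 D13458))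
theorem Q4323 : ∀ i, i < 4323 → P i := stepQ 4322 Q4322 (allL N4322 (tt N4324 (iv1 F10447)) (tt N2054 F19472) (tt N4326 (iv2 F10449)) (tt N8982 (iv3 F22387)) (tt N8985 (iv4 F22396)) (tt N8989 (iv5 F22403)) (tt N4322 F10443) (tt N2000 (iv7 D6400)))
theorem Q4324 : ∀ i, i < 4324 → P i := stepQ 4323 Q4323 (allL N4323 (tt N7301 F19478) (tt N8990 D13459) (tt N4319 F10444) (tt N3386 F10445) (tt N2002 F10446) (tt N8991 D13460) (tt N2001 (iv6 D6401)) (tt N8992 D13461))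
theorem Q4325 : ∀ i, i < 4325 → P i := stepQ 4324 Q4324 (allL N4324 (tt N2002 (iv1 D6403)) (tt N4322 F10447) (tt N2099 F19474) (tt N4440 F19475) (tt N2164 F22504) (tt N8993 D13462) (tt N8994 D13463) (tt N4320 (iv7 F19537)))
theorem Q4326 : ∀ i, i < 4326 → P i := stepQ 4325 Q4325 (allL N4325 (tt N4446 (iv1 F22426)) (tt N8995 D13465) (tt N4321 F10448) (tt N7698 (iv3 F19137)) (tt N8996 D13466) (tt N2002 (iv5 D6404)) (tt N7179 (iv6 F18087)) (tt N8997 D13467))
theorem Q4327 : ∀ i, i < 4327 → P i := stepQ 4326 Q4326 (allL N4326 (tt N2099 F19539) (tt N4320 F10453) (tt N4322 F10449) (tt N7699 (iv3 F19139)) (tt N8992 (iv4 F22414)) (tt N8997 (iv5 F22429)) (tt N4326 F10450) (tt N2002 (iv7 D6405)))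
theorem Q4328 : ∀ i, i < 4328 → P i := stepQ 4327 Q4327 (allL N4327 (tt N2007 (iv1 F10459)) (tt N2003 (iv0 D6406)) (tt N2004 F18941) (tt N3670 (iv3 F18111)) (tt N7184 (iv4 F18109)) (tt N8998 D13468) (tt N8999 D13469) (tt N2005 F18942))
theorem Q4329 : ∀ i, i < 4329 → P i := stepQ 4328 Q4328 (allL N4328 (tt N2003 (iv1 D6407)) (tt N2007 F10454) (tt N2005 F18938) (tt N7552 (iv3 F18903)) (tt N7555 F18901) (tt N9000 D13470) (tt N7685 (iv6 F22577)) (tt N2004 F18939))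
theorem Q4330 : ∀ i, i < 4330 → P i := stepQ 4329 Q4329 (allL N4329 (tt N9001 D13471) (tt N9002 D13472) (tt N2006 F10455) (tt N7182 (iv3 F18098)) (tt N9003 D13473) (tt N2003 (iv5 D6408)) (tt N7420 (iv6 F18652)) (tt N9004 D13474))
theorem Q4331 : ∀ i, i < 4331 → P i := stepQ 4330 Q4330 (allL N4330 (tt N2005 (iv1 F10460)) (tt N2004 F10461) (tt N2007 F10456) (tt N7183 (iv3 F18100)) (tt N2171 F10457) (tt N9004 (iv5 F22610)) (tt N4330 F10458) (tt N2003 (iv7 D6409)))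
theorem Q4332 : ∀ i, i < 4332 → P i := stepQ 4331 Q4331 (allL N4331 (tt N7879 F19816) (tt N7415 (iv0 F19392)) (tt N7940 (iv2 F19968)) (tt N2004 (iv3 D6411)) (tt N7528 (iv4 F18861)) (tt N9005 D13475) (tt N9006 D13476) (tt N7552 F18940))
theorem Q4333 : ∀ i, i < 4333 → P i := stepQ 4332 Q4332 (allL N4332 (tt N9007 D13477) (tt N3658 (iv0 F10463)) (tt N7184 (iv2 F18947)) (tt N7529 F18860) (tt N2004 (iv4 D6412)) (tt N9008 D13478) (tt N9009 D13479) (tt N7555 (iv7 F18937)))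
theorem Q4334 : ∀ i, i < 4334 → P i := stepQ 4333 Q4333 (allL N4333 (tt N9010 D13480) (tt N8205 F22562) (tt N8998 (iv2 F22432)) (tt N9005 (iv3 F22615)) (tt N9011 D13481) (tt N2004 (iv5 D6413)) (tt N9012 D13482) (tt N9000 (iv7 F22602)))
theorem Q4335 : ∀ i, i < 4335 → P i := stepQ 4334 Q4334 (allL N4334 (tt N8994 (iv1 F22628)) (tt N7870 (iv0 F22625)) (tt N8999 (iv2 F22598)) (tt N9006 (iv3 F22616)) (tt N9009 (iv4 F22623)) (tt N9013 D13483) (tt N2004 (iv6 D6414)) (tt N9014 D13484))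
theorem Q4336 : ∀ i, i < 4336 → P i := stepQ 4335 Q4335 (allL N4335 (tt N3668 (iv1 F18106)) (tt N3673 (iv0 F18105)) (tt N3671 F19156) (tt N2005 (iv3 D6416)) (tt N9015 D13485) (tt N9016 D13486) (tt N9017 D13487) (tt N3670 F18943))
theorem Q4337 : ∀ i, i < 4337 → P i := stepQ 4336 Q4336 (allL N4336 (tt N3658 F18104) (tt N9007 F22620) (tt N7555 F18948) (tt N7181 F18096) (tt N2005 (iv4 D6417)) (tt N9018 D13488) (tt N9019 D13489) (tt N7184 F18944))
theorem Q4338 : ∀ i, i < 4338 → P i := stepQ 4337 Q4337 (allL N4337 (tt N8205 (iv1 F22561)) (tt N9010 F22627) (tt N9000 (iv2 F22601)) (tt N9016 (iv3 F22641)) (tt N9020 D13490) (tt N2005 (iv5 D6418)) (tt N9021 D13491) (tt N8998 (iv7 F22434)))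
theorem Q4339 : ∀ i, i < 4339 → P i := stepQ 4338 Q4338 (allL N4338 (tt N3747 F22595) (tt N7687 F22596) (tt N7685 F22578) (tt N9017 (iv3 F22644)) (tt N9019 (iv4 F22646)) (tt N7675 (iv5 F19733)) (tt N2005 (iv6 D6419)) (tt N7686 (iv7 F22580)))
theorem Q4340 : ∀ i, i < 4340 → P i := stepQ 4339 Q4339 (allL N4339 (tt N9004 (iv1 F22613)) (tt N2006 (iv0 D6420)) (tt N9001 (iv2 F22932)) (tt N9022 D13493) (tt N9023 D13494) (tt N7678 F22614) (tt N9024 D13495) (tt N9002 (iv7 F22930)))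
theorem Q4341 : ∀ i, i < 4341 → P i := stepQ 4340 Q4340 (allL N4340 (tt N2006 (iv1 D6421)) (tt N9004 F22612) (tt N9002 (iv2 F22929)) (tt N9025 D13497) (tt N9026 D13498) (tt N7679 (iv5 F26054)) (tt N9027 D13500) (tt N9001 (iv7 F22933)))
theorem Q4342 : ∀ i, i < 4342 → P i := stepQ 4341 Q4341 (allL N4341 (tt N9028 D13501) (tt N9029 D13502) (tt N9003 (iv2 F22608)) (tt N9030 D13503) (tt N2006 (iv4 D6422)) (tt N9031 D13504) (tt N7431 (iv6 F18663)) (tt N9032 D13505))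
theorem Q4343 : ∀ i, i < 4343 → P i := stepQ 4342 Q4342 (allL N4342 (tt N9002 (iv1 F22604)) (tt N9001 F22611) (tt N9004 (iv2 F22609)) (tt N2011 F10465) (tt N9032 (iv4 F22651)) (tt N2007 F10466) (tt N9033 D13506) (tt N2006 (iv7 D6423)))
theorem Q4344 : ∀ i, i < 4344 → P i := stepQ 4343 Q4343 (allL N4343 (tt N3682 (iv1 F10469)) (tt N3659 (iv0 F10468)) (tt N3679 F11491) (tt N2008 (iv3 D6424)) (tt N7378 (iv4 F18542)) (tt N3495 F10467) (tt N9034 D13507) (tt N3680 (iv7 F11490)))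
theorem Q4345 : ∀ i, i < 4345 → P i := stepQ 4344 Q4344 (allL N4344 (tt N9035 D13508) (tt N9036 D13509) (tt N7196 (iv2 F18119)) (tt N9034 (iv3 F22655)) (tt N8190 (iv4 F20453)) (tt N9037 D13510) (tt N2008 (iv6 D6425)) (tt N9038 D13511))
theorem Q4346 : ∀ i, i < 4346 → P i := stepQ 4345 Q4345 (allL N4345 (tt N4415 F19553) (tt N8221 F20539) (tt N9039 D13512) (tt N2009 (iv3 D6426)) (tt N9040 D13513) (tt N5300 F11970) (tt N9041 D13514) (tt N7195 (iv7 F18118)))
theorem Q4347 : ∀ i, i < 4347 → P i := stepQ 4346 Q4346 (allL N4346 (tt N9042 D13515) (tt N9043 D13516) (tt N7197 (iv2 F18121)) (tt N9041 (iv3 F22663)) (tt N8193 (iv4 F20459)) (tt N5302 (iv5 F11972)) (tt N2009 (iv6 D6427)) (tt N9044 D13517))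
theorem Q4348 : ∀ i, i < 4348 → P i := stepQ 4347 Q4347 (allL N4347 (tt N9045 D13518) (tt N9046 D13519) (tt N9047 D13520) (tt N2010 (iv3 D6428)) (tt N9030 (iv4 F22650)) (tt N9048 D13521) (tt N7436 (iv6 F18670)) (tt N9049 D13522))
theorem Q4349 : ∀ i, i < 4349 → P i := stepQ 4348 Q4348 (allL N4348 (tt N4778 (iv1 F11231)) (tt N4800 (iv0 F11253)) (tt N7199 (iv2 F18123)) (tt N9048 (iv3 F22664)) (tt N7213 (iv4 F18148)) (tt N2010 (iv5 D6429)) (tt N9050 D13523) (tt N7211 F18144))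
theorem Q4350 : ∀ i, i < 4350 → P i := stepQ 4349 Q4349 (allL N4349 (tt N3902 (iv1 F10471)) (tt N3899 F10472) (tt N4811 F11265) (tt N9049 (iv3 F22665)) (tt N2011 F10470) (tt N7211 (iv5 F18143)) (tt N9051 D13524) (tt N2010 (iv7 D6430)))
theorem Q4351 : ∀ i, i < 4351 → P i := stepQ 4350 Q4350 (allL N4350 (tt N9052 D13525) (tt N9053 D13526) (tt N7200 (iv2 F18126)) (tt N9033 (iv3 F22652)) (tt N9051 (iv4 F22666)) (tt N4350 F10473) (tt N2011 (iv6 D6431)) (tt N7439 (iv7 F18675)))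
theorem Q4352 : ∀ i, i < 4352 → P i := stepQ 4351 Q4351 (allL N4351 (tt N3426 (iv1 F10475)) (tt N2012 (iv0 D6432)) (tt N3505 (iv2 F10478)) (tt N2259 F10477) (tt N9054 D13527) (tt N3445 F10474) (tt N4308 (iv6 F10476)) (tt N4899 (iv7 F11396)))
theorem Q4353 : ∀ i, i < 4353 → P i := stepQ 4352 Q4352 (allL N4352 (tt N2012 (iv1 D6433)) (tt N3426 F10479) (tt N4899 F11397) (tt N4352 F10481) (tt N9055 D13528) (tt N3506 (iv5 F10482)) (tt N4119 F18201) (tt N3505 F10480))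
theorem Q4354 : ∀ i, i < 4354 → P i := stepQ 4353 Q4353 (allL N4353 (tt N7878 (iv1 F19811)) (tt N7976 (iv0 F20016)) (tt N7233 (iv2 F18185)) (tt N9056 D13529) (tt N2012 (iv4 D6434)) (tt N8009 (iv5 F20061)) (tt N9057 D13530) (tt N7203 (iv7 F18133)))
theorem Q4355 : ∀ i, i < 4355 → P i := stepQ 4354 Q4354 (allL N4354 (tt N5473 F12663) (tt N9058 D13531) (tt N7234 (iv2 F18187)) (tt N2016 F10483) (tt N9057 (iv4 F22680)) (tt N7295 (iv5 F18350)) (tt N2012 (iv6 D6435)) (tt N7295 (iv7 F18351)))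
theorem Q4356 : ∀ i, i < 4356 → P i := stepQ 4355 Q4355 (allL N4355 (tt N7235 (iv1 F18194)) (tt N2013 (iv0 D6436)) (tt N4310 F10487) (tt N2088 F10484) (tt N5306 (iv4 F11983)) (tt N7311 (iv5 F18391)) (tt N2086 (iv6 F10485)) (tt N3496 (iv7 F10486)))
theorem Q4357 : ∀ i, i < 4357 → P i := stepQ 4356 Q4356 (allL N4356 (tt N2013 (iv1 D6437)) (tt N7235 F18193) (tt N3496 F10491) (tt N4356 F10492) (tt N9059 D13532) (tt N7312 F18398) (tt N3442 (iv6 F10490)) (tt N4310 F10489))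
theorem Q4358 : ∀ i, i < 4358 → P i := stepQ 4357 Q4357 (allL N4357 (tt N3496 (iv1 F10496)) (tt N4310 F10497) (tt N7235 (iv2 F18189)) (tt N2017 F10493) (tt N7955 (iv4 F19988)) (tt N3466 F10494) (tt N3745 F10495) (tt N2013 (iv7 D6438)))
theorem Q4359 : ∀ i, i < 4359 → P i := stepQ 4358 Q4358 (allL N4358 (tt N9060 D13533) (tt N9061 D13534) (tt N9062 D13535) (tt N2015 (iv3 D6439)) (tt N9056 (iv4 F22679)) (tt N4983 (iv5 F11532)) (tt N9063 D13536) (tt N7204 (iv7 F18136)))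
theorem Q4360 : ∀ i, i < 4360 → P i := stepQ 4359 Q4359 (allL N4359 (tt N4892 F11593) (tt N4893 F18132) (tt N7202 (iv2 F18129)) (tt N9063 (iv3 F22689)) (tt N2016 F10498) (tt N9064 D13537) (tt N2015 (iv6 D6440)) (tt N7452 (iv7 F18709)))
theorem Q4361 : ∀ i, i < 4361 → P i := stepQ 4360 Q4360 (allL N4360 (tt N2016 (iv1 D6441)) (tt N3566 F10499) (tt N5354 F12649) (tt N2254 F12604) (tt N8217 (iv4 F20521)) (tt N2032 (iv5 F10500)) (tt N5514 (iv6 F12714)) (tt N4084 (iv7 F12625)))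
theorem Q4362 : ∀ i, i < 4362 → P i := stepQ 4361 Q4361 (allL N4361 (tt N9065 D13538) (tt N4909 (iv0 F11434)) (tt N3817 F10501) (tt N4789 (iv3 F11246)) (tt N9066 D13539) (tt N2018 (iv5 D6442)) (tt N9067 D13540) (tt N3809 F10502))
theorem Q4363 : ∀ i, i < 4363 → P i := stepQ 4362 Q4362 (allL N4362 (tt N7279 (iv1 F18308)) (tt N4944 (iv0 F11492)) (tt N3818 F10503) (tt N4790 (iv3 F11247)) (tt N2020 F10504) (tt N7384 (iv5 F18551)) (tt N2018 (iv6 D6443)) (tt N7392 (iv7 F18574)))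
theorem Q4364 : ∀ i, i < 4364 → P i := stepQ 4363 Q4363 (allL N4363 (tt N3374 (iv1 F10508)) (tt N2019 (iv0 D6444)) (tt N3811 (iv2 F10507)) (tt N2621 F10505) (tt N9068 D13541) (tt N3755 F10506) (tt N2618 (iv6 F10510)) (tt N3754 F10509))
theorem Q4365 : ∀ i, i < 4365 → P i := stepQ 4364 Q4364 (allL N4364 (tt N9055 (iv1 F22678)) (tt N9054 (iv0 F22672)) (tt N3819 F10511) (tt N9069 D13542) (tt N2019 (iv4 D6445)) (tt N9070 D13543) (tt N7296 F18353) (tt N3812 F10512))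
theorem Q4366 : ∀ i, i < 4366 → P i := stepQ 4365 Q4365 (allL N4365 (tt N5003 F26913) (tt N9071 D13545) (tt N9072 D13546) (tt N2021 (iv3 D6446)) (tt N9069 (iv4 F22704)) (tt N4985 (iv5 F11533)) (tt N7448 (iv6 F18700)) (tt N7201 (iv7 F18128)))
theorem Q4367 : ∀ i, i < 4367 → P i := stepQ 4366 Q4366 (allL N4366 (tt N9073 D13547) (tt N9074 D13548) (tt N7237 (iv2 F18204)) (tt N2023 F10513) (tt N8000 (iv4 F20053)) (tt N5455 F12491) (tt N2022 (iv6 D6447)) (tt N9075 D13549))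
theorem Q4368 : ∀ i, i < 4368 → P i := stepQ 4367 Q4367 (allL N4367 (tt N5486 F12569) (tt N2023 (iv0 D6448)) (tt N5355 (iv2 F12646)) (tt N7991 F20037) (tt N8238 (iv4 F26557)) (tt N5510 (iv5 F12697)) (tt N2033 F10514) (tt N5510 (iv7 F12698)))
theorem Q4369 : ∀ i, i < 4369 → P i := stepQ 4368 Q4368 (allL N4368 (tt N2023 (iv1 D6449)) (tt N5486 (iv0 F12568)) (tt N5510 (iv2 F12695)) (tt N2278 F12647) (tt N8239 (iv4 F26562)) (tt N5355 (iv5 F12089)) (tt N4083 (iv6 F10515)) (tt N5355 (iv7 F12645)))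
theorem Q4370 : ∀ i, i < 4370 → P i := stepQ 4369 Q4369 (allL N4369 (tt N5510 (iv1 F12700)) (tt N5355 (iv0 F12090)) (tt N5486 (iv2 F12565)) (tt N9075 (iv3 F22711)) (tt N4956 (iv4 F11509)) (tt N4075 F10516) (tt N5668 (iv6 F12936)) (tt N2023 (iv7 D6450)))
theorem Q4371 : ∀ i, i < 4371 → P i := stepQ 4370 Q4370 (allL N4370 (tt N3429 F10519) (tt N7240 F18208) (tt N3822 F10517) (tt N4960 (iv3 F11510)) (tt N2024 (iv4 D6451)) (tt N9076 D13550) (tt N9077 D13551) (tt N3820 F10518))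
theorem Q4372 : ∀ i, i < 4372 → P i := stepQ 4371 Q4371 (allL N4371 (tt N5656 F12923) (tt N4484 (iv0 F10889)) (tt N3823 F10520) (tt N2025 F10521) (tt N9077 (iv4 F22716)) (tt N7442 (iv5 F18686)) (tt N2024 (iv6 D6452)) (tt N9078 D13552))
theorem Q4373 : ∀ i, i < 4373 → P i := stepQ 4372 Q4372 (allL N4372 (tt N4128 (iv1 F10522)) (tt N4127 F10523) (tt N5668 F12937) (tt N9078 (iv3 F22718)) (tt N4965 (iv4 F11513)) (tt N4413 (iv5 F10573)) (tt N5486 (iv6 F12566)) (tt N2025 (iv7 D6453)))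
theorem Q4374 : ∀ i, i < 4374 → P i := stepQ 4373 Q4373 (allL N4373 (tt N9079 D13553) (tt N2026 (iv0 D6454)) (tt N9080 D13554) (tt N9081 D13555) (tt N9082 D13556) (tt N9083 D13557) (tt N9082 (iv6 F50767)) (tt N9084 D13559))
theorem Q4375 : ∀ i, i < 4375 → P i := stepQ 4374 Q4374 (allL N4374 (tt N2026 (iv1 D6455)) (tt N9079 F22725) (tt N9084 (iv2 F22727)) (tt N9085 D13560) (tt N9086 D13561) (tt N9087 D13562) (tt N9088 D13563) (tt N9080 F22726))
theorem Q4376 : ∀ i, i < 4376 → P i := stepQ 4375 Q4375 (allL N4375 (tt N9080 F54301) (tt N9084 (iv0 F54308)) (tt N2026 (iv2 D6456)) (tt N7208 (iv3 F18138)) (tt N2299 F10524) (tt N9089 D13566) (tt N2037 F10525) (tt N9079 (iv7 F22724)))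
theorem Q4377 : ∀ i, i < 4377 → P i := stepQ 4376 Q4376 (allL N4376 (tt N9090 D13567) (tt N9091 D13568) (tt N9089 (iv2 F22730)) (tt N2027 F10526) (tt N9092 D13569) (tt N2026 (iv5 D6457)) (tt N9093 D13570) (tt N9094 D13571))
theorem Q4378 : ∀ i, i < 4378 → P i := stepQ 4377 Q4377 (allL N4377 (tt N9084 (iv1 F54309)) (tt N9080 F54300) (tt N9079 F22722) (tt N2028 F10527) (tt N2301 F10528) (tt N9094 (iv5 F22734)) (tt N9095 D13572) (tt N2026 (iv7 D6458)))
theorem Q4379 : ∀ i, i < 4379 → P i := stepQ 4378 Q4378 (allL N4378 (tt N4800 F11254) (tt N4778 F11232) (tt N7211 (iv2 F18142)) (tt N9096 D13573) (tt N2027 (iv4 D6459)) (tt N4811 (iv5 F11263)) (tt N9097 D13574) (tt N7199 (iv7 F18124)))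
theorem Q4380 : ∀ i, i < 4380 → P i := stepQ 4379 Q4379 (allL N4379 (tt N9098 D13575) (tt N9099 D13576) (tt N7212 (iv2 F18145)) (tt N9093 (iv3 F22731)) (tt N9097 (iv4 F22738)) (tt N2040 F10529) (tt N2027 (iv6 D6460)) (tt N9100 D13577))
theorem Q4381 : ∀ i, i < 4381 → P i := stepQ 4380 Q4380 (allL N4380 (tt N2271 (iv1 F10531)) (tt N2251 F10532) (tt N7213 (iv2 F18147)) (tt N9094 (iv3 F22733)) (tt N7199 (iv4 F18125)) (tt N2028 F10530) (tt N9101 D13578) (tt N2027 (iv7 D6461)))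
theorem Q4382 : ∀ i, i < 4382 → P i := stepQ 4381 Q4381 (allL N4381 (tt N2365 F26426) (tt N2419 F11989) (tt N5435 (iv2 F12440)) (tt N9095 (iv3 F22735)) (tt N2029 F10533) (tt N9102 D13579) (tt N2028 (iv6 D6462)) (tt N2042 F10534))
theorem Q4383 : ∀ i, i < 4383 → P i := stepQ 4382 Q4382 (allL N4382 (tt N8016 (iv1 F20073)) (tt N8019 (iv0 F20082)) (tt N3845 F10535) (tt N5158 (iv3 F11746)) (tt N7170 (iv4 F18070)) (tt N2030 (iv5 D6463)) (tt N9103 D13580) (tt N3843 F10536))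
theorem Q4384 : ∀ i, i < 4384 → P i := stepQ 4383 Q4383 (allL N4383 (tt N9104 D13581) (tt N9105 D13582) (tt N3846 F10537) (tt N5159 (iv3 F11747)) (tt N2031 F10538) (tt N9106 D13583) (tt N2030 (iv6 D6464)) (tt N9107 D13584))
theorem Q4385 : ∀ i, i < 4385 → P i := stepQ 4384 Q4384 (allL N4384 (tt N3849 (iv1 F10544)) (tt N2031 (iv0 D6465)) (tt N3847 (iv2 F12674)) (tt N2473 (iv3 F12075)) (tt N9108 D13585) (tt N9109 D13586) (tt N8550 (iv6 F21330)) (tt N3848 (iv7 F12672)))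
theorem Q4386 : ∀ i, i < 4386 → P i := stepQ 4385 Q4385 (allL N4385 (tt N3848 (iv1 F10545)) (tt N3847 F10546) (tt N3849 F10540) (tt N2034 F10541) (tt N9107 (iv4 F22753)) (tt N4385 F10542) (tt N3773 F10543) (tt N2031 (iv7 D6467)))
theorem Q4387 : ∀ i, i < 4387 → P i := stepQ 4386 Q4386 (allL N4386 (tt N2036 (iv1 F10552)) (tt N2035 (iv0 D6474)) (tt N2039 (iv2 F10549)) (tt N5432 (iv3 F12433)) (tt N2392 F10550) (tt N9110 D13587) (tt N9111 D13588) (tt N2037 F10551))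
theorem Q4388 : ∀ i, i < 4388 → P i := stepQ 4387 Q4387 (allL N4387 (tt N2039 (iv1 F37248)) (tt N2037 (iv0 F37245)) (tt N2035 (iv2 D6475)) (tt N9112 D13591) (tt N7214 F37244) (tt N9113 D13593) (tt N9114 D13594) (tt N2036 (iv7 F10553)))
theorem Q4389 : ∀ i, i < 4389 → P i := stepQ 4388 Q4388 (allL N4388 (tt N8336 (iv1 F25469)) (tt N9115 D13596) (tt N8073 (iv2 F37264)) (tt N2035 (iv3 D6476)) (tt N8071 (iv4 F37263)) (tt N9116 D13598) (tt N9117 D13599) (tt N8078 (iv7 F37250)))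
theorem Q4390 : ∀ i, i < 4390 → P i := stepQ 4389 Q4389 (allL N4389 (tt N9118 D13601) (tt N8331 (iv0 F25426)) (tt N7214 F37243) (tt N9119 D13603) (tt N2035 (iv4 D6477)) (tt N9120 D13604) (tt N9121 D13605) (tt N9122 D13606))
theorem Q4391 : ∀ i, i < 4391 → P i := stepQ 4390 Q4390 (allL N4390 (tt N9123 D13607) (tt N5011 (iv0 F25733)) (tt N9113 (iv2 F22778)) (tt N9116 (iv3 F22781)) (tt N9124 D13609) (tt N2035 (iv5 D6478)) (tt N9125 D13610) (tt N9126 D13611))
theorem Q4392 : ∀ i, i < 4392 → P i := stepQ 4391 Q4391 (allL N4391 (tt N9127 D13612) (tt N4584 F54004) (tt N9114 (iv2 F22780)) (tt N9117 (iv3 F22782)) (tt N9121 (iv4 F22787)) (tt N9128 D13614) (tt N2035 (iv6 D6479)) (tt N9129 D13615))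
theorem Q4393 : ∀ i, i < 4393 → P i := stepQ 4392 Q4392 (allL N4392 (tt N2037 (iv1 F37246)) (tt N2039 (iv0 F37247)) (tt N2036 F10554) (tt N8078 (iv3 F37249)) (tt N9122 (iv4 F22789)) (tt N9126 (iv5 F22793)) (tt N9130 D13616) (tt N2035 (iv7 D6480)))
theorem Q4394 : ∀ i, i < 4394 → P i := stepQ 4393 Q4393 (allL N4393 (tt N9131 D13617) (tt N8330 (iv0 F25452)) (tt N9132 D13619) (tt N2036 (iv3 D6481)) (tt N9133 D13620) (tt N9134 D13621) (tt N9135 D13622) (tt N9112 (iv7 F22775)))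
theorem Q4395 : ∀ i, i < 4395 → P i := stepQ 4394 Q4394 (allL N4394 (tt N8331 (iv1 F25427)) (tt N9118 F22790) (tt N9122 (iv2 F22788)) (tt N5430 (iv3 F12431)) (tt N2036 (iv4 D6482)) (tt N9136 D13623) (tt N9137 D13624) (tt N7214 (iv7 F37242)))
theorem Q4396 : ∀ i, i < 4396 → P i := stepQ 4395 Q4395 (allL N4395 (tt N5011 (iv1 F25734)) (tt N9123 F22794) (tt N9126 (iv2 F22792)) (tt N9134 (iv3 F22798)) (tt N9138 D13625) (tt N2036 (iv5 D6483)) (tt N9139 D13626) (tt N9113 (iv7 F22779)))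
theorem Q4397 : ∀ i, i < 4397 → P i := stepQ 4396 Q4396 (allL N4396 (tt N8347 (iv1 F50831)) (tt N9140 D13628) (tt N9130 (iv2 F22795)) (tt N9135 (iv3 F22799)) (tt N9137 (iv4 F22800)) (tt N9141 D13629) (tt N2036 (iv6 D6484)) (tt N9142 D13630))
theorem Q4398 : ∀ i, i < 4398 → P i := stepQ 4397 Q4397 (allL N4397 (tt N9143 D13639) (tt N9144 D13640) (tt N2038 F10557) (tt N7222 (iv3 F18156)) (tt N9145 D13641) (tt N2037 (iv5 D6487)) (tt N9146 D13642) (tt N9110 (iv7 F22768)))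
theorem Q4399 : ∀ i, i < 4399 → P i := stepQ 4398 Q4398 (allL N4398 (tt N9110 (iv1 F22770)) (tt N2038 (iv0 D6488)) (tt N9143 (iv2 F42891)) (tt N9147 D13644) (tt N9148 D13645) (tt N5256 (iv5 F25821)) (tt N9149 D13647) (tt N9144 (iv7 F42896)))
theorem Q4400 : ∀ i, i < 4400 → P i := stepQ 4399 Q4399 (allL N4399 (tt N2038 (iv1 D6489)) (tt N9110 F22769) (tt N9144 (iv2 F42895)) (tt N9150 D13649) (tt N9151 D13650) (tt N5257 (iv5 F25822)) (tt N9152 D13652) (tt N9143 (iv7 F42892)))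
theorem Q4401 : ∀ i, i < 4401 → P i := stepQ 4400 Q4400 (allL N4400 (tt N9153 D13653) (tt N9154 D13654) (tt N9145 (iv2 F22805)) (tt N5601 (iv3 F12873)) (tt N2038 (iv4 D6490)) (tt N9155 D13655) (tt N9156 D13656) (tt N9157 D13657))
theorem Q4402 : ∀ i, i < 4402 → P i := stepQ 4401 Q4401 (allL N4401 (tt N9158 D13658) (tt N9159 D13659) (tt N9146 (iv2 F22806)) (tt N2040 F10558) (tt N9156 (iv4 F22811)) (tt N9093 (iv5 F22732)) (tt N2038 (iv6 D6491)) (tt N9160 D13660))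
theorem Q4403 : ∀ i, i < 4403 → P i := stepQ 4402 Q4402 (allL N4402 (tt N9144 (iv1 F22804)) (tt N9143 F22803) (tt N9110 (iv2 F22766)) (tt N2041 F10559) (tt N9157 (iv4 F22813)) (tt N2039 F10560) (tt N9161 D13661) (tt N2038 (iv7 D6492)))
theorem Q4404 : ∀ i, i < 4404 → P i := stepQ 4403 Q4403 (allL N4403 (tt N9162 D13662) (tt N9137 F50825) (tt N9111 (iv2 F22771)) (tt N2042 F10561) (tt N2408 F10562) (tt N9163 D13664) (tt N2039 (iv6 D6493)) (tt N9095 (iv7 F22737)))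
theorem Q4405 : ∀ i, i < 4405 → P i := stepQ 4404 Q4404 (allL N4404 (tt N7229 (iv1 F18171)) (tt N2040 (iv0 D6494)) (tt N7227 (iv2 F44661)) (tt N9164 D13666) (tt N2789 F43120) (tt N9165 D13668) (tt N9166 D13669) (tt N7228 F44659))
theorem Q4406 : ∀ i, i < 4406 → P i := stepQ 4405 Q4405 (allL N4405 (tt N2040 (iv1 D6495)) (tt N7229 F18170) (tt N7228 F44658) (tt N9167 D13671) (tt N2790 (iv4 F43124)) (tt N9168 D13673) (tt N8743 F298475) (tt N7227 (iv7 F44662)))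
theorem Q4407 : ∀ i, i < 4407 → P i := stepQ 4406 Q4406 (allL N4406 (tt N7228 (iv1 F18165)) (tt N7227 F18169) (tt N7229 (iv2 F18166)) (tt N9160 (iv3 F22814)) (tt N5604 (iv4 F12876)) (tt N9100 (iv5 F22739)) (tt N8842 (iv6 F30434)) (tt N2040 (iv7 D6496)))
theorem Q4408 : ∀ i, i < 4408 → P i := stepQ 4407 Q4407 (allL N4407 (tt N2781 (iv1 F30046)) (tt N2785 (iv0 F30047)) (tt N2824 F10563) (tt N9161 (iv3 F22815)) (tt N2802 F10564) (tt N9169 D13678) (tt N2041 (iv6 D6497)) (tt N8842 (iv7 F30435)))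
theorem Q4409 : ∀ i, i < 4409 → P i := stepQ 4408 Q4408 (allL N4408 (tt N9170 D13679) (tt N9171 D13680) (tt N5434 (iv2 F12439)) (tt N9163 (iv3 F22816)) (tt N9172 D13681) (tt N2042 (iv5 D6500)) (tt N9169 (iv6 F22827)) (tt N9102 (iv7 F22740)))
theorem Q4410 : ∀ i, i < 4410 → P i := stepQ 4409 Q4409 (allL N4409 (tt N5444 F12473) (tt N3437 (iv0 F10566)) (tt N5443 F12467) (tt N2043 (iv3 D6501)) (tt N8096 (iv4 F20217)) (tt N9173 D13682) (tt N3450 F10565) (tt N5437 (iv7 F12450)))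
theorem Q4411 : ∀ i, i < 4411 → P i := stepQ 4410 Q4410 (allL N4410 (tt N8552 F21338) (tt N2549 (iv0 F10569)) (tt N5436 (iv2 F12445)) (tt N9173 (iv3 F22830)) (tt N9174 D13683) (tt N2043 (iv5 D6503)) (tt N3535 F10568) (tt N5438 (iv7 F12452)))
theorem Q4412 : ∀ i, i < 4412 → P i := stepQ 4411 Q4411 (allL N4411 (tt N2511 (iv1 F12413)) (tt N3829 F12416) (tt N3866 F12415) (tt N2044 (iv3 D6504)) (tt N9175 D13684) (tt N9176 D13685) (tt N9177 D13686) (tt N3865 F10570))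
theorem Q4413 : ∀ i, i < 4413 → P i := stepQ 4412 Q4412 (allL N4412 (tt N2549 (iv1 F12449)) (tt N8552 (iv0 F21337)) (tt N5438 (iv2 F12451)) (tt N9176 (iv3 F22840)) (tt N9178 D13687) (tt N2044 (iv5 D6506)) (tt N2534 F10571) (tt N5436 (iv7 F12447)))
theorem Q4414 : ∀ i, i < 4414 → P i := stepQ 4413 Q4413 (allL N4413 (tt N4083 F10574) (tt N4086 (iv0 F12085)) (tt N5439 (iv2 F12456)) (tt N9177 (iv3 F22844)) (tt N4024 F26419) (tt N4372 F10573) (tt N2044 (iv6 D6507)) (tt N3533 F10572))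
theorem Q4415 : ∀ i, i < 4415 → P i := stepQ 4414 Q4414 (allL N4414 (tt N3586 F19398) (tt N3590 F19399) (tt N7507 (iv2 F18827)) (tt N2046 F10575) (tt N4631 (iv4 F11025)) (tt N9179 D13688) (tt N2045 (iv6 D6508)) (tt N4845 F19371))
theorem Q4416 : ∀ i, i < 4416 → P i := stepQ 4415 Q4415 (allL N4415 (tt N7728 (iv1 F19554)) (tt N4345 (iv0 F19553)) (tt N4417 (iv2 F10581)) (tt N9179 (iv3 F22851)) (tt N9180 D13689) (tt N2046 (iv5 D6511)) (tt N3767 F10576) (tt N4847 F19373))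
theorem Q4417 : ∀ i, i < 4417 → P i := stepQ 4416 Q4416 (allL N4416 (tt N7940 F19972) (tt N7552 F19352) (tt N7415 (iv2 F18640)) (tt N2048 F10578) (tt N3518 F10579) (tt N9181 D13690) (tt N2047 (iv6 D6513)) (tt N7879 (iv7 F19815)))
theorem Q4418 : ∀ i, i < 4418 → P i := stepQ 4417 Q4417 (allL N4417 (tt N7195 (iv1 F22226)) (tt N9039 F22662) (tt N4415 F10581) (tt N9181 (iv3 F22854)) (tt N9182 D13691) (tt N2048 (iv5 D6516)) (tt N3776 F10582) (tt N8221 (iv7 F20538)))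
theorem Q4419 : ∀ i, i < 4419 → P i := stepQ 4418 Q4418 (allL N4418 (tt N2053 (iv1 F10596)) (tt N2049 (iv0 D6518)) (tt N2050 F22883) (tt N8979 F22383) (tt N4603 (iv4 F10991)) (tt N9183 D13693) (tt N8227 (iv6 F23671)) (tt N2051 F22884))
theorem Q4420 : ∀ i, i < 4420 → P i := stepQ 4419 Q4419 (allL N4419 (tt N2049 (iv1 D6519)) (tt N2053 F10588) (tt N2051 (iv2 F22881)) (tt N7509 F22400) (tt N7332 (iv4 F22522)) (tt N9184 D13695) (tt N4854 (iv6 F24438)) (tt N2050 (iv7 F22882)))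
theorem Q4421 : ∀ i, i < 4421 → P i := stepQ 4420 Q4420 (allL N4420 (tt N9185 D13697) (tt N8893 (iv0 F22214)) (tt N2052 F10589) (tt N3458 F10590) (tt N9186 D13698) (tt N2049 (iv5 D6520)) (tt N3458 F10591) (tt N9187 D13699))
theorem Q4422 : ∀ i, i < 4422 → P i := stepQ 4421 Q4421 (allL N4421 (tt N2051 (iv1 F10597)) (tt N2050 F10598) (tt N2053 F10592) (tt N3459 F10593) (tt N4421 F10594) (tt N9187 (iv5 F22864)) (tt N4421 F10595) (tt N2049 (iv7 D6521)))
theorem Q4423 : ∀ i, i < 4423 → P i := stepQ 4422 Q4422 (allL N4422 (tt N7511 F22506) (tt N3577 F22507) (tt N7508 (iv2 F22877)) (tt N2050 (iv3 D6523)) (tt N9188 D13703) (tt N9189 D13704) (tt N9190 D13705) (tt N7509 (iv7 F22879)))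
theorem Q4424 : ∀ i, i < 4424 → P i := stepQ 4423 Q4423 (allL N4423 (tt N7334 F22498) (tt N2163 F22499) (tt N4603 F22909) (tt N4688 (iv3 F11104)) (tt N2050 (iv4 D6524)) (tt N9191 D13706) (tt N9192 D13707) (tt N7332 F22907))
theorem Q4425 : ∀ i, i < 4425 → P i := stepQ 4424 Q4424 (allL N4424 (tt N9193 D13708) (tt N9194 D13709) (tt N9183 F22935) (tt N9189 (iv3 F22951)) (tt N9195 D13710) (tt N2050 (iv5 D6525)) (tt N9196 D13711) (tt N9184 (iv7 F22942)))
theorem Q4426 : ∀ i, i < 4426 → P i := stepQ 4425 Q4425 (allL N4425 (tt N7397 (iv1 F22187)) (tt N7667 (iv0 F22186)) (tt N8227 (iv2 F23668)) (tt N9190 (iv3 F22952)) (tt N9192 (iv4 F22953)) (tt N8883 F22185) (tt N2050 (iv6 D6526)) (tt N8226 (iv7 F22939)))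
theorem Q4427 : ∀ i, i < 4427 → P i := stepQ 4426 Q4426 (allL N4426 (tt N7700 F19529) (tt N8982 F22390) (tt N8980 (iv2 F22894)) (tt N2051 (iv3 D6528)) (tt N3521 F10601) (tt N9197 D13712) (tt N9198 D13713) (tt N8979 (iv7 F22886)))
theorem Q4428 : ∀ i, i < 4428 → P i := stepQ 4427 Q4427 (allL N4427 (tt N2163 F22517) (tt N7334 F22518) (tt N7332 (iv2 F22908)) (tt N4600 F10982) (tt N2051 (iv4 D6529)) (tt N9199 D13714) (tt N9200 D13715) (tt N4603 (iv7 F22912)))
theorem Q4429 : ∀ i, i < 4429 → P i := stepQ 4428 Q4428 (allL N4428 (tt N9194 (iv1 F22958)) (tt N9193 F22956) (tt N9184 F22943) (tt N9197 (iv3 F22961)) (tt N9201 D13716) (tt N2051 (iv5 D6530)) (tt N9202 D13717) (tt N9183 F22934))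
theorem Q4430 : ∀ i, i < 4430 → P i := stepQ 4429 Q4429 (allL N4429 (tt N4857 F22957) (tt N4849 F24429) (tt N4854 (iv2 F24437)) (tt N9198 (iv3 F22962)) (tt N9200 (iv4 F22965)) (tt N9203 D13719) (tt N2051 (iv6 D6531)) (tt N4855 (iv7 F24441)))
theorem Q4431 : ∀ i, i < 4431 → P i := stepQ 4430 Q4430 (allL N4430 (tt N9187 (iv1 F22871)) (tt N2052 (iv0 D6532)) (tt N9185 (iv2 F22868)) (tt N9204 D13721) (tt N9205 D13722) (tt N8894 (iv5 F22870)) (tt N9206 D13723) (tt N8893 F22869))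
theorem Q4432 : ∀ i, i < 4432 → P i := stepQ 4431 Q4431 (allL N4431 (tt N2052 (iv1 D6533)) (tt N9187 F22866) (tt N8893 (iv2 F22213)) (tt N9207 D13724) (tt N9208 D13725) (tt N8879 (iv5 F22168)) (tt N9209 D13726) (tt N9185 (iv7 F22867)))
theorem Q4433 : ∀ i, i < 4433 → P i := stepQ 4432 Q4432 (allL N4432 (tt N9210 D13727) (tt N9211 D13728) (tt N9186 (iv2 F22860)) (tt N9212 D13729) (tt N2052 (iv4 D6534)) (tt N9213 D13730) (tt N4520 (iv6 F10757)) (tt N9214 D13731))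
theorem Q4434 : ∀ i, i < 4434 → P i := stepQ 4433 Q4433 (allL N4433 (tt N8893 (iv1 F22216)) (tt N9185 F22865) (tt N9187 (iv2 F22862)) (tt N2062 F10602) (tt N9214 (iv4 F22975)) (tt N2053 F10603) (tt N9215 D13732) (tt N2052 (iv7 D6535)))
theorem Q4435 : ∀ i, i < 4435 → P i := stepQ 4434 Q4434 (allL N4434 (tt N9216 D13733) (tt N9217 D13734) (tt N8986 (iv2 F22401)) (tt N2055 F10604) (tt N9218 D13735) (tt N2054 (iv5 D6539)) (tt N9219 D13736) (tt N4530 (iv7 F10794)))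
theorem Q4436 : ∀ i, i < 4436 → P i := stepQ 4435 Q4435 (allL N4435 (tt N2057 (iv1 F10606)) (tt N2055 (iv0 D6540)) (tt N4526 F10776) (tt N9220 D13737) (tt N9221 D13738) (tt N2450 F10605) (tt N9222 D13739) (tt N4527 (iv7 F10779)))
theorem Q4437 : ∀ i, i < 4437 → P i := stepQ 4436 Q4436 (allL N4436 (tt N2055 (iv1 D6541)) (tt N2057 F10607) (tt N4527 F10781) (tt N9194 (iv3 F22960)) (tt N9223 D13740) (tt N3743 F10608) (tt N9224 D13741) (tt N4526 F10777))
theorem Q4438 : ∀ i, i < 4438 → P i := stepQ 4437 Q4437 (allL N4437 (tt N9225 D13742) (tt N9226 D13743) (tt N4528 (iv2 F10782)) (tt N9227 D13744) (tt N2055 (iv4 D6542)) (tt N9228 D13745) (tt N9229 D13746) (tt N4532 (iv7 F10798)))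
theorem Q4439 : ∀ i, i < 4439 → P i := stepQ 4438 Q4438 (allL N4438 (tt N9230 D13747) (tt N9231 D13748) (tt N4529 (iv2 F10784)) (tt N9219 (iv3 F22980)) (tt N9229 (iv4 F23000)) (tt N4303 F10609) (tt N2055 (iv6 D6543)) (tt N9232 D13749))
theorem Q4440 : ∀ i, i < 4440 → P i := stepQ 4439 Q4439 (allL N4439 (tt N2056 (iv1 D6545)) (tt N4523 F10765) (tt N4522 F19483) (tt N7511 F19484) (tt N8871 (iv4 F22137)) (tt N9233 D13750) (tt N4439 F19485) (tt N3387 F19486))
theorem Q4441 : ∀ i, i < 4441 → P i := stepQ 4440 Q4440 (allL N4440 (tt N3387 F19456) (tt N4522 F10760) (tt N2056 (iv2 D6546)) (tt N4324 (iv3 F19475)) (tt N4672 F11082) (tt N9234 D13751) (tt N9235 D13752) (tt N4523 (iv7 F10762)))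
theorem Q4442 : ∀ i, i < 4442 → P i := stepQ 4441 Q4441 (allL N4441 (tt N9236 D13753) (tt N9237 D13754) (tt N9234 (iv2 F23007)) (tt N2057 F10610) (tt N9238 D13755) (tt N2056 (iv5 D6547)) (tt N9239 D13756) (tt N4525 (iv7 F10773)))
theorem Q4443 : ∀ i, i < 4443 → P i := stepQ 4442 Q4442 (allL N4442 (tt N9240 D13757) (tt N9241 D13758) (tt N9235 (iv2 F23009)) (tt N2058 F10611) (tt N4695 (iv4 F11112)) (tt N9242 D13759) (tt N2056 (iv6 D6548)) (tt N4870 (iv7 F11319)))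
theorem Q4444 : ∀ i, i < 4444 → P i := stepQ 4443 Q4443 (allL N4443 (tt N9226 (iv1 F22995)) (tt N9225 F22994) (tt N4532 (iv2 F10797)) (tt N9243 D13760) (tt N2057 (iv4 D6549)) (tt N9244 D13761) (tt N9245 D13762) (tt N4528 (iv7 F10783)))
theorem Q4445 : ∀ i, i < 4445 → P i := stepQ 4444 Q4444 (allL N4444 (tt N9246 D13763) (tt N9224 (iv0 F22992)) (tt N4533 (iv2 F10799)) (tt N9239 (iv3 F23012)) (tt N9245 (iv4 F23017)) (tt N9247 D13764) (tt N2057 (iv6 D6550)) (tt N9248 D13765))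
theorem Q4446 : ∀ i, i < 4446 → P i := stepQ 4445 Q4445 (allL N4445 (tt N3555 F10612) (tt N3553 F10613) (tt N4534 (iv2 F10800)) (tt N9242 (iv3 F23013)) (tt N9249 D13766) (tt N2058 (iv5 D6551)) (tt N9247 (iv6 F23018)) (tt N4871 (iv7 F11320)))
theorem Q4447 : ∀ i, i < 4447 → P i := stepQ 4446 Q4446 (allL N4446 (tt N8989 (iv1 F22425)) (tt N4325 F22426) (tt N8987 F22402) (tt N2059 (iv3 D6552)) (tt N9250 D13767) (tt N7857 (iv5 F19744)) (tt N9251 D13768) (tt N4538 (iv7 F10809)))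
theorem Q4448 : ∀ i, i < 4448 → P i := stepQ 4447 Q4447 (allL N4447 (tt N4621 (iv1 F10999)) (tt N2156 F10614) (tt N4536 (iv2 F10804)) (tt N9252 D13769) (tt N2059 (iv4 D6553)) (tt N9253 D13770) (tt N9254 D13771) (tt N4539 (iv7 F10811)))
theorem Q4449 : ∀ i, i < 4449 → P i := stepQ 4448 Q4448 (allL N4448 (tt N9255 D13772) (tt N9256 D13773) (tt N4537 (iv2 F10807)) (tt N9251 (iv3 F23022)) (tt N9254 (iv4 F23024)) (tt N8206 (iv5 F20489)) (tt N2059 (iv6 D6554)) (tt N9257 D13774))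
theorem Q4450 : ∀ i, i < 4450 → P i := stepQ 4449 Q4449 (allL N4449 (tt N7178 F19433) (tt N9233 (iv0 F23006)) (tt N9258 D13775) (tt N2060 (iv3 D6555)) (tt N9259 D13776) (tt N3637 F10615) (tt N9260 D13777) (tt N4535 (iv7 F10803)))
theorem Q4451 : ∀ i, i < 4451 → P i := stepQ 4450 Q4450 (allL N4450 (tt N2156 F10616) (tt N4621 F10998) (tt N4539 (iv2 F10810)) (tt N9261 D13778) (tt N2060 (iv4 D6556)) (tt N9262 D13779) (tt N9263 D13780) (tt N4536 (iv7 F10805)))
theorem Q4452 : ∀ i, i < 4452 → P i := stepQ 4451 Q4451 (allL N4451 (tt N9264 D13781) (tt N9265 D13782) (tt N4540 (iv2 F10813)) (tt N9260 (iv3 F23028)) (tt N9263 (iv4 F23031)) (tt N3641 F10617) (tt N2060 (iv6 D6557)) (tt N9266 D13783))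
theorem Q4453 : ∀ i, i < 4453 → P i := stepQ 4452 Q4452 (allL N4452 (tt N4545 (iv1 F10831)) (tt N2061 (iv0 D6558)) (tt N4541 F10816) (tt N9267 D13784) (tt N2139 F10618) (tt N9268 D13785) (tt N9269 D13786) (tt N4542 (iv7 F10820)))
theorem Q4454 : ∀ i, i < 4454 → P i := stepQ 4453 Q4453 (allL N4453 (tt N2061 (iv1 D6559)) (tt N4545 F10830) (tt N4542 F10822) (tt N9270 D13787) (tt N2140 F10619) (tt N9271 D13788) (tt N9272 D13789) (tt N4541 F10817))
theorem Q4455 : ∀ i, i < 4455 → P i := stepQ 4454 Q4454 (allL N4454 (tt N9273 D13790) (tt N9274 D13791) (tt N9275 D13792) (tt N2061 (iv3 D6560)) (tt N9212 (iv4 F22974)) (tt N9276 D13793) (tt N4543 (iv6 F10823)) (tt N9277 D13794))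
theorem Q4456 : ∀ i, i < 4456 → P i := stepQ 4455 Q4455 (allL N4455 (tt N9278 D13795) (tt N9279 D13796) (tt N4544 (iv2 F10824)) (tt N9276 (iv3 F23039)) (tt N4593 (iv4 F10962)) (tt N2061 (iv5 D6561)) (tt N9280 D13797) (tt N4591 F10958))
theorem Q4457 : ∀ i, i < 4457 → P i := stepQ 4456 Q4456 (allL N4456 (tt N4542 (iv1 F10819)) (tt N4541 F10818) (tt N4545 (iv2 F10827)) (tt N9277 (iv3 F23040)) (tt N2062 F10620) (tt N4591 (iv5 F10957)) (tt N9281 D13798) (tt N2061 (iv7 D6562)))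
theorem Q4458 : ∀ i, i < 4458 → P i := stepQ 4457 Q4457 (allL N4457 (tt N9282 D13799) (tt N9282 F23048) (tt N4546 (iv2 F10832)) (tt N9215 (iv3 F22976)) (tt N9281 (iv4 F23047)) (tt N4457 F10621) (tt N2062 (iv6 D6563)) (tt N4546 (iv7 F10834)))
theorem Q4459 : ∀ i, i < 4459 → P i := stepQ 4458 Q4458 (allL N4458 (tt N7937 (iv1 F19960)) (tt N3576 F19531) (tt N4691 (iv2 F11110)) (tt N2063 (iv3 D6564)) (tt N2065 F10622) (tt N9283 D13800) (tt N7737 (iv6 F19221)) (tt N4558 (iv7 F10877)))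
theorem Q4460 : ∀ i, i < 4460 → P i := stepQ 4459 Q4459 (allL N4459 (tt N9284 D13801) (tt N9285 D13802) (tt N7904 (iv2 F19871)) (tt N9283 (iv3 F23049)) (tt N9286 D13803) (tt N2063 (iv5 D6565)) (tt N9287 D13804) (tt N4559 (iv7 F10878)))
theorem Q4461 : ∀ i, i < 4461 → P i := stepQ 4460 Q4460 (allL N4460 (tt N3779 (iv1 F10624)) (tt N2064 (iv0 D6566)) (tt N4562 (iv2 F10888)) (tt N3565 (iv3 F10625)) (tt N9288 D13805) (tt N3510 F10623) (tt N8100 (iv6 F20223)) (tt N4561 F10884))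
theorem Q4462 : ∀ i, i < 4462 → P i := stepQ 4461 Q4461 (allL N4461 (tt N2064 (iv1 D6567)) (tt N3779 F10626) (tt N4561 F10883) (tt N9289 D13806) (tt N9290 D13807) (tt N4286 (iv5 F10627)) (tt N4998 F11543) (tt N4562 (iv7 F10886)))
theorem Q4463 : ∀ i, i < 4463 → P i := stepQ 4462 Q4462 (allL N4462 (tt N9291 D13808) (tt N9292 D13809) (tt N7905 (iv2 F19872)) (tt N9293 D13810) (tt N2064 (iv4 D6568)) (tt N9294 D13811) (tt N4872 (iv6 F11323)) (tt N4563 (iv7 F10890)))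
theorem Q4464 : ∀ i, i < 4464 → P i := stepQ 4463 Q4463 (allL N4463 (tt N9295 D13812) (tt N9296 D13813) (tt N8108 (iv2 F20244)) (tt N2066 F10628) (tt N9297 D13814) (tt N2065 (iv5 D6569)) (tt N9298 D13815) (tt N4565 (iv7 F10895)))
theorem Q4465 : ∀ i, i < 4465 → P i := stepQ 4464 Q4464 (allL N4464 (tt N2071 (iv1 F10630)) (tt N2066 (iv0 D6570)) (tt N4548 F10846) (tt N9299 D13816) (tt N9300 D13817) (tt N2436 F10629) (tt N9301 D13818) (tt N4549 (iv7 F10849)))
theorem Q4466 : ∀ i, i < 4466 → P i := stepQ 4465 Q4465 (allL N4465 (tt N2066 (iv1 D6571)) (tt N2071 F10631) (tt N4549 F10851) (tt N9302 D13819) (tt N9303 D13820) (tt N3605 F10632) (tt N4817 (iv6 F11270)) (tt N4548 F10847))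
theorem Q4467 : ∀ i, i < 4467 → P i := stepQ 4466 Q4466 (allL N4466 (tt N9221 (iv1 F22986)) (tt N9223 (iv0 F22988)) (tt N4550 (iv2 F10852)) (tt N9304 D13821) (tt N2066 (iv4 D6572)) (tt N9278 (iv5 F23041)) (tt N9305 D13822) (tt N4567 (iv7 F10898)))
theorem Q4468 : ∀ i, i < 4468 → P i := stepQ 4467 Q4467 (allL N4467 (tt N9306 D13823) (tt N9307 D13824) (tt N4551 (iv2 F10854)) (tt N9298 (iv3 F23074)) (tt N9305 (iv4 F23088)) (tt N3731 F10633) (tt N2066 (iv6 D6573)) (tt N9308 D13825))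
theorem Q4469 : ∀ i, i < 4469 → P i := stepQ 4468 Q4468 (allL N4468 (tt N2087 F10637) (tt N2085 (iv0 F10636)) (tt N4468 F10634) (tt N2067 (iv3 D6574)) (tt N2453 (iv4 F26409)) (tt N2447 F10635) (tt N8474 (iv6 F21171)) (tt N4507 (iv7 F10713)))
theorem Q4470 : ∀ i, i < 4470 → P i := stepQ 4469 Q4469 (allL N4469 (tt N4317 F10638) (tt N4316 F10639) (tt N4552 (iv2 F10856)) (tt N2454 (iv3 F26621)) (tt N2067 (iv4 D6575)) (tt N9309 D13828) (tt N8476 (iv6 F21179)) (tt N4553 (iv7 F10861)))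
theorem Q4471 : ∀ i, i < 4471 → P i := stepQ 4470 Q4470 (allL N4470 (tt N4316 F10640) (tt N4317 F10641) (tt N4553 (iv2 F10860)) (tt N9310 D13829) (tt N2068 (iv4 D6576)) (tt N9311 D13830) (tt N4919 (iv6 F26606)) (tt N4552 (iv7 F10857)))
theorem Q4472 : ∀ i, i < 4472 → P i := stepQ 4471 Q4471 (allL N4471 (tt N2073 (iv1 F10643)) (tt N2069 (iv0 D6577)) (tt N4554 F10866) (tt N8486 (iv3 F26822)) (tt N3565 F10642) (tt N9312 D13832) (tt N9313 D13833) (tt N4555 (iv7 F10869)))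
theorem Q4473 : ∀ i, i < 4473 → P i := stepQ 4472 Q4472 (allL N4472 (tt N2069 (iv1 D6578)) (tt N2073 F10644) (tt N4555 F10871) (tt N9314 D13834) (tt N3647 F10645) (tt N9315 D13835) (tt N5005 (iv6 F12040)) (tt N4554 F10867))
theorem Q4474 : ∀ i, i < 4474 → P i := stepQ 4473 Q4473 (allL N4473 (tt N9316 D13836) (tt N7448 (iv0 F26718)) (tt N9317 D13838) (tt N2069 (iv3 D6579)) (tt N9293 (iv4 F23069)) (tt N9318 D13839) (tt N4873 (iv6 F11324)) (tt N4570 (iv7 F10903)))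
theorem Q4475 : ∀ i, i < 4475 → P i := stepQ 4474 Q4474 (allL N4474 (tt N8374 (iv1 F20997)) (tt N2381 F10646) (tt N4557 (iv2 F10873)) (tt N9318 (iv3 F23115)) (tt N9279 (iv4 F23046)) (tt N2069 (iv5 D6580)) (tt N9319 D13840) (tt N4571 (iv7 F10905)))
theorem Q4476 : ∀ i, i < 4476 → P i := stepQ 4475 Q4475 (allL N4475 (tt N9320 D13841) (tt N9321 D13842) (tt N4667 F22536) (tt N2071 F10648) (tt N9322 D13843) (tt N2070 (iv5 D6584)) (tt N9323 D13844) (tt N4547 (iv7 F10843)))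
theorem Q4477 : ∀ i, i < 4477 → P i := stepQ 4476 Q4476 (allL N4476 (tt N4713 (iv1 F23854)) (tt N4677 (iv0 F22557)) (tt N4668 F22533) (tt N2072 F10649) (tt N4531 (iv4 F10796)) (tt N9324 D13846) (tt N2070 (iv6 D6585)) (tt N4711 (iv7 F22555)))
theorem Q4478 : ∀ i, i < 4478 → P i := stepQ 4477 Q4477 (allL N4477 (tt N9223 (iv1 F22989)) (tt N9221 (iv0 F22985)) (tt N4567 (iv2 F10897)) (tt N9325 D13847) (tt N2071 (iv4 D6586)) (tt N9279 (iv5 F23045)) (tt N9326 D13848) (tt N4550 (iv7 F10853)))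
theorem Q4479 : ∀ i, i < 4479 → P i := stepQ 4478 Q4478 (allL N4478 (tt N9327 D13849) (tt N4817 (iv0 F11271)) (tt N4568 (iv2 F10899)) (tt N9323 (iv3 F23119)) (tt N9326 (iv4 F23121)) (tt N9328 D13850) (tt N2071 (iv6 D6587)) (tt N9329 D13851))
theorem Q4480 : ∀ i, i < 4480 → P i := stepQ 4479 Q4479 (allL N4479 (tt N2196 F10650) (tt N2193 F10651) (tt N4569 (iv2 F10900)) (tt N9324 (iv3 F23120)) (tt N9330 D13852) (tt N2072 (iv5 D6588)) (tt N9328 (iv6 F23122)) (tt N4783 (iv7 F11238)))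
theorem Q4481 : ∀ i, i < 4481 → P i := stepQ 4480 Q4480 (allL N4480 (tt N9331 D13853) (tt N9332 D13854) (tt N9333 D13855) (tt N2073 (iv3 D6589)) (tt N8976 (iv4 F22375)) (tt N9334 D13856) (tt N5071 (iv6 F11666)) (tt N4556 (iv7 F10872)))
theorem Q4482 : ∀ i, i < 4482 → P i := stepQ 4481 Q4481 (allL N4481 (tt N2381 F10652) (tt N8374 F20996) (tt N4571 (iv2 F10904)) (tt N9334 (iv3 F23126)) (tt N9278 (iv4 F23042)) (tt N2073 (iv5 D6590)) (tt N9335 D13857) (tt N4557 (iv7 F10874)))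
theorem Q4483 : ∀ i, i < 4483 → P i := stepQ 4482 Q4482 (allL N4482 (tt N3534 F10690) (tt N3532 F10691) (tt N4572 (iv2 F10907)) (tt N9336 D13858) (tt N2074 (iv4 D6591)) (tt N9337 D13859) (tt N4945 (iv6 F11494)) (tt N4490 F10696))
theorem Q4484 : ∀ i, i < 4484 → P i := stepQ 4483 Q4483 (allL N4483 (tt N8061 (iv1 F20185)) (tt N7171 (iv0 F18076)) (tt N7906 (iv2 F19874)) (tt N9338 D13860) (tt N2075 (iv4 D6592)) (tt N9339 D13861) (tt N9340 D13862) (tt N4576 (iv7 F10916)))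
theorem Q4485 : ∀ i, i < 4485 → P i := stepQ 4484 Q4484 (allL N4484 (tt N4371 F10889) (tt N7998 F20051) (tt N5671 (iv2 F12949)) (tt N2077 F10692) (tt N9340 (iv4 F23130)) (tt N2346 F10693) (tt N2075 (iv6 D6593)) (tt N7997 (iv7 F20050)))
theorem Q4486 : ∀ i, i < 4486 → P i := stepQ 4485 Q4485 (allL N4485 (tt N8421 (iv1 F26991)) (tt N7443 (iv0 F26986)) (tt N8419 (iv2 F26677)) (tt N2076 (iv3 D6594)) (tt N9338 (iv4 F23129)) (tt N9341 D13866) (tt N9342 D13867) (tt N4578 (iv7 F10923)))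
theorem Q4487 : ∀ i, i < 4487 → P i := stepQ 4486 Q4486 (allL N4486 (tt N9343 D13868) (tt N9344 D13869) (tt N4574 (iv2 F10912)) (tt N9341 (iv3 F23131)) (tt N9271 (iv4 F23037)) (tt N2076 (iv5 D6595)) (tt N9345 D13870) (tt N4579 (iv7 F10925)))
theorem Q4488 : ∀ i, i < 4488 → P i := stepQ 4487 Q4487 (allL N4487 (tt N2296 F20642) (tt N8269 F20684) (tt N4575 (iv2 F10914)) (tt N9342 (iv3 F23132)) (tt N2077 F10694) (tt N8546 (iv5 F21310)) (tt N2076 (iv6 D6596)) (tt N8252 (iv7 F20647)))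
theorem Q4489 : ∀ i, i < 4489 → P i := stepQ 4488 Q4488 (allL N4488 (tt N2397 F53962) (tt N9346 D13872) (tt N9347 D13873) (tt N2078 (iv3 D6597)) (tt N4584 (iv4 F10936)) (tt N9348 D13874) (tt N9349 D13875) (tt N4573 (iv7 F10911)))
theorem Q4490 : ∀ i, i < 4490 → P i := stepQ 4489 Q4489 (allL N4489 (tt N9344 (iv1 F23137)) (tt N9343 F23134) (tt N4579 (iv2 F10924)) (tt N9348 (iv3 F23141)) (tt N9268 (iv4 F23035)) (tt N2078 (iv5 D6598)) (tt N9350 D13876) (tt N4574 (iv7 F10913)))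
theorem Q4491 : ∀ i, i < 4491 → P i := stepQ 4490 Q4490 (allL N4490 (tt N3562 (iv1 F10698)) (tt N3564 (iv0 F10697)) (tt N4580 (iv2 F10926)) (tt N9349 (iv3 F23142)) (tt N2079 F10695) (tt N9351 D13877) (tt N2078 (iv6 D6599)) (tt N4482 (iv7 F10696)))
theorem Q4492 : ∀ i, i < 4492 → P i := stepQ 4491 Q4491 (allL N4491 (tt N9129 (iv1 F54033)) (tt N9114 (iv0 F54029)) (tt N9127 F54002) (tt N2080 (iv3 D6600)) (tt N4573 (iv4 F10910)) (tt N9352 D13881) (tt N9353 D13882) (tt N4584 (iv7 F10937)))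
theorem Q4493 : ∀ i, i < 4493 → P i := stepQ 4492 Q4492 (allL N4492 (tt N9354 D13883) (tt N9355 D13884) (tt N4582 (iv2 F10932)) (tt N9352 (iv3 F23147)) (tt N9262 (iv4 F23030)) (tt N2080 (iv5 D6601)) (tt N9356 D13885) (tt N4585 (iv7 F10939)))
theorem Q4494 : ∀ i, i < 4494 → P i := stepQ 4493 Q4493 (allL N4493 (tt N2286 F12706) (tt N8251 F20640) (tt N4583 (iv2 F10934)) (tt N9353 (iv3 F23148)) (tt N4128 F10699) (tt N8306 (iv5 F20791)) (tt N2080 (iv6 D6602)) (tt N5669 (iv7 F12942)))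
theorem Q4495 : ∀ i, i < 4495 → P i := stepQ 4494 Q4494 (allL N4494 (tt N7217 F54068) (tt N9357 D13887) (tt N9358 D13888) (tt N2081 (iv3 D6603)) (tt N9359 D13889) (tt N9360 D13890) (tt N9361 D13891) (tt N4581 (iv7 F10931)))
theorem Q4496 : ∀ i, i < 4496 → P i := stepQ 4495 Q4495 (allL N4495 (tt N9355 (iv1 F23153)) (tt N9354 F23150) (tt N4585 (iv2 F10938)) (tt N9360 (iv3 F23158)) (tt N9253 (iv4 F23023)) (tt N2081 (iv5 D6604)) (tt N9362 D13892) (tt N4582 (iv7 F10933)))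
theorem Q4497 : ∀ i, i < 4497 → P i := stepQ 4496 Q4496 (allL N4496 (tt N2444 (iv1 F10702)) (tt N2451 (iv0 F10701)) (tt N4586 (iv2 F10940)) (tt N9361 (iv3 F23159)) (tt N3531 F10700) (tt N9363 D13893) (tt N2081 (iv6 D6605)) (tt N4587 F26537))
theorem Q4498 : ∀ i, i < 4498 → P i := stepQ 4497 Q4497 (allL N4497 (tt N8484 (iv1 F26599)) (tt N2082 (iv0 D6606)) (tt N9364 D13895) (tt N9365 D13896) (tt N9366 D13897) (tt N9367 D13898) (tt N9368 D13899) (tt N9369 D13900))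
theorem Q4499 : ∀ i, i < 4499 → P i := stepQ 4498 Q4498 (allL N4498 (tt N2082 (iv1 D6607)) (tt N8484 (iv0 F26598)) (tt N9369 (iv2 F23167)) (tt N9370 D13901) (tt N9371 D13902) (tt N9372 D13903) (tt N9369 (iv6 F46896)) (tt N9364 F23166))
theorem Q4500 : ∀ i, i < 4500 → P i := stepQ 4499 Q4499 (allL N4499 (tt N9364 F50569) (tt N9369 (iv0 F50575)) (tt N2082 (iv2 D6608)) (tt N2444 F26529) (tt N4499 F10703) (tt N9373 D13907) (tt N2350 F10704) (tt N8484 (iv7 F26601)))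
theorem Q4501 : ∀ i, i < 4501 → P i := stepQ 4500 Q4500 (allL N4500 (tt N9374 D13908) (tt N9375 D13909) (tt N9373 (iv2 F23170)) (tt N2083 F10705) (tt N9376 D13910) (tt N2082 (iv5 D6609)) (tt N9377 D13911) (tt N9378 D13912))
theorem Q4502 : ∀ i, i < 4502 → P i := stepQ 4501 Q4501 (allL N4501 (tt N9369 (iv1 F50576)) (tt N9364 F50568) (tt N8484 (iv2 F26600)) (tt N2084 F10706) (tt N4501 F10707) (tt N9378 (iv5 F23174)) (tt N8344 (iv6 F20924)) (tt N2082 (iv7 D6610)))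
theorem Q4503 : ∀ i, i < 4503 → P i := stepQ 4502 Q4502 (allL N4502 (tt N4593 (iv1 F10965)) (tt N2083 (iv0 D6611)) (tt N4589 F10949) (tt N9379 D13913) (tt N9244 (iv4 F23014)) (tt N4316 F10708) (tt N9380 D13914) (tt N4590 (iv7 F10953)))
theorem Q4504 : ∀ i, i < 4504 → P i := stepQ 4503 Q4503 (allL N4503 (tt N2083 (iv1 D6612)) (tt N4593 F10964) (tt N4590 F10955) (tt N9381 D13915) (tt N9228 (iv4 F22997)) (tt N4317 F10709) (tt N9382 D13916) (tt N4589 F10950))
theorem Q4505 : ∀ i, i < 4505 → P i := stepQ 4504 Q4504 (allL N4504 (tt N9279 (iv1 F23044)) (tt N9278 F23043) (tt N4591 (iv2 F10956)) (tt N9383 D13917) (tt N2083 (iv4 D6613)) (tt N4545 (iv5 F10829)) (tt N9384 D13918) (tt N4544 F10826))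
theorem Q4506 : ∀ i, i < 4506 → P i := stepQ 4505 Q4505 (allL N4505 (tt N9385 D13919) (tt N9386 D13920) (tt N4592 (iv2 F10959)) (tt N9377 (iv3 F23171)) (tt N9384 (iv4 F23177)) (tt N2354 F10710) (tt N2083 (iv6 D6614)) (tt N9387 D13921))
theorem Q4507 : ∀ i, i < 4507 → P i := stepQ 4506 Q4506 (allL N4506 (tt N4590 (iv1 F10952)) (tt N4589 F10951) (tt N4593 (iv2 F10961)) (tt N9378 (iv3 F23173)) (tt N4544 (iv4 F10825)) (tt N2084 F10711) (tt N9388 D13922) (tt N2083 (iv7 D6615)))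
theorem Q4508 : ∀ i, i < 4508 → P i := stepQ 4507 Q4507 (allL N4507 (tt N2085 (iv1 D6616)) (tt N2087 F10712) (tt N4507 F10715) (tt N2109 F10716) (tt N2261 (iv4 F26408)) (tt N4293 (iv5 F10714)) (tt N2260 (iv6 F26393)) (tt N4468 F10713))
theorem Q4509 : ∀ i, i < 4509 → P i := stepQ 4508 Q4508 (allL N4508 (tt N9289 (iv1 F23062)) (tt N7292 (iv0 F18344)) (tt N4309 F10718) (tt N2087 F10719) (tt N7298 (iv4 F26406)) (tt N2086 (iv5 D6618)) (tt N4118 (iv6 F10721)) (tt N4308 F10720))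
theorem Q4510 : ∀ i, i < 4510 → P i := stepQ 4509 Q4509 (allL N4509 (tt N2446 F10726) (tt N2091 F26322) (tt N4509 F10725) (tt N7311 F18394) (tt N2089 (iv4 F26383)) (tt N2088 (iv5 D6620)) (tt N4938 (iv6 F11466)) (tt N4511 (iv7 F26323)))
theorem Q4511 : ∀ i, i < 4511 → P i := stepQ 4510 Q4510 (allL N4510 (tt N2283 F10734) (tt N2356 F26301) (tt N4510 F10732) (tt N8974 (iv3 F22370)) (tt N4938 (iv4 F26376)) (tt N2338 F26302) (tt N2089 (iv6 D6623)) (tt N4938 F11469))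
theorem Q4512 : ∀ i, i < 4512 → P i := stepQ 4511 Q4511 (allL N4511 (tt N2091 F10737) (tt N2446 (iv0 F26325)) (tt N4511 F10735) (tt N7286 (iv3 F26385)) (tt N2090 (iv4 D6624)) (tt N3912 (iv5 F26386)) (tt N2090 (iv6 F26384)) (tt N4509 F26323))
theorem Q4513 : ∀ i, i < 4513 → P i := stepQ 4512 Q4512 (allL N4512 (tt N7699 F19513) (tt N3667 F19514) (tt N7697 (iv2 F19463)) (tt N2093 (iv3 D6629)) (tt N2192 F10753) (tt N9389 D13944) (tt N9390 D13945) (tt N5282 (iv7 F11924)))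
theorem Q4514 : ∀ i, i < 4514 → P i := stepQ 4513 Q4513 (allL N4513 (tt N9391 D13946) (tt N9392 D13947) (tt N7302 (iv2 F18358)) (tt N9389 (iv3 F23224)) (tt N9393 D13948) (tt N2093 (iv5 D6630)) (tt N9394 D13949) (tt N7303 (iv7 F18361)))
theorem Q4515 : ∀ i, i < 4515 → P i := stepQ 4514 Q4514 (allL N4514 (tt N3502 F10755) (tt N4910 F11436) (tt N4908 (iv2 F11430)) (tt N9390 (iv3 F23225)) (tt N3529 F10754) (tt N7247 F18212) (tt N2093 (iv6 D6631)) (tt N4907 F11427))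
theorem Q4516 : ∀ i, i < 4516 → P i := stepQ 4515 Q4515 (allL N4515 (tt N4319 F19540) (tt N8992 F22416) (tt N8990 (iv2 F22408)) (tt N2094 (iv3 D6632)) (tt N4654 (iv4 F22515)) (tt N9395 D13950) (tt N9396 D13951) (tt N7301 (iv7 F18357)))
theorem Q4517 : ∀ i, i < 4517 → P i := stepQ 4516 Q4516 (allL N4516 (tt N9392 (iv1 F23231)) (tt N9391 F23228) (tt N7303 (iv2 F18360)) (tt N9395 (iv3 F23235)) (tt N9397 D13952) (tt N2094 (iv5 D6633)) (tt N9398 D13953) (tt N7302 (iv7 F18359)))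
theorem Q4518 : ∀ i, i < 4518 → P i := stepQ 4517 Q4517 (allL N4517 (tt N7390 F18567) (tt N3678 F19052) (tt N7304 (iv2 F18362)) (tt N9396 (iv3 F23236)) (tt N3630 F10756) (tt N9399 D13954) (tt N2094 (iv6 D6634)) (tt N7388 (iv7 F18560)))
theorem Q4519 : ∀ i, i < 4519 → P i := stepQ 4518 Q4518 (allL N4518 (tt N7308 (iv1 F18376)) (tt N2095 (iv0 D6635)) (tt N7305 (iv2 F18374)) (tt N9400 D13955) (tt N9401 D13956) (tt N7975 (iv5 F20011)) (tt N9402 D13957) (tt N7306 F18375))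
theorem Q4520 : ∀ i, i < 4520 → P i := stepQ 4519 Q4519 (allL N4519 (tt N2095 (iv1 D6636)) (tt N7308 F18372) (tt N7306 (iv2 F18367)) (tt N9403 D13958) (tt N9404 D13959) (tt N7153 (iv5 F18022)) (tt N9405 D13960) (tt N7305 (iv7 F18373)))
theorem Q4521 : ∀ i, i < 4521 → P i := stepQ 4520 Q4520 (allL N4520 (tt N9406 D13961) (tt N9407 D13962) (tt N7307 (iv2 F18368)) (tt N9408 D13963) (tt N2095 (iv4 D6637)) (tt N9409 D13964) (tt N4432 F10757) (tt N9410 D13965))
theorem Q4522 : ∀ i, i < 4522 → P i := stepQ 4521 Q4521 (allL N4521 (tt N7306 (iv1 F18365)) (tt N7305 F18371) (tt N7308 (iv2 F18369)) (tt N2105 F10758) (tt N9410 (iv4 F23244)) (tt N2096 F10759) (tt N9411 D13966) (tt N2095 (iv7 D6638)))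
theorem Q4523 : ∀ i, i < 4523 → P i := stepQ 4522 Q4522 (allL N4522 (tt N4440 (iv1 F10760)) (tt N2097 (iv0 D6639)) (tt N4439 (iv2 F19483)) (tt N8992 (iv3 F22413)) (tt N9412 D13967) (tt N9413 D13968) (tt N4522 F19453) (tt N3386 F19454))
theorem Q4524 : ∀ i, i < 4524 → P i := stepQ 4523 Q4523 (allL N4523 (tt N4439 (iv1 F10765)) (tt N3386 F19481) (tt N2097 (iv2 D6641)) (tt N4320 (iv3 F19534)) (tt N2176 (iv4 F10770)) (tt N9414 D13969) (tt N7898 (iv6 F19856)) (tt N4440 F10762))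
theorem Q4525 : ∀ i, i < 4525 → P i := stepQ 4524 Q4524 (allL N4524 (tt N2179 F10771) (tt N2167 (iv0 F10768)) (tt N2176 F10769) (tt N3769 F10766) (tt N2097 (iv4 D6642)) (tt N9415 D13970) (tt N7816 (iv6 F19646)) (tt N2177 F10767))
theorem Q4526 : ∀ i, i < 4526 → P i := stepQ 4525 Q4525 (allL N4525 (tt N9416 D13971) (tt N9417 D13972) (tt N9414 (iv2 F23258)) (tt N2098 F10772) (tt N9418 D13973) (tt N2097 (iv5 D6643)) (tt N9419 D13974) (tt N4441 F10773))
theorem Q4527 : ∀ i, i < 4527 → P i := stepQ 4526 Q4526 (allL N4526 (tt N2100 (iv1 F10775)) (tt N2098 (iv0 D6644)) (tt N4435 (iv2 F10776)) (tt N9420 D13975) (tt N9421 D13976) (tt N3556 F10774) (tt N9422 D13977) (tt N4436 (iv7 F10777)))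
theorem Q4528 : ∀ i, i < 4528 → P i := stepQ 4527 Q4527 (allL N4527 (tt N2098 (iv1 D6645)) (tt N2100 F10778) (tt N4436 (iv2 F10781)) (tt N9392 (iv3 F23234)) (tt N9423 D13978) (tt N3642 F10780) (tt N9037 (iv6 F22656)) (tt N4435 F10779))
theorem Q4529 : ∀ i, i < 4529 → P i := stepQ 4528 Q4528 (allL N4528 (tt N9300 (iv1 F23080)) (tt N9303 (iv0 F23086)) (tt N4437 F10782) (tt N9424 D13979) (tt N2098 (iv4 D6646)) (tt N9425 D13980) (tt N9426 D13981) (tt N4443 F10783))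
theorem Q4530 : ∀ i, i < 4530 → P i := stepQ 4529 Q4529 (allL N4529 (tt N9427 D13982) (tt N9428 D13983) (tt N4438 F10784) (tt N9419 (iv3 F23273)) (tt N9426 (iv4 F23297)) (tt N4278 F10785) (tt N2098 (iv6 D6647)) (tt N9429 D13984))
theorem Q4531 : ∀ i, i < 4531 → P i := stepQ 4530 Q4530 (allL N4530 (tt N9430 D13985) (tt N9431 D13986) (tt N8993 (iv2 F22418)) (tt N2100 F10793) (tt N9432 D13987) (tt N2099 (iv5 D6651)) (tt N9433 D13988) (tt N4434 F10794))
theorem Q4532 : ∀ i, i < 4532 → P i := stepQ 4531 Q4531 (allL N4531 (tt N9014 (iv1 F23858)) (tt N8999 (iv0 F37102)) (tt N8994 (iv2 F22420)) (tt N2101 F10795) (tt N4476 F10796) (tt N9434 D13991) (tt N2099 (iv6 D6652)) (tt N7870 (iv7 F19783)))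
theorem Q4533 : ∀ i, i < 4533 → P i := stepQ 4532 Q4532 (allL N4532 (tt N9303 (iv1 F23087)) (tt N9300 (iv0 F23079)) (tt N4443 F10797) (tt N9435 D13992) (tt N2100 (iv4 D6653)) (tt N9436 D13993) (tt N9437 D13994) (tt N4437 F10798))
theorem Q4534 : ∀ i, i < 4534 → P i := stepQ 4533 Q4533 (allL N4533 (tt N9438 D13995) (tt N9037 (iv0 F22657)) (tt N4444 F10799) (tt N9433 (iv3 F23313)) (tt N9437 (iv4 F23322)) (tt N9439 D13996) (tt N2100 (iv6 D6654)) (tt N9440 D13997))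
theorem Q4535 : ∀ i, i < 4535 → P i := stepQ 4534 Q4534 (allL N4534 (tt N2449 F10801) (tt N2442 F10802) (tt N4445 F10800) (tt N9434 (iv3 F23314)) (tt N9441 D13998) (tt N2101 (iv5 D6655)) (tt N9439 (iv6 F23324)) (tt N7482 (iv7 F18757)))
theorem Q4536 : ∀ i, i < 4536 → P i := stepQ 4535 Q4535 (allL N4535 (tt N9413 (iv1 F23256)) (tt N7179 F23257) (tt N9442 D13999) (tt N2102 (iv3 D6656)) (tt N9443 D14000) (tt N7655 (iv5 F19068)) (tt N9444 D14001) (tt N4449 F10803))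
theorem Q4537 : ∀ i, i < 4537 → P i := stepQ 4536 Q4536 (allL N4536 (tt N4651 (iv1 F11047)) (tt N2141 F10806) (tt N4447 F10804) (tt N9445 D14002) (tt N2102 (iv4 D6657)) (tt N9446 D14003) (tt N9447 D14004) (tt N4450 F10805))
theorem Q4538 : ∀ i, i < 4538 → P i := stepQ 4537 Q4537 (allL N4537 (tt N9448 D14005) (tt N9449 D14006) (tt N4448 F10807) (tt N9444 (iv3 F23342)) (tt N9447 (iv4 F23348)) (tt N4863 (iv5 F11314)) (tt N2102 (iv6 D6658)) (tt N9450 D14007))
theorem Q4539 : ∀ i, i < 4539 → P i := stepQ 4538 Q4538 (allL N4538 (tt N4321 F19421) (tt N8997 F22430) (tt N8995 (iv2 F22423)) (tt N2103 (iv3 D6659)) (tt N9451 D14008) (tt N3739 F10808) (tt N9452 D14009) (tt N4446 F10809))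
theorem Q4540 : ∀ i, i < 4540 → P i := stepQ 4539 Q4539 (allL N4539 (tt N2141 F10812) (tt N4651 F11046) (tt N4450 F10810) (tt N9453 D14010) (tt N2103 (iv4 D6660)) (tt N9454 D14011) (tt N9455 D14012) (tt N4447 F10811))
theorem Q4541 : ∀ i, i < 4541 → P i := stepQ 4540 Q4540 (allL N4540 (tt N9456 D14013) (tt N9457 D14014) (tt N4451 F10813) (tt N9452 (iv3 F23357)) (tt N9455 (iv4 F23364)) (tt N3742 F10814) (tt N2103 (iv6 D6661)) (tt N9458 D14015))
theorem Q4542 : ∀ i, i < 4542 → P i := stepQ 4541 Q4541 (allL N4541 (tt N4456 (iv1 F10818)) (tt N2104 (iv0 D6662)) (tt N4452 (iv2 F10816)) (tt N9459 D14016) (tt N2154 F10815) (tt N9460 D14017) (tt N9461 D14018) (tt N4453 (iv7 F10817)))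
theorem Q4543 : ∀ i, i < 4543 → P i := stepQ 4542 Q4542 (allL N4542 (tt N2104 (iv1 D6663)) (tt N4456 F10819) (tt N4453 (iv2 F10822)) (tt N9462 D14019) (tt N2155 F10821) (tt N9463 D14020) (tt N9464 D14021) (tt N4452 F10820))
theorem Q4544 : ∀ i, i < 4544 → P i := stepQ 4543 Q4543 (allL N4543 (tt N9465 D14022) (tt N9466 D14023) (tt N9467 D14024) (tt N2104 (iv3 D6664)) (tt N9408 (iv4 F23242)) (tt N9468 D14025) (tt N4454 F10823) (tt N9469 D14026))
theorem Q4545 : ∀ i, i < 4545 → P i := stepQ 4544 Q4544 (allL N4544 (tt N9470 D14027) (tt N9471 D14028) (tt N4455 F10824) (tt N9468 (iv3 F23390)) (tt N4506 F10825) (tt N2104 (iv5 D6665)) (tt N9472 D14029) (tt N4504 (iv7 F10826)))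
theorem Q4546 : ∀ i, i < 4546 → P i := stepQ 4545 Q4545 (allL N4545 (tt N4453 (iv1 F10830)) (tt N4452 F10831) (tt N4456 F10827) (tt N9469 (iv3 F23392)) (tt N2105 F10828) (tt N4504 F10829) (tt N9473 D14030) (tt N2104 (iv7 D6666)))
theorem Q4547 : ∀ i, i < 4547 → P i := stepQ 4546 Q4546 (allL N4546 (tt N9474 D14031) (tt N9474 F23410) (tt N4457 F10832) (tt N9411 (iv3 F23245)) (tt N9473 (iv4 F23408)) (tt N4546 F10833) (tt N2105 (iv6 D6667)) (tt N4457 F10834))
theorem Q4548 : ∀ i, i < 4548 → P i := stepQ 4547 Q4547 (allL N4547 (tt N9475 D14032) (tt N9476 D14033) (tt N4660 (iv2 F22538)) (tt N2107 F10842) (tt N9477 D14034) (tt N2106 (iv5 D6671)) (tt N9478 D14035) (tt N4475 F10843))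
theorem Q4549 : ∀ i, i < 4549 → P i := stepQ 4548 Q4548 (allL N4548 (tt N2115 (iv1 F10845)) (tt N2107 (iv0 D6672)) (tt N4464 (iv2 F10846)) (tt N9479 D14036) (tt N9225 (iv4 F22993)) (tt N2197 F10844) (tt N9480 D14037) (tt N4465 (iv7 F10847)))
theorem Q4550 : ∀ i, i < 4550 → P i := stepQ 4549 Q4549 (allL N4549 (tt N2107 (iv1 D6673)) (tt N2115 F10848) (tt N4465 (iv2 F10851)) (tt N9481 D14038) (tt N9226 (iv4 F22996)) (tt N3716 F10850) (tt N8177 (iv6 F20422)) (tt N4464 F10849))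
theorem Q4551 : ∀ i, i < 4551 → P i := stepQ 4550 Q4550 (allL N4550 (tt N9421 (iv1 F23283)) (tt N9423 (iv0 F23288)) (tt N4466 F10852) (tt N9482 D14039) (tt N2107 (iv4 D6674)) (tt N9470 (iv5 F23394)) (tt N9483 D14040) (tt N4477 F10853))
theorem Q4552 : ∀ i, i < 4552 → P i := stepQ 4551 Q4551 (allL N4551 (tt N9484 D14041) (tt N9485 D14042) (tt N4467 F10854) (tt N9478 (iv3 F23414)) (tt N9483 (iv4 F23425)) (tt N3620 F10855) (tt N2107 (iv6 D6675)) (tt N9486 D14043))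
theorem Q4553 : ∀ i, i < 4553 → P i := stepQ 4552 Q4552 (allL N4552 (tt N4315 F10858) (tt N4314 F10859) (tt N4469 F10856) (tt N9487 D14044) (tt N2108 (iv4 D6676)) (tt N9355 (iv5 F23155)) (tt N5254 (iv6 F11848)) (tt N4470 F10857))
theorem Q4554 : ∀ i, i < 4554 → P i := stepQ 4553 Q4553 (allL N4553 (tt N4314 F10862) (tt N4315 F10863) (tt N4470 F10860) (tt N2272 (iv3 F26581)) (tt N2109 (iv4 D6677)) (tt N9354 (iv5 F23149)) (tt N2270 (iv6 F26571)) (tt N4469 F10861))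
theorem Q4555 : ∀ i, i < 4555 → P i := stepQ 4554 Q4554 (allL N4554 (tt N2117 (iv1 F10865)) (tt N2110 (iv0 D6678)) (tt N4471 (iv2 F10866)) (tt N9488 D14046) (tt N3535 F10864) (tt N9344 (iv5 F23139)) (tt N9174 (iv6 F22833)) (tt N4472 (iv7 F10867)))
theorem Q4556 : ∀ i, i < 4556 → P i := stepQ 4555 Q4555 (allL N4555 (tt N2110 (iv1 D6679)) (tt N2117 F10868) (tt N4472 (iv2 F10871)) (tt N9489 D14047) (tt N3749 F10870) (tt N9343 (iv5 F23133)) (tt N5347 F12560) (tt N4471 F10869))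
theorem Q4557 : ∀ i, i < 4557 → P i := stepQ 4556 Q4556 (allL N4556 (tt N9490 D14048) (tt N9491 D14049) (tt N9492 D14050) (tt N2110 (iv3 D6680)) (tt N8977 (iv4 F22377)) (tt N9493 D14051) (tt N8212 (iv6 F20502)) (tt N4480 F10872))
theorem Q4558 : ∀ i, i < 4558 → P i := stepQ 4557 Q4557 (allL N4557 (tt N5146 (iv1 F11738)) (tt N4006 F10875) (tt N4474 F10873) (tt N9493 (iv3 F23447)) (tt N9471 (iv4 F23402)) (tt N2110 (iv5 D6681)) (tt N9494 D14052) (tt N4481 F10874))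
theorem Q4559 : ∀ i, i < 4559 → P i := stepQ 4558 Q4558 (allL N4558 (tt N3790 F19512) (tt N7519 F19515) (tt N7517 F19541) (tt N2111 (iv3 D6682)) (tt N2114 F10876) (tt N9495 D14053) (tt N9496 D14054) (tt N4458 F10877))
theorem Q4560 : ∀ i, i < 4560 → P i := stepQ 4559 Q4559 (allL N4559 (tt N9497 D14055) (tt N9498 D14056) (tt N7917 (iv2 F19894)) (tt N9495 (iv3 F23450)) (tt N9499 D14057) (tt N2111 (iv5 D6683)) (tt N9500 D14058) (tt N4459 F10878))
theorem Q4561 : ∀ i, i < 4561 → P i := stepQ 4560 Q4560 (allL N4560 (tt N7955 (iv1 F19992)) (tt N7144 (iv0 F18001)) (tt N7918 (iv2 F19897)) (tt N9496 (iv3 F23452)) (tt N2113 F10879) (tt N9501 D14059) (tt N2111 (iv6 D6684)) (tt N7954 (iv7 F19983)))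
theorem Q4562 : ∀ i, i < 4562 → P i := stepQ 4561 Q4561 (allL N4561 (tt N3770 (iv1 F10882)) (tt N2112 (iv0 D6685)) (tt N4461 (iv2 F10883)) (tt N3749 F10880) (tt N9502 D14060) (tt N3631 F10881) (tt N5478 F12520) (tt N4460 (iv7 F10884)))
theorem Q4563 : ∀ i, i < 4563 → P i := stepQ 4562 Q4562 (allL N4562 (tt N2112 (iv1 D6686)) (tt N3770 F10885) (tt N4460 F10888) (tt N7318 (iv3 F18418)) (tt N9503 D14061) (tt N3630 (iv5 F10887)) (tt N9504 D14062) (tt N4461 F10886))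
theorem Q4564 : ∀ i, i < 4564 → P i := stepQ 4563 Q4563 (allL N4563 (tt N9505 D14063) (tt N9506 D14064) (tt N7919 (iv2 F19903)) (tt N9507 D14065) (tt N2112 (iv4 D6687)) (tt N9508 D14066) (tt N8041 (iv6 F20160)) (tt N4462 F10890))
theorem Q4565 : ∀ i, i < 4565 → P i := stepQ 4564 Q4564 (allL N4564 (tt N3509 F10892) (tt N3507 (iv0 F10893)) (tt N7440 F18677) (tt N2118 F10891) (tt N9509 D14067) (tt N2113 (iv5 D6688)) (tt N7997 (iv6 F20046)) (tt N4577 F10920))
theorem Q4566 : ∀ i, i < 4566 → P i := stepQ 4565 Q4565 (allL N4565 (tt N9510 D14068) (tt N9511 D14069) (tt N8113 (iv2 F20254)) (tt N2115 F10894) (tt N9512 D14070) (tt N2114 (iv5 D6689)) (tt N9513 D14071) (tt N4463 F10895))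
theorem Q4567 : ∀ i, i < 4567 → P i := stepQ 4566 Q4566 (allL N4566 (tt N8131 F23496) (tt N7355 (iv0 F19051)) (tt N8114 (iv2 F20256)) (tt N2116 F10896) (tt N9496 (iv4 F23453)) (tt N9514 D14072) (tt N2114 (iv6 D6690)) (tt N8129 (iv7 F20318)))
theorem Q4568 : ∀ i, i < 4568 → P i := stepQ 4567 Q4567 (allL N4567 (tt N9423 (iv1 F23289)) (tt N9421 (iv0 F23282)) (tt N4477 F10897) (tt N9515 D14073) (tt N2115 (iv4 D6691)) (tt N9471 (iv5 F23401)) (tt N9516 D14074) (tt N4466 F10898))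
theorem Q4569 : ∀ i, i < 4569 → P i := stepQ 4568 Q4568 (allL N4568 (tt N9517 D14075) (tt N8177 (iv0 F20423)) (tt N4478 F10899) (tt N9513 (iv3 F23500)) (tt N9516 (iv4 F23505)) (tt N9518 D14076) (tt N2115 (iv6 D6692)) (tt N9519 D14077))
theorem Q4570 : ∀ i, i < 4570 → P i := stepQ 4569 Q4569 (allL N4569 (tt N2435 F10901) (tt N2432 F10902) (tt N4479 F10900) (tt N9514 (iv3 F23501)) (tt N9520 D14078) (tt N2116 (iv5 D6693)) (tt N9518 (iv6 F23507)) (tt N4740 (iv7 F11197)))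
theorem Q4571 : ∀ i, i < 4571 → P i := stepQ 4570 Q4570 (allL N4570 (tt N9521 D14079) (tt N5317 (iv0 F26824)) (tt N8540 (iv2 F26732)) (tt N2117 (iv3 D6694)) (tt N9507 (iv4 F23485)) (tt N9522 D14082) (tt N2610 F26505) (tt N4473 F10903))
theorem Q4572 : ∀ i, i < 4572 → P i := stepQ 4571 Q4571 (allL N4571 (tt N4006 F10906) (tt N5146 F11737) (tt N4481 F10904) (tt N9522 (iv3 F23528)) (tt N9470 (iv4 F23395)) (tt N2117 (iv5 D6695)) (tt N9523 D14083) (tt N4474 F10905))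
theorem Q4573 : ∀ i, i < 4573 → P i := stepQ 4572 Q4572 (allL N4572 (tt N3564 F10908) (tt N3562 F10909) (tt N4482 F10907) (tt N8365 (iv3 F26988)) (tt N2118 (iv4 D6696)) (tt N9524 D14085) (tt N8252 (iv6 F20646)) (tt N4580 F10928))
theorem Q4574 : ∀ i, i < 4574 → P i := stepQ 4573 Q4573 (allL N4573 (tt N5192 (iv1 F53986)) (tt N5176 F53982) (tt N5190 F53983) (tt N2119 (iv3 D6697)) (tt N4491 F10910) (tt N9525 D14089) (tt N9526 D14090) (tt N4488 F10911))
theorem Q4575 : ∀ i, i < 4575 → P i := stepQ 4574 Q4574 (allL N4574 (tt N9315 (iv1 F23114)) (tt N9312 (iv0 F23101)) (tt N4486 F10912) (tt N9525 (iv3 F23541)) (tt N9463 (iv4 F23384)) (tt N2119 (iv5 D6698)) (tt N9527 D14091) (tt N4489 F10913))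
theorem Q4576 : ∀ i, i < 4576 → P i := stepQ 4575 Q4575 (allL N4575 (tt N3950 (iv1 F11515)) (tt N4965 F11514) (tt N4487 F10914) (tt N9526 (iv3 F23543)) (tt N2120 F10915) (tt N5501 (iv5 F12576)) (tt N2119 (iv6 D6699)) (tt N4945 (iv7 F11495)))
theorem Q4577 : ∀ i, i < 4577 → P i := stepQ 4576 Q4576 (allL N4576 (tt N3851 F10917) (tt N9528 D14092) (tt N7643 (iv2 F19053)) (tt N9529 D14093) (tt N2121 (iv4 D6700)) (tt N9530 D14094) (tt N9531 D14095) (tt N4483 F10916))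
theorem Q4578 : ∀ i, i < 4578 → P i := stepQ 4577 Q4577 (allL N4577 (tt N3528 F10922) (tt N3660 (iv0 F10921)) (tt N7406 (iv2 F18623)) (tt N2123 F10918) (tt N9531 (iv4 F23554)) (tt N3814 F10919) (tt N2121 (iv6 D6701)) (tt N4564 (iv7 F10920)))
theorem Q4579 : ∀ i, i < 4579 → P i := stepQ 4578 Q4578 (allL N4578 (tt N4022 (iv1 F26674)) (tt N7497 (iv0 F26675)) (tt N9532 D14098) (tt N2122 (iv3 D6702)) (tt N9529 (iv4 F23551)) (tt N9533 D14099) (tt N9534 D14100) (tt N4485 F10923))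
theorem Q4580 : ∀ i, i < 4580 → P i := stepQ 4579 Q4579 (allL N4579 (tt N9312 (iv1 F23102)) (tt N9315 (iv0 F23113)) (tt N4489 F10924) (tt N9533 (iv3 F23564)) (tt N9460 (iv4 F23379)) (tt N2122 (iv5 D6703)) (tt N9535 D14101) (tt N4486 F10925))
theorem Q4581 : ∀ i, i < 4581 → P i := stepQ 4580 Q4580 (allL N4580 (tt N3532 (iv1 F10930)) (tt N3534 (iv0 F10929)) (tt N4490 F10926) (tt N9534 (iv3 F23566)) (tt N2123 F10927) (tt N9536 D14102) (tt N2122 (iv6 D6704)) (tt N4572 (iv7 F10928)))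
theorem Q4582 : ∀ i, i < 4582 → P i := stepQ 4581 Q4581 (allL N4581 (tt N9537 D14103) (tt N9538 D14104) (tt N9539 D14105) (tt N2124 (iv3 D6705)) (tt N9540 D14106) (tt N9541 D14107) (tt N9542 D14108) (tt N4494 F10931))
theorem Q4583 : ∀ i, i < 4583 → P i := stepQ 4582 Q4582 (allL N4582 (tt N9311 (iv1 F23100)) (tt N9309 (iv0 F23096)) (tt N4492 F10932) (tt N9541 (iv3 F23581)) (tt N9454 (iv4 F23361)) (tt N2124 (iv5 D6706)) (tt N9543 D14109) (tt N4495 F10933))
theorem Q4584 : ∀ i, i < 4584 → P i := stepQ 4583 Q4583 (allL N4583 (tt N3942 (iv1 F11483)) (tt N4940 F26547) (tt N4493 F10934) (tt N9542 (iv3 F23583)) (tt N2620 F10935) (tt N5046 (iv5 F11589)) (tt N2124 (iv6 D6707)) (tt N4942 F11480))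
theorem Q4585 : ∀ i, i < 4585 → P i := stepQ 4584 Q4584 (allL N4584 (tt N4391 (iv1 F54004)) (tt N9544 D14111) (tt N9545 D14112) (tt N2125 (iv3 D6708)) (tt N4488 F10936) (tt N9546 D14113) (tt N9547 D14114) (tt N4491 F10937))
theorem Q4586 : ∀ i, i < 4586 → P i := stepQ 4585 Q4585 (allL N4585 (tt N9309 (iv1 F23097)) (tt N9311 (iv0 F23099)) (tt N4495 F10938) (tt N9546 (iv3 F23592)) (tt N9446 (iv4 F23346)) (tt N2125 (iv5 D6709)) (tt N9548 D14115) (tt N4492 F10939))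
theorem Q4587 : ∀ i, i < 4587 → P i := stepQ 4586 Q4586 (allL N4586 (tt N2126 F26448) (tt N4052 (iv0 F10942)) (tt N4496 F10940) (tt N9547 (iv3 F23594)) (tt N3561 F10941) (tt N9549 D14116) (tt N2125 (iv6 D6710)) (tt N5303 (iv7 F11975)))
theorem Q4588 : ∀ i, i < 4588 → P i := stepQ 4587 Q4587 (allL N4587 (tt N4052 (iv1 F26531)) (tt N2126 (iv0 D6711)) (tt N5303 (iv2 F26534)) (tt N9550 D14119) (tt N3560 (iv4 F26535)) (tt N9551 D14121) (tt N4942 (iv6 F26536)) (tt N4496 (iv7 F26537)))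
theorem Q4589 : ∀ i, i < 4589 → P i := stepQ 4588 Q4588 (allL N4588 (tt N7460 (iv1 F26538)) (tt N3568 (iv0 F26539)) (tt N5304 (iv2 F26530)) (tt N2127 F10946) (tt N9552 D14133) (tt N2126 (iv5 D6714)) (tt N9553 D14134) (tt N5309 (iv7 F26546)))
theorem Q4590 : ∀ i, i < 4590 → P i := stepQ 4589 Q4589 (allL N4589 (tt N4506 (iv1 F10951)) (tt N2127 (iv0 D6716)) (tt N4502 (iv2 F10949)) (tt N9554 D14136) (tt N9436 (iv4 F23317)) (tt N4314 F10948) (tt N9555 D14137) (tt N4503 (iv7 F10950)))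
theorem Q4591 : ∀ i, i < 4591 → P i := stepQ 4590 Q4590 (allL N4590 (tt N2127 (iv1 D6717)) (tt N4506 F10952) (tt N4503 (iv2 F10955)) (tt N9556 D14138) (tt N9425 (iv4 F23293)) (tt N4315 F10954) (tt N9557 D14139) (tt N4502 F10953))
theorem Q4592 : ∀ i, i < 4592 → P i := stepQ 4591 Q4591 (allL N4591 (tt N9471 (iv1 F23399)) (tt N9470 F23396) (tt N4504 F10956) (tt N9558 D14140) (tt N2127 (iv4 D6718)) (tt N4456 F10957) (tt N9559 D14141) (tt N4455 (iv7 F10958)))
theorem Q4593 : ∀ i, i < 4593 → P i := stepQ 4592 Q4592 (allL N4592 (tt N9560 D14142) (tt N9561 D14143) (tt N4505 F10959) (tt N9553 (iv3 F23610)) (tt N9559 (iv4 F23623)) (tt N3987 F10960) (tt N2127 (iv6 D6719)) (tt N9562 D14144))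
theorem Q4594 : ∀ i, i < 4594 → P i := stepQ 4593 Q4593 (allL N4593 (tt N4503 (iv1 F10964)) (tt N4502 F10965) (tt N4506 F10961) (tt N5309 (iv3 F26545)) (tt N4455 F10962) (tt N2128 F10963) (tt N9563 D14145) (tt N2127 (iv7 D6720)))
theorem Q4595 : ∀ i, i < 4595 → P i := stepQ 4594 Q4594 (allL N4594 (tt N7709 F19350) (tt N7713 F19351) (tt N4597 (iv2 F10971)) (tt N3518 F10966) (tt N2130 F10967) (tt N9564 D14146) (tt N2129 (iv6 D6721)) (tt N4759 F19419))
theorem Q4596 : ∀ i, i < 4596 → P i := stepQ 4595 Q4595 (allL N4595 (tt N4807 (iv1 F19552)) (tt N3901 (iv0 F19551)) (tt N4598 (iv2 F10974)) (tt N7925 (iv3 F19920)) (tt N9565 D14147) (tt N2130 (iv5 D6724)) (tt N3687 F10968) (tt N4760 F19435))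
theorem Q4597 : ∀ i, i < 4597 → P i := stepQ 4596 Q4596 (allL N4596 (tt N3599 F19317) (tt N7364 F19318) (tt N4687 (iv2 F11102)) (tt N2133 F10970) (tt N7461 (iv4 F18717)) (tt N9566 D14148) (tt N2131 (iv6 D6726)) (tt N7363 (iv7 F19409)))
theorem Q4598 : ∀ i, i < 4598 → P i := stepQ 4597 Q4597 (allL N4597 (tt N4263 F19319) (tt N9015 (iv0 F22638)) (tt N4594 F10971) (tt N7462 (iv3 F18719)) (tt N2133 F10972) (tt N9567 D14149) (tt N2132 (iv6 D6727)) (tt N8160 (iv7 F20380)))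
theorem Q4599 : ∀ i, i < 4599 → P i := stepQ 4598 Q4598 (allL N4598 (tt N2221 F19320) (tt N8179 F20433) (tt N4595 F10974) (tt N9566 (iv3 F23634)) (tt N9568 D14150) (tt N2133 (iv5 D6730)) (tt N3692 F10975) (tt N8161 (iv7 F20384)))
theorem Q4600 : ∀ i, i < 4600 → P i := stepQ 4599 Q4599 (allL N4599 (tt N2138 (iv1 F10987)) (tt N2134 (iv0 D6732)) (tt N2135 F22910) (tt N8104 (iv3 F20233)) (tt N9569 D14151) (tt N9570 D14152) (tt N7568 (iv6 F18956)) (tt N2136 F22911))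
theorem Q4601 : ∀ i, i < 4601 → P i := stepQ 4600 Q4600 (allL N4600 (tt N2134 (iv1 D6733)) (tt N2138 F10981) (tt N2136 F22913) (tt N4427 (iv3 F10982)) (tt N7426 (iv4 F18662)) (tt N9571 D14153) (tt N4767 F22967) (tt N2135 F22914))
theorem Q4602 : ∀ i, i < 4602 → P i := stepQ 4601 Q4601 (allL N4601 (tt N9572 D14154) (tt N7548 (iv0 F18896)) (tt N2137 F10983) (tt N4628 (iv3 F11016)) (tt N9573 D14155) (tt N2134 (iv5 D6734)) (tt N4628 (iv6 F11017)) (tt N9574 D14156))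
theorem Q4603 : ∀ i, i < 4603 → P i := stepQ 4602 Q4602 (allL N4602 (tt N2136 (iv1 F10988)) (tt N2135 F10989) (tt N2138 F10984) (tt N4629 (iv3 F11019)) (tt N3693 F10985) (tt N9574 (iv5 F23654)) (tt N4602 F10986) (tt N2134 (iv7 D6735)))
theorem Q4604 : ∀ i, i < 4604 → P i := stepQ 4603 Q4603 (allL N4603 (tt N4666 F22511) (tt N3472 F22512) (tt N4423 (iv2 F22909)) (tt N2135 (iv3 D6737)) (tt N4418 F10991) (tt N9575 D14157) (tt N9576 D14158) (tt N4427 F22912))
theorem Q4605 : ∀ i, i < 4605 → P i := stepQ 4604 Q4604 (allL N4604 (tt N9577 D14159) (tt N3669 F19525) (tt N9569 (iv2 F23639)) (tt N7418 F18658) (tt N2135 (iv4 D6738)) (tt N9578 D14160) (tt N9579 D14161) (tt N7426 (iv7 F22889)))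
theorem Q4606 : ∀ i, i < 4606 → P i := stepQ 4605 Q4605 (allL N4605 (tt N9580 D14162) (tt N9302 (iv0 F23083)) (tt N9570 (iv2 F23644)) (tt N9575 (iv3 F23663)) (tt N9581 D14163) (tt N2135 (iv5 D6739)) (tt N9582 D14164) (tt N9571 (iv7 F23650)))
theorem Q4607 : ∀ i, i < 4607 → P i := stepQ 4606 Q4606 (allL N4606 (tt N7771 (iv1 F19774)) (tt N7867 (iv0 F19773)) (tt N7568 F22922) (tt N9576 (iv3 F23666)) (tt N9579 (iv4 F23678)) (tt N7535 F18868) (tt N2135 (iv6 D6740)) (tt N7564 (iv7 F22925)))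
theorem Q4608 : ∀ i, i < 4608 → P i := stepQ 4607 Q4607 (allL N4607 (tt N2175 F22915) (tt N8107 F22916) (tt N8105 F22917) (tt N2136 (iv3 D6742)) (tt N8869 F22918) (tt N9583 D14165) (tt N9584 D14166) (tt N8104 F22919))
theorem Q4609 : ∀ i, i < 4609 → P i := stepQ 4608 Q4608 (allL N4608 (tt N3669 F22921) (tt N9577 F23675) (tt N7426 F22920) (tt N9585 D14167) (tt N2136 (iv4 D6743)) (tt N9586 D14168) (tt N9587 D14169) (tt N9569 (iv7 F23641)))
theorem Q4610 : ∀ i, i < 4610 → P i := stepQ 4609 Q4609 (allL N4609 (tt N9302 (iv1 F23647)) (tt N9580 F23681) (tt N9571 (iv2 F23648)) (tt N9583 (iv3 F23683)) (tt N9588 D14170) (tt N2136 (iv5 D6744)) (tt N9589 D14171) (tt N9570 (iv7 F23645)))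
theorem Q4611 : ∀ i, i < 4611 → P i := stepQ 4610 Q4610 (allL N4610 (tt N4769 F23682) (tt N4762 F24184) (tt N4767 (iv2 F22968)) (tt N9584 (iv3 F23684)) (tt N9587 (iv4 F23690)) (tt N9590 D14173) (tt N2136 (iv6 D6745)) (tt N4768 (iv7 F22969)))
theorem Q4612 : ∀ i, i < 4612 → P i := stepQ 4611 Q4611 (allL N4611 (tt N9574 (iv1 F23661)) (tt N2137 (iv0 D6746)) (tt N9572 (iv2 F23658)) (tt N9591 D14174) (tt N9592 D14175) (tt N7549 (iv5 F23660)) (tt N9593 D14176) (tt N7548 F23659))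
theorem Q4613 : ∀ i, i < 4613 → P i := stepQ 4612 Q4612 (allL N4612 (tt N2137 (iv1 D6747)) (tt N9574 F23656) (tt N7548 (iv2 F18936)) (tt N9594 D14177) (tt N9595 D14178) (tt N7531 (iv5 F18865)) (tt N9596 D14179) (tt N9572 (iv7 F23657)))
theorem Q4614 : ∀ i, i < 4614 → P i := stepQ 4613 Q4613 (allL N4613 (tt N9597 D14180) (tt N9598 D14181) (tt N9573 (iv2 F23652)) (tt N9599 D14182) (tt N2137 (iv4 D6748)) (tt N9600 D14183) (tt N4643 (iv6 F11032)) (tt N9601 D14184))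
theorem Q4615 : ∀ i, i < 4615 → P i := stepQ 4614 Q4614 (allL N4614 (tt N7548 (iv1 F18897)) (tt N9572 F23655) (tt N9574 (iv2 F23653)) (tt N2142 F10993) (tt N9601 (iv4 F23695)) (tt N2138 F10994) (tt N9602 D14185) (tt N2137 (iv7 D6749)))
theorem Q4616 : ∀ i, i < 4616 → P i := stepQ 4615 Q4615 (allL N4615 (tt N8112 (iv1 F20261)) (tt N3872 F20262) (tt N8110 F20251) (tt N2139 (iv3 D6750)) (tt N9603 D14186) (tt N7588 (iv5 F18977)) (tt N9604 D14187) (tt N4647 (iv7 F11038)))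
theorem Q4617 : ∀ i, i < 4617 → P i := stepQ 4616 Q4616 (allL N4616 (tt N9605 D14188) (tt N9606 D14189) (tt N4646 (iv2 F11036)) (tt N9604 (iv3 F23698)) (tt N9269 (iv4 F23036)) (tt N8154 (iv5 F20360)) (tt N2139 (iv6 D6751)) (tt N9607 D14190))
theorem Q4618 : ∀ i, i < 4618 → P i := stepQ 4617 Q4617 (allL N4617 (tt N2161 F22539) (tt N4671 F22540) (tt N4669 F22530) (tt N2140 (iv3 D6752)) (tt N9608 D14191) (tt N3711 F10995) (tt N9609 D14192) (tt N4645 (iv7 F11035)))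
theorem Q4619 : ∀ i, i < 4619 → P i := stepQ 4618 Q4618 (allL N4618 (tt N9610 D14193) (tt N9611 D14194) (tt N4648 (iv2 F11040)) (tt N9609 (iv3 F23699)) (tt N9272 (iv4 F23038)) (tt N3715 F10996) (tt N2140 (iv6 D6753)) (tt N9612 D14195))
theorem Q4620 : ∀ i, i < 4620 → P i := stepQ 4619 Q4619 (allL N4619 (tt N9613 D14196) (tt N9614 D14197) (tt N9615 D14198) (tt N2141 (iv3 D6754)) (tt N9599 (iv4 F23694)) (tt N9616 D14199) (tt N4649 (iv6 F11042)) (tt N9617 D14200))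
theorem Q4621 : ∀ i, i < 4621 → P i := stepQ 4620 Q4620 (allL N4620 (tt N9425 (iv1 F23295)) (tt N9436 (iv0 F23319)) (tt N4650 (iv2 F11043)) (tt N9616 (iv3 F23705)) (tt N8374 (iv4 F20994)) (tt N2141 (iv5 D6755)) (tt N9618 D14201) (tt N8373 F20992))
theorem Q4622 : ∀ i, i < 4622 → P i := stepQ 4621 Q4621 (allL N4621 (tt N4450 (iv1 F10998)) (tt N4447 F10999) (tt N4651 (iv2 F11044)) (tt N9617 (iv3 F23706)) (tt N2142 F10997) (tt N8373 (iv5 F20991)) (tt N9619 D14202) (tt N2141 (iv7 D6756)))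
theorem Q4623 : ∀ i, i < 4623 → P i := stepQ 4622 Q4622 (allL N4622 (tt N9620 D14203) (tt N9620 F23708) (tt N4652 (iv2 F11048)) (tt N9602 (iv3 F23696)) (tt N9619 (iv4 F23707)) (tt N4622 F11000) (tt N2142 (iv6 D6757)) (tt N4652 (iv7 F11050)))
theorem Q4624 : ∀ i, i < 4624 → P i := stepQ 4623 Q4623 (allL N4623 (tt N2181 F11148) (tt N2185 F11149) (tt N3438 F11001) (tt N2144 F11002) (tt N7688 (iv4 F19115)) (tt N9621 D14204) (tt N2143 (iv6 D6758)) (tt N4700 (iv7 F11134)))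
theorem Q4625 : ∀ i, i < 4625 → P i := stepQ 4624 Q4624 (allL N4624 (tt N3898 (iv1 F19207)) (tt N4819 F19209) (tt N3476 F11003) (tt N9621 (iv3 F23710)) (tt N9622 D14205) (tt N2144 (iv5 D6759)) (tt N3579 F11004) (tt N4784 (iv7 F11241)))
theorem Q4626 : ∀ i, i < 4626 → P i := stepQ 4625 Q4625 (allL N4625 (tt N9188 F22950) (tt N7473 F18750) (tt N2149 F11005) (tt N7743 (iv3 F19229)) (tt N2146 F11006) (tt N9623 D14206) (tt N2145 (iv6 D6760)) (tt N9624 D14207))
theorem Q4627 : ∀ i, i < 4627 → P i := stepQ 4626 Q4626 (allL N4626 (tt N2153 (iv1 F11014)) (tt N2146 (iv0 D6761)) (tt N2150 (iv2 F11011)) (tt N4653 (iv3 F22521)) (tt N3573 (iv4 F19445)) (tt N9625 D14208) (tt N4796 (iv6 F24207)) (tt N2151 (iv7 F11012)))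
theorem Q4628 : ∀ i, i < 4628 → P i := stepQ 4627 Q4627 (allL N4627 (tt N2146 (iv1 D6762)) (tt N2153 F11007) (tt N2151 F11013) (tt N3449 (iv3 F11008)) (tt N2195 F11009) (tt N9626 D14209) (tt N8150 F20350) (tt N2150 F11010))
theorem Q4629 : ∀ i, i < 4629 → P i := stepQ 4628 Q4628 (allL N4628 (tt N9627 D14210) (tt N7765 (iv0 F19298)) (tt N2152 F11015) (tt N4601 F11016) (tt N9628 D14211) (tt N2146 (iv5 D6763)) (tt N4601 F11017) (tt N9629 D14212))
theorem Q4630 : ∀ i, i < 4630 → P i := stepQ 4629 Q4629 (allL N4629 (tt N2151 (iv1 F11021)) (tt N2150 F11022) (tt N2153 F11018) (tt N4602 F11019) (tt N9624 (iv4 F23716)) (tt N9629 (iv5 F23735)) (tt N4629 F11020) (tt N2146 (iv7 D6764)))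
theorem Q4631 : ∀ i, i < 4631 → P i := stepQ 4630 Q4630 (allL N4630 (tt N7339 F19390) (tt N2214 F19391) (tt N4631 (iv2 F11024)) (tt N3546 F11023) (tt N7507 (iv4 F18829)) (tt N9630 D14213) (tt N2147 (iv6 D6765)) (tt N7670 F19344))
theorem Q4632 : ∀ i, i < 4632 → P i := stepQ 4631 Q4631 (allL N4631 (tt N3808 (iv1 F19396)) (tt N4785 F19397) (tt N4630 F11024) (tt N8867 (iv3 F22127)) (tt N4414 F11025) (tt N9631 D14214) (tt N2148 (iv6 D6766)) (tt N4788 (iv7 F19375)))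
theorem Q4633 : ∀ i, i < 4633 → P i := stepQ 4632 Q4632 (allL N4632 (tt N9624 (iv1 F23719)) (tt N2149 (iv0 D6767)) (tt N9188 (iv2 F22946)) (tt N7465 (iv3 F19518)) (tt N7508 F19517) (tt N9632 D14215) (tt N9633 D14216) (tt N7473 (iv7 F22898)))
theorem Q4634 : ∀ i, i < 4634 → P i := stepQ 4633 Q4633 (allL N4633 (tt N2149 (iv1 D6768)) (tt N9624 F23718) (tt N7473 F22945) (tt N9634 D14217) (tt N7509 (iv4 F22399)) (tt N9635 D14218) (tt N9636 D14219) (tt N9188 (iv7 F22948)))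
theorem Q4635 : ∀ i, i < 4635 → P i := stepQ 4634 Q4634 (allL N4634 (tt N9637 D14220) (tt N9638 D14221) (tt N9623 (iv2 F23714)) (tt N3767 F11026) (tt N9639 D14222) (tt N2149 (iv5 D6769)) (tt N9179 (iv6 F22852)) (tt N9640 D14223))
theorem Q4636 : ∀ i, i < 4636 → P i := stepQ 4635 Q4635 (allL N4635 (tt N7473 F18749) (tt N9188 (iv0 F22949)) (tt N9624 (iv2 F23715)) (tt N3768 F11027) (tt N2153 F11028) (tt N9640 (iv5 F23752)) (tt N4635 F11029) (tt N2149 (iv7 D6770)))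
theorem Q4637 : ∀ i, i < 4637 → P i := stepQ 4636 Q4636 (allL N4636 (tt N9641 D14224) (tt N9481 (iv0 F23422)) (tt N9625 (iv2 F23720)) (tt N7309 (iv3 F18378)) (tt N9642 D14225) (tt N2150 (iv5 D6771)) (tt N9643 D14226) (tt N9626 (iv7 F23726)))
theorem Q4638 : ∀ i, i < 4638 → P i := stepQ 4637 Q4637 (allL N4637 (tt N4787 (iv1 F18390)) (tt N4798 (iv0 F18388)) (tt N4796 (iv2 F24203)) (tt N7310 (iv3 F18381)) (tt N5279 (iv4 F11915)) (tt N7757 F19269) (tt N2150 (iv6 D6772)) (tt N4795 F11918))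
theorem Q4639 : ∀ i, i < 4639 → P i := stepQ 4638 Q4638 (allL N4638 (tt N2159 F22508) (tt N4656 F22509) (tt N4654 (iv2 F22513)) (tt N2151 (iv3 D6773)) (tt N8990 F22407) (tt N9644 D14227) (tt N9645 D14228) (tt N4653 F22520))
theorem Q4640 : ∀ i, i < 4640 → P i := stepQ 4639 Q4639 (allL N4639 (tt N9481 (iv1 F23723)) (tt N9641 F23755) (tt N9626 (iv2 F23724)) (tt N9644 (iv3 F23758)) (tt N9646 D14229) (tt N2151 (iv5 D6775)) (tt N9647 D14230) (tt N9625 (iv7 F23721)))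
theorem Q4641 : ∀ i, i < 4641 → P i := stepQ 4640 Q4640 (allL N4640 (tt N8152 F23756) (tt N7341 (iv0 F24293)) (tt N8150 F20349) (tt N9645 (iv3 F23759)) (tt N7524 (iv4 F19498)) (tt N9648 D14232) (tt N2151 (iv6 D6776)) (tt N8151 (iv7 F20351)))
theorem Q4642 : ∀ i, i < 4642 → P i := stepQ 4641 Q4641 (allL N4641 (tt N9629 (iv1 F23737)) (tt N2152 (iv0 D6777)) (tt N9627 F23728) (tt N7335 (iv3 F19546)) (tt N9649 D14233) (tt N7766 (iv5 F19501)) (tt N9650 D14234) (tt N7765 F19545))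
theorem Q4643 : ∀ i, i < 4643 → P i := stepQ 4642 Q4642 (allL N4642 (tt N2152 (iv1 D6778)) (tt N9629 F23736) (tt N7765 (iv2 F19296)) (tt N9651 D14235) (tt N9652 D14236) (tt N7753 (iv5 F19259)) (tt N9653 D14237) (tt N9627 (iv7 F23729)))
theorem Q4644 : ∀ i, i < 4644 → P i := stepQ 4643 Q4643 (allL N4643 (tt N9654 D14238) (tt N9655 D14239) (tt N9628 (iv2 F23731)) (tt N9656 D14240) (tt N2152 (iv4 D6779)) (tt N9657 D14241) (tt N4613 F11032) (tt N9658 D14242))
theorem Q4645 : ∀ i, i < 4645 → P i := stepQ 4644 Q4644 (allL N4644 (tt N7765 (iv1 F19299)) (tt N9627 F23730) (tt N9629 (iv2 F23733)) (tt N2157 F11033) (tt N9658 (iv4 F23764)) (tt N2153 F11034) (tt N9659 D14243) (tt N2152 (iv7 D6780)))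
theorem Q4646 : ∀ i, i < 4646 → P i := stepQ 4645 Q4645 (allL N4645 (tt N4664 F22526) (tt N2165 F22527) (tt N4662 F22542) (tt N2154 (iv3 D6781)) (tt N9660 D14244) (tt N7797 (iv5 F19593)) (tt N9661 D14245) (tt N4617 F11035))
theorem Q4647 : ∀ i, i < 4647 → P i := stepQ 4646 Q4646 (allL N4646 (tt N9662 D14246) (tt N9663 D14247) (tt N4616 F11036) (tt N9661 (iv3 F23769)) (tt N9461 (iv4 F23381)) (tt N4774 (iv5 F11225)) (tt N2154 (iv6 D6782)) (tt N9664 D14248))
theorem Q4648 : ∀ i, i < 4648 → P i := stepQ 4647 Q4647 (allL N4647 (tt N3869 F11039) (tt N8117 F20268) (tt N8115 (iv2 F20259)) (tt N2155 (iv3 D6783)) (tt N9665 D14249) (tt N3601 F11037) (tt N9666 D14250) (tt N4615 F11038))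
theorem Q4649 : ∀ i, i < 4649 → P i := stepQ 4648 Q4648 (allL N4648 (tt N9667 D14251) (tt N9668 D14252) (tt N4618 F11040) (tt N9666 (iv3 F23778)) (tt N9464 (iv4 F23387)) (tt N3604 F11041) (tt N2155 (iv6 D6784)) (tt N9669 D14253))
theorem Q4650 : ∀ i, i < 4650 → P i := stepQ 4649 Q4649 (allL N4649 (tt N9670 D14254) (tt N9671 D14255) (tt N9672 D14256) (tt N2156 (iv3 D6785)) (tt N9656 (iv4 F23762)) (tt N9673 D14257) (tt N4619 F11042) (tt N9674 D14258))
theorem Q4651 : ∀ i, i < 4651 → P i := stepQ 4650 Q4650 (allL N4650 (tt N9228 (iv1 F22999)) (tt N9244 (iv0 F23015)) (tt N4620 F11043) (tt N9673 (iv3 F23793)) (tt N5146 (iv4 F11735)) (tt N2156 (iv5 D6786)) (tt N9675 D14259) (tt N5145 F11734))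
theorem Q4652 : ∀ i, i < 4652 → P i := stepQ 4651 Q4651 (allL N4651 (tt N4539 (iv1 F11046)) (tt N4536 F11047) (tt N4621 F11044) (tt N9674 (iv3 F23794)) (tt N2157 F11045) (tt N5145 (iv5 F11733)) (tt N9676 D14260) (tt N2156 (iv7 D6787)))
theorem Q4653 : ∀ i, i < 4653 → P i := stepQ 4652 Q4652 (allL N4652 (tt N9677 D14261) (tt N9677 F23800) (tt N4622 F11048) (tt N9659 (iv3 F23765)) (tt N9676 (iv4 F23798)) (tt N4652 F11049) (tt N2157 (iv6 D6788)) (tt N4622 F11050))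
theorem Q4654 : ∀ i, i < 4654 → P i := stepQ 4653 Q4653 (allL N4653 (tt N4659 (iv1 F11062)) (tt N2158 (iv0 D6789)) (tt N4657 (iv2 F22519)) (tt N4626 F22521) (tt N8983 (iv4 F22510)) (tt N9678 D14262) (tt N9679 D14263) (tt N4638 (iv7 F22520)))
theorem Q4655 : ∀ i, i < 4655 → P i := stepQ 4654 Q4654 (allL N4654 (tt N2158 (iv1 D6790)) (tt N4659 F11061) (tt N4638 F22513) (tt N3463 F22514) (tt N4515 F22515) (tt N9680 D14264) (tt N9681 D14265) (tt N4657 F22516))
theorem Q4656 : ∀ i, i < 4656 → P i := stepQ 4655 Q4655 (allL N4655 (tt N9682 D14266) (tt N9683 D14267) (tt N4658 (iv2 F11056)) (tt N2161 F11051) (tt N9684 D14268) (tt N2158 (iv5 D6791)) (tt N8106 (iv6 F20237)) (tt N9685 D14269))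
theorem Q4657 : ∀ i, i < 4657 → P i := stepQ 4656 Q4656 (allL N4656 (tt N4638 (iv1 F22509)) (tt N4657 F11060) (tt N4659 (iv2 F11057)) (tt N2162 F11052) (tt N2166 F11053) (tt N9685 (iv5 F23814)) (tt N4656 F11054) (tt N2158 (iv7 D6792)))
theorem Q4658 : ∀ i, i < 4658 → P i := stepQ 4657 Q4657 (allL N4657 (tt N4656 (iv1 F11060)) (tt N2159 (iv0 D6793)) (tt N4653 F22519) (tt N3446 F22495) (tt N7301 F22496) (tt N9686 D14270) (tt N9687 D14271) (tt N4654 (iv7 F22516)))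
theorem Q4659 : ∀ i, i < 4659 → P i := stepQ 4658 Q4658 (allL N4658 (tt N9688 D14272) (tt N9651 (iv0 F36905)) (tt N4655 F11056) (tt N7333 (iv3 F18458)) (tt N9689 D14274) (tt N2159 (iv5 D6795)) (tt N4689 (iv6 F11106)) (tt N9690 D14275))
theorem Q4660 : ∀ i, i < 4660 → P i := stepQ 4659 Q4659 (allL N4659 (tt N4654 (iv1 F11061)) (tt N4653 F11062) (tt N4656 F11057) (tt N7334 (iv3 F18461)) (tt N2162 F11058) (tt N9690 (iv5 F23826)) (tt N4659 F11059) (tt N2159 (iv7 D6796)))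
theorem Q4661 : ∀ i, i < 4661 → P i := stepQ 4660 Q4660 (allL N4660 (tt N9321 (iv1 F23117)) (tt N9320 F23116) (tt N4547 F22538) (tt N8108 (iv3 F22537)) (tt N9691 D14276) (tt N2160 (iv5 D6800)) (tt N9692 D14277) (tt N4667 (iv7 F22524)))
theorem Q4662 : ∀ i, i < 4662 → P i := stepQ 4661 Q4661 (allL N4661 (tt N2187 F22485) (tt N8970 F22486) (tt N4289 F22487) (tt N8109 F22488) (tt N7687 F22489) (tt N7621 F22490) (tt N2160 (iv6 D6801)) (tt N8971 F22491))
theorem Q4663 : ∀ i, i < 4663 → P i := stepQ 4662 Q4662 (allL N4662 (tt N4671 (iv1 F11078)) (tt N2161 (iv0 D6807)) (tt N4645 (iv2 F22542)) (tt N8110 (iv3 F22543)) (tt N9693 D14278) (tt N9694 D14279) (tt N9695 D14280) (tt N4669 F22541))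
theorem Q4664 : ∀ i, i < 4664 → P i := stepQ 4663 Q4663 (allL N4663 (tt N9696 D14281) (tt N9697 D14282) (tt N4670 (iv2 F11073)) (tt N9698 D14283) (tt N2161 (iv4 D6809)) (tt N9699 D14284) (tt N8111 (iv6 F20252)) (tt N9700 D14285))
theorem Q4665 : ∀ i, i < 4665 → P i := stepQ 4664 Q4664 (allL N4664 (tt N4669 (iv1 F11072)) (tt N4645 (iv0 F22526)) (tt N4671 (iv2 F11074)) (tt N9685 (iv3 F23813)) (tt N9700 (iv4 F23838)) (tt N2162 F11065) (tt N9701 D14286) (tt N2161 (iv7 D6810)))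
theorem Q4666 : ∀ i, i < 4666 → P i := stepQ 4665 Q4665 (allL N4665 (tt N9702 D14287) (tt N9703 D14288) (tt N7333 (iv2 F18457)) (tt N2165 F11066) (tt N9704 D14289) (tt N2163 (iv5 D6813)) (tt N3470 F11067) (tt N9705 D14290))
theorem Q4667 : ∀ i, i < 4667 → P i := stepQ 4666 Q4666 (allL N4666 (tt N7332 (iv1 F18456)) (tt N4603 (iv0 F22511)) (tt N7334 (iv2 F18460)) (tt N2166 F11068) (tt N7334 (iv4 F18462)) (tt N9705 (iv5 F23847)) (tt N4666 F11069) (tt N2163 (iv7 D6814)))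
theorem Q4668 : ∀ i, i < 4668 → P i := stepQ 4667 Q4667 (allL N4667 (tt N9476 (iv1 F23412)) (tt N9475 F23411) (tt N4475 (iv2 F22536)) (tt N8113 F22535) (tt N9706 D14291) (tt N2164 (iv5 D6823)) (tt N9707 D14292) (tt N4660 F22524))
theorem Q4669 : ∀ i, i < 4669 → P i := stepQ 4668 Q4668 (allL N4668 (tt N9708 D14293) (tt N2183 F22556) (tt N4476 (iv2 F22533)) (tt N8114 F22534) (tt N8994 F22525) (tt N9709 D14294) (tt N2164 (iv6 D6824)) (tt N9710 D14295))
theorem Q4670 : ∀ i, i < 4670 → P i := stepQ 4669 Q4669 (allL N4669 (tt N2165 (iv1 D6826)) (tt N4664 F11072) (tt N4617 (iv2 F22530)) (tt N8115 F22531) (tt N9711 D14296) (tt N7790 F22532) (tt N9712 D14297) (tt N4662 (iv7 F22541)))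
theorem Q4671 : ∀ i, i < 4671 → P i := stepQ 4670 Q4670 (allL N4670 (tt N9713 D14298) (tt N9714 D14299) (tt N4663 F11073) (tt N9715 D14300) (tt N2165 (iv4 D6827)) (tt N9716 D14301) (tt N8116 (iv6 F20264)) (tt N9717 D14302))
theorem Q4672 : ∀ i, i < 4672 → P i := stepQ 4671 Q4671 (allL N4671 (tt N4617 (iv1 F22540)) (tt N4662 F11078) (tt N4664 F11074) (tt N9705 (iv3 F23846)) (tt N9717 (iv4 F23885)) (tt N2166 F11075) (tt N9718 D14303) (tt N2165 (iv7 D6828)))
theorem Q4673 : ∀ i, i < 4673 → P i := stepQ 4672 Q4672 (allL N4672 (tt N2167 (iv1 D6829)) (tt N2179 F11079) (tt N2177 (iv2 F11081)) (tt N7517 F19542) (tt N4440 (iv4 F11082)) (tt N9719 D14304) (tt N7586 (iv6 F18975)) (tt N2176 F11080))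
theorem Q4674 : ∀ i, i < 4674 → P i := stepQ 4673 Q4673 (allL N4673 (tt N9720 D14305) (tt N8130 (iv0 F20322)) (tt N2178 F11083) (tt N5264 (iv3 F11884)) (tt N9721 D14306) (tt N2167 (iv5 D6830)) (tt N2170 F11084) (tt N9722 D14307))
theorem Q4675 : ∀ i, i < 4675 → P i := stepQ 4674 Q4674 (allL N4674 (tt N2177 (iv1 F11087)) (tt N2176 F11088) (tt N2179 F11085) (tt N5265 (iv3 F11888)) (tt N8107 (iv4 F20240)) (tt N9722 (iv5 F23910)) (tt N4674 F11086) (tt N2167 (iv7 D6831)))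
theorem Q4676 : ∀ i, i < 4676 → P i := stepQ 4675 Q4675 (allL N4675 (tt N4846 F11289) (tt N3783 (iv0 F19357)) (tt N4704 (iv2 F11138)) (tt N2168 (iv3 D6833)) (tt N4704 (iv4 F11139)) (tt N9723 D14308) (tt N9724 D14309) (tt N2184 F11161))
theorem Q4677 : ∀ i, i < 4677 → P i := stepQ 4676 Q4676 (allL N4676 (tt N7604 F22436) (tt N9725 D14310) (tt N2182 F11163) (tt N9723 (iv3 F23913)) (tt N9726 D14311) (tt N2168 (iv5 D6834)) (tt N9727 D14312) (tt N2186 F11164))
theorem Q4678 : ∀ i, i < 4678 → P i := stepQ 4677 Q4677 (allL N4677 (tt N4476 F22557) (tt N9710 F23876) (tt N2183 F11165) (tt N9724 (iv3 F23915)) (tt N4702 (iv4 F11129)) (tt N5275 F11899) (tt N2168 (iv6 D6835)) (tt N9708 (iv7 F23853)))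
theorem Q4679 : ∀ i, i < 4679 → P i := stepQ 4678 Q4678 (allL N4678 (tt N3438 F11091) (tt N4700 F11133) (tt N2185 F11171) (tt N4715 (iv3 F11155)) (tt N2169 (iv4 D6837)) (tt N9728 D14313) (tt N9729 D14314) (tt N2181 F11172))
theorem Q4680 : ∀ i, i < 4680 → P i := stepQ 4679 Q4679 (allL N4679 (tt N9725 (iv1 F23916)) (tt N7604 F22469) (tt N2186 F11173) (tt N4718 (iv3 F11182)) (tt N9730 D14315) (tt N2169 (iv5 D6838)) (tt N9731 D14316) (tt N2182 F11174))
theorem Q4681 : ∀ i, i < 4681 → P i := stepQ 4680 Q4680 (allL N4680 (tt N8971 F22470) (tt N4289 F22471) (tt N2187 F11175) (tt N4719 (iv3 F11184)) (tt N9729 (iv4 F23925)) (tt N7791 (iv5 F22574)) (tt N2169 (iv6 D6839)) (tt N8970 (iv7 F22544)))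
theorem Q4682 : ∀ i, i < 4682 → P i := stepQ 4681 Q4681 (allL N4681 (tt N2191 (iv1 F11096)) (tt N2170 (iv0 D6840)) (tt N2188 (iv2 F26013)) (tt N9732 D14318) (tt N9733 D14319) (tt N9734 D14320) (tt N9735 D14321) (tt N2189 (iv7 F26018)))
theorem Q4683 : ∀ i, i < 4683 → P i := stepQ 4682 Q4682 (allL N4682 (tt N2170 (iv1 D6841)) (tt N2191 F11092) (tt N2189 F26019) (tt N9736 D14323) (tt N9737 D14324) (tt N5269 (iv5 F11896)) (tt N9738 D14325) (tt N2188 F26020))
theorem Q4684 : ∀ i, i < 4684 → P i := stepQ 4683 Q4683 (allL N4683 (tt N9739 D14326) (tt N9740 D14327) (tt N2190 F11093) (tt N9741 D14328) (tt N2170 (iv4 D6842)) (tt N9742 D14329) (tt N9721 (iv6 F23908)) (tt N9743 D14330))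
theorem Q4685 : ∀ i, i < 4685 → P i := stepQ 4684 Q4684 (allL N4684 (tt N2189 (iv1 F11097)) (tt N2188 F11098) (tt N2191 F11094) (tt N8122 (iv3 F20295)) (tt N9743 (iv4 F23939)) (tt N2171 F11095) (tt N9744 D14331) (tt N2170 (iv7 D6843)))
theorem Q4686 : ∀ i, i < 4686 → P i := stepQ 4685 Q4685 (allL N4685 (tt N7612 (iv1 F19011)) (tt N3729 (iv0 F11099)) (tt N4686 (iv2 F11100)) (tt N7938 (iv3 F19962)) (tt N9745 D14332) (tt N2172 (iv5 D6844)) (tt N5260 (iv6 F11871)) (tt N7576 (iv7 F18961)))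
theorem Q4687 : ∀ i, i < 4687 → P i := stepQ 4686 Q4686 (allL N4686 (tt N3615 F20247) (tt N7830 F20248) (tt N4685 F11100) (tt N3371 F11101) (tt N9746 D14333) (tt N2173 (iv5 D6845)) (tt N5261 (iv6 F11875)) (tt N7808 (iv7 F19629)))
theorem Q4688 : ∀ i, i < 4688 → P i := stepQ 4687 Q4687 (allL N4687 (tt N3877 F19407) (tt N3485 F19408) (tt N4596 F11102) (tt N3787 F11103) (tt N8867 (iv4 F22128)) (tt N9747 D14334) (tt N2174 (iv6 D6846)) (tt N7579 (iv7 F19374)))
theorem Q4689 : ∀ i, i < 4689 → P i := stepQ 4688 Q4688 (allL N4688 (tt N8107 F20243) (tt N2175 (iv0 D6847)) (tt N8104 F22904) (tt N4423 F11104) (tt N8868 (iv4 F22131)) (tt N9748 D14335) (tt N9749 D14336) (tt N8105 (iv7 F22905)))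
theorem Q4690 : ∀ i, i < 4690 → P i := stepQ 4689 Q4689 (allL N4689 (tt N9750 D14337) (tt N9594 (iv0 F38384)) (tt N8106 (iv2 F20235)) (tt N3473 F11105) (tt N9751 D14339) (tt N2175 (iv5 D6849)) (tt N4658 F11106) (tt N9752 D14340))
theorem Q4691 : ∀ i, i < 4691 → P i := stepQ 4690 Q4690 (allL N4690 (tt N8105 (iv1 F20234)) (tt N8104 (iv0 F20231)) (tt N8107 (iv2 F20238)) (tt N3474 F11107) (tt N2179 F11108) (tt N9752 (iv5 F23955)) (tt N4690 F11109) (tt N2175 (iv7 D6850)))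
theorem Q4692 : ∀ i, i < 4692 → P i := stepQ 4691 Q4691 (allL N4691 (tt N7519 (iv1 F19544)) (tt N3790 F19516) (tt N4458 F11110) (tt N2176 (iv3 D6851)) (tt N3868 F11111) (tt N9753 D14341) (tt N9754 D14342) (tt N7517 (iv7 F19532)))
theorem Q4693 : ∀ i, i < 4693 → P i := stepQ 4692 Q4692 (allL N4692 (tt N9755 D14343) (tt N9756 D14344) (tt N9415 (iv2 F23267)) (tt N9753 (iv3 F23957)) (tt N9757 D14345) (tt N2176 (iv5 D6852)) (tt N9758 D14346) (tt N9719 (iv7 F23892)))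
theorem Q4694 : ∀ i, i < 4694 → P i := stepQ 4693 Q4693 (allL N4693 (tt N7810 (iv1 F19661)) (tt N7817 F19660) (tt N7816 F19650) (tt N9754 (iv3 F23959)) (tt N7898 (iv4 F19855)) (tt N8120 F20291) (tt N2176 (iv6 D6853)) (tt N7815 (iv7 F19656)))
theorem Q4695 : ∀ i, i < 4695 → P i := stepQ 4694 Q4694 (allL N4694 (tt N9756 (iv1 F23965)) (tt N9755 F23962) (tt N9719 (iv2 F23891)) (tt N7917 (iv3 F19895)) (tt N9759 D14347) (tt N2177 (iv5 D6854)) (tt N9760 D14348) (tt N9415 (iv7 F23269)))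
theorem Q4696 : ∀ i, i < 4696 → P i := stepQ 4695 Q4695 (allL N4695 (tt N7588 F19902) (tt N7578 (iv0 F20320)) (tt N7586 F18974) (tt N7918 (iv3 F19898)) (tt N4442 F11112) (tt N9511 (iv5 F23493)) (tt N2177 (iv6 D6855)) (tt N7587 (iv7 F18973)))
theorem Q4697 : ∀ i, i < 4697 → P i := stepQ 4696 Q4696 (allL N4696 (tt N9722 (iv1 F23912)) (tt N2178 (iv0 D6856)) (tt N9720 F23903) (tt N9761 D14349) (tt N9762 D14350) (tt N8131 F22283) (tt N9763 D14351) (tt N8130 (iv7 F22284)))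
theorem Q4698 : ∀ i, i < 4698 → P i := stepQ 4697 Q4697 (allL N4697 (tt N2178 (iv1 D6857)) (tt N9722 F23911) (tt N8130 (iv2 F20321)) (tt N7361 (iv3 F18515)) (tt N9764 D14352) (tt N7355 (iv5 F18509)) (tt N9765 D14353) (tt N9720 (iv7 F23904)))
theorem Q4699 : ∀ i, i < 4699 → P i := stepQ 4698 Q4698 (allL N4698 (tt N9766 D14354) (tt N9767 D14355) (tt N9721 (iv2 F23907)) (tt N9768 D14356) (tt N2178 (iv4 D6858)) (tt N9769 D14357) (tt N2190 F11113) (tt N9770 D14358))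
theorem Q4700 : ∀ i, i < 4700 → P i := stepQ 4699 Q4699 (allL N4699 (tt N8130 F20323) (tt N9720 F23906) (tt N9722 (iv2 F23909)) (tt N2201 F11114) (tt N9770 (iv4 F23971)) (tt N2179 F11115) (tt N9771 D14359) (tt N2178 (iv7 D6859)))
theorem Q4701 : ∀ i, i < 4701 → P i := stepQ 4700 Q4700 (allL N4700 (tt N4678 (iv1 F11133)) (tt N2180 (iv0 D6866)) (tt N4703 (iv2 F11145)) (tt N2212 (iv3 F11135)) (tt N9007 (iv4 F22617)) (tt N9772 D14360) (tt N4700 F11136) (tt N4623 F11134))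
theorem Q4702 : ∀ i, i < 4702 → P i := stepQ 4701 Q4701 (allL N4701 (tt N9773 D14361) (tt N9774 D14362) (tt N4705 F11176) (tt N2182 F11127) (tt N9775 D14363) (tt N2180 (iv5 D6868)) (tt N9776 D14364) (tt N4718 (iv7 F11183)))
theorem Q4703 : ∀ i, i < 4703 → P i := stepQ 4702 Q4702 (allL N4702 (tt N9645 (iv1 F23984)) (tt N9777 D14366) (tt N4706 F11177) (tt N2183 F11128) (tt N4677 F11129) (tt N9778 D14367) (tt N2180 (iv6 D6869)) (tt N9779 D14368))
theorem Q4704 : ∀ i, i < 4704 → P i := stepQ 4703 Q4703 (allL N4703 (tt N2185 (iv1 F11143)) (tt N2181 (iv0 D6871)) (tt N4700 F11145) (tt N3441 (iv3 F11144)) (tt N4901 (iv4 F11414)) (tt N9780 D14369) (tt N4703 F11146) (tt N3438 F11147))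
theorem Q4705 : ∀ i, i < 4705 → P i := stepQ 4704 Q4704 (allL N4704 (tt N4714 F11159) (tt N3787 (iv0 F19402)) (tt N4675 F11138) (tt N2181 (iv3 D6873)) (tt N4675 F11139) (tt N9781 D14370) (tt N9782 D14371) (tt N4715 F11160))
theorem Q4706 : ∀ i, i < 4706 → P i := stepQ 4705 Q4705 (allL N4705 (tt N9783 D14372) (tt N9784 D14373) (tt N4701 (iv2 F11176)) (tt N9781 (iv3 F23996)) (tt N9785 D14374) (tt N2181 (iv5 D6874)) (tt N9786 D14375) (tt N9728 (iv7 F23923)))
theorem Q4707 : ∀ i, i < 4707 → P i := stepQ 4706 Q4706 (allL N4706 (tt N9681 F23811) (tt N9787 D14376) (tt N4702 (iv2 F11177)) (tt N9782 (iv3 F23998)) (tt N2183 F11140) (tt N9788 D14377) (tt N2181 (iv6 D6875)) (tt N9789 D14378))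
theorem Q4708 : ∀ i, i < 4708 → P i := stepQ 4707 Q4707 (allL N4707 (tt N2186 (iv1 F11153)) (tt N2182 (iv0 D6877)) (tt N7604 F22550) (tt N8125 F22551) (tt N9790 D14379) (tt N7600 (iv5 F22549)) (tt N9791 D14380) (tt N9725 (iv7 F23917)))
theorem Q4709 : ∀ i, i < 4709 → P i := stepQ 4708 Q4708 (allL N4708 (tt N2182 (iv1 D6878)) (tt N2186 F11150) (tt N9725 F23918) (tt N2207 F22558) (tt N9792 D14381) (tt N7605 F22559) (tt N9793 D14382) (tt N7604 F22560))
theorem Q4710 : ∀ i, i < 4710 → P i := stepQ 4709 Q4709 (allL N4709 (tt N9794 D14383) (tt N9795 D14384) (tt N9726 (iv2 F23919)) (tt N9796 D14385) (tt N2182 (iv4 D6879)) (tt N9797 D14386) (tt N9798 D14387) (tt N9730 (iv7 F23927)))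
theorem Q4711 : ∀ i, i < 4711 → P i := stepQ 4710 Q4710 (allL N4710 (tt N9799 D14388) (tt N9800 D14389) (tt N9727 (iv2 F23921)) (tt N9776 (iv3 F23981)) (tt N9798 (iv4 F24029)) (tt N9801 D14390) (tt N2182 (iv6 D6880)) (tt N9802 D14391))
theorem Q4712 : ∀ i, i < 4712 → P i := stepQ 4711 Q4711 (allL N4711 (tt N2183 (iv1 D6883)) (tt N9708 F23859) (tt N9710 (iv2 F23874)) (tt N2210 F22552) (tt N7870 F22553) (tt N9803 D14392) (tt N4306 F22554) (tt N4476 F22555))
theorem Q4713 : ∀ i, i < 4713 → P i := stepQ 4712 Q4712 (allL N4712 (tt N5264 F11886) (tt N5277 F11904) (tt N5275 (iv2 F11900)) (tt N9778 (iv3 F23985)) (tt N9804 D14393) (tt N2183 (iv5 D6884)) (tt N9801 (iv6 F24030)) (tt N5274 F22548))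
theorem Q4714 : ∀ i, i < 4714 → P i := stepQ 4713 Q4713 (allL N4713 (tt N9710 (iv1 F23877)) (tt N4476 F23854) (tt N9708 F23851) (tt N9779 (iv3 F23987)) (tt N9789 (iv4 F24022)) (tt N5274 (iv5 F22547)) (tt N8970 F22546) (tt N2183 (iv7 D6885)))
theorem Q4715 : ∀ i, i < 4715 → P i := stepQ 4714 Q4714 (allL N4714 (tt N2184 (iv1 D6888)) (tt N4704 (iv0 F11159)) (tt N4846 (iv2 F19413)) (tt N2202 F11158) (tt N3926 (iv4 F11157)) (tt N9805 D14394) (tt N4714 F19414) (tt N3783 F19415))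
theorem Q4716 : ∀ i, i < 4716 → P i := stepQ 4715 Q4715 (allL N4715 (tt N3783 (iv1 F19358)) (tt N4846 (iv0 F11288)) (tt N2184 (iv2 D6889)) (tt N4678 F11155) (tt N2184 (iv4 F11156)) (tt N9806 D14395) (tt N9807 D14396) (tt N4704 (iv7 F11160)))
theorem Q4717 : ∀ i, i < 4717 → P i := stepQ 4716 Q4716 (allL N4716 (tt N9808 D14397) (tt N9809 D14398) (tt N9806 (iv2 F24038)) (tt N2186 F11180) (tt N9810 D14399) (tt N2184 (iv5 D6890)) (tt N9811 D14400) (tt N9723 (iv7 F23914)))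
theorem Q4718 : ∀ i, i < 4718 → P i := stepQ 4717 Q4717 (allL N4717 (tt N9812 D14401) (tt N9576 (iv0 F24053)) (tt N9807 (iv2 F24041)) (tt N2187 F11181) (tt N9807 (iv4 F24043)) (tt N9813 D14403) (tt N2184 (iv6 D6891)) (tt N9814 D14404))
theorem Q4719 : ∀ i, i < 4719 → P i := stepQ 4718 Q4718 (allL N4718 (tt N9784 (iv1 F24008)) (tt N9783 F24003) (tt N9728 (iv2 F23922)) (tt N4679 F11182) (tt N9815 D14405) (tt N2185 (iv5 D6892)) (tt N9816 D14406) (tt N4701 F11183))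
theorem Q4720 : ∀ i, i < 4720 → P i := stepQ 4719 Q4719 (allL N4719 (tt N9817 D14407) (tt N9687 (iv0 F23821)) (tt N9729 (iv2 F23924)) (tt N4680 F11184) (tt N2187 F11185) (tt N9818 D14408) (tt N2185 (iv6 D6893)) (tt N9819 D14409))
theorem Q4721 : ∀ i, i < 4721 → P i := stepQ 4720 Q4720 (allL N4720 (tt N9795 (iv1 F24028)) (tt N9794 F24027) (tt N9730 (iv2 F23926)) (tt N9820 D14410) (tt N2186 (iv4 D6894)) (tt N9821 D14411) (tt N9822 D14412) (tt N9726 (iv7 F23920)))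
theorem Q4722 : ∀ i, i < 4722 → P i := stepQ 4721 Q4721 (allL N4721 (tt N9823 D14413) (tt N9824 D14414) (tt N9731 (iv2 F23928)) (tt N9811 (iv3 F24049)) (tt N9822 (iv4 F24064)) (tt N9825 D14415) (tt N2186 (iv6 D6895)) (tt N9826 D14416))
theorem Q4723 : ∀ i, i < 4723 → P i := stepQ 4722 Q4722 (allL N4722 (tt N3609 F22587) (tt N7789 F22588) (tt N7791 F22575) (tt N9813 (iv3 F24050)) (tt N9827 D14417) (tt N2187 (iv5 D6898)) (tt N9825 (iv6 F24065)) (tt N7792 F22586))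
theorem Q4724 : ∀ i, i < 4724 → P i := stepQ 4723 Q4723 (allL N4723 (tt N4289 F22472) (tt N8971 F22473) (tt N8970 F22545) (tt N9814 (iv3 F24054)) (tt N9819 (iv4 F24060)) (tt N7792 (iv5 F22585)) (tt N9708 (iv6 F23852)) (tt N2187 (iv7 D6899)))
theorem Q4725 : ∀ i, i < 4725 → P i := stepQ 4724 Q4724 (allL N4724 (tt N9772 (iv1 F24077)) (tt N7271 (iv0 F24076)) (tt N9828 D14426) (tt N2188 (iv3 D6901)) (tt N9829 D14427) (tt N9830 D14428) (tt N9831 D14429) (tt N9736 (iv7 F26021)))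
theorem Q4726 : ∀ i, i < 4726 → P i := stepQ 4725 Q4725 (allL N4725 (tt N9832 D14431) (tt N9833 D14432) (tt N9733 (iv2 F26015)) (tt N9834 D14433) (tt N2188 (iv4 D6902)) (tt N9835 D14434) (tt N9836 D14435) (tt N9737 (iv7 F26023)))
theorem Q4727 : ∀ i, i < 4727 → P i := stepQ 4726 Q4726 (allL N4726 (tt N9837 D14437) (tt N3610 F22597) (tt N9734 (iv2 F26011)) (tt N9830 (iv3 F24078)) (tt N9838 D14438) (tt N2188 (iv5 D6903)) (tt N9839 D14439) (tt N5269 (iv7 F26025)))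
theorem Q4728 : ∀ i, i < 4728 → P i := stepQ 4727 Q4727 (allL N4727 (tt N9840 D14441) (tt N9841 D14442) (tt N9735 (iv2 F26017)) (tt N9831 (iv3 F24082)) (tt N9836 (iv4 F24085)) (tt N9842 D14443) (tt N2188 (iv6 D6904)) (tt N9843 D14444))
theorem Q4729 : ∀ i, i < 4729 → P i := stepQ 4728 Q4728 (allL N4728 (tt N7932 F19944) (tt N9805 F24037) (tt N9844 D14446) (tt N2189 (iv3 D6906)) (tt N9845 D14447) (tt N7346 F19469) (tt N9846 D14448) (tt N9732 (iv7 F26014)))
theorem Q4730 : ∀ i, i < 4730 → P i := stepQ 4729 Q4729 (allL N4729 (tt N9833 (iv1 F24084)) (tt N9832 F24088) (tt N9737 (iv2 F26022)) (tt N9847 D14449) (tt N2189 (iv4 D6907)) (tt N9848 D14450) (tt N9849 D14451) (tt N9733 (iv7 F26016)))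
theorem Q4731 : ∀ i, i < 4731 → P i := stepQ 4730 Q4730 (allL N4730 (tt N3610 F24073) (tt N9837 F24093) (tt N5269 (iv2 F26024)) (tt N7346 (iv3 F19468)) (tt N9850 D14452) (tt N2189 (iv5 D6908)) (tt N5262 (iv6 F11881)) (tt N9734 (iv7 F26012)))
theorem Q4732 : ∀ i, i < 4732 → P i := stepQ 4731 Q4731 (allL N4731 (tt N9851 D14453) (tt N9852 D14454) (tt N9738 (iv2 F26026)) (tt N9846 (iv3 F24102)) (tt N9849 (iv4 F24103)) (tt N9853 D14455) (tt N2189 (iv6 D6909)) (tt N9854 D14456))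
theorem Q4733 : ∀ i, i < 4733 → P i := stepQ 4732 Q4732 (allL N4732 (tt N9743 (iv1 F23942)) (tt N2190 (iv0 D6910)) (tt N9739 (iv2 F37121)) (tt N9855 D14458) (tt N9856 D14459) (tt N9857 D14460) (tt N9858 D14461) (tt N9740 (iv7 F37126)))
theorem Q4734 : ∀ i, i < 4734 → P i := stepQ 4733 Q4733 (allL N4733 (tt N2190 (iv1 D6911)) (tt N9743 F23941) (tt N9740 (iv2 F37125)) (tt N9859 D14463) (tt N9860 D14464) (tt N9861 D14465) (tt N9862 D14466) (tt N9739 (iv7 F37122)))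
theorem Q4735 : ∀ i, i < 4735 → P i := stepQ 4734 Q4734 (allL N4734 (tt N9863 D14467) (tt N9864 D14468) (tt N9865 D14469) (tt N2190 (iv3 D6912)) (tt N2230 F11188) (tt N9866 D14470) (tt N9768 (iv6 F23970)) (tt N9867 D14471))
theorem Q4736 : ∀ i, i < 4736 → P i := stepQ 4735 Q4735 (allL N4735 (tt N9868 D14472) (tt N9869 D14473) (tt N9742 (iv2 F23937)) (tt N9866 (iv3 F24112)) (tt N9870 D14474) (tt N2190 (iv5 D6913)) (tt N9871 D14475) (tt N9872 D14476))
theorem Q4737 : ∀ i, i < 4737 → P i := stepQ 4736 Q4736 (allL N4736 (tt N9740 (iv1 F23936)) (tt N9739 F23940) (tt N9743 (iv2 F23938)) (tt N9867 (iv3 F24113)) (tt N2191 F11189) (tt N9872 (iv5 F24115)) (tt N9873 D14477) (tt N2190 (iv7 D6914)))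
theorem Q4738 : ∀ i, i < 4738 → P i := stepQ 4737 Q4737 (allL N4737 (tt N9874 D14478) (tt N9875 D14479) (tt N9744 (iv2 F23943)) (tt N2233 F11190) (tt N9873 (iv4 F24116)) (tt N4737 F11191) (tt N2191 (iv6 D6915)) (tt N9771 (iv7 F23974)))
theorem Q4739 : ∀ i, i < 4739 → P i := stepQ 4738 Q4738 (allL N4738 (tt N9876 D14480) (tt N9877 D14481) (tt N7738 (iv2 F19223)) (tt N2193 F11192) (tt N9878 D14482) (tt N2192 (iv5 D6916)) (tt N9879 D14483) (tt N5283 (iv7 F11926)))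
theorem Q4740 : ∀ i, i < 4740 → P i := stepQ 4739 Q4739 (allL N4739 (tt N7755 F19267) (tt N7775 F19564) (tt N7739 (iv2 F19224)) (tt N2194 F11193) (tt N9390 (iv4 F23226)) (tt N2225 (iv5 F11194)) (tt N2192 (iv6 D6917)) (tt N7774 F19562))
theorem Q4741 : ∀ i, i < 4741 → P i := stepQ 4740 Q4740 (allL N4740 (tt N2193 (iv1 D6918)) (tt N2196 F11196) (tt N4783 (iv2 F11237)) (tt N9756 (iv3 F23968)) (tt N9880 D14484) (tt N3891 F11198) (tt N7619 (iv6 F19016)) (tt N4569 F11197))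
theorem Q4742 : ∀ i, i < 4742 → P i := stepQ 4741 Q4741 (allL N4741 (tt N9441 (iv1 F23336)) (tt N9881 D14485) (tt N5280 (iv2 F11919)) (tt N9882 D14486) (tt N2193 (iv4 D6919)) (tt N9883 D14487) (tt N9884 D14488) (tt N5285 (iv7 F11929)))
theorem Q4743 : ∀ i, i < 4743 → P i := stepQ 4742 Q4742 (allL N4742 (tt N9885 D14489) (tt N9886 D14490) (tt N5281 (iv2 F11921)) (tt N9879 (iv3 F24124)) (tt N9884 (iv4 F24135)) (tt N2227 F11199) (tt N2193 (iv6 D6920)) (tt N9887 D14491))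
theorem Q4744 : ∀ i, i < 4744 → P i := stepQ 4743 Q4743 (allL N4743 (tt N9888 D14492) (tt N9590 F23692) (tt N7523 F19548) (tt N2196 F11200) (tt N9889 D14493) (tt N2195 (iv5 D6923)) (tt N9890 D14494) (tt N5278 (iv7 F11913)))
theorem Q4745 : ∀ i, i < 4745 → P i := stepQ 4744 Q4744 (allL N4744 (tt N7549 F23693) (tt N7531 (iv0 F38346)) (tt N7524 (iv2 F19496)) (tt N2197 F11201) (tt N8150 (iv4 F20348)) (tt N9479 (iv5 F23416)) (tt N2195 (iv6 D6924)) (tt N7547 (iv7 F19332)))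
theorem Q4746 : ∀ i, i < 4746 → P i := stepQ 4745 Q4745 (allL N4745 (tt N9881 (iv1 F24129)) (tt N9441 (iv0 F23335)) (tt N5285 (iv2 F11928)) (tt N9891 D14496) (tt N2196 (iv4 D6925)) (tt N9892 D14497) (tt N9893 D14498) (tt N5280 (iv7 F11920)))
theorem Q4747 : ∀ i, i < 4747 → P i := stepQ 4746 Q4746 (allL N4746 (tt N9894 D14499) (tt N8154 (iv0 F20361)) (tt N5286 (iv2 F11930)) (tt N9890 (iv3 F24140)) (tt N9893 (iv4 F24144)) (tt N9480 (iv5 F23419)) (tt N2196 (iv6 D6926)) (tt N9895 D14500))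
theorem Q4748 : ∀ i, i < 4748 → P i := stepQ 4747 Q4747 (allL N4747 (tt N7742 (iv1 F19244)) (tt N3692 F19245) (tt N7740 F19226) (tt N2198 (iv3 D6927)) (tt N9896 D14501) (tt N8152 (iv5 F20353)) (tt N9897 D14502) (tt N5290 (iv7 F11939)))
theorem Q4749 : ∀ i, i < 4749 → P i := stepQ 4748 Q4748 (allL N4748 (tt N7493 (iv1 F18790)) (tt N3526 F11202) (tt N5288 (iv2 F11934)) (tt N9898 D14503) (tt N2198 (iv4 D6928)) (tt N9899 D14504) (tt N9900 D14505) (tt N5291 (iv7 F11942)))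
theorem Q4750 : ∀ i, i < 4750 → P i := stepQ 4749 Q4749 (allL N4749 (tt N9901 D14506) (tt N9902 D14507) (tt N5289 (iv2 F11937)) (tt N9897 (iv3 F24148)) (tt N9900 (iv4 F24150)) (tt N7802 (iv5 F19615)) (tt N2198 (iv6 D6929)) (tt N9903 D14508))
theorem Q4751 : ∀ i, i < 4751 → P i := stepQ 4750 Q4750 (allL N4750 (tt N3574 F19436) (tt N7527 F19437) (tt N7525 (iv2 F19429)) (tt N2199 (iv3 D6930)) (tt N9904 D14509) (tt N2205 F11203) (tt N9905 D14510) (tt N5287 (iv7 F11933)))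
theorem Q4752 : ∀ i, i < 4752 → P i := stepQ 4751 Q4751 (allL N4751 (tt N3526 F11204) (tt N7493 F18789) (tt N5291 (iv2 F11941)) (tt N9906 D14511) (tt N2199 (iv4 D6931)) (tt N9907 D14512) (tt N8348 (iv6 F312646)) (tt N5288 (iv7 F11935)))
theorem Q4753 : ∀ i, i < 4753 → P i := stepQ 4752 Q4752 (allL N4752 (tt N9908 D14514) (tt N9909 D14515) (tt N5292 (iv2 F11944)) (tt N9905 (iv3 F24153)) (tt N8348 F313685) (tt N2209 F11205) (tt N2199 (iv6 D6932)) (tt N9910 D14516))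
theorem Q4754 : ∀ i, i < 4754 → P i := stepQ 4753 Q4753 (allL N4753 (tt N5297 (iv1 F11959)) (tt N2200 (iv0 D6933)) (tt N5293 F11947) (tt N9911 D14517) (tt N3557 F11206) (tt N9912 D14518) (tt N9913 D14519) (tt N5294 (iv7 F11951)))
theorem Q4755 : ∀ i, i < 4755 → P i := stepQ 4754 Q4754 (allL N4754 (tt N2200 (iv1 D6934)) (tt N5297 F11958) (tt N5294 F11953) (tt N9914 D14520) (tt N2243 F11207) (tt N9915 D14521) (tt N5117 (iv6 F311305)) (tt N5293 F11948))
theorem Q4756 : ∀ i, i < 4756 → P i := stepQ 4755 Q4755 (allL N4755 (tt N9916 D14523) (tt N9917 D14524) (tt N9918 D14525) (tt N2200 (iv3 D6935)) (tt N9768 (iv4 F23969)) (tt N9919 D14526) (tt N2230 F11208) (tt N9920 D14527))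
theorem Q4757 : ∀ i, i < 4757 → P i := stepQ 4756 Q4756 (allL N4756 (tt N9921 D14528) (tt N9552 (iv0 F26540)) (tt N5296 (iv2 F11955)) (tt N9919 (iv3 F24163)) (tt N5329 (iv4 F12033)) (tt N2200 (iv5 D6936)) (tt N9922 D14530) (tt N5327 F12031))
theorem Q4758 : ∀ i, i < 4758 → P i := stepQ 4757 Q4757 (allL N4757 (tt N5294 (iv1 F11950)) (tt N5293 F11949) (tt N5297 (iv2 F11956)) (tt N9920 (iv3 F24164)) (tt N2201 F11209) (tt N5327 (iv5 F12030)) (tt N9923 D14531) (tt N2200 (iv7 D6937)))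
theorem Q4759 : ∀ i, i < 4759 → P i := stepQ 4758 Q4758 (allL N4758 (tt N8204 (iv1 F20480)) (tt N8203 F20479) (tt N5298 (iv2 F11960)) (tt N9771 (iv3 F23972)) (tt N9923 (iv4 F24172)) (tt N4758 F11210) (tt N2201 (iv6 D6938)) (tt N2233 F11211))
theorem Q4760 : ∀ i, i < 4760 → P i := stepQ 4759 Q4759 (allL N4759 (tt N9015 F22639) (tt N4263 (iv0 F19153)) (tt N8160 (iv2 F20377)) (tt N3756 F11213) (tt N2202 (iv4 D6940)) (tt N9924 D14532) (tt N4759 F19420) (tt N4594 (iv7 F19419)))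
theorem Q4761 : ∀ i, i < 4761 → P i := stepQ 4760 Q4760 (allL N4760 (tt N8179 (iv1 F20432)) (tt N2221 F20386) (tt N8161 (iv2 F20383)) (tt N9805 (iv3 F24035)) (tt N9925 D14533) (tt N2202 (iv5 D6941)) (tt N9926 D14534) (tt N4595 (iv7 F19435)))
theorem Q4762 : ∀ i, i < 4762 → P i := stepQ 4761 Q4761 (allL N4761 (tt N7560 F19425) (tt N8162 F20390) (tt N2204 F11215) (tt N7340 (iv3 F18484)) (tt N9927 D14535) (tt N2203 (iv5 D6948)) (tt N9928 D14536) (tt N7770 (iv7 F19307)))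
theorem Q4763 : ∀ i, i < 4763 → P i := stepQ 4762 Q4762 (allL N4762 (tt N4610 (iv1 F24184)) (tt N9929 D14538) (tt N2205 F11216) (tt N7341 (iv3 F18490)) (tt N7753 (iv4 F19258)) (tt N7525 F19424) (tt N2203 (iv6 D6949)) (tt N9930 D14539))
theorem Q4764 : ∀ i, i < 4764 → P i := stepQ 4763 Q4763 (allL N4763 (tt N7770 (iv1 F19309)) (tt N2204 (iv0 D6950)) (tt N7560 (iv2 F19439)) (tt N9809 (iv3 F24048)) (tt N9931 D14540) (tt N7533 F19438) (tt N9932 D14541) (tt N8162 (iv7 F20391)))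
theorem Q4765 : ∀ i, i < 4765 → P i := stepQ 4764 Q4764 (allL N4764 (tt N2204 (iv1 D6951)) (tt N7770 F19308) (tt N8162 F20389) (tt N9933 D14542) (tt N9934 D14543) (tt N7561 (iv5 F19443)) (tt N9935 D14544) (tt N7560 F19442))
theorem Q4766 : ∀ i, i < 4766 → P i := stepQ 4765 Q4765 (allL N4765 (tt N9936 D14545) (tt N9937 D14546) (tt N9927 (iv2 F24178)) (tt N9938 D14547) (tt N2204 (iv4 D6952)) (tt N9939 D14548) (tt N9940 D14549) (tt N8163 (iv7 F20392)))
theorem Q4767 : ∀ i, i < 4767 → P i := stepQ 4766 Q4766 (allL N4766 (tt N9941 D14550) (tt N9942 D14551) (tt N9928 (iv2 F24179)) (tt N2209 F11217) (tt N9940 (iv4 F24191)) (tt N9905 (iv5 F24154)) (tt N2204 (iv6 D6953)) (tt N9943 D14552))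
theorem Q4768 : ∀ i, i < 4768 → P i := stepQ 4767 Q4767 (allL N4767 (tt N9930 (iv1 F24189)) (tt N2205 (iv0 D6954)) (tt N4610 F22968) (tt N9200 F22966) (tt N9944 D14553) (tt N9945 D14554) (tt N4600 (iv6 F22967)) (tt N9929 (iv7 F24182)))
theorem Q4769 : ∀ i, i < 4769 → P i := stepQ 4768 Q4768 (allL N4768 (tt N2205 (iv1 D6955)) (tt N9930 F24188) (tt N9929 F24183) (tt N9946 D14555) (tt N9947 D14556) (tt N9948 D14557) (tt N9949 D14558) (tt N4610 F22969))
theorem Q4770 : ∀ i, i < 4770 → P i := stepQ 4769 Q4769 (allL N4769 (tt N9929 (iv1 F24180)) (tt N4610 (iv0 F23682)) (tt N9930 (iv2 F24186)) (tt N2211 F11218) (tt N7766 (iv4 F19300)) (tt N5287 (iv5 F11932)) (tt N7867 (iv6 F19771)) (tt N2205 (iv7 D6956)))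
theorem Q4771 : ∀ i, i < 4771 → P i := stepQ 4770 Q4770 (allL N4770 (tt N8118 (iv1 F20272)) (tt N7354 (iv0 F18505)) (tt N8125 F20311) (tt N2206 (iv3 D6957)) (tt N9950 D14559) (tt N3721 F11219) (tt N9951 D14560) (tt N8126 (iv7 F20313)))
theorem Q4772 : ∀ i, i < 4772 → P i := stepQ 4771 Q4771 (allL N4771 (tt N2266 F11220) (tt N2240 F11221) (tt N7611 (iv2 F19007)) (tt N9952 D14561) (tt N2206 (iv4 D6958)) (tt N9953 D14562) (tt N9954 D14563) (tt N8153 (iv7 F20356)))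
theorem Q4773 : ∀ i, i < 4773 → P i := stepQ 4772 Q4772 (allL N4772 (tt N9955 D14564) (tt N9956 D14565) (tt N7609 (iv2 F19005)) (tt N9951 (iv3 F24220)) (tt N9954 (iv4 F24225)) (tt N3723 F11222) (tt N2206 (iv6 D6959)) (tt N9957 D14566))
theorem Q4774 : ∀ i, i < 4774 → P i := stepQ 4773 Q4773 (allL N4773 (tt N2240 F11223) (tt N2266 F11224) (tt N8153 (iv2 F20355)) (tt N9958 D14567) (tt N2207 (iv4 D6961)) (tt N9959 D14568) (tt N9960 D14569) (tt N7611 (iv7 F19008)))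
theorem Q4775 : ∀ i, i < 4775 → P i := stepQ 4774 Q4774 (allL N4774 (tt N5286 F11931) (tt N9895 F24147) (tt N8154 (iv2 F20359)) (tt N9793 (iv3 F24025)) (tt N9960 (iv4 F24230)) (tt N4646 F11225) (tt N2207 (iv6 D6962)) (tt N9894 F24146))
theorem Q4776 : ∀ i, i < 4776 → P i := stepQ 4775 Q4775 (allL N4775 (tt N2217 (iv1 F11227)) (tt N2208 (iv0 D6963)) (tt N4859 (iv2 F11305)) (tt N9961 D14570) (tt N3762 F11226) (tt N9962 D14571) (tt N9963 D14572) (tt N4862 (iv7 F11311)))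
theorem Q4777 : ∀ i, i < 4777 → P i := stepQ 4776 Q4776 (allL N4776 (tt N2208 (iv1 D6964)) (tt N2217 F11228) (tt N4862 (iv2 F11310)) (tt N9964 D14573) (tt N3914 F11229) (tt N9965 D14574) (tt N9966 D14575) (tt N4859 (iv7 F11306)))
theorem Q4778 : ∀ i, i < 4778 → P i := stepQ 4777 Q4777 (allL N4777 (tt N9967 D14576) (tt N9968 D14577) (tt N9969 D14578) (tt N2208 (iv3 D6965)) (tt N9938 (iv4 F24190)) (tt N9970 D14579) (tt N9971 D14580) (tt N8165 (iv7 F20394)))
theorem Q4779 : ∀ i, i < 4779 → P i := stepQ 4778 Q4778 (allL N4778 (tt N4378 (iv1 F11232)) (tt N4348 F11231) (tt N8156 (iv2 F20363)) (tt N9970 (iv3 F24239)) (tt N2303 F11230) (tt N2208 (iv5 D6966)) (tt N5508 F311235) (tt N8166 (iv7 F20397)))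
theorem Q4780 : ∀ i, i < 4780 → P i := stepQ 4779 Q4779 (allL N4779 (tt N3996 F316026) (tt N5115 F316027) (tt N5114 (iv2 F316518)) (tt N9971 (iv3 F24240)) (tt N2209 F11233) (tt N5509 F316028) (tt N2208 (iv6 D6967)) (tt N5113 (iv7 F316485)))
theorem Q4781 : ∀ i, i < 4781 → P i := stepQ 4780 Q4780 (allL N4780 (tt N8159 (iv1 F20376)) (tt N2209 (iv0 D6968)) (tt N8157 (iv2 F48953)) (tt N9972 D14587) (tt N2390 F318351) (tt N4781 F11234) (tt N9885 (iv6 F24136)) (tt N8158 F48952))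
theorem Q4782 : ∀ i, i < 4782 → P i := stepQ 4781 Q4781 (allL N4781 (tt N2209 (iv1 D6969)) (tt N8159 F20375) (tt N8158 (iv2 F48951)) (tt N9800 F111202) (tt N8399 F318405) (tt N4780 (iv5 F11234)) (tt N9973 D14592) (tt N8157 (iv7 F48954)))
theorem Q4783 : ∀ i, i < 4783 → P i := stepQ 4782 Q4782 (allL N4782 (tt N8158 (iv1 F20370)) (tt N8157 F20374) (tt N8159 (iv2 F20372)) (tt N9943 (iv3 F24192)) (tt N5113 F318335) (tt N9910 (iv5 F24157)) (tt N8169 (iv6 F20403)) (tt N2209 (iv7 D6970)))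
theorem Q4784 : ∀ i, i < 4784 → P i := stepQ 4783 Q4783 (allL N4783 (tt N2432 F11239) (tt N2435 F11240) (tt N4740 F11237) (tt N9803 (iv3 F24031)) (tt N9974 D14593) (tt N2210 (iv5 D6972)) (tt N4803 F11256) (tt N4479 F11238))
theorem Q4785 : ∀ i, i < 4785 → P i := stepQ 4784 Q4784 (allL N4784 (tt N2225 (iv1 F11242)) (tt N7342 F18494) (tt N7344 (iv2 F18495)) (tt N9772 (iv3 F23975)) (tt N9975 D14594) (tt N2212 (iv5 D6973)) (tt N9976 D14595) (tt N4624 F11241))
theorem Q4786 : ∀ i, i < 4786 → P i := stepQ 4785 Q4785 (allL N4785 (tt N4631 (iv1 F19397)) (tt N7670 F19103) (tt N2214 F11243) (tt N7767 (iv3 F19302)) (tt N2213 (iv4 D6974)) (tt N9977 D14596) (tt N9978 D14597) (tt N7339 (iv7 F18480)))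
theorem Q4787 : ∀ i, i < 4787 → P i := stepQ 4786 Q4786 (allL N4786 (tt N8147 (iv1 F20341)) (tt N8146 F20336) (tt N2215 F11244) (tt N7770 (iv3 F19306)) (tt N9979 D14598) (tt N2213 (iv5 D6975)) (tt N9980 D14599) (tt N7340 (iv7 F18485)))
theorem Q4788 : ∀ i, i < 4788 → P i := stepQ 4787 Q4787 (allL N4787 (tt N9981 D14600) (tt N4637 F18390) (tt N2216 F11245) (tt N7771 (iv3 F19311)) (tt N9978 (iv4 F24255)) (tt N7760 (iv5 F19286)) (tt N2213 (iv6 D6976)) (tt N9982 D14601))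
theorem Q4789 : ∀ i, i < 4789 → P i := stepQ 4788 Q4788 (allL N4788 (tt N2214 (iv1 D6978)) (tt N7339 (iv0 F18481)) (tt N7670 (iv2 F19394)) (tt N9983 D14602) (tt N4845 (iv4 F11287)) (tt N9984 D14603) (tt N4788 F19370) (tt N4631 F19375))
theorem Q4790 : ∀ i, i < 4790 → P i := stepQ 4789 Q4789 (allL N4789 (tt N9985 D14604) (tt N9986 D14605) (tt N9977 (iv2 F24253)) (tt N4361 F11246) (tt N9987 D14606) (tt N2214 (iv5 D6979)) (tt N9988 D14607) (tt N7971 (iv7 F20007)))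
theorem Q4791 : ∀ i, i < 4791 → P i := stepQ 4790 Q4790 (allL N4790 (tt N9989 D14608) (tt N9990 D14609) (tt N9978 (iv2 F24254)) (tt N4362 F11247) (tt N2216 F11248) (tt N9991 D14610) (tt N2214 (iv6 D6980)) (tt N9992 D14611))
theorem Q4792 : ∀ i, i < 4792 → P i := stepQ 4791 Q4791 (allL N4791 (tt N7340 (iv1 F18488)) (tt N2215 (iv0 D6981)) (tt N8147 F20343) (tt N7357 (iv3 F20340)) (tt N9993 D14612) (tt N9994 D14613) (tt N9995 D14614) (tt N8146 F20339))
theorem Q4793 : ∀ i, i < 4793 → P i := stepQ 4792 Q4792 (allL N4792 (tt N2215 (iv1 D6982)) (tt N7340 F18486) (tt N8146 F20337) (tt N9773 F23979) (tt N9996 D14615) (tt N3703 F18487) (tt N9997 D14616) (tt N8147 (iv7 F20342)))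
theorem Q4794 : ∀ i, i < 4794 → P i := stepQ 4793 Q4793 (allL N4793 (tt N9998 D14617) (tt N9999 D14618) (tt N9979 (iv2 F24256)) (tt N10000 D14619) (tt N2215 (iv4 D6983)) (tt N10001 D14620) (tt N10002 D14621) (tt N8148 (iv7 F20345)))
theorem Q4795 : ∀ i, i < 4795 → P i := stepQ 4794 Q4794 (allL N4794 (tt N10003 D14622) (tt N10004 D14623) (tt N9980 (iv2 F24257)) (tt N2218 F11249) (tt N10002 (iv4 F24300)) (tt N10005 D14624) (tt N2215 (iv6 D6984)) (tt N10006 D14625))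
theorem Q4796 : ∀ i, i < 4796 → P i := stepQ 4795 Q4795 (allL N4795 (tt N9982 (iv1 F24265)) (tt N2216 (iv0 D6985)) (tt N9981 F24260) (tt N7369 F18530) (tt N4809 F11493) (tt N3704 F19279) (tt N10007 D14626) (tt N4637 (iv7 F11918)))
theorem Q4797 : ∀ i, i < 4797 → P i := stepQ 4796 Q4796 (allL N4796 (tt N2216 (iv1 D6986)) (tt N9982 F24264) (tt N4637 F24203) (tt N9679 F24204) (tt N7513 F24205) (tt N3705 F24206) (tt N4626 F24207) (tt N9981 (iv7 F24261)))
theorem Q4798 : ∀ i, i < 4798 → P i := stepQ 4797 Q4797 (allL N4797 (tt N7754 (iv1 F19263)) (tt N7752 (iv0 F19256)) (tt N7760 F19288) (tt N2219 F11250) (tt N10008 D14627) (tt N2216 (iv5 D6987)) (tt N10005 (iv6 F24303)) (tt N7761 (iv7 F19290)))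
theorem Q4799 : ∀ i, i < 4799 → P i := stepQ 4798 Q4798 (allL N4798 (tt N4637 F18388) (tt N9981 F24262) (tt N9982 (iv2 F24263)) (tt N2220 F11251) (tt N9992 (iv4 F24281)) (tt N7761 F19292) (tt N8152 (iv6 F20354)) (tt N2216 (iv7 D6988)))
theorem Q4800 : ∀ i, i < 4800 → P i := stepQ 4799 Q4799 (allL N4799 (tt N10009 D14628) (tt N10010 D14629) (tt N10011 D14630) (tt N2217 (iv3 D6989)) (tt N10000 (iv4 F24299)) (tt N10012 D14631) (tt N10013 D14632) (tt N8155 (iv7 F20362)))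
theorem Q4801 : ∀ i, i < 4801 → P i := stepQ 4800 Q4800 (allL N4800 (tt N4348 F11253) (tt N4378 (iv0 F11254)) (tt N8166 (iv2 F20395)) (tt N10012 (iv3 F24315)) (tt N2302 F11252) (tt N2217 (iv5 D6990)) (tt N10014 D14633) (tt N8156 (iv7 F20364)))
theorem Q4802 : ∀ i, i < 4802 → P i := stepQ 4801 Q4801 (allL N4801 (tt N10015 D14634) (tt N10016 D14635) (tt N8167 (iv2 F20400)) (tt N10013 (iv3 F24316)) (tt N2218 F11255) (tt N10017 D14636) (tt N2217 (iv6 D6991)) (tt N10018 D14637))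
theorem Q4803 : ∀ i, i < 4803 → P i := stepQ 4802 Q4802 (allL N4802 (tt N8169 (iv1 F20411)) (tt N2218 (iv0 D6992)) (tt N8168 (iv2 F20408)) (tt N9823 (iv3 F48511)) (tt N10019 D14639) (tt N7620 F20409) (tt N10020 D14640) (tt N7619 F20410))
theorem Q4804 : ∀ i, i < 4804 → P i := stepQ 4803 Q4803 (allL N4803 (tt N2218 (iv1 D6993)) (tt N8169 F20405) (tt N7619 (iv2 F19015)) (tt N10021 D14641) (tt N10022 D14642) (tt N3728 F11257) (tt N4783 (iv6 F11256)) (tt N8168 (iv7 F20406)))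
theorem Q4805 : ∀ i, i < 4805 → P i := stepQ 4804 Q4804 (allL N4804 (tt N10023 D14643) (tt N10024 D14644) (tt N7800 (iv2 F19607)) (tt N10005 (iv3 F24302)) (tt N10025 D14645) (tt N2218 (iv5 D6994)) (tt N2219 F11258) (tt N10026 D14646))
theorem Q4806 : ∀ i, i < 4806 → P i := stepQ 4805 Q4805 (allL N4805 (tt N7619 (iv1 F19018)) (tt N8168 F20404) (tt N8169 (iv2 F20402)) (tt N10006 (iv3 F24304)) (tt N10018 (iv4 F24318)) (tt N10026 (iv5 F24325)) (tt N8159 (iv6 F20373)) (tt N2218 (iv7 D6995)))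
theorem Q4807 : ∀ i, i < 4807 → P i := stepQ 4806 Q4806 (allL N4806 (tt N3652 F11259) (tt N3640 F11260) (tt N7799 (iv2 F19602)) (tt N10027 D14647) (tt N2219 (iv4 D6996)) (tt N7799 (iv5 F19604)) (tt N10025 (iv6 F24324)) (tt N7801 (iv7 F19611)))
theorem Q4808 : ∀ i, i < 4808 → P i := stepQ 4807 Q4807 (allL N4807 (tt N8161 (iv1 F20388)) (tt N4595 F19552) (tt N2221 (iv2 D6999)) (tt N7342 (iv3 F18492)) (tt N10028 D14648) (tt N10029 D14649) (tt N10030 D14650) (tt N8179 (iv7 F20431)))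
theorem Q4809 : ∀ i, i < 4809 → P i := stepQ 4808 Q4808 (allL N4808 (tt N10031 D14651) (tt N7718 (iv0 F19178)) (tt N10028 (iv2 F24327)) (tt N10032 D14652) (tt N2221 (iv4 D7000)) (tt N10033 D14653) (tt N10034 D14654) (tt N8180 (iv7 F20434)))
theorem Q4810 : ∀ i, i < 4810 → P i := stepQ 4809 Q4809 (allL N4809 (tt N10035 D14655) (tt N3592 F20387) (tt N10029 (iv2 F24328)) (tt N2223 F11261) (tt N4795 (iv4 F11493)) (tt N2221 (iv5 D7001)) (tt N7547 (iv6 F19331)) (tt N5279 F11917))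
theorem Q4811 : ∀ i, i < 4811 → P i := stepQ 4810 Q4810 (allL N4810 (tt N10036 D14656) (tt N10037 D14657) (tt N10030 (iv2 F24333)) (tt N2224 F11262) (tt N10034 (iv4 F24335)) (tt N10038 D14658) (tt N2221 (iv6 D7002)) (tt N10039 D14659))
theorem Q4812 : ∀ i, i < 4812 → P i := stepQ 4811 Q4811 (allL N4811 (tt N2226 (iv1 F11266)) (tt N2222 (iv0 D7003)) (tt N4349 (iv2 F11265)) (tt N10040 D14660) (tt N3396 F11264) (tt N4378 F11263) (tt N10041 D14661) (tt N3395 F11267))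
theorem Q4813 : ∀ i, i < 4813 → P i := stepQ 4812 Q4812 (allL N4812 (tt N10042 D14662) (tt N10043 D14663) (tt N10044 D14664) (tt N2222 (iv3 D7004)) (tt N10032 (iv4 F24334)) (tt N10045 D14665) (tt N10046 D14666) (tt N8182 (iv7 F20436)))
theorem Q4814 : ∀ i, i < 4814 → P i := stepQ 4813 Q4813 (allL N4813 (tt N10047 D14667) (tt N10048 D14668) (tt N8173 (iv2 F20415)) (tt N10045 (iv3 F24348)) (tt N2295 F11268) (tt N2222 (iv5 D7005)) (tt N10049 D14669) (tt N8183 (iv7 F20439)))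
theorem Q4815 : ∀ i, i < 4815 → P i := stepQ 4814 Q4814 (allL N4814 (tt N10050 D14670) (tt N10051 D14671) (tt N8174 (iv2 F20418)) (tt N10046 (iv3 F24349)) (tt N2224 F11269) (tt N10052 D14672) (tt N2222 (iv6 D7006)) (tt N10053 D14673))
theorem Q4816 : ∀ i, i < 4816 → P i := stepQ 4815 Q4815 (allL N4815 (tt N8178 (iv1 F20428)) (tt N2224 (iv0 D7007)) (tt N8175 F49058) (tt N10054 D14675) (tt N10055 D14676) (tt N10056 D14677) (tt N9909 (iv6 F26195)) (tt N8176 F49059))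
theorem Q4817 : ∀ i, i < 4817 → P i := stepQ 4816 Q4816 (allL N4816 (tt N2224 (iv1 D7008)) (tt N8178 F20427) (tt N8176 (iv2 F49056)) (tt N9841 F101968) (tt N10057 D14681) (tt N10058 D14682) (tt N10059 D14683) (tt N8175 (iv7 F49057)))
theorem Q4818 : ∀ i, i < 4818 → P i := stepQ 4817 Q4817 (allL N4817 (tt N4478 F11271) (tt N9519 F23511) (tt N8177 (iv2 F20421)) (tt N10038 (iv3 F24341)) (tt N10060 D14684) (tt N2224 (iv5 D7009)) (tt N4465 F11270) (tt N9517 (iv7 F23512)))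
theorem Q4819 : ∀ i, i < 4819 → P i := stepQ 4818 Q4818 (allL N4818 (tt N8176 (iv1 F20420)) (tt N8175 F20426) (tt N8178 (iv2 F20424)) (tt N10039 (iv3 F24343)) (tt N10053 (iv4 F24361)) (tt N9517 F23513) (tt N8187 (iv6 F20444)) (tt N2224 (iv7 D7010)))
theorem Q4820 : ∀ i, i < 4820 → P i := stepQ 4819 Q4819 (allL N4819 (tt N4624 (iv1 F19209)) (tt N7344 F19208) (tt N2225 (iv2 D7011)) (tt N8179 (iv3 F20429)) (tt N10061 D14685) (tt N7739 (iv5 F19225)) (tt N10062 D14686) (tt N7342 (iv7 F18493)))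
theorem Q4821 : ∀ i, i < 4821 → P i := stepQ 4820 Q4820 (allL N4820 (tt N10063 D14687) (tt N10064 D14688) (tt N10061 (iv2 F24366)) (tt N10065 D14689) (tt N2225 (iv4 D7012)) (tt N10066 D14690) (tt N10067 D14691) (tt N8170 (iv7 F20412)))
theorem Q4822 : ∀ i, i < 4822 → P i := stepQ 4821 Q4821 (allL N4821 (tt N10068 D14692) (tt N10069 D14693) (tt N10062 (iv2 F24367)) (tt N2227 F11272) (tt N10067 (iv4 F24369)) (tt N9879 (iv5 F24125)) (tt N2225 (iv6 D7013)) (tt N10070 D14694))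
theorem Q4823 : ∀ i, i < 4823 → P i := stepQ 4822 Q4822 (allL N4822 (tt N10071 D14695) (tt N10072 D14696) (tt N10073 D14697) (tt N2226 (iv3 D7014)) (tt N10065 (iv4 F24368)) (tt N10074 D14698) (tt N10075 D14699) (tt N8172 (iv7 F20414)))
theorem Q4824 : ∀ i, i < 4824 → P i := stepQ 4823 Q4823 (allL N4823 (tt N10048 (iv1 F24355)) (tt N10047 F24352) (tt N8183 (iv2 F20437)) (tt N10074 (iv3 F24371)) (tt N2292 F11273) (tt N2226 (iv5 D7015)) (tt N10076 D14700) (tt N8173 (iv7 F20416)))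
theorem Q4825 : ∀ i, i < 4825 → P i := stepQ 4824 Q4824 (allL N4824 (tt N10077 D14701) (tt N10078 D14702) (tt N8184 (iv2 F20440)) (tt N10075 (iv3 F24372)) (tt N2227 F11274) (tt N5762 (iv5 F316304)) (tt N2226 (iv6 D7016)) (tt N10079 D14704))
theorem Q4826 : ∀ i, i < 4826 → P i := stepQ 4825 Q4825 (allL N4825 (tt N8187 (iv1 F20447)) (tt N2227 (iv0 D7017)) (tt N8185 (iv2 F49011)) (tt N9851 F161293) (tt N10080 D14707) (tt N8185 (iv5 F26134)) (tt N10081 D14709) (tt N8186 (iv7 F49012)))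
theorem Q4827 : ∀ i, i < 4827 → P i := stepQ 4826 Q4826 (allL N4826 (tt N2227 (iv1 D7018)) (tt N8187 F20446) (tt N8186 F49013) (tt N10082 D14711) (tt N10083 D14712) (tt N8186 (iv5 F23518)) (tt N9901 (iv6 F24151)) (tt N8185 F49014))
theorem Q4828 : ∀ i, i < 4828 → P i := stepQ 4827 Q4827 (allL N4827 (tt N8186 (iv1 F20442)) (tt N8185 F20445) (tt N8187 (iv2 F20443)) (tt N10070 (iv3 F24370)) (tt N10079 (iv4 F24374)) (tt N9887 (iv5 F24138)) (tt N8178 (iv6 F20425)) (tt N2227 (iv7 D7019)))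
theorem Q4829 : ∀ i, i < 4829 → P i := stepQ 4828 Q4828 (allL N4828 (tt N10084 D14713) (tt N10085 D14714) (tt N10086 D14715) (tt N2228 (iv3 D7020)) (tt N10087 D14716) (tt N10088 D14717) (tt N10089 D14718) (tt N8191 (iv7 F20454)))
theorem Q4830 : ∀ i, i < 4830 → P i := stepQ 4829 Q4829 (allL N4829 (tt N10090 D14719) (tt N10091 D14720) (tt N8189 (iv2 F20449)) (tt N10088 (iv3 F24377)) (tt N2285 F11275) (tt N2228 (iv5 D7021)) (tt N10092 D14721) (tt N8192 (iv7 F20457)))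
theorem Q4831 : ∀ i, i < 4831 → P i := stepQ 4830 Q4830 (allL N4830 (tt N10055 (iv1 F47161)) (tt N10057 (iv0 F47605)) (tt N8190 (iv2 F20452)) (tt N10089 (iv3 F24378)) (tt N7196 (iv4 F18120)) (tt N10093 D14724) (tt N2228 (iv6 D7022)) (tt N10094 D14725))
theorem Q4832 : ∀ i, i < 4832 → P i := stepQ 4831 Q4831 (allL N4831 (tt N10095 D14726) (tt N10096 D14727) (tt N10097 D14728) (tt N2229 (iv3 D7023)) (tt N10098 D14729) (tt N10099 D14730) (tt N10100 D14731) (tt N8188 (iv7 F20448)))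
theorem Q4833 : ∀ i, i < 4833 → P i := stepQ 4832 Q4832 (allL N4832 (tt N10091 (iv1 F24384)) (tt N10090 F24381) (tt N8192 (iv2 F20455)) (tt N10099 (iv3 F24391)) (tt N2274 F11276) (tt N2229 (iv5 D7024)) (tt N10101 D14732) (tt N8189 (iv7 F20450)))
theorem Q4834 : ∀ i, i < 4834 → P i := stepQ 4833 Q4833 (allL N4833 (tt N10080 (iv1 F53796)) (tt N10083 (iv0 F53797)) (tt N8193 (iv2 F20458)) (tt N10100 (iv3 F24392)) (tt N7197 (iv4 F18122)) (tt N5167 (iv5 F316164)) (tt N2229 (iv6 D7025)) (tt N10102 D14736))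
theorem Q4835 : ∀ i, i < 4835 → P i := stepQ 4834 Q4834 (allL N4834 (tt N10103 D14737) (tt N2230 (iv0 D7026)) (tt N10104 D14738) (tt N10105 D14739) (tt N10106 D14740) (tt N10107 D14741) (tt N10108 D14742) (tt N10109 D14743))
theorem Q4836 : ∀ i, i < 4836 → P i := stepQ 4835 Q4835 (allL N4835 (tt N2230 (iv1 D7027)) (tt N10103 F24396) (tt N10109 (iv2 F24398)) (tt N10110 D14744) (tt N10111 D14745) (tt N10112 D14746) (tt N10113 D14747) (tt N10104 F24397))
theorem Q4837 : ∀ i, i < 4837 → P i := stepQ 4836 Q4836 (allL N4836 (tt N10104 (iv1 F102988)) (tt N10109 F102985) (tt N2230 (iv2 D7028)) (tt N8196 (iv3 F20460)) (tt N9865 (iv4 F24111)) (tt N10114 D14750) (tt N9918 (iv6 F24162)) (tt N10103 (iv7 F24395)))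
theorem Q4838 : ∀ i, i < 4838 → P i := stepQ 4837 Q4837 (allL N4837 (tt N10115 D14751) (tt N10116 D14752) (tt N10114 (iv2 F24401)) (tt N2231 F11277) (tt N10117 D14753) (tt N2230 (iv5 D7029)) (tt N10118 D14754) (tt N8289 (iv7 F20709)))
theorem Q4839 : ∀ i, i < 4839 → P i := stepQ 4838 Q4838 (allL N4838 (tt N10109 F102986) (tt N10104 (iv0 F102987)) (tt N10103 F24394) (tt N2232 F11278) (tt N9867 (iv4 F24114)) (tt N8289 (iv5 F20708)) (tt N10119 D14755) (tt N2230 (iv7 D7030)))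
theorem Q4840 : ∀ i, i < 4840 → P i := stepQ 4839 Q4839 (allL N4839 (tt N2304 (iv1 F11281)) (tt N2231 (iv0 D7031)) (tt N8199 F20468) (tt N10120 D14756) (tt N2271 F11280) (tt N2240 F11279) (tt N5052 F311530) (tt N8200 (iv7 F20471)))
theorem Q4841 : ∀ i, i < 4841 → P i := stepQ 4840 Q4840 (allL N4840 (tt N2231 (iv1 D7032)) (tt N2304 F11282) (tt N8200 F20474) (tt N10121 D14758) (tt N2251 F11284) (tt N2266 F11283) (tt N10122 D14759) (tt N8199 F20469))
theorem Q4842 : ∀ i, i < 4842 → P i := stepQ 4841 Q4841 (allL N4841 (tt N10123 D14760) (tt N10124 D14761) (tt N8201 (iv2 F20475)) (tt N10118 (iv3 F24402)) (tt N8294 (iv4 F20719)) (tt N9922 (iv5 F24171)) (tt N2231 (iv6 D7033)) (tt N10125 D14762))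
theorem Q4843 : ∀ i, i < 4843 → P i := stepQ 4842 Q4842 (allL N4842 (tt N10126 D14763) (tt N10127 D14764) (tt N8202 (iv2 F20477)) (tt N10119 (iv3 F24403)) (tt N2233 F11285) (tt N10128 D14765) (tt N2232 (iv6 D7034)) (tt N9923 (iv7 F24173)))
theorem Q4844 : ∀ i, i < 4844 → P i := stepQ 4843 Q4843 (allL N4843 (tt N5298 (iv1 F11964)) (tt N2233 (iv0 D7035)) (tt N8203 (iv2 F39544)) (tt N10129 D14767) (tt N10130 D14768) (tt N10131 D14769) (tt N10132 D14770) (tt N8204 (iv7 F39543)))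
theorem Q4845 : ∀ i, i < 4845 → P i := stepQ 4844 Q4844 (allL N4844 (tt N2233 (iv1 D7036)) (tt N5298 F11963) (tt N8204 (iv2 F39542)) (tt N10133 D14772) (tt N10134 D14773) (tt N10135 D14774) (tt N10136 D14775) (tt N8203 (iv7 F39545)))
theorem Q4846 : ∀ i, i < 4846 → P i := stepQ 4845 Q4845 (allL N4845 (tt N7188 F18114) (tt N7529 (iv0 F18862)) (tt N7540 F19395) (tt N2234 (iv3 D7038)) (tt N4788 F11287) (tt N10137 D14776) (tt N4845 F19367) (tt N4414 (iv7 F19371)))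
theorem Q4847 : ∀ i, i < 4847 → P i := stepQ 4846 Q4846 (allL N4846 (tt N4715 F11288) (tt N4675 (iv0 F11289)) (tt N4714 F19413) (tt N7579 (iv3 F18964)) (tt N2234 (iv4 D7039)) (tt N10138 D14777) (tt N4846 F19368) (tt N3787 (iv7 F19372)))
theorem Q4848 : ∀ i, i < 4848 → P i := stepQ 4847 Q4847 (allL N4847 (tt N9039 (iv1 F22661)) (tt N7195 (iv0 F22225)) (tt N8221 (iv2 F20537)) (tt N10137 (iv3 F24414)) (tt N10139 D14778) (tt N2234 (iv5 D7040)) (tt N10140 D14779) (tt N4415 (iv7 F19373)))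
theorem Q4849 : ∀ i, i < 4849 → P i := stepQ 4848 Q4848 (allL N4848 (tt N8223 (iv1 F20542)) (tt N8222 F20541) (tt N2236 F11295) (tt N3677 F11296) (tt N10141 D14780) (tt N2235 (iv5 D7047)) (tt N10142 D14781) (tt N7396 (iv7 F18587)))
theorem Q4850 : ∀ i, i < 4850 → P i := stepQ 4849 Q4849 (allL N4849 (tt N4429 (iv1 F24429)) (tt N10143 D14783) (tt N2237 F11297) (tt N3678 F11298) (tt N4849 F11299) (tt N8874 F22147) (tt N2235 (iv6 D7048)) (tt N10144 D14784))
theorem Q4851 : ∀ i, i < 4851 → P i := stepQ 4850 Q4850 (allL N4850 (tt N7396 (iv1 F18589)) (tt N2236 (iv0 D7049)) (tt N8223 (iv2 F22180)) (tt N10145 D14785) (tt N10146 D14786) (tt N8881 F22179) (tt N10147 D14787) (tt N8222 (iv7 F22182)))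
theorem Q4852 : ∀ i, i < 4852 → P i := stepQ 4851 Q4851 (allL N4851 (tt N2236 (iv1 D7050)) (tt N7396 F18588) (tt N8222 F22183) (tt N10148 D14788) (tt N10149 D14789) (tt N8902 (iv5 F22233)) (tt N10150 D14790) (tt N8223 F22181))
theorem Q4853 : ∀ i, i < 4853 → P i := stepQ 4852 Q4852 (allL N4852 (tt N10151 D14791) (tt N10152 D14792) (tt N10141 (iv2 F24422)) (tt N10153 D14793) (tt N2236 (iv4 D7051)) (tt N10154 D14794) (tt N10155 D14795) (tt N8224 (iv7 F20544)))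
theorem Q4854 : ∀ i, i < 4854 → P i := stepQ 4853 Q4853 (allL N4853 (tt N10156 D14796) (tt N10157 D14797) (tt N10142 (iv2 F24423)) (tt N2241 F11300) (tt N10155 (iv4 F24445)) (tt N10158 D14798) (tt N2236 (iv6 D7052)) (tt N10159 D14799))
theorem Q4855 : ∀ i, i < 4855 → P i := stepQ 4854 Q4854 (allL N4854 (tt N10144 F24436) (tt N2237 (iv0 D7053)) (tt N4429 F24437) (tt N10160 D14800) (tt N10161 D14801) (tt N10162 D14802) (tt N4419 F24438) (tt N10143 F24439))
theorem Q4856 : ∀ i, i < 4856 → P i := stepQ 4855 Q4855 (allL N4855 (tt N2237 (iv1 D7054)) (tt N10144 F24434) (tt N10143 F24440) (tt N10163 D14803) (tt N10164 D14804) (tt N10165 D14805) (tt N10166 D14806) (tt N4429 F24441))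
theorem Q4857 : ∀ i, i < 4857 → P i := stepQ 4856 Q4856 (allL N4856 (tt N3675 F19422) (tt N8876 F22157) (tt N8874 (iv2 F22148)) (tt N2243 F11301) (tt N10167 D14807) (tt N2237 (iv5 D7055)) (tt N10158 (iv6 F24447)) (tt N7433 (iv7 F18667)))
theorem Q4858 : ∀ i, i < 4858 → P i := stepQ 4857 Q4857 (allL N4857 (tt N10143 (iv1 F24425)) (tt N4429 (iv0 F22957)) (tt N10144 (iv2 F24430)) (tt N2244 F11302) (tt N4857 F11303) (tt N7433 (iv5 F18666)) (tt N7667 (iv6 F19091)) (tt N2237 (iv7 D7056)))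
theorem Q4859 : ∀ i, i < 4859 → P i := stepQ 4858 Q4858 (allL N4858 (tt N9000 F22603) (tt N8998 (iv0 F22435)) (tt N9010 F22626) (tt N2238 (iv3 D7057)) (tt N10168 D14808) (tt N3651 F11304) (tt N10169 D14809) (tt N8205 (iv7 F20487)))
theorem Q4860 : ∀ i, i < 4860 → P i := stepQ 4859 Q4859 (allL N4859 (tt N3896 F11307) (tt N3889 F11308) (tt N4775 F11305) (tt N10170 D14810) (tt N2238 (iv4 D7058)) (tt N10048 (iv5 F24357)) (tt N10171 D14811) (tt N4776 F11306))
theorem Q4861 : ∀ i, i < 4861 → P i := stepQ 4860 Q4860 (allL N4860 (tt N10172 D14812) (tt N10173 D14813) (tt N7894 (iv2 F19843)) (tt N10169 (iv3 F24473)) (tt N10171 (iv4 F24477)) (tt N3653 F11309) (tt N2238 (iv6 D7059)) (tt N10174 D14814))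
theorem Q4862 : ∀ i, i < 4862 → P i := stepQ 4861 Q4861 (allL N4861 (tt N7186 (iv1 F37069)) (tt N7189 (iv0 F20328)) (tt N10175 D14816) (tt N2239 (iv3 D7060)) (tt N10176 D14817) (tt N7890 (iv5 F19837)) (tt N10177 D14818) (tt N7889 F19835))
theorem Q4863 : ∀ i, i < 4863 → P i := stepQ 4862 Q4862 (allL N4862 (tt N3889 F11312) (tt N3896 F11313) (tt N4776 F11310) (tt N10178 D14819) (tt N2239 (iv4 D7061)) (tt N10047 (iv5 F24350)) (tt N10179 D14820) (tt N4775 F11311))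
theorem Q4864 : ∀ i, i < 4864 → P i := stepQ 4863 Q4863 (allL N4863 (tt N5308 F11984) (tt N10180 D14821) (tt N8206 (iv2 F20488)) (tt N10177 (iv3 F24479)) (tt N10179 (iv4 F24483)) (tt N4537 F11314) (tt N2239 (iv6 D7062)) (tt N10181 D14822))
theorem Q4865 : ∀ i, i < 4865 → P i := stepQ 4864 Q4864 (allL N4864 (tt N10182 D14823) (tt N10183 D14824) (tt N10184 D14825) (tt N2240 (iv3 D7063)) (tt N10153 (iv4 F24444)) (tt N10120 (iv5 F24404)) (tt N10185 D14826) (tt N8228 (iv7 F20546)))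
theorem Q4866 : ∀ i, i < 4866 → P i := stepQ 4865 Q4865 (allL N4865 (tt N2390 F316455) (tt N8399 F316456) (tt N8208 (iv2 F20492)) (tt N10185 (iv3 F24488)) (tt N2241 F11315) (tt N4892 F316457) (tt N2240 (iv6 D7064)) (tt N8398 F316458))
theorem Q4867 : ∀ i, i < 4867 → P i := stepQ 4866 Q4866 (allL N4866 (tt N8211 (iv1 F20500)) (tt N2241 (iv0 D7065)) (tt N8209 F49813) (tt N10186 D14832) (tt N2369 F317298) (tt N4867 F11317) (tt N10187 D14834) (tt N8210 F49814))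
theorem Q4868 : ∀ i, i < 4868 → P i := stepQ 4867 Q4867 (allL N4867 (tt N2241 (iv1 D7066)) (tt N8211 F20499) (tt N8210 F49808) (tt N10188 D14836) (tt N8352 F317411) (tt N4866 (iv5 F11317)) (tt N10189 D14838) (tt N8209 (iv7 F49812)))
theorem Q4869 : ∀ i, i < 4869 → P i := stepQ 4868 Q4868 (allL N4868 (tt N10190 D14839) (tt N10191 D14840) (tt N7435 (iv2 F18668)) (tt N10158 (iv3 F24446)) (tt N5117 F312704) (tt N2241 (iv5 D7067)) (tt N2243 F11316) (tt N10192 D14841))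
theorem Q4870 : ∀ i, i < 4870 → P i := stepQ 4869 Q4869 (allL N4869 (tt N8210 (iv1 F20494)) (tt N8209 F20498) (tt N8211 (iv2 F20496)) (tt N10159 (iv3 F24448)) (tt N8398 F317412) (tt N10192 (iv5 F24495)) (tt N8232 (iv6 F20554)) (tt N2241 (iv7 D7068)))
theorem Q4871 : ∀ i, i < 4871 → P i := stepQ 4870 Q4870 (allL N4870 (tt N7187 (iv1 F24502)) (tt N10193 D14843) (tt N10194 D14844) (tt N2242 (iv3 D7069)) (tt N7587 F18972) (tt N10195 D14845) (tt N3646 F11318) (tt N4442 F11319))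
theorem Q4872 : ∀ i, i < 4872 → P i := stepQ 4871 Q4871 (allL N4871 (tt N2442 F11321) (tt N2449 F11322) (tt N7482 F18759) (tt N10195 (iv3 F24507)) (tt N9881 (iv4 F24131)) (tt N2242 (iv5 D7070)) (tt N4914 F11439) (tt N4445 F11320))
theorem Q4873 : ∀ i, i < 4873 → P i := stepQ 4872 Q4872 (allL N4872 (tt N7203 (iv1 F18134)) (tt N7233 (iv0 F18186)) (tt N7878 (iv2 F19809)) (tt N10196 D14846) (tt N2245 (iv4 D7071)) (tt N10197 D14847) (tt N4462 F11323) (tt N7976 (iv7 F20015)))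
theorem Q4874 : ∀ i, i < 4874 → P i := stepQ 4873 Q4873 (allL N4873 (tt N10198 D14848) (tt N10199 D14849) (tt N10200 D14850) (tt N2246 (iv3 D7072)) (tt N10196 (iv4 F24510)) (tt N10201 D14851) (tt N4473 F11324) (tt N8213 (iv7 F20505)))
theorem Q4875 : ∀ i, i < 4875 → P i := stepQ 4874 Q4874 (allL N4874 (tt N3946 F11325) (tt N3949 F11326) (tt N4953 F11508) (tt N10201 (iv3 F24515)) (tt N9959 (iv4 F24227)) (tt N2246 (iv5 D7073)) (tt N10202 D14852) (tt N4952 F11504))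
theorem Q4876 : ∀ i, i < 4876 → P i := stepQ 4875 Q4875 (allL N4875 (tt N10203 D14853) (tt N10204 D14854) (tt N10205 D14855) (tt N2247 (iv3 D7074)) (tt N8214 (iv4 F20506)) (tt N10206 D14856) (tt N8328 (iv6 F20867)) (tt N8212 (iv7 F20503)))
theorem Q4877 : ∀ i, i < 4877 → P i := stepQ 4876 Q4876 (allL N4876 (tt N3949 F11327) (tt N3946 F11328) (tt N4952 F11503) (tt N10206 (iv3 F24517)) (tt N9953 (iv4 F24222)) (tt N2247 (iv5 D7075)) (tt N10207 D14857) (tt N4953 (iv7 F11506)))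
theorem Q4878 : ∀ i, i < 4878 → P i := stepQ 4877 Q4877 (allL N4877 (tt N10208 D14858) (tt N10209 D14859) (tt N10210 D14860) (tt N2248 (iv3 D7076)) (tt N8212 (iv4 F20501)) (tt N10211 D14861) (tt N8977 (iv6 F22378)) (tt N8214 (iv7 F20508)))
theorem Q4879 : ∀ i, i < 4879 → P i := stepQ 4878 Q4878 (allL N4878 (tt N3936 F11329) (tt N3941 F11330) (tt N4928 F11457) (tt N10211 (iv3 F24518)) (tt N10047 (iv4 F24351)) (tt N2248 (iv5 D7077)) (tt N10212 D14862) (tt N4927 F11453))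
theorem Q4880 : ∀ i, i < 4880 → P i := stepQ 4879 Q4879 (allL N4879 (tt N10213 D14863) (tt N10214 D14864) (tt N10215 D14865) (tt N2249 (iv3 D7078)) (tt N10216 D14866) (tt N10217 D14867) (tt N5672 (iv6 F12954)) (tt N7899 (iv7 F19861)))
theorem Q4881 : ∀ i, i < 4881 → P i := stepQ 4880 Q4880 (allL N4880 (tt N3941 F11331) (tt N3936 F11332) (tt N4927 F11452) (tt N10217 (iv3 F24521)) (tt N10048 (iv4 F24358)) (tt N2249 (iv5 D7079)) (tt N10218 D14868) (tt N4928 (iv7 F11455)))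
theorem Q4882 : ∀ i, i < 4882 → P i := stepQ 4881 Q4881 (allL N4881 (tt N8235 (iv1 F20565)) (tt N2250 (iv0 D7080)) (tt N8234 (iv2 F50454)) (tt N10219 D14870) (tt N10220 D14871) (tt N10221 D14872) (tt N10222 D14873) (tt N8233 (iv7 F50452)))
theorem Q4883 : ∀ i, i < 4883 → P i := stepQ 4882 Q4882 (allL N4882 (tt N2250 (iv1 D7081)) (tt N8235 F20567) (tt N8233 (iv2 F50451)) (tt N10223 D14875) (tt N10224 D14876) (tt N10225 D14877) (tt N2319 (iv6 F50453)) (tt N8234 (iv7 F50455)))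
theorem Q4884 : ∀ i, i < 4884 → P i := stepQ 4883 Q4883 (allL N4883 (tt N8234 (iv1 F20566)) (tt N8233 F20561) (tt N2250 (iv2 D7082)) (tt N5349 (iv3 F26593)) (tt N4883 F11333) (tt N10226 D14879) (tt N10227 D14880) (tt N8235 (iv7 F20564)))
theorem Q4885 : ∀ i, i < 4885 → P i := stepQ 4884 Q4884 (allL N4884 (tt N10228 D14881) (tt N10229 D14882) (tt N10226 (iv2 F24524)) (tt N2251 F11334) (tt N10230 D14883) (tt N2250 (iv5 D7083)) (tt N10231 D14884) (tt N8236 (iv7 F20569)))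
theorem Q4886 : ∀ i, i < 4886 → P i := stepQ 4885 Q4885 (allL N4885 (tt N10232 D14885) (tt N10233 D14886) (tt N10227 (iv2 F24525)) (tt N2252 F11335) (tt N4885 F11336) (tt N10234 D14887) (tt N2250 (iv6 D7084)) (tt N10235 D14888))
theorem Q4887 : ∀ i, i < 4887 → P i := stepQ 4886 Q4886 (allL N4886 (tt N10236 D14889) (tt N10237 D14890) (tt N8216 (iv2 F20518)) (tt N10231 (iv3 F24527)) (tt N10122 (iv4 F24407)) (tt N10050 F316870) (tt N2251 (iv6 D7085)) (tt N10238 D14892))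
theorem Q4888 : ∀ i, i < 4888 → P i := stepQ 4887 Q4887 (allL N4887 (tt N5314 (iv1 F12015)) (tt N2252 (iv0 D7086)) (tt N5509 (iv2 F12685)) (tt N10239 D14893) (tt N4084 (iv4 F11584)) (tt N5114 (iv5 F11715)) (tt N2325 F11583) (tt N8217 (iv7 F20520)))
theorem Q4889 : ∀ i, i < 4889 → P i := stepQ 4888 Q4888 (allL N4888 (tt N2252 (iv1 D7087)) (tt N5314 F12014) (tt N8217 F20522) (tt N10240 D14894) (tt N5354 (iv4 F12081)) (tt N5113 (iv5 F12083)) (tt N10241 D14895) (tt N5509 F12687))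
theorem Q4890 : ∀ i, i < 4890 → P i := stepQ 4889 Q4889 (allL N4889 (tt N8348 (iv1 F20938)) (tt N8350 (iv0 F20942)) (tt N8218 (iv2 F20523)) (tt N10234 (iv3 F24528)) (tt N10242 D14896) (tt N2252 (iv5 D7088)) (tt N10050 F315112) (tt N10243 D14897))
theorem Q4891 : ∀ i, i < 4891 → P i := stepQ 4890 Q4890 (allL N4890 (tt N8217 (iv1 F20519)) (tt N5509 F12689) (tt N5314 (iv2 F12011)) (tt N10235 (iv3 F24529)) (tt N2255 F11337) (tt N10243 (iv5 F24538)) (tt N2256 F11338) (tt N2252 (iv7 D7089)))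
theorem Q4892 : ∀ i, i < 4892 → P i := stepQ 4891 Q4891 (allL N4891 (tt N7410 F18631) (tt N7155 (iv0 F18027)) (tt N5506 (iv2 F12667)) (tt N2253 (iv3 D7091)) (tt N10244 D14898) (tt N2372 F11342) (tt N2329 F11343) (tt N7981 (iv7 F20025)))
theorem Q4893 : ∀ i, i < 4893 → P i := stepQ 4892 Q4892 (allL N4892 (tt N5319 (iv1 F18710)) (tt N4359 (iv0 F11593)) (tt N8219 (iv2 F20528)) (tt N10245 D14899) (tt N2253 (iv4 D7092)) (tt N4865 (iv5 F316457)) (tt N2330 F11344) (tt N8220 (iv7 F20534)))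
theorem Q4894 : ∀ i, i < 4894 → P i := stepQ 4893 Q4893 (allL N4893 (tt N4359 (iv1 F18132)) (tt N5319 F12017) (tt N8220 (iv2 F20533)) (tt N10246 D14900) (tt N2254 (iv4 D7095)) (tt N5171 (iv5 F11755)) (tt N10247 D14901) (tt N8219 (iv7 F20530)))
theorem Q4895 : ∀ i, i < 4895 → P i := stepQ 4894 Q4894 (allL N4894 (tt N4048 F11350) (tt N4046 (iv0 F11351)) (tt N5253 F11845) (tt N5514 (iv3 F12713)) (tt N10247 (iv4 F24543)) (tt N2334 F11348) (tt N2254 (iv6 D7096)) (tt N2334 F11349))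
theorem Q4896 : ∀ i, i < 4896 → P i := stepQ 4895 Q4895 (allL N4895 (tt N8317 F50484) (tt N10222 F50481) (tt N9487 (iv2 F26692)) (tt N2256 (iv3 D7097)) (tt N4895 F11385) (tt N10248 D14905) (tt N10235 (iv6 F24531)) (tt N5310 (iv7 F11994)))
theorem Q4897 : ∀ i, i < 4897 → P i := stepQ 4896 Q4896 (allL N4896 (tt N10249 D14906) (tt N9363 (iv0 F23160)) (tt N5313 (iv2 F12009)) (tt N10248 (iv3 F24547)) (tt N9912 (iv4 F24158)) (tt N2256 (iv5 D7098)) (tt N10250 D14907) (tt N5311 (iv7 F11996)))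
theorem Q4898 : ∀ i, i < 4898 → P i := stepQ 4897 Q4897 (allL N4897 (tt N2281 F11389) (tt N3933 F11390) (tt N4897 F11386) (tt N9073 (iv3 F26387)) (tt N2257 (iv4 D7099)) (tt N4290 F11388) (tt N2359 F26328) (tt N4290 F11387))
theorem Q4899 : ∀ i, i < 4899 → P i := stepQ 4898 Q4898 (allL N4898 (tt N2357 F26315) (tt N4044 (iv0 F11394)) (tt N4898 F11391) (tt N5444 (iv3 F12470)) (tt N2359 F26316) (tt N4898 F11392) (tt N2257 (iv6 D7100)) (tt N2336 F11393))
theorem Q4900 : ∀ i, i < 4900 → P i := stepQ 4899 Q4899 (allL N4899 (tt N3417 (iv1 F11398)) (tt N3400 F11399) (tt N4352 (iv2 F11397)) (tt N2258 (iv3 D7101)) (tt N7977 (iv4 F20019)) (tt N7282 (iv5 F18324)) (tt N5059 F26354) (tt N4351 F11396))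
theorem Q4901 : ∀ i, i < 4901 → P i := stepQ 4900 Q4900 (allL N4900 (tt N2260 F11409) (tt N3910 F11408) (tt N4900 F11404) (tt N5456 (iv3 F26504)) (tt N2259 (iv4 D7103)) (tt N4900 F11405) (tt N4292 F26411) (tt N2339 F26412))
theorem Q4902 : ∀ i, i < 4902 → P i := stepQ 4901 Q4901 (allL N4901 (tt N7555 F18902) (tt N7184 (iv0 F18110)) (tt N9007 F22619) (tt N2263 (iv3 D7106)) (tt N4703 F11414) (tt N10251 D14917) (tt N4901 F11415) (tt N3658 F11416))
theorem Q4903 : ∀ i, i < 4903 → P i := stepQ 4902 Q4902 (allL N4902 (tt N3680 (iv1 F11419)) (tt N3679 F11420) (tt N3682 F11417) (tt N10251 (iv3 F24569)) (tt N7734 (iv4 F19211)) (tt N2263 (iv5 D7107)) (tt N10252 D14918) (tt N3659 F11418))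
theorem Q4904 : ∀ i, i < 4904 → P i := stepQ 4903 Q4903 (allL N4903 (tt N3677 (iv1 F11421)) (tt N2264 (iv0 D7108)) (tt N7385 F18557) (tt N10253 D14919) (tt N10254 D14920) (tt N7392 (iv5 F18571)) (tt N10255 D14921) (tt N7384 F18554))
theorem Q4905 : ∀ i, i < 4905 → P i := stepQ 4904 Q4904 (allL N4904 (tt N2264 (iv1 D7109)) (tt N3677 F11422) (tt N7384 F18553) (tt N10256 D14922) (tt N10257 D14923) (tt N3818 (iv5 F11423)) (tt N10258 D14924) (tt N7385 (iv7 F18556)))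
theorem Q4906 : ∀ i, i < 4906 → P i := stepQ 4905 Q4905 (allL N4905 (tt N10259 D14925) (tt N10260 D14926) (tt N7398 (iv2 F18593)) (tt N10261 D14927) (tt N2264 (iv4 D7110)) (tt N7729 (iv5 F19198)) (tt N10262 D14928) (tt N7386 (iv7 F18558)))
theorem Q4907 : ∀ i, i < 4907 → P i := stepQ 4906 Q4906 (allL N4906 (tt N10263 D14929) (tt N10264 D14930) (tt N7399 (iv2 F18595)) (tt N2267 F11425) (tt N10262 (iv4 F24591)) (tt N10265 D14931) (tt N2264 (iv6 D7111)) (tt N10266 D14932))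
theorem Q4908 : ∀ i, i < 4908 → P i := stepQ 4907 Q4907 (allL N4907 (tt N7402 (iv1 F18608)) (tt N2265 (iv0 D7112)) (tt N7400 F18598) (tt N10267 D14933) (tt N3684 F11426) (tt N4296 (iv5 F11428)) (tt N7642 (iv6 F19047)) (tt N4514 (iv7 F11427)))
theorem Q4909 : ∀ i, i < 4909 → P i := stepQ 4908 Q4908 (allL N4908 (tt N2265 (iv1 D7113)) (tt N7402 F18607) (tt N4514 F11430) (tt N10268 D14934) (tt N3508 (iv4 F11429)) (tt N4297 F11432) (tt N3456 F11431) (tt N7400 (iv7 F18599)))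
theorem Q4910 : ∀ i, i < 4910 → P i := stepQ 4909 Q4909 (allL N4909 (tt N4361 F11434) (tt N7152 (iv0 F18019)) (tt N7401 (iv2 F18602)) (tt N2268 F11433) (tt N10269 D14935) (tt N2265 (iv5 D7114)) (tt N10265 (iv6 F24594)) (tt N7659 (iv7 F19078)))
theorem Q4911 : ∀ i, i < 4911 → P i := stepQ 4910 Q4910 (allL N4910 (tt N4514 (iv1 F11436)) (tt N7400 F18601) (tt N7402 (iv2 F18605)) (tt N2269 F11435) (tt N7282 (iv4 F18323)) (tt N7659 (iv5 F19077)) (tt N7390 (iv6 F18566)) (tt N2265 (iv7 D7115)))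
theorem Q4912 : ∀ i, i < 4912 → P i := stepQ 4911 Q4911 (allL N4911 (tt N10270 D14936) (tt N10271 D14937) (tt N10272 D14938) (tt N2266 (iv3 D7116)) (tt N10261 (iv4 F24590)) (tt N10121 (iv5 F24406)) (tt N10273 D14939) (tt N8207 (iv7 F20491)))
theorem Q4913 : ∀ i, i < 4913 → P i := stepQ 4912 Q4912 (allL N4912 (tt N10019 (iv1 F47640)) (tt N10022 (iv0 F47637)) (tt N8229 (iv2 F20547)) (tt N10273 (iv3 F24605)) (tt N2267 F11438) (tt N10274 D14942) (tt N2266 (iv6 D7117)) (tt N10275 D14943))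
theorem Q4914 : ∀ i, i < 4914 → P i := stepQ 4913 Q4913 (allL N4913 (tt N8232 (iv1 F20560)) (tt N2267 (iv0 D7118)) (tt N8230 (iv2 F20558)) (tt N10276 D14944) (tt N10277 D14945) (tt N8920 (iv5 F22245)) (tt N10278 D14946) (tt N8231 F20559))
theorem Q4915 : ∀ i, i < 4915 → P i := stepQ 4914 Q4914 (allL N4914 (tt N2267 (iv1 D7119)) (tt N8232 F20556) (tt N8231 (iv2 F20552)) (tt N10279 D14947) (tt N10280 D14948) (tt N4301 F11440) (tt N4871 (iv6 F11439)) (tt N8230 (iv7 F20557)))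
theorem Q4916 : ∀ i, i < 4916 → P i := stepQ 4915 Q4915 (allL N4915 (tt N10281 D14949) (tt N10282 D14950) (tt N7658 (iv2 F19075)) (tt N10265 (iv3 F24593)) (tt N10283 D14951) (tt N2267 (iv5 D7120)) (tt N2268 F11441) (tt N10284 D14952))
theorem Q4917 : ∀ i, i < 4917 → P i := stepQ 4916 Q4916 (allL N4916 (tt N8231 (iv1 F20549)) (tt N8230 F20555) (tt N8232 (iv2 F20553)) (tt N10266 (iv3 F24595)) (tt N10275 (iv4 F24606)) (tt N10284 (iv5 F24613)) (tt N8211 (iv6 F20497)) (tt N2267 (iv7 D7121)))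
theorem Q4918 : ∀ i, i < 4918 → P i := stepQ 4917 Q4917 (allL N4917 (tt N3611 F11442) (tt N3603 F11443) (tt N7657 (iv2 F19070)) (tt N10285 D14953) (tt N2268 (iv4 D7122)) (tt N7657 (iv5 F19072)) (tt N10283 (iv6 F24612)) (tt N7660 (iv7 F19083)))
theorem Q4919 : ∀ i, i < 4919 → P i := stepQ 4918 Q4918 (allL N4918 (tt N2270 (iv1 D7124)) (tt N5349 F26609) (tt N5485 (iv2 F26631)) (tt N10286 D14960) (tt N3570 (iv4 F26634)) (tt N10287 D14962) (tt N3569 (iv6 F26639)) (tt N2316 (iv7 F26630)))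
theorem Q4920 : ∀ i, i < 4920 → P i := stepQ 4919 Q4919 (allL N4919 (tt N2316 F26603) (tt N5485 F26604) (tt N2270 (iv2 D7125)) (tt N8235 (iv3 F20562)) (tt N2279 F26605) (tt N10288 D14964) (tt N4470 F26606) (tt N5349 F26607))
theorem Q4921 : ∀ i, i < 4921 → P i := stepQ 4920 Q4920 (allL N4920 (tt N10289 D14966) (tt N10290 D14967) (tt N10288 (iv2 F24617)) (tt N2271 F11444) (tt N10291 D14968) (tt N2270 (iv5 D7126)) (tt N10292 D14969) (tt N8215 (iv7 F20516)))
theorem Q4922 : ∀ i, i < 4922 → P i := stepQ 4921 Q4921 (allL N4921 (tt N10293 D14973) (tt N10294 D14974) (tt N8237 (iv2 F20570)) (tt N10292 (iv3 F24619)) (tt N5052 (iv4 F309315)) (tt N10295 D14975) (tt N2271 (iv6 D7128)) (tt N10296 D14976))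
theorem Q4923 : ∀ i, i < 4923 → P i := stepQ 4922 Q4922 (allL N4922 (tt N9363 (iv1 F23161)) (tt N10249 F24549) (tt N5311 (iv2 F11995)) (tt N9354 (iv3 F26582)) (tt N9915 (iv4 F24160)) (tt N2272 (iv5 D7129)) (tt N10295 (iv6 F24621)) (tt N5313 (iv7 F12010)))
theorem Q4924 : ∀ i, i < 4924 → P i := stepQ 4923 Q4923 (allL N4923 (tt N8246 (iv1 F20626)) (tt N2273 (iv0 D7130)) (tt N8245 (iv2 F41354)) (tt N10297 D14978) (tt N10298 D14979) (tt N10228 (iv5 F50442)) (tt N8342 (iv6 F41364)) (tt N8244 (iv7 F41348)))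
theorem Q4925 : ∀ i, i < 4925 → P i := stepQ 4924 Q4924 (allL N4924 (tt N2273 (iv1 D7131)) (tt N8246 F20628) (tt N8244 (iv2 F41347)) (tt N10299 D14983) (tt N10300 D14984) (tt N10229 F50449) (tt N2349 (iv6 F41353)) (tt N8245 (iv7 F41355)))
theorem Q4926 : ∀ i, i < 4926 → P i := stepQ 4925 Q4925 (allL N4925 (tt N8245 (iv1 F20627)) (tt N8244 F20622) (tt N2273 (iv2 D7132)) (tt N2275 F26602) (tt N4925 F11446) (tt N10301 D14987) (tt N2273 (iv6 F26627)) (tt N8246 (iv7 F20625)))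
theorem Q4927 : ∀ i, i < 4927 → P i := stepQ 4926 Q4926 (allL N4926 (tt N10302 D14989) (tt N10303 D14990) (tt N10301 (iv2 F24625)) (tt N2274 F11447) (tt N10304 D14991) (tt N2273 (iv5 D7133)) (tt N10305 D14992) (tt N8247 (iv7 F20630)))
theorem Q4928 : ∀ i, i < 4928 → P i := stepQ 4927 Q4927 (allL N4927 (tt N2285 (iv1 F11451)) (tt N2274 (iv0 D7135)) (tt N4880 (iv2 F11452)) (tt N10306 D14997) (tt N9962 (iv4 F24231)) (tt N3920 F11450) (tt N10307 D14998) (tt N4878 (iv7 F11453)))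
theorem Q4929 : ∀ i, i < 4929 → P i := stepQ 4928 Q4928 (allL N4928 (tt N2274 (iv1 D7136)) (tt N2285 F11454) (tt N4878 (iv2 F11457)) (tt N10308 D14999) (tt N9965 (iv4 F24235)) (tt N3765 F11456) (tt N10309 D15000) (tt N4880 F11455))
theorem Q4930 : ∀ i, i < 4930 → P i := stepQ 4929 Q4929 (allL N4929 (tt N10310 D15001) (tt N10311 D15002) (tt N8241 (iv2 F20594)) (tt N10305 (iv3 F24628)) (tt N10101 (iv4 F24393)) (tt N10312 D15003) (tt N2274 (iv6 D7137)) (tt N10313 D15004))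
theorem Q4931 : ∀ i, i < 4931 → P i := stepQ 4930 Q4930 (allL N4930 (tt N2284 F26526) (tt N2275 (iv0 D7138)) (tt N8238 (iv2 F26556)) (tt N10314 D15005) (tt N5355 F20526) (tt N10290 (iv5 F26893)) (tt N2368 F20527) (tt N8239 (iv7 F26564)))
theorem Q4932 : ∀ i, i < 4932 → P i := stepQ 4931 Q4931 (allL N4931 (tt N2275 (iv1 D7139)) (tt N2284 F26525) (tt N8239 (iv2 F26561)) (tt N10315 D15007) (tt N5510 (iv4 F12696)) (tt N10289 (iv5 F26681)) (tt N2361 F26423) (tt N8238 (iv7 F26559)))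
theorem Q4933 : ∀ i, i < 4933 → P i := stepQ 4932 Q4932 (allL N4932 (tt N5014 F11561) (tt N10316 D15009) (tt N8240 (iv2 F26569)) (tt N10301 (iv3 F26628)) (tt N10317 D15010) (tt N2275 (iv5 D7140)) (tt N10312 (iv6 F24639)) (tt N10318 D15011))
theorem Q4934 : ∀ i, i < 4934 → P i := stepQ 4933 Q4933 (allL N4933 (tt N8239 (iv1 F26560)) (tt N8238 (iv0 F26555)) (tt N2284 F26524) (tt N8246 (iv3 F26585)) (tt N2280 F11458) (tt N10318 (iv5 F24643)) (tt N8251 (iv6 F20639)) (tt N2275 (iv7 D7141)))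
theorem Q4935 : ∀ i, i < 4935 → P i := stepQ 4934 Q4934 (allL N4934 (tt N10319 D15012) (tt N4270 (iv0 F22224)) (tt N10320 D15013) (tt N2276 (iv3 D7142)) (tt N4934 F11459) (tt N7195 (iv5 F18117)) (tt N7865 (iv6 F19763)) (tt N5300 F11971))
theorem Q4936 : ∀ i, i < 4936 → P i := stepQ 4935 Q4935 (allL N4935 (tt N7993 F20044) (tt N7158 (iv0 F18632)) (tt N7991 F20036) (tt N2277 (iv3 D7143)) (tt N10321 D15014) (tt N7992 F20039) (tt N2372 F11460) (tt N7992 (iv7 F20038)))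
theorem Q4937 : ∀ i, i < 4937 → P i := stepQ 4936 Q4936 (allL N4936 (tt N8260 (iv1 F20667)) (tt N2293 F20615) (tt N8242 (iv2 F20611)) (tt N8253 (iv3 F26958)) (tt N2277 (iv4 D7144)) (tt N10322 D15016) (tt N2373 F11461) (tt N8243 (iv7 F20618)))
theorem Q4938 : ∀ i, i < 4938 → P i := stepQ 4937 Q4937 (allL N4937 (tt N2293 F11554) (tt N8260 F20666) (tt N8243 (iv2 F20616)) (tt N10323 D15017) (tt N2278 (iv4 D7146)) (tt N10324 D15018) (tt N8310 (iv6 F20804)) (tt N8242 (iv7 F20613)))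
theorem Q4939 : ∀ i, i < 4939 → P i := stepQ 4938 Q4938 (allL N4938 (tt N2356 F26297) (tt N2283 (iv0 D7150)) (tt N4938 F11468) (tt N8607 (iv3 F21482)) (tt N4510 F26376) (tt N2337 F26298) (tt N4509 F11466) (tt N4510 (iv7 F11469)))
theorem Q4940 : ∀ i, i < 4940 → P i := stepQ 4939 Q4939 (allL N4939 (tt N10316 (iv1 F26588)) (tt N5014 (iv0 F26589)) (tt N10318 (iv2 F26586)) (tt N2285 F11477) (tt N10325 D15043) (tt N2284 (iv5 D7156)) (tt N10326 D15044) (tt N8240 (iv7 F20592)))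
theorem Q4941 : ∀ i, i < 4941 → P i := stepQ 4940 Q4940 (allL N4940 (tt N4583 (iv1 F26547)) (tt N5669 (iv0 F26548)) (tt N8251 (iv2 F26549)) (tt N2286 F11478) (tt N2290 F26450) (tt N10327 D15047) (tt N2284 (iv6 D7157)) (tt N2286 (iv7 F26550)))
theorem Q4942 : ∀ i, i < 4942 → P i := stepQ 4941 Q4941 (allL N4941 (tt N10328 D15049) (tt N10329 D15050) (tt N8249 (iv2 F20633)) (tt N10326 (iv3 F24679)) (tt N10092 (iv4 F24389)) (tt N10330 D15051) (tt N2285 (iv6 D7158)) (tt N10331 D15052))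
theorem Q4943 : ∀ i, i < 4943 → P i := stepQ 4942 Q4942 (allL N4942 (tt N8251 (iv1 F20641)) (tt N2286 (iv0 D7159)) (tt N5669 (iv2 F12940)) (tt N10332 D15053) (tt N4127 F11479) (tt N8305 (iv5 F20785)) (tt N4587 F26536) (tt N4583 (iv7 F11480)))
theorem Q4944 : ∀ i, i < 4944 → P i := stepQ 4943 Q4943 (allL N4943 (tt N5043 (iv1 F12705)) (tt N5041 (iv0 F11582)) (tt N8250 (iv2 F20634)) (tt N10327 (iv3 F24680)) (tt N10293 F309102) (tt N2286 (iv5 D7161)) (tt N10330 (iv6 F24682)) (tt N10327 (iv7 F26554)))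
theorem Q4945 : ∀ i, i < 4945 → P i := stepQ 4944 Q4944 (allL N4944 (tt N4362 F11492) (tt N7639 (iv0 F19037)) (tt N3503 (iv2 F11487)) (tt N2287 (iv3 D7163)) (tt N3444 F11484) (tt N3680 F11488) (tt N3552 F11485) (tt N3495 F11486))
theorem Q4946 : ∀ i, i < 4946 → P i := stepQ 4945 Q4945 (allL N4945 (tt N8269 (iv1 F20685)) (tt N2296 F11496) (tt N8252 (iv2 F20645)) (tt N10333 D15056) (tt N2288 (iv4 D7164)) (tt N8545 (iv5 F21304)) (tt N4482 F11494) (tt N4575 F11495))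
theorem Q4947 : ∀ i, i < 4947 → P i := stepQ 4946 Q4946 (allL N4946 (tt N8263 (iv1 F20671)) (tt N2291 (iv0 D7166)) (tt N8262 (iv2 F41359)) (tt N10334 D15060) (tt N10335 D15061) (tt N10336 D15062) (tt N10337 D15063) (tt N8261 (iv7 F41358)))
theorem Q4948 : ∀ i, i < 4948 → P i := stepQ 4947 Q4947 (allL N4947 (tt N2291 (iv1 D7167)) (tt N8263 F20673) (tt N8261 (iv2 F41356)) (tt N10338 D15065) (tt N10339 D15066) (tt N10340 D15067) (tt N2375 (iv6 F41341)) (tt N8262 (iv7 F41360)))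
theorem Q4949 : ∀ i, i < 4949 → P i := stepQ 4948 Q4948 (allL N4948 (tt N8262 (iv1 F20672)) (tt N8261 F20668) (tt N2291 (iv2 D7168)) (tt N8255 (iv3 F20652)) (tt N10341 D15069) (tt N10342 D15070) (tt N8271 (iv6 F26904)) (tt N8263 (iv7 F20670)))
theorem Q4950 : ∀ i, i < 4950 → P i := stepQ 4949 Q4949 (allL N4949 (tt N10343 D15072) (tt N10344 D15073) (tt N10341 (iv2 F24695)) (tt N3824 F11498) (tt N2291 (iv4 D7169)) (tt N10345 D15074) (tt N10346 D15075) (tt N8264 (iv7 F20675)))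
theorem Q4951 : ∀ i, i < 4951 → P i := stepQ 4950 Q4950 (allL N4950 (tt N10347 D15076) (tt N10348 D15077) (tt N10342 (iv2 F24696)) (tt N2292 F11499) (tt N10349 D15078) (tt N2291 (iv5 D7170)) (tt N10350 D15079) (tt N8265 (iv7 F20677)))
theorem Q4952 : ∀ i, i < 4952 → P i := stepQ 4951 Q4951 (allL N4951 (tt N10351 D15080) (tt N10338 (iv0 F41471)) (tt N8271 (iv2 F26903)) (tt N2293 F11500) (tt N10346 (iv4 F24701)) (tt N10352 D15082) (tt N2291 (iv6 D7171)) (tt N10353 D15083))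
theorem Q4953 : ∀ i, i < 4953 → P i := stepQ 4952 Q4952 (allL N4952 (tt N2295 (iv1 F11502)) (tt N2292 (iv0 D7172)) (tt N4876 (iv2 F11503)) (tt N10354 D15084) (tt N10091 (iv4 F24387)) (tt N3919 F11501) (tt N10355 D15085) (tt N4874 (iv7 F11504)))
theorem Q4954 : ∀ i, i < 4954 → P i := stepQ 4953 Q4953 (allL N4953 (tt N2292 (iv1 D7173)) (tt N2295 F11505) (tt N4874 (iv2 F11508)) (tt N10356 D15086) (tt N10090 (iv4 F24380)) (tt N3918 F11507) (tt N10357 D15087) (tt N4876 F11506))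
theorem Q4955 : ∀ i, i < 4955 → P i := stepQ 4954 Q4954 (allL N4954 (tt N10358 D15088) (tt N10359 D15089) (tt N8258 (iv2 F20660)) (tt N10350 (iv3 F24702)) (tt N10076 (iv4 F24373)) (tt N10360 D15090) (tt N2292 (iv6 D7174)) (tt N10361 D15091))
theorem Q4956 : ∀ i, i < 4956 → P i := stepQ 4955 Q4955 (allL N4955 (tt N5006 F11553) (tt N10362 D15092) (tt N8259 (iv2 F20661)) (tt N10352 (iv3 F24703)) (tt N10363 D15093) (tt N2293 (iv5 D7177)) (tt N10360 (iv6 F24712)) (tt N10364 D15094))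
theorem Q4957 : ∀ i, i < 4957 → P i := stepQ 4956 Q4956 (allL N4956 (tt N8243 (iv1 F20620)) (tt N8242 (iv0 F20614)) (tt N8260 (iv2 F20663)) (tt N10353 (iv3 F24704)) (tt N4369 F11509) (tt N10364 (iv5 F24715)) (tt N8269 (iv6 F20683)) (tt N2293 (iv7 D7178)))
theorem Q4958 : ∀ i, i < 4958 → P i := stepQ 4957 Q4957 (allL N4957 (tt N8255 (iv1 F20654)) (tt N2294 (iv0 D7179)) (tt N8254 (iv2 F26970)) (tt N8243 F26969) (tt N10365 D15097) (tt N10366 D15098) (tt N2383 (iv6 F26974)) (tt N8253 (iv7 F26976)))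
theorem Q4959 : ∀ i, i < 4959 → P i := stepQ 4958 Q4958 (allL N4958 (tt N2294 (iv1 D7180)) (tt N8255 F20656) (tt N8253 (iv2 F26975)) (tt N10367 D15101) (tt N10368 D15102) (tt N10369 D15103) (tt N8430 (iv6 F26981)) (tt N8254 (iv7 F26971)))
theorem Q4960 : ∀ i, i < 4960 → P i := stepQ 4959 Q4959 (allL N4959 (tt N8254 (iv1 F20655)) (tt N8253 F20651) (tt N2294 (iv2 D7181)) (tt N8263 (iv3 F20669)) (tt N10370 D15105) (tt N10371 D15106) (tt N10372 D15107) (tt N8255 (iv7 F20653)))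
theorem Q4961 : ∀ i, i < 4961 → P i := stepQ 4960 Q4960 (allL N4960 (tt N10373 D15108) (tt N10374 D15109) (tt N10370 (iv2 F24720)) (tt N4370 F11510) (tt N2294 (iv4 D7182)) (tt N10375 D15110) (tt N10376 D15111) (tt N7988 (iv7 F20033)))
theorem Q4962 : ∀ i, i < 4962 → P i := stepQ 4961 Q4961 (allL N4961 (tt N10377 D15112) (tt N10378 D15113) (tt N10371 (iv2 F24721)) (tt N2295 F11511) (tt N10379 D15114) (tt N2294 (iv5 D7183)) (tt N10380 D15115) (tt N8256 (iv7 F20658)))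
theorem Q4963 : ∀ i, i < 4963 → P i := stepQ 4962 Q4962 (allL N4962 (tt N9342 (iv1 F26909)) (tt N10381 D15117) (tt N10372 (iv2 F24722)) (tt N2296 F11512) (tt N10376 (iv4 F24726)) (tt N10382 D15118) (tt N2294 (iv6 D7184)) (tt N8277 (iv7 F26900)))
theorem Q4964 : ∀ i, i < 4964 → P i := stepQ 4963 Q4963 (allL N4963 (tt N10383 D15120) (tt N10384 D15121) (tt N8267 (iv2 F20679)) (tt N10380 (iv3 F24727)) (tt N10049 (iv4 F24360)) (tt N10385 D15122) (tt N2295 (iv6 D7185)) (tt N10386 D15123))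
theorem Q4965 : ∀ i, i < 4965 → P i := stepQ 4964 Q4964 (allL N4964 (tt N5055 F20643) (tt N5052 (iv0 F11592)) (tt N8268 (iv2 F20680)) (tt N10382 (iv3 F24728)) (tt N10387 D15124) (tt N2296 (iv5 D7187)) (tt N10385 (iv6 F24730)) (tt N10388 D15125))
theorem Q4966 : ∀ i, i < 4966 → P i := stepQ 4965 Q4965 (allL N4965 (tt N4575 (iv1 F11514)) (tt N8252 F20650) (tt N8269 (iv2 F20681)) (tt N8277 (iv3 F26899)) (tt N4372 F11513) (tt N10388 (iv5 F24731)) (tt N8260 (iv6 F20665)) (tt N2296 (iv7 D7188)))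
theorem Q4967 : ∀ i, i < 4967 → P i := stepQ 4966 Q4966 (allL N4966 (tt N2298 (iv1 F11518)) (tt N2297 (iv0 D7189)) (tt N2301 (iv2 F11516)) (tt N8270 (iv3 F20687)) (tt N9079 (iv4 F22723)) (tt N10389 D15126) (tt N10390 D15127) (tt N2299 F11517))
theorem Q4968 : ∀ i, i < 4968 → P i := stepQ 4967 Q4967 (allL N4967 (tt N2301 (iv1 F24778)) (tt N2299 (iv0 F24779)) (tt N2297 (iv2 D7190)) (tt N10391 D15130) (tt N4968 (iv4 F24780)) (tt N10392 D15132) (tt N4969 F50747) (tt N2298 (iv7 F11519)))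
theorem Q4969 : ∀ i, i < 4969 → P i := stepQ 4968 Q4968 (allL N4968 (tt N10367 (iv1 F26978)) (tt N10323 (iv0 F26797)) (tt N4969 (iv2 F24783)) (tt N2297 (iv3 D7191)) (tt N4967 F24780) (tt N10393 D15137) (tt N2297 (iv6 F50745)) (tt N4973 (iv7 F24785)))
theorem Q4970 : ∀ i, i < 4970 → P i := stepQ 4969 Q4969 (allL N4969 (tt N10394 D15140) (tt N10395 D15141) (tt N4968 F24783) (tt N10396 D15142) (tt N2297 (iv4 D7192)) (tt N10397 D15143) (tt N4967 (iv6 F50747)) (tt N10398 D15145))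
theorem Q4971 : ∀ i, i < 4971 → P i := stepQ 4970 Q4970 (allL N4970 (tt N10399 D15146) (tt N10356 (iv0 F50755)) (tt N10392 (iv2 F24747)) (tt N10393 (iv3 F24750)) (tt N10400 D15148) (tt N2297 (iv5 D7193)) (tt N10401 D15149) (tt N10402 D15150))
theorem Q4972 : ∀ i, i < 4972 → P i := stepQ 4971 Q4971 (allL N4971 (tt N2299 F24781) (tt N2301 F24782) (tt N2298 F11520) (tt N4973 (iv3 F24784)) (tt N10398 (iv4 F24758)) (tt N10402 (iv5 F24762)) (tt N10403 D15155) (tt N2297 (iv7 D7195)))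
theorem Q4973 : ∀ i, i < 4973 → P i := stepQ 4972 Q4972 (allL N4972 (tt N10404 D15156) (tt N10334 (iv0 F24794)) (tt N10405 D15158) (tt N2298 (iv3 D7196)) (tt N10405 (iv4 F24791)) (tt N10406 D15160) (tt N10407 D15161) (tt N10391 (iv7 F24744)))
theorem Q4974 : ∀ i, i < 4974 → P i := stepQ 4973 Q4973 (allL N4973 (tt N10395 (iv1 F24754)) (tt N10394 F24759) (tt N10398 (iv2 F24757)) (tt N4971 F24784) (tt N2298 (iv4 D7197)) (tt N10408 D15162) (tt N10409 D15163) (tt N4968 F24785))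
theorem Q4975 : ∀ i, i < 4975 → P i := stepQ 4974 Q4974 (allL N4974 (tt N10356 F50760) (tt N10399 F24763) (tt N10402 (iv2 F24761)) (tt N10406 (iv3 F24767)) (tt N10410 D15164) (tt N2298 (iv5 D7198)) (tt N10411 D15165) (tt N10392 (iv7 F24748)))
theorem Q4976 : ∀ i, i < 4976 → P i := stepQ 4975 Q4975 (allL N4975 (tt N10333 F53998) (tt N10412 D15167) (tt N10403 (iv2 F24764)) (tt N10407 (iv3 F24768)) (tt N10409 (iv4 F24769)) (tt N10413 D15168) (tt N2298 (iv6 D7199)) (tt N10414 D15169))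
theorem Q4977 : ∀ i, i < 4977 → P i := stepQ 4976 Q4976 (allL N4976 (tt N10415 D15172) (tt N10416 D15173) (tt N2300 F11525) (tt N8278 (iv3 F20695)) (tt N10417 D15174) (tt N2299 (iv5 D7202)) (tt N10418 D15175) (tt N10389 (iv7 F24735)))
theorem Q4978 : ∀ i, i < 4978 → P i := stepQ 4977 Q4977 (allL N4977 (tt N10389 (iv1 F24737)) (tt N2300 (iv0 D7203)) (tt N10415 (iv2 F50004)) (tt N10419 D15177) (tt N10420 D15178) (tt N10203 F50821) (tt N10421 D15180) (tt N10416 (iv7 F50002)))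
theorem Q4979 : ∀ i, i < 4979 → P i := stepQ 4978 Q4978 (allL N4978 (tt N2300 (iv1 D7204)) (tt N10389 F24736) (tt N10416 (iv2 F50001)) (tt N10422 D15182) (tt N10423 D15183) (tt N10204 F50818) (tt N10424 D15185) (tt N10415 (iv7 F50005)))
theorem Q4980 : ∀ i, i < 4980 → P i := stepQ 4979 Q4979 (allL N4979 (tt N10425 D15186) (tt N10426 D15187) (tt N10417 (iv2 F24804)) (tt N10427 D15188) (tt N2300 (iv4 D7205)) (tt N10428 D15189) (tt N10429 D15190) (tt N10430 D15191))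
theorem Q4981 : ∀ i, i < 4981 → P i := stepQ 4980 Q4980 (allL N4980 (tt N10431 D15192) (tt N10432 D15193) (tt N10418 (iv2 F24805)) (tt N2305 F11526) (tt N10429 (iv4 F24810)) (tt N2407 F11527) (tt N2300 (iv6 D7206)) (tt N10433 D15194))
theorem Q4982 : ∀ i, i < 4982 → P i := stepQ 4981 Q4981 (allL N4981 (tt N10416 (iv1 F24803)) (tt N10415 F24802) (tt N10389 (iv2 F24734)) (tt N2306 F11528) (tt N10430 (iv4 F24811)) (tt N2301 F11529) (tt N10434 D15195) (tt N2300 (iv7 D7207)))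
theorem Q4983 : ∀ i, i < 4983 → P i := stepQ 4982 Q4982 (allL N4982 (tt N5199 F50791) (tt N10435 D15197) (tt N10390 (iv2 F24738)) (tt N2307 F11530) (tt N9095 (iv4 F22736)) (tt N10436 D15198) (tt N2301 (iv6 D7208)) (tt N2408 F11531))
theorem Q4984 : ∀ i, i < 4984 → P i := stepQ 4983 Q4983 (allL N4983 (tt N10336 F50537) (tt N10340 (iv0 F50538)) (tt N10437 D15201) (tt N2302 (iv3 D7209)) (tt N10438 D15202) (tt N4358 F11532) (tt N10439 D15203) (tt N8287 (iv7 F20706)))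
theorem Q4985 : ∀ i, i < 4985 → P i := stepQ 4984 Q4984 (allL N4984 (tt N10440 D15204) (tt N10441 D15205) (tt N8286 (iv2 F20704)) (tt N10439 (iv3 F24820)) (tt N10014 (iv4 F24317)) (tt N10442 D15206) (tt N2302 (iv6 D7210)) (tt N10443 D15207))
theorem Q4986 : ∀ i, i < 4986 → P i := stepQ 4985 Q4985 (allL N4985 (tt N10366 (iv1 F26973)) (tt N10369 (iv0 F28390)) (tt N10444 D15210) (tt N2303 (iv3 D7211)) (tt N10445 D15211) (tt N4365 F11533) (tt N10446 D15212) (tt N8285 (iv7 F20703)))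
theorem Q4987 : ∀ i, i < 4987 → P i := stepQ 4986 Q4986 (allL N4986 (tt N10387 F309349) (tt N10447 D15214) (tt N8288 (iv2 F20707)) (tt N10446 (iv3 F24823)) (tt N5508 F309350) (tt N10448 D15215) (tt N2303 (iv6 D7212)) (tt N10449 D15216))
theorem Q4988 : ∀ i, i < 4988 → P i := stepQ 4987 Q4987 (allL N4987 (tt N10450 D15217) (tt N10451 D15218) (tt N10452 D15219) (tt N2304 (iv3 D7213)) (tt N10427 (iv4 F24809)) (tt N8198 (iv5 F20464)) (tt N10453 D15220) (tt N8197 F20462))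
theorem Q4989 : ∀ i, i < 4989 → P i := stepQ 4988 Q4988 (allL N4988 (tt N10454 D15221) (tt N10455 D15222) (tt N8290 (iv2 F20710)) (tt N10453 (iv3 F24825)) (tt N2305 F11534) (tt N10456 D15223) (tt N2304 (iv6 D7214)) (tt N10457 D15224))
theorem Q4990 : ∀ i, i < 4990 → P i := stepQ 4989 Q4989 (allL N4989 (tt N8293 (iv1 F20717)) (tt N2305 (iv0 D7215)) (tt N8291 (iv2 F51254)) (tt N10458 D15226) (tt N10459 D15227) (tt N10460 D15228) (tt N10461 D15229) (tt N8292 F51253))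
theorem Q4991 : ∀ i, i < 4991 → P i := stepQ 4990 Q4990 (allL N4990 (tt N2305 (iv1 D7216)) (tt N8293 F20716) (tt N8292 F51249) (tt N10462 D15231) (tt N10463 D15232) (tt N10464 D15233) (tt N10465 D15234) (tt N8291 (iv7 F51255)))
theorem Q4992 : ∀ i, i < 4992 → P i := stepQ 4991 Q4991 (allL N4991 (tt N8292 (iv1 F20712)) (tt N8291 F20715) (tt N8293 (iv2 F20713)) (tt N10433 (iv3 F24812)) (tt N10457 (iv4 F24826)) (tt N2415 F11535) (tt N10466 D15235) (tt N2305 (iv7 D7217)))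
theorem Q4993 : ∀ i, i < 4993 → P i := stepQ 4992 Q4992 (allL N4992 (tt N10467 D15236) (tt N10468 D15237) (tt N8294 (iv2 F20718)) (tt N10434 (iv3 F24814)) (tt N8201 (iv4 F20476)) (tt N10469 D15238) (tt N2306 (iv6 D7218)) (tt N10466 (iv7 F24830)))
theorem Q4994 : ∀ i, i < 4994 → P i := stepQ 4993 Q4993 (allL N4993 (tt N8472 (iv1 F21161)) (tt N8471 F21160) (tt N8295 (iv2 F20720)) (tt N10436 (iv3 F24817)) (tt N10470 D15239) (tt N2307 (iv5 D7219)) (tt N10469 (iv6 F24831)) (tt N2418 F11536))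
theorem Q4995 : ∀ i, i < 4995 → P i := stepQ 4994 Q4994 (allL N4994 (tt N10471 D15240) (tt N10472 D15241) (tt N10473 D15242) (tt N2308 (iv3 D7220)) (tt N2310 F11537) (tt N10474 D15243) (tt N10475 D15244) (tt N4050 F11538))
theorem Q4996 : ∀ i, i < 4996 → P i := stepQ 4995 Q4995 (allL N4995 (tt N3850 F11540) (tt N3853 F11541) (tt N5460 (iv2 F12501)) (tt N10474 (iv3 F24840)) (tt N5645 (iv4 F12911)) (tt N2308 (iv5 D7221)) (tt N10476 D15245) (tt N4051 F11539))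
theorem Q4997 : ∀ i, i < 4997 → P i := stepQ 4996 Q4996 (allL N4996 (tt N10477 D15246) (tt N10478 D15247) (tt N5461 (iv2 F12504)) (tt N10475 (iv3 F24842)) (tt N2309 F11542) (tt N10479 D15248) (tt N2308 (iv6 D7222)) (tt N10480 D15249))
theorem Q4998 : ∀ i, i < 4998 → P i := stepQ 4997 Q4997 (allL N4997 (tt N5479 (iv1 F12534)) (tt N2309 (iv0 D7223)) (tt N5477 (iv2 F12531)) (tt N2534 (iv3 F12533)) (tt N10481 D15250) (tt N7993 (iv5 F20043)) (tt N9176 (iv6 F22842)) (tt N5478 F12532))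
theorem Q4999 : ∀ i, i < 4999 → P i := stepQ 4998 Q4998 (allL N4998 (tt N2309 (iv1 D7224)) (tt N5479 F12529) (tt N5478 (iv2 F12523)) (tt N8598 (iv3 F21461)) (tt N10482 D15251) (tt N7158 (iv5 F18037)) (tt N4461 (iv6 F11543)) (tt N5477 (iv7 F12530)))
theorem Q5000 : ∀ i, i < 5000 → P i := stepQ 4999 Q4999 (allL N4999 (tt N5478 (iv1 F12519)) (tt N5477 F12528) (tt N5479 (iv2 F12524)) (tt N2313 F11544) (tt N10480 (iv4 F24847)) (tt N4999 F11545) (tt N3663 F11546) (tt N2309 (iv7 D7225)))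
theorem Q5001 : ∀ i, i < 5001 → P i := stepQ 5000 Q5000 (allL N5000 (tt N4057 (iv1 F11547)) (tt N2310 (iv0 D7226)) (tt N2613 F26642) (tt N8614 (iv3 F26650)) (tt N10483 D15254) (tt N2772 F25983) (tt N2612 (iv6 F26653)) (tt N4056 (iv7 F26773)))
theorem Q5002 : ∀ i, i < 5002 → P i := stepQ 5001 Q5001 (allL N5001 (tt N2310 (iv1 D7227)) (tt N4057 F11550) (tt N4056 (iv2 F26772)) (tt N2615 F26583) (tt N10484 D15259) (tt N2773 F25987) (tt N8544 (iv6 F26622)) (tt N2613 (iv7 F26623)))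
theorem Q5003 : ∀ i, i < 5003 → P i := stepQ 5002 Q5002 (allL N5002 (tt N2613 F26771) (tt N4056 F11549) (tt N2310 (iv2 D7228)) (tt N5331 (iv3 F12043)) (tt N10473 (iv4 F24835)) (tt N5407 (iv5 F12395)) (tt N10485 D15262) (tt N4057 F11548))
theorem Q5004 : ∀ i, i < 5004 → P i := stepQ 5003 Q5003 (allL N5003 (tt N10486 D15263) (tt N4365 (iv0 F26913)) (tt N10485 (iv2 F24854)) (tt N2311 F11552) (tt N10475 (iv4 F24843)) (tt N10487 D15265) (tt N2310 (iv6 D7229)) (tt N10488 D15266))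
theorem Q5005 : ∀ i, i < 5005 → P i := stepQ 5004 Q5004 (allL N5004 (tt N5330 (iv1 F12041)) (tt N2311 (iv0 D7230)) (tt N5346 (iv2 F12563)) (tt N10199 (iv3 F26796)) (tt N2534 (iv4 F12535)) (tt N10489 D15268) (tt N9178 (iv6 F22849)) (tt N5347 F12561))
theorem Q5006 : ∀ i, i < 5006 → P i := stepQ 5005 Q5005 (allL N5005 (tt N2311 (iv1 D7231)) (tt N5330 F12038) (tt N5347 F12559) (tt N10490 D15269) (tt N2535 (iv4 F12039)) (tt N10491 D15270) (tt N4472 F12040) (tt N5346 (iv7 F12564)))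
theorem Q5007 : ∀ i, i < 5007 → P i := stepQ 5006 Q5006 (allL N5006 (tt N10492 D15271) (tt N4955 (iv0 F11553)) (tt N5348 (iv2 F12059)) (tt N10487 (iv3 F24855)) (tt N10493 D15272) (tt N2311 (iv5 D7232)) (tt N5411 (iv6 F12397)) (tt N10494 D15273))
theorem Q5008 : ∀ i, i < 5008 → P i := stepQ 5007 Q5007 (allL N5007 (tt N5347 (iv1 F12058)) (tt N5346 F12057) (tt N5330 (iv2 F12035)) (tt N10488 (iv3 F24856)) (tt N2313 F11555) (tt N10494 (iv5 F24865)) (tt N4055 F11556) (tt N2311 (iv7 D7233)))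
theorem Q5009 : ∀ i, i < 5009 → P i := stepQ 5008 Q5008 (allL N5008 (tt N5258 (iv1 F11865)) (tt N2314 (iv0 D7236)) (tt N5257 (iv2 F42893)) (tt N10495 D15278) (tt N10496 D15279) (tt N9144 (iv5 F25825)) (tt N10496 (iv6 F50848)) (tt N5256 F42890))
theorem Q5010 : ∀ i, i < 5010 → P i := stepQ 5009 Q5009 (allL N5009 (tt N2314 (iv1 D7237)) (tt N5258 F11867) (tt N5256 F42889) (tt N10497 D15283) (tt N10498 D15284) (tt N9143 (iv5 F25820)) (tt N10499 D15286) (tt N5257 (iv7 F42894)))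
theorem Q5011 : ∀ i, i < 5011 → P i := stepQ 5010 Q5010 (allL N5010 (tt N5257 (iv1 F11866)) (tt N5256 F11861) (tt N2314 (iv2 D7238)) (tt N5482 (iv3 F12537)) (tt N5331 (iv4 F12044)) (tt N10500 D15287) (tt N10501 D15288) (tt N5258 (iv7 F11864)))
theorem Q5012 : ∀ i, i < 5012 → P i := stepQ 5011 Q5011 (allL N5011 (tt N4390 F25733) (tt N4395 F25734) (tt N10500 (iv2 F24874)) (tt N2315 F11558) (tt N10502 D15291) (tt N2314 (iv5 D7239)) (tt N10503 D15292) (tt N5085 (iv7 F11675)))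
theorem Q5013 : ∀ i, i < 5013 → P i := stepQ 5012 Q5012 (allL N5012 (tt N10504 D15293) (tt N10505 D15294) (tt N10501 (iv2 F24875)) (tt N2316 F11559) (tt N5342 (iv4 F12056)) (tt N10506 D15295) (tt N2314 (iv6 D7240)) (tt N10286 (iv7 F26633)))
theorem Q5014 : ∀ i, i < 5014 → P i := stepQ 5013 Q5013 (allL N5013 (tt N5414 F30054) (tt N5418 F30055) (tt N5088 (iv2 F11680)) (tt N10503 (iv3 F24877)) (tt N2663 F11560) (tt N10507 D15299) (tt N2315 (iv6 D7241)) (tt N10508 D15300))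
theorem Q5015 : ∀ i, i < 5015 → P i := stepQ 5014 Q5014 (allL N5014 (tt N4939 F26589) (tt N4932 (iv0 F11561)) (tt N5484 (iv2 F12544)) (tt N10506 (iv3 F24878)) (tt N10509 D15302) (tt N2316 (iv5 D7244)) (tt N10507 (iv6 F24881)) (tt N10287 (iv7 F26638)))
theorem Q5016 : ∀ i, i < 5016 → P i := stepQ 5015 Q5015 (allL N5015 (tt N5482 (iv1 F12539)) (tt N2317 (iv0 D7246)) (tt N5481 (iv2 F42901)) (tt N10498 (iv3 F24873)) (tt N10510 D15305) (tt N7223 (iv5 F30279)) (tt N10511 D15307) (tt N5480 (iv7 F42902)))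
theorem Q5017 : ∀ i, i < 5017 → P i := stepQ 5016 Q5016 (allL N5016 (tt N2317 (iv1 D7247)) (tt N5482 F12541) (tt N5480 F42904) (tt N10512 D15309) (tt N10513 D15310) (tt N7224 (iv5 F37308)) (tt N10514 D15312) (tt N5481 F42905))
theorem Q5018 : ∀ i, i < 5018 → P i := stepQ 5017 Q5017 (allL N5017 (tt N5481 (iv1 F12540)) (tt N5480 F12536) (tt N2317 (iv2 D7248)) (tt N5258 (iv3 F11862)) (tt N10515 D15313) (tt N10516 D15314) (tt N7455 (iv6 F18711)) (tt N5482 (iv7 F12538)))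
theorem Q5019 : ∀ i, i < 5019 → P i := stepQ 5018 Q5018 (allL N5018 (tt N10517 D15315) (tt N10518 D15316) (tt N10515 (iv2 F24893)) (tt N2604 F11564) (tt N2317 (iv4 D7249)) (tt N10519 D15317) (tt N7411 (iv6 F18634)) (tt N5459 (iv7 F12500)))
theorem Q5020 : ∀ i, i < 5020 → P i := stepQ 5019 Q5019 (allL N5019 (tt N10520 D15318) (tt N10521 D15319) (tt N10516 (iv2 F24895)) (tt N2318 F11565) (tt N10522 D15320) (tt N2317 (iv5 D7250)) (tt N10523 D15321) (tt N5087 (iv7 F11679)))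
theorem Q5021 : ∀ i, i < 5021 → P i := stepQ 5020 Q5020 (allL N5020 (tt N10524 D15322) (tt N10525 D15323) (tt N5086 (iv2 F11676)) (tt N10523 (iv3 F24899)) (tt N2665 F11566) (tt N7459 (iv5 F18714)) (tt N2318 (iv6 D7251)) (tt N10526 D15324))
theorem Q5022 : ∀ i, i < 5022 → P i := stepQ 5021 Q5021 (allL N5021 (tt N10512 (iv1 F40395)) (tt N10527 D15332) (tt N10528 D15333) (tt N2319 (iv3 D7253)) (tt N5647 F12914) (tt N10529 D15334) (tt N10223 F50465) (tt N8315 (iv7 F27232)))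
theorem Q5023 : ∀ i, i < 5023 → P i := stepQ 5022 Q5022 (allL N5022 (tt N10530 D15337) (tt N10531 D15338) (tt N5487 (iv2 F27229)) (tt N10532 D15339) (tt N2319 (iv4 D7254)) (tt N10533 D15340) (tt N10224 F50470) (tt N8316 (iv7 F27234)))
theorem Q5024 : ∀ i, i < 5024 → P i := stepQ 5023 Q5023 (allL N5023 (tt N5080 F20918) (tt N3991 F20919) (tt N5082 (iv2 F27219)) (tt N10529 (iv3 F24912)) (tt N6954 F17254) (tt N2319 (iv5 D7255)) (tt N10534 D15343) (tt N5081 (iv7 F27220)))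
theorem Q5025 : ∀ i, i < 5025 → P i := stepQ 5024 Q5024 (allL N5024 (tt N10535 D15350) (tt N10495 (iv0 F26820)) (tt N10536 D15352) (tt N2320 (iv3 D7258)) (tt N10537 D15353) (tt N10538 D15354) (tt N10539 D15355) (tt N8318 (iv7 F27228)))
theorem Q5026 : ∀ i, i < 5026 → P i := stepQ 5025 Q5025 (allL N5025 (tt N10531 (iv1 F24916)) (tt N10530 F24923) (tt N8316 (iv2 F27233)) (tt N4121 (iv3 F11569)) (tt N2320 (iv4 D7259)) (tt N10540 D15356) (tt N10541 D15357) (tt N5487 (iv7 F27230)))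
theorem Q5027 : ∀ i, i < 5027 → P i := stepQ 5026 Q5026 (allL N5026 (tt N3991 F24909) (tt N5080 F24910) (tt N5081 F27221) (tt N10538 (iv3 F24931)) (tt N10542 D15358) (tt N2320 (iv5 D7260)) (tt N10543 D15359) (tt N5082 F27222))
theorem Q5028 : ∀ i, i < 5028 → P i := stepQ 5027 Q5027 (allL N5027 (tt N5310 F50435) (tt N9487 F50436) (tt N8317 (iv2 F27235)) (tt N10539 (iv3 F24932)) (tt N10541 (iv4 F24935)) (tt N10544 D15362) (tt N2320 (iv6 D7261)) (tt N10222 F50483))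
theorem Q5029 : ∀ i, i < 5029 → P i := stepQ 5028 Q5028 (allL N5028 (tt N8321 (iv1 F20833)) (tt N8320 F20832) (tt N2322 F11570) (tt N8297 (iv3 F20762)) (tt N10545 D15364) (tt N2321 (iv5 D7262)) (tt N10546 D15365) (tt N8319 (iv7 F20826)))
theorem Q5030 : ∀ i, i < 5030 → P i := stepQ 5029 Q5029 (allL N5029 (tt N10547 D15366) (tt N10547 (iv0 F26500)) (tt N2323 F11571) (tt N2328 F26402) (tt N5029 F11572) (tt N10548 D15368) (tt N2321 (iv6 D7263)) (tt N2323 (iv7 F26501)))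
theorem Q5031 : ∀ i, i < 5031 → P i := stepQ 5030 Q5030 (allL N5030 (tt N8319 (iv1 F20828)) (tt N2322 (iv0 D7264)) (tt N8321 (iv2 F27196)) (tt N10549 D15371) (tt N6974 F17283) (tt N2348 F17284) (tt N10550 D15372) (tt N8320 (iv7 F27195)))
theorem Q5032 : ∀ i, i < 5032 → P i := stepQ 5031 Q5031 (allL N5031 (tt N2322 (iv1 D7265)) (tt N8319 F20827) (tt N8320 (iv2 F27193)) (tt N10551 D15374) (tt N10552 D15375) (tt N2349 F24947) (tt N10553 D15376) (tt N8321 (iv7 F27198)))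
theorem Q5033 : ∀ i, i < 5033 → P i := stepQ 5032 Q5032 (allL N5032 (tt N10554 D15377) (tt N10555 D15378) (tt N10545 (iv2 F24936)) (tt N2766 F11573) (tt N2322 (iv4 D7266)) (tt N10556 D15379) (tt N10557 D15380) (tt N8322 (iv7 F20835)))
theorem Q5034 : ∀ i, i < 5034 → P i := stepQ 5033 Q5033 (allL N5033 (tt N10558 D15381) (tt N10559 D15382) (tt N10546 (iv2 F24937)) (tt N2324 F11574) (tt N10557 (iv4 F24955)) (tt N10560 D15383) (tt N2322 (iv6 D7267)) (tt N10561 D15384))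
theorem Q5035 : ∀ i, i < 5035 → P i := stepQ 5034 Q5034 (allL N5034 (tt N2323 F26580) (tt N2323 (iv0 D7268)) (tt N10547 (iv2 F35045)) (tt N10562 D15386) (tt N10563 D15387) (tt N10564 D15388) (tt N10232 F50633) (tt N10547 (iv7 F35046)))
theorem Q5036 : ∀ i, i < 5036 → P i := stepQ 5035 Q5035 (allL N5035 (tt N10565 D15395) (tt N10565 (iv0 F26943)) (tt N10548 (iv2 F24939)) (tt N2327 F11575) (tt N10566 D15397) (tt N2323 (iv5 D7270)) (tt N10560 (iv6 F24957)) (tt N10548 (iv7 F26503)))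
theorem Q5037 : ∀ i, i < 5037 → P i := stepQ 5036 Q5036 (allL N5036 (tt N8304 (iv1 F20784)) (tt N2324 (iv0 D7272)) (tt N5704 (iv2 F41772)) (tt N10567 D15400) (tt N4143 F41771) (tt N10568 D15402) (tt N5689 F298465) (tt N5707 (iv7 F41773)))
theorem Q5038 : ∀ i, i < 5038 → P i := stepQ 5037 Q5037 (allL N5037 (tt N2324 (iv1 D7273)) (tt N8304 F20783) (tt N5707 F41774) (tt N10569 D15405) (tt N4144 (iv4 F41776)) (tt N10570 D15407) (tt N10571 D15408) (tt N5704 F41775))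
theorem Q5039 : ∀ i, i < 5039 → P i := stepQ 5038 Q5038 (allL N5038 (tt N10572 D15409) (tt N10573 D15410) (tt N8303 (iv2 F20777)) (tt N10560 (iv3 F24956)) (tt N10310 F313318) (tt N2324 (iv5 D7274)) (tt N2327 F11578) (tt N10574 D15412))
theorem Q5040 : ∀ i, i < 5040 → P i := stepQ 5039 Q5039 (allL N5039 (tt N5707 (iv1 F30467)) (tt N5704 F30464) (tt N8304 (iv2 F20779)) (tt N10561 (iv3 F24958)) (tt N2771 F11579) (tt N10574 (iv5 F24967)) (tt N8325 (iv6 F20846)) (tt N2324 (iv7 D7275)))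
theorem Q5041 : ∀ i, i < 5041 → P i := stepQ 5040 Q5040 (allL N5040 (tt N10575 D15413) (tt N10499 (iv0 F54127)) (tt N10576 D15415) (tt N2325 (iv3 D7277)) (tt N8308 (iv4 F20798)) (tt N10577 D15416) (tt N10239 (iv6 F24533)) (tt N5511 (iv7 F12702)))
theorem Q5042 : ∀ i, i < 5042 → P i := stepQ 5041 Q5041 (allL N5041 (tt N4943 F11582) (tt N10578 D15417) (tt N5508 (iv2 F12683)) (tt N10577 (iv3 F24968)) (tt N8288 F309369) (tt N2325 (iv5 D7278)) (tt N8156 (iv6 F311594)) (tt N5512 (iv7 F12704)))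
theorem Q5043 : ∀ i, i < 5043 → P i := stepQ 5042 Q5042 (allL N5042 (tt N10511 F54140) (tt N10579 D15421) (tt N10580 D15422) (tt N2326 (iv3 D7280)) (tt N10581 D15423) (tt N10582 D15424) (tt N10583 D15425) (tt N5507 (iv7 F12682)))
theorem Q5044 : ∀ i, i < 5044 → P i := stepQ 5043 Q5043 (allL N5043 (tt N10578 (iv1 F24969)) (tt N4943 F12705) (tt N5512 (iv2 F12703)) (tt N10582 (iv3 F24974)) (tt N10449 F309370) (tt N2326 (iv5 D7281)) (tt N10584 D15427) (tt N5508 (iv7 F12684)))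
theorem Q5045 : ∀ i, i < 5045 → P i := stepQ 5044 Q5044 (allL N5044 (tt N5254 (iv1 F12455)) (tt N5255 F21182) (tt N5513 (iv2 F12707)) (tt N10583 (iv3 F24975)) (tt N4087 F11588) (tt N10585 D15428) (tt N2326 (iv6 D7282)) (tt N10241 (iv7 F24535)))
theorem Q5046 : ∀ i, i < 5046 → P i := stepQ 5045 Q5045 (allL N5045 (tt N8302 (iv1 F26338)) (tt N2327 (iv0 D7283)) (tt N8305 F20786) (tt N10586 D15429) (tt N10587 D15430) (tt N5669 (iv5 F12943)) (tt N10588 D15431) (tt N8306 (iv7 F20790)))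
theorem Q5047 : ∀ i, i < 5047 → P i := stepQ 5046 Q5046 (allL N5046 (tt N2327 (iv1 D7284)) (tt N8302 (iv0 F26337)) (tt N8306 F20792) (tt N10589 D15432) (tt N10590 D15433) (tt N4583 F11589) (tt N10591 D15434) (tt N8305 F20787))
theorem Q5048 : ∀ i, i < 5048 → P i := stepQ 5047 Q5047 (allL N5047 (tt N10592 D15435) (tt N10593 D15436) (tt N8307 (iv2 F20793)) (tt N8806 (iv3 F26944)) (tt N2327 (iv4 D7285)) (tt N8300 (iv5 F26418)) (tt N10310 (iv6 F311068)) (tt N10594 D15439))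
theorem Q5049 : ∀ i, i < 5049 → P i := stepQ 5048 Q5048 (allL N5048 (tt N8306 (iv1 F20789)) (tt N8305 F20788) (tt N8302 (iv2 F26339)) (tt N10548 (iv3 F26502)) (tt N10594 (iv4 F24986)) (tt N2328 F11590) (tt N10595 D15440) (tt N2327 (iv7 D7286)))
theorem Q5050 : ∀ i, i < 5050 → P i := stepQ 5049 Q5049 (allL N5049 (tt N5471 F12516) (tt N5447 (iv0 F12481)) (tt N5468 F12513) (tt N10596 D15441) (tt N2329 (iv4 D7290)) (tt N10597 D15442) (tt N10244 (iv6 F24541)) (tt N5469 (iv7 F12512)))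
theorem Q5051 : ∀ i, i < 5051 → P i := stepQ 5050 Q5050 (allL N5050 (tt N7442 F18687) (tt N8103 (iv0 F20229)) (tt N5505 (iv2 F12665)) (tt N2331 F11591) (tt N10598 D15443) (tt N2329 (iv5 D7291)) (tt N7992 F20040) (tt N8030 (iv7 F20100)))
theorem Q5052 : ∀ i, i < 5052 → P i := stepQ 5051 Q5051 (allL N5051 (tt N8541 (iv1 F27054)) (tt N8544 (iv0 F27053)) (tt N8542 (iv2 F27044)) (tt N2330 (iv3 D7292)) (tt N10596 (iv4 F24988)) (tt N10599 D15447) (tt N10245 (iv6 F24542)) (tt N8311 (iv7 F20809)))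
theorem Q5053 : ∀ i, i < 5053 → P i := stepQ 5052 Q5052 (allL N5052 (tt N4964 F11592) (tt N10600 D15448) (tt N8309 (iv2 F20800)) (tt N10599 (iv3 F24989)) (tt N4921 F309315) (tt N2330 (iv5 D7293)) (tt N4839 (iv6 F311530)) (tt N8312 (iv7 F20811)))
theorem Q5054 : ∀ i, i < 5054 → P i := stepQ 5053 Q5053 (allL N5053 (tt N7445 (iv1 F20644)) (tt N8423 (iv0 F26455)) (tt N8310 (iv2 F20803)) (tt N2383 (iv3 F26434)) (tt N2331 (iv4 D7294)) (tt N8618 (iv5 F21495)) (tt N8243 (iv6 F20617)) (tt N8314 (iv7 F20817)))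
theorem Q5055 : ∀ i, i < 5055 → P i := stepQ 5054 Q5054 (allL N5054 (tt N5335 (iv1 F54072)) (tt N10601 D15453) (tt N10602 D15454) (tt N2332 (iv3 D7301)) (tt N5511 (iv4 F12701)) (tt N10603 D15455) (tt N10604 D15456) (tt N8308 (iv7 F20799)))
theorem Q5056 : ∀ i, i < 5056 → P i := stepQ 5055 Q5055 (allL N5055 (tt N10600 (iv1 F24990)) (tt N4964 (iv0 F20643)) (tt N8312 (iv2 F20810)) (tt N10603 (iv3 F24995)) (tt N10605 D15457) (tt N2332 (iv5 D7302)) (tt N10606 D15458) (tt N8309 (iv7 F20801)))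
theorem Q5057 : ∀ i, i < 5057 → P i := stepQ 5056 Q5056 (allL N5056 (tt N9174 (iv1 F22835)) (tt N9178 F23112) (tt N8313 (iv2 F20813)) (tt N10604 (iv3 F24996)) (tt N2334 F11601) (tt N10607 D15459) (tt N2332 (iv6 D7303)) (tt N10247 (iv7 F24544)))
theorem Q5058 : ∀ i, i < 5058 → P i := stepQ 5057 Q5057 (allL N5057 (tt N8423 (iv1 F26456)) (tt N7445 F18694) (tt N8314 (iv2 F20815)) (tt N5180 (iv3 F26433)) (tt N2333 (iv4 D7304)) (tt N8619 (iv5 F21501)) (tt N2371 F11602) (tt N8310 (iv7 F20805)))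
theorem Q5059 : ∀ i, i < 5059 → P i := stepQ 5058 Q5058 (allL N5058 (tt N10608 D15461) (tt N7314 (iv0 F26279)) (tt N5475 (iv2 F26282)) (tt N2335 (iv3 D7305)) (tt N5440 (iv4 F12460)) (tt N5449 F26271) (tt N5093 (iv6 F26284)) (tt N4291 F11603))
theorem Q5060 : ∀ i, i < 5060 → P i := stepQ 5059 Q5059 (allL N5059 (tt N3432 (iv1 F26346)) (tt N4120 (iv0 F26347)) (tt N4119 (iv2 F26348)) (tt N2338 (iv3 D7310)) (tt N5451 (iv4 F12487)) (tt N8974 (iv5 F26353)) (tt N4899 (iv6 F26354)) (tt N4118 F26300))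
theorem Q5061 : ∀ i, i < 5061 → P i := stepQ 5060 Q5060 (allL N5060 (tt N10497 (iv1 F26706)) (tt N10514 (iv0 F50851)) (tt N10609 D15520) (tt N2341 (iv3 D7328)) (tt N5463 F12506) (tt N10610 D15521) (tt N8978 (iv6 F26480)) (tt N5672 (iv7 F26481)))
theorem Q5062 : ∀ i, i < 5062 → P i := stepQ 5061 Q5061 (allL N5061 (tt N5099 (iv1 F26483)) (tt N3986 (iv0 F26532)) (tt N5101 F26576) (tt N10610 (iv3 F25074)) (tt N10611 D15532) (tt N2341 (iv5 D7330)) (tt N10612 D15533) (tt N5100 F26577))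
theorem Q5063 : ∀ i, i < 5063 → P i := stepQ 5062 Q5062 (allL N5062 (tt N10496 F25083) (tt N10498 (iv0 F26703)) (tt N10613 D15541) (tt N2342 (iv3 D7333)) (tt N8328 (iv4 F26487)) (tt N10614 D15543) (tt N8214 (iv6 F26489)) (tt N5667 (iv7 F26476)))
theorem Q5064 : ∀ i, i < 5064 → P i := stepQ 5063 Q5063 (allL N5063 (tt N3986 (iv1 F26533)) (tt N5099 (iv0 F26482)) (tt N5100 F26578) (tt N10614 (iv3 F25090)) (tt N10615 D15547) (tt N2342 (iv5 D7335)) (tt N10616 D15548) (tt N5101 F26579))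
theorem Q5065 : ∀ i, i < 5065 → P i := stepQ 5064 Q5064 (allL N5064 (tt N8297 (iv1 F20765)) (tt N2343 (iv0 D7339)) (tt N8299 (iv2 F26444)) (tt N10617 D15560) (tt N10618 D15561) (tt N2361 (iv5 F25794)) (tt N10619 D15563) (tt N8298 (iv7 F26442)))
theorem Q5066 : ∀ i, i < 5066 → P i := stepQ 5065 Q5065 (allL N5065 (tt N2343 (iv1 D7340)) (tt N8297 F20764) (tt N8298 (iv2 F26440)) (tt N10620 D15565) (tt N10448 F311225) (tt N2362 (iv5 F25799)) (tt N9907 (iv6 F311360)) (tt N8299 (iv7 F26446)))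
theorem Q5067 : ∀ i, i < 5067 → P i := stepQ 5066 Q5066 (allL N5066 (tt N10621 D15569) (tt N10622 D15570) (tt N8326 (iv2 F26469)) (tt N2759 F11659) (tt N2343 (iv4 D7341)) (tt N10594 (iv5 F26497)) (tt N10623 D15572) (tt N8300 (iv7 F20771)))
theorem Q5068 : ∀ i, i < 5068 → P i := stepQ 5067 Q5067 (allL N5067 (tt N10624 D15573) (tt N10625 D15574) (tt N8324 (iv2 F26470)) (tt N2344 F11660) (tt N10623 (iv4 F25105)) (tt N2344 (iv5 F26491)) (tt N2343 (iv6 D7342)) (tt N10626 D15576))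
theorem Q5069 : ∀ i, i < 5069 → P i := stepQ 5068 Q5068 (allL N5068 (tt N8325 (iv1 F20849)) (tt N2344 (iv0 D7347)) (tt N5606 (iv2 F41942)) (tt N10627 D15592) (tt N4103 F41941) (tt N10628 D15594) (tt N10629 D15595) (tt N5610 (iv7 F41947)))
theorem Q5070 : ∀ i, i < 5070 → P i := stepQ 5069 Q5069 (allL N5069 (tt N2344 (iv1 D7348)) (tt N8325 F20848) (tt N5610 F41948) (tt N10630 D15597) (tt N4104 (iv4 F41950)) (tt N10631 D15599) (tt N10632 D15600) (tt N5606 F41949))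
theorem Q5071 : ∀ i, i < 5071 → P i := stepQ 5070 Q5070 (allL N5070 (tt N5610 (iv1 F41761)) (tt N5606 F41758) (tt N8325 (iv2 F20844)) (tt N10626 (iv3 F25108)) (tt N2764 F11664) (tt N10626 (iv5 F26499)) (tt N8304 (iv6 F20781)) (tt N2344 (iv7 D7350)))
theorem Q5072 : ∀ i, i < 5072 → P i := stepQ 5071 Q5071 (allL N5071 (tt N5333 (iv1 F26843)) (tt N5339 F50732) (tt N8538 (iv2 F26736)) (tt N2345 (iv3 D7359)) (tt N5667 (iv4 F12931)) (tt N10633 D15632) (tt N4480 F11666) (tt N8328 (iv7 F20868)))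
theorem Q5073 : ∀ i, i < 5073 → P i := stepQ 5072 Q5072 (allL N5072 (tt N10634 D15633) (tt N10635 D15634) (tt N8327 (iv2 F20864)) (tt N10633 (iv3 F25129)) (tt N10636 D15635) (tt N2345 (iv5 D7360)) (tt N10637 D15636) (tt N8329 (iv7 F20870)))
theorem Q5074 : ∀ i, i < 5074 → P i := stepQ 5073 Q5073 (allL N5073 (tt N4117 F11667) (tt N10638 D15637) (tt N5670 (iv2 F12947)) (tt N8537 (iv3 F26471)) (tt N2346 (iv4 D7361)) (tt N10639 D15639) (tt N7976 (iv6 F20014)) (tt N8041 (iv7 F20161)))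
theorem Q5075 : ∀ i, i < 5075 → P i := stepQ 5074 Q5074 (allL N5074 (tt N10635 (iv1 F25132)) (tt N10634 F25131) (tt N8329 (iv2 F20869)) (tt N5160 (iv3 F26852)) (tt N10640 D15644) (tt N2347 (iv5 D7363)) (tt N10641 D15645) (tt N8327 (iv7 F20865)))
theorem Q5076 : ∀ i, i < 5076 → P i := stepQ 5075 Q5075 (allL N5075 (tt N7218 (iv1 F37230)) (tt N9119 (iv0 F22786)) (tt N10642 D15652) (tt N2348 (iv3 D7365)) (tt N5157 F11745) (tt N10549 (iv5 F24948)) (tt N10643 D15653) (tt N8335 (iv7 F25555)))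
theorem Q5077 : ∀ i, i < 5077 → P i := stepQ 5076 Q5076 (allL N5076 (tt N5195 (iv1 F11807)) (tt N5174 F11812) (tt N5121 F25551) (tt N10644 D15655) (tt N2348 (iv4 D7366)) (tt N10645 D15656) (tt N10646 D15657) (tt N5194 F25552))
theorem Q5078 : ∀ i, i < 5078 → P i := stepQ 5077 Q5077 (allL N5077 (tt N8344 (iv1 F27207)) (tt N8339 (iv0 F27208)) (tt N8337 (iv2 F25564)) (tt N10643 (iv3 F25149)) (tt N10646 (iv4 F25154)) (tt N10647 D15661) (tt N2348 (iv6 D7368)) (tt N8342 (iv7 F27202)))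
theorem Q5079 : ∀ i, i < 5079 → P i := stepQ 5078 Q5078 (allL N5078 (tt N8073 F20198) (tt N8078 (iv0 F25291)) (tt N9115 (iv2 F25526)) (tt N2349 (iv3 D7370)) (tt N10648 D15666) (tt N10551 (iv5 F24951)) (tt N10299 (iv6 F41349)) (tt N8336 (iv7 F25561)))
theorem Q5080 : ∀ i, i < 5080 → P i := stepQ 5079 Q5079 (allL N5079 (tt N5174 (iv1 F11814)) (tt N5195 (iv0 F11813)) (tt N5194 (iv2 F25542)) (tt N4008 (iv3 F11670)) (tt N2349 (iv4 D7371)) (tt N10649 D15668) (tt N10300 (iv6 F41351)) (tt N5121 (iv7 F25543)))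
theorem Q5081 : ∀ i, i < 5081 → P i := stepQ 5080 Q5080 (allL N5080 (tt N5026 (iv1 F24910)) (tt N5023 (iv0 F20918)) (tt N2351 F11671) (tt N8332 (iv3 F20889)) (tt N10650 D15674) (tt N2350 (iv5 D7374)) (tt N10651 D15675) (tt N8338 (iv7 F20908)))
theorem Q5082 : ∀ i, i < 5082 → P i := stepQ 5081 Q5081 (allL N5081 (tt N8338 (iv1 F20910)) (tt N2351 (iv0 D7375)) (tt N5026 (iv2 F27221)) (tt N10652 D15677) (tt N10653 D15678) (tt N3975 (iv5 F27212)) (tt N10654 D15680) (tt N5023 F27220))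
theorem Q5083 : ∀ i, i < 5083 → P i := stepQ 5082 Q5082 (allL N5082 (tt N2351 (iv1 D7376)) (tt N8338 F20909) (tt N5023 F27219) (tt N10655 D15682) (tt N10656 D15683) (tt N3976 F27225) (tt N10657 D15685) (tt N5026 (iv7 F27222)))
theorem Q5084 : ∀ i, i < 5084 → P i := stepQ 5083 Q5083 (allL N5083 (tt N10658 D15686) (tt N10659 D15687) (tt N10650 (iv2 F25165)) (tt N2704 F11672) (tt N2351 (iv4 D7377)) (tt N10660 D15688) (tt N8717 (iv6 F299035)) (tt N8340 (iv7 F20917)))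
theorem Q5085 : ∀ i, i < 5085 → P i := stepQ 5084 Q5084 (allL N5084 (tt N10661 D15690) (tt N10662 D15691) (tt N10651 (iv2 F25166)) (tt N2354 F11673) (tt N8717 (iv4 F299034)) (tt N9377 (iv5 F23172)) (tt N2351 (iv6 D7378)) (tt N10663 D15692))
theorem Q5086 : ∀ i, i < 5086 → P i := stepQ 5085 Q5085 (allL N5085 (tt N9126 (iv1 F37252)) (tt N9113 (iv0 F37255)) (tt N9123 (iv2 F25729)) (tt N2352 (iv3 D7379)) (tt N10664 D15696) (tt N2422 F11674) (tt N10665 D15697) (tt N5011 F11675))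
theorem Q5087 : ∀ i, i < 5087 → P i := stepQ 5086 Q5086 (allL N5086 (tt N10666 D15698) (tt N10667 D15699) (tt N5020 F11676) (tt N10665 (iv3 F25182)) (tt N2562 F11677) (tt N7505 (iv5 F18821)) (tt N2352 (iv6 D7380)) (tt N10668 D15700))
theorem Q5088 : ∀ i, i < 5088 → P i := stepQ 5087 Q5087 (allL N5087 (tt N7216 F43060) (tt N7220 (iv0 F43061)) (tt N10669 D15703) (tt N2353 (iv3 D7381)) (tt N10670 D15704) (tt N2532 F11678) (tt N10671 D15705) (tt N5019 F11679))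
theorem Q5089 : ∀ i, i < 5089 → P i := stepQ 5088 Q5088 (allL N5088 (tt N8529 (iv1 F30449)) (tt N8533 (iv0 F30439)) (tt N5013 F11680) (tt N10671 (iv3 F25199)) (tt N2568 F11681) (tt N10672 D15708) (tt N2353 (iv6 D7382)) (tt N10673 D15709))
theorem Q5090 : ∀ i, i < 5090 → P i := stepQ 5089 Q5089 (allL N5089 (tt N8334 (iv1 F20902)) (tt N2354 (iv0 D7383)) (tt N5773 F296705) (tt N10674 D15711) (tt N2627 F296706) (tt N10675 D15713) (tt N10676 D15714) (tt N5776 (iv7 F296901)))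
theorem Q5091 : ∀ i, i < 5091 → P i := stepQ 5090 Q5090 (allL N5090 (tt N2354 (iv1 D7384)) (tt N8334 F20901) (tt N5776 (iv2 F296900)) (tt N10677 D15716) (tt N2624 F296185) (tt N10678 D15718) (tt N10679 D15719) (tt N5773 (iv7 F296555)))
theorem Q5092 : ∀ i, i < 5092 → P i := stepQ 5091 Q5091 (allL N5091 (tt N5776 F297920) (tt N5773 F297921) (tt N8334 (iv2 F20897)) (tt N10663 (iv3 F25172)) (tt N2709 F11682) (tt N9387 (iv5 F23178)) (tt N8346 (iv6 F20930)) (tt N2354 (iv7 D7385)))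
theorem Q5093 : ∀ i, i < 5093 → P i := stepQ 5092 Q5092 (allL N5092 (tt N8296 (iv1 F26370)) (tt N10680 D15748) (tt N5092 F11689) (tt N2421 (iv3 F26375)) (tt N3911 (iv4 F26366)) (tt N2357 (iv5 D7394)) (tt N3910 (iv6 F26367)) (tt N8474 (iv7 F26369)))
theorem Q5094 : ∀ i, i < 5094 → P i := stepQ 5093 Q5093 (allL N5093 (tt N7261 (iv1 F18264)) (tt N2472 F12681) (tt N7260 F20139) (tt N2358 (iv3 D7397)) (tt N8053 (iv4 F20175)) (tt N10681 D15751) (tt N5058 F26284) (tt N5095 F20132))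
theorem Q5095 : ∀ i, i < 5095 → P i := stepQ 5094 Q5094 (allL N5094 (tt N3911 F12005) (tt N5312 (iv0 F12004)) (tt N5094 F20135) (tt N10681 (iv3 F25248)) (tt N10680 (iv4 F26308)) (tt N2358 (iv5 D7399)) (tt N10680 (iv6 F26307)) (tt N5096 F20134))
theorem Q5096 : ∀ i, i < 5096 → P i := stepQ 5095 Q5095 (allL N5095 (tt N3433 (iv1 F12660)) (tt N5353 (iv0 F12659)) (tt N5352 F20138) (tt N2359 (iv3 D7402)) (tt N9105 F22749) (tt N5473 (iv5 F12661)) (tt N9073 (iv6 F22709)) (tt N5093 (iv7 F20132)))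
theorem Q5097 : ∀ i, i < 5097 → P i := stepQ 5096 Q5096 (allL N5096 (tt N5312 (iv1 F12006)) (tt N3911 (iv0 F11700)) (tt N5096 F20125) (tt N5473 F12662) (tt N8296 (iv4 F26286)) (tt N2359 (iv5 D7404)) (tt N3963 F11699) (tt N5094 (iv7 F20134)))
theorem Q5098 : ∀ i, i < 5098 → P i := stepQ 5097 Q5097 (allL N5097 (tt N9112 (iv1 F37254)) (tt N9132 (iv0 F37259)) (tt N9131 (iv2 F25450)) (tt N2361 (iv3 D7407)) (tt N5132 F11723) (tt N10617 (iv5 F25793)) (tt N10315 (iv6 F26511)) (tt N8330 (iv7 F25417)))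
theorem Q5099 : ∀ i, i < 5099 → P i := stepQ 5098 Q5098 (allL N5098 (tt N9122 (iv1 F37241)) (tt N7214 (iv0 F25656)) (tt N9118 (iv2 F25408)) (tt N2362 (iv3 D7412)) (tt N5180 (iv4 F11770)) (tt N10620 (iv5 F25798)) (tt N8347 (iv6 F26512)) (tt N8331 (iv7 F25428)))
theorem Q5100 : ∀ i, i < 5100 → P i := stepQ 5099 Q5099 (allL N5099 (tt N5063 F26482) (tt N5061 F26483) (tt N2364 F11703) (tt N8338 (iv3 F20907)) (tt N10682 D15796) (tt N2363 (iv5 D7416)) (tt N10683 D15797) (tt N8332 (iv7 F20890)))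
theorem Q5101 : ∀ i, i < 5101 → P i := stepQ 5100 Q5100 (allL N5100 (tt N8332 (iv1 F20892)) (tt N2364 (iv0 D7418)) (tt N5063 (iv2 F26578)) (tt N10684 D15803) (tt N10685 D15804) (tt N2619 (iv5 F26513)) (tt N10686 D15806) (tt N5061 (iv7 F26577)))
theorem Q5102 : ∀ i, i < 5102 → P i := stepQ 5101 Q5101 (allL N5101 (tt N2364 (iv1 D7419)) (tt N8332 F20891) (tt N5061 (iv2 F26576)) (tt N10687 D15808) (tt N10688 D15809) (tt N2616 (iv5 F26514)) (tt N10689 D15811) (tt N5063 (iv7 F26579)))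
theorem Q5103 : ∀ i, i < 5103 → P i := stepQ 5102 Q5102 (allL N5102 (tt N10690 D15812) (tt N10691 D15813) (tt N10682 (iv2 F25300)) (tt N2690 F11705) (tt N2364 (iv4 D7420)) (tt N10692 D15814) (tt N10693 D15815) (tt N6742 (iv7 F16397)))
theorem Q5104 : ∀ i, i < 5104 → P i := stepQ 5103 Q5103 (allL N5103 (tt N10694 D15816) (tt N10695 D15817) (tt N10683 (iv2 F25301)) (tt N2366 F11706) (tt N10693 (iv4 F25313)) (tt N10696 D15818) (tt N2364 (iv6 D7421)) (tt N10697 D15819))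
theorem Q5105 : ∀ i, i < 5105 → P i := stepQ 5104 Q5104 (allL N5104 (tt N10698 D15830) (tt N10699 D15831) (tt N8477 (iv2 F26509)) (tt N2369 F11707) (tt N10700 D15832) (tt N2365 (iv5 D7424)) (tt N10696 (iv6 F25315)) (tt N8475 (iv7 F26523)))
theorem Q5106 : ∀ i, i < 5106 → P i := stepQ 5105 Q5105 (allL N5105 (tt N8346 (iv1 F20933)) (tt N2366 (iv0 D7426)) (tt N5762 F41743) (tt N10701 D15835) (tt N4154 (iv4 F41745)) (tt N8184 F315192) (tt N10702 D15838) (tt N5766 F41744))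
theorem Q5107 : ∀ i, i < 5107 → P i := stepQ 5106 Q5106 (allL N5106 (tt N2366 (iv1 D7427)) (tt N8346 F20932) (tt N5766 (iv2 F41741)) (tt N10703 D15840) (tt N4155 F41740) (tt N10079 (iv5 F314553)) (tt N10704 D15843) (tt N5762 (iv7 F41742)))
theorem Q5108 : ∀ i, i < 5108 → P i := stepQ 5107 Q5107 (allL N5107 (tt N10705 D15844) (tt N10706 D15845) (tt N8345 (iv2 F20926)) (tt N10696 (iv3 F25314)) (tt N10187 (iv4 F315100)) (tt N2366 (iv5 D7428)) (tt N2369 F11710) (tt N10707 D15847))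
theorem Q5109 : ∀ i, i < 5109 → P i := stepQ 5108 Q5108 (allL N5108 (tt N5766 (iv1 F41729)) (tt N5762 (iv0 F41730)) (tt N8346 (iv2 F20928)) (tt N10697 (iv3 F25316)) (tt N2694 F11711) (tt N10707 (iv5 F25325)) (tt N8334 (iv6 F20899)) (tt N2366 (iv7 D7429)))
theorem Q5110 : ∀ i, i < 5110 → P i := stepQ 5109 Q5109 (allL N5109 (tt N10708 D15848) (tt N7221 F50900) (tt N10709 D15850) (tt N2367 (iv3 D7431)) (tt N10710 D15851) (tt N10711 D15852) (tt N8330 (iv6 F26439)) (tt N8349 (iv7 F20939)))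
theorem Q5111 : ∀ i, i < 5111 → P i := stepQ 5110 Q5110 (allL N5110 (tt N10243 (iv1 F24540)) (tt N8218 (iv0 F20524)) (tt N8348 (iv2 F20936)) (tt N10711 (iv3 F25327)) (tt N5292 (iv4 F312702)) (tt N2367 (iv5 D7433)) (tt N5291 F310503) (tt N8350 (iv7 F20941)))
theorem Q5112 : ∀ i, i < 5112 → P i := stepQ 5111 Q5111 (allL N5111 (tt N9130 F50862) (tt N9142 F50863) (tt N9140 F50837) (tt N2368 (iv3 D7436)) (tt N8355 (iv4 F20959)) (tt N10712 D15859) (tt N10314 (iv6 F24640)) (tt N8347 (iv7 F20935)))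
theorem Q5113 : ∀ i, i < 5113 → P i := stepQ 5112 Q5112 (allL N5112 (tt N8218 (iv1 F20525)) (tt N10243 F24539) (tt N8350 (iv2 F20940)) (tt N10712 (iv3 F25329)) (tt N9910 (iv4 F316150)) (tt N2368 (iv5 D7437)) (tt N10713 D15861) (tt N8348 (iv7 F20937)))
theorem Q5114 : ∀ i, i < 5114 → P i := stepQ 5113 Q5113 (allL N5113 (tt N8352 (iv1 F20955)) (tt N2369 (iv0 D7439)) (tt N8351 F20944) (tt N10714 D15862) (tt N4782 (iv4 F318335)) (tt N4888 F12083) (tt N10715 D15864) (tt N4779 F316485))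
theorem Q5115 : ∀ i, i < 5115 → P i := stepQ 5114 Q5114 (allL N5114 (tt N2369 (iv1 D7440)) (tt N8352 F20954) (tt N4779 F316518) (tt N10716 D15865) (tt N3890 F316519) (tt N4887 F11715) (tt N3889 F316520) (tt N8351 F20945))
theorem Q5116 : ∀ i, i < 5116 → P i := stepQ 5115 Q5115 (allL N5115 (tt N4779 (iv1 F316027)) (tt N8351 F20946) (tt N8352 (iv2 F20952)) (tt N8475 (iv3 F26522)) (tt N8210 (iv4 F318177)) (tt N2370 F11716) (tt N10717 D15873) (tt N2369 (iv7 D7442)))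
theorem Q5117 : ∀ i, i < 5117 → P i := stepQ 5116 Q5116 (allL N5116 (tt N10718 D15874) (tt N2402 F50793) (tt N10719 D15876) (tt N2371 (iv3 D7447)) (tt N8347 (iv4 F20934)) (tt N10720 D15877) (tt N5180 F26528) (tt N8355 (iv7 F20960)))
theorem Q5118 : ∀ i, i < 5118 → P i := stepQ 5117 Q5117 (allL N5117 (tt N10721 D15878) (tt N10722 D15879) (tt N8354 (iv2 F20957)) (tt N10720 (iv3 F25347)) (tt N4868 (iv4 F312704)) (tt N2371 (iv5 D7448)) (tt N4754 F311305) (tt N8356 (iv7 F20962)))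
theorem Q5119 : ∀ i, i < 5119 → P i := stepQ 5118 Q5118 (allL N5118 (tt N5351 F12078) (tt N8069 F20192) (tt N8058 (iv2 F20180)) (tt N10723 D15882) (tt N2372 (iv4 D7452)) (tt N10724 D15883) (tt N10321 (iv6 F24656)) (tt N8057 (iv7 F20178)))
theorem Q5120 : ∀ i, i < 5120 → P i := stepQ 5119 Q5119 (allL N5119 (tt N8422 (iv1 F26795)) (tt N8432 (iv0 F26794)) (tt N8430 (iv2 F26891)) (tt N2373 (iv3 D7453)) (tt N10723 (iv4 F25355)) (tt N10725 D15887) (tt N8253 (iv6 F26959)) (tt N8353 (iv7 F20956)))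
theorem Q5121 : ∀ i, i < 5121 → P i := stepQ 5120 Q5120 (allL N5120 (tt N10722 (iv1 F25351)) (tt N10721 F25349) (tt N8356 (iv2 F20961)) (tt N10725 (iv3 F25356)) (tt N10726 D15888) (tt N2373 (iv5 D7454)) (tt N10727 D15889) (tt N8354 (iv7 F20958)))
theorem Q5122 : ∀ i, i < 5122 → P i := stepQ 5121 Q5121 (allL N5121 (tt N2399 F11811) (tt N5182 (iv0 F11772)) (tt N5076 (iv2 F25551)) (tt N2374 (iv3 D7456)) (tt N3989 F11718) (tt N10728 D15897) (tt N10729 D15898) (tt N5079 F25543))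
theorem Q5123 : ∀ i, i < 5123 → P i := stepQ 5122 Q5122 (allL N5122 (tt N9133 F22797) (tt N10730 D15900) (tt N8378 (iv2 F25545)) (tt N8409 F21067) (tt N2374 (iv4 D7457)) (tt N10731 D15901) (tt N10732 D15902) (tt N8375 (iv7 F25534)))
theorem Q5124 : ∀ i, i < 5124 → P i := stepQ 5123 Q5123 (allL N5123 (tt N8456 (iv1 F30290)) (tt N2409 (iv0 F30291)) (tt N8379 (iv2 F25547)) (tt N10728 (iv3 F25368)) (tt N10733 D15906) (tt N2374 (iv5 D7458)) (tt N10734 D15907) (tt N8376 (iv7 F25537)))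
theorem Q5125 : ∀ i, i < 5125 → P i := stepQ 5124 Q5124 (allL N5124 (tt N10735 D15909) (tt N8469 (iv0 F27203)) (tt N8380 (iv2 F25549)) (tt N10729 (iv3 F25369)) (tt N10732 (iv4 F25376)) (tt N10736 D15911) (tt N2374 (iv6 D7459)) (tt N10337 (iv7 F41344)))
theorem Q5126 : ∀ i, i < 5126 → P i := stepQ 5125 Q5125 (allL N5125 (tt N8404 (iv1 F26665)) (tt N8408 (iv0 F26645)) (tt N8403 F25374) (tt N2375 (iv3 D7461)) (tt N10737 D15916) (tt N10738 D15917) (tt N10338 (iv6 F41339)) (tt N8377 (iv7 F25544)))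
theorem Q5127 : ∀ i, i < 5127 → P i := stepQ 5126 Q5126 (allL N5126 (tt N10730 (iv1 F25375)) (tt N9133 F25379) (tt N8375 (iv2 F25533)) (tt N8047 (iv3 F20171)) (tt N2375 (iv4 D7462)) (tt N10739 D15919) (tt N10339 (iv6 F41340)) (tt N8378 (iv7 F25546)))
theorem Q5128 : ∀ i, i < 5128 → P i := stepQ 5127 Q5127 (allL N5127 (tt N2409 F30292) (tt N8456 F30293) (tt N8376 (iv2 F25536)) (tt N10738 (iv3 F25385)) (tt N10740 D15921) (tt N2375 (iv5 D7463)) (tt N10741 D15922) (tt N8379 (iv7 F25548)))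
theorem Q5129 : ∀ i, i < 5129 → P i := stepQ 5128 Q5128 (allL N5128 (tt N8385 (iv1 F21014)) (tt N8384 F21013) (tt N2377 F11720) (tt N10742 D15927) (tt N2376 (iv4 D7465)) (tt N10743 D15928) (tt N10744 D15929) (tt N8381 (iv7 F21002)))
theorem Q5130 : ∀ i, i < 5130 → P i := stepQ 5129 Q5129 (allL N5129 (tt N5493 (iv1 F27841)) (tt N5489 (iv0 F27838)) (tt N2378 F11721) (tt N8361 (iv3 F20967)) (tt N10745 D15930) (tt N2376 (iv5 D7466)) (tt N10745 (iv6 F301044)) (tt N8382 (iv7 F21007)))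
theorem Q5131 : ∀ i, i < 5131 → P i := stepQ 5130 Q5130 (allL N5130 (tt N10746 D15932) (tt N10747 D15933) (tt N2379 F11722) (tt N8362 (iv3 F20972)) (tt N10744 (iv4 F25394)) (tt N10748 D15934) (tt N2376 (iv6 D7467)) (tt N10749 D15935))
theorem Q5132 : ∀ i, i < 5132 → P i := stepQ 5131 Q5131 (allL N5131 (tt N8381 (iv1 F21004)) (tt N2377 (iv0 D7468)) (tt N8385 (iv2 F25424)) (tt N5150 F11741) (tt N10750 D15937) (tt N10751 D15938) (tt N10752 D15939) (tt N8384 (iv7 F25447)))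
theorem Q5133 : ∀ i, i < 5133 → P i := stepQ 5132 Q5132 (allL N5132 (tt N2377 (iv1 D7469)) (tt N8381 (iv0 F21003)) (tt N8384 F25448) (tt N10753 D15940) (tt N5097 (iv4 F11723)) (tt N10754 D15941) (tt N10344 (iv6 F26625)) (tt N8385 (iv7 F25425)))
theorem Q5134 : ∀ i, i < 5134 → P i := stepQ 5133 Q5133 (allL N5133 (tt N10755 D15943) (tt N10756 D15944) (tt N10743 (iv2 F25392)) (tt N3850 F11724) (tt N10757 D15945) (tt N2377 (iv5 D7470)) (tt N10758 D15946) (tt N8386 (iv7 F21017)))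
theorem Q5135 : ∀ i, i < 5135 → P i := stepQ 5134 Q5134 (allL N5134 (tt N10759 D15947) (tt N10760 D15948) (tt N10744 (iv2 F25393)) (tt N3851 F11725) (tt N2379 F11726) (tt N10761 D15949) (tt N2377 (iv6 D7471)) (tt N10762 D15950))
theorem Q5136 : ∀ i, i < 5136 → P i := stepQ 5135 Q5135 (allL N5135 (tt N8382 (iv1 F21009)) (tt N2378 (iv0 D7472)) (tt N5493 (iv2 F35184)) (tt N10540 F35183) (tt N10763 D15953) (tt N4121 (iv5 F35185)) (tt N10764 D15955) (tt N5489 (iv7 F35186)))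
theorem Q5137 : ∀ i, i < 5137 → P i := stepQ 5136 Q5136 (allL N5136 (tt N2378 (iv1 D7473)) (tt N8382 F21008) (tt N5489 F35187) (tt N10765 D15957) (tt N10766 D15958) (tt N4122 (iv5 F35189)) (tt N10767 D15960) (tt N5493 F35188))
theorem Q5138 : ∀ i, i < 5138 → P i := stepQ 5137 Q5137 (allL N5137 (tt N10768 D15961) (tt N10769 D15962) (tt N10745 (iv2 F25395)) (tt N2380 F298416) (tt N2378 (iv4 D7474)) (tt N10770 D15963) (tt N2378 F298417) (tt N8388 (iv7 F21023)))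
theorem Q5139 : ∀ i, i < 5139 → P i := stepQ 5138 Q5138 (allL N5138 (tt N10749 (iv1 F25403)) (tt N2379 (iv0 D7476)) (tt N10746 (iv2 F50594)) (tt N10771 D15970) (tt N10772 D15971) (tt N10773 D15972) (tt N10774 D15973) (tt N10747 (iv7 F50591)))
theorem Q5140 : ∀ i, i < 5140 → P i := stepQ 5139 Q5139 (allL N5139 (tt N2379 (iv1 D7477)) (tt N10749 F25402) (tt N10747 (iv2 F50590)) (tt N10775 D15975) (tt N10776 D15976) (tt N10777 D15977) (tt N10775 (iv6 F50592)) (tt N10746 (iv7 F50596)))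
theorem Q5141 : ∀ i, i < 5141 → P i := stepQ 5140 Q5140 (allL N5140 (tt N10778 D15979) (tt N10779 D15980) (tt N10748 (iv2 F25399)) (tt N2381 F11729) (tt N10780 D15981) (tt N2379 (iv5 D7478)) (tt N10770 F303775) (tt N10781 D15982))
theorem Q5142 : ∀ i, i < 5142 → P i := stepQ 5141 Q5141 (allL N5141 (tt N10747 (iv1 F25397)) (tt N10746 F25401) (tt N10749 (iv2 F25400)) (tt N2382 F11730) (tt N10762 (iv4 F25476)) (tt N10781 (iv5 F25490)) (tt N8393 (iv6 F21027)) (tt N2379 (iv7 D7479)))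
theorem Q5143 : ∀ i, i < 5143 → P i := stepQ 5142 Q5142 (allL N5142 (tt N8372 (iv1 F20989)) (tt N2380 (iv0 D7480)) (tt N8369 (iv2 F42175)) (tt N10782 D15984) (tt N2707 (iv4 F29940)) (tt N10783 D15986) (tt N10784 D15987) (tt N8370 F42174))
theorem Q5144 : ∀ i, i < 5144 → P i := stepQ 5143 Q5143 (allL N5143 (tt N2380 (iv1 D7481)) (tt N8372 F20988) (tt N8370 F42173) (tt N10785 D15989) (tt N2708 (iv4 F29944)) (tt N10786 D15991) (tt N10787 D15992) (tt N8369 (iv7 F42176)))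
theorem Q5145 : ∀ i, i < 5145 → P i := stepQ 5144 Q5144 (allL N5144 (tt N10788 D15993) (tt N10789 D15994) (tt N8371 (iv2 F20982)) (tt N10770 (iv3 F301045)) (tt N10790 D15995) (tt N2380 (iv5 D7482)) (tt N2381 F11731) (tt N8658 (iv7 F298461)))
theorem Q5146 : ∀ i, i < 5146 → P i := stepQ 5145 Q5145 (allL N5145 (tt N9436 (iv1 F23320)) (tt N9425 (iv0 F23294)) (tt N8373 (iv2 F20990)) (tt N10791 D15997) (tt N2381 (iv4 D7484)) (tt N4651 F11733) (tt N10790 (iv6 F25493)) (tt N4650 (iv7 F11734)))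
theorem Q5147 : ∀ i, i < 5147 → P i := stepQ 5146 Q5146 (allL N5146 (tt N4571 (iv1 F11737)) (tt N4557 F11738) (tt N8374 (iv2 F20993)) (tt N10781 (iv3 F25489)) (tt N4650 F11735) (tt N2382 F11736) (tt N10792 D15998) (tt N2381 (iv7 D7485)))
theorem Q5148 : ∀ i, i < 5148 → P i := stepQ 5147 Q5147 (allL N5147 (tt N10793 D16003) (tt N8077 (iv0 F37279)) (tt N8359 F25455) (tt N10598 (iv3 F26942)) (tt N2383 (iv4 D7488)) (tt N10794 D16006) (tt N10365 (iv6 F26972)) (tt N8357 (iv7 F25458)))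
theorem Q5149 : ∀ i, i < 5149 → P i := stepQ 5148 Q5148 (allL N5148 (tt N8449 F27122) (tt N2411 F27123) (tt N8360 F25456) (tt N8618 (iv3 F26435)) (tt N10795 D16010) (tt N2383 (iv5 D7489)) (tt N10796 D16011) (tt N8358 (iv7 F25459)))
theorem Q5150 : ∀ i, i < 5150 → P i := stepQ 5149 Q5149 (allL N5149 (tt N5185 F25467) (tt N2394 F25468) (tt N5180 (iv2 F25409)) (tt N2384 (iv3 D7492)) (tt N9118 (iv4 F22784)) (tt N10797 D16016) (tt N10719 (iv6 F26596)) (tt N5181 (iv7 F25454)))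
theorem Q5151 : ∀ i, i < 5151 → P i := stepQ 5150 Q5150 (allL N5150 (tt N8077 (iv1 F37280)) (tt N10793 F25500) (tt N8357 F25461) (tt N5131 (iv3 F11741)) (tt N2384 (iv4 D7493)) (tt N10798 D16018) (tt N10799 D16019) (tt N8359 F25445))
theorem Q5152 : ∀ i, i < 5152 → P i := stepQ 5151 Q5151 (allL N5151 (tt N2411 (iv1 F27120)) (tt N8449 (iv0 F27121)) (tt N8358 F25460) (tt N10797 (iv3 F25506)) (tt N10800 D16020) (tt N2384 (iv5 D7494)) (tt N10801 D16021) (tt N8360 F25446))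
theorem Q5153 : ∀ i, i < 5153 → P i := stepQ 5152 Q5152 (allL N5152 (tt N8432 (iv1 F26806)) (tt N8422 (iv0 F26805)) (tt N8353 (iv2 F26801)) (tt N10719 (iv3 F26595)) (tt N10799 (iv4 F25510)) (tt N10802 D16024) (tt N2384 (iv6 D7495)) (tt N8430 (iv7 F26892)))
theorem Q5154 : ∀ i, i < 5154 → P i := stepQ 5153 Q5153 (allL N5153 (tt N8043 (iv1 F20167)) (tt N8042 F20163) (tt N2386 F11742) (tt N8049 (iv3 F20172)) (tt N2385 (iv4 D7496)) (tt N10803 D16026) (tt N10804 D16027) (tt N8044 (iv7 F20165)))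
theorem Q5155 : ∀ i, i < 5155 → P i := stepQ 5154 Q5154 (allL N5154 (tt N5661 (iv1 F26761)) (tt N5658 (iv0 F26755)) (tt N2387 F11743) (tt N8382 (iv3 F21006)) (tt N10805 D16028) (tt N2385 (iv5 D7497)) (tt N10806 D16029) (tt N8361 (iv7 F20968)))
theorem Q5156 : ∀ i, i < 5156 → P i := stepQ 5155 Q5155 (allL N5155 (tt N8400 (iv1 F27017)) (tt N8284 (iv0 F27014)) (tt N2388 F11744) (tt N8383 (iv3 F21011)) (tt N10804 (iv4 F25513)) (tt N10807 D16032) (tt N2385 (iv6 D7498)) (tt N8447 (iv7 F26867)))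
theorem Q5157 : ∀ i, i < 5157 → P i := stepQ 5156 Q5156 (allL N5156 (tt N8044 (iv1 F20166)) (tt N2386 (iv0 D7499)) (tt N8043 (iv2 F25565)) (tt N10808 D16035) (tt N10809 D16036) (tt N10810 D16037) (tt N10373 (iv6 F41368)) (tt N8042 F25568))
theorem Q5158 : ∀ i, i < 5158 → P i := stepQ 5157 Q5157 (allL N5157 (tt N2386 (iv1 D7500)) (tt N8044 F20168) (tt N8042 F25567) (tt N10811 D16039) (tt N5075 (iv4 F11745)) (tt N10812 D16040) (tt N10813 D16041) (tt N8043 (iv7 F25566)))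
theorem Q5159 : ∀ i, i < 5159 → P i := stepQ 5158 Q5158 (allL N5158 (tt N10814 D16042) (tt N10815 D16043) (tt N10803 (iv2 F25511)) (tt N4382 F11746) (tt N10816 D16044) (tt N2386 (iv5 D7501)) (tt N10817 D16045) (tt N8045 (iv7 F20170)))
theorem Q5160 : ∀ i, i < 5160 → P i := stepQ 5159 Q5159 (allL N5159 (tt N10818 D16046) (tt N10819 D16047) (tt N10804 (iv2 F25512)) (tt N4383 F11747) (tt N2388 F11748) (tt N10820 D16048) (tt N2386 (iv6 D7502)) (tt N10821 D16049))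
theorem Q5161 : ∀ i, i < 5161 → P i := stepQ 5160 Q5160 (allL N5160 (tt N8361 (iv1 F20970)) (tt N2387 (iv0 D7503)) (tt N5661 (iv2 F26853)) (tt N5074 F26852) (tt N10822 D16052) (tt N4077 (iv5 F26854)) (tt N10823 D16054) (tt N5658 (iv7 F26855)))
theorem Q5162 : ∀ i, i < 5162 → P i := stepQ 5161 Q5161 (allL N5161 (tt N2387 (iv1 D7504)) (tt N8361 F20969) (tt N5658 F26856) (tt N10824 D16056) (tt N10825 D16057) (tt N4078 (iv5 F26863)) (tt N10826 D16059) (tt N5661 F26857))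
theorem Q5163 : ∀ i, i < 5163 → P i := stepQ 5162 Q5162 (allL N5162 (tt N10827 D16060) (tt N10828 D16061) (tt N10805 (iv2 F25514)) (tt N2660 F11749) (tt N2387 (iv4 D7505)) (tt N10829 D16062) (tt N10830 D16063) (tt N8363 (iv7 F20976)))
theorem Q5164 : ∀ i, i < 5164 → P i := stepQ 5163 Q5163 (allL N5163 (tt N10831 D16064) (tt N10832 D16065) (tt N10806 (iv2 F25515)) (tt N2389 F11750) (tt N10830 (iv4 F25590)) (tt N10833 D16066) (tt N2387 (iv6 D7506)) (tt N10834 D16067))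
theorem Q5165 : ∀ i, i < 5165 → P i := stepQ 5164 Q5164 (allL N5164 (tt N2388 (iv1 D7508)) (tt N8447 (iv0 F26865)) (tt N8284 (iv2 F26870)) (tt N10390 (iv3 F26872)) (tt N10835 D16075) (tt N10836 D16076) (tt N8270 (iv6 F26873)) (tt N8400 (iv7 F26869)))
theorem Q5166 : ∀ i, i < 5166 → P i := stepQ 5165 Q5165 (allL N5165 (tt N10837 D16078) (tt N10838 D16079) (tt N10807 (iv2 F25517)) (tt N2390 F11751) (tt N10839 D16080) (tt N2388 (iv5 D7509)) (tt N10833 (iv6 F25592)) (tt N10840 D16081))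
theorem Q5167 : ∀ i, i < 5167 → P i := stepQ 5166 Q5166 (allL N5166 (tt N8284 (iv1 F27015)) (tt N8400 (iv0 F27016)) (tt N8447 (iv2 F26866)) (tt N2391 F11752) (tt N10821 (iv4 F25583)) (tt N10840 (iv5 F25597)) (tt N8368 (iv6 F20980)) (tt N2388 (iv7 D7510)))
theorem Q5168 : ∀ i, i < 5168 → P i := stepQ 5167 Q5167 (allL N5167 (tt N8397 (iv1 F21036)) (tt N2389 (iv0 D7511)) (tt N8394 (iv2 F30383)) (tt N10841 D16083) (tt N2692 (iv4 F29132)) (tt N4833 F316164) (tt N10842 D16086) (tt N8395 (iv7 F30388)))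
theorem Q5169 : ∀ i, i < 5169 → P i := stepQ 5168 Q5168 (allL N5168 (tt N2389 (iv1 D7512)) (tt N8397 F21035) (tt N8395 (iv2 F30386)) (tt N10843 D16088) (tt N2693 (iv4 F29135)) (tt N10844 D16090) (tt N10845 D16091) (tt N8394 (iv7 F30385)))
theorem Q5170 : ∀ i, i < 5170 → P i := stepQ 5169 Q5169 (allL N5169 (tt N10846 D16092) (tt N10847 D16093) (tt N8396 (iv2 F21029)) (tt N10833 (iv3 F25591)) (tt N9885 (iv4 F316120)) (tt N2389 (iv5 D7513)) (tt N2390 F11753) (tt N10848 D16095))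
theorem Q5171 : ∀ i, i < 5171 → P i := stepQ 5170 Q5170 (allL N5170 (tt N8395 (iv1 F21028)) (tt N8394 F21034) (tt N8397 (iv2 F21031)) (tt N10834 (iv3 F25593)) (tt N2668 F11754) (tt N10848 (iv5 F25601)) (tt N8372 (iv6 F20986)) (tt N2389 (iv7 D7514)))
theorem Q5172 : ∀ i, i < 5172 → P i := stepQ 5171 Q5171 (allL N5171 (tt N8399 (iv1 F21049)) (tt N2390 (iv0 D7515)) (tt N8398 F21038) (tt N10849 D16096) (tt N8211 (iv4 F316188)) (tt N4893 F11755) (tt N10275 F313711) (tt N8208 (iv7 F316017)))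
theorem Q5173 : ∀ i, i < 5173 → P i := stepQ 5172 Q5172 (allL N5172 (tt N8208 (iv1 F316015)) (tt N8398 F21040) (tt N8399 (iv2 F21046)) (tt N10840 (iv3 F25596)) (tt N8158 (iv4 F317409)) (tt N2391 F11757) (tt N10850 D16105) (tt N2390 (iv7 D7518)))
theorem Q5174 : ∀ i, i < 5174 → P i := stepQ 5173 Q5173 (allL N5173 (tt N10435 (iv1 F24816)) (tt N5199 F50790) (tt N2408 F11758) (tt N8400 (iv3 F21051)) (tt N9111 (iv4 F22772)) (tt N10851 D16106) (tt N2392 (iv6 D7519)) (tt N10390 (iv7 F24739)))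
theorem Q5175 : ∀ i, i < 5175 → P i := stepQ 5174 Q5174 (allL N5174 (tt N5076 (iv1 F11812)) (tt N5079 F11814) (tt N5182 F11793) (tt N2393 (iv3 D7522)) (tt N5182 F11794) (tt N10852 D16107) (tt N10853 D16108) (tt N2399 F11761))
theorem Q5176 : ∀ i, i < 5176 → P i := stepQ 5175 Q5175 (allL N5175 (tt N2465 F25747) (tt N8522 F25748) (tt N2396 F11764) (tt N10852 (iv3 F25621)) (tt N10854 D16111) (tt N2393 (iv5 D7524)) (tt N10855 D16112) (tt N2401 F11765))
theorem Q5177 : ∀ i, i < 5177 → P i := stepQ 5176 Q5176 (allL N5176 (tt N4573 (iv1 F53982)) (tt N9347 (iv0 F53978)) (tt N2397 F11766) (tt N10853 (iv3 F25623)) (tt N5179 F11818) (tt N10856 D16115) (tt N2393 (iv6 D7525)) (tt N9346 (iv7 F53987)))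
theorem Q5178 : ∀ i, i < 5178 → P i := stepQ 5177 Q5177 (allL N5177 (tt N2394 (iv1 D7527)) (tt N5185 F11817) (tt N5181 (iv2 F25464)) (tt N8310 (iv3 F26372)) (tt N8331 (iv4 F20886)) (tt N10857 D16117) (tt N10323 (iv6 F26811)) (tt N5180 F25466))
theorem Q5179 : ∀ i, i < 5179 → P i := stepQ 5178 Q5178 (allL N5178 (tt N10824 (iv1 F26859)) (tt N10858 D16120) (tt N5183 F11815) (tt N2396 F11767) (tt N10859 D16121) (tt N2394 (iv5 D7529)) (tt N10860 D16122) (tt N5198 F11803))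
theorem Q5180 : ∀ i, i < 5180 → P i := stepQ 5179 Q5179 (allL N5179 (tt N10861 D16123) (tt N9349 F53981) (tt N5184 F11816) (tt N2397 F11768) (tt N5176 (iv4 F11818)) (tt N10862 D16125) (tt N2394 (iv6 D7530)) (tt N10863 D16126))
theorem Q5181 : ∀ i, i < 5181 → P i := stepQ 5180 Q5180 (allL N5180 (tt N2400 (iv1 F11776)) (tt N2395 (iv0 D7532)) (tt N5149 F25409) (tt N5057 F26433) (tt N5098 F11770) (tt N10864 D16128) (tt N5116 (iv6 F26528)) (tt N5177 (iv7 F25466)))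
theorem Q5182 : ∀ i, i < 5182 → P i := stepQ 5181 Q5181 (allL N5181 (tt N2395 (iv1 D7533)) (tt N2400 F11771) (tt N5177 F25464) (tt N4001 F25453) (tt N10865 D16130) (tt N10866 D16131) (tt N10395 (iv6 F26817)) (tt N5149 F25454))
theorem Q5183 : ∀ i, i < 5183 → P i := stepQ 5182 Q5182 (allL N5182 (tt N5121 F11772) (tt N5194 (iv0 F11792)) (tt N5174 (iv2 F11793)) (tt N2395 (iv3 D7534)) (tt N5174 (iv4 F11794)) (tt N10867 D16133) (tt N10868 D16134) (tt N5195 F11810))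
theorem Q5184 : ∀ i, i < 5184 → P i := stepQ 5183 Q5183 (allL N5183 (tt N10633 (iv1 F26837)) (tt N10869 D16136) (tt N5178 (iv2 F11815)) (tt N10867 (iv3 F25669)) (tt N10870 D16137) (tt N2395 (iv5 D7535)) (tt N10871 D16138) (tt N10872 D16139))
theorem Q5185 : ∀ i, i < 5185 → P i := stepQ 5184 Q5184 (allL N5184 (tt N9336 (iv1 F53958)) (tt N10873 D16141) (tt N5179 (iv2 F11816)) (tt N10868 (iv3 F25673)) (tt N2397 F11773) (tt N10874 D16142) (tt N2395 (iv6 D7536)) (tt N10875 D16143))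
theorem Q5186 : ∀ i, i < 5186 → P i := stepQ 5185 Q5185 (allL N5185 (tt N5177 (iv1 F11817)) (tt N5149 (iv0 F25467)) (tt N2400 F11774) (tt N5195 (iv3 F11806)) (tt N2398 F11775) (tt N10872 (iv5 F25679)) (tt N5221 F50779) (tt N2395 (iv7 D7537)))
theorem Q5187 : ∀ i, i < 5187 → P i := stepQ 5186 Q5186 (allL N5186 (tt N2401 (iv1 F11780)) (tt N2396 (iv0 D7538)) (tt N2465 F25725) (tt N8415 (iv3 F26963)) (tt N10876 D16147) (tt N2464 (iv5 F25728)) (tt N10877 D16149) (tt N8522 F25726))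
theorem Q5188 : ∀ i, i < 5188 → P i := stepQ 5187 Q5187 (allL N5187 (tt N10878 D16155) (tt N10879 D16156) (tt N10854 (iv2 F25626)) (tt N10880 D16157) (tt N2396 (iv4 D7540)) (tt N10881 D16158) (tt N10882 D16159) (tt N10883 D16160))
theorem Q5189 : ∀ i, i < 5189 → P i := stepQ 5188 Q5188 (allL N5188 (tt N10884 D16161) (tt N10785 (iv0 F190506)) (tt N10855 (iv2 F25628)) (tt N10860 (iv3 F25636)) (tt N10882 (iv4 F25695)) (tt N10885 D16163) (tt N2396 (iv6 D7541)) (tt N10886 D16164))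
theorem Q5190 : ∀ i, i < 5190 → P i := stepQ 5189 Q5189 (allL N5189 (tt N8522 (iv1 F25745)) (tt N2465 (iv0 F25746)) (tt N2401 F11778) (tt N5198 (iv3 F11805)) (tt N10883 (iv4 F25697)) (tt N2398 F11779) (tt N10887 D16165) (tt N2396 (iv7 D7542)))
theorem Q5191 : ∀ i, i < 5191 → P i := stepQ 5190 Q5190 (allL N5190 (tt N9346 F53963) (tt N2397 (iv0 D7543)) (tt N4573 (iv2 F53983)) (tt N8419 (iv3 F53984)) (tt N9127 (iv4 F50976)) (tt N10888 D16169) (tt N10412 (iv6 F50988)) (tt N9347 (iv7 F53980)))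
theorem Q5192 : ∀ i, i < 5192 → P i := stepQ 5191 Q5191 (allL N5191 (tt N10889 D16176) (tt N9334 (iv0 F50971)) (tt N10856 (iv2 F25630)) (tt N10862 (iv3 F25637)) (tt N10890 D16178) (tt N2397 (iv5 D7545)) (tt N10885 (iv6 F25699)) (tt N10891 D16179))
theorem Q5193 : ∀ i, i < 5193 → P i := stepQ 5192 Q5192 (allL N5192 (tt N9347 F53985) (tt N4573 F53986) (tt N9346 F53964) (tt N10863 (iv3 F25638)) (tt N10875 (iv4 F25686)) (tt N10891 (iv5 F25703)) (tt N10718 (iv6 F50784)) (tt N2397 (iv7 D7546)))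
theorem Q5194 : ∀ i, i < 5194 → P i := stepQ 5193 Q5193 (allL N5193 (tt N10719 (iv1 F50781)) (tt N8355 (iv0 F50782)) (tt N2402 F11781) (tt N5199 F11809) (tt N5221 F50778) (tt N10892 D16183) (tt N2398 (iv6 D7547)) (tt N10718 (iv7 F50785)))
theorem Q5195 : ∀ i, i < 5195 → P i := stepQ 5194 Q5194 (allL N5194 (tt N5182 F11792) (tt N2399 (iv0 D7548)) (tt N5079 F25542) (tt N8403 F21062) (tt N3988 F11782) (tt N10893 D16184) (tt N10404 (iv6 F41334)) (tt N5076 (iv7 F25552)))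
theorem Q5196 : ∀ i, i < 5196 → P i := stepQ 5195 Q5195 (allL N5195 (tt N5079 F11813) (tt N5076 F11807) (tt N2399 (iv2 D7550)) (tt N5185 F11806) (tt N2399 F11808) (tt N10894 D16186) (tt N10895 D16187) (tt N5182 (iv7 F11810)))
theorem Q5197 : ∀ i, i < 5197 → P i := stepQ 5196 Q5196 (allL N5196 (tt N10533 (iv1 F24919)) (tt N10540 F25718) (tt N10894 (iv2 F25715)) (tt N2401 F11784) (tt N10896 D16188) (tt N2399 (iv5 D7552)) (tt N10897 D16189) (tt N10852 (iv7 F25622)))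
theorem Q5198 : ∀ i, i < 5198 → P i := stepQ 5197 Q5197 (allL N5197 (tt N10729 (iv1 F50997)) (tt N10898 D16191) (tt N10895 (iv2 F25719)) (tt N2402 F11785) (tt N10895 (iv4 F25721)) (tt N10899 D16192) (tt N2399 (iv6 D7553)) (tt N10900 D16193))
theorem Q5199 : ∀ i, i < 5199 → P i := stepQ 5198 Q5198 (allL N5198 (tt N10869 (iv1 F25675)) (tt N10633 (iv0 F26836)) (tt N10872 (iv2 F25678)) (tt N5189 F11805) (tt N10901 D16194) (tt N2400 (iv5 D7554)) (tt N10902 D16195) (tt N5178 (iv7 F11803)))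
theorem Q5200 : ∀ i, i < 5200 → P i := stepQ 5199 Q5199 (allL N5199 (tt N5173 (iv1 F50790)) (tt N4982 (iv0 F50791)) (tt N5221 F50774) (tt N5193 (iv3 F11809)) (tt N2402 F11786) (tt N10903 D16198) (tt N2400 (iv6 D7555)) (tt N5220 (iv7 F50780)))
theorem Q5201 : ∀ i, i < 5201 → P i := stepQ 5200 Q5200 (allL N5200 (tt N10879 (iv1 F25694)) (tt N10878 F25698) (tt N10883 (iv2 F25696)) (tt N10904 D16200) (tt N2401 (iv4 D7556)) (tt N10905 D16201) (tt N10906 D16202) (tt N10854 (iv7 F25627)))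
theorem Q5202 : ∀ i, i < 5202 → P i := stepQ 5201 Q5201 (allL N5201 (tt N10841 F190096) (tt N10907 D16204) (tt N10887 (iv2 F25700)) (tt N10897 (iv3 F25740)) (tt N10906 (iv4 F25762)) (tt N10908 D16205) (tt N2401 (iv6 D7557)) (tt N10909 D16206))
theorem Q5203 : ∀ i, i < 5203 → P i := stepQ 5202 Q5202 (allL N5202 (tt N2402 (iv1 D7559)) (tt N10718 F50792) (tt N8355 (iv2 F50794)) (tt N8430 (iv3 F50795)) (tt N9140 F50839) (tt N10910 D16215) (tt N10367 (iv6 F50797)) (tt N10719 (iv7 F50798)))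
theorem Q5204 : ∀ i, i < 5204 → P i := stepQ 5203 Q5203 (allL N5203 (tt N10849 F54107) (tt N10911 D16218) (tt N10892 (iv2 F25710)) (tt N10899 (iv3 F25741)) (tt N10912 D16219) (tt N2402 (iv5 D7560)) (tt N10908 (iv6 F25763)) (tt N10913 D16220))
theorem Q5205 : ∀ i, i < 5205 → P i := stepQ 5204 Q5204 (allL N5204 (tt N8355 F50786) (tt N10719 F50787) (tt N10718 (iv2 F50783)) (tt N10900 (iv3 F25742)) (tt N5220 F50788) (tt N10913 (iv5 F25766)) (tt N9346 F53968) (tt N2402 (iv7 D7561)))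
theorem Q5206 : ∀ i, i < 5206 → P i := stepQ 5205 Q5205 (allL N5205 (tt N8757 (iv1 F21946)) (tt N8756 F21942) (tt N2406 F11819) (tt N10914 D16221) (tt N2403 (iv4 D7564)) (tt N10915 D16222) (tt N10916 D16223) (tt N8758 (iv7 F21944)))
theorem Q5207 : ∀ i, i < 5207 → P i := stepQ 5206 Q5206 (allL N5206 (tt N10917 D16224) (tt N10918 D16225) (tt N2407 F11820) (tt N8434 (iv3 F21095)) (tt N10916 (iv4 F25769)) (tt N10418 (iv5 F24806)) (tt N2403 (iv6 D7565)) (tt N10919 D16226))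
theorem Q5208 : ∀ i, i < 5208 → P i := stepQ 5207 Q5207 (allL N5207 (tt N10797 (iv1 F25785)) (tt N10857 (iv0 F25784)) (tt N10920 D16235) (tt N2404 (iv3 D7567)) (tt N10921 D16236) (tt N5333 (iv5 F25817)) (tt N10922 D16238) (tt N8819 (iv7 F27178)))
theorem Q5209 : ∀ i, i < 5209 → P i := stepQ 5208 Q5208 (allL N5208 (tt N10923 D16240) (tt N10924 D16241) (tt N8823 (iv2 F27171)) (tt N10925 D16242) (tt N2404 (iv4 D7568)) (tt N10926 D16243) (tt N10927 D16244) (tt N8820 (iv7 F27180)))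
theorem Q5210 : ∀ i, i < 5210 → P i := stepQ 5209 Q5209 (allL N5209 (tt N10928 D16251) (tt N10929 D16252) (tt N8824 (iv2 F27173)) (tt N10922 (iv3 F25788)) (tt N10927 (iv4 F25802)) (tt N10930 D16253) (tt N2404 (iv6 D7570)) (tt N10931 D16254))
theorem Q5211 : ∀ i, i < 5211 → P i := stepQ 5210 Q5210 (allL N5210 (tt N10893 (iv1 F27192)) (tt N10728 (iv0 F27190)) (tt N10932 D16258) (tt N2405 (iv3 D7572)) (tt N10933 D16259) (tt N5337 F25813) (tt N10934 D16260) (tt N8822 (iv7 F27156)))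
theorem Q5212 : ∀ i, i < 5212 → P i := stepQ 5211 Q5211 (allL N5211 (tt N10924 (iv1 F25801)) (tt N10923 F25805) (tt N8820 (iv2 F27179)) (tt N10935 D16261) (tt N2405 (iv4 D7573)) (tt N10936 D16262) (tt N10937 D16263) (tt N8823 (iv7 F27172)))
theorem Q5213 : ∀ i, i < 5213 → P i := stepQ 5212 Q5212 (allL N5212 (tt N10938 D16264) (tt N10939 D16265) (tt N8821 (iv2 F27181)) (tt N10934 (iv3 F25827)) (tt N10937 (iv4 F25828)) (tt N10940 D16266) (tt N2405 (iv6 D7575)) (tt N10941 D16267))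
theorem Q5214 : ∀ i, i < 5214 → P i := stepQ 5213 Q5213 (allL N5213 (tt N8758 (iv1 F21945)) (tt N2406 (iv0 D7576)) (tt N8757 (iv2 F42919)) (tt N10942 D16269) (tt N10943 D16270) (tt N10944 D16271) (tt N10945 D16272) (tt N8756 (iv7 F42923)))
theorem Q5215 : ∀ i, i < 5215 → P i := stepQ 5214 Q5214 (allL N5214 (tt N2406 (iv1 D7577)) (tt N8758 F21947) (tt N8756 (iv2 F42922)) (tt N10946 D16274) (tt N10947 D16275) (tt N10948 D16276) (tt N10949 D16277) (tt N8757 (iv7 F42920)))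
theorem Q5216 : ∀ i, i < 5216 → P i := stepQ 5215 Q5215 (allL N5215 (tt N10950 D16278) (tt N10951 D16279) (tt N10915 (iv2 F25767)) (tt N8765 (iv3 F21961)) (tt N10952 D16280) (tt N2406 (iv5 D7578)) (tt N10953 D16281) (tt N8759 (iv7 F21949)))
theorem Q5217 : ∀ i, i < 5217 → P i := stepQ 5216 Q5216 (allL N5216 (tt N10954 D16282) (tt N10955 D16283) (tt N10916 (iv2 F25768)) (tt N8770 (iv3 F21965)) (tt N2407 F11823) (tt N10956 D16284) (tt N2406 (iv6 D7579)) (tt N10957 D16285))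
theorem Q5218 : ∀ i, i < 5218 → P i := stepQ 5217 Q5217 (allL N5217 (tt N10919 (iv1 F25774)) (tt N2407 (iv0 D7580)) (tt N10917 (iv2 F109969)) (tt N10958 D16287) (tt N10959 D16288) (tt N10960 D16289) (tt N10961 D16290) (tt N10918 F109966))
theorem Q5219 : ∀ i, i < 5219 → P i := stepQ 5218 Q5218 (allL N5218 (tt N2407 (iv1 D7581)) (tt N10919 F25773) (tt N10918 F109965) (tt N10962 D16292) (tt N10963 D16293) (tt N10964 D16294) (tt N10965 D16295) (tt N10917 (iv7 F109970)))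
theorem Q5220 : ∀ i, i < 5220 → P i := stepQ 5219 Q5219 (allL N5219 (tt N10918 (iv1 F25770)) (tt N10917 F25772) (tt N10919 (iv2 F25771)) (tt N2415 F11824) (tt N10957 (iv4 F25832)) (tt N10433 (iv5 F24813)) (tt N8829 (iv6 F22059)) (tt N2407 (iv7 D7582)))
theorem Q5221 : ∀ i, i < 5221 → P i := stepQ 5220 Q5220 (allL N5220 (tt N10390 (iv1 F24741)) (tt N2408 (iv0 D7583)) (tt N10435 (iv2 F50807)) (tt N10718 (iv3 F27007)) (tt N5204 (iv4 F50788)) (tt N10966 D16299) (tt N10863 (iv6 F50789)) (tt N5199 F50780))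
theorem Q5222 : ∀ i, i < 5222 → P i := stepQ 5221 Q5221 (allL N5221 (tt N2408 (iv1 D7584)) (tt N10390 F24740) (tt N5199 (iv2 F50774)) (tt N10895 (iv3 F50777)) (tt N5193 (iv4 F50778)) (tt N10967 D16304) (tt N5185 (iv6 F50779)) (tt N10435 (iv7 F50808)))
theorem Q5223 : ∀ i, i < 5223 → P i := stepQ 5222 Q5222 (allL N5222 (tt N10968 D16306) (tt N10969 D16307) (tt N10851 (iv2 F25620)) (tt N2418 F11825) (tt N10970 D16308) (tt N2408 (iv5 D7585)) (tt N8828 (iv6 F22057)) (tt N10436 (iv7 F24818)))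
theorem Q5224 : ∀ i, i < 5224 → P i := stepQ 5223 Q5223 (allL N5223 (tt N8379 (iv1 F27277)) (tt N8376 (iv0 F27274)) (tt N2409 (iv2 D7588)) (tt N8449 (iv3 F21109)) (tt N10971 D16319) (tt N2539 F11826) (tt N10972 D16320) (tt N8456 (iv7 F21130)))
theorem Q5225 : ∀ i, i < 5225 → P i := stepQ 5224 Q5224 (allL N5224 (tt N10973 D16321) (tt N10974 D16322) (tt N10971 (iv2 F25841)) (tt N2633 F11827) (tt N2409 (iv4 D7589)) (tt N10975 D16323) (tt N8466 (iv6 F301353)) (tt N8457 (iv7 F21135)))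
theorem Q5226 : ∀ i, i < 5226 → P i := stepQ 5225 Q5225 (allL N5225 (tt N10976 D16325) (tt N10977 D16326) (tt N10972 (iv2 F25842)) (tt N2410 F11828) (tt N8466 (iv4 F301352)) (tt N10978 D16327) (tt N2409 (iv6 D7590)) (tt N10979 D16328))
theorem Q5227 : ∀ i, i < 5227 → P i := stepQ 5226 Q5226 (allL N5226 (tt N8455 (iv1 F21126)) (tt N2410 (iv0 D7591)) (tt N8452 F42639) (tt N10980 D16330) (tt N2768 (iv4 F42181)) (tt N10981 D16332) (tt N8562 F298200) (tt N8453 (iv7 F42643)))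
theorem Q5228 : ∀ i, i < 5228 → P i := stepQ 5227 Q5227 (allL N5227 (tt N2410 (iv1 D7592)) (tt N8455 F21125) (tt N8453 (iv2 F42640)) (tt N10929 F190738) (tt N2769 (iv4 F42185)) (tt N10982 D16337) (tt N10983 D16338) (tt N8452 (iv7 F42638)))
theorem Q5229 : ∀ i, i < 5229 → P i := stepQ 5228 Q5228 (allL N5228 (tt N10984 D16339) (tt N10101 (iv0 F313406)) (tt N8454 (iv2 F21119)) (tt N10978 (iv3 F25847)) (tt N10358 F312973) (tt N2410 (iv5 D7593)) (tt N2541 F11829) (tt N10985 D16342))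
theorem Q5230 : ∀ i, i < 5230 → P i := stepQ 5229 Q5229 (allL N5229 (tt N8453 (iv1 F21118)) (tt N8452 F21124) (tt N8455 (iv2 F21121)) (tt N10979 (iv3 F25849)) (tt N2642 F11830) (tt N10985 (iv5 F25854)) (tt N8462 (iv6 F21142)) (tt N2410 (iv7 D7594)))
theorem Q5231 : ∀ i, i < 5231 → P i := stepQ 5230 Q5230 (allL N5230 (tt N8360 (iv1 F26954)) (tt N8358 (iv0 F26948)) (tt N2411 (iv2 D7597)) (tt N8456 (iv3 F21128)) (tt N10986 D16353) (tt N2612 F11831) (tt N10987 D16354) (tt N8449 (iv7 F21111)))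
theorem Q5232 : ∀ i, i < 5232 → P i := stepQ 5231 Q5231 (allL N5231 (tt N10988 D16355) (tt N10989 D16356) (tt N10986 (iv2 F25857)) (tt N2580 F11832) (tt N2411 (iv4 D7598)) (tt N10990 D16357) (tt N10991 D16358) (tt N8450 (iv7 F21116)))
theorem Q5233 : ∀ i, i < 5233 → P i := stepQ 5232 Q5232 (allL N5232 (tt N10992 D16359) (tt N10993 D16360) (tt N10987 (iv2 F25858)) (tt N2412 F11833) (tt N10991 (iv4 F25865)) (tt N8439 (iv5 F27023)) (tt N2411 (iv6 D7599)) (tt N10994 D16362))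
theorem Q5234 : ∀ i, i < 5234 → P i := stepQ 5233 Q5233 (allL N5233 (tt N8462 (iv1 F21145)) (tt N2412 (iv0 D7600)) (tt N8459 (iv2 F42341)) (tt N10938 F190564) (tt N2761 (iv4 F42342)) (tt N10995 D16366) (tt N10996 D16367) (tt N8460 (iv7 F42343)))
theorem Q5235 : ∀ i, i < 5235 → P i := stepQ 5234 Q5234 (allL N5234 (tt N2412 (iv1 D7601)) (tt N8462 F21144) (tt N8460 F42344) (tt N10997 D16369) (tt N2762 (iv4 F42346)) (tt N10998 D16371) (tt N10999 D16372) (tt N8459 F42345))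
theorem Q5236 : ∀ i, i < 5236 → P i := stepQ 5235 Q5235 (allL N5235 (tt N11000 D16373) (tt N11001 D16374) (tt N8461 (iv2 F21138)) (tt N8439 (iv3 F27022)) (tt N11002 D16375) (tt N2412 (iv5 D7602)) (tt N2614 F11834) (tt N11003 D16376))
theorem Q5237 : ∀ i, i < 5237 → P i := stepQ 5236 Q5236 (allL N5236 (tt N8460 (iv1 F21137)) (tt N8459 F21143) (tt N8462 (iv2 F21140)) (tt N10994 (iv3 F25868)) (tt N2591 F11835) (tt N11003 (iv5 F25873)) (tt N8455 (iv6 F21123)) (tt N2412 (iv7 D7603)))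
theorem Q5238 : ∀ i, i < 5238 → P i := stepQ 5237 Q5237 (allL N5237 (tt N11004 D16383) (tt N10741 F232263) (tt N11005 D16385) (tt N2413 (iv3 D7605)) (tt N10979 F303387) (tt N11006 D16387) (tt N11007 D16388) (tt N8466 (iv7 F53056)))
theorem Q5239 : ∀ i, i < 5239 → P i := stepQ 5238 Q5238 (allL N5238 (tt N6104 (iv1 F28956)) (tt N2587 F28953) (tt N6105 F53049) (tt N2642 F298122) (tt N2413 (iv4 D7606)) (tt N11008 D16393) (tt N8569 (iv6 F298473)) (tt N2634 F298123))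
theorem Q5240 : ∀ i, i < 5240 → P i := stepQ 5239 Q5239 (allL N5239 (tt N11009 D16396) (tt N11010 D16397) (tt N8464 F53050) (tt N11006 (iv3 F25882)) (tt N11011 D16398) (tt N2413 (iv5 D7607)) (tt N11012 D16399) (tt N8467 (iv7 F53060)))
theorem Q5241 : ∀ i, i < 5241 → P i := stepQ 5240 Q5240 (allL N5240 (tt N10999 (iv1 F42700)) (tt N11013 D16402) (tt N8465 F53046) (tt N11007 (iv3 F25883)) (tt N8569 F301125) (tt N11014 D16403) (tt N2413 (iv6 D7608)) (tt N8565 F301126))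
theorem Q5242 : ∀ i, i < 5242 → P i := stepQ 5241 Q5241 (allL N5241 (tt N10796 F130762) (tt N11015 D16407) (tt N11016 D16408) (tt N2414 (iv3 D7610)) (tt N11017 D16409) (tt N11018 D16410) (tt N11019 D16411) (tt N8463 F53053))
theorem Q5243 : ∀ i, i < 5243 → P i := stepQ 5242 Q5242 (allL N5242 (tt N2587 F28954) (tt N6104 (iv0 F28955)) (tt N2634 (iv2 F297107)) (tt N8626 (iv3 F297158)) (tt N2414 (iv4 D7611)) (tt N11020 D16413) (tt N2629 F296884) (tt N6105 F53054))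
theorem Q5244 : ∀ i, i < 5244 → P i := stepQ 5243 Q5243 (allL N5243 (tt N11010 (iv1 F25891)) (tt N11009 F25894) (tt N8467 (iv2 F53059)) (tt N11018 (iv3 F25897)) (tt N11021 D16415) (tt N2414 (iv5 D7612)) (tt N11022 D16416) (tt N8464 F53055))
theorem Q5245 : ∀ i, i < 5245 → P i := stepQ 5244 Q5244 (allL N5244 (tt N8563 (iv1 F296973)) (tt N8562 F296882) (tt N2633 (iv2 F296980)) (tt N11019 (iv3 F25898)) (tt N2629 F296883) (tt N11023 D16419) (tt N2414 (iv6 D7613)) (tt N8554 (iv7 F296979)))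
theorem Q5246 : ∀ i, i < 5246 → P i := stepQ 5245 Q5245 (allL N5245 (tt N10337 (iv1 F43610)) (tt N8380 (iv0 F43611)) (tt N10735 (iv2 F27204)) (tt N2416 (iv3 D7615)) (tt N11024 D16424) (tt N11025 D16425) (tt N7446 (iv6 F18695)) (tt N8469 (iv7 F21152)))
theorem Q5247 : ∀ i, i < 5247 → P i := stepQ 5246 Q5246 (allL N5246 (tt N11026 D16426) (tt N11027 D16427) (tt N8468 (iv2 F21150)) (tt N11025 (iv3 F25903)) (tt N11028 D16428) (tt N2416 (iv5 D7617)) (tt N11029 D16429) (tt N8470 (iv7 F21154)))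
theorem Q5248 : ∀ i, i < 5248 → P i := stepQ 5247 Q5247 (allL N5247 (tt N11027 (iv1 F25907)) (tt N11026 F25905) (tt N8470 (iv2 F21153)) (tt N8431 (iv3 F26611)) (tt N11030 D16436) (tt N2417 (iv5 D7622)) (tt N11031 D16437) (tt N8468 (iv7 F21151)))
theorem Q5249 : ∀ i, i < 5249 → P i := stepQ 5248 Q5248 (allL N5248 (tt N8295 (iv1 F20723)) (tt N2418 (iv0 D7624)) (tt N8471 (iv2 F23108)) (tt N11032 D16439) (tt N11033 D16440) (tt N9174 (iv5 F22834)) (tt N11034 D16441) (tt N8472 F23111))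
theorem Q5250 : ∀ i, i < 5250 → P i := stepQ 5249 Q5249 (allL N5249 (tt N2418 (iv1 D7625)) (tt N8295 F20722) (tt N8472 F23110) (tt N11035 D16442) (tt N11036 D16443) (tt N9178 (iv5 F22850)) (tt N11037 D16444) (tt N8471 (iv7 F23109)))
theorem Q5251 : ∀ i, i < 5251 → P i := stepQ 5250 Q5250 (allL N5250 (tt N11038 D16445) (tt N11039 D16446) (tt N8473 (iv2 F21162)) (tt N11040 D16447) (tt N2418 (iv4 D7626)) (tt N11041 D16448) (tt N8838 (iv6 F22064)) (tt N10470 (iv7 F24832)))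
theorem Q5252 : ∀ i, i < 5252 → P i := stepQ 5251 Q5251 (allL N5251 (tt N8342 (iv1 F26940)) (tt N8337 (iv0 F27200)) (tt N8344 (iv2 F26799)) (tt N2419 (iv3 D7629)) (tt N5251 F11842) (tt N11042 D16452) (tt N8484 (iv6 F21201)) (tt N8339 (iv7 F26508)))
theorem Q5253 : ∀ i, i < 5253 → P i := stepQ 5252 Q5252 (allL N5252 (tt N10699 (iv1 F26518)) (tt N10698 (iv0 F26515)) (tt N8475 (iv2 F21176)) (tt N11042 (iv3 F25927)) (tt N11043 D16455) (tt N2419 (iv5 D7630)) (tt N11044 D16456) (tt N8477 (iv7 F21186)))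
theorem Q5254 : ∀ i, i < 5254 → P i := stepQ 5253 Q5253 (allL N5253 (tt N2421 (iv1 F11846)) (tt N2420 (iv0 D7631)) (tt N4894 (iv2 F11845)) (tt N11045 D16457) (tt N11046 D16458) (tt N3974 F11843) (tt N3925 F11844) (tt N3974 F11847))
theorem Q5255 : ∀ i, i < 5255 → P i := stepQ 5254 Q5254 (allL N5254 (tt N11047 D16459) (tt N5044 F12455) (tt N8476 (iv2 F21178)) (tt N11048 D16460) (tt N2420 (iv4 D7632)) (tt N11049 D16461) (tt N4552 F11848) (tt N8478 (iv7 F21193)))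
theorem Q5256 : ∀ i, i < 5256 → P i := stepQ 5255 Q5255 (allL N5255 (tt N5044 (iv1 F21182)) (tt N11047 F25947) (tt N8478 (iv2 F21191)) (tt N3923 (iv3 F26626)) (tt N2421 (iv4 D7639)) (tt N11050 D16475) (tt N3921 F26594) (tt N8476 (iv7 F21180)))
theorem Q5257 : ∀ i, i < 5257 → P i := stepQ 5256 Q5256 (allL N5256 (tt N5010 (iv1 F11861)) (tt N2422 (iv0 D7640)) (tt N5009 (iv2 F42889)) (tt N11051 D16477) (tt N11052 D16478) (tt N4398 F25821) (tt N11053 D16479) (tt N5008 (iv7 F42890)))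
theorem Q5258 : ∀ i, i < 5258 → P i := stepQ 5257 Q5257 (allL N5257 (tt N2422 (iv1 D7641)) (tt N5010 F11866) (tt N5008 F42893) (tt N11054 D16481) (tt N11055 D16482) (tt N4399 F25822) (tt N11055 (iv6 F50849)) (tt N5009 F42894))
theorem Q5259 : ∀ i, i < 5259 → P i := stepQ 5258 Q5258 (allL N5258 (tt N5009 (iv1 F11867)) (tt N5008 F11865) (tt N2422 (iv2 D7642)) (tt N5017 F11862) (tt N2464 F11863) (tt N9123 (iv5 F25731)) (tt N7500 (iv6 F18805)) (tt N5010 F11864))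
theorem Q5260 : ∀ i, i < 5260 → P i := stepQ 5259 Q5259 (allL N5259 (tt N7751 F22439) (tt N3801 F22440) (tt N3792 F11868) (tt N2424 F11869) (tt N2425 F11870) (tt N11056 D16484) (tt N2423 (iv6 D7643)) (tt N7597 (iv7 F22565)))
theorem Q5261 : ∀ i, i < 5261 → P i := stepQ 5260 Q5260 (allL N5260 (tt N7822 F22441) (tt N3618 F22442) (tt N5261 (iv2 F11874)) (tt N11056 (iv3 F25998)) (tt N11057 D16485) (tt N2424 (iv5 D7646)) (tt N4685 F11871) (tt N7788 F22571))
theorem Q5262 : ∀ i, i < 5262 → P i := stepQ 5261 Q5261 (allL N5261 (tt N3726 F22451) (tt N7621 F22452) (tt N5260 F11874) (tt N7140 (iv3 F17987)) (tt N11058 D16486) (tt N2425 (iv5 D7650)) (tt N4686 F11875) (tt N7598 F22573))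
theorem Q5263 : ∀ i, i < 5263 → P i := stepQ 5262 Q5262 (allL N5262 (tt N2430 (iv1 F11890)) (tt N2426 (iv0 D7652)) (tt N2427 F26027) (tt N3478 F19466) (tt N5266 (iv4 F11894)) (tt N11059 D16488) (tt N4730 F11881) (tt N2428 F26028))
theorem Q5264 : ∀ i, i < 5264 → P i := stepQ 5263 Q5263 (allL N5263 (tt N2426 (iv1 D7653)) (tt N2430 F11882) (tt N2428 F26029) (tt N5271 F11898) (tt N7347 F19519) (tt N11060 D16489) (tt N7795 (iv6 F23862)) (tt N2427 F26030))
theorem Q5265 : ∀ i, i < 5265 → P i := stepQ 5264 Q5264 (allL N5264 (tt N11061 D16490) (tt N4712 (iv0 F11886)) (tt N2429 F11883) (tt N4673 F11884) (tt N11062 D16491) (tt N2426 (iv5 D7654)) (tt N3875 F11885) (tt N11063 D16492))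
theorem Q5266 : ∀ i, i < 5266 → P i := stepQ 5265 Q5265 (allL N5265 (tt N2428 (iv1 F11891)) (tt N2427 F11892) (tt N2430 F11887) (tt N4674 F11888) (tt N7468 (iv4 F18737)) (tt N11063 (iv5 F26072)) (tt N5265 F11889) (tt N2426 (iv7 D7655)))
theorem Q5267 : ∀ i, i < 5267 → P i := stepQ 5266 Q5266 (allL N5266 (tt N7745 (iv1 F19935)) (tt N3786 (iv0 F11895)) (tt N5267 (iv2 F26039)) (tt N2427 (iv3 D7657)) (tt N5262 F11894) (tt N11064 D16493) (tt N9850 (iv6 F24104)) (tt N5271 F26034))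
theorem Q5268 : ∀ i, i < 5268 → P i := stepQ 5267 Q5267 (allL N5267 (tt N7931 F19939) (tt N3690 (iv0 F18742)) (tt N5266 F26039) (tt N7272 (iv3 F19527)) (tt N2427 (iv4 D7658)) (tt N11065 D16494) (tt N11066 D16495) (tt N7347 F26035))
theorem Q5269 : ∀ i, i < 5269 → P i := stepQ 5268 Q5268 (allL N5268 (tt N9709 F23873) (tt N9803 (iv0 F24033)) (tt N11059 (iv2 F26056)) (tt N11064 (iv3 F26075)) (tt N11067 D16496) (tt N2427 (iv5 D7659)) (tt N11068 D16497) (tt N11060 (iv7 F26062)))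
theorem Q5270 : ∀ i, i < 5270 → P i := stepQ 5269 Q5269 (allL N5269 (tt N7600 (iv1 F22529)) (tt N7605 (iv0 F22528)) (tt N4730 F26024) (tt N9850 F24107) (tt N11066 (iv4 F26078)) (tt N4682 F11896) (tt N2427 (iv6 D7660)) (tt N4726 F26025))
theorem Q5271 : ∀ i, i < 5271 → P i := stepQ 5270 Q5270 (allL N5270 (tt N3439 F19523) (tt N3481 F19524) (tt N3479 F26040) (tt N2428 (iv3 D7662)) (tt N3479 F19520) (tt N11069 D16498) (tt N11070 D16499) (tt N3478 F26041))
theorem Q5272 : ∀ i, i < 5272 → P i := stepQ 5271 Q5271 (allL N5271 (tt N3690 F19937) (tt N7931 F19938) (tt N7347 (iv2 F26038)) (tt N5263 (iv3 F11898)) (tt N2428 (iv4 D7663)) (tt N11071 D16500) (tt N11072 D16501) (tt N5266 (iv7 F26034)))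
theorem Q5273 : ∀ i, i < 5273 → P i := stepQ 5272 Q5272 (allL N5272 (tt N9803 F24034) (tt N9709 (iv0 F23872)) (tt N11060 (iv2 F26061)) (tt N11069 (iv3 F26084)) (tt N11073 D16502) (tt N2428 (iv5 D7664)) (tt N11074 D16503) (tt N11059 (iv7 F26059)))
theorem Q5274 : ∀ i, i < 5274 → P i := stepQ 5273 Q5273 (allL N5273 (tt N7797 (iv1 F23857)) (tt N7790 (iv0 F23855)) (tt N7795 (iv2 F26008)) (tt N11070 (iv3 F26087)) (tt N11072 (iv4 F26093)) (tt N9321 (iv5 F23118)) (tt N2428 (iv6 D7665)) (tt N7796 (iv7 F26031)))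
theorem Q5275 : ∀ i, i < 5275 → P i := stepQ 5274 Q5274 (allL N5274 (tt N11063 (iv1 F26074)) (tt N2429 (iv0 D7666)) (tt N11061 F26065) (tt N11075 D16504) (tt N11076 D16505) (tt N4713 F22547) (tt N11077 D16506) (tt N4712 (iv7 F22548)))
theorem Q5276 : ∀ i, i < 5276 → P i := stepQ 5275 Q5275 (allL N5275 (tt N2429 (iv1 D7667)) (tt N11063 F26073) (tt N4712 F11900) (tt N11078 D16507) (tt N11079 D16508) (tt N4677 (iv5 F11899)) (tt N11080 D16509) (tt N11061 (iv7 F26066)))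
theorem Q5277 : ∀ i, i < 5277 → P i := stepQ 5276 Q5276 (allL N5276 (tt N11081 D16510) (tt N11082 D16511) (tt N11062 (iv2 F26068)) (tt N11083 D16512) (tt N2429 (iv4 D7668)) (tt N11084 D16513) (tt N3884 F11901) (tt N11085 D16514))
theorem Q5278 : ∀ i, i < 5278 → P i := stepQ 5277 Q5277 (allL N5277 (tt N4712 (iv1 F11904)) (tt N11061 F26067) (tt N11063 (iv2 F26070)) (tt N2440 F11902) (tt N11085 (iv4 F26107)) (tt N2430 F11903) (tt N11086 D16515) (tt N2429 (iv7 D7669)))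
theorem Q5279 : ∀ i, i < 5279 → P i := stepQ 5278 Q5278 (allL N5278 (tt N9945 F24199) (tt N9948 F24212) (tt N7512 (iv2 F19550)) (tt N2432 F11912) (tt N11087 D16516) (tt N2431 (iv5 D7673)) (tt N11088 D16517) (tt N4743 F11913))
theorem Q5280 : ∀ i, i < 5280 → P i := stepQ 5279 Q5279 (allL N5279 (tt N7533 (iv1 F19440)) (tt N7561 F19441) (tt N7513 F19557) (tt N2433 F11914) (tt N4637 F11915) (tt N3901 (iv5 F11916)) (tt N2431 (iv6 D7674)) (tt N4809 (iv7 F11917)))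
theorem Q5281 : ∀ i, i < 5281 → P i := stepQ 5280 Q5280 (allL N5280 (tt N9249 (iv1 F23021)) (tt N11089 D16518) (tt N4741 F11919) (tt N11090 D16519) (tt N2432 (iv4 D7675)) (tt N11091 D16520) (tt N10706 (iv6 F310464)) (tt N4745 F11920))
theorem Q5282 : ∀ i, i < 5282 → P i := stepQ 5281 Q5281 (allL N5281 (tt N11092 D16522) (tt N11093 D16523) (tt N4742 F11921) (tt N11088 (iv3 F26112)) (tt N10706 F312642) (tt N3903 F11922) (tt N2432 (iv6 D7676)) (tt N11094 D16524))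
theorem Q5283 : ∀ i, i < 5283 → P i := stepQ 5282 Q5282 (allL N5282 (tt N3665 F19479) (tt N7703 F19480) (tt N7701 (iv2 F19509)) (tt N3457 F11923) (tt N2434 (iv4 D7677)) (tt N11095 D16525) (tt N11096 D16526) (tt N4512 F11924))
theorem Q5284 : ∀ i, i < 5284 → P i := stepQ 5283 Q5283 (allL N5283 (tt N11097 D16527) (tt N9648 (iv0 F23761)) (tt N7746 (iv2 F19237)) (tt N2435 F11925) (tt N11098 D16528) (tt N2434 (iv5 D7678)) (tt N11099 D16529) (tt N4738 F11926))
theorem Q5285 : ∀ i, i < 5285 → P i := stepQ 5284 Q5284 (allL N5284 (tt N7766 F19993) (tt N7753 (iv0 F24185)) (tt N7747 (iv2 F19239)) (tt N2436 F11927) (tt N11096 (iv4 F26139)) (tt N9299 (iv5 F23076)) (tt N2434 (iv6 D7679)) (tt N7764 (iv7 F19294)))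
theorem Q5286 : ∀ i, i < 5286 → P i := stepQ 5285 Q5285 (allL N5285 (tt N11089 (iv1 F26114)) (tt N9249 (iv0 F23020)) (tt N4745 F11928) (tt N11100 D16530) (tt N2435 (iv4 D7680)) (tt N11101 D16531) (tt N11102 D16532) (tt N4741 F11929))
theorem Q5287 : ∀ i, i < 5287 → P i := stepQ 5286 Q5286 (allL N5286 (tt N11103 D16533) (tt N4774 (iv0 F11931)) (tt N4746 F11930) (tt N11099 (iv3 F26146)) (tt N11102 (iv4 F26155)) (tt N9301 (iv5 F23081)) (tt N2435 (iv6 D7681)) (tt N11104 D16534))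
theorem Q5288 : ∀ i, i < 5288 → P i := stepQ 5287 Q5287 (allL N5287 (tt N7516 F19431) (tt N3579 F19432) (tt N7514 F19558) (tt N2437 (iv3 D7682)) (tt N11105 D16535) (tt N4769 F11932) (tt N11106 D16536) (tt N4750 F11933))
theorem Q5289 : ∀ i, i < 5289 → P i := stepQ 5288 Q5288 (allL N5288 (tt N7438 (iv1 F18673)) (tt N3558 F11936) (tt N4748 F11934) (tt N11107 D16537) (tt N2437 (iv4 D7683)) (tt N11108 D16538) (tt N11109 D16539) (tt N4751 F11935))
theorem Q5290 : ∀ i, i < 5290 → P i := stepQ 5289 Q5289 (allL N5289 (tt N11110 D16540) (tt N11111 D16541) (tt N4749 F11937) (tt N11106 (iv3 F26168)) (tt N11109 (iv4 F26174)) (tt N7590 (iv5 F18980)) (tt N2437 (iv6 D7684)) (tt N11112 D16542))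
theorem Q5291 : ∀ i, i < 5291 → P i := stepQ 5290 Q5290 (allL N5290 (tt N3687 F11940) (tt N7750 F19249) (tt N7748 (iv2 F19242)) (tt N2438 (iv3 D7685)) (tt N11113 D16543) (tt N3887 F11938) (tt N11114 D16544) (tt N4747 F11939))
theorem Q5292 : ∀ i, i < 5292 → P i := stepQ 5291 Q5291 (allL N5291 (tt N3558 F11943) (tt N7438 F18672) (tt N4751 F11941) (tt N11115 D16545) (tt N2438 (iv4 D7686)) (tt N11116 D16546) (tt N5110 (iv6 F310503)) (tt N4748 F11942))
theorem Q5293 : ∀ i, i < 5293 → P i := stepQ 5292 Q5292 (allL N5292 (tt N11117 D16548) (tt N11118 D16549) (tt N4752 F11944) (tt N11114 (iv3 F26184)) (tt N5110 F312702) (tt N3890 F11945) (tt N2438 (iv6 D7687)) (tt N11119 D16550))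
theorem Q5294 : ∀ i, i < 5294 → P i := stepQ 5293 Q5293 (allL N5293 (tt N4757 (iv1 F11949)) (tt N2439 (iv0 D7688)) (tt N4753 (iv2 F11947)) (tt N11120 D16551) (tt N3524 F11946) (tt N11121 D16552) (tt N11122 D16553) (tt N4754 (iv7 F11948)))
theorem Q5295 : ∀ i, i < 5295 → P i := stepQ 5294 Q5294 (allL N5294 (tt N2439 (iv1 D7689)) (tt N4757 F11950) (tt N4754 (iv2 F11953)) (tt N11123 D16554) (tt N3525 F11952) (tt N11124 D16555) (tt N8354 (iv6 F312717)) (tt N4753 F11951))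
theorem Q5296 : ∀ i, i < 5296 → P i := stepQ 5295 Q5295 (allL N5295 (tt N11125 D16557) (tt N11126 D16558) (tt N11127 D16559) (tt N2439 (iv3 D7690)) (tt N11083 (iv4 F26105)) (tt N11128 D16560) (tt N3906 F11954) (tt N11129 D16561))
theorem Q5297 : ∀ i, i < 5297 → P i := stepQ 5296 Q5296 (allL N5296 (tt N11130 D16562) (tt N11131 D16563) (tt N4756 F11955) (tt N11128 (iv3 F26218)) (tt N8492 (iv4 F21213)) (tt N2439 (iv5 D7691)) (tt N11132 D16564) (tt N8490 F21209))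
theorem Q5298 : ∀ i, i < 5298 → P i := stepQ 5297 Q5297 (allL N5297 (tt N4754 (iv1 F11958)) (tt N4753 F11959) (tt N4757 F11956) (tt N11129 (iv3 F26219)) (tt N2440 F11957) (tt N8490 (iv5 F21208)) (tt N11133 D16565) (tt N2439 (iv7 D7692)))
theorem Q5299 : ∀ i, i < 5299 → P i := stepQ 5298 Q5298 (allL N5298 (tt N4844 (iv1 F11963)) (tt N4843 F11964) (tt N4758 F11960) (tt N11086 (iv3 F26108)) (tt N11133 (iv4 F26233)) (tt N5298 F11961) (tt N2440 (iv6 D7693)) (tt N3909 F11962))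
theorem Q5300 : ∀ i, i < 5300 → P i := stepQ 5299 Q5299 (allL N5299 (tt N10162 F24454) (tt N10165 F24463) (tt N7720 (iv2 F19526)) (tt N2442 F11967) (tt N11134 D16566) (tt N2441 (iv5 D7697)) (tt N11135 D16567) (tt N7485 (iv7 F18772)))
theorem Q5301 : ∀ i, i < 5301 → P i := stepQ 5300 Q5300 (allL N5300 (tt N8881 F24470) (tt N8902 F24471) (tt N7403 (iv2 F18609)) (tt N2443 F11968) (tt N5300 F11969) (tt N4345 (iv5 F11970)) (tt N2441 (iv6 D7698)) (tt N4934 (iv7 F11971)))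
theorem Q5302 : ∀ i, i < 5302 → P i := stepQ 5301 Q5301 (allL N5301 (tt N9520 (iv1 F23521)) (tt N9974 (iv0 F24249)) (tt N7483 (iv2 F18760)) (tt N11136 D16568) (tt N2442 (iv4 D7699)) (tt N11130 (iv5 F26220)) (tt N11137 D16569) (tt N7487 (iv7 F18776)))
theorem Q5303 : ∀ i, i < 5303 → P i := stepQ 5302 Q5302 (allL N5302 (tt N11138 D16570) (tt N11139 D16571) (tt N7484 (iv2 F18762)) (tt N11135 (iv3 F26237)) (tt N11137 (iv4 F26239)) (tt N4346 F11972) (tt N2442 (iv6 D7700)) (tt N11140 D16572))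
theorem Q5304 : ∀ i, i < 5304 → P i := stepQ 5303 Q5303 (allL N5303 (tt N2451 (iv1 F11974)) (tt N2444 (iv0 D7701)) (tt N4587 F26534) (tt N11141 D16573) (tt N3530 F11973) (tt N10249 (iv5 F24548)) (tt N5669 (iv6 F12941)) (tt N4586 F11975))
theorem Q5305 : ∀ i, i < 5305 → P i := stepQ 5304 Q5304 (allL N5304 (tt N7506 (iv1 F18826)) (tt N3541 F11977) (tt N4588 F26530) (tt N9373 (iv3 F26597)) (tt N11131 (iv4 F26228)) (tt N2444 (iv5 D7703)) (tt N11142 D16579) (tt N7503 (iv7 F18814)))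
theorem Q5306 : ∀ i, i < 5306 → P i := stepQ 5305 Q5305 (allL N5305 (tt N11143 D16583) (tt N9399 (iv0 F23237)) (tt N7913 (iv2 F19884)) (tt N2449 F11981) (tt N11144 D16584) (tt N2448 (iv5 D7706)) (tt N11145 D16585) (tt N7481 (iv7 F18755)))
theorem Q5307 : ∀ i, i < 5307 → P i := stepQ 5306 Q5306 (allL N5306 (tt N7975 F20013) (tt N7153 (iv0 F18023)) (tt N7914 (iv2 F19886)) (tt N2450 F11982) (tt N4355 F11983) (tt N9220 (iv5 F22982)) (tt N2448 (iv6 D7707)) (tt N7393 (iv7 F18577)))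
theorem Q5308 : ∀ i, i < 5308 → P i := stepQ 5307 Q5307 (allL N5307 (tt N9974 (iv1 F24250)) (tt N9520 (iv0 F23520)) (tt N7487 (iv2 F18775)) (tt N11146 D16586) (tt N2449 (iv4 D7708)) (tt N11131 (iv5 F26227)) (tt N11147 D16587) (tt N7483 (iv7 F18761)))
theorem Q5309 : ∀ i, i < 5309 → P i := stepQ 5308 Q5308 (allL N5308 (tt N11148 D16588) (tt N4863 (iv0 F11984)) (tt N7488 (iv2 F18777)) (tt N11145 (iv3 F27060)) (tt N11147 (iv4 F27062)) (tt N9222 (iv5 F22987)) (tt N2449 (iv6 D7709)) (tt N11149 D16589))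
theorem Q5310 : ∀ i, i < 5310 → P i := stepQ 5309 Q5309 (allL N5309 (tt N3541 F11985) (tt N7506 F18825) (tt N7503 F18816) (tt N4593 F26545) (tt N11130 (iv4 F26221)) (tt N2451 (iv5 D7711)) (tt N11150 D16590) (tt N4588 F26546))
theorem Q5311 : ∀ i, i < 5311 → P i := stepQ 5310 Q5310 (allL N5310 (tt N11151 D16591) (tt N5027 (iv0 F50435)) (tt N9310 (iv2 F26686)) (tt N2452 (iv3 D7712)) (tt N5310 F11992) (tt N11152 D16593) (tt N3931 F11993) (tt N4895 F11994))
theorem Q5312 : ∀ i, i < 5312 → P i := stepQ 5311 Q5311 (allL N5311 (tt N9549 (iv1 F23599)) (tt N9551 F26684) (tt N4922 F11995) (tt N11152 (iv3 F27075)) (tt N11124 (iv4 F26212)) (tt N2452 (iv5 D7713)) (tt N10622 F309157) (tt N4896 F11996))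
theorem Q5313 : ∀ i, i < 5313 → P i := stepQ 5312 Q5312 (allL N5312 (tt N5094 F12004) (tt N5096 F12006) (tt N5312 F12000) (tt N2455 F12001) (tt N8474 F26695) (tt N3911 F12002) (tt N2453 (iv6 D7715)) (tt N3911 F12003))
theorem Q5314 : ∀ i, i < 5314 → P i := stepQ 5313 Q5313 (allL N5313 (tt N9551 F26682) (tt N9549 (iv0 F23598)) (tt N4896 F12009) (tt N9309 (iv3 F26715)) (tt N11121 (iv4 F26207)) (tt N2454 (iv5 D7717)) (tt N11153 D16595) (tt N4922 F12010))
theorem Q5315 : ∀ i, i < 5315 → P i := stepQ 5314 Q5314 (allL N5314 (tt N4888 (iv1 F12014)) (tt N4887 F12015) (tt N4890 F12011) (tt N8476 (iv3 F26691)) (tt N2455 F12012) (tt N11154 D16596) (tt N2454 (iv6 D7718)) (tt N3923 F12013))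
theorem Q5316 : ∀ i, i < 5316 → P i := stepQ 5315 Q5315 (allL N5315 (tt N11155 D16597) (tt N5494 (iv0 F50509)) (tt N11156 D16599) (tt N2456 (iv3 D7719)) (tt N11157 D16600) (tt N11158 D16601) (tt N7204 (iv6 F18135)) (tt N7450 (iv7 F18704)))
theorem Q5317 : ∀ i, i < 5317 → P i := stepQ 5316 Q5316 (allL N5316 (tt N9536 (iv1 F23572)) (tt N9337 (iv0 F23127)) (tt N7449 (iv2 F18702)) (tt N11158 (iv3 F27087)) (tt N11116 (iv4 F26188)) (tt N2456 (iv5 D7720)) (tt N11159 D16602) (tt N7451 (iv7 F18706)))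
theorem Q5318 : ∀ i, i < 5318 → P i := stepQ 5317 Q5317 (allL N5317 (tt N4570 F26824) (tt N9317 F26825) (tt N9316 F26720) (tt N2457 (iv3 D7721)) (tt N11160 D16603) (tt N11161 D16604) (tt N11162 D16605) (tt N7448 (iv7 F18701)))
theorem Q5319 : ∀ i, i < 5319 → P i := stepQ 5318 Q5318 (allL N5318 (tt N9337 (iv1 F23128)) (tt N9536 (iv0 F23571)) (tt N7451 (iv2 F18705)) (tt N11161 (iv3 F27091)) (tt N11108 (iv4 F26172)) (tt N2457 (iv5 D7722)) (tt N11163 D16606) (tt N7449 (iv7 F18703)))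
theorem Q5320 : ∀ i, i < 5320 → P i := stepQ 5319 Q5319 (allL N5319 (tt N4893 (iv1 F12017)) (tt N4892 F18710) (tt N7452 (iv2 F18707)) (tt N11162 (iv3 F27092)) (tt N3566 F12016) (tt N11164 D16607) (tt N2457 (iv6 D7723)) (tt N7202 (iv7 F18131)))
theorem Q5321 : ∀ i, i < 5321 → P i := stepQ 5320 Q5320 (allL N5320 (tt N11165 D16608) (tt N2458 (iv0 D7724)) (tt N11166 D16609) (tt N9331 (iv3 F26721)) (tt N9491 F26717) (tt N11167 D16610) (tt N11168 D16611) (tt N11169 D16612))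
theorem Q5322 : ∀ i, i < 5322 → P i := stepQ 5321 Q5321 (allL N5321 (tt N2458 (iv1 D7725)) (tt N11165 F27099) (tt N11169 (iv2 F27102)) (tt N11170 D16613) (tt N9490 (iv4 F26821)) (tt N11171 D16614) (tt N11172 D16615) (tt N11166 F27100))
theorem Q5323 : ∀ i, i < 5323 → P i := stepQ 5322 Q5322 (allL N5322 (tt N11166 (iv1 F49987)) (tt N11169 (iv0 F49992)) (tt N2458 (iv2 D7726)) (tt N8487 (iv3 F21203)) (tt N7500 (iv4 F18804)) (tt N11173 D16618) (tt N2464 F12018) (tt N11165 (iv7 F27098)))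
theorem Q5324 : ∀ i, i < 5324 → P i := stepQ 5323 Q5323 (allL N5323 (tt N10862 (iv1 F50803)) (tt N11174 D16620) (tt N11173 (iv2 F27109)) (tt N2459 F12019) (tt N11175 D16621) (tt N2458 (iv5 D7727)) (tt N11176 D16622) (tt N11177 D16623))
theorem Q5325 : ∀ i, i < 5325 → P i := stepQ 5324 Q5324 (allL N5324 (tt N11169 (iv1 F49993)) (tt N11166 (iv0 F49986)) (tt N11165 F27097) (tt N2460 F12020) (tt N7502 (iv4 F18808)) (tt N11177 (iv5 F27113)) (tt N11178 D16624) (tt N2458 (iv7 D7728)))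
theorem Q5326 : ∀ i, i < 5326 → P i := stepQ 5325 Q5325 (allL N5325 (tt N8492 (iv1 F21216)) (tt N2459 (iv0 D7729)) (tt N7444 (iv2 F18688)) (tt N11179 D16625) (tt N11101 (iv4 F26150)) (tt N3562 F12021) (tt N11180 D16626) (tt N7447 (iv7 F18697)))
theorem Q5327 : ∀ i, i < 5327 → P i := stepQ 5326 Q5326 (allL N5326 (tt N2459 (iv1 D7730)) (tt N8492 F21215) (tt N7447 (iv2 F18696)) (tt N11181 D16627) (tt N11091 (iv4 F26121)) (tt N3564 F12022) (tt N11182 D16628) (tt N7444 (iv7 F18689)))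
theorem Q5328 : ∀ i, i < 5328 → P i := stepQ 5327 Q5327 (allL N5327 (tt N11131 (iv1 F26225)) (tt N11130 F26222) (tt N8490 (iv2 F21207)) (tt N11183 D16629) (tt N2459 (iv4 D7731)) (tt N4757 F12030) (tt N11184 D16630) (tt N4756 (iv7 F12031)))
theorem Q5329 : ∀ i, i < 5329 → P i := stepQ 5328 Q5328 (allL N5328 (tt N11185 D16631) (tt N11186 D16632) (tt N8491 (iv2 F21210)) (tt N11176 (iv3 F27110)) (tt N11184 (iv4 F27131)) (tt N2467 F12032) (tt N2459 (iv6 D7732)) (tt N11187 D16633))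
theorem Q5330 : ∀ i, i < 5330 → P i := stepQ 5329 Q5329 (allL N5329 (tt N7447 (iv1 F18699)) (tt N7444 (iv0 F18690)) (tt N8492 (iv2 F21212)) (tt N11177 (iv3 F27112)) (tt N4756 F12033) (tt N2460 F12034) (tt N11188 D16634) (tt N2459 (iv7 D7733)))
theorem Q5331 : ∀ i, i < 5331 → P i := stepQ 5330 Q5330 (allL N5330 (tt N5005 (iv1 F12038)) (tt N5004 F12041) (tt N5007 F12035) (tt N11178 (iv3 F27114)) (tt N2461 F12036) (tt N10362 (iv5 F24714)) (tt N2460 (iv6 D7734)) (tt N2468 F12037))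
theorem Q5332 : ∀ i, i < 5332 → P i := stepQ 5331 Q5331 (allL N5331 (tt N2463 (iv1 F12046)) (tt N2462 (iv0 D7735)) (tt N2466 (iv2 F12042)) (tt N5002 F12043) (tt N5010 F12044) (tt N8522 (iv5 F21274)) (tt N11189 D16635) (tt N2464 F12045))
theorem Q5333 : ∀ i, i < 5333 → P i := stepQ 5332 Q5332 (allL N5332 (tt N2466 (iv1 F27157)) (tt N2464 (iv0 F27158)) (tt N2462 (iv2 D7736)) (tt N10531 F27155) (tt N5333 (iv4 F27159)) (tt N4234 (iv5 F27160)) (tt N11190 D16640) (tt N2463 (iv7 F12047)))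
theorem Q5334 : ∀ i, i < 5334 → P i := stepQ 5333 Q5333 (allL N5333 (tt N5659 F26842) (tt N5071 F26843) (tt N5334 (iv2 F27164)) (tt N2462 (iv3 D7737)) (tt N5332 F27159) (tt N5207 F25817) (tt N11191 D16642) (tt N5338 (iv7 F27169)))
theorem Q5335 : ∀ i, i < 5335 → P i := stepQ 5334 Q5334 (allL N5334 (tt N8328 (iv1 F26486)) (tt N8538 F26767) (tt N5333 F27164) (tt N11192 D16644) (tt N2462 (iv4 D7738)) (tt N10920 F27165) (tt N10601 F54084) (tt N5339 F50743))
theorem Q5336 : ∀ i, i < 5336 → P i := stepQ 5335 Q5335 (allL N5335 (tt N11193 D16646) (tt N5054 F54072) (tt N11190 (iv2 F27145)) (tt N11191 (iv3 F27148)) (tt N10601 (iv4 F54073)) (tt N11194 D16648) (tt N2462 (iv6 D7740)) (tt N11191 (iv7 F51012)))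
theorem Q5337 : ∀ i, i < 5337 → P i := stepQ 5336 Q5336 (allL N5336 (tt N2464 F27161) (tt N2466 F27162) (tt N2463 F12048) (tt N5338 (iv3 F27168)) (tt N5339 F50735) (tt N4233 (iv5 F27176)) (tt N5338 F50736) (tt N2462 (iv7 D7741)))
theorem Q5338 : ∀ i, i < 5338 → P i := stepQ 5337 Q5337 (allL N5337 (tt N8316 F25752) (tt N5487 (iv0 F26875)) (tt N10530 F27152) (tt N2463 (iv3 D7742)) (tt N10530 (iv4 F24915)) (tt N5210 (iv5 F25813)) (tt N10530 (iv6 F50730)) (tt N10531 (iv7 F27154)))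
theorem Q5339 : ∀ i, i < 5339 → P i := stepQ 5338 Q5338 (allL N5338 (tt N8538 (iv1 F26739)) (tt N8328 (iv0 F26485)) (tt N5339 F50734) (tt N5336 F27168) (tt N2463 (iv4 D7743)) (tt N8819 (iv5 F25823)) (tt N5336 (iv6 F50736)) (tt N5333 F27169))
theorem Q5340 : ∀ i, i < 5340 → P i := stepQ 5339 Q5339 (allL N5339 (tt N5071 (iv1 F50732)) (tt N5659 (iv0 F50733)) (tt N5338 (iv2 F50734)) (tt N10530 F50731) (tt N5336 (iv4 F50735)) (tt N11195 D16655) (tt N2463 (iv6 D7745)) (tt N5334 (iv7 F50743)))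
theorem Q5341 : ∀ i, i < 5341 → P i := stepQ 5340 Q5340 (allL N5340 (tt N11196 D16657) (tt N11197 D16658) (tt N10876 F25736) (tt N5521 (iv3 F12745)) (tt N2465 (iv4 D7751)) (tt N11198 D16659) (tt N11199 D16660) (tt N8516 (iv7 F21268)))
theorem Q5342 : ∀ i, i < 5342 → P i := stepQ 5341 Q5341 (allL N5341 (tt N11200 D16661) (tt N11201 D16662) (tt N10877 F25737) (tt N2467 F12054) (tt N11199 (iv4 F27292)) (tt N11176 (iv5 F27111)) (tt N2465 (iv6 D7752)) (tt N11202 D16663))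
theorem Q5343 : ∀ i, i < 5343 → P i := stepQ 5342 Q5342 (allL N5342 (tt N11203 D16664) (tt N11204 D16665) (tt N11189 (iv2 F27136)) (tt N2468 F12055) (tt N5012 F12056) (tt N11205 D16666) (tt N2466 (iv6 D7753)) (tt N11178 (iv7 F27116)))
theorem Q5344 : ∀ i, i < 5344 → P i := stepQ 5343 Q5343 (allL N5343 (tt N8500 (iv1 F21235)) (tt N2467 (iv0 D7754)) (tt N8498 F51291) (tt N11206 D16668) (tt N5544 F28972) (tt N11207 D16670) (tt N11208 D16671) (tt N8499 F51292))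
theorem Q5345 : ∀ i, i < 5345 → P i := stepQ 5344 Q5344 (allL N5344 (tt N2467 (iv1 D7755)) (tt N8500 F21234) (tt N8499 (iv2 F51287)) (tt N11209 D16673) (tt N5545 F28975) (tt N11210 D16675) (tt N11211 D16676) (tt N8498 (iv7 F51290)))
theorem Q5346 : ∀ i, i < 5346 → P i := stepQ 5345 Q5345 (allL N5345 (tt N8499 (iv1 F21229)) (tt N8498 F21233) (tt N8500 (iv2 F21230)) (tt N11202 (iv3 F27293)) (tt N5528 (iv4 F12758)) (tt N11187 (iv5 F27133)) (tt N8527 (iv6 F21285)) (tt N2467 (iv7 D7756)))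
theorem Q5347 : ∀ i, i < 5347 → P i := stepQ 5346 Q5346 (allL N5346 (tt N5007 (iv1 F12057)) (tt N2468 (iv0 D7757)) (tt N5004 F12563) (tt N11212 D16677) (tt N4075 (iv4 F12562)) (tt N11213 D16678) (tt N11214 D16679) (tt N5005 F12564))
theorem Q5348 : ∀ i, i < 5348 → P i := stepQ 5347 Q5347 (allL N5347 (tt N2468 (iv1 D7758)) (tt N5007 F12058) (tt N5005 (iv2 F12559)) (tt N11215 D16680) (tt N4076 F12558) (tt N11216 D16681) (tt N4555 (iv6 F12560)) (tt N5004 (iv7 F12561)))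
theorem Q5349 : ∀ i, i < 5349 → P i := stepQ 5348 Q5348 (allL N5348 (tt N10364 F24716) (tt N8259 (iv0 F20662)) (tt N5006 F12059) (tt N11205 (iv3 F27294)) (tt N11217 D16682) (tt N2468 (iv5 D7759)) (tt N8526 (iv6 F21282)) (tt N10362 (iv7 F24713)))
theorem Q5350 : ∀ i, i < 5350 → P i := stepQ 5349 Q5349 (allL N5349 (tt N4918 (iv1 F26609)) (tt N2533 F12555) (tt N3921 F26592) (tt N4883 F26593) (tt N2469 (iv4 D7760)) (tt N11218 D16683) (tt N8478 (iv6 F21192)) (tt N4919 (iv7 F26607)))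
theorem Q5351 : ∀ i, i < 5351 → P i := stepQ 5350 Q5350 (allL N5350 (tt N5460 (iv1 F12503)) (tt N4051 F12067) (tt N3853 F12065) (tt N8386 (iv3 F21016)) (tt N7168 (iv4 F18066)) (tt N2471 (iv5 D7762)) (tt N11219 D16684) (tt N3850 F12066))
theorem Q5352 : ∀ i, i < 5352 → P i := stepQ 5351 Q5351 (allL N5351 (tt N9108 F22760) (tt N5118 (iv0 F12078)) (tt N3854 F12068) (tt N8387 (iv3 F21018)) (tt N2472 F12069) (tt N11220 D16685) (tt N2471 (iv6 D7763)) (tt N11221 D16686))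
theorem Q5353 : ∀ i, i < 5353 → P i := stepQ 5352 Q5352 (allL N5352 (tt N2472 (iv1 D7765)) (tt N7261 F18263) (tt N5095 (iv2 F20138)) (tt N5352 F20142) (tt N8054 F22745) (tt N11222 D16687) (tt N11223 D16688) (tt N7260 (iv7 F20141)))
theorem Q5354 : ∀ i, i < 5354 → P i := stepQ 5353 Q5353 (allL N5353 (tt N5095 F12659) (tt N7260 (iv0 F18258)) (tt N7261 (iv2 F18259)) (tt N2475 F12070) (tt N11221 (iv4 F27328)) (tt N5353 F12071) (tt N4313 F12072) (tt N2472 (iv7 D7766)))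
theorem Q5355 : ∀ i, i < 5355 → P i := stepQ 5354 Q5354 (allL N5354 (tt N3398 F12082) (tt N3539 (iv0 F12084)) (tt N4360 (iv2 F12649)) (tt N9109 (iv3 F22762)) (tt N4888 F12081) (tt N2473 (iv5 D7768)) (tt N8552 (iv6 F21336)) (tt N2546 (iv7 F12650)))
theorem Q5356 : ∀ i, i < 5356 → P i := stepQ 5355 Q5355 (allL N5355 (tt N4369 F12090) (tt N3403 (iv0 F12091)) (tt N4367 F12646) (tt N3937 (iv3 F12648)) (tt N4930 (iv4 F20526)) (tt N4368 F12089) (tt N2474 (iv6 D7771)) (tt N4368 F12645))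
theorem Q5357 : ∀ i, i < 5357 → P i := stepQ 5356 Q5356 (allL N5356 (tt N6720 F16798) (tt N2792 (iv0 F12241)) (tt N6061 (iv2 F13811)) (tt N5681 (iv3 F12981)) (tt N6366 (iv4 F14550)) (tt N11224 D16689) (tt N2476 (iv6 D7774)) (tt N2684 F16799))
theorem Q5358 : ∀ i, i < 5358 → P i := stepQ 5357 Q5357 (allL N5357 (tt N2830 F12246) (tt N2833 (iv0 F12243)) (tt N5676 (iv2 F12969)) (tt N2477 (iv3 D7775)) (tt N2908 F12242) (tt N6737 (iv5 F16381)) (tt N2685 F16792) (tt N6060 (iv7 F13806)))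
theorem Q5359 : ∀ i, i < 5359 → P i := stepQ 5358 Q5358 (allL N5358 (tt N6440 F14687) (tt N11225 D16690) (tt N2479 F12248) (tt N6056 (iv3 F13793)) (tt N2846 F12249) (tt N11226 D16691) (tt N2478 (iv6 D7777)) (tt N11227 D16692))
theorem Q5360 : ∀ i, i < 5360 → P i := stepQ 5359 Q5359 (allL N5359 (tt N11227 (iv1 F27357)) (tt N2479 (iv0 D7778)) (tt N6440 (iv2 F14734)) (tt N11228 D16693) (tt N6439 F14735) (tt N11229 D16694) (tt N3172 F16874) (tt N11225 (iv7 F27347)))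
theorem Q5361 : ∀ i, i < 5361 → P i := stepQ 5360 Q5360 (allL N5360 (tt N2479 (iv1 D7779)) (tt N11227 F27356) (tt N11225 F27350) (tt N11230 D16695) (tt N6398 (iv4 F14630)) (tt N11231 D16696) (tt N5360 F14717) (tt N6440 (iv7 F14733)))
theorem Q5362 : ∀ i, i < 5362 → P i := stepQ 5361 Q5361 (allL N5361 (tt N11224 F27345) (tt N6734 (iv0 F16327)) (tt N11226 (iv2 F27351)) (tt N2480 F12250) (tt N11232 D16697) (tt N2479 (iv5 D7780)) (tt N5956 (iv6 F13616)) (tt N8863 (iv7 F22117)))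
theorem Q5363 : ∀ i, i < 5363 → P i := stepQ 5362 Q5362 (allL N5362 (tt N11225 (iv1 F27346)) (tt N6440 (iv0 F14686)) (tt N11227 (iv2 F27353)) (tt N2481 F12251) (tt N2850 F12252) (tt N8863 (iv5 F22116)) (tt N3364 F12253) (tt N2479 (iv7 D7781)))
theorem Q5364 : ∀ i, i < 5364 → P i := stepQ 5363 Q5363 (allL N5363 (tt N5717 (iv1 F13034)) (tt N5722 (iv0 F13049)) (tt N6059 (iv2 F13799)) (tt N11233 D16698) (tt N2480 (iv4 D7782)) (tt N6040 (iv5 F13737)) (tt N5965 (iv6 F13622)) (tt N8864 (iv7 F22121)))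
theorem Q5365 : ∀ i, i < 5365 → P i := stepQ 5364 Q5364 (allL N5364 (tt N2915 (iv1 F12802)) (tt N5550 (iv0 F12973)) (tt N4129 (iv2 F12828)) (tt N5567 (iv3 F12843)) (tt N2482 (iv4 D7784)) (tt N11234 D16699) (tt N2695 F16984) (tt N5558 F12801))
theorem Q5366 : ∀ i, i < 5366 → P i := stepQ 5365 Q5365 (allL N5365 (tt N5530 F12813) (tt N2489 F12814) (tt N5561 (iv2 F12810)) (tt N2483 (iv3 D7788)) (tt N5561 (iv4 F12811)) (tt N8683 (iv5 F21770)) (tt N11235 D16700) (tt N6055 (iv7 F13788)))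
theorem Q5367 : ∀ i, i < 5367 → P i := stepQ 5366 Q5366 (allL N5366 (tt N2794 F13348) (tt N5367 F13732) (tt N5368 (iv2 F14297)) (tt N11235 (iv3 F27378)) (tt N5560 (iv4 F12805)) (tt N11236 D16701) (tt N2483 (iv6 D7790)) (tt N2699 (iv7 F16989)))
theorem Q5368 : ∀ i, i < 5368 → P i := stepQ 5367 Q5367 (allL N5367 (tt N5366 (iv1 F13732)) (tt N4167 (iv0 F16995)) (tt N2485 F12256) (tt N5789 (iv3 F16810)) (tt N5367 F12257) (tt N11237 D16702) (tt N2484 (iv6 D7791)) (tt N5822 (iv7 F16994)))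
theorem Q5369 : ∀ i, i < 5369 → P i := stepQ 5368 Q5368 (allL N5368 (tt N5822 (iv1 F16991)) (tt N2485 (iv0 D7792)) (tt N5366 F14297) (tt N8623 (iv3 F21514)) (tt N11238 D16703) (tt N11239 D16704) (tt N2803 F14298) (tt N4167 (iv7 F16997)))
theorem Q5370 : ∀ i, i < 5370 → P i := stepQ 5369 Q5369 (allL N5369 (tt N11240 D16705) (tt N11241 D16706) (tt N11237 (iv2 F27382)) (tt N2486 F12258) (tt N11242 D16707) (tt N2485 (iv5 D7794)) (tt N5974 (iv6 F13634)) (tt N6039 (iv7 F13735)))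
theorem Q5371 : ∀ i, i < 5371 → P i := stepQ 5370 Q5370 (allL N5370 (tt N8588 (iv1 F21426)) (tt N8584 (iv0 F21408)) (tt N6038 (iv2 F13725)) (tt N11243 D16708) (tt N2486 (iv4 D7795)) (tt N8864 (iv5 F22120)) (tt N5982 (iv6 F13640)) (tt N6040 (iv7 F13736)))
theorem Q5372 : ∀ i, i < 5372 → P i := stepQ 5371 Q5371 (allL N5371 (tt N2498 (iv1 F12262)) (tt N2497 F12261) (tt N2501 F12259) (tt N5519 (iv3 F12733)) (tt N11244 D16709) (tt N2487 (iv5 D7796)) (tt N11245 D16710) (tt N2496 F12260))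
theorem Q5373 : ∀ i, i < 5373 → P i := stepQ 5372 Q5372 (allL N5372 (tt N2756 (iv1 F12267)) (tt N2755 (iv0 F12266)) (tt N2502 F12263) (tt N5520 (iv3 F12738)) (tt N2904 F12264) (tt N11246 D16711) (tt N2487 (iv6 D7797)) (tt N2712 F12265))
theorem Q5374 : ∀ i, i < 5374 → P i := stepQ 5373 Q5373 (allL N5373 (tt N4091 F12308) (tt N4092 F12309) (tt N5675 F12965) (tt N2488 (iv3 D7800)) (tt N6108 (iv4 F13891)) (tt N5872 (iv5 F13510)) (tt N11247 D16712) (tt N2493 F12270))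
theorem Q5375 : ∀ i, i < 5375 → P i := stepQ 5374 Q5374 (allL N5374 (tt N3029 F17488) (tt N5641 F17489) (tt N2491 F12336) (tt N11247 (iv3 F27403)) (tt N6106 (iv4 F13884)) (tt N11248 D16713) (tt N2488 (iv6 D7802)) (tt N5640 (iv7 F17499)))
theorem Q5376 : ∀ i, i < 5376 → P i := stepQ 5375 Q5375 (allL N5375 (tt N2489 (iv1 D7804)) (tt N5530 F12769) (tt N6055 (iv2 F13785)) (tt N4130 (iv3 F12337)) (tt N6055 (iv4 F13786)) (tt N8695 (iv5 F295974)) (tt N2714 F17002) (tt N5561 F12815))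
theorem Q5377 : ∀ i, i < 5377 → P i := stepQ 5376 Q5376 (allL N5376 (tt N5561 (iv1 F12839)) (tt N6055 F13789) (tt N2489 (iv2 D7805)) (tt N5675 F12968) (tt N4088 (iv4 F12344)) (tt N5886 (iv5 F13532)) (tt N11249 D16715) (tt N5530 (iv7 F12768)))
theorem Q5378 : ∀ i, i < 5378 → P i := stepQ 5377 Q5377 (allL N5377 (tt N11250 D16716) (tt N11251 D16717) (tt N11249 (iv2 F27414)) (tt N2491 F12338) (tt N5535 (iv4 F12775)) (tt N11252 D16718) (tt N2489 (iv6 D7806)) (tt N11253 D16719))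
theorem Q5379 : ∀ i, i < 5379 → P i := stepQ 5378 Q5378 (allL N5378 (tt N6055 (iv1 F13790)) (tt N5561 (iv0 F12812)) (tt N5530 (iv2 F12766)) (tt N2492 F12339) (tt N4089 (iv4 F12340)) (tt N5875 (iv5 F13515)) (tt N5940 (iv6 F13586)) (tt N2489 (iv7 D7807)))
theorem Q5380 : ∀ i, i < 5380 → P i := stepQ 5379 Q5379 (allL N5379 (tt N11254 D16720) (tt N3009 F17516) (tt N6106 (iv2 F13882)) (tt N6365 (iv3 F14548)) (tt N2491 F12346) (tt N11255 D16721) (tt N2490 (iv6 D7808)) (tt N11256 D16722))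
theorem Q5381 : ∀ i, i < 5381 → P i := stepQ 5380 Q5380 (allL N5380 (tt N5640 (iv1 F17495)) (tt N2491 (iv0 D7809)) (tt N3029 F17454) (tt N5636 F17455) (tt N2919 (iv4 F13604)) (tt N11257 D16723) (tt N2733 F13507) (tt N5641 F17456))
theorem Q5382 : ∀ i, i < 5382 → P i := stepQ 5381 Q5381 (allL N5381 (tt N11246 (iv1 F27401)) (tt N2757 (iv0 F12347)) (tt N11248 (iv2 F27404)) (tt N11252 (iv3 F27416)) (tt N11258 D16724) (tt N2491 (iv5 D7811)) (tt N5896 (iv6 F13541)) (tt N11259 D16725))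
theorem Q5383 : ∀ i, i < 5383 → P i := stepQ 5382 Q5382 (allL N5382 (tt N5641 F17486) (tt N3029 F17487) (tt N5640 (iv2 F17496)) (tt N11253 (iv3 F27417)) (tt N11256 (iv4 F27436)) (tt N11259 (iv5 F27443)) (tt N5405 F12392) (tt N2491 (iv7 D7812)))
theorem Q5384 : ∀ i, i < 5384 → P i := stepQ 5383 Q5383 (allL N5383 (tt N4092 (iv1 F12349)) (tt N4091 F12348) (tt N2493 (iv2 D7813)) (tt N5530 (iv3 F12767)) (tt N4062 F12350) (tt N5898 (iv5 F13542)) (tt N11260 D16726) (tt N5675 (iv7 F12967)))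
theorem Q5385 : ∀ i, i < 5385 → P i := stepQ 5384 Q5384 (allL N5384 (tt N2574 F12354) (tt N2570 (iv0 F12353)) (tt N4062 F12351) (tt N2962 F12352) (tt N2493 (iv4 D7814)) (tt N8742 (iv5 F21928)) (tt N11261 D16727) (tt N6108 (iv7 F13892)))
theorem Q5386 : ∀ i, i < 5386 → P i := stepQ 5385 Q5385 (allL N5385 (tt N5695 F15243) (tt N5698 F15244) (tt N11260 (iv2 F27446)) (tt N2495 F12356) (tt N11261 (iv4 F27452)) (tt N11262 D16728) (tt N2493 (iv6 D7815)) (tt N5943 (iv7 F13594)))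
theorem Q5387 : ∀ i, i < 5387 → P i := stepQ 5386 Q5386 (allL N5386 (tt N3044 F13381) (tt N5850 (iv0 F16786)) (tt N5941 (iv2 F13591)) (tt N2894 F12357) (tt N2495 F12358) (tt N6771 (iv5 F291593)) (tt N2494 (iv6 D7816)) (tt N5944 (iv7 F13595)))
theorem Q5388 : ∀ i, i < 5388 → P i := stepQ 5387 Q5387 (allL N5387 (tt N5642 (iv1 F17606)) (tt N11257 (iv0 F27441)) (tt N5942 (iv2 F13593)) (tt N11262 (iv3 F27457)) (tt N11263 D16730) (tt N2495 (iv5 D7817)) (tt N5906 (iv6 F13547)) (tt N5945 (iv7 F13597)))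
theorem Q5389 : ∀ i, i < 5389 → P i := stepQ 5388 Q5388 (allL N5388 (tt N3226 F12360) (tt N3209 F12361) (tt N2499 F12359) (tt N11264 D16731) (tt N2496 (iv4 D7818)) (tt N11265 D16732) (tt N11266 D16733) (tt N11244 (iv7 F27395)))
theorem Q5390 : ∀ i, i < 5390 → P i := stepQ 5389 Q5389 (allL N5389 (tt N11267 D16734) (tt N11268 D16735) (tt N2500 F12362) (tt N8510 (iv3 F21253)) (tt N11266 (iv4 F27464)) (tt N2738 F12363) (tt N2496 (iv6 D7819)) (tt N11269 D16736))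
theorem Q5391 : ∀ i, i < 5391 → P i := stepQ 5390 Q5390 (allL N5390 (tt N8683 (iv1 F21773)) (tt N8695 (iv0 F295971)) (tt N2732 F295877) (tt N2497 (iv3 D7820)) (tt N11270 D16738) (tt N2717 F12364) (tt N2497 (iv6 F295918)) (tt N2716 F12365))
theorem Q5392 : ∀ i, i < 5392 → P i := stepQ 5391 Q5391 (allL N5391 (tt N6809 (iv1 F16685)) (tt N6807 (iv0 F16680)) (tt N2731 F12366) (tt N11271 D16740) (tt N2497 (iv4 D7821)) (tt N11272 D16741) (tt N11270 F296020) (tt N2722 F12367))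
theorem Q5393 : ∀ i, i < 5393 → P i := stepQ 5392 Q5392 (allL N5392 (tt N5677 F13417) (tt N5680 F13418) (tt N11273 D16747) (tt N2498 (iv3 D7823)) (tt N11274 D16748) (tt N2713 F12369) (tt N11275 D16749) (tt N2727 F12370))
theorem Q5394 : ∀ i, i < 5394 → P i := stepQ 5393 Q5393 (allL N5393 (tt N6807 (iv1 F16681)) (tt N6809 (iv0 F16684)) (tt N2722 F12371) (tt N11276 D16750) (tt N2498 (iv4 D7824)) (tt N11277 D16751) (tt N11278 D16752) (tt N2731 F12372))
theorem Q5395 : ∀ i, i < 5395 → P i := stepQ 5394 Q5394 (allL N5394 (tt N8691 (iv1 F117761)) (tt N11279 D16754) (tt N2723 F12373) (tt N11275 (iv3 F27501)) (tt N11278 (iv4 F27508)) (tt N5394 F12374) (tt N2498 (iv6 D7825)) (tt N11280 D16755))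
theorem Q5396 : ∀ i, i < 5396 → P i := stepQ 5395 Q5395 (allL N5395 (tt N11244 (iv1 F27397)) (tt N2499 (iv0 D7826)) (tt N3226 (iv2 F12376)) (tt N11281 D16756) (tt N3211 F12375) (tt N11282 D16757) (tt N11283 D16758) (tt N3209 (iv7 F12377)))
theorem Q5397 : ∀ i, i < 5397 → P i := stepQ 5396 Q5396 (allL N5396 (tt N2499 (iv1 D7827)) (tt N11244 (iv0 F27396)) (tt N3209 F12380) (tt N11284 D16759) (tt N3193 (iv4 F12379)) (tt N11285 D16760) (tt N11286 D16761) (tt N3226 F12378))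
theorem Q5398 : ∀ i, i < 5398 → P i := stepQ 5397 Q5397 (allL N5397 (tt N11287 D16762) (tt N11288 D16763) (tt N11289 D16764) (tt N2499 (iv3 D7828)) (tt N2503 F12381) (tt N11290 D16765) (tt N11291 D16766) (tt N8496 (iv7 F21227)))
theorem Q5399 : ∀ i, i < 5399 → P i := stepQ 5398 Q5398 (allL N5398 (tt N5909 (iv1 F13550)) (tt N5912 (iv0 F13553)) (tt N11265 (iv2 F27460)) (tt N11290 (iv3 F27535)) (tt N6946 (iv4 F17247)) (tt N2499 (iv5 D7829)) (tt N11292 D16767) (tt N11293 D16768))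
theorem Q5400 : ∀ i, i < 5400 → P i := stepQ 5399 Q5399 (allL N5399 (tt N11294 D16769) (tt N11295 D16770) (tt N11266 (iv2 F27463)) (tt N11291 (iv3 F27536)) (tt N2500 F12382) (tt N11296 D16771) (tt N2499 (iv6 D7830)) (tt N11297 D16772))
theorem Q5401 : ∀ i, i < 5401 → P i := stepQ 5400 Q5400 (allL N5400 (tt N3209 (iv1 F12384)) (tt N3226 F12385) (tt N11244 (iv2 F27393)) (tt N8496 (iv3 F21226)) (tt N2501 F12383) (tt N11293 (iv5 F27540)) (tt N11298 D16773) (tt N2499 (iv7 D7831)))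
theorem Q5402 : ∀ i, i < 5402 → P i := stepQ 5401 Q5401 (allL N5401 (tt N11269 (iv1 F27470)) (tt N2500 (iv0 D7832)) (tt N11267 (iv2 F113000)) (tt N11299 D16775) (tt N11300 D16776) (tt N11299 F297056) (tt N11301 D16778) (tt N11268 (iv7 F113001)))
theorem Q5403 : ∀ i, i < 5403 → P i := stepQ 5402 Q5402 (allL N5402 (tt N2500 (iv1 D7833)) (tt N11269 F27469) (tt N11268 F113004) (tt N11302 D16780) (tt N11303 D16781) (tt N11304 D16782) (tt N11305 D16783) (tt N11267 F113005))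
theorem Q5404 : ∀ i, i < 5404 → P i := stepQ 5403 Q5403 (allL N5403 (tt N11268 (iv1 F27465)) (tt N11267 F27468) (tt N11269 (iv2 F27466)) (tt N2507 F12386) (tt N11297 (iv4 F27541)) (tt N2753 F12387) (tt N11306 D16784) (tt N2500 (iv7 D7834)))
theorem Q5405 : ∀ i, i < 5405 → P i := stepQ 5404 Q5404 (allL N5404 (tt N11307 D16785) (tt N11308 D16786) (tt N11245 (iv2 F27398)) (tt N2508 F12388) (tt N11298 (iv4 F27542)) (tt N11309 D16787) (tt N2501 (iv6 D7835)) (tt N11306 (iv7 F27546)))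
theorem Q5406 : ∀ i, i < 5406 → P i := stepQ 5405 Q5405 (allL N5405 (tt N2712 (iv1 F12390)) (tt N2502 (iv0 D7836)) (tt N2756 (iv2 F12389)) (tt N11310 D16788) (tt N6499 (iv4 F15130)) (tt N11311 D16789) (tt N5382 (iv6 F12392)) (tt N2755 F12391))
theorem Q5407 : ∀ i, i < 5407 → P i := stepQ 5406 Q5406 (allL N5406 (tt N11259 (iv1 F27445)) (tt N11248 (iv0 F27406)) (tt N11246 (iv2 F27399)) (tt N2509 F12393) (tt N11312 D16790) (tt N2502 (iv5 D7837)) (tt N11309 (iv6 F27548)) (tt N2757 F12394))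
theorem Q5408 : ∀ i, i < 5408 → P i := stepQ 5407 Q5407 (allL N5407 (tt N8402 (iv1 F27128)) (tt N8418 (iv0 F27125)) (tt N2503 (iv2 D7840)) (tt N8522 (iv3 F21273)) (tt N11289 (iv4 F27534)) (tt N5002 F12395) (tt N11313 D16791) (tt N8415 (iv7 F26965)))
theorem Q5409 : ∀ i, i < 5409 → P i := stepQ 5408 Q5408 (allL N5408 (tt N11314 D16792) (tt N11315 D16793) (tt N11313 (iv2 F27557)) (tt N2504 F12396) (tt N11291 (iv4 F27537)) (tt N11316 D16794) (tt N2503 (iv6 D7841)) (tt N11317 D16795))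
theorem Q5410 : ∀ i, i < 5410 → P i := stepQ 5409 Q5409 (allL N5409 (tt N8527 (iv1 F21288)) (tt N2504 (iv0 D7842)) (tt N8524 F51245) (tt N11318 D16797) (tt N5555 (iv4 F28964)) (tt N11319 D16799) (tt N10464 F24829) (tt N8525 F51246))
theorem Q5411 : ∀ i, i < 5411 → P i := stepQ 5410 Q5410 (allL N5410 (tt N2504 (iv1 D7843)) (tt N8527 F21287) (tt N8525 (iv2 F51241)) (tt N11320 D16801) (tt N5556 (iv4 F28979)) (tt N11321 D16803) (tt N11322 D16804) (tt N8524 (iv7 F51244)))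
theorem Q5412 : ∀ i, i < 5412 → P i := stepQ 5411 Q5411 (allL N5411 (tt N11323 D16805) (tt N11324 D16806) (tt N8526 (iv2 F21281)) (tt N11316 (iv3 F27558)) (tt N11325 D16807) (tt N2504 (iv5 D7844)) (tt N5006 F12397) (tt N11326 D16808))
theorem Q5413 : ∀ i, i < 5413 → P i := stepQ 5412 Q5412 (allL N5412 (tt N8525 (iv1 F21280)) (tt N8524 F21286) (tt N8527 (iv2 F21283)) (tt N11317 (iv3 F27560)) (tt N2507 F12398) (tt N11326 (iv5 F27565)) (tt N8500 (iv6 F21232)) (tt N2504 (iv7 D7845)))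
theorem Q5414 : ∀ i, i < 5414 → P i := stepQ 5413 Q5413 (allL N5413 (tt N11327 D16815) (tt N6739 F116655) (tt N11328 D16817) (tt N2505 (iv3 D7847)) (tt N11329 D16818) (tt N11330 D16819) (tt N11331 D16820) (tt N8532 (iv7 F43151)))
theorem Q5415 : ∀ i, i < 5415 → P i := stepQ 5414 Q5414 (allL N5414 (tt N10673 F30053) (tt N5013 (iv0 F30054)) (tt N8529 (iv2 F43147)) (tt N11332 D16824) (tt N2505 (iv4 D7848)) (tt N11333 D16825) (tt N11334 D16826) (tt N8533 (iv7 F43152)))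
theorem Q5416 : ∀ i, i < 5416 → P i := stepQ 5415 Q5415 (allL N5415 (tt N11335 D16828) (tt N8696 (iv0 F29710)) (tt N8530 (iv2 F43141)) (tt N11330 (iv3 F27574)) (tt N11336 D16830) (tt N2505 (iv5 D7849)) (tt N11337 D16831) (tt N8534 (iv7 F43144)))
theorem Q5417 : ∀ i, i < 5417 → P i := stepQ 5416 Q5416 (allL N5416 (tt N8693 (iv1 F29709)) (tt N11338 D16834) (tt N8531 (iv2 F43148)) (tt N11331 (iv3 F27575)) (tt N11334 (iv4 F27578)) (tt N8859 F22107) (tt N2505 (iv6 D7850)) (tt N11339 D16835))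
theorem Q5418 : ∀ i, i < 5418 → P i := stepQ 5417 Q5417 (allL N5417 (tt N8682 F117239) (tt N11340 D16838) (tt N11341 D16839) (tt N2506 (iv3 D7852)) (tt N11342 D16840) (tt N8520 (iv5 F299501)) (tt N11343 D16842) (tt N8528 F43160))
theorem Q5419 : ∀ i, i < 5419 → P i := stepQ 5418 Q5418 (allL N5418 (tt N5013 (iv1 F30055)) (tt N10673 F30052) (tt N8533 F43161) (tt N11344 D16843) (tt N2506 (iv4 D7853)) (tt N11345 D16844) (tt N11346 D16845) (tt N8529 F43162))
theorem Q5420 : ∀ i, i < 5420 → P i := stepQ 5419 Q5419 (allL N5419 (tt N8696 (iv1 F29711)) (tt N11335 F27587) (tt N8534 (iv2 F43143)) (tt N8520 (iv3 F299500)) (tt N11347 D16846) (tt N2506 (iv5 D7854)) (tt N5525 (iv6 F12752)) (tt N8530 (iv7 F43142)))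
theorem Q5421 : ∀ i, i < 5421 → P i := stepQ 5420 Q5420 (allL N5420 (tt N11348 D16847) (tt N8694 (iv0 F29760)) (tt N8535 (iv2 F43157)) (tt N11343 (iv3 F27590)) (tt N11346 (iv4 F27591)) (tt N11349 D16849) (tt N2506 (iv6 D7855)) (tt N11350 D16850))
theorem Q5422 : ∀ i, i < 5422 → P i := stepQ 5421 Q5421 (allL N5421 (tt N5526 (iv1 F12754)) (tt N5525 (iv0 F12753)) (tt N5528 (iv2 F12757)) (tt N11306 (iv3 F27545)) (tt N8500 (iv4 F21231)) (tt N11351 D16851) (tt N2507 (iv6 D7856)) (tt N2508 F12401))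
theorem Q5423 : ∀ i, i < 5423 → P i := stepQ 5422 Q5422 (allL N5422 (tt N5528 (iv1 F12761)) (tt N2508 (iv0 D7857)) (tt N5525 (iv2 F43158)) (tt N11352 D16853) (tt N10666 (iv4 F38268)) (tt N11353 D16855) (tt N8534 (iv6 F21292)) (tt N5526 (iv7 F43159)))
theorem Q5424 : ∀ i, i < 5424 → P i := stepQ 5423 Q5423 (allL N5423 (tt N2508 (iv1 D7858)) (tt N5528 F12760) (tt N5526 F43163) (tt N11354 D16857) (tt N10667 (iv4 F43178)) (tt N11355 D16859) (tt N11356 D16860) (tt N5525 F43164))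
theorem Q5425 : ∀ i, i < 5425 → P i := stepQ 5424 Q5424 (allL N5424 (tt N11357 D16861) (tt N11358 D16862) (tt N5527 (iv2 F12755)) (tt N11309 (iv3 F27547)) (tt N11359 D16863) (tt N2508 (iv5 D7859)) (tt N2509 F12402) (tt N11351 (iv7 F27595)))
theorem Q5426 : ∀ i, i < 5426 → P i := stepQ 5425 Q5425 (allL N5425 (tt N5632 (iv1 F12897)) (tt N4110 F12405) (tt N5529 (iv2 F12762)) (tt N11360 D16864) (tt N2509 (iv4 D7860)) (tt N4253 F12404) (tt N11359 (iv6 F27599)) (tt N2797 F12403))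
theorem Q5427 : ∀ i, i < 5427 → P i := stepQ 5426 Q5426 (allL N5426 (tt N11361 D16865) (tt N8405 (iv0 F21060)) (tt N11362 D16866) (tt N2510 (iv3 D7861)) (tt N2512 F12406) (tt N8090 (iv5 F20212)) (tt N11363 D16867) (tt N3383 F12407))
theorem Q5428 : ∀ i, i < 5428 → P i := stepQ 5427 Q5427 (allL N5427 (tt N11364 D16868) (tt N11365 D16869) (tt N3864 F12408) (tt N11363 (iv3 F27610)) (tt N2511 F12409) (tt N11366 D16870) (tt N2510 (iv6 D7862)) (tt N11367 D16871))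
theorem Q5429 : ∀ i, i < 5429 → P i := stepQ 5428 Q5428 (allL N5428 (tt N3829 F12412) (tt N2511 (iv0 D7863)) (tt N3865 (iv2 F12411)) (tt N5443 F12468) (tt N11368 D16872) (tt N9504 (iv5 F23472)) (tt N3660 F12410) (tt N3866 (iv7 F12414)))
theorem Q5430 : ∀ i, i < 5430 → P i := stepQ 5429 Q5429 (allL N5429 (tt N3866 (iv1 F12429)) (tt N3865 F12430) (tt N3829 F12425) (tt N2516 F12426) (tt N11367 (iv4 F27623)) (tt N5429 F12427) (tt N3378 F12428) (tt N2511 (iv7 D7864)))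
theorem Q5431 : ∀ i, i < 5431 → P i := stepQ 5430 Q5430 (allL N5430 (tt N3411 (iv1 F12432)) (tt N2512 (iv0 D7865)) (tt N3410 F37228) (tt N4394 F12431) (tt N11369 D16874) (tt N10520 (iv5 F43048)) (tt N11370 D16876) (tt N3409 (iv7 F37233)))
theorem Q5432 : ∀ i, i < 5432 → P i := stepQ 5431 Q5431 (allL N5431 (tt N2512 (iv1 D7866)) (tt N3411 F12436) (tt N3409 (iv2 F37232)) (tt N11371 D16878) (tt N11372 D16879) (tt N10521 (iv5 F43051)) (tt N9538 F54238) (tt N3410 F37231))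
theorem Q5433 : ∀ i, i < 5433 → P i := stepQ 5432 Q5432 (allL N5432 (tt N3410 (iv1 F12437)) (tt N3409 F12435) (tt N2512 (iv2 D7867)) (tt N4386 F12433) (tt N11362 (iv4 F27606)) (tt N6095 (iv5 F13868)) (tt N11373 D16882) (tt N3411 F12434))
theorem Q5434 : ∀ i, i < 5434 → P i := stepQ 5433 Q5433 (allL N5433 (tt N11374 D16883) (tt N11375 D16884) (tt N11373 (iv2 F27648)) (tt N2513 F12438) (tt N11363 (iv4 F27611)) (tt N11376 D16885) (tt N2512 (iv6 D7868)) (tt N11377 D16886))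
theorem Q5435 : ∀ i, i < 5435 → P i := stepQ 5434 Q5434 (allL N5434 (tt N11049 (iv1 F25954)) (tt N11050 (iv0 F25975)) (tt N4408 F12439) (tt N11376 (iv3 F27650)) (tt N11378 D16887) (tt N2513 (iv5 D7869)) (tt N6097 (iv6 F13870)) (tt N11379 D16888))
theorem Q5436 : ∀ i, i < 5436 → P i := stepQ 5435 Q5435 (allL N5435 (tt N4047 (iv1 F12443)) (tt N4045 F12444) (tt N4381 F12440) (tt N11377 (iv3 F27651)) (tt N2516 F12441) (tt N11379 (iv5 F27655)) (tt N3408 F12442) (tt N2513 (iv7 D7870)))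
theorem Q5437 : ∀ i, i < 5437 → P i := stepQ 5436 Q5436 (allL N5436 (tt N5514 F12716) (tt N4087 (iv0 F12448)) (tt N4410 F12445) (tt N8100 (iv3 F20222)) (tt N9313 (iv4 F23104)) (tt N2514 (iv5 D7871)) (tt N3565 F12446) (tt N4412 F12447))
theorem Q5438 : ∀ i, i < 5438 → P i := stepQ 5437 Q5437 (allL N5437 (tt N2518 (iv1 F12469)) (tt N7255 F18239) (tt N7270 F18280) (tt N2515 (iv3 D7872)) (tt N11365 F27619) (tt N11380 D16889) (tt N8943 F27005) (tt N4409 F12450))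
theorem Q5439 : ∀ i, i < 5439 → P i := stepQ 5438 Q5438 (allL N5438 (tt N4087 (iv1 F12454)) (tt N5514 (iv0 F12715)) (tt N4412 F12451) (tt N11380 (iv3 F27658)) (tt N11214 (iv4 F27304)) (tt N2515 (iv5 D7873)) (tt N4075 F12453) (tt N4410 F12452))
theorem Q5440 : ∀ i, i < 5440 → P i := stepQ 5439 Q5439 (allL N5439 (tt N2545 (iv1 F12458)) (tt N2548 F12459) (tt N4413 F12456) (tt N8943 F26430) (tt N8423 (iv4 F26457)) (tt N5668 (iv5 F12935)) (tt N2515 (iv6 D7874)) (tt N3563 F12457))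
theorem Q5441 : ∀ i, i < 5441 → P i := stepQ 5440 Q5440 (allL N5440 (tt N8425 F21083) (tt N11381 D16890) (tt N11382 D16891) (tt N2517 (iv3 D7875)) (tt N5058 F12460) (tt N11383 D16892) (tt N8053 F27056) (tt N3422 F12461))
theorem Q5442 : ∀ i, i < 5442 → P i := stepQ 5441 Q5441 (allL N5441 (tt N2606 F12464) (tt N7165 (iv0 F18058)) (tt N7267 (iv2 F18270)) (tt N11383 (iv3 F27671)) (tt N3423 F12463) (tt N2517 (iv5 D7876)) (tt N11384 D16893) (tt N3423 F12462))
theorem Q5443 : ∀ i, i < 5443 → P i := stepQ 5442 Q5442 (allL N5442 (tt N8099 F20221) (tt N8101 (iv0 F20225)) (tt N7269 (iv2 F18276)) (tt N8053 (iv3 F27055)) (tt N2518 F12465) (tt N11385 D16894) (tt N2517 (iv6 D7877)) (tt N11386 D16895))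
theorem Q5444 : ∀ i, i < 5444 → P i := stepQ 5443 Q5443 (allL N5443 (tt N7255 F18238) (tt N2518 (iv0 D7878)) (tt N4409 (iv2 F12467)) (tt N5428 (iv3 F12468)) (tt N11364 (iv4 F27612)) (tt N11387 D16896) (tt N3464 F12466) (tt N7270 (iv7 F18279)))
theorem Q5445 : ∀ i, i < 5445 → P i := stepQ 5444 Q5444 (allL N5444 (tt N7270 (iv1 F18278)) (tt N4409 (iv0 F12473)) (tt N7255 (iv2 F18234)) (tt N4898 F12470) (tt N11386 (iv4 F27676)) (tt N5444 F12471) (tt N3421 F12472) (tt N2518 (iv7 D7879)))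
theorem Q5446 : ∀ i, i < 5446 → P i := stepQ 5445 Q5445 (allL N5445 (tt N11388 D16897) (tt N11389 D16898) (tt N11390 D16899) (tt N2519 (iv3 D7880)) (tt N7164 (iv4 F18053)) (tt N11391 D16900) (tt N6421 F26936) (tt N7256 (iv7 F18241)))
theorem Q5447 : ∀ i, i < 5447 → P i := stepQ 5446 Q5446 (allL N5446 (tt N3863 F12477) (tt N3384 F12478) (tt N2526 F12474) (tt N11391 (iv3 F27685)) (tt N2606 F12476) (tt N2519 (iv5 D7881)) (tt N11392 D16901) (tt N3860 F12475))
theorem Q5448 : ∀ i, i < 5448 → P i := stepQ 5447 Q5447 (allL N5447 (tt N5049 F12481) (tt N8549 (iv0 F21325)) (tt N2527 F12479) (tt N6421 (iv3 F26932)) (tt N2520 F12480) (tt N6612 F26938) (tt N2519 (iv6 D7882)) (tt N11393 D16902))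
theorem Q5449 : ∀ i, i < 5449 → P i := stepQ 5448 Q5448 (allL N5448 (tt N2530 (iv1 F12484)) (tt N2520 (iv0 D7883)) (tt N2528 F20147) (tt N5448 F20148) (tt N8026 (iv4 F20150)) (tt N8944 F26789) (tt N11222 (iv6 F27336)) (tt N2529 F20149))
theorem Q5450 : ∀ i, i < 5450 → P i := stepQ 5449 Q5449 (allL N5449 (tt N2520 (iv1 D7884)) (tt N2530 F12482) (tt N2529 F20144) (tt N3964 (iv3 F20095)) (tt N8027 (iv4 F20094)) (tt N5058 (iv5 F26271)) (tt N11394 D16903) (tt N2528 F20145))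
theorem Q5451 : ∀ i, i < 5451 → P i := stepQ 5450 Q5450 (allL N5450 (tt N2529 (iv1 F12485)) (tt N2528 F12486) (tt N2530 F12483) (tt N5504 (iv3 F12589)) (tt N11393 (iv4 F27691)) (tt N7259 (iv5 F18253)) (tt N7259 (iv6 F18254)) (tt N2520 (iv7 D7885)))
theorem Q5452 : ∀ i, i < 5452 → P i := stepQ 5451 Q5451 (allL N5451 (tt N2607 F26349) (tt N8040 F26350) (tt N8038 F26351) (tt N2521 (iv3 D7886)) (tt N5059 F12487) (tt N11395 D16904) (tt N7977 F26352) (tt N8018 (iv7 F20078)))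
theorem Q5453 : ∀ i, i < 5453 → P i := stepQ 5452 Q5452 (allL N5452 (tt N3843 F12488) (tt N3845 F12489) (tt N8016 (iv2 F20069)) (tt N11395 (iv3 F27700)) (tt N8019 (iv4 F20080)) (tt N2521 (iv5 D7887)) (tt N11396 D16905) (tt N8019 (iv7 F20081)))
theorem Q5454 : ∀ i, i < 5454 → P i := stepQ 5453 Q5453 (allL N5453 (tt N10481 F24849) (tt N10482 (iv0 F24851)) (tt N8017 (iv2 F20074)) (tt N7977 (iv3 F27038)) (tt N2522 F12490) (tt N11397 D16906) (tt N2521 (iv6 D7888)) (tt N11398 D16907))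
theorem Q5455 : ∀ i, i < 5455 → P i := stepQ 5454 Q5454 (allL N5454 (tt N7327 (iv1 F18453)) (tt N2522 (iv0 D7889)) (tt N8536 (iv2 F21294)) (tt N5477 F21295) (tt N11399 D16908) (tt N11400 D16909) (tt N11401 D16910) (tt N8598 F21462))
theorem Q5456 : ∀ i, i < 5456 → P i := stepQ 5455 Q5455 (allL N5455 (tt N2522 (iv1 D7890)) (tt N7327 (iv0 F18452)) (tt N8598 (iv2 F21460)) (tt N2535 F12492) (tt N11402 D16911) (tt N4366 (iv5 F12491)) (tt N7394 (iv6 F18580)) (tt N8536 (iv7 F21293)))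
theorem Q5457 : ∀ i, i < 5457 → P i := stepQ 5456 Q5456 (allL N5456 (tt N8598 (iv1 F21458)) (tt N8536 (iv0 F21463)) (tt N7327 (iv2 F18448)) (tt N4900 F26504) (tt N11398 (iv4 F27702)) (tt N5456 F12494) (tt N3455 F12495) (tt N2522 (iv7 D7891)))
theorem Q5458 : ∀ i, i < 5458 → P i := stepQ 5457 Q5457 (allL N5457 (tt N11403 D16912) (tt N11404 D16913) (tt N11405 D16914) (tt N2523 (iv3 D7892)) (tt N5457 F12496) (tt N11406 D16915) (tt N7324 (iv6 F18442)) (tt N8015 (iv7 F20068)))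
theorem Q5459 : ∀ i, i < 5459 → P i := stepQ 5458 Q5458 (allL N5458 (tt N3845 F12497) (tt N3843 F12498) (tt N8019 (iv2 F20079)) (tt N11406 (iv3 F27724)) (tt N8016 (iv4 F20071)) (tt N2523 (iv5 D7893)) (tt N11407 D16916) (tt N8016 (iv7 F20070)))
theorem Q5460 : ∀ i, i < 5460 → P i := stepQ 5459 Q5459 (allL N5459 (tt N8603 (iv1 F26704)) (tt N11408 D16917) (tt N11409 D16918) (tt N2524 (iv3 D7894)) (tt N2532 F12499) (tt N11410 D16919) (tt N11411 D16920) (tt N5018 F12500))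
theorem Q5461 : ∀ i, i < 5461 → P i := stepQ 5460 Q5460 (allL N5460 (tt N7170 (iv1 F18073)) (tt N5350 F12503) (tt N4995 F12501) (tt N11410 (iv3 F27738)) (tt N4051 F12502) (tt N2524 (iv5 D7895)) (tt N11412 D16921) (tt N5645 (iv7 F12910)))
theorem Q5462 : ∀ i, i < 5462 → P i := stepQ 5461 Q5461 (allL N5461 (tt N11399 F27707) (tt N11402 (iv0 F27720)) (tt N4996 F12504) (tt N11411 (iv3 F27740)) (tt N2531 F12505) (tt N11413 D16922) (tt N2524 (iv6 D7896)) (tt N11414 D16923))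
theorem Q5463 : ∀ i, i < 5463 → P i := stepQ 5462 Q5462 (allL N5462 (tt N8601 (iv1 F21471)) (tt N2525 (iv0 D7897)) (tt N8600 (iv2 F26710)) (tt N5660 F12926) (tt N11415 D16924) (tt N11416 D16925) (tt N11417 D16926) (tt N8599 F26712))
theorem Q5464 : ∀ i, i < 5464 → P i := stepQ 5463 Q5463 (allL N5463 (tt N2525 (iv1 D7898)) (tt N8601 F21472) (tt N8599 F26709) (tt N5655 F26479) (tt N5060 (iv4 F12506)) (tt N11418 D16927) (tt N11419 D16928) (tt N8600 (iv7 F26708)))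
theorem Q5465 : ∀ i, i < 5465 → P i := stepQ 5464 Q5464 (allL N5464 (tt N8600 F21468) (tt N8599 F21466) (tt N2525 (iv2 D7899)) (tt N11390 (iv3 F27683)) (tt N2539 F12507) (tt N11420 D16929) (tt N11421 D16930) (tt N8601 (iv7 F21470)))
theorem Q5466 : ∀ i, i < 5466 → P i := stepQ 5465 Q5465 (allL N5465 (tt N10751 (iv1 F42284)) (tt N10754 (iv0 F30294)) (tt N11420 (iv2 F27762)) (tt N2526 F12508) (tt N11422 D16933) (tt N2525 (iv5 D7900)) (tt N11423 D16934) (tt N8602 (iv7 F21474)))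
theorem Q5467 : ∀ i, i < 5467 → P i := stepQ 5466 Q5466 (allL N5466 (tt N11424 D16935) (tt N11425 D16936) (tt N11421 (iv2 F27763)) (tt N2527 F12509) (tt N2540 F12510) (tt N11426 D16937) (tt N2525 (iv6 D7901)) (tt N11427 D16938))
theorem Q5468 : ∀ i, i < 5468 → P i := stepQ 5467 Q5467 (allL N5467 (tt N11428 D16939) (tt N11429 D16940) (tt N11392 (iv2 F27687)) (tt N11423 (iv3 F27768)) (tt N8037 (iv4 F20109)) (tt N11430 D16941) (tt N2526 (iv6 D7902)) (tt N11431 D16942))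
theorem Q5469 : ∀ i, i < 5469 → P i := stepQ 5468 Q5468 (allL N5468 (tt N11393 (iv1 F27695)) (tt N2527 (iv0 D7903)) (tt N5049 (iv2 F12513)) (tt N11425 F27769) (tt N2543 (iv4 F12598)) (tt N11432 D16943) (tt N11433 D16944) (tt N8549 (iv7 F21324)))
theorem Q5470 : ∀ i, i < 5470 → P i := stepQ 5469 Q5469 (allL N5469 (tt N2527 (iv1 D7904)) (tt N11393 F27694) (tt N8549 (iv2 F21323)) (tt N11434 D16945) (tt N3835 (iv4 F12595)) (tt N11435 D16946) (tt N11436 D16947) (tt N5049 F12512))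
theorem Q5471 : ∀ i, i < 5471 → P i := stepQ 5470 Q5470 (allL N5470 (tt N11437 D16948) (tt N11438 D16949) (tt N6612 (iv2 F26939)) (tt N11426 (iv3 F27775)) (tt N11439 D16950) (tt N2527 (iv5 D7905)) (tt N11430 (iv6 F27780)) (tt N11440 D16951))
theorem Q5472 : ∀ i, i < 5472 → P i := stepQ 5471 Q5471 (allL N5471 (tt N8549 F21326) (tt N5049 (iv0 F12516)) (tt N11393 (iv2 F27689)) (tt N11427 (iv3 F27776)) (tt N2530 F12515) (tt N11440 (iv5 F27795)) (tt N8606 (iv6 F21479)) (tt N2527 (iv7 D7906)))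
theorem Q5473 : ∀ i, i < 5473 → P i := stepQ 5472 Q5472 (allL N5472 (tt N8029 F20098) (tt N7166 (iv0 F18062)) (tt N8026 F20151) (tt N8027 F26935) (tt N2528 (iv4 D7909)) (tt N11441 D16952) (tt N11442 D16953) (tt N8027 F20146))
theorem Q5474 : ∀ i, i < 5474 → P i := stepQ 5473 Q5473 (allL N5473 (tt N7321 F18431) (tt N4354 (iv0 F12663)) (tt N11222 (iv2 F27332)) (tt N5096 (iv3 F12662)) (tt N11442 (iv4 F27798)) (tt N5095 F12661) (tt N2528 (iv6 D7911)) (tt N10681 (iv7 F25249)))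
theorem Q5475 : ∀ i, i < 5475 → P i := stepQ 5474 Q5474 (allL N5474 (tt N7166 (iv1 F20118)) (tt N8029 F20119) (tt N8027 (iv2 F20153)) (tt N11443 D16954) (tt N2529 (iv4 D7914)) (tt N11444 D16955) (tt N11445 D16956) (tt N8026 F20152))
theorem Q5476 : ∀ i, i < 5476 → P i := stepQ 5475 Q5475 (allL N5475 (tt N8943 F26281) (tt N7288 (iv0 F18339)) (tt N5058 F26282) (tt N5475 F20121) (tt N11382 (iv4 F27666)) (tt N2529 (iv5 D7915)) (tt N7260 (iv6 F18257)) (tt N8944 F26283))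
theorem Q5477 : ∀ i, i < 5477 → P i := stepQ 5476 Q5476 (allL N5476 (tt N9173 F22832) (tt N11401 F27716) (tt N11394 (iv2 F27696)) (tt N5476 F20122) (tt N11445 (iv4 F27800)) (tt N11446 D16957) (tt N2529 (iv6 D7916)) (tt N11446 (iv7 F27805)))
theorem Q5478 : ∀ i, i < 5478 → P i := stepQ 5477 Q5477 (allL N5477 (tt N4999 (iv1 F12528)) (tt N2531 (iv0 D7917)) (tt N4997 F12531) (tt N5454 (iv3 F21295)) (tt N11447 D16958) (tt N11448 D16959) (tt N8102 (iv6 F20226)) (tt N4998 F12530))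
theorem Q5479 : ∀ i, i < 5479 → P i := stepQ 5478 Q5478 (allL N5478 (tt N2531 (iv1 D7918)) (tt N4999 F12519) (tt N4998 F12523) (tt N4076 F12522) (tt N11449 D16960) (tt N3821 (iv5 F12521)) (tt N4561 (iv6 F12520)) (tt N4997 (iv7 F12532)))
theorem Q5480 : ∀ i, i < 5480 → P i := stepQ 5479 Q5479 (allL N5479 (tt N4998 (iv1 F12529)) (tt N4997 F12534) (tt N4999 F12524) (tt N2536 F12525) (tt N11414 (iv4 F27747)) (tt N5479 F12526) (tt N3514 F12527) (tt N2531 (iv7 D7919)))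
theorem Q5481 : ∀ i, i < 5481 → P i := stepQ 5480 Q5480 (allL N5480 (tt N5017 (iv1 F12536)) (tt N2532 (iv0 D7920)) (tt N5016 (iv2 F42904)) (tt N11055 (iv3 F25995)) (tt N11450 D16962) (tt N6093 F25996) (tt N11054 (iv6 F50850)) (tt N5015 F42902))
theorem Q5482 : ∀ i, i < 5482 → P i := stepQ 5481 Q5481 (allL N5481 (tt N2532 (iv1 D7921)) (tt N5017 F12540) (tt N5015 F42901) (tt N11451 D16965) (tt N11452 D16966) (tt N6094 (iv5 F30276)) (tt N11453 D16968) (tt N5016 (iv7 F42905)))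
theorem Q5483 : ∀ i, i < 5483 → P i := stepQ 5482 Q5482 (allL N5482 (tt N5016 (iv1 F12541)) (tt N5015 F12539) (tt N2532 (iv2 D7922)) (tt N5010 F12537) (tt N11409 (iv4 F27730)) (tt N10669 (iv5 F25192)) (tt N11454 D16969) (tt N5017 F12538))
theorem Q5484 : ∀ i, i < 5484 → P i := stepQ 5483 Q5483 (allL N5483 (tt N11455 D16970) (tt N11456 D16971) (tt N11454 (iv2 F27824)) (tt N2533 F12542) (tt N11411 (iv4 F27741)) (tt N11457 D16972) (tt N2532 (iv6 D7923)) (tt N11458 D16973))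
theorem Q5485 : ∀ i, i < 5485 → P i := stepQ 5484 Q5484 (allL N5484 (tt N10318 F24644) (tt N8240 (iv0 F26567)) (tt N5014 F12544) (tt N11457 (iv3 F27826)) (tt N11459 D16974) (tt N2533 (iv5 D7926)) (tt N10672 (iv6 F25202)) (tt N10316 (iv7 F24641)))
theorem Q5486 : ∀ i, i < 5486 → P i := stepQ 5485 Q5485 (allL N5485 (tt N4919 (iv1 F26604)) (tt N3921 F26590) (tt N4918 F26631) (tt N11458 (iv3 F27827)) (tt N2536 F12546) (tt N10316 (iv5 F24642)) (tt N3542 F12547) (tt N2533 (iv7 D7927)))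
theorem Q5487 : ∀ i, i < 5487 → P i := stepQ 5486 Q5486 (allL N5486 (tt N4368 F12568) (tt N4367 (iv0 F12569)) (tt N4369 F12565) (tt N7993 (iv3 F20042)) (tt N8260 (iv4 F20664)) (tt N2534 (iv5 D7928)) (tt N4372 F12566) (tt N3403 F12567))
theorem Q5488 : ∀ i, i < 5488 → P i := stepQ 5487 Q5487 (allL N5487 (tt N5337 F26875) (tt N11192 (iv0 F27281)) (tt N5022 F27229) (tt N2537 (iv3 D7930)) (tt N3976 F12571) (tt N11460 D16975) (tt N11461 D16976) (tt N5025 F27230))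
theorem Q5489 : ∀ i, i < 5489 → P i := stepQ 5488 Q5488 (allL N5488 (tt N11462 D16977) (tt N11463 D16978) (tt N8612 (iv2 F27255)) (tt N11464 D16979) (tt N2537 (iv4 D7931)) (tt N11465 D16980) (tt N11466 D16981) (tt N8609 F27252))
theorem Q5490 : ∀ i, i < 5490 → P i := stepQ 5489 Q5489 (allL N5489 (tt N5129 F27838) (tt N4012 F27839) (tt N5136 (iv2 F35187)) (tt N11460 (iv3 F27832)) (tt N11467 D16982) (tt N2537 (iv5 D7932)) (tt N11468 D16983) (tt N5135 F35186))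
theorem Q5491 : ∀ i, i < 5491 → P i := stepQ 5490 Q5490 (allL N5490 (tt N11469 D16984) (tt N10490 (iv0 F50649)) (tt N8613 F27256) (tt N11461 (iv3 F27847)) (tt N11466 (iv4 F27857)) (tt N11470 D16986) (tt N2537 (iv6 D7933)) (tt N11471 D16987))
theorem Q5492 : ∀ i, i < 5492 → P i := stepQ 5491 Q5491 (allL N5491 (tt N8617 (iv1 F27243)) (tt N8614 F27244) (tt N8615 (iv2 F27245)) (tt N2538 (iv3 D7935)) (tt N11472 D16988) (tt N11473 D16989) (tt N11474 D16990) (tt N8611 (iv7 F27240)))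
theorem Q5493 : ∀ i, i < 5493 → P i := stepQ 5492 Q5492 (allL N5492 (tt N11463 (iv1 F27852)) (tt N11462 F27850) (tt N8609 (iv2 F27246)) (tt N8032 (iv3 F20104)) (tt N2538 (iv4 D7936)) (tt N11475 D16991) (tt N11476 D16992) (tt N8612 (iv7 F27241)))
theorem Q5494 : ∀ i, i < 5494 → P i := stepQ 5493 Q5493 (allL N5493 (tt N4012 F27840) (tt N5129 F27841) (tt N5135 F35184) (tt N11473 (iv3 F27859)) (tt N11477 D16993) (tt N2538 (iv5 D7937)) (tt N11478 D16994) (tt N5136 (iv7 F35188)))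
theorem Q5495 : ∀ i, i < 5495 → P i := stepQ 5494 Q5494 (allL N5494 (tt N5315 F50509) (tt N11479 D16996) (tt N8610 (iv2 F27248)) (tt N11474 (iv3 F27860)) (tt N11476 (iv4 F27861)) (tt N11480 D16997) (tt N2538 (iv6 D7938)) (tt N11481 D16998))
theorem Q5496 : ∀ i, i < 5496 → P i := stepQ 5495 Q5495 (allL N5495 (tt N11482 D16999) (tt N11483 D17000) (tt N2540 F12573) (tt N8541 (iv3 F21300)) (tt N11421 (iv4 F27765)) (tt N11484 D17001) (tt N2539 (iv6 D7939)) (tt N11485 D17002))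
theorem Q5497 : ∀ i, i < 5497 → P i := stepQ 5496 Q5496 (allL N5496 (tt N11485 (iv1 F27870)) (tt N2540 (iv0 D7940)) (tt N11482 (iv2 F35038)) (tt N11486 D17004) (tt N11487 D17005) (tt N11488 D17006) (tt N11489 D17007) (tt N11483 (iv7 F35043)))
theorem Q5498 : ∀ i, i < 5498 → P i := stepQ 5497 Q5497 (allL N5497 (tt N2540 (iv1 D7941)) (tt N11485 F27869) (tt N11483 (iv2 F35042)) (tt N11482 (iv3 F35039)) (tt N11490 D17010) (tt N11491 D17011) (tt N11492 D17012) (tt N11482 (iv7 F35041)))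
theorem Q5499 : ∀ i, i < 5499 → P i := stepQ 5498 Q5498 (allL N5498 (tt N11493 D17013) (tt N11494 D17014) (tt N11484 (iv2 F27864)) (tt N2541 F12574) (tt N11495 D17015) (tt N2540 (iv5 D7942)) (tt N10978 (iv6 F25848)) (tt N11496 D17016))
theorem Q5500 : ∀ i, i < 5500 → P i := stepQ 5499 Q5499 (allL N5499 (tt N11483 (iv1 F27862)) (tt N11482 F27868) (tt N11485 (iv2 F27865)) (tt N2542 F12575) (tt N11427 (iv4 F27777)) (tt N11496 (iv5 F27875)) (tt N8617 (iv6 F21494)) (tt N2540 (iv7 D7943)))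
theorem Q5501 : ∀ i, i < 5501 → P i := stepQ 5500 Q5500 (allL N5500 (tt N8548 (iv1 F21316)) (tt N2541 (iv0 D7944)) (tt N8545 F21305) (tt N11497 D17017) (tt N10592 (iv4 F24982)) (tt N8252 (iv5 F20648)) (tt N11498 D17018) (tt N8546 (iv7 F21309)))
theorem Q5502 : ∀ i, i < 5502 → P i := stepQ 5501 Q5501 (allL N5501 (tt N2541 (iv1 D7945)) (tt N8548 F21315) (tt N8546 F21311) (tt N11499 D17019) (tt N10593 (iv4 F24983)) (tt N4575 F12576) (tt N11500 D17020) (tt N8545 F21306))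
theorem Q5503 : ∀ i, i < 5503 → P i := stepQ 5502 Q5502 (allL N5502 (tt N11501 D17021) (tt N11012 F308633) (tt N8547 (iv2 F21312)) (tt N11502 D17023) (tt N2541 (iv4 D7946)) (tt N11503 D17024) (tt N10358 (iv6 F310735)) (tt N11504 D17025))
theorem Q5504 : ∀ i, i < 5504 → P i := stepQ 5503 Q5503 (allL N5503 (tt N8546 (iv1 F21308)) (tt N8545 F21307) (tt N8548 (iv2 F21313)) (tt N11496 (iv3 F27874)) (tt N11504 (iv4 F27890)) (tt N2542 F12577) (tt N11505 D17026) (tt N2541 (iv7 D7947)))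
theorem Q5505 : ∀ i, i < 5505 → P i := stepQ 5504 Q5504 (allL N5504 (tt N3835 (iv1 F12593)) (tt N2543 (iv0 D7954)) (tt N3836 (iv2 F12588)) (tt N5450 F12589) (tt N11506 D17027) (tt N3841 F12590) (tt N3841 F12591) (tt N3380 F12592))
theorem Q5506 : ∀ i, i < 5506 → P i := stepQ 5505 Q5505 (allL N5505 (tt N7408 F18627) (tt N9177 F22847) (tt N5050 F12665) (tt N2545 F12666) (tt N10753 F26506) (tt N2543 (iv5 D7955)) (tt N11507 D17028) (tt N8550 (iv7 F21329)))
theorem Q5507 : ∀ i, i < 5507 → P i := stepQ 5506 Q5506 (allL N5506 (tt N7692 F19126) (tt N3813 (iv0 F12673)) (tt N4891 F12667) (tt N2546 F12668) (tt N11433 (iv4 F27784)) (tt N3848 F12669) (tt N2543 (iv6 D7956)) (tt N9109 (iv7 F22763)))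
theorem Q5508 : ∀ i, i < 5508 → P i := stepQ 5507 Q5507 (allL N5507 (tt N11508 D17029) (tt N11453 (iv0 F54154)) (tt N11509 D17031) (tt N2544 (iv3 D7957)) (tt N11425 F27770) (tt N11510 D17032) (tt N11511 D17033) (tt N5042 F12682))
theorem Q5509 : ∀ i, i < 5509 → P i := stepQ 5508 Q5508 (allL N5508 (tt N8250 (iv1 F20636)) (tt N10327 (iv0 F26551)) (tt N5041 F12683) (tt N11510 (iv3 F27913)) (tt N4986 (iv4 F309350)) (tt N2544 (iv5 D7958)) (tt N4778 (iv6 F311235)) (tt N5043 F12684))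
theorem Q5510 : ∀ i, i < 5510 → P i := stepQ 5509 Q5509 (allL N5509 (tt N4890 (iv1 F12689)) (tt N3923 (iv0 F12688)) (tt N4887 F12685) (tt N11511 (iv3 F27915)) (tt N2546 F12686) (tt N4779 (iv5 F316028)) (tt N2544 (iv6 D7959)) (tt N4888 (iv7 F12687)))
theorem Q5511 : ∀ i, i < 5511 → P i := stepQ 5510 Q5510 (allL N5510 (tt N3403 F12699) (tt N4369 F12700) (tt N4368 F12695) (tt N11507 (iv3 F27902)) (tt N4931 F12696) (tt N4367 F12697) (tt N2545 (iv6 D7961)) (tt N4367 F12698))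
theorem Q5512 : ∀ i, i < 5512 → P i := stepQ 5511 Q5511 (allL N5511 (tt N11053 F54130) (tt N11512 D17037) (tt N11513 D17038) (tt N2547 (iv3 D7962)) (tt N5054 F12701) (tt N11514 D17039) (tt N11515 D17040) (tt N5040 F12702))
theorem Q5513 : ∀ i, i < 5513 → P i := stepQ 5512 Q5512 (allL N5512 (tt N10327 (iv1 F26552)) (tt N8250 (iv0 F20635)) (tt N5043 F12703) (tt N11514 (iv3 F27933)) (tt N11516 D17041) (tt N2547 (iv5 D7963)) (tt N11517 D17042) (tt N5041 F12704))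
theorem Q5514 : ∀ i, i < 5514 → P i := stepQ 5513 Q5513 (allL N5513 (tt N8476 (iv1 F21181)) (tt N8478 F21194) (tt N5044 F12707) (tt N11515 (iv3 F27935)) (tt N2549 F12708) (tt N10699 (iv5 F26520)) (tt N2547 (iv6 D7964)) (tt N11047 (iv7 F25948)))
theorem Q5515 : ∀ i, i < 5515 → P i := stepQ 5514 Q5514 (allL N5514 (tt N5438 F12715) (tt N5436 (iv0 F12716)) (tt N8552 (iv2 F21335)) (tt N4894 F12713) (tt N11047 (iv4 F25944)) (tt N2549 (iv5 D7966)) (tt N4360 F12714) (tt N2549 F12717))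
theorem Q5516 : ∀ i, i < 5516 → P i := stepQ 5515 Q5515 (allL N5515 (tt N5567 (iv1 F12846)) (tt N4131 F12847) (tt N4063 F12718) (tt N5673 F12960) (tt N2550 (iv4 D7967)) (tt N11518 D17043) (tt N8779 (iv6 F21977)) (tt N4060 F12719))
theorem Q5517 : ∀ i, i < 5517 → P i := stepQ 5516 Q5516 (allL N5516 (tt N2570 (iv1 F12724)) (tt N2574 F12796) (tt N6108 (iv2 F13890)) (tt N2551 (iv3 D7970)) (tt N5675 (iv4 F12964)) (tt N8719 (iv5 F21895)) (tt N11519 D17044) (tt N4062 F12723))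
theorem Q5518 : ∀ i, i < 5518 → P i := stepQ 5517 Q5517 (allL N5517 (tt N4131 (iv1 F12848)) (tt N5567 (iv0 F12845)) (tt N4060 F12725) (tt N4088 F12727) (tt N2551 (iv4 D7971)) (tt N11520 D17045) (tt N11521 D17046) (tt N4063 F12726))
theorem Q5519 : ∀ i, i < 5519 → P i := stepQ 5518 Q5518 (allL N5518 (tt N2600 F21439) (tt N8594 F21446) (tt N4061 F12731) (tt N11519 (iv3 F27951)) (tt N11521 (iv4 F27959)) (tt N11522 D17047) (tt N2551 (iv6 D7973)) (tt N8593 (iv7 F21436)))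
theorem Q5520 : ∀ i, i < 5520 → P i := stepQ 5519 Q5519 (allL N5519 (tt N4067 (iv1 F12735)) (tt N4066 F12736) (tt N2553 F12732) (tt N5371 F12733) (tt N11523 D17048) (tt N2552 (iv5 D7974)) (tt N11524 D17049) (tt N4065 F12734))
theorem Q5521 : ∀ i, i < 5521 → P i := stepQ 5520 Q5520 (allL N5520 (tt N4217 (iv1 F12741)) (tt N4216 F12742) (tt N2554 F12737) (tt N5372 F12738) (tt N5520 F12739) (tt N11525 D17050) (tt N2552 (iv6 D7975)) (tt N4182 F12740))
theorem Q5522 : ∀ i, i < 5522 → P i := stepQ 5521 Q5521 (allL N5521 (tt N8706 (iv1 F21848)) (tt N8715 (iv0 F21879)) (tt N11523 (iv2 F27964)) (tt N5340 F12745) (tt N2553 (iv4 D7978)) (tt N11526 D17051) (tt N11527 D17052) (tt N4068 F12746))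
theorem Q5523 : ∀ i, i < 5523 → P i := stepQ 5522 Q5522 (allL N5522 (tt N11528 D17053) (tt N11529 D17054) (tt N11524 (iv2 F27968)) (tt N2555 F12747) (tt N11527 (iv4 F27978)) (tt N11530 D17055) (tt N2553 (iv6 D7979)) (tt N11531 D17056))
theorem Q5524 : ∀ i, i < 5524 → P i := stepQ 5523 Q5523 (allL N5523 (tt N4182 (iv1 F12748)) (tt N2554 (iv0 D7980)) (tt N4217 (iv2 F14034)) (tt N6232 (iv3 F14170)) (tt N11532 D17057) (tt N11533 D17058) (tt N5635 F17535) (tt N4216 F14033))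
theorem Q5525 : ∀ i, i < 5525 → P i := stepQ 5524 Q5524 (allL N5524 (tt N11534 D17059) (tt N11522 (iv0 F27962)) (tt N11525 (iv2 F27970)) (tt N2556 F12750) (tt N11535 D17060) (tt N2554 (iv5 D7982)) (tt N11530 (iv6 F27980)) (tt N4218 F12751))
theorem Q5526 : ∀ i, i < 5526 → P i := stepQ 5525 Q5525 (allL N5525 (tt N5421 F12753) (tt N2555 (iv0 D7983)) (tt N5422 F43158) (tt N11536 D17062) (tt N10524 (iv4 F43128)) (tt N11537 D17064) (tt N5419 F12752) (tt N5423 (iv7 F43164)))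
theorem Q5527 : ∀ i, i < 5527 → P i := stepQ 5526 Q5526 (allL N5526 (tt N2555 (iv1 D7984)) (tt N5421 F12754) (tt N5423 (iv2 F43163)) (tt N11538 D17066) (tt N10525 (iv4 F43174)) (tt N11539 D17068) (tt N11540 D17069) (tt N5422 F43159))
theorem Q5528 : ∀ i, i < 5528 → P i := stepQ 5527 Q5527 (allL N5527 (tt N11541 D17070) (tt N11542 D17071) (tt N5424 F12755) (tt N11530 (iv3 F27979)) (tt N11543 D17072) (tt N2555 (iv5 D7985)) (tt N2556 F12756) (tt N11544 D17073))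
theorem Q5529 : ∀ i, i < 5529 → P i := stepQ 5528 Q5528 (allL N5528 (tt N5423 (iv1 F12760)) (tt N5422 F12761) (tt N5421 F12757) (tt N11531 (iv3 F27981)) (tt N5345 F12758) (tt N11544 (iv5 F28009)) (tt N4074 F12759) (tt N2555 (iv7 D7986)))
theorem Q5530 : ∀ i, i < 5530 → P i := stepQ 5529 Q5529 (allL N5529 (tt N6045 (iv1 F13745)) (tt N2597 F12765) (tt N5425 F12762) (tt N11545 D17074) (tt N2556 (iv4 D7987)) (tt N2797 F12764) (tt N11543 (iv6 F28007)) (tt N4253 F12763))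
theorem Q5531 : ∀ i, i < 5531 → P i := stepQ 5530 Q5530 (allL N5530 (tt N5375 (iv1 F12769)) (tt N5365 (iv0 F12813)) (tt N5378 F12766) (tt N5383 F12767) (tt N2557 (iv4 D7988)) (tt N11546 D17075) (tt N11547 D17076) (tt N5376 F12768))
theorem Q5532 : ∀ i, i < 5532 → P i := stepQ 5531 Q5531 (allL N5531 (tt N6047 F13767) (tt N2586 F13768) (tt N6049 F13762) (tt N8506 (iv3 F21247)) (tt N11548 D17077) (tt N2557 (iv5 D7989)) (tt N11549 D17078) (tt N6048 (iv7 F13766)))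
theorem Q5533 : ∀ i, i < 5533 → P i := stepQ 5532 Q5532 (allL N5532 (tt N5537 F13769) (tt N2645 F13770) (tt N5542 F13589) (tt N8507 (iv3 F21249)) (tt N11547 (iv4 F28024)) (tt N11550 D17079) (tt N2557 (iv6 D7990)) (tt N5541 (iv7 F13590)))
theorem Q5534 : ∀ i, i < 5534 → P i := stepQ 5533 Q5533 (allL N5533 (tt N2843 F12774) (tt N2622 (iv0 F12773)) (tt N6147 F13953) (tt N2558 (iv3 D7991)) (tt N2970 F12772) (tt N6629 (iv5 F15945)) (tt N11551 D17080) (tt N6148 (iv7 F13956)))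
theorem Q5535 : ∀ i, i < 5535 → P i := stepQ 5534 Q5534 (allL N5534 (tt N2586 F13757) (tt N6047 (iv0 F13756)) (tt N6048 (iv2 F13765)) (tt N6629 F15946) (tt N11552 D17081) (tt N2558 (iv5 D7992)) (tt N11553 D17082) (tt N6049 F13763))
theorem Q5536 : ∀ i, i < 5536 → P i := stepQ 5535 Q5535 (allL N5535 (tt N2592 F17607) (tt N8586 F21418) (tt N8553 (iv2 F21340)) (tt N11551 (iv3 F28028)) (tt N5377 F12775) (tt N11554 D17083) (tt N2558 (iv6 D7993)) (tt N8585 F27419))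
theorem Q5537 : ∀ i, i < 5537 → P i := stepQ 5536 Q5536 (allL N5536 (tt N5728 (iv1 F13309)) (tt N5726 (iv0 F13315)) (tt N2560 F12776) (tt N5755 (iv3 F13139)) (tt N11555 D17084) (tt N2559 (iv5 D7994)) (tt N11556 D17085) (tt N5749 (iv7 F13127)))
theorem Q5538 : ∀ i, i < 5538 → P i := stepQ 5537 Q5537 (allL N5537 (tt N5719 (iv1 F13042)) (tt N5532 (iv0 F13769)) (tt N2561 F12777) (tt N5715 (iv3 F13027)) (tt N5537 F12778) (tt N11557 D17086) (tt N2559 (iv6 D7995)) (tt N5720 (iv7 F13040)))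
theorem Q5539 : ∀ i, i < 5539 → P i := stepQ 5538 Q5538 (allL N5538 (tt N5749 (iv1 F13128)) (tt N2560 (iv0 D7996)) (tt N5728 F13311) (tt N8700 (iv3 F21817)) (tt N11558 D17087) (tt N2798 (iv5 F13310)) (tt N6814 (iv6 F296135)) (tt N5726 F13312))
theorem Q5540 : ∀ i, i < 5540 → P i := stepQ 5539 Q5539 (allL N5539 (tt N11559 D17091) (tt N11270 (iv0 F27477)) (tt N11555 (iv2 F28033)) (tt N10664 (iv3 F25180)) (tt N2560 (iv4 D7998)) (tt N11560 D17092) (tt N11561 D17093) (tt N5750 (iv7 F13131)))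
theorem Q5541 : ∀ i, i < 5541 → P i := stepQ 5540 Q5540 (allL N5540 (tt N11562 D17094) (tt N11563 D17095) (tt N11556 (iv2 F28035)) (tt N2562 F12779) (tt N11561 (iv4 F28040)) (tt N11564 D17096) (tt N2560 (iv6 D7999)) (tt N11565 D17097))
theorem Q5542 : ∀ i, i < 5542 → P i := stepQ 5541 Q5541 (allL N5541 (tt N5720 (iv1 F13041)) (tt N2561 (iv0 D8000)) (tt N5719 F13772) (tt N8782 (iv3 F21982)) (tt N11566 D17098) (tt N11567 D17099) (tt N5617 F21420) (tt N5532 F13590))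
theorem Q5543 : ∀ i, i < 5543 → P i := stepQ 5542 Q5542 (allL N5542 (tt N2561 (iv1 D8001)) (tt N5720 F13043) (tt N5532 (iv2 F13589)) (tt N6711 F16940) (tt N5940 (iv4 F13587)) (tt N11568 D17100) (tt N4089 F13588) (tt N5719 (iv7 F13771)))
theorem Q5544 : ∀ i, i < 5544 → P i := stepQ 5543 Q5543 (allL N5543 (tt N11569 D17101) (tt N11554 (iv0 F28032)) (tt N11557 (iv2 F28036)) (tt N2563 F12780) (tt N11570 D17102) (tt N2561 (iv5 D8002)) (tt N11564 (iv6 F28042)) (tt N5721 (iv7 F13045)))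
theorem Q5545 : ∀ i, i < 5545 → P i := stepQ 5544 Q5544 (allL N5544 (tt N5760 (iv1 F13151)) (tt N2562 (iv0 D8003)) (tt N5758 F51288) (tt N11571 D17104) (tt N5343 (iv4 F28972)) (tt N11572 D17106) (tt N11573 D17107) (tt N5759 F51289))
theorem Q5546 : ∀ i, i < 5546 → P i := stepQ 5545 Q5545 (allL N5545 (tt N2562 (iv1 D8004)) (tt N5760 F13150) (tt N5759 (iv2 F51285)) (tt N11574 D17109) (tt N5344 (iv4 F28975)) (tt N11575 D17111) (tt N11576 D17112) (tt N5758 (iv7 F51286)))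
theorem Q5547 : ∀ i, i < 5547 → P i := stepQ 5546 Q5546 (allL N5546 (tt N8568 (iv1 F296840)) (tt N11577 D17114) (tt N5718 (iv2 F13035)) (tt N11564 (iv3 F28041)) (tt N11578 D17115) (tt N2562 (iv5 D8005)) (tt N2563 F12781) (tt N11579 D17116))
theorem Q5548 : ∀ i, i < 5548 → P i := stepQ 5547 Q5547 (allL N5547 (tt N5759 (iv1 F13146)) (tt N5758 F13149) (tt N5760 (iv2 F13147)) (tt N11565 (iv3 F28043)) (tt N10668 (iv4 F25185)) (tt N11579 (iv5 F28054)) (tt N5754 (iv6 F13135)) (tt N2562 (iv7 D8006)))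
theorem Q5549 : ∀ i, i < 5549 → P i := stepQ 5548 Q5548 (allL N5548 (tt N8864 (iv1 F22123)) (tt N6059 (iv0 F13801)) (tt N5717 (iv2 F13032)) (tt N11580 D17117) (tt N2563 (iv4 D8007)) (tt N5628 (iv5 F12889)) (tt N11578 (iv6 F28053)) (tt N5722 (iv7 F13047)))
theorem Q5550 : ∀ i, i < 5550 → P i := stepQ 5549 Q5549 (allL N5549 (tt N6468 F17514) (tt N2594 F17515) (tt N6254 (iv2 F14271)) (tt N6249 (iv3 F14250)) (tt N6252 (iv4 F14265)) (tt N11581 D17118) (tt N2564 (iv6 D8008)) (tt N6469 (iv7 F17557)))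
theorem Q5551 : ∀ i, i < 5551 → P i := stepQ 5550 Q5550 (allL N5550 (tt N5364 F12973) (tt N2569 F12974) (tt N6263 (iv2 F14303)) (tt N2565 (iv3 D8009)) (tt N6263 (iv4 F14305)) (tt N6078 (iv5 F13854)) (tt N11582 D17119) (tt N6253 (iv7 F14268)))
theorem Q5552 : ∀ i, i < 5552 → P i := stepQ 5551 Q5551 (allL N5551 (tt N2643 F12783) (tt N6063 (iv0 F13825)) (tt N6091 F13863) (tt N11582 (iv3 F28057)) (tt N3303 F12782) (tt N11583 D17120) (tt N2565 (iv6 D8010)) (tt N6092 (iv7 F13866)))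
theorem Q5553 : ∀ i, i < 5553 → P i := stepQ 5552 Q5552 (allL N5552 (tt N2814 (iv1 F12786)) (tt N2812 F12785) (tt N2567 F12784) (tt N5749 (iv3 F13125)) (tt N11584 D17121) (tt N2566 (iv5 D8011)) (tt N11585 D17122) (tt N5755 (iv7 F13141)))
theorem Q5554 : ∀ i, i < 5554 → P i := stepQ 5553 Q5553 (allL N5553 (tt N6744 (iv1 F296091)) (tt N8701 (iv0 F21828)) (tt N11584 (iv2 F28064)) (tt N10670 (iv3 F25197)) (tt N2567 (iv4 D8012)) (tt N11586 D17124) (tt N11587 D17125) (tt N5756 (iv7 F13144)))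
theorem Q5555 : ∀ i, i < 5555 → P i := stepQ 5554 Q5554 (allL N5554 (tt N11588 D17126) (tt N11589 D17127) (tt N11585 (iv2 F28067)) (tt N2568 F12787) (tt N11587 (iv4 F28072)) (tt N2820 F12788) (tt N2567 (iv6 D8013)) (tt N11590 D17128))
theorem Q5556 : ∀ i, i < 5556 → P i := stepQ 5555 Q5555 (allL N5555 (tt N5754 (iv1 F13138)) (tt N2568 (iv0 D8014)) (tt N5752 F51242) (tt N11591 D17130) (tt N5409 F28964) (tt N11592 D17132) (tt N11593 D17133) (tt N5753 F51243))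
theorem Q5557 : ∀ i, i < 5557 → P i := stepQ 5556 Q5556 (allL N5556 (tt N2568 (iv1 D8015)) (tt N5754 F13137) (tt N5753 (iv2 F51239)) (tt N11573 F297129) (tt N5410 F28979) (tt N11573 (iv5 F28051)) (tt N11571 (iv6 F298261)) (tt N5752 (iv7 F51240)))
theorem Q5558 : ∀ i, i < 5558 → P i := stepQ 5557 Q5557 (allL N5557 (tt N5753 (iv1 F13133)) (tt N5752 F13136) (tt N5754 (iv2 F13134)) (tt N11590 (iv3 F28073)) (tt N10673 (iv4 F25204)) (tt N2827 F12789) (tt N5760 (iv6 F13148)) (tt N2568 (iv7 D8016)))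
theorem Q5559 : ∀ i, i < 5559 → P i := stepQ 5558 Q5558 (allL N5558 (tt N6263 (iv1 F14307)) (tt N6253 (iv0 F14269)) (tt N2569 (iv2 D8024)) (tt N8501 (iv3 F21237)) (tt N2803 (iv4 F12831)) (tt N6802 F16663) (tt N11238 (iv6 F27384)) (tt N5364 (iv7 F12801)))
theorem Q5560 : ∀ i, i < 5560 → P i := stepQ 5559 Q5559 (allL N5559 (tt N6787 (iv1 F16665)) (tt N6805 F16673) (tt N6802 (iv2 F16664)) (tt N2571 F12803) (tt N6900 F17201) (tt N2569 (iv5 D8025)) (tt N11594 D17138) (tt N5738 (iv7 F13456)))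
theorem Q5561 : ∀ i, i < 5561 → P i := stepQ 5560 Q5560 (allL N5560 (tt N11595 D17139) (tt N7030 (iv0 F17375)) (tt N11238 (iv2 F27383)) (tt N2572 F12804) (tt N5366 F12805) (tt N11596 D17140) (tt N2569 (iv6 D8026)) (tt N5729 F16988))
theorem Q5562 : ∀ i, i < 5562 → P i := stepQ 5561 Q5561 (allL N5561 (tt N5378 F12812) (tt N5376 F12839) (tt N5365 F12810) (tt N2570 (iv3 D8028)) (tt N5365 F12811) (tt N5838 F296007) (tt N11597 D17141) (tt N5375 (iv7 F12815)))
theorem Q5563 : ∀ i, i < 5563 → P i := stepQ 5562 Q5562 (allL N5562 (tt N11598 D17143) (tt N8505 (iv0 F21641)) (tt N8623 (iv2 F21513)) (tt N11597 (iv3 F28083)) (tt N2572 F12840) (tt N11599 D17144) (tt N2570 (iv6 D8030)) (tt N5732 F17004))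
theorem Q5564 : ∀ i, i < 5564 → P i := stepQ 5563 Q5563 (allL N5563 (tt N11274 (iv1 F27500)) (tt N11600 D17145) (tt N5742 F13454) (tt N5912 F13554) (tt N2571 (iv4 D8033)) (tt N5911 (iv5 F13555)) (tt N11601 D17146) (tt N5739 (iv7 F13457)))
theorem Q5565 : ∀ i, i < 5565 → P i := stepQ 5564 Q5564 (allL N5564 (tt N11602 D17147) (tt N11574 (iv0 F91277)) (tt N5743 F13455) (tt N11594 (iv3 F28077)) (tt N11601 (iv4 F28095)) (tt N11603 D17149) (tt N2571 (iv6 D8034)) (tt N11604 D17150))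
theorem Q5566 : ∀ i, i < 5566 → P i := stepQ 5565 Q5565 (allL N5565 (tt N4140 (iv1 F13355)) (tt N2572 (iv0 D8035)) (tt N4142 (iv2 F13350)) (tt N5685 F13351) (tt N5685 F13352) (tt N7861 F324963) (tt N5576 F13353) (tt N4135 F13354))
theorem Q5567 : ∀ i, i < 5567 → P i := stepQ 5566 Q5566 (allL N5566 (tt N7841 F324978) (tt N2584 F17009) (tt N8624 (iv2 F21516)) (tt N11596 (iv3 F28081)) (tt N7836 F324979) (tt N2572 (iv5 D8037)) (tt N11603 (iv6 F28096)) (tt N5733 (iv7 F17010)))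
theorem Q5568 : ∀ i, i < 5568 → P i := stepQ 5567 Q5567 (allL N5567 (tt N5517 F12845) (tt N5515 F12846) (tt N2573 (iv2 D8039)) (tt N5364 F12843) (tt N2573 (iv4 F12844)) (tt N8705 (iv5 F21843)) (tt N5734 (iv6 F16987)) (tt N8501 (iv7 F21240)))
theorem Q5569 : ∀ i, i < 5569 → P i := stepQ 5568 Q5568 (allL N5568 (tt N8708 F21853) (tt N8700 F21844) (tt N8705 F21842) (tt N2575 F12849) (tt N8710 (iv4 F21862)) (tt N2573 (iv5 D8040)) (tt N11605 D17154) (tt N5741 F13452))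
theorem Q5570 : ∀ i, i < 5570 → P i := stepQ 5569 Q5569 (allL N5569 (tt N11600 (iv1 F28092)) (tt N11274 (iv0 F27499)) (tt N5739 F13458) (tt N11606 D17156) (tt N2575 (iv4 D8044)) (tt N11607 D17157) (tt N11608 D17158) (tt N5742 F13453))
theorem Q5571 : ∀ i, i < 5571 → P i := stepQ 5570 Q5570 (allL N5570 (tt N11591 F91258) (tt N11609 D17160) (tt N5740 (iv2 F13469)) (tt N11605 (iv3 F28105)) (tt N11608 (iv4 F28107)) (tt N5582 (iv5 F17008)) (tt N2575 (iv6 D8045)) (tt N11610 D17161))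
theorem Q5572 : ∀ i, i < 5572 → P i := stepQ 5571 Q5571 (allL N5571 (tt N8635 (iv1 F21551)) (tt N8634 F21548) (tt N2580 F12854) (tt N11611 D17162) (tt N2576 (iv4 D8050)) (tt N11612 D17163) (tt N11613 D17164) (tt N8625 (iv7 F21521)))
theorem Q5573 : ∀ i, i < 5573 → P i := stepQ 5572 Q5572 (allL N5572 (tt N11614 D17165) (tt N11615 D17166) (tt N2581 F12855) (tt N8555 (iv3 F21346)) (tt N11613 (iv4 F28111)) (tt N11616 D17167) (tt N2576 (iv6 D8051)) (tt N11617 D17168))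
theorem Q5574 : ∀ i, i < 5574 → P i := stepQ 5573 Q5573 (allL N5573 (tt N2585 (iv1 F12859)) (tt N2577 (iv0 D8052)) (tt N2582 F21680) (tt N11618 D17169) (tt N5784 F296116) (tt N8644 (iv5 F21567)) (tt N4164 (iv6 F21568)) (tt N2583 F21681))
theorem Q5575 : ∀ i, i < 5575 → P i := stepQ 5574 Q5574 (allL N5574 (tt N2577 (iv1 D8053)) (tt N2585 F12856) (tt N2583 F21676) (tt N11619 D17171) (tt N11620 D17172) (tt N8643 F21677) (tt N5574 F21678) (tt N2582 F21679))
theorem Q5576 : ∀ i, i < 5576 → P i := stepQ 5575 Q5575 (allL N5575 (tt N8624 F21519) (tt N5733 (iv0 F13430)) (tt N2584 F12857) (tt N8557 (iv3 F21355)) (tt N8926 (iv4 F323877)) (tt N2577 (iv5 D8054)) (tt N11616 (iv6 F28114)) (tt N7841 (iv7 F324226)))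
theorem Q5577 : ∀ i, i < 5577 → P i := stepQ 5576 Q5576 (allL N5576 (tt N2583 (iv1 F12860)) (tt N2582 F12861) (tt N2585 F12858) (tt N8558 (iv3 F21358)) (tt N8558 (iv4 F21359)) (tt N7841 (iv5 F324225)) (tt N5565 (iv6 F13353)) (tt N2577 (iv7 D8055)))
theorem Q5578 : ∀ i, i < 5578 → P i := stepQ 5577 Q5577 (allL N5577 (tt N6078 (iv1 F21537)) (tt N6261 (iv0 F14290)) (tt N8671 (iv2 F21734)) (tt N2578 (iv3 D8057)) (tt N5970 F13628) (tt N2652 F13442) (tt N11621 D17174) (tt N8628 (iv7 F21535)))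
theorem Q5579 : ∀ i, i < 5579 → P i := stepQ 5578 Q5578 (allL N5578 (tt N5899 (iv1 F13543)) (tt N11622 D17175) (tt N8632 (iv2 F21544)) (tt N5920 F13562) (tt N2578 (iv4 D8058)) (tt N6841 (iv5 F16732)) (tt N11623 D17176) (tt N8629 (iv7 F21539)))
theorem Q5580 : ∀ i, i < 5580 → P i := stepQ 5579 Q5579 (allL N5579 (tt N8640 (iv1 F297159)) (tt N8626 (iv0 F297157)) (tt N8633 (iv2 F21546)) (tt N11621 (iv3 F28134)) (tt N11623 (iv4 F28136)) (tt N11624 D17179) (tt N2578 (iv6 D8060)) (tt N8638 (iv7 F297160)))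
theorem Q5581 : ∀ i, i < 5581 → P i := stepQ 5580 Q5580 (allL N5580 (tt N8502 (iv1 F21242)) (tt N8506 (iv0 F21841)) (tt N11625 D17181) (tt N2579 (iv3 D8062)) (tt N11626 D17182) (tt N2655 F13438) (tt N11627 D17183) (tt N8631 (iv7 F21543)))
theorem Q5582 : ∀ i, i < 5582 → P i := stepQ 5581 Q5581 (allL N5581 (tt N11622 (iv1 F28135)) (tt N5899 (iv0 F16298)) (tt N8629 (iv2 F21538)) (tt N11628 D17184) (tt N2579 (iv4 D8063)) (tt N11629 D17185) (tt N11630 D17186) (tt N8632 (iv7 F21545)))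
theorem Q5583 : ∀ i, i < 5583 → P i := stepQ 5582 Q5582 (allL N5582 (tt N6098 F91174) (tt N11631 D17188) (tt N8630 (iv2 F21540)) (tt N11627 (iv3 F28148)) (tt N11630 (iv4 F28151)) (tt N5570 F17008) (tt N2579 (iv6 D8065)) (tt N11632 D17189))
theorem Q5584 : ∀ i, i < 5584 → P i := stepQ 5583 Q5583 (allL N5583 (tt N8625 (iv1 F21523)) (tt N2580 (iv0 D8066)) (tt N8635 F21554) (tt N11633 D17190) (tt N8655 (iv4 F21591)) (tt N11634 D17191) (tt N11635 D17192) (tt N8634 F21550))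
theorem Q5585 : ∀ i, i < 5585 → P i := stepQ 5584 Q5584 (allL N5584 (tt N2580 (iv1 D8067)) (tt N8625 (iv0 F21522)) (tt N8634 F21549) (tt N11636 D17193) (tt N6727 F16296) (tt N11637 D17194) (tt N11638 D17195) (tt N8635 (iv7 F21552)))
theorem Q5586 : ∀ i, i < 5586 → P i := stepQ 5585 Q5585 (allL N5585 (tt N11639 D17196) (tt N11640 D17197) (tt N11612 (iv2 F28108)) (tt N10990 (iv3 F25862)) (tt N11023 F301119) (tt N2580 (iv5 D8068)) (tt N11641 D17199) (tt N8636 (iv7 F21555)))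
theorem Q5587 : ∀ i, i < 5587 → P i := stepQ 5586 Q5586 (allL N5586 (tt N11642 D17200) (tt N11643 D17201) (tt N11613 (iv2 F28110)) (tt N10991 (iv3 F25864)) (tt N2581 F12864) (tt N11644 D17202) (tt N2580 (iv6 D8069)) (tt N11645 D17203))
theorem Q5588 : ∀ i, i < 5588 → P i := stepQ 5587 Q5587 (allL N5587 (tt N11617 (iv1 F28118)) (tt N2581 (iv0 D8070)) (tt N11614 F91336) (tt N11646 D17205) (tt N11647 D17206) (tt N11648 D17207) (tt N11649 D17208) (tt N11615 (iv7 F91348)))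
theorem Q5589 : ∀ i, i < 5589 → P i := stepQ 5588 Q5588 (allL N5588 (tt N2581 (iv1 D8071)) (tt N11617 F28117) (tt N11615 (iv2 F91347)) (tt N11650 D17210) (tt N11651 D17211) (tt N11652 D17212) (tt N11615 (iv6 F301593)) (tt N11614 F91342))
theorem Q5590 : ∀ i, i < 5590 → P i := stepQ 5589 Q5589 (allL N5589 (tt N11653 D17214) (tt N11603 (iv0 F298981)) (tt N11616 (iv2 F28113)) (tt N2590 F12865) (tt N8920 F325085) (tt N2581 (iv5 D8072)) (tt N2584 F12866) (tt N7839 F325086))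
theorem Q5591 : ∀ i, i < 5591 → P i := stepQ 5590 Q5590 (allL N5590 (tt N11615 (iv1 F28112)) (tt N11614 F28116) (tt N11617 (iv2 F28115)) (tt N2591 F12867) (tt N11645 (iv4 F28160)) (tt N7839 F324266) (tt N8640 (iv6 F21560)) (tt N2581 (iv7 D8073)))
theorem Q5592 : ∀ i, i < 5592 → P i := stepQ 5591 Q5591 (allL N5591 (tt N11654 D17218) (tt N6262 (iv0 F21533)) (tt N11655 D17219) (tt N2582 (iv3 D8075)) (tt N5837 (iv4 F21531)) (tt N11656 D17220) (tt N5836 F21530) (tt N11619 (iv7 F28126)))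
theorem Q5593 : ∀ i, i < 5593 → P i := stepQ 5592 Q5592 (allL N5592 (tt N11657 D17221) (tt N11519 (iv0 F28309)) (tt N5784 (iv2 F296000)) (tt N11658 D17223) (tt N2582 (iv4 D8076)) (tt N6480 (iv5 F296002)) (tt N2679 F295899) (tt N11620 (iv7 F28130)))
theorem Q5594 : ∀ i, i < 5594 → P i := stepQ 5593 Q5593 (allL N5593 (tt N8627 (iv1 F21528)) (tt N7663 F324980) (tt N8644 (iv2 F21700)) (tt N11656 (iv3 F28168)) (tt N7594 F324981) (tt N2582 (iv5 D8077)) (tt N8644 F296316) (tt N8643 F21673))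
theorem Q5595 : ∀ i, i < 5595 → P i := stepQ 5594 Q5594 (allL N5594 (tt N8503 (iv1 F28316)) (tt N11659 D17228) (tt N11660 D17229) (tt N2583 (iv3 D8080)) (tt N11660 (iv4 F30571)) (tt N11661 D17231) (tt N5594 F21701) (tt N11618 (iv7 F28120)))
theorem Q5596 : ∀ i, i < 5596 → P i := stepQ 5595 Q5595 (allL N5595 (tt N11519 (iv1 F28310)) (tt N11657 F28169) (tt N11620 (iv2 F28128)) (tt N11662 D17232) (tt N2583 (iv4 D8081)) (tt N11663 D17233) (tt N5595 F21702) (tt N5784 F296069))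
theorem Q5597 : ∀ i, i < 5597 → P i := stepQ 5596 Q5596 (allL N5596 (tt N7663 F324767) (tt N8627 F21674) (tt N8643 F21672) (tt N11661 (iv3 F28182)) (tt N7595 F324768) (tt N2583 (iv5 D8082)) (tt N11664 D17235) (tt N8644 F21699))
theorem Q5598 : ∀ i, i < 5598 → P i := stepQ 5597 Q5597 (allL N5597 (tt N2584 (iv1 D8085)) (tt N7841 (iv0 F324222)) (tt N5733 F13361) (tt N11665 D17236) (tt N7835 F323810) (tt N4140 (iv5 F16972)) (tt N11666 D17238) (tt N8624 (iv7 F21517)))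
theorem Q5599 : ∀ i, i < 5599 → P i := stepQ 5598 Q5598 (allL N5598 (tt N8925 (iv1 F324195)) (tt N8924 (iv0 F324221)) (tt N8926 (iv2 F323876)) (tt N11667 D17241) (tt N2584 (iv4 D8086)) (tt N9232 F323634) (tt N8920 (iv6 F323875)) (tt N4303 F323635))
theorem Q5600 : ∀ i, i < 5600 → P i := stepQ 5599 Q5599 (allL N5599 (tt N5733 (iv1 F13431)) (tt N8624 (iv0 F21518)) (tt N7841 (iv2 F324223)) (tt N2598 F12870) (tt N4303 F323632) (tt N2585 F12871) (tt N3622 F323633) (tt N2584 (iv7 D8087)))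
theorem Q5601 : ∀ i, i < 5601 → P i := stepQ 5600 Q5600 (allL N5600 (tt N6049 (iv1 F13760)) (tt N6048 F13759) (tt N2586 (iv2 D8090)) (tt N6062 (iv3 F13817)) (tt N11668 D17245) (tt N2651 F12872) (tt N11669 D17246) (tt N6047 (iv7 F13755)))
theorem Q5602 : ∀ i, i < 5602 → P i := stepQ 5601 Q5601 (allL N5601 (tt N11670 D17247) (tt N5887 (iv0 F13533)) (tt N11668 (iv2 F28197)) (tt N4400 F12873) (tt N2586 (iv4 D8091)) (tt N11671 D17248) (tt N11672 D17249) (tt N6050 (iv7 F13773)))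
theorem Q5603 : ∀ i, i < 5603 → P i := stepQ 5602 Q5602 (allL N5602 (tt N11673 D17250) (tt N6274 (iv0 F296275)) (tt N11669 (iv2 F28198)) (tt N2587 F12874) (tt N11672 (iv4 F28202)) (tt N11674 D17252) (tt N2586 (iv6 D8092)) (tt N11675 D17253))
theorem Q5604 : ∀ i, i < 5604 → P i := stepQ 5603 Q5603 (allL N5603 (tt N11676 D17264) (tt N11677 D17265) (tt N5629 (iv2 F12890)) (tt N11674 (iv3 F28203)) (tt N11678 D17266) (tt N2587 (iv5 D8095)) (tt N2646 F12875) (tt N11679 D17267))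
theorem Q5605 : ∀ i, i < 5605 → P i := stepQ 5604 Q5604 (allL N5604 (tt N2634 F298124) (tt N6105 F13880) (tt N6104 (iv2 F13876)) (tt N11675 (iv3 F28205)) (tt N4406 F12876) (tt N11679 (iv5 F28210)) (tt N6054 (iv6 F13779)) (tt N2587 (iv7 D8096)))
theorem Q5606 : ∀ i, i < 5606 → P i := stepQ 5605 Q5605 (allL N5605 (tt N11680 D17274) (tt N11553 (iv0 F121250)) (tt N11681 D17276) (tt N2588 (iv3 D8098)) (tt N11682 D17277) (tt N11683 D17278) (tt N11684 D17279) (tt N8578 (iv7 F28814)))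
theorem Q5607 : ∀ i, i < 5607 → P i := stepQ 5606 Q5606 (allL N5606 (tt N5070 (iv1 F41758)) (tt N3979 (iv0 F41759)) (tt N5068 F41942) (tt N11685 D17283) (tt N2588 (iv4 D8099)) (tt N11686 D17284) (tt N11687 D17285) (tt N5069 (iv7 F41949)))
theorem Q5608 : ∀ i, i < 5608 → P i := stepQ 5607 Q5607 (allL N5607 (tt N11688 D17287) (tt N11689 D17288) (tt N8577 (iv2 F28806)) (tt N11683 (iv3 F28222)) (tt N11690 D17289) (tt N2588 (iv5 D8100)) (tt N11691 D17290) (tt N8579 (iv7 F28818)))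
theorem Q5609 : ∀ i, i < 5609 → P i := stepQ 5608 Q5608 (allL N5608 (tt N6103 (iv1 F30381)) (tt N11692 D17293) (tt N5767 (iv2 F28789)) (tt N11684 (iv3 F28223)) (tt N11687 (iv4 F28227)) (tt N4155 F12878) (tt N2588 (iv6 D8101)) (tt N5763 (iv7 F28788)))
theorem Q5610 : ∀ i, i < 5610 → P i := stepQ 5609 Q5609 (allL N5609 (tt N6077 F118793) (tt N11693 D17297) (tt N11694 D17298) (tt N2589 (iv3 D8103)) (tt N11695 D17299) (tt N11696 D17300) (tt N11697 D17301) (tt N8576 (iv7 F28803)))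
theorem Q5611 : ∀ i, i < 5611 → P i := stepQ 5610 Q5610 (allL N5610 (tt N3979 F41760) (tt N5070 F41761) (tt N5069 (iv2 F41948)) (tt N11698 D17302) (tt N2589 (iv4 D8104)) (tt N11699 D17303) (tt N11700 D17304) (tt N5068 F41947))
theorem Q5612 : ∀ i, i < 5612 → P i := stepQ 5611 Q5611 (allL N5611 (tt N11689 (iv1 F28234)) (tt N11688 (iv0 F28233)) (tt N8579 (iv2 F28817)) (tt N11696 (iv3 F28244)) (tt N11701 D17305) (tt N2589 (iv5 D8105)) (tt N11702 D17306) (tt N8577 (iv7 F28807)))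
theorem Q5613 : ∀ i, i < 5613 → P i := stepQ 5612 Q5612 (allL N5612 (tt N8555 (iv1 F298431)) (tt N8569 (iv0 F298471)) (tt N8567 (iv2 F298469)) (tt N11697 (iv3 F28245)) (tt N11700 (iv4 F28246)) (tt N11703 D17309) (tt N2589 (iv6 D8106)) (tt N8566 (iv7 F298448)))
theorem Q5614 : ∀ i, i < 5614 → P i := stepQ 5613 Q5613 (allL N5613 (tt N8583 (iv1 F21404)) (tt N2590 (iv0 D8107)) (tt N8580 (iv2 F30498)) (tt N11704 D17312) (tt N11705 D17313) (tt N11706 D17314) (tt N5708 F13023) (tt N8581 (iv7 F30497)))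
theorem Q5615 : ∀ i, i < 5615 → P i := stepQ 5614 Q5614 (allL N5614 (tt N2590 (iv1 D8108)) (tt N8583 F21403) (tt N8581 (iv2 F30496)) (tt N11707 D17316) (tt N11708 D17317) (tt N5774 F297286) (tt N5696 F297287) (tt N8580 (iv7 F30500)))
theorem Q5616 : ∀ i, i < 5616 → P i := stepQ 5615 Q5615 (allL N5615 (tt N11709 D17319) (tt N11710 D17320) (tt N8582 (iv2 F21398)) (tt N11711 D17321) (tt N2590 (iv4 D8109)) (tt N11712 D17322) (tt N2597 F12880) (tt N11713 D17323))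
theorem Q5617 : ∀ i, i < 5617 → P i := stepQ 5616 Q5616 (allL N5616 (tt N8581 (iv1 F21397)) (tt N8580 F21402) (tt N8583 (iv2 F21400)) (tt N7839 (iv3 F324190)) (tt N11713 (iv4 F28253)) (tt N2591 F12881) (tt N7838 F323051) (tt N2590 (iv7 D8110)))
theorem Q5618 : ∀ i, i < 5618 → P i := stepQ 5617 Q5617 (allL N5617 (tt N8586 (iv1 F21416)) (tt N2592 (iv0 D8111)) (tt N8585 (iv2 F27420)) (tt N11659 (iv3 F28312)) (tt N11714 D17326) (tt N11569 (iv5 F28049)) (tt N5541 (iv6 F21420)) (tt N8553 F21419))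
theorem Q5619 : ∀ i, i < 5619 → P i := stepQ 5618 Q5618 (allL N5618 (tt N8585 (iv1 F21417)) (tt N8553 (iv0 F27422)) (tt N2592 (iv2 D8113)) (tt N6468 F14927) (tt N5618 F12882) (tt N11715 D17327) (tt N5782 (iv6 F13206)) (tt N8586 (iv7 F21415)))
theorem Q5620 : ∀ i, i < 5620 → P i := stepQ 5619 Q5619 (allL N5619 (tt N11550 F28027) (tt N11716 D17328) (tt N11715 (iv2 F28263)) (tt N2593 F12883) (tt N11717 D17329) (tt N2592 (iv5 D8114)) (tt N11718 D17330) (tt N8587 (iv7 F21422)))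
theorem Q5621 : ∀ i, i < 5621 → P i := stepQ 5620 Q5620 (allL N5620 (tt N6038 (iv1 F13727)) (tt N6040 (iv0 F13738)) (tt N8584 (iv2 F21405)) (tt N11719 D17331) (tt N2593 (iv4 D8115)) (tt N8584 (iv5 F21407)) (tt N11720 D17332) (tt N8588 (iv7 F21425)))
theorem Q5622 : ∀ i, i < 5622 → P i := stepQ 5621 Q5621 (allL N5621 (tt N2637 (iv1 F296260)) (tt N11721 D17334) (tt N8571 F296033) (tt N11718 (iv3 F28270)) (tt N11720 (iv4 F28271)) (tt N5780 F296034) (tt N2593 (iv6 D8116)) (tt N8573 (iv7 F296266)))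
theorem Q5623 : ∀ i, i < 5623 → P i := stepQ 5622 Q5622 (allL N5622 (tt N2594 (iv1 D8118)) (tt N6468 F14926) (tt N6469 (iv2 F17560)) (tt N11654 (iv3 F31204)) (tt N6258 (iv4 F17491)) (tt N11722 D17337) (tt N6092 F17561) (tt N6254 F17562))
theorem Q5624 : ∀ i, i < 5624 → P i := stepQ 5623 Q5623 (allL N5623 (tt N6254 (iv1 F17518)) (tt N6469 F14931) (tt N2594 (iv2 D8119)) (tt N8586 (iv3 F21412)) (tt N3024 F12884) (tt N11723 D17338) (tt N5623 F12885) (tt N6468 (iv7 F14925)))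
theorem Q5625 : ∀ i, i < 5625 → P i := stepQ 5624 Q5624 (allL N5624 (tt N11724 D17339) (tt N11583 (iv0 F28063)) (tt N11723 (iv2 F28274)) (tt N2595 F12886) (tt N11725 D17340) (tt N2594 (iv5 D8120)) (tt N11726 D17341) (tt N6470 (iv7 F14934)))
theorem Q5626 : ∀ i, i < 5626 → P i := stepQ 5625 Q5625 (allL N5625 (tt N6040 (iv1 F13739)) (tt N6038 (iv0 F13726)) (tt N8588 (iv2 F21423)) (tt N11727 D17342) (tt N2595 (iv4 D8121)) (tt N8588 (iv5 F21424)) (tt N11728 D17343) (tt N8584 (iv7 F21406)))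
theorem Q5627 : ∀ i, i < 5627 → P i := stepQ 5626 Q5626 (allL N5626 (tt N11729 D17344) (tt N11730 D17345) (tt N8589 (iv2 F21427)) (tt N11726 (iv3 F28275)) (tt N11728 (iv4 F28277)) (tt N5626 F12887) (tt N2595 (iv6 D8122)) (tt N11731 D17346))
theorem Q5628 : ∀ i, i < 5628 → P i := stepQ 5627 Q5627 (allL N5627 (tt N11581 F28055) (tt N11722 (iv0 F28273)) (tt N11732 D17347) (tt N2596 (iv3 D8123)) (tt N11733 D17348) (tt N2822 F12888) (tt N11734 D17349) (tt N5716 (iv7 F13031)))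
theorem Q5629 : ∀ i, i < 5629 → P i := stepQ 5628 Q5628 (allL N5628 (tt N6059 (iv1 F13802)) (tt N8864 (iv0 F22122)) (tt N5722 (iv2 F13046)) (tt N11735 D17350) (tt N2596 (iv4 D8124)) (tt N5548 F12889) (tt N11736 D17351) (tt N5717 (iv7 F13033)))
theorem Q5630 : ∀ i, i < 5630 → P i := stepQ 5629 Q5629 (allL N5629 (tt N11737 D17352) (tt N11738 D17353) (tt N5603 F12890) (tt N11734 (iv3 F28281)) (tt N11736 (iv4 F28285)) (tt N2828 F12891) (tt N2596 (iv6 D8125)) (tt N11739 D17354))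
theorem Q5631 : ∀ i, i < 5631 → P i := stepQ 5630 Q5630 (allL N5630 (tt N11740 D17355) (tt N11741 D17356) (tt N11742 D17357) (tt N2597 (iv3 D8126)) (tt N11667 (iv4 F28194)) (tt N11743 D17358) (tt N11711 (iv6 F28252)) (tt N11744 D17359))
theorem Q5632 : ∀ i, i < 5632 → P i := stepQ 5631 Q5631 (allL N5631 (tt N6479 (iv1 F14992)) (tt N8596 (iv0 F21453)) (tt N8591 (iv2 F21429)) (tt N11743 (iv3 F28292)) (tt N2648 F12892) (tt N2597 (iv5 D8127)) (tt N11745 D17360) (tt N2647 F12893))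
theorem Q5633 : ∀ i, i < 5633 → P i := stepQ 5632 Q5632 (allL N5632 (tt N4253 (iv1 F12896)) (tt N5425 F12897) (tt N6045 F13749) (tt N11744 (iv3 F28294)) (tt N2598 F12894) (tt N2647 F12895) (tt N11746 D17361) (tt N2597 (iv7 D8128)))
theorem Q5634 : ∀ i, i < 5634 → P i := stepQ 5633 Q5633 (allL N5633 (tt N11747 D17362) (tt N11748 D17363) (tt N8592 (iv2 F21434)) (tt N3622 (iv3 F322498)) (tt N11746 (iv4 F28297)) (tt N7662 (iv5 F321471)) (tt N2598 (iv6 D8129)) (tt N7838 (iv7 F321431)))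
theorem Q5635 : ∀ i, i < 5635 → P i := stepQ 5634 Q5634 (allL N5634 (tt N11662 F28186) (tt N5837 (iv0 F21532)) (tt N11749 D17364) (tt N2599 (iv3 D8130)) (tt N5634 F12898) (tt N6042 (iv5 F13740)) (tt N2794 F12899) (tt N2806 F12900))
theorem Q5636 : ∀ i, i < 5636 → P i := stepQ 5635 Q5635 (allL N5635 (tt N8594 (iv1 F21445)) (tt N2600 (iv0 D8131)) (tt N8593 F21437) (tt N6471 F14945) (tt N11750 D17365) (tt N11534 (iv5 F27991)) (tt N5523 (iv6 F17535)) (tt N4061 F17533))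
theorem Q5637 : ∀ i, i < 5637 → P i := stepQ 5636 Q5636 (allL N5636 (tt N8593 (iv1 F21440)) (tt N4061 (iv0 F17554)) (tt N2600 (iv2 D8133)) (tt N5380 (iv3 F17455)) (tt N5636 F12901) (tt N11751 D17366) (tt N4195 (iv6 F17469)) (tt N8594 (iv7 F21444)))
theorem Q5638 : ∀ i, i < 5638 → P i := stepQ 5637 Q5637 (allL N5637 (tt N8780 F21979) (tt N8783 (iv0 F21984)) (tt N11751 (iv2 F28317)) (tt N2601 F12902) (tt N11752 D17367) (tt N2600 (iv5 D8134)) (tt N11753 D17368) (tt N8595 (iv7 F21448)))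
theorem Q5639 : ∀ i, i < 5639 → P i := stepQ 5638 Q5638 (allL N5638 (tt N2647 F12903) (tt N8591 (iv0 F21432)) (tt N6479 (iv2 F14988)) (tt N11754 D17369) (tt N2601 (iv4 D8135)) (tt N6479 (iv5 F14990)) (tt N11755 D17370) (tt N8596 (iv7 F21452)))
theorem Q5640 : ∀ i, i < 5640 → P i := stepQ 5639 Q5639 (allL N5639 (tt N11756 D17371) (tt N11757 D17372) (tt N6480 (iv2 F14993)) (tt N11753 (iv3 F28321)) (tt N11755 (iv4 F28322)) (tt N5784 (iv5 F13243)) (tt N2601 (iv6 D8136)) (tt N11663 (iv7 F296384)))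
theorem Q5641 : ∀ i, i < 5641 → P i := stepQ 5640 Q5640 (allL N5640 (tt N2602 (iv1 D8138)) (tt N5380 F17495) (tt N5382 F17496) (tt N11758 D17374) (tt N6444 (iv4 F17543)) (tt N5946 F17497) (tt N2756 F17498) (tt N5374 F17499))
theorem Q5642 : ∀ i, i < 5642 → P i := stepQ 5641 Q5641 (allL N5641 (tt N5374 (iv1 F17489)) (tt N5382 (iv0 F17486)) (tt N2602 (iv2 D8139)) (tt N8594 (iv3 F21441)) (tt N3032 F12904) (tt N11759 D17375) (tt N5641 F12905) (tt N5380 (iv7 F17456)))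
theorem Q5643 : ∀ i, i < 5643 → P i := stepQ 5642 Q5642 (allL N5642 (tt N11311 (iv1 F27555)) (tt N5387 F17606) (tt N11759 (iv2 F28327)) (tt N2603 F12906) (tt N11760 D17376) (tt N2602 (iv5 D8140)) (tt N11761 D17377) (tt N6478 (iv7 F14987)))
theorem Q5644 : ∀ i, i < 5644 → P i := stepQ 5643 Q5643 (allL N5643 (tt N8591 (iv1 F21433)) (tt N2647 F12907) (tt N8596 (iv2 F21450)) (tt N11762 D17378) (tt N2603 (iv4 D8141)) (tt N8596 (iv5 F21451)) (tt N11763 D17379) (tt N6479 (iv7 F14989)))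
theorem Q5645 : ∀ i, i < 5645 → P i := stepQ 5644 Q5644 (allL N5644 (tt N11764 D17380) (tt N11765 D17381) (tt N8597 (iv2 F21455)) (tt N11761 (iv3 F28331)) (tt N11763 (iv4 F28333)) (tt N5644 F12908) (tt N2603 (iv6 D8142)) (tt N11766 D17382))
theorem Q5646 : ∀ i, i < 5646 → P i := stepQ 5645 Q5645 (allL N5645 (tt N3853 F12912) (tt N3850 F12913) (tt N4051 F12909) (tt N10519 (iv3 F24897)) (tt N4995 F12911) (tt N2604 (iv5 D8143)) (tt N11767 D17383) (tt N5460 F12910))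
theorem Q5647 : ∀ i, i < 5647 → P i := stepQ 5646 Q5646 (allL N5646 (tt N8022 (iv1 F20087)) (tt N2605 (iv0 D8144)) (tt N8021 (iv2 F27260)) (tt N11768 D17384) (tt N11769 D17385) (tt N11770 D17386) (tt N11771 D17387) (tt N8020 (iv7 F27263)))
theorem Q5648 : ∀ i, i < 5648 → P i := stepQ 5647 Q5647 (allL N5647 (tt N2605 (iv1 D8145)) (tt N8022 F20089) (tt N8020 F27261) (tt N11772 D17388) (tt N5021 (iv4 F12914)) (tt N11773 D17389) (tt N11774 D17390) (tt N8021 F27258))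
theorem Q5649 : ∀ i, i < 5649 → P i := stepQ 5648 Q5648 (allL N5648 (tt N8021 (iv1 F20088)) (tt N8020 F20084) (tt N2605 (iv2 D8146)) (tt N8034 (iv3 F20105)) (tt N2612 F12915) (tt N11775 D17391) (tt N10483 (iv6 F26654)) (tt N8022 (iv7 F20086)))
theorem Q5650 : ∀ i, i < 5650 → P i := stepQ 5649 Q5649 (allL N5649 (tt N10810 (iv1 F40401)) (tt N10812 (iv0 F27124)) (tt N11775 (iv2 F28360)) (tt N2606 F12916) (tt N11776 D17393) (tt N2605 (iv5 D8147)) (tt N11777 D17394) (tt N8023 (iv7 F20091)))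
theorem Q5651 : ∀ i, i < 5651 → P i := stepQ 5650 Q5650 (allL N5650 (tt N11778 D17395) (tt N11464 (iv0 F27855)) (tt N10483 F26657) (tt N2607 F12917) (tt N2613 F12918) (tt N11779 D17396) (tt N2605 (iv6 D8148)) (tt N10484 (iv7 F26698)))
theorem Q5652 : ∀ i, i < 5652 → P i := stepQ 5651 Q5651 (allL N5651 (tt N11780 D17397) (tt N11781 D17398) (tt N8037 (iv2 F20108)) (tt N11777 (iv3 F28361)) (tt N11392 (iv4 F27688)) (tt N11782 D17399) (tt N2606 (iv6 D8149)) (tt N11783 D17400))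
theorem Q5653 : ∀ i, i < 5653 → P i := stepQ 5652 Q5652 (allL N5652 (tt N8040 (iv1 F20158)) (tt N2607 (iv0 D8150)) (tt N8018 (iv2 F26343)) (tt N11405 (iv3 F27722)) (tt N7258 F18250) (tt N11784 D17401) (tt N8973 (iv6 F22368)) (tt N8038 (iv7 F20115)))
theorem Q5654 : ∀ i, i < 5654 → P i := stepQ 5653 Q5653 (allL N5653 (tt N11785 D17402) (tt N11383 (iv0 F27673)) (tt N8039 (iv2 F20154)) (tt N11779 (iv3 F28365)) (tt N11786 D17403) (tt N2607 (iv5 D8152)) (tt N11782 (iv6 F28366)) (tt N11787 D17404))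
theorem Q5655 : ∀ i, i < 5655 → P i := stepQ 5654 Q5654 (allL N5654 (tt N8038 (iv1 F20114)) (tt N8018 (iv0 F26341)) (tt N8040 (iv2 F20155)) (tt N10484 F26700) (tt N2609 F12920) (tt N11787 (iv5 F28371)) (tt N8029 (iv6 F20097)) (tt N2607 (iv7 D8153)))
theorem Q5656 : ∀ i, i < 5656 → P i := stepQ 5655 Q5655 (allL N5655 (tt N10638 (iv1 F25135)) (tt N4117 (iv0 F12921)) (tt N8041 (iv2 F20159)) (tt N5463 (iv3 F26479)) (tt N2608 (iv4 D8154)) (tt N11788 D17405) (tt N7919 (iv6 F19904)) (tt N5670 (iv7 F12948)))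
theorem Q5657 : ∀ i, i < 5657 → P i := stepQ 5656 Q5656 (allL N5656 (tt N7998 (iv1 F20052)) (tt N4371 (iv0 F12923)) (tt N7997 F20048) (tt N4127 F12922) (tt N11789 D17406) (tt N2608 (iv5 D8155)) (tt N7440 F18680) (tt N5671 (iv7 F12952)))
theorem Q5658 : ∀ i, i < 5658 → P i := stepQ 5657 Q5657 (allL N5657 (tt N11790 D17407) (tt N11791 D17408) (tt N8539 (iv2 F26886)) (tt N8041 (iv3 F26887)) (tt N2610 (iv4 D8158)) (tt N11792 D17409) (tt N9507 F26888) (tt N8537 F26885))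
theorem Q5659 : ∀ i, i < 5659 → P i := stepQ 5658 Q5658 (allL N5658 (tt N5154 F26755) (tt N4003 F26756) (tt N5161 (iv2 F26856)) (tt N8327 F26758) (tt N11793 D17410) (tt N2610 (iv5 D8159)) (tt N11794 D17411) (tt N5160 F26855))
theorem Q5660 : ∀ i, i < 5660 → P i := stepQ 5659 Q5659 (allL N5659 (tt N5339 F50733) (tt N5333 (iv0 F26842)) (tt N8328 (iv2 F26724)) (tt N2611 (iv3 D8162)) (tt N10613 F26765) (tt N10869 F26841) (tt N10205 (iv6 F26764)) (tt N8538 (iv7 F26722)))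
theorem Q5661 : ∀ i, i < 5661 → P i := stepQ 5660 Q5660 (allL N5660 (tt N11791 (iv1 F28377)) (tt N11790 F28376) (tt N8537 F26711) (tt N5462 (iv3 F12926)) (tt N2611 (iv4 D8163)) (tt N11795 D17412) (tt N11796 D17413) (tt N8539 (iv7 F26713)))
theorem Q5662 : ∀ i, i < 5662 → P i := stepQ 5661 Q5661 (allL N5661 (tt N4003 F26760) (tt N5154 F26761) (tt N5160 F26853) (tt N10869 F26840) (tt N11797 D17414) (tt N2611 (iv5 D8164)) (tt N11798 D17415) (tt N5161 (iv7 F26857)))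
theorem Q5663 : ∀ i, i < 5663 → P i := stepQ 5662 Q5662 (allL N5662 (tt N10199 (iv1 F26735)) (tt N10198 F26729) (tt N8213 (iv2 F26726)) (tt N10205 F26727) (tt N11796 (iv4 F28383)) (tt N11799 D17416) (tt N2611 (iv6 D8165)) (tt N10200 F26728))
theorem Q5664 : ∀ i, i < 5664 → P i := stepQ 5663 Q5663 (allL N5663 (tt N8621 (iv1 F21507)) (tt N2614 (iv0 D8171)) (tt N8618 F21496) (tt N10857 (iv3 F26952)) (tt N10621 (iv4 F26494)) (tt N8310 (iv5 F20806)) (tt N11800 D17417) (tt N8619 (iv7 F21500)))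
theorem Q5665 : ∀ i, i < 5665 → P i := stepQ 5664 Q5664 (allL N5664 (tt N2614 (iv1 D8172)) (tt N8621 F21506) (tt N8619 F21502) (tt N8358 (iv3 F26950)) (tt N10622 (iv4 F26495)) (tt N8314 F20820) (tt N11124 (iv6 F309987)) (tt N8618 F21497))
theorem Q5666 : ∀ i, i < 5666 → P i := stepQ 5665 Q5665 (allL N5665 (tt N11801 D17419) (tt N11159 F309632) (tt N8620 (iv2 F21503)) (tt N11802 D17421) (tt N2614 (iv4 D8173)) (tt N11504 (iv5 F27891)) (tt N11002 (iv6 F25872)) (tt N11503 (iv7 F27887)))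
theorem Q5667 : ∀ i, i < 5667 → P i := stepQ 5666 Q5666 (allL N5666 (tt N8619 (iv1 F21499)) (tt N8618 F21498) (tt N8621 (iv2 F21504)) (tt N2773 F26584) (tt N11503 (iv4 F27886)) (tt N2615 F12930) (tt N11803 D17422) (tt N2614 (iv7 D8174)))
theorem Q5668 : ∀ i, i < 5668 → P i := stepQ 5667 Q5667 (allL N5667 (tt N11052 (iv1 F26769)) (tt N11055 (iv0 F27734)) (tt N11804 D17423) (tt N2616 (iv3 D8175)) (tt N5071 F12931) (tt N10687 F26833) (tt N8976 (iv6 F22376)) (tt N5062 F26476))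
theorem Q5669 : ∀ i, i < 5669 → P i := stepQ 5668 Q5668 (allL N5668 (tt N2620 (iv1 F12938)) (tt N2617 (iv0 D8177)) (tt N4372 (iv2 F12937)) (tt N11805 D17424) (tt N8269 (iv4 F20682)) (tt N5439 F12935) (tt N4369 F12936) (tt N3405 F12939))
theorem Q5670 : ∀ i, i < 5670 → P i := stepQ 5669 Q5669 (allL N5669 (tt N4940 F26548) (tt N3942 F12944) (tt N4942 F12940) (tt N11806 D17425) (tt N2617 (iv4 D8178)) (tt N5045 F12943) (tt N5303 F12941) (tt N4493 F12942))
theorem Q5671 : ∀ i, i < 5671 → P i := stepQ 5670 Q5670 (allL N5670 (tt N7257 F18244) (tt N8606 F21480) (tt N5073 F12947) (tt N8600 F26701) (tt N2618 (iv4 D8179)) (tt N11807 D17426) (tt N9068 (iv6 F22700)) (tt N5655 F12948))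
theorem Q5672 : ∀ i, i < 5672 → P i := stepQ 5671 Q5671 (allL N5671 (tt N3823 F12953) (tt N9078 F22720) (tt N4484 F12949) (tt N2620 F12950) (tt N11808 D17427) (tt N2618 (iv5 D8180)) (tt N3771 F12951) (tt N5656 F12952))
theorem Q5673 : ∀ i, i < 5673 → P i := stepQ 5672 Q5672 (allL N5672 (tt N11054 F27735) (tt N11809 D17428) (tt N11415 (iv2 F27751)) (tt N2619 (iv3 D8181)) (tt N8600 F26415) (tt N10684 F26882) (tt N4879 F12954) (tt N5060 F26481))
theorem Q5674 : ∀ i, i < 5674 → P i := stepQ 5673 Q5673 (allL N5673 (tt N2622 (iv1 D8183)) (tt N2843 F12958) (tt N6148 (iv2 F13959)) (tt N5515 (iv3 F12960)) (tt N2832 (iv4 F12959)) (tt N6628 (iv5 F15942)) (tt N6631 F16951) (tt N6147 F13954))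
theorem Q5675 : ∀ i, i < 5675 → P i := stepQ 5674 Q5674 (allL N5674 (tt N6694 (iv1 F16132)) (tt N6693 (iv0 F16126)) (tt N6149 (iv2 F13960)) (tt N2624 F12961) (tt N6741 (iv4 F16394)) (tt N2622 (iv5 D8184)) (tt N11810 D17429) (tt N5772 F13362))
theorem Q5676 : ∀ i, i < 5676 → P i := stepQ 5675 Q5675 (allL N5675 (tt N2626 (iv1 F12966)) (tt N2623 (iv0 D8186)) (tt N5373 (iv2 F12965)) (tt N5376 (iv3 F12968)) (tt N5516 F12964) (tt N11811 D17430) (tt N11812 D17431) (tt N5383 F12967))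
theorem Q5677 : ∀ i, i < 5677 → P i := stepQ 5676 Q5676 (allL N5676 (tt N2964 F12971) (tt N2962 (iv0 F12972)) (tt N5357 F12969) (tt N2623 (iv3 D8187)) (tt N2845 F12970) (tt N6162 (iv5 F14063)) (tt N3121 F16758) (tt N6107 (iv7 F13888)))
theorem Q5678 : ∀ i, i < 5678 → P i := stepQ 5677 Q5677 (allL N5677 (tt N5863 (iv1 F13419)) (tt N5392 (iv0 F13417)) (tt N5796 F13258) (tt N6162 F14064) (tt N5744 (iv4 F13429)) (tt N2623 (iv5 D8188)) (tt N11813 D17432) (tt N5864 F13480))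
theorem Q5679 : ∀ i, i < 5679 → P i := stepQ 5678 Q5678 (allL N5678 (tt N11592 (iv1 F296904)) (tt N11573 (iv0 F296905)) (tt N5777 (iv2 F13373)) (tt N11810 (iv3 F28422)) (tt N10679 (iv4 F296903)) (tt N5687 F17022) (tt N2624 (iv6 D8193)) (tt N11814 D17439))
theorem Q5680 : ∀ i, i < 5680 → P i := stepQ 5679 Q5679 (allL N5679 (tt N6329 (iv1 F14446)) (tt N2926 (iv0 F12979)) (tt N6260 (iv2 F14281)) (tt N2628 F12978) (tt N6497 (iv4 F15126)) (tt N11815 D17440) (tt N2625 (iv6 D8198)) (tt N5697 (iv7 F13012)))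
theorem Q5681 : ∀ i, i < 5681 → P i := stepQ 5680 Q5680 (allL N5680 (tt N5392 (iv1 F13418)) (tt N5863 (iv0 F13412)) (tt N5864 F13479) (tt N3168 F12980) (tt N5745 F13120) (tt N2626 (iv5 D8199)) (tt N11816 D17441) (tt N5796 (iv7 F13257)))
theorem Q5682 : ∀ i, i < 5682 → P i := stepQ 5681 Q5681 (allL N5681 (tt N5943 F16952) (tt N11260 (iv0 F27448)) (tt N5695 (iv2 F13009)) (tt N5356 F12981) (tt N2628 F12982) (tt N11817 D17442) (tt N2626 (iv6 D8200)) (tt N5698 (iv7 F13013)))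
theorem Q5683 : ∀ i, i < 5683 → P i := stepQ 5682 Q5682 (allL N5682 (tt N11571 F59794) (tt N11818 D17447) (tt N5774 F13365) (tt N6810 (iv3 F16686)) (tt N10676 (iv4 F298259)) (tt N8581 (iv5 F298049)) (tt N2627 (iv6 D8202)) (tt N11706 (iv7 F298266)))
theorem Q5684 : ∀ i, i < 5684 → P i := stepQ 5683 Q5683 (allL N5683 (tt N8575 F21394) (tt N8557 (iv0 F21356)) (tt N5696 (iv2 F13011)) (tt N11815 (iv3 F28437)) (tt N11819 D17450) (tt N2628 (iv5 D8204)) (tt N8581 (iv6 F298050)) (tt N5699 (iv7 F13014)))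
theorem Q5685 : ∀ i, i < 5685 → P i := stepQ 5684 Q5684 (allL N5684 (tt N8573 F21390) (tt N8571 (iv0 F21385)) (tt N2637 F12991) (tt N8627 (iv3 F21527)) (tt N11820 D17457) (tt N2630 (iv5 D8210)) (tt N11020 (iv6 F296842)) (tt N11721 (iv7 F296264)))
theorem Q5686 : ∀ i, i < 5686 → P i := stepQ 5685 Q5685 (allL N5685 (tt N2636 (iv1 F12993)) (tt N2635 F12994) (tt N2638 F12992) (tt N5565 (iv3 F13351)) (tt N5565 (iv4 F13352)) (tt N11721 (iv5 F296263)) (tt N8558 (iv6 F21360)) (tt N2630 (iv7 D8211)))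
theorem Q5687 : ∀ i, i < 5687 → P i := stepQ 5686 Q5686 (allL N5686 (tt N11821 D17459) (tt N11822 D17460) (tt N8560 (iv2 F21367)) (tt N11823 D17461) (tt N2631 (iv4 D8214)) (tt N9560 (iv5 F298433)) (tt N11824 D17463) (tt N8559 (iv7 F21364)))
theorem Q5688 : ∀ i, i < 5688 → P i := stepQ 5687 Q5687 (allL N5687 (tt N6100 (iv1 F297786)) (tt N6101 F59697) (tt N8561 (iv2 F21369)) (tt N6645 (iv3 F15972)) (tt N11824 (iv4 F28463)) (tt N5678 (iv5 F17022)) (tt N2631 (iv6 D8216)) (tt N8649 (iv7 F298438)))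
theorem Q5689 : ∀ i, i < 5689 → P i := stepQ 5688 Q5688 (allL N5688 (tt N6265 F14312) (tt N6075 F13853) (tt N3202 F13337) (tt N2632 (iv3 D8218)) (tt N5889 (iv4 F13536)) (tt N2670 F13338) (tt N8645 (iv6 F296258)) (tt N3204 F13339))
theorem Q5690 : ∀ i, i < 5690 → P i := stepQ 5689 Q5689 (allL N5689 (tt N11822 (iv1 F28460)) (tt N11821 F28458) (tt N8559 (iv2 F21363)) (tt N11825 D17468) (tt N2632 (iv4 D8219)) (tt N9561 (iv5 F298464)) (tt N5036 (iv6 F298465)) (tt N8560 (iv7 F21368)))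
theorem Q5691 : ∀ i, i < 5691 → P i := stepQ 5690 Q5690 (allL N5690 (tt N8554 (iv1 F21344)) (tt N2633 (iv0 D8222)) (tt N8563 F21632) (tt N11826 D17475) (tt N8664 (iv4 F21631)) (tt N10788 (iv5 F296981)) (tt N11827 D17477) (tt N8562 F21633))
theorem Q5692 : ∀ i, i < 5692 → P i := stepQ 5691 Q5691 (allL N5691 (tt N2633 (iv1 D8223)) (tt N8554 F21343) (tt N8562 (iv2 F21634)) (tt N11828 D17478) (tt N8665 (iv4 F21640)) (tt N10789 (iv5 F299530)) (tt N8452 (iv6 F299532)) (tt N8563 (iv7 F21635)))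
theorem Q5693 : ∀ i, i < 5693 → P i := stepQ 5692 Q5692 (allL N5692 (tt N11829 D17481) (tt N11830 D17482) (tt N11023 F298695) (tt N10975 (iv3 F25844)) (tt N11612 (iv4 F28109)) (tt N2633 (iv5 D8224)) (tt N11831 D17483) (tt N8564 (iv7 F21376)))
theorem Q5694 : ∀ i, i < 5694 → P i := stepQ 5693 Q5693 (allL N5693 (tt N11832 D17498) (tt N11691 (iv0 F299300)) (tt N11020 F297195) (tt N2641 F12998) (tt N11833 D17500) (tt N2634 (iv5 D8228)) (tt N2637 F12999) (tt N11008 (iv7 F299302)))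
theorem Q5695 : ∀ i, i < 5695 → P i := stepQ 5694 Q5694 (allL N5694 (tt N6632 F16752) (tt N6631 F16753) (tt N6135 (iv2 F13931)) (tt N2635 (iv3 D8231)) (tt N2855 F13002) (tt N11834 D17502) (tt N2854 (iv6 F13003)) (tt N3154 (iv7 F16763)))
theorem Q5696 : ∀ i, i < 5696 → P i := stepQ 5695 Q5695 (allL N5695 (tt N11835 D17503) (tt N5385 (iv0 F15243)) (tt N5681 F13009) (tt N11836 D17504) (tt N2635 (iv4 D8232)) (tt N11837 D17505) (tt N4091 F13010) (tt N8656 (iv7 F21597)))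
theorem Q5697 : ∀ i, i < 5697 → P i := stepQ 5696 Q5696 (allL N5696 (tt N11838 D17506) (tt N4101 F16985) (tt N5683 F13011) (tt N11834 (iv3 F28484)) (tt N11839 D17507) (tt N2635 (iv5 D8233)) (tt N5614 (iv6 F297287)) (tt N8657 (iv7 F21601)))
theorem Q5698 : ∀ i, i < 5698 → P i := stepQ 5697 Q5697 (allL N5697 (tt N3304 (iv1 F14285)) (tt N3306 F14286) (tt N3203 F16800) (tt N2636 (iv3 D8234)) (tt N5850 F16801) (tt N11840 D17509) (tt N2670 F16802) (tt N5679 F13012))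
theorem Q5699 : ∀ i, i < 5699 → P i := stepQ 5698 Q5698 (allL N5698 (tt N5385 (iv1 F15244)) (tt N11835 F28488) (tt N8656 (iv2 F21594)) (tt N2684 F16803) (tt N2636 (iv4 D8235)) (tt N11841 D17510) (tt N2671 F16804) (tt N5681 F13013))
theorem Q5700 : ∀ i, i < 5700 → P i := stepQ 5699 Q5699 (allL N5699 (tt N4101 F16805) (tt N11838 F28500) (tt N8657 (iv2 F21599)) (tt N11840 (iv3 F28507)) (tt N11842 D17511) (tt N2636 (iv5 D8236)) (tt N8646 (iv6 F297239)) (tt N5683 F13014))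
theorem Q5701 : ∀ i, i < 5701 → P i := stepQ 5700 Q5700 (allL N5700 (tt N11721 (iv1 F296261)) (tt N2637 (iv0 D8238)) (tt N8573 (iv2 F21388)) (tt N11843 D17512) (tt N11844 D17513) (tt N8556 F21352) (tt N11731 (iv6 F296332)) (tt N8571 (iv7 F21384)))
theorem Q5702 : ∀ i, i < 5702 → P i := stepQ 5701 Q5701 (allL N5701 (tt N11845 D17518) (tt N11755 F297194) (tt N11820 (iv2 F28451)) (tt N11846 D17520) (tt N2637 (iv4 D8240)) (tt N9455 (iv5 F322108)) (tt N11833 (iv6 F28481)) (tt N11847 D17522))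
theorem Q5703 : ∀ i, i < 5703 → P i := stepQ 5702 Q5702 (allL N5702 (tt N8571 F21386) (tt N8573 F21391) (tt N11721 (iv2 F296262)) (tt N2648 F13019) (tt N11847 (iv4 F28520)) (tt N2638 F13020) (tt N11848 D17523) (tt N2637 (iv7 D8241)))
theorem Q5704 : ∀ i, i < 5704 → P i := stepQ 5703 Q5703 (allL N5703 (tt N11849 D17530) (tt N6080 (iv0 F118103)) (tt N6630 (iv2 F296178)) (tt N2639 (iv3 D8243)) (tt N11850 D17533) (tt N11851 D17534) (tt N3153 F295992) (tt N8647 (iv7 F30504)))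
theorem Q5705 : ∀ i, i < 5705 → P i := stepQ 5704 Q5704 (allL N5704 (tt N5039 (iv1 F30464)) (tt N3968 (iv0 F30465)) (tt N5036 F41772) (tt N11852 D17539) (tt N2639 (iv4 D8244)) (tt N11853 D17540) (tt N8559 F296886) (tt N5037 (iv7 F41775)))
theorem Q5706 : ∀ i, i < 5706 → P i := stepQ 5705 Q5705 (allL N5705 (tt N11854 D17543) (tt N11855 D17544) (tt N8646 (iv2 F30519)) (tt N11851 (iv3 F28530)) (tt N11856 D17545) (tt N2639 (iv5 D8245)) (tt N8657 F296334) (tt N8648 (iv7 F30502)))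
theorem Q5707 : ∀ i, i < 5707 → P i := stepQ 5706 Q5706 (allL N5706 (tt N11549 (iv1 F120814)) (tt N11857 D17553) (tt N11858 D17554) (tt N2640 (iv3 D8248)) (tt N11859 D17555) (tt N11860 D17556) (tt N11861 D17557) (tt N8645 (iv7 F30516)))
theorem Q5708 : ∀ i, i < 5708 → P i := stepQ 5707 Q5707 (allL N5707 (tt N3968 F30466) (tt N5039 F30467) (tt N5037 (iv2 F41774)) (tt N11862 D17558) (tt N2640 (iv4 D8249)) (tt N11863 D17559) (tt N11864 D17560) (tt N5036 F41773))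
theorem Q5709 : ∀ i, i < 5709 → P i := stepQ 5708 Q5708 (allL N5708 (tt N11855 (iv1 F28539)) (tt N11854 F28542) (tt N8648 (iv2 F30501)) (tt N11860 (iv3 F28546)) (tt N11865 D17561) (tt N2640 (iv5 D8250)) (tt N5613 (iv6 F13023)) (tt N8646 (iv7 F30520)))
theorem Q5710 : ∀ i, i < 5710 → P i := stepQ 5709 Q5709 (allL N5709 (tt N6101 F298240) (tt N6100 (iv0 F30419)) (tt N8649 (iv2 F30510)) (tt N11861 (iv3 F28548)) (tt N11864 (iv4 F28549)) (tt N11866 D17564) (tt N2640 (iv6 D8251)) (tt N8561 F298241))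
theorem Q5711 : ∀ i, i < 5711 → P i := stepQ 5710 Q5710 (allL N5710 (tt N8653 (iv1 F21584)) (tt N2641 (iv0 D8252)) (tt N8650 (iv2 F28823)) (tt N11867 D17567) (tt N11868 D17568) (tt N11869 D17569) (tt N11870 D17570) (tt N8651 (iv7 F28801)))
theorem Q5712 : ∀ i, i < 5712 → P i := stepQ 5711 Q5711 (allL N5711 (tt N2641 (iv1 D8253)) (tt N8653 F21583) (tt N8651 (iv2 F28800)) (tt N11871 D17572) (tt N11872 D17573) (tt N5764 (iv5 F13153)) (tt N11873 D17574) (tt N8650 (iv7 F28824)))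
theorem Q5713 : ∀ i, i < 5713 → P i := stepQ 5712 Q5712 (allL N5712 (tt N11874 D17575) (tt N11875 D17576) (tt N8652 (iv2 F21578)) (tt N11876 D17577) (tt N2641 (iv4 D8254)) (tt N11877 D17578) (tt N2647 F13024) (tt N11878 D17579))
theorem Q5714 : ∀ i, i < 5714 → P i := stepQ 5713 Q5713 (allL N5713 (tt N8651 (iv1 F21577)) (tt N8650 F21582) (tt N8653 (iv2 F21580)) (tt N11008 (iv3 F299301)) (tt N11878 (iv4 F28558)) (tt N2642 F13025) (tt N11879 D17580) (tt N2641 (iv7 D8255)))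
theorem Q5715 : ∀ i, i < 5715 → P i := stepQ 5714 Q5714 (allL N5714 (tt N6063 F13826) (tt N2643 (iv0 D8256)) (tt N6092 F13867) (tt N3306 F13026) (tt N11880 D17581) (tt N11724 (iv5 F30319)) (tt N6469 F17559) (tt N6091 F13864))
theorem Q5716 : ∀ i, i < 5716 → P i := stepQ 5715 Q5715 (allL N5715 (tt N6092 (iv1 F13865)) (tt N6091 F13862) (tt N2643 (iv2 D8257)) (tt N5537 F13027) (tt N2967 F13028) (tt N11881 D17583) (tt N2966 F13029) (tt N6063 (iv7 F13824)))
theorem Q5717 : ∀ i, i < 5717 → P i := stepQ 5716 Q5716 (allL N5716 (tt N11882 D17584) (tt N11883 D17585) (tt N11881 (iv2 F28566)) (tt N2644 F13030) (tt N11884 D17586) (tt N2643 (iv5 D8258)) (tt N11885 D17587) (tt N5627 F13031))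
theorem Q5718 : ∀ i, i < 5718 → P i := stepQ 5717 Q5717 (allL N5717 (tt N6043 (iv1 F13743)) (tt N5363 F13034) (tt N5548 F13032) (tt N11886 D17588) (tt N2644 (iv4 D8259)) (tt N5722 (iv5 F13048)) (tt N11887 D17589) (tt N5628 F13033))
theorem Q5719 : ∀ i, i < 5719 → P i := stepQ 5718 Q5718 (allL N5718 (tt N11888 D17590) (tt N11889 D17591) (tt N5546 F13035) (tt N11885 (iv3 F28580)) (tt N11887 (iv4 F28584)) (tt N2665 F13036) (tt N2644 (iv6 D8260)) (tt N11890 D17592))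
theorem Q5720 : ∀ i, i < 5720 → P i := stepQ 5719 Q5719 (allL N5719 (tt N2645 (iv1 D8262)) (tt N5537 F13042) (tt N5541 (iv2 F13772)) (tt N6632 (iv3 F16947)) (tt N11310 (iv4 F27549)) (tt N11716 F28268) (tt N8585 (iv6 F27421)) (tt N5542 F13771))
theorem Q5721 : ∀ i, i < 5721 → P i := stepQ 5720 Q5720 (allL N5720 (tt N5542 (iv1 F13043)) (tt N5541 F13041) (tt N2645 (iv2 D8263)) (tt N6063 (iv3 F13822)) (tt N5720 F13038) (tt N11891 D17593) (tt N2651 F13039) (tt N5537 F13040))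
theorem Q5722 : ∀ i, i < 5722 → P i := stepQ 5721 Q5721 (allL N5721 (tt N11892 D17594) (tt N11893 D17595) (tt N11891 (iv2 F28595)) (tt N2646 F13044) (tt N11894 D17596) (tt N2645 (iv5 D8264)) (tt N11674 (iv6 F28204)) (tt N5543 F13045))
theorem Q5723 : ∀ i, i < 5723 → P i := stepQ 5722 Q5722 (allL N5722 (tt N5363 F13049) (tt N6043 (iv0 F13742)) (tt N5628 F13046) (tt N11895 D17597) (tt N2646 (iv4 D8265)) (tt N5717 F13048) (tt N11678 (iv6 F28209)) (tt N5548 F13047))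
theorem Q5724 : ∀ i, i < 5724 → P i := stepQ 5723 Q5723 (allL N5723 (tt N11896 D17598) (tt N11897 D17599) (tt N11898 D17600) (tt N2647 (iv3 D8266)) (tt N11846 (iv4 F28519)) (tt N11744 (iv5 F28295)) (tt N11876 (iv6 F28557)) (tt N11743 F28293))
theorem Q5725 : ∀ i, i < 5725 → P i := stepQ 5724 Q5724 (allL N5724 (tt N11702 F28247) (tt N11899 D17601) (tt N7662 F323029) (tt N11848 (iv3 F28521)) (tt N11745 (iv4 F28296)) (tt N8592 (iv5 F21435)) (tt N2648 (iv6 D8267)) (tt N11879 (iv7 F28559)))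
theorem Q5726 : ∀ i, i < 5726 → P i := stepQ 5725 Q5725 (allL N5725 (tt N2714 F13053) (tt N2697 (iv0 F13054)) (tt N2717 F13050) (tt N2725 F13051) (tt N2649 (iv4 D8268)) (tt N2732 (iv5 F295739)) (tt N2734 F295654) (tt N2715 F13052))
theorem Q5727 : ∀ i, i < 5727 → P i := stepQ 5726 Q5726 (allL N5726 (tt N5536 F13315) (tt N2662 F13316) (tt N3227 F295876) (tt N4192 F13055) (tt N11283 (iv4 F295969)) (tt N2649 (iv5 D8269)) (tt N3211 (iv6 F295925)) (tt N5538 (iv7 F13312)))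
theorem Q5728 : ∀ i, i < 5728 → P i := stepQ 5727 Q5727 (allL N5727 (tt N5782 F17602) (tt N2677 F17603) (tt N3230 F295636) (tt N4193 F13056) (tt N2734 F295637) (tt N3212 (iv5 F295691)) (tt N2649 (iv6 D8270)) (tt N5727 F13057))
theorem Q5729 : ∀ i, i < 5729 → P i := stepQ 5728 Q5728 (allL N5728 (tt N2662 F13308) (tt N5536 F13309) (tt N5538 (iv2 F13311)) (tt N6627 (iv3 F15939)) (tt N11900 D17606) (tt N2650 (iv5 D8271)) (tt N11901 D17607) (tt N3227 F295880))
theorem Q5730 : ∀ i, i < 5730 → P i := stepQ 5729 Q5729 (allL N5729 (tt N11582 F28060) (tt N11902 D17608) (tt N8672 (iv2 F21737)) (tt N2654 F13095) (tt N2699 F13096) (tt N11903 D17609) (tt N2652 (iv6 D8276)) (tt N5560 (iv7 F16988)))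
theorem Q5731 : ∀ i, i < 5731 → P i := stepQ 5730 Q5730 (allL N5730 (tt N2717 F13100) (tt N2715 F13101) (tt N2697 F13097) (tt N2653 (iv3 D8277)) (tt N2697 F13098) (tt N11904 D17610) (tt N11905 D17611) (tt N2714 F13099))
theorem Q5732 : ∀ i, i < 5732 → P i := stepQ 5731 Q5731 (allL N5731 (tt N8742 (iv1 F21929)) (tt N8719 F21897) (tt N8665 (iv2 F21636)) (tt N11904 (iv3 F28635)) (tt N8562 (iv4 F21372)) (tt N2653 (iv5 D8278)) (tt N2768 (iv6 F296671)) (tt N8664 (iv7 F21629)))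
theorem Q5733 : ∀ i, i < 5733 → P i := stepQ 5732 Q5732 (allL N5732 (tt N11261 F27454) (tt N8781 F27455) (tt N8642 (iv2 F21563)) (tt N11905 (iv3 F28640)) (tt N2654 F13102) (tt N11906 D17613) (tt N2653 (iv6 D8279)) (tt N5562 (iv7 F17004)))
theorem Q5734 : ∀ i, i < 5734 → P i := stepQ 5733 Q5733 (allL N5733 (tt N5575 F13430) (tt N5599 F13431) (tt N5597 (iv2 F13361)) (tt N11903 (iv3 F28632)) (tt N7626 F324110) (tt N2654 (iv5 D8286)) (tt N11624 (iv6 F28137)) (tt N5566 F17010))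
theorem Q5735 : ∀ i, i < 5735 → P i := stepQ 5734 Q5734 (allL N5734 (tt N4184 (iv1 F13108)) (tt N4188 F13107) (tt N2655 (iv2 D8288)) (tt N2695 F13105) (tt N2655 F13109) (tt N11625 (iv5 F28139)) (tt N5567 F16987) (tt N4186 F13106))
theorem Q5736 : ∀ i, i < 5736 → P i := stepQ 5735 Q5735 (allL N5735 (tt N8719 (iv1 F21898)) (tt N8742 F21930) (tt N8664 (iv2 F21627)) (tt N2696 F13112) (tt N8563 F21375) (tt N2656 (iv5 D8291)) (tt N6013 (iv6 F296974)) (tt N8665 (iv7 F21638)))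
theorem Q5737 : ∀ i, i < 5737 → P i := stepQ 5736 Q5736 (allL N5736 (tt N8668 (iv1 F21656)) (tt N8667 F21653) (tt N2660 F13115) (tt N11907 D17616) (tt N2657 (iv4 D8299)) (tt N10790 (iv5 F299527)) (tt N11908 D17618) (tt N8666 (iv7 F21644)))
theorem Q5738 : ∀ i, i < 5738 → P i := stepQ 5737 Q5737 (allL N5737 (tt N11909 D17619) (tt N11909 F298948) (tt N2661 F13116) (tt N2668 F298949) (tt N11908 (iv4 F28653)) (tt N5737 F13117) (tt N2657 (iv6 D8300)) (tt N2661 F298950))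
theorem Q5739 : ∀ i, i < 5739 → P i := stepQ 5738 Q5738 (allL N5738 (tt N6066 (iv1 F16667)) (tt N3205 (iv0 F13278)) (tt N11234 (iv2 F27372)) (tt N2658 (iv3 D8302)) (tt N5831 F13277) (tt N4129 (iv5 F13459)) (tt N11910 D17622) (tt N5559 F13456))
theorem Q5740 : ∀ i, i < 5740 → P i := stepQ 5739 Q5739 (allL N5739 (tt N5865 (iv1 F13482)) (tt N11911 D17623) (tt N5569 (iv2 F13458)) (tt N11912 D17624) (tt N2658 (iv4 D8303)) (tt N11913 D17625) (tt N11914 D17626) (tt N5563 F13457))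
theorem Q5741 : ∀ i, i < 5741 → P i := stepQ 5740 Q5740 (allL N5740 (tt N11915 D17627) (tt N11916 D17628) (tt N5570 F13469) (tt N11910 (iv3 F28661)) (tt N11914 (iv4 F28677)) (tt N8630 (iv5 F21541)) (tt N2658 (iv6 D8305)) (tt N11917 D17629))
theorem Q5742 : ∀ i, i < 5742 → P i := stepQ 5741 Q5741 (allL N5741 (tt N4187 (iv1 F14023)) (tt N4192 F21819) (tt N11918 D17630) (tt N2659 (iv3 D8307)) (tt N11919 D17631) (tt N4131 F13428) (tt N11920 D17632) (tt N5568 (iv7 F13452)))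
theorem Q5743 : ∀ i, i < 5743 → P i := stepQ 5742 Q5742 (allL N5742 (tt N11911 (iv1 F28662)) (tt N5865 F13483) (tt N5563 (iv2 F13454)) (tt N11921 D17633) (tt N2659 (iv4 D8308)) (tt N11922 D17634) (tt N11923 D17635) (tt N5569 (iv7 F13453)))
theorem Q5744 : ∀ i, i < 5744 → P i := stepQ 5743 Q5743 (allL N5743 (tt N11924 D17636) (tt N11925 D17637) (tt N5564 (iv2 F13455)) (tt N11920 (iv3 F28694)) (tt N11923 (iv4 F28700)) (tt N11926 D17638) (tt N2659 (iv6 D8310)) (tt N11927 D17639))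
theorem Q5745 : ∀ i, i < 5745 → P i := stepQ 5744 Q5744 (allL N5744 (tt N8666 (iv1 F21646)) (tt N2660 (iv0 D8311)) (tt N8668 (iv2 F21659)) (tt N11928 D17640) (tt N5677 F13429) (tt N11929 D17641) (tt N11930 D17642) (tt N8667 F21655))
theorem Q5746 : ∀ i, i < 5746 → P i := stepQ 5745 Q5745 (allL N5745 (tt N2660 (iv1 D8312)) (tt N8666 (iv0 F21645)) (tt N8667 F21654) (tt N11931 D17643) (tt N5680 (iv4 F13120)) (tt N11932 D17644) (tt N11933 D17645) (tt N8668 (iv7 F21657)))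
theorem Q5747 : ∀ i, i < 5747 → P i := stepQ 5746 Q5746 (allL N5746 (tt N11634 (iv1 F28153)) (tt N11637 (iv0 F28154)) (tt N10790 F299920) (tt N10829 (iv3 F25587)) (tt N8371 F299921) (tt N2660 (iv5 D8313)) (tt N8373 (iv6 F302750)) (tt N8669 (iv7 F21660)))
theorem Q5748 : ∀ i, i < 5748 → P i := stepQ 5747 Q5747 (allL N5747 (tt N11934 D17648) (tt N11934 (iv0 F299480)) (tt N11908 (iv2 F28652)) (tt N10830 (iv3 F25589)) (tt N2661 F13121) (tt N9619 (iv5 F303858)) (tt N2660 (iv6 D8314)) (tt N11908 (iv7 F299460)))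
theorem Q5749 : ∀ i, i < 5749 → P i := stepQ 5748 Q5748 (allL N5748 (tt N2661 F299005) (tt N2661 (iv0 D8315)) (tt N11909 F91326) (tt N11935 D17653) (tt N11936 D17654) (tt N11937 D17655) (tt N11938 D17656) (tt N11909 F299006))
theorem Q5750 : ∀ i, i < 5750 → P i := stepQ 5749 Q5749 (allL N5749 (tt N3227 F295879) (tt N5538 F13128) (tt N2662 (iv2 D8320)) (tt N5552 F13125) (tt N11939 D17662) (tt N4090 F13126) (tt N11940 D17663) (tt N5536 F13127))
theorem Q5751 : ∀ i, i < 5751 → P i := stepQ 5750 Q5750 (allL N5750 (tt N5871 F296009) (tt N5846 (iv0 F13305)) (tt N11939 (iv2 F28729)) (tt N10502 (iv3 F24876)) (tt N2662 (iv4 D8321)) (tt N11941 D17665) (tt N11942 D17666) (tt N5539 F13131))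
theorem Q5752 : ∀ i, i < 5752 → P i := stepQ 5751 Q5751 (allL N5751 (tt N11943 D17667) (tt N11944 D17668) (tt N11940 (iv2 F28733)) (tt N2663 F13132) (tt N11942 (iv4 F28740)) (tt N6051 (iv5 F13775)) (tt N2662 (iv6 D8322)) (tt N11945 D17669))
theorem Q5753 : ∀ i, i < 5753 → P i := stepQ 5752 Q5752 (allL N5752 (tt N5557 (iv1 F13136)) (tt N2663 (iv0 D8323)) (tt N5555 (iv2 F51242)) (tt N11946 D17671) (tt N8524 (iv4 F29955)) (tt N11946 (iv5 F298507)) (tt N11947 D17674) (tt N5556 F51240))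
theorem Q5754 : ∀ i, i < 5754 → P i := stepQ 5753 Q5753 (allL N5753 (tt N2663 (iv1 D8324)) (tt N5557 F13133) (tt N5556 F51239) (tt N11916 (iv3 F91217)) (tt N8525 (iv4 F29959)) (tt N11948 D17678) (tt N11949 D17679) (tt N5555 (iv7 F51243)))
theorem Q5755 : ∀ i, i < 5755 → P i := stepQ 5754 Q5754 (allL N5754 (tt N5556 (iv1 F13137)) (tt N5555 F13138) (tt N5557 F13134) (tt N11945 (iv3 F28741)) (tt N10508 (iv4 F24882)) (tt N6054 (iv5 F13778)) (tt N5547 F13135) (tt N2663 (iv7 D8325)))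
theorem Q5756 : ∀ i, i < 5756 → P i := stepQ 5755 Q5755 (allL N5755 (tt N3197 (iv1 F13143)) (tt N3224 F13142) (tt N2664 (iv2 D8326)) (tt N5536 F13139) (tt N11950 D17680) (tt N2966 F13140) (tt N11951 D17681) (tt N5552 F13141))
theorem Q5757 : ∀ i, i < 5757 → P i := stepQ 5756 Q5756 (allL N5756 (tt N6163 (iv1 F14057)) (tt N6178 (iv0 F14113)) (tt N11950 (iv2 F28747)) (tt N10522 (iv3 F24898)) (tt N2664 (iv4 D8327)) (tt N11952 D17682) (tt N11953 D17683) (tt N5553 F13144))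
theorem Q5758 : ∀ i, i < 5758 → P i := stepQ 5757 Q5757 (allL N5757 (tt N11954 D17684) (tt N11955 D17685) (tt N11951 (iv2 F28751)) (tt N2665 F13145) (tt N11953 (iv4 F28754)) (tt N11885 (iv5 F28581)) (tt N2664 (iv6 D8328)) (tt N11956 D17686))
theorem Q5759 : ∀ i, i < 5759 → P i := stepQ 5758 Q5758 (allL N5758 (tt N5547 (iv1 F13149)) (tt N2665 (iv0 D8329)) (tt N5544 (iv2 F51288)) (tt N11924 F91234) (tt N8498 (iv4 F28962)) (tt N11957 D17690) (tt N11948 (iv6 F28746)) (tt N5545 F51286))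
theorem Q5760 : ∀ i, i < 5760 → P i := stepQ 5759 Q5759 (allL N5759 (tt N2665 (iv1 D8330)) (tt N5547 F13146) (tt N5545 F51285) (tt N11958 D17692) (tt N8499 (iv4 F42953)) (tt N11959 D17694) (tt N11960 D17695) (tt N5544 (iv7 F51289)))
theorem Q5761 : ∀ i, i < 5761 → P i := stepQ 5760 Q5760 (allL N5760 (tt N5545 (iv1 F13150)) (tt N5544 F13151) (tt N5547 F13147) (tt N11956 (iv3 F28755)) (tt N10526 (iv4 F24900)) (tt N11890 (iv5 F28588)) (tt N5557 F13148) (tt N2665 (iv7 D8331)))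
theorem Q5762 : ∀ i, i < 5762 → P i := stepQ 5761 Q5761 (allL N5761 (tt N3210 (iv1 F296259)) (tt N11901 (iv0 F121355)) (tt N11961 D17704) (tt N2666 (iv3 D8333)) (tt N11962 D17705) (tt N11963 D17706) (tt N11964 D17707) (tt N8662 (iv7 F28809)))
theorem Q5763 : ∀ i, i < 5763 → P i := stepQ 5762 Q5762 (allL N5762 (tt N5108 F41730) (tt N3993 (iv0 F41731)) (tt N5105 (iv2 F41743)) (tt N11965 D17711) (tt N2666 (iv4 D8334)) (tt N4824 F316304) (tt N11966 D17713) (tt N5106 F41742))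
theorem Q5764 : ∀ i, i < 5764 → P i := stepQ 5763 Q5763 (allL N5763 (tt N11967 D17715) (tt N11968 D17716) (tt N8660 F28787) (tt N11963 (iv3 F28769)) (tt N11969 D17717) (tt N2666 (iv5 D8335)) (tt N11970 D17718) (tt N5608 F28788))
theorem Q5765 : ∀ i, i < 5765 → P i := stepQ 5764 Q5764 (allL N5764 (tt N11960 (iv1 F43751)) (tt N11971 D17720) (tt N8661 (iv2 F28795)) (tt N11964 (iv3 F28770)) (tt N11966 (iv4 F28774)) (tt N5711 F13153) (tt N2666 (iv6 D8336)) (tt N11972 D17721))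
theorem Q5766 : ∀ i, i < 5766 → P i := stepQ 5765 Q5765 (allL N5765 (tt N6065 (iv1 F118838)) (tt N11973 D17723) (tt N11974 D17724) (tt N2667 (iv3 D8338)) (tt N11975 D17725) (tt N11976 D17726) (tt N11977 D17727) (tt N8659 (iv7 F28792)))
theorem Q5767 : ∀ i, i < 5767 → P i := stepQ 5766 Q5766 (allL N5766 (tt N3993 (iv1 F41732)) (tt N5108 F41729) (tt N5106 F41741) (tt N11978 D17728) (tt N2667 (iv4 D8339)) (tt N11979 D17729) (tt N11980 D17730) (tt N5105 (iv7 F41744)))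
theorem Q5768 : ∀ i, i < 5768 → P i := stepQ 5767 Q5767 (allL N5767 (tt N11968 (iv1 F28781)) (tt N11967 (iv0 F28780)) (tt N5608 F28789) (tt N11976 (iv3 F28832)) (tt N10629 (iv4 F41946)) (tt N2667 (iv5 D8340)) (tt N4103 (iv6 F13155)) (tt N8660 F28790))
theorem Q5769 : ∀ i, i < 5769 → P i := stepQ 5768 Q5768 (allL N5768 (tt N11981 D17732) (tt N11947 (iv0 F30417)) (tt N8663 F28825) (tt N11977 (iv3 F28834)) (tt N11980 (iv4 F28835)) (tt N11982 D17734) (tt N2667 (iv6 D8341)) (tt N11983 D17735))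
theorem Q5770 : ∀ i, i < 5770 → P i := stepQ 5769 Q5769 (allL N5769 (tt N2671 (iv1 F13159)) (tt N2669 (iv0 D8342)) (tt N2713 (iv2 F13158)) (tt N2715 F13157) (tt N4183 F13156) (tt N11273 (iv5 F27494)) (tt N5769 F13161) (tt N2725 F13160))
theorem Q5771 : ∀ i, i < 5771 → P i := stepQ 5770 Q5770 (allL N5770 (tt N11811 (iv1 F28428)) (tt N2742 (iv0 F13358)) (tt N6727 (iv2 F16292)) (tt N6642 (iv3 F15958)) (tt N8634 (iv4 F21547)) (tt N2669 (iv5 D8343)) (tt N11984 D17736) (tt N8655 (iv7 F21589)))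
theorem Q5772 : ∀ i, i < 5772 → P i := stepQ 5771 Q5771 (allL N5771 (tt N2742 F16297) (tt N11811 (iv0 F28427)) (tt N8655 (iv2 F21587)) (tt N2683 F13170) (tt N8635 F21553) (tt N2671 (iv5 D8355)) (tt N11985 D17737) (tt N6727 (iv7 F16294)))
theorem Q5773 : ∀ i, i < 5773 → P i := stepQ 5772 Q5772 (allL N5772 (tt N6627 (iv1 F15941)) (tt N6069 F295957) (tt N6134 (iv2 F13930)) (tt N2672 (iv3 D8367)) (tt N5803 F13259) (tt N2854 F13325) (tt N11986 D17745) (tt N5674 (iv7 F13362)))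
theorem Q5774 : ∀ i, i < 5774 → P i := stepQ 5773 Q5773 (allL N5773 (tt N5091 (iv1 F297921)) (tt N3987 F296554) (tt N5089 (iv2 F296705)) (tt N11987 D17748) (tt N2672 (iv4 D8368)) (tt N11988 D17749) (tt N11989 D17750) (tt N5090 F296555))
theorem Q5775 : ∀ i, i < 5775 → P i := stepQ 5774 Q5774 (allL N5774 (tt N11949 (iv1 F297924)) (tt N11958 F59737) (tt N5682 (iv2 F13365)) (tt N11986 (iv3 F28858)) (tt N11989 (iv4 F28872)) (tt N5614 (iv5 F297286)) (tt N2672 (iv6 D8370)) (tt N11990 D17753))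
theorem Q5776 : ∀ i, i < 5776 → P i := stepQ 5775 Q5775 (allL N5775 (tt N3211 F13371) (tt N3193 F13372) (tt N3207 F13370) (tt N2673 (iv3 D8372)) (tt N5857 (iv4 F13404)) (tt N2914 (iv5 F13369)) (tt N11991 D17754) (tt N3208 F13366))
theorem Q5777 : ∀ i, i < 5777 → P i := stepQ 5776 Q5776 (allL N5776 (tt N3987 F296899) (tt N5091 (iv0 F297920)) (tt N5090 F296900) (tt N11992 D17755) (tt N2673 (iv4 D8373)) (tt N11993 D17756) (tt N11994 D17757) (tt N5089 F296901))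
theorem Q5778 : ∀ i, i < 5778 → P i := stepQ 5777 Q5777 (allL N5777 (tt N11946 F59727) (tt N11948 (iv0 F297833)) (tt N5678 F13373) (tt N11991 (iv3 F28880)) (tt N11994 (iv4 F28887)) (tt N8561 (iv5 F21371)) (tt N2673 (iv6 D8375)) (tt N11866 (iv7 F298510)))
theorem Q5779 : ∀ i, i < 5779 → P i := stepQ 5778 Q5778 (allL N5778 (tt N2710 (iv1 F295985)) (tt N2728 F17601) (tt N5779 F15762) (tt N6180 (iv3 F17418)) (tt N2674 (iv4 D8385)) (tt N5779 F295726) (tt N8570 (iv6 F21382)) (tt N5778 F15766))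
theorem Q5780 : ∀ i, i < 5780 → P i := stepQ 5779 Q5779 (allL N5779 (tt N2728 F17604) (tt N2710 (iv0 F295984)) (tt N5778 (iv2 F15762)) (tt N3172 F13185) (tt N2675 (iv4 D8390)) (tt N5778 (iv5 F295726)) (tt N11228 (iv6 F27358)) (tt N5779 F15754))
theorem Q5781 : ∀ i, i < 5781 → P i := stepQ 5780 Q5780 (allL N5780 (tt N4102 (iv1 F21353)) (tt N4094 (iv0 F16911)) (tt N4099 (iv2 F16904)) (tt N6843 (iv3 F17595)) (tt N11228 (iv4 F27360)) (tt N5621 (iv5 F296034)) (tt N2675 (iv6 D8392)) (tt N4100 (iv7 F16912)))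
theorem Q5782 : ∀ i, i < 5782 → P i := stepQ 5781 Q5781 (allL N5781 (tt N2815 (iv1 F17412)) (tt N3225 F17404) (tt N2676 (iv2 D8412)) (tt N5782 (iv3 F13204)) (tt N2878 F17480) (tt N3186 (iv5 F295643)) (tt N6468 (iv6 F14924)) (tt N5781 F13196))
theorem Q5783 : ∀ i, i < 5783 → P i := stepQ 5782 Q5782 (allL N5782 (tt N3230 F295634) (tt N5727 (iv0 F17602)) (tt N2677 (iv2 D8418)) (tt N5781 F13204) (tt N5782 F13205) (tt N3229 F295635) (tt N5618 F13206) (tt N5782 F13207))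
theorem Q5784 : ∀ i, i < 5784 → P i := stepQ 5783 Q5783 (allL N5783 (tt N5848 F295650) (tt N2734 F17442) (tt N5835 (iv2 F295652)) (tt N2679 F13232) (tt N5835 (iv4 F295653)) (tt N2678 (iv5 D8428)) (tt N11658 (iv6 F295738)) (tt N5783 F13233))
theorem Q5785 : ∀ i, i < 5785 → P i := stepQ 5784 Q5784 (allL N5784 (tt N11995 D17879) (tt N11996 D17880) (tt N5592 F296000) (tt N5834 F296001) (tt N5573 (iv4 F296116)) (tt N5639 F13243) (tt N2681 (iv6 D8434)) (tt N5595 (iv7 F296069)))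
theorem Q5786 : ∀ i, i < 5786 → P i := stepQ 5785 Q5785 (allL N5785 (tt N6199 (iv1 F14149)) (tt N3339 F13245) (tt N2993 F13244) (tt N5849 (iv3 F13379)) (tt N3311 F13246) (tt N2682 (iv5 D8435)) (tt N11997 D17882) (tt N6171 (iv7 F14081)))
theorem Q5787 : ∀ i, i < 5787 → P i := stepQ 5786 Q5786 (allL N5786 (tt N6368 (iv1 F16927)) (tt N6231 F16924) (tt N3080 F13248) (tt N5850 (iv3 F13384)) (tt N2684 F13249) (tt N11998 D17883) (tt N2682 (iv6 D8436)) (tt N6366 F16942))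
theorem Q5788 : ∀ i, i < 5788 → P i := stepQ 5787 Q5787 (allL N5787 (tt N11999 D17884) (tt N12000 D17885) (tt N6732 (iv2 F16321)) (tt N12001 D17886) (tt N2683 (iv4 D8437)) (tt N12002 D17887) (tt N12003 D17888) (tt N6728 (iv7 F16303)))
theorem Q5789 : ∀ i, i < 5789 → P i := stepQ 5788 Q5788 (allL N5788 (tt N12004 D17889) (tt N8856 F126005) (tt N6733 (iv2 F16323)) (tt N11985 (iv3 F28846)) (tt N12003 (iv4 F29064)) (tt N12005 D17891) (tt N2683 (iv6 D8438)) (tt N12006 D17892))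
theorem Q5790 : ∀ i, i < 5790 → P i := stepQ 5789 Q5789 (allL N5789 (tt N6061 (iv1 F16816)) (tt N2684 (iv0 D8439)) (tt N2792 F16809) (tt N5367 F16810) (tt N2856 F16811) (tt N12007 D17893) (tt N2810 F16812) (tt N6720 (iv7 F16962)))
theorem Q5791 : ∀ i, i < 5791 → P i := stepQ 5790 Q5790 (allL N5790 (tt N11226 (iv1 F27352)) (tt N8863 (iv0 F22118)) (tt N6734 (iv2 F16326)) (tt N11841 (iv3 F28510)) (tt N12008 D17894) (tt N2684 (iv5 D8441)) (tt N12005 (iv6 F29065)) (tt N11224 (iv7 F27344)))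
theorem Q5792 : ∀ i, i < 5792 → P i := stepQ 5791 Q5791 (allL N5791 (tt N6109 (iv1 F13895)) (tt N6113 F14039) (tt N6642 (iv2 F15957)) (tt N2686 F13250) (tt N12009 D17895) (tt N2685 (iv5 D8443)) (tt N12010 D17896) (tt N6730 (iv7 F16315)))
theorem Q5793 : ∀ i, i < 5793 → P i := stepQ 5792 Q5792 (allL N5792 (tt N12000 (iv1 F29061)) (tt N11999 F29060) (tt N6728 (iv2 F16302)) (tt N12011 D17897) (tt N2686 (iv4 D8445)) (tt N12012 D17898) (tt N12013 D17899) (tt N6732 (iv7 F16322)))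
theorem Q5794 : ∀ i, i < 5794 → P i := stepQ 5793 Q5793 (allL N5793 (tt N2780 (iv1 F116721)) (tt N8847 (iv0 F116722)) (tt N6729 (iv2 F16304)) (tt N12010 (iv3 F29070)) (tt N12013 (iv4 F29072)) (tt N6739 (iv5 F17011)) (tt N2686 (iv6 D8446)) (tt N8846 (iv7 F116697)))
theorem Q5795 : ∀ i, i < 5795 → P i := stepQ 5794 Q5794 (allL N5794 (tt N6741 (iv1 F16392)) (tt N6740 F16389) (tt N2690 F13253) (tt N12014 D17903) (tt N2687 (iv4 D8451)) (tt N6766 (iv5 F16474)) (tt N12015 D17904) (tt N6723 (iv7 F16261)))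
theorem Q5796 : ∀ i, i < 5796 → P i := stepQ 5795 Q5795 (allL N5795 (tt N12016 D17905) (tt N12017 D17906) (tt N2691 F13254) (tt N8680 (iv3 F21760)) (tt N12015 (iv4 F29074)) (tt N5795 F13255) (tt N2687 (iv6 D8452)) (tt N8702 F296198))
theorem Q5797 : ∀ i, i < 5797 → P i := stepQ 5796 Q5796 (allL N5796 (tt N2727 (iv1 F13481)) (tt N11273 F27497) (tt N5677 (iv2 F13258)) (tt N2688 (iv3 D8453)) (tt N8668 F21658) (tt N4092 F13256) (tt N12018 D17908) (tt N5680 F13257))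
theorem Q5798 : ∀ i, i < 5798 → P i := stepQ 5797 Q5797 (allL N5797 (tt N12019 D17909) (tt N12020 D17910) (tt N6738 (iv2 F16385)) (tt N12021 D17911) (tt N2688 (iv4 D8454)) (tt N12022 D17912) (tt N12023 D17913) (tt N6735 (iv7 F16378)))
theorem Q5799 : ∀ i, i < 5799 → P i := stepQ 5798 Q5798 (allL N5798 (tt N11328 (iv1 F116630)) (tt N8532 (iv0 F116631)) (tt N6739 (iv2 F16387)) (tt N12018 (iv3 F29082)) (tt N12023 (iv4 F29088)) (tt N6729 (iv5 F17012)) (tt N2688 (iv6 D8455)) (tt N11327 (iv7 F116632)))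
theorem Q5800 : ∀ i, i < 5800 → P i := stepQ 5799 Q5799 (allL N5799 (tt N2864 F13809) (tt N2874 F13810) (tt N6745 F296197) (tt N2689 (iv3 D8456)) (tt N12024 D17917) (tt N6060 (iv5 F13805)) (tt N12025 D17918) (tt N6737 (iv7 F16382)))
theorem Q5801 : ∀ i, i < 5801 → P i := stepQ 5800 Q5800 (allL N5800 (tt N12020 (iv1 F29085)) (tt N12019 F29084) (tt N6735 (iv2 F16377)) (tt N12026 D17919) (tt N2689 (iv4 D8457)) (tt N12027 D17920) (tt N12028 D17921) (tt N6738 (iv7 F16386)))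
theorem Q5802 : ∀ i, i < 5802 → P i := stepQ 5801 Q5801 (allL N5801 (tt N11352 F116746) (tt N12029 D17923) (tt N6736 (iv2 F16379)) (tt N12025 (iv3 F29091)) (tt N12028 (iv4 F29093)) (tt N12030 D17924) (tt N2689 (iv6 D8458)) (tt N12031 D17925))
theorem Q5803 : ∀ i, i < 5803 → P i := stepQ 5802 Q5802 (allL N5802 (tt N6723 (iv1 F16264)) (tt N2690 (iv0 D8459)) (tt N6741 F16395) (tt N12032 D17926) (tt N6149 (iv4 F13963)) (tt N12033 D17927) (tt N12034 D17928) (tt N6740 F16391))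
theorem Q5804 : ∀ i, i < 5804 → P i := stepQ 5803 Q5803 (allL N5803 (tt N2690 (iv1 D8460)) (tt N6723 (iv0 F16263)) (tt N6740 F16390) (tt N12035 D17929) (tt N5772 (iv4 F13259)) (tt N12036 D17930) (tt N12037 D17931) (tt N6741 (iv7 F16393)))
theorem Q5805 : ∀ i, i < 5805 → P i := stepQ 5804 Q5804 (allL N5804 (tt N12038 D17932) (tt N12039 D17933) (tt N6766 (iv2 F16473)) (tt N10692 (iv3 F25311)) (tt N6725 (iv4 F16274)) (tt N2690 (iv5 D8461)) (tt N12040 D17934) (tt N6743 (iv7 F16399)))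
theorem Q5806 : ∀ i, i < 5806 → P i := stepQ 5805 Q5805 (allL N5805 (tt N12041 D17935) (tt N12042 D17936) (tt N12015 (iv2 F29073)) (tt N10693 (iv3 F25312)) (tt N2691 F13260) (tt N12043 D17937) (tt N2690 (iv6 D8462)) (tt N12044 D17938))
theorem Q5807 : ∀ i, i < 5807 → P i := stepQ 5806 Q5806 (allL N5806 (tt N8702 F296457) (tt N2691 (iv0 D8463)) (tt N12016 F116855) (tt N12045 D17940) (tt N12046 D17941) (tt N12047 D17942) (tt N12048 D17943) (tt N12017 (iv7 F116866)))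
theorem Q5808 : ∀ i, i < 5808 → P i := stepQ 5807 Q5807 (allL N5807 (tt N2691 (iv1 D8464)) (tt N8702 F296456) (tt N12017 (iv2 F116865)) (tt N12016 (iv3 F296933)) (tt N12049 D17946) (tt N12050 D17947) (tt N12051 D17948) (tt N12016 F116864))
theorem Q5809 : ∀ i, i < 5809 → P i := stepQ 5808 Q5808 (allL N5808 (tt N12017 (iv1 F29075)) (tt N12016 F29078) (tt N8702 F296441) (tt N2694 F13261) (tt N12044 (iv4 F29108)) (tt N5808 F13262) (tt N2864 F296442) (tt N2691 (iv7 D8465)))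
theorem Q5810 : ∀ i, i < 5810 → P i := stepQ 5809 Q5809 (allL N5809 (tt N8680 F298609) (tt N8513 (iv0 F121145)) (tt N8690 F298610) (tt N2692 (iv3 D8467)) (tt N12052 D17958) (tt N12053 D17959) (tt N12054 D17960) (tt N8689 F298611))
theorem Q5811 : ∀ i, i < 5811 → P i := stepQ 5810 Q5810 (allL N5810 (tt N6028 F13691) (tt N4246 F13716) (tt N6027 (iv2 F29861)) (tt N12053 (iv3 F29119)) (tt N12055 D17968) (tt N2692 (iv5 D8469)) (tt N12056 D17969) (tt N5960 F29857))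
theorem Q5812 : ∀ i, i < 5812 → P i := stepQ 5811 Q5811 (allL N5811 (tt N11356 (iv1 F43166)) (tt N11337 (iv0 F27584)) (tt N8692 (iv2 F29863)) (tt N12054 (iv3 F29120)) (tt N10842 (iv4 F29133)) (tt N5981 F13639) (tt N2692 (iv6 D8470)) (tt N12057 D17972))
theorem Q5813 : ∀ i, i < 5813 → P i := stepQ 5812 Q5812 (allL N5812 (tt N2723 (iv1 F117764)) (tt N11280 (iv0 F117765)) (tt N11279 F117734) (tt N2693 (iv3 D8472)) (tt N12058 D17977) (tt N12059 D17978) (tt N12060 D17979) (tt N8691 (iv7 F29858)))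
theorem Q5814 : ∀ i, i < 5814 → P i := stepQ 5813 Q5813 (allL N5813 (tt N4246 (iv1 F13696)) (tt N6028 (iv0 F13693)) (tt N5960 F29856) (tt N12059 (iv3 F29144)) (tt N12061 D17980) (tt N2693 (iv5 D8474)) (tt N4222 (iv6 F13265)) (tt N6027 (iv7 F29862)))
theorem Q5815 : ∀ i, i < 5815 → P i := stepQ 5814 Q5814 (allL N5814 (tt N11339 (iv1 F43155)) (tt N8531 (iv0 F29271)) (tt N8693 (iv2 F29848)) (tt N12060 (iv3 F29146)) (tt N10845 (iv4 F29136)) (tt N12062 D17983) (tt N2693 (iv6 D8475)) (tt N11338 (iv7 F29846)))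
theorem Q5816 : ∀ i, i < 5816 → P i := stepQ 5815 Q5815 (allL N5815 (tt N6261 (iv1 F21736)) (tt N6078 (iv0 F14295)) (tt N8628 F21536) (tt N11625 (iv3 F28138)) (tt N5969 F14296) (tt N2695 (iv5 D8476)) (tt N12063 D17985) (tt N8671 (iv7 F21735)))
theorem Q5817 : ∀ i, i < 5817 → P i := stepQ 5816 Q5816 (allL N5816 (tt N12064 D17986) (tt N12065 D17987) (tt N8677 (iv2 F21750)) (tt N6792 (iv3 F16639)) (tt N2696 (iv4 D8480)) (tt N6791 F16637) (tt N12066 D17988) (tt N8673 (iv7 F21740)))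
theorem Q5818 : ∀ i, i < 5818 → P i := stepQ 5817 Q5817 (allL N5817 (tt N8773 (iv1 F297758)) (tt N2784 (iv0 F117181)) (tt N8678 (iv2 F21752)) (tt N6013 F297059) (tt N12066 (iv4 F29154)) (tt N8682 (iv5 F21768)) (tt N2696 (iv6 D8481)) (tt N8840 F117176))
theorem Q5819 : ∀ i, i < 5819 → P i := stepQ 5818 Q5818 (allL N5818 (tt N11546 (iv1 F28020)) (tt N2739 F28021) (tt N11904 (iv2 F28634)) (tt N2698 F13269) (tt N12067 D17992) (tt N2697 (iv5 D8486)) (tt N12068 D17993) (tt N8676 (iv7 F21747)))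
theorem Q5820 : ∀ i, i < 5820 → P i := stepQ 5819 Q5819 (allL N5819 (tt N11547 F28025) (tt N11310 F28026) (tt N11905 (iv2 F28639)) (tt N2699 F13270) (tt N11905 (iv4 F28641)) (tt N12069 D17994) (tt N2697 (iv6 D8487)) (tt N11235 (iv7 F27379)))
theorem Q5821 : ∀ i, i < 5821 → P i := stepQ 5820 Q5820 (allL N5820 (tt N12065 (iv1 F29153)) (tt N12064 F29152) (tt N8673 (iv2 F21739)) (tt N12070 D17995) (tt N2698 (iv4 D8488)) (tt N12071 D17996) (tt N12072 D17997) (tt N8677 (iv7 F21751)))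
theorem Q5822 : ∀ i, i < 5822 → P i := stepQ 5821 Q5821 (allL N5821 (tt N8749 (iv1 F296993)) (tt N8723 (iv0 F296994)) (tt N8674 (iv2 F21742)) (tt N12068 (iv3 F29155)) (tt N12072 (iv4 F29157)) (tt N12073 D18000) (tt N2698 (iv6 D8489)) (tt N8747 (iv7 F296995)))
theorem Q5823 : ∀ i, i < 5823 → P i := stepQ 5822 Q5822 (allL N5822 (tt N2699 (iv1 D8491)) (tt N5368 F16991) (tt N2794 F16992) (tt N6720 F16993) (tt N5822 F13798) (tt N12074 D18002) (tt N11749 (iv6 F28300)) (tt N5367 F16994))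
theorem Q5824 : ∀ i, i < 5824 → P i := stepQ 5823 Q5823 (allL N5823 (tt N6058 F13797) (tt N12075 D18003) (tt N8675 (iv2 F21743)) (tt N12069 (iv3 F29156)) (tt N12076 D18004) (tt N2699 (iv5 D8492)) (tt N12073 (iv6 F29158)) (tt N11236 (iv7 F27380)))
theorem Q5825 : ∀ i, i < 5825 → P i := stepQ 5824 Q5824 (allL N5824 (tt N6900 (iv1 F17200)) (tt N8686 F21779) (tt N2704 F13271) (tt N12077 D18005) (tt N2700 (iv4 D8494)) (tt N12078 D18006) (tt N8511 (iv6 F296928)) (tt N8679 (iv7 F21755)))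
theorem Q5826 : ∀ i, i < 5826 → P i := stepQ 5825 Q5825 (allL N5825 (tt N12079 D18014) (tt N12080 D18015) (tt N8684 (iv2 F21774)) (tt N6212 F14158) (tt N2702 (iv4 D8499)) (tt N6211 (iv5 F14159)) (tt N12081 D18016) (tt N8681 (iv7 F21763)))
theorem Q5827 : ∀ i, i < 5827 → P i := stepQ 5826 Q5826 (allL N5826 (tt N12082 D18017) (tt N11354 (iv0 F117286)) (tt N8685 (iv2 F21777)) (tt N8694 F298206) (tt N12081 (iv4 F29190)) (tt N12083 D18019) (tt N2702 (iv6 D8501)) (tt N12084 D18020))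
theorem Q5828 : ∀ i, i < 5828 → P i := stepQ 5827 Q5827 (allL N5827 (tt N2732 F295902) (tt N2716 F27412) (tt N8695 (iv2 F295973)) (tt N2703 (iv3 D8503)) (tt N12085 D18021) (tt N6055 (iv5 F13787)) (tt N12086 D18022) (tt N8683 (iv7 F21771)))
theorem Q5829 : ∀ i, i < 5829 → P i := stepQ 5828 Q5828 (allL N5828 (tt N12080 (iv1 F29187)) (tt N12079 F29185) (tt N8681 (iv2 F21762)) (tt N12087 D18023) (tt N2703 (iv4 D8504)) (tt N12088 D18024) (tt N12089 D18025) (tt N8684 (iv7 F21775)))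
theorem Q5830 : ∀ i, i < 5830 → P i := stepQ 5829 Q5829 (allL N5829 (tt N8528 (iv1 F117201)) (tt N11341 (iv0 F117202)) (tt N8682 (iv2 F21767)) (tt N12086 (iv3 F29194)) (tt N12089 (iv4 F29197)) (tt N8678 (iv5 F21753)) (tt N2703 (iv6 D8506)) (tt N11340 (iv7 F117184)))
theorem Q5831 : ∀ i, i < 5831 → P i := stepQ 5830 Q5830 (allL N5830 (tt N8679 (iv1 F21758)) (tt N2704 (iv0 D8507)) (tt N6900 (iv2 F17202)) (tt N12090 D18029) (tt N6802 (iv4 F16666)) (tt N6899 F17204) (tt N12091 D18030) (tt N8686 (iv7 F21780)))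
theorem Q5832 : ∀ i, i < 5832 → P i := stepQ 5831 Q5831 (allL N5831 (tt N2704 (iv1 D8508)) (tt N8679 (iv0 F21757)) (tt N8686 F21778) (tt N6863 (iv3 F17134)) (tt N5738 (iv4 F13277)) (tt N6862 F17132) (tt N12092 D18031) (tt N6900 (iv7 F17199)))
theorem Q5833 : ∀ i, i < 5833 → P i := stepQ 5832 Q5832 (allL N5832 (tt N12093 D18032) (tt N3215 (iv0 F13279)) (tt N12078 (iv2 F29166)) (tt N10660 (iv3 F25169)) (tt N6821 (iv4 F16696)) (tt N2704 (iv5 D8509)) (tt N12094 D18033) (tt N8687 (iv7 F21782)))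
theorem Q5834 : ∀ i, i < 5834 → P i := stepQ 5833 Q5833 (allL N5833 (tt N6806 F17611) (tt N6067 (iv0 F17613)) (tt N5836 (iv2 F21694)) (tt N8716 F21883) (tt N2705 (iv4 D8517)) (tt N8716 F295839) (tt N11655 (iv6 F28167)) (tt N5833 F21695))
theorem Q5835 : ∀ i, i < 5835 → P i := stepQ 5834 Q5834 (allL N5834 (tt N11749 (iv1 F28302)) (tt N2806 F17001) (tt N5837 F21696) (tt N5784 (iv3 F296001)) (tt N11655 (iv4 F28166)) (tt N11753 (iv5 F296194)) (tt N2705 (iv6 D8519)) (tt N11662 (iv7 F28184)))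
theorem Q5836 : ∀ i, i < 5836 → P i := stepQ 5835 Q5835 (allL N5835 (tt N2734 F295651) (tt N5848 (iv0 F17624)) (tt N5783 F295652) (tt N2706 (iv3 D8521)) (tt N5783 F295653) (tt N2733 (iv5 F295728)) (tt N11250 (iv6 F28179)) (tt N5835 F21689))
theorem Q5837 : ∀ i, i < 5837 → P i := stepQ 5836 Q5836 (allL N5836 (tt N6067 F17623) (tt N6806 F17625) (tt N5833 F21694) (tt N4163 F13287) (tt N2706 (iv4 D8522)) (tt N8670 F295840) (tt N5591 (iv6 F21530)) (tt N5836 F21690))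
theorem Q5838 : ∀ i, i < 5838 → P i := stepQ 5837 Q5837 (allL N5837 (tt N5634 F21532) (tt N6056 (iv0 F17007)) (tt N5834 (iv2 F21696)) (tt N11250 F28176) (tt N5591 F21531) (tt N11241 F27392) (tt N2706 (iv6 D8524)) (tt N6057 (iv7 F21697)))
theorem Q5839 : ∀ i, i < 5839 → P i := stepQ 5838 Q5838 (allL N5838 (tt N2716 (iv1 F295976)) (tt N2732 (iv0 F117914)) (tt N8683 (iv2 F295970)) (tt N2707 (iv3 D8529)) (tt N12095 D18075) (tt N5561 (iv5 F296007)) (tt N12096 D18077) (tt N8695 (iv7 F29739)))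
theorem Q5840 : ∀ i, i < 5840 → P i := stepQ 5839 Q5839 (allL N5839 (tt N8535 (iv1 F30019)) (tt N11350 (iv0 F43192)) (tt N8694 (iv2 F29752)) (tt N12096 (iv3 F29258)) (tt N10784 (iv4 F29941)) (tt N5964 F13621) (tt N2707 (iv6 D8532)) (tt N11348 (iv7 F29759)))
theorem Q5841 : ∀ i, i < 5841 → P i := stepQ 5840 Q5840 (allL N5840 (tt N8530 F29270) (tt N8534 (iv0 F30016)) (tt N8696 (iv2 F29737)) (tt N8682 F298211) (tt N10787 (iv4 F29945)) (tt N6013 (iv5 F13669)) (tt N2708 (iv6 D8537)) (tt N11335 (iv7 F29734)))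
theorem Q5842 : ∀ i, i < 5842 → P i := stepQ 5841 Q5841 (allL N5841 (tt N2746 F13300) (tt N2745 F13301) (tt N2750 F13297) (tt N12097 D18122) (tt N2711 (iv4 D8543)) (tt N3283 F13299) (tt N12098 D18123) (tt N2737 F13298))
theorem Q5843 : ∀ i, i < 5843 → P i := stepQ 5842 Q5842 (allL N5842 (tt N12099 D18124) (tt N12100 D18125) (tt N2754 F13302) (tt N8698 (iv3 F21813)) (tt N12098 (iv4 F29288)) (tt N12101 D18126) (tt N2711 (iv6 D8544)) (tt N12102 D18127))
theorem Q5844 : ∀ i, i < 5844 → P i := stepQ 5843 Q5843 (allL N5843 (tt N11248 F27407) (tt N11259 F27444) (tt N2757 F13303) (tt N8699 (iv3 F21815)) (tt N12103 D18128) (tt N2712 (iv5 D8545)) (tt N12101 (iv6 F29291)) (tt N11246 (iv7 F27400)))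
theorem Q5845 : ∀ i, i < 5845 → P i := stepQ 5844 Q5844 (allL N5844 (tt N2739 F13534) (tt N11546 (iv0 F28019)) (tt N8676 (iv2 F21745)) (tt N8664 (iv3 F21628)) (tt N12104 D18129) (tt N2714 (iv5 D8546)) (tt N12105 D18130) (tt N11904 (iv7 F28636)))
theorem Q5846 : ∀ i, i < 5846 → P i := stepQ 5845 Q5845 (allL N5845 (tt N8695 (iv1 F295972)) (tt N8683 F21772) (tt N2716 F13304) (tt N11273 (iv3 F27493)) (tt N11559 (iv4 F28038)) (tt N2715 (iv5 D8548)) (tt N11280 (iv6 F296011)) (tt N2732 F295903))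
theorem Q5847 : ∀ i, i < 5847 → P i := stepQ 5846 Q5846 (allL N5846 (tt N5750 F13305) (tt N11555 (iv0 F28034)) (tt N11559 F28039) (tt N12106 D18134) (tt N2716 (iv4 D8551)) (tt N12107 D18135) (tt N12108 D18136) (tt N11270 (iv7 F27476)))
theorem Q5848 : ∀ i, i < 5848 → P i := stepQ 5847 Q5847 (allL N5847 (tt N11279 (iv1 F296299)) (tt N8691 (iv0 F296298)) (tt N11280 F296146) (tt N2723 F13374) (tt N12108 (iv4 F29305)) (tt N5847 F13375) (tt N2716 (iv6 D8552)) (tt N2723 (iv7 F296236)))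
theorem Q5849 : ∀ i, i < 5849 → P i := stepQ 5848 Q5848 (allL N5848 (tt N5835 F17624) (tt N5783 (iv0 F295650)) (tt N2734 F295638) (tt N2724 F13376) (tt N3230 F295639) (tt N2724 (iv5 F295692)) (tt N2717 (iv6 D8553)) (tt N5848 F13377))
theorem Q5850 : ∀ i, i < 5850 → P i := stepQ 5849 Q5849 (allL N5849 (tt N3274 F13380) (tt N3270 F13382) (tt N3056 F13378) (tt N5785 F13379) (tt N6856 (iv4 F17108)) (tt N2718 (iv5 D8554)) (tt N12109 D18141) (tt N6157 (iv7 F13990)))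
theorem Q5851 : ∀ i, i < 5851 → P i := stepQ 5850 Q5850 (allL N5850 (tt N5386 F16786) (tt N6499 F16787) (tt N3067 F16788) (tt N5786 F13384) (tt N5697 (iv4 F16801)) (tt N12110 D18142) (tt N2718 (iv6 D8555)) (tt N6497 F16789))
theorem Q5852 : ∀ i, i < 5852 → P i := stepQ 5851 Q5851 (allL N5851 (tt N3036 F13387) (tt N6174 F14105) (tt N6120 (iv2 F13916)) (tt N2720 F13386) (tt N6655 (iv4 F15996)) (tt N2719 (iv5 D8556)) (tt N12111 D18143) (tt N6172 (iv7 F14090)))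
theorem Q5853 : ∀ i, i < 5853 → P i := stepQ 5852 Q5852 (allL N5852 (tt N2729 (iv1 F13390)) (tt N2720 (iv0 D8557)) (tt N2983 (iv2 F13389)) (tt N6485 (iv3 F15039)) (tt N6287 (iv4 F14366)) (tt N2981 F13388) (tt N12112 D18144) (tt N6158 (iv7 F13996)))
theorem Q5854 : ∀ i, i < 5854 → P i := stepQ 5853 Q5853 (allL N5853 (tt N2928 F13393) (tt N2941 F13394) (tt N2937 F13391) (tt N12113 D18145) (tt N2720 (iv4 D8558)) (tt N3281 F13392) (tt N12114 D18146) (tt N2936 F13400))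
theorem Q5855 : ∀ i, i < 5855 → P i := stepQ 5854 Q5854 (allL N5854 (tt N12115 D18147) (tt N6597 F66160) (tt N6159 (iv2 F14000)) (tt N12111 (iv3 F29314)) (tt N12114 (iv4 F29320)) (tt N5854 F13395) (tt N2720 (iv6 D8559)) (tt N12116 D18149))
theorem Q5856 : ∀ i, i < 5856 → P i := stepQ 5855 Q5855 (allL N5855 (tt N6158 (iv1 F13995)) (tt N2983 (iv0 F13398)) (tt N2729 F13396) (tt N6172 (iv3 F14089)) (tt N2936 (iv4 F13399)) (tt N2721 F13397) (tt N6443 (iv6 F293252)) (tt N2720 (iv7 D8560)))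
theorem Q5857 : ∀ i, i < 5857 → P i := stepQ 5856 Q5856 (allL N5856 (tt N5868 (iv1 F13496)) (tt N3111 (iv0 F17437)) (tt N2730 F13401) (tt N6173 (iv3 F14095)) (tt N2724 F13402) (tt N3110 F293454) (tt N2721 (iv6 D8561)) (tt N5856 F13403))
theorem Q5858 : ∀ i, i < 5858 → P i := stepQ 5857 Q5857 (allL N5857 (tt N2731 (iv1 F13405)) (tt N2722 (iv0 D8562)) (tt N6807 (iv2 F16678)) (tt N12117 D18152) (tt N5775 F13404) (tt N12118 D18153) (tt N12119 D18154) (tt N6809 (iv7 F16683)))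
theorem Q5859 : ∀ i, i < 5859 → P i := stepQ 5858 Q5858 (allL N5858 (tt N2722 (iv1 D8563)) (tt N2731 F13406) (tt N6809 (iv2 F16682)) (tt N12120 D18155) (tt N6259 (iv4 F14280)) (tt N12121 D18156) (tt N12122 D18157) (tt N6807 (iv7 F16679)))
theorem Q5860 : ∀ i, i < 5860 → P i := stepQ 5859 Q5859 (allL N5859 (tt N10829 F25588) (tt N12123 D18158) (tt N12124 D18159) (tt N2722 (iv3 D8564)) (tt N12106 (iv4 F29303)) (tt N10989 (iv5 F25861)) (tt N12125 D18160) (tt N11271 (iv7 F27479)))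
theorem Q5861 : ∀ i, i < 5861 → P i := stepQ 5860 Q5860 (allL N5860 (tt N12126 D18161) (tt N12127 D18162) (tt N11277 (iv2 F27504)) (tt N10989 F25859) (tt N3282 F13494) (tt N2722 (iv5 D8565)) (tt N12128 D18163) (tt N11272 (iv7 F27481)))
theorem Q5862 : ∀ i, i < 5862 → P i := stepQ 5861 Q5861 (allL N5861 (tt N12129 D18164) (tt N12130 D18165) (tt N11278 (iv2 F27507)) (tt N12125 (iv3 F29331)) (tt N2723 F13407) (tt N12131 D18166) (tt N2722 (iv6 D8566)) (tt N12108 F297052))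
theorem Q5863 : ∀ i, i < 5863 → P i := stepQ 5862 Q5862 (allL N5862 (tt N11280 (iv1 F27515)) (tt N2723 (iv0 D8567)) (tt N8691 (iv2 F117762)) (tt N8690 (iv3 F297045)) (tt N12132 D18170) (tt N12133 D18171) (tt N12134 D18172) (tt N11279 F59622))
theorem Q5864 : ∀ i, i < 5864 → P i := stepQ 5863 Q5863 (allL N5863 (tt N5680 F13412) (tt N5677 F13419) (tt N2727 F13411) (tt N2732 F295873) (tt N11600 (iv4 F28093)) (tt N2725 (iv5 D8571)) (tt N2727 (iv6 F295928)) (tt N11273 (iv7 F27495)))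
theorem Q5865 : ∀ i, i < 5865 → P i := stepQ 5864 Q5864 (allL N5864 (tt N11273 (iv1 F27496)) (tt N2727 (iv0 D8575)) (tt N5680 (iv2 F13479)) (tt N6745 (iv3 F296085)) (tt N8667 (iv4 F21652)) (tt N4091 F13478) (tt N12135 D18183) (tt N5677 (iv7 F13480)))
theorem Q5866 : ∀ i, i < 5866 → P i := stepQ 5865 Q5865 (allL N5865 (tt N5742 (iv1 F13483)) (tt N5739 F13482) (tt N11600 F28094) (tt N12136 D18184) (tt N2727 (iv4 D8576)) (tt N12137 D18185) (tt N11600 F296041) (tt N11274 (iv7 F27498)))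
theorem Q5867 : ∀ i, i < 5867 → P i := stepQ 5866 Q5866 (allL N5866 (tt N2941 F13491) (tt N2928 F13492) (tt N2936 F13489) (tt N12138 D18192) (tt N2729 (iv4 D8581)) (tt N3282 (iv5 F13493)) (tt N6555 (iv6 F293714)) (tt N2937 F13490))
theorem Q5868 : ∀ i, i < 5868 → P i := stepQ 5867 Q5867 (allL N5867 (tt N6273 F293112) (tt N12139 D18195) (tt N6443 (iv2 F293249)) (tt N6119 (iv3 F13915)) (tt N6555 (iv4 F293713)) (tt N6140 F293113) (tt N2729 (iv6 D8582)) (tt N6448 F293114))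
theorem Q5869 : ∀ i, i < 5869 → P i := stepQ 5868 Q5868 (allL N5868 (tt N2730 (iv1 D8584)) (tt N5856 F13496) (tt N3111 F17471) (tt N6177 F17472) (tt N3228 F17433) (tt N3221 F293291) (tt N11254 (iv6 F27427)) (tt N5868 F17473))
theorem Q5870 : ∀ i, i < 5870 → P i := stepQ 5869 Q5869 (allL N5869 (tt N12140 D18200) (tt N12141 D18201) (tt N12142 D18202) (tt N2731 (iv3 D8586)) (tt N12136 (iv4 F29352)) (tt N12143 D18203) (tt N12144 D18204) (tt N11276 (iv7 F27503)))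
theorem Q5871 : ∀ i, i < 5871 → P i := stepQ 5870 Q5870 (allL N5870 (tt N12127 (iv1 F29334)) (tt N12126 F29333) (tt N11272 (iv2 F27480)) (tt N12143 (iv3 F29373)) (tt N3281 F13498) (tt N2731 (iv5 D8587)) (tt N12145 D18205) (tt N11277 (iv7 F27506)))
theorem Q5872 : ∀ i, i < 5872 → P i := stepQ 5871 Q5871 (allL N5871 (tt N11555 (iv1 F296008)) (tt N5750 (iv0 F296009)) (tt N11270 (iv2 F295975)) (tt N12144 (iv3 F29374)) (tt N2732 F13499) (tt N12146 D18208) (tt N2731 (iv6 D8588)) (tt N11559 (iv7 F296010)))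
theorem Q5873 : ∀ i, i < 5873 → P i := stepQ 5872 Q5872 (allL N5872 (tt N8655 (iv1 F21590)) (tt N6727 F21592) (tt N11811 (iv2 F28424)) (tt N2735 (iv3 D8603)) (tt N12147 D18230) (tt N5373 F13510) (tt N12148 D18231) (tt N2742 F13511))
theorem Q5874 : ∀ i, i < 5874 → P i := stepQ 5873 Q5873 (allL N5873 (tt N6797 (iv1 F16653)) (tt N6800 (iv0 F16660)) (tt N2740 F13512) (tt N12149 D18232) (tt N2735 (iv4 D8604)) (tt N12150 D18233) (tt N12151 D18234) (tt N2743 F13513))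
theorem Q5875 : ∀ i, i < 5875 → P i := stepQ 5874 Q5874 (allL N5874 (tt N8796 F117667) (tt N12152 D18236) (tt N2741 F13514) (tt N12148 (iv3 F29399)) (tt N12151 (iv4 F29407)) (tt N12153 D18237) (tt N2735 (iv6 D8605)) (tt N12154 D18238))
theorem Q5876 : ∀ i, i < 5876 → P i := stepQ 5875 Q5875 (allL N5875 (tt N8676 (iv1 F21749)) (tt N11904 (iv0 F28637)) (tt N11546 (iv2 F28016)) (tt N2736 (iv3 D8606)) (tt N12155 D18239) (tt N5378 F13515) (tt N12100 (iv6 F296291)) (tt N2739 F13516))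
theorem Q5877 : ∀ i, i < 5877 → P i := stepQ 5876 Q5876 (allL N5876 (tt N6800 (iv1 F16661)) (tt N6797 (iv0 F16652)) (tt N2743 F13517) (tt N12156 D18241) (tt N2736 (iv4 D8607)) (tt N12157 D18242) (tt N12158 D18243) (tt N2740 F13518))
theorem Q5878 : ∀ i, i < 5878 → P i := stepQ 5877 Q5877 (allL N5877 (tt N12068 F296224) (tt N8813 F117932) (tt N2744 F13519) (tt N12100 (iv3 F296290)) (tt N12158 (iv4 F29431)) (tt N12159 D18246) (tt N2736 (iv6 D8608)) (tt N12160 D18247))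
theorem Q5879 : ∀ i, i < 5879 → P i := stepQ 5878 Q5878 (allL N5878 (tt N2750 (iv1 F13520)) (tt N2737 (iv0 D8609)) (tt N2745 F13848) (tt N11913 (iv3 F28673)) (tt N6075 (iv4 F13847)) (tt N11912 F28669) (tt N12161 D18248) (tt N2746 F13849))
theorem Q5880 : ∀ i, i < 5880 → P i := stepQ 5879 Q5879 (allL N5879 (tt N2737 (iv1 D8610)) (tt N2750 F13521) (tt N2746 F13851) (tt N12162 D18249) (tt N6265 (iv4 F14310)) (tt N12163 D18250) (tt N12164 D18251) (tt N2745 F13852))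
theorem Q5881 : ∀ i, i < 5881 → P i := stepQ 5880 Q5880 (allL N5880 (tt N12165 D18252) (tt N12166 D18253) (tt N12167 D18254) (tt N2737 (iv3 D8611)) (tt N8726 (iv4 F21907)) (tt N12168 D18255) (tt N12169 D18256) (tt N12097 (iv7 F29286)))
theorem Q5882 : ∀ i, i < 5882 → P i := stepQ 5881 Q5881 (allL N5881 (tt N11285 (iv1 F27531)) (tt N11282 (iv0 F27520)) (tt N2748 F13522) (tt N12168 (iv3 F29449)) (tt N3285 F13524) (tt N2737 (iv5 D8612)) (tt N12170 D18257) (tt N3283 F13523))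
theorem Q5883 : ∀ i, i < 5883 → P i := stepQ 5882 Q5882 (allL N5882 (tt N12171 D18258) (tt N12172 D18259) (tt N2749 F13525) (tt N12169 (iv3 F29451)) (tt N2738 F13526) (tt N12173 D18260) (tt N2737 (iv6 D8613)) (tt N12174 D18261))
theorem Q5884 : ∀ i, i < 5884 → P i := stepQ 5883 Q5883 (allL N5883 (tt N2753 (iv1 F13529)) (tt N2738 (iv0 D8614)) (tt N2751 F29623) (tt N12175 D18263) (tt N12176 D18264) (tt N12177 D18265) (tt N5934 F13581) (tt N2752 F29624))
theorem Q5885 : ∀ i, i < 5885 → P i := stepQ 5884 Q5884 (allL N5884 (tt N2738 (iv1 D8615)) (tt N2753 F13527) (tt N2752 (iv2 F29618)) (tt N5931 F296990) (tt N12178 D18268) (tt N5929 F296991) (tt N12179 D18269) (tt N2751 (iv7 F29622)))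
theorem Q5886 : ∀ i, i < 5886 → P i := stepQ 5885 Q5885 (allL N5885 (tt N2752 (iv1 F13530)) (tt N2751 F13531) (tt N2753 F13528) (tt N8730 (iv3 F21913)) (tt N12174 (iv4 F29457)) (tt N11269 (iv5 F27467)) (tt N12102 (iv6 F29293)) (tt N2738 (iv7 D8616)))
theorem Q5887 : ∀ i, i < 5887 → P i := stepQ 5886 Q5886 (allL N5886 (tt N11904 (iv1 F28638)) (tt N8676 (iv0 F21748)) (tt N2739 (iv2 D8619)) (tt N11811 (iv3 F28425)) (tt N12180 D18270) (tt N5376 F13532) (tt N12181 D18271) (tt N11546 (iv7 F28018)))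
theorem Q5888 : ∀ i, i < 5888 → P i := stepQ 5887 Q5887 (allL N5887 (tt N5601 F13533) (tt N12182 D18272) (tt N12180 (iv2 F29463)) (tt N12183 D18273) (tt N2739 (iv4 D8620)) (tt N12184 D18274) (tt N12185 D18275) (tt N12155 (iv7 F29418)))
theorem Q5889 : ∀ i, i < 5889 → P i := stepQ 5888 Q5888 (allL N5888 (tt N12186 D18276) (tt N12187 D18277) (tt N12181 (iv2 F29467)) (tt N2741 F13535) (tt N12185 (iv4 F29474)) (tt N12188 D18278) (tt N2739 (iv6 D8621)) (tt N12189 D18279))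
theorem Q5890 : ∀ i, i < 5890 → P i := stepQ 5889 Q5889 (allL N5889 (tt N2743 (iv1 F13537)) (tt N2740 (iv0 D8622)) (tt N6797 (iv2 F16650)) (tt N12190 D18280) (tt N5688 F13536) (tt N12126 (iv5 F29332)) (tt N12191 D18281) (tt N6800 (iv7 F16659)))
theorem Q5891 : ∀ i, i < 5891 → P i := stepQ 5890 Q5890 (allL N5890 (tt N2740 (iv1 D8623)) (tt N2743 F13538) (tt N6800 (iv2 F16658)) (tt N12192 D18282) (tt N6575 (iv4 F15484)) (tt N12127 (iv5 F29335)) (tt N12193 D18283) (tt N6797 (iv7 F16651)))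
theorem Q5892 : ∀ i, i < 5892 → P i := stepQ 5891 Q5891 (allL N5891 (tt N10990 F25863) (tt N12194 D18284) (tt N12195 D18285) (tt N2740 (iv3 D8624)) (tt N12183 (iv4 F29472)) (tt N12196 D18286) (tt N12197 D18287) (tt N12156 (iv7 F29422)))
theorem Q5893 : ∀ i, i < 5893 → P i := stepQ 5892 Q5892 (allL N5892 (tt N12198 D18288) (tt N12199 D18289) (tt N12150 (iv2 F29401)) (tt N12196 (iv3 F29480)) (tt N3275 F13539) (tt N2740 (iv5 D8625)) (tt N12200 D18290) (tt N12157 (iv7 F29425)))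
theorem Q5894 : ∀ i, i < 5894 → P i := stepQ 5893 Q5893 (allL N5893 (tt N12201 D18291) (tt N12202 D18292) (tt N12151 (iv2 F29406)) (tt N12197 (iv3 F29487)) (tt N2741 F13540) (tt N12203 D18293) (tt N2740 (iv6 D8626)) (tt N12204 D18294))
theorem Q5895 : ∀ i, i < 5895 → P i := stepQ 5894 Q5894 (allL N5894 (tt N12154 (iv1 F29416)) (tt N2741 (iv0 D8627)) (tt N8796 (iv2 F117665)) (tt N8738 F121078) (tt N12205 D18297) (tt N12206 D18298) (tt N12207 D18299) (tt N12152 (iv7 F59623)))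
theorem Q5896 : ∀ i, i < 5896 → P i := stepQ 5895 Q5895 (allL N5895 (tt N2741 (iv1 D8628)) (tt N12154 F29415) (tt N12152 F59631) (tt N2762 (iv3 F117664)) (tt N12208 D18302) (tt N12209 D18303) (tt N12187 F297322) (tt N8796 (iv7 F117666)))
theorem Q5897 : ∀ i, i < 5897 → P i := stepQ 5896 Q5896 (allL N5896 (tt N12210 D18305) (tt N12211 D18306) (tt N12153 (iv2 F29410)) (tt N12188 (iv3 F29475)) (tt N12212 D18307) (tt N2741 (iv5 D8629)) (tt N5381 F13541) (tt N12213 D18308))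
theorem Q5898 : ∀ i, i < 5898 → P i := stepQ 5897 Q5897 (allL N5897 (tt N12152 (iv1 F29409)) (tt N8796 F117668) (tt N12154 (iv2 F29412)) (tt N12189 (iv3 F29477)) (tt N12204 (iv4 F29499)) (tt N12213 (iv5 F29505)) (tt N12160 (iv6 F29436)) (tt N2741 (iv7 D8630)))
theorem Q5899 : ∀ i, i < 5899 → P i := stepQ 5898 Q5898 (allL N5898 (tt N6727 (iv1 F16295)) (tt N8655 F21593) (tt N2742 (iv2 D8632)) (tt N11546 (iv3 F28017)) (tt N12214 D18309) (tt N5383 F13542) (tt N12215 D18310) (tt N11811 (iv7 F28426)))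
theorem Q5900 : ∀ i, i < 5900 → P i := stepQ 5899 Q5899 (allL N5899 (tt N5581 F16298) (tt N5578 F13543) (tt N12214 (iv2 F29506)) (tt N12216 D18311) (tt N2742 (iv4 D8633)) (tt N12217 D18312) (tt N12218 D18313) (tt N12147 (iv7 F29396)))
theorem Q5901 : ∀ i, i < 5901 → P i := stepQ 5900 Q5900 (allL N5900 (tt N11985 F296460) (tt N12219 D18315) (tt N12215 (iv2 F29510)) (tt N2744 F13544) (tt N12218 (iv4 F29514)) (tt N12220 D18316) (tt N2742 (iv6 D8634)) (tt N12221 D18317))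
theorem Q5902 : ∀ i, i < 5902 → P i := stepQ 5901 Q5901 (allL N5901 (tt N12222 D18318) (tt N12223 D18319) (tt N12224 D18320) (tt N2743 (iv3 D8635)) (tt N12216 (iv4 F29511)) (tt N12225 D18321) (tt N12226 D18322) (tt N12149 (iv7 F29400)))
theorem Q5903 : ∀ i, i < 5903 → P i := stepQ 5902 Q5902 (allL N5902 (tt N12199 (iv1 F29493)) (tt N12198 F29490) (tt N12157 (iv2 F29423)) (tt N12225 (iv3 F29518)) (tt N3271 F13545) (tt N2743 (iv5 D8636)) (tt N12227 D18323) (tt N12150 (iv7 F29402)))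
theorem Q5904 : ∀ i, i < 5904 → P i := stepQ 5903 Q5903 (allL N5903 (tt N12228 D18324) (tt N12229 D18325) (tt N12158 (iv2 F29430)) (tt N12226 (iv3 F29520)) (tt N2744 F13546) (tt N12230 D18326) (tt N2743 (iv6 D8637)) (tt N12231 D18327))
theorem Q5905 : ∀ i, i < 5905 → P i := stepQ 5904 Q5904 (allL N5904 (tt N12160 (iv1 F29439)) (tt N2744 (iv0 D8638)) (tt N12068 F296139) (tt N2768 (iv3 F117966)) (tt N12232 D18330) (tt N12233 D18331) (tt N11904 F296140) (tt N8813 F117935))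
theorem Q5906 : ∀ i, i < 5906 → P i := stepQ 5905 Q5905 (allL N5905 (tt N2744 (iv1 D8639)) (tt N12160 F29438) (tt N8813 F117925) (tt N8747 F120608) (tt N12234 D18335) (tt N12235 D18336) (tt N12236 D18337) (tt N12068 F296225))
theorem Q5907 : ∀ i, i < 5907 → P i := stepQ 5906 Q5906 (allL N5906 (tt N12237 D18338) (tt N12238 D18339) (tt N12159 (iv2 F29433)) (tt N12220 (iv3 F29515)) (tt N12239 D18340) (tt N2744 (iv5 D8640)) (tt N5387 F13547) (tt N12240 D18341))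
theorem Q5908 : ∀ i, i < 5908 → P i := stepQ 5907 Q5907 (allL N5907 (tt N8813 F117933) (tt N12068 F296223) (tt N12160 (iv2 F29435)) (tt N12221 (iv3 F29517)) (tt N12231 (iv4 F29522)) (tt N12240 (iv5 F29528)) (tt N12154 (iv6 F29413)) (tt N2744 (iv7 D8641)))
theorem Q5909 : ∀ i, i < 5909 → P i := stepQ 5908 Q5908 (allL N5908 (tt N12241 D18342) (tt N12242 D18343) (tt N12243 D18344) (tt N2745 (iv3 D8643)) (tt N12244 D18345) (tt N12245 D18346) (tt N12246 D18347) (tt N12162 (iv7 F29441)))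
theorem Q5910 : ∀ i, i < 5910 → P i := stepQ 5909 Q5909 (allL N5909 (tt N6309 (iv1 F14427)) (tt N5398 F13550) (tt N11912 (iv2 F28671)) (tt N12245 (iv3 F29532)) (tt N3264 F13549) (tt N2745 (iv5 D8644)) (tt N12247 D18348) (tt N12163 (iv7 F29444)))
theorem Q5911 : ∀ i, i < 5911 → P i := stepQ 5910 Q5910 (allL N5910 (tt N12205 (iv1 F118787)) (tt N12208 (iv0 F118788)) (tt N12161 (iv2 F29440)) (tt N12246 (iv3 F29533)) (tt N6264 (iv4 F14308)) (tt N12248 D18351) (tt N2745 (iv6 D8645)) (tt N12249 D18352))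
theorem Q5912 : ∀ i, i < 5912 → P i := stepQ 5911 Q5911 (allL N5911 (tt N12217 (iv1 F29513)) (tt N12250 D18353) (tt N11922 (iv2 F28696)) (tt N2746 (iv3 D8647)) (tt N10786 F301590) (tt N5563 F13555) (tt N12251 D18354) (tt N11913 (iv7 F28674)))
theorem Q5913 : ∀ i, i < 5913 → P i := stepQ 5912 Q5912 (allL N5912 (tt N5398 F13553) (tt N6309 (iv0 F14426)) (tt N12163 (iv2 F29442)) (tt N5563 (iv3 F13554)) (tt N3255 F13552) (tt N2746 (iv5 D8648)) (tt N12252 D18355) (tt N11912 (iv7 F28667)))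
theorem Q5914 : ∀ i, i < 5914 → P i := stepQ 5913 Q5913 (allL N5913 (tt N12232 (iv1 F113495)) (tt N12234 (iv0 F113496)) (tt N12164 (iv2 F29447)) (tt N12251 (iv3 F29537)) (tt N6274 (iv4 F14330)) (tt N12253 D18358) (tt N2746 (iv6 D8649)) (tt N12254 D18359))
theorem Q5915 : ∀ i, i < 5915 → P i := stepQ 5914 Q5914 (allL N5914 (tt N8433 (iv1 F21093)) (tt N2747 (iv0 D8650)) (tt N8441 F42866) (tt N12255 D18361) (tt N12256 D18362) (tt N12257 D18363) (tt N12258 D18364) (tt N8440 (iv7 F42869)))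
theorem Q5916 : ∀ i, i < 5916 → P i := stepQ 5915 Q5915 (allL N5915 (tt N2747 (iv1 D8651)) (tt N8433 F21092) (tt N8440 (iv2 F42868)) (tt N12259 D18366) (tt N9147 (iv4 F22808)) (tt N12260 D18367) (tt N12261 D18368) (tt N8441 F42867))
theorem Q5917 : ∀ i, i < 5917 → P i := stepQ 5916 Q5916 (allL N5916 (tt N8441 (iv1 F21099)) (tt N8440 F21098) (tt N2747 (iv2 D8652)) (tt N12167 (iv3 F29448)) (tt N2774 F13556) (tt N12262 D18369) (tt N12263 D18370) (tt N8433 (iv7 F21091)))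
theorem Q5918 : ∀ i, i < 5918 → P i := stepQ 5917 Q5917 (allL N5917 (tt N12264 D18371) (tt N12265 D18372) (tt N12262 (iv2 F29545)) (tt N2748 F13557) (tt N12266 D18373) (tt N2747 (iv5 D8653)) (tt N12267 D18374) (tt N8442 (iv7 F21101)))
theorem Q5919 : ∀ i, i < 5919 → P i := stepQ 5918 Q5918 (allL N5918 (tt N12268 D18375) (tt N12269 D18376) (tt N12263 (iv2 F29546)) (tt N2749 F13558) (tt N2775 F13559) (tt N12270 D18377) (tt N2747 (iv6 D8654)) (tt N12271 D18378))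
theorem Q5920 : ∀ i, i < 5920 → P i := stepQ 5919 Q5919 (allL N5919 (tt N3283 F13571) (tt N2748 (iv0 D8655)) (tt N11285 (iv2 F27526)) (tt N12272 D18379) (tt N3232 F13569) (tt N3209 (iv5 F13570)) (tt N12273 D18380) (tt N11282 (iv7 F27518)))
theorem Q5921 : ∀ i, i < 5921 → P i := stepQ 5920 Q5920 (allL N5920 (tt N2748 (iv1 D8656)) (tt N3283 F13560) (tt N11282 (iv2 F27517)) (tt N5578 (iv3 F13562)) (tt N3216 (iv4 F13563)) (tt N3226 F13561) (tt N12274 D18381) (tt N11285 (iv7 F27529)))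
theorem Q5922 : ∀ i, i < 5922 → P i := stepQ 5921 Q5921 (allL N5921 (tt N3282 F13566) (tt N3281 (iv0 F13568)) (tt N3285 F13564) (tt N12275 D18382) (tt N2748 (iv4 D8657)) (tt N3190 F13565) (tt N12276 D18383) (tt N3244 F13567))
theorem Q5923 : ∀ i, i < 5923 → P i := stepQ 5922 Q5922 (allL N5922 (tt N12277 D18384) (tt N12278 D18385) (tt N12170 (iv2 F29452)) (tt N12267 (iv3 F29549)) (tt N12276 (iv4 F29561)) (tt N12279 D18386) (tt N2748 (iv6 D8658)) (tt N12280 D18387))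
theorem Q5924 : ∀ i, i < 5924 → P i := stepQ 5923 Q5923 (allL N5923 (tt N11282 (iv1 F27521)) (tt N11285 (iv0 F27530)) (tt N3283 F13573) (tt N8442 (iv3 F21100)) (tt N3244 F13574) (tt N2750 F13575) (tt N12281 D18388) (tt N2748 (iv7 D8659)))
theorem Q5925 : ∀ i, i < 5925 → P i := stepQ 5924 Q5924 (allL N5924 (tt N12174 (iv1 F29460)) (tt N2749 (iv0 D8660)) (tt N12171 F61151) (tt N12282 D18390) (tt N12283 D18391) (tt N12284 D18392) (tt N12285 D18393) (tt N12172 (iv7 F61157)))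
theorem Q5926 : ∀ i, i < 5926 → P i := stepQ 5925 Q5925 (allL N5925 (tt N2749 (iv1 D8661)) (tt N12174 F29459) (tt N12172 (iv2 F61156)) (tt N12286 D18395) (tt N12287 D18396) (tt N12288 D18397) (tt N12289 D18398) (tt N12171 F61150))
theorem Q5927 : ∀ i, i < 5927 → P i := stepQ 5926 Q5926 (allL N5926 (tt N12290 D18399) (tt N12291 D18400) (tt N12173 (iv2 F29455)) (tt N12270 (iv3 F29550)) (tt N12292 D18401) (tt N2749 (iv5 D8662)) (tt N12279 (iv6 F29562)) (tt N12293 D18402))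
theorem Q5928 : ∀ i, i < 5928 → P i := stepQ 5927 Q5927 (allL N5927 (tt N12172 (iv1 F29454)) (tt N12171 F29458) (tt N12174 (iv2 F29456)) (tt N12271 (iv3 F29551)) (tt N2753 F13576) (tt N12293 (iv5 F29567)) (tt N12294 D18403) (tt N2749 (iv7 D8663)))
theorem Q5929 : ∀ i, i < 5929 → P i := stepQ 5928 Q5928 (allL N5928 (tt N12295 D18404) (tt N12296 D18405) (tt N12098 (iv2 F29287)) (tt N8443 (iv3 F21102)) (tt N2754 F13577) (tt N12297 D18406) (tt N2750 (iv6 D8664)) (tt N12294 (iv7 F29569)))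
theorem Q5930 : ∀ i, i < 5930 → P i := stepQ 5929 Q5929 (allL N5929 (tt N12236 (iv1 F296667)) (tt N12105 F117226) (tt N5934 (iv2 F296665)) (tt N2751 (iv3 D8666)) (tt N12298 D18416) (tt N5884 (iv5 F296991)) (tt N2751 (iv6 F296287)) (tt N5931 (iv7 F296666)))
theorem Q5931 : ∀ i, i < 5931 → P i := stepQ 5930 Q5930 (allL N5930 (tt N12299 D18420) (tt N12193 F59686) (tt N12176 (iv2 F29628)) (tt N12300 D18422) (tt N2751 (iv4 D8667)) (tt N12301 D18423) (tt N12298 F297323) (tt N12178 (iv7 F29621)))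
theorem Q5932 : ∀ i, i < 5932 → P i := stepQ 5931 Q5931 (allL N5931 (tt N12302 D18426) (tt N12303 D18427) (tt N12177 (iv2 F29630)) (tt N5884 (iv3 F296990)) (tt N12304 D18428) (tt N2751 (iv5 D8668)) (tt N12305 D18429) (tt N5929 F296666))
theorem Q5933 : ∀ i, i < 5933 → P i := stepQ 5932 Q5932 (allL N5932 (tt N11984 F116651) (tt N12306 D18436) (tt N12307 D18437) (tt N2752 (iv3 D8671)) (tt N12308 D18438) (tt N12309 D18439) (tt N12310 D18440) (tt N12175 (iv7 F29627)))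
theorem Q5934 : ∀ i, i < 5934 → P i := stepQ 5933 Q5933 (allL N5933 (tt N12193 F59687) (tt N12299 F29588) (tt N12178 (iv2 F29620)) (tt N12311 D18441) (tt N2752 (iv4 D8672)) (tt N12312 D18442) (tt N12313 D18443) (tt N12176 (iv7 F29629)))
theorem Q5935 : ∀ i, i < 5935 → P i := stepQ 5934 Q5934 (allL N5934 (tt N12303 (iv1 F29590)) (tt N12302 F29595) (tt N5929 F296665) (tt N12309 (iv3 F29603)) (tt N12314 D18444) (tt N2752 (iv5 D8673)) (tt N5883 (iv6 F13581)) (tt N12177 (iv7 F29631)))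
theorem Q5936 : ∀ i, i < 5936 → P i := stepQ 5935 Q5935 (allL N5935 (tt N12315 D18445) (tt N12207 (iv0 F29635)) (tt N12179 (iv2 F29617)) (tt N12310 (iv3 F29605)) (tt N12313 (iv4 F29606)) (tt N12316 D18447) (tt N2752 (iv6 D8674)) (tt N12316 F29612))
theorem Q5937 : ∀ i, i < 5937 → P i := stepQ 5936 Q5936 (allL N5936 (tt N12100 (iv1 F29289)) (tt N12099 F29294) (tt N12102 (iv2 F29292)) (tt N2788 F13582) (tt N12294 (iv4 F29568)) (tt N12317 D18448) (tt N2753 (iv6 D8675)) (tt N2754 F13583))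
theorem Q5938 : ∀ i, i < 5938 → P i := stepQ 5937 Q5937 (allL N5937 (tt N12102 (iv1 F29296)) (tt N2754 (iv0 D8676)) (tt N12099 F125822) (tt N12160 F297053) (tt N12318 D18451) (tt N12319 D18452) (tt N12189 F297054) (tt N12100 (iv7 F125830)))
theorem Q5939 : ∀ i, i < 5939 → P i := stepQ 5938 Q5938 (allL N5938 (tt N2754 (iv1 D8677)) (tt N12102 F29295) (tt N12100 (iv2 F125829)) (tt N12215 (iv3 F296571)) (tt N12320 D18456) (tt N12321 D18457) (tt N11546 F296220) (tt N12099 F125828))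
theorem Q5940 : ∀ i, i < 5940 → P i := stepQ 5939 Q5939 (allL N5939 (tt N12322 D18459) (tt N12323 D18460) (tt N12101 (iv2 F29290)) (tt N2791 F13584) (tt N12324 D18461) (tt N2754 (iv5 D8678)) (tt N2757 F13585) (tt N12317 (iv7 F29638)))
theorem Q5941 : ∀ i, i < 5941 → P i := stepQ 5940 Q5940 (allL N5940 (tt N11235 (iv1 F28062)) (tt N11905 (iv0 F28643)) (tt N11547 (iv2 F28022)) (tt N2755 (iv3 D8679)) (tt N5542 F13587) (tt N12325 D18462) (tt N5378 F13586) (tt N11310 (iv7 F27551)))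
theorem Q5942 : ∀ i, i < 5942 → P i := stepQ 5941 Q5941 (allL N5941 (tt N6497 F15127) (tt N3067 (iv0 F14568)) (tt N5386 F13591) (tt N6368 F14553) (tt N2755 (iv4 D8680)) (tt N6838 (iv5 F292408)) (tt N3041 F13592) (tt N6499 (iv7 F15132)))
theorem Q5943 : ∀ i, i < 5943 → P i := stepQ 5942 Q5942 (allL N5942 (tt N11759 (iv1 F28329)) (tt N6478 F17609) (tt N5387 F13593) (tt N12325 (iv3 F29642)) (tt N12326 D18464) (tt N2755 (iv5 D8681)) (tt N12159 (iv6 F29434)) (tt N11311 (iv7 F27553)))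
theorem Q5944 : ∀ i, i < 5944 → P i := stepQ 5943 Q5943 (allL N5943 (tt N8656 F21598) (tt N5681 (iv0 F16952)) (tt N11835 F28487) (tt N2756 (iv3 D8682)) (tt N11598 (iv4 F28087)) (tt N7804 (iv5 F325939)) (tt N11758 (iv6 F28325)) (tt N5385 F13594))
theorem Q5945 : ∀ i, i < 5945 → P i := stepQ 5944 Q5944 (allL N5944 (tt N3067 (iv1 F14569)) (tt N6497 (iv0 F15128)) (tt N6499 F15131) (tt N2968 (iv3 F13596)) (tt N2756 (iv4 D8683)) (tt N6839 F291516) (tt N6444 (iv6 F17544)) (tt N5386 F13595))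
theorem Q5946 : ∀ i, i < 5946 → P i := stepQ 5945 Q5945 (allL N5945 (tt N6478 F17608) (tt N11759 (iv0 F28330)) (tt N11311 (iv2 F27552)) (tt N7804 (iv3 F325938)) (tt N12327 D18467) (tt N2756 (iv5 D8684)) (tt N7803 F325264) (tt N5387 F13597))
theorem Q5947 : ∀ i, i < 5947 → P i := stepQ 5946 Q5946 (allL N5946 (tt N2757 (iv1 D8686)) (tt N11246 (iv0 F27402)) (tt N11259 (iv2 F27442)) (tt N7834 F323995) (tt N12328 D18470) (tt N5640 (iv5 F17497)) (tt N7833 F323996) (tt N11248 (iv7 F27405)))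
theorem Q5948 : ∀ i, i < 5948 → P i := stepQ 5947 Q5947 (allL N5947 (tt N12329 D18472) (tt N12330 D18473) (tt N12103 (iv2 F29297)) (tt N12331 D18474) (tt N2757 (iv4 D8687)) (tt N12332 D18475) (tt N12324 (iv6 F29641)) (tt N11312 (iv7 F27556)))
theorem Q5949 : ∀ i, i < 5949 → P i := stepQ 5948 Q5948 (allL N5948 (tt N6710 (iv1 F16209)) (tt N6698 (iv0 F16148)) (tt N2759 F13610) (tt N12333 D18476) (tt N2758 (iv4 D8688)) (tt N7077 (iv5 F17730)) (tt N12334 D18477) (tt N8804 (iv7 F22026)))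
theorem Q5950 : ∀ i, i < 5950 → P i := stepQ 5949 Q5949 (allL N5949 (tt N12335 D18478) (tt N12336 D18479) (tt N2760 F13611) (tt N8787 (iv3 F21992)) (tt N12334 (iv4 F29658)) (tt N12337 D18480) (tt N2758 (iv6 D8689)) (tt N12338 D18481))
theorem Q5951 : ∀ i, i < 5951 → P i := stepQ 5950 Q5950 (allL N5950 (tt N8804 (iv1 F22028)) (tt N2759 (iv0 D8690)) (tt N6710 (iv2 F16206)) (tt N12339 D18482) (tt N3116 F13612) (tt N12038 (iv5 F29102)) (tt N12340 D18483) (tt N6698 (iv7 F16147)))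
theorem Q5952 : ∀ i, i < 5952 → P i := stepQ 5951 Q5951 (allL N5951 (tt N2759 (iv1 D8691)) (tt N8804 (iv0 F22027)) (tt N6698 (iv2 F16146)) (tt N12341 D18484) (tt N3123 (iv4 F13613)) (tt N12039 (iv5 F29106)) (tt N12342 D18485) (tt N6710 (iv7 F16207)))
theorem Q5953 : ∀ i, i < 5953 → P i := stepQ 5952 Q5952 (allL N5952 (tt N12343 D18486) (tt N12344 D18487) (tt N7077 (iv2 F17728)) (tt N10594 (iv3 F26496)) (tt N7067 (iv4 F17706)) (tt N2759 (iv5 D8692)) (tt N12345 D18488) (tt N8806 (iv7 F22033)))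
theorem Q5954 : ∀ i, i < 5954 → P i := stepQ 5953 Q5953 (allL N5953 (tt N12346 D18489) (tt N12347 D18490) (tt N12334 (iv2 F29657)) (tt N10623 (iv3 F25104)) (tt N2760 F13614) (tt N12348 D18491) (tt N2759 (iv6 D8693)) (tt N12349 D18492))
theorem Q5955 : ∀ i, i < 5955 → P i := stepQ 5954 Q5954 (allL N5954 (tt N12338 (iv1 F29666)) (tt N2760 (iv0 D8694)) (tt N12335 F116867) (tt N12350 D18494) (tt N12351 D18495) (tt N12352 D18496) (tt N12353 D18497) (tt N12336 (iv7 F116878)))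
theorem Q5956 : ∀ i, i < 5956 → P i := stepQ 5955 Q5955 (allL N5955 (tt N2760 (iv1 D8695)) (tt N12338 F29665) (tt N12336 (iv2 F116877)) (tt N12354 D18499) (tt N12355 D18500) (tt N12356 D18501) (tt N12354 (iv6 F297690)) (tt N12335 F116873))
theorem Q5957 : ∀ i, i < 5957 → P i := stepQ 5956 Q5956 (allL N5956 (tt N12357 D18503) (tt N12358 D18504) (tt N12337 (iv2 F29661)) (tt N2763 F13615) (tt N12359 D18505) (tt N2760 (iv5 D8696)) (tt N5361 F13616) (tt N12360 D18506))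
theorem Q5958 : ∀ i, i < 5958 → P i := stepQ 5957 Q5957 (allL N5957 (tt N12336 (iv1 F29660)) (tt N12335 F29664) (tt N12338 (iv2 F29663)) (tt N2764 F13617) (tt N12349 (iv4 F29680)) (tt N12360 (iv5 F29686)) (tt N8811 (iv6 F22038)) (tt N2760 (iv7 D8697)))
theorem Q5959 : ∀ i, i < 5959 → P i := stepQ 5958 Q5958 (allL N5958 (tt N8741 F121064) (tt N8721 (iv0 F121065)) (tt N8738 (iv2 F121073)) (tt N2761 (iv3 D8699)) (tt N12361 D18516) (tt N12362 D18517) (tt N12363 D18518) (tt N8739 (iv7 F121066)))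
theorem Q5960 : ∀ i, i < 5960 → P i := stepQ 5959 Q5959 (allL N5959 (tt N11349 F27593) (tt N12364 D18526) (tt N8797 (iv2 F29870)) (tt N12362 (iv3 F29697)) (tt N12365 D18527) (tt N2761 (iv5 D8701)) (tt N12366 D18528) (tt N8798 (iv7 F29878)))
theorem Q5961 : ∀ i, i < 5961 → P i := stepQ 5960 Q5960 (allL N5960 (tt N2787 F13715) (tt N6016 (iv0 F13672)) (tt N5813 (iv2 F29856)) (tt N12363 (iv3 F29698)) (tt N10996 (iv4 F42339)) (tt N4176 F13619) (tt N2761 (iv6 D8702)) (tt N5810 (iv7 F29857)))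
theorem Q5962 : ∀ i, i < 5962 → P i := stepQ 5961 Q5961 (allL N5961 (tt N12364 (iv1 F29706)) (tt N11349 (iv0 F28001)) (tt N8798 (iv2 F29877)) (tt N12209 F117675) (tt N12367 D18541) (tt N2762 (iv5 D8706)) (tt N12368 D18542) (tt N8797 (iv7 F29871)))
theorem Q5963 : ∀ i, i < 5963 → P i := stepQ 5962 Q5962 (allL N5962 (tt N12369 D18543) (tt N8855 (iv0 F29882)) (tt N8799 (iv2 F29880)) (tt N12187 F298688) (tt N10999 (iv4 F42347)) (tt N12370 D18545) (tt N2762 (iv6 D8707)) (tt N12371 D18546))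
theorem Q5964 : ∀ i, i < 5964 → P i := stepQ 5963 Q5963 (allL N5963 (tt N8803 (iv1 F22023)) (tt N2763 (iv0 D8708)) (tt N8800 (iv2 F29756)) (tt N12372 D18548) (tt N11709 (iv4 F43479)) (tt N12373 D18550) (tt N5978 F13638) (tt N8801 F29754))
theorem Q5965 : ∀ i, i < 5965 → P i := stepQ 5964 Q5964 (allL N5964 (tt N2763 (iv1 D8709)) (tt N8803 F22022) (tt N8801 (iv2 F29755)) (tt N12211 (iv3 F117882)) (tt N11710 (iv4 F42349)) (tt N5839 (iv5 F13621)) (tt N11599 F297005) (tt N8800 (iv7 F29757)))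
theorem Q5966 : ∀ i, i < 5966 → P i := stepQ 5965 Q5965 (allL N5965 (tt N12374 D18554) (tt N12375 D18555) (tt N8802 (iv2 F22017)) (tt N12376 D18556) (tt N2763 (iv4 D8710)) (tt N12377 D18557) (tt N5363 F13622) (tt N12378 D18558))
theorem Q5967 : ∀ i, i < 5967 → P i := stepQ 5966 Q5966 (allL N5966 (tt N8801 (iv1 F22015)) (tt N8800 F22021) (tt N8803 (iv2 F22019)) (tt N12360 (iv3 F29685)) (tt N12378 (iv4 F29793)) (tt N2764 F13623) (tt N12379 D18559) (tt N2763 (iv7 D8711)))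
theorem Q5968 : ∀ i, i < 5968 → P i := stepQ 5967 Q5967 (allL N5967 (tt N8789 (iv1 F21998)) (tt N8788 F21994) (tt N2766 F13626) (tt N12380 D18560) (tt N2765 (iv4 D8722)) (tt N12381 D18561) (tt N12382 D18562) (tt N8786 (iv7 F21987)))
theorem Q5969 : ∀ i, i < 5969 → P i := stepQ 5968 Q5968 (allL N5968 (tt N8698 F296488) (tt N8776 (iv0 F297774)) (tt N2767 F13627) (tt N8805 (iv3 F22030)) (tt N12382 (iv4 F29801)) (tt N12383 D18565) (tt N2765 (iv6 D8723)) (tt N8777 (iv7 F297765)))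
theorem Q5970 : ∀ i, i < 5970 → P i := stepQ 5969 Q5969 (allL N5969 (tt N8786 (iv1 F21990)) (tt N2766 (iv0 D8724)) (tt N8789 (iv2 F22001)) (tt N12384 D18567) (tt N5815 (iv4 F14296)) (tt N12093 (iv5 F29199)) (tt N12385 D18568) (tt N8788 F21996))
theorem Q5971 : ∀ i, i < 5971 → P i := stepQ 5970 Q5970 (allL N5970 (tt N2766 (iv1 D8725)) (tt N8786 (iv0 F21989)) (tt N8788 F21995) (tt N3216 F13629) (tt N5577 (iv4 F13628)) (tt N3215 (iv5 F13630)) (tt N12386 D18569) (tt N8789 (iv7 F21999)))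
theorem Q5972 : ∀ i, i < 5972 → P i := stepQ 5971 Q5971 (allL N5971 (tt N12387 D18570) (tt N3254 (iv0 F13631)) (tt N12381 (iv2 F29795)) (tt N10556 (iv3 F24952)) (tt N6898 F17197) (tt N2766 (iv5 D8726)) (tt N12388 D18571) (tt N8790 (iv7 F22005)))
theorem Q5973 : ∀ i, i < 5973 → P i := stepQ 5972 Q5972 (allL N5972 (tt N12389 D18572) (tt N12390 D18573) (tt N12382 (iv2 F29800)) (tt N10557 (iv3 F24954)) (tt N2767 F13632) (tt N12391 D18574) (tt N2766 (iv6 D8727)) (tt N12392 D18575))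
theorem Q5974 : ∀ i, i < 5974 → P i := stepQ 5973 Q5973 (allL N5973 (tt N2767 (iv1 D8729)) (tt N8777 (iv0 F297763)) (tt N8776 (iv2 F297776)) (tt N12102 F297329) (tt N12393 D18583) (tt N12394 D18584) (tt N8730 (iv6 F297754)) (tt N8698 F297330))
theorem Q5975 : ∀ i, i < 5975 → P i := stepQ 5974 Q5974 (allL N5974 (tt N12395 D18586) (tt N12396 D18587) (tt N12383 (iv2 F29803)) (tt N2770 F13633) (tt N12397 D18588) (tt N2767 (iv5 D8730)) (tt N5369 F13634) (tt N12398 D18589))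
theorem Q5976 : ∀ i, i < 5976 → P i := stepQ 5975 Q5975 (allL N5975 (tt N8776 (iv1 F297775)) (tt N8698 F297328) (tt N8777 (iv2 F297764)) (tt N2771 F13635) (tt N12392 (iv4 F29819)) (tt N12398 (iv5 F29824)) (tt N8795 (iv6 F22012)) (tt N2767 (iv7 D8731)))
theorem Q5977 : ∀ i, i < 5977 → P i := stepQ 5976 Q5976 (allL N5976 (tt N12399 D18601) (tt N12400 D18602) (tt N8812 (iv2 F29770)) (tt N12233 F117936) (tt N12401 D18603) (tt N2768 (iv5 D8735)) (tt N11906 F298201) (tt N8814 (iv7 F29768)))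
theorem Q5978 : ∀ i, i < 5978 → P i := stepQ 5977 Q5977 (allL N5977 (tt N8723 (iv1 F120601)) (tt N8749 (iv0 F120602)) (tt N8747 (iv2 F120584)) (tt N2769 (iv3 D8738)) (tt N12402 D18610) (tt N12403 D18611) (tt N8840 (iv6 F298937)) (tt N8674 F297368))
theorem Q5979 : ∀ i, i < 5979 → P i := stepQ 5978 Q5978 (allL N5978 (tt N12400 (iv1 F29833)) (tt N12399 F29831) (tt N8814 F29761) (tt N12403 (iv3 F29835)) (tt N12404 D18616) (tt N2769 (iv5 D8740)) (tt N5963 (iv6 F13638)) (tt N8812 F29786))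
theorem Q5980 : ∀ i, i < 5980 → P i := stepQ 5979 Q5979 (allL N5979 (tt N4243 F29779) (tt N2783 F29780) (tt N6014 (iv2 F29783)) (tt N8840 (iv3 F298936)) (tt N10983 (iv4 F42188)) (tt N11335 (iv5 F27582)) (tt N2769 (iv6 D8741)) (tt N6013 (iv7 F29736)))
theorem Q5981 : ∀ i, i < 5981 → P i := stepQ 5980 Q5980 (allL N5980 (tt N8818 (iv1 F22051)) (tt N2770 (iv0 D8742)) (tt N8815 (iv2 F29889)) (tt N12237 F117789) (tt N11874 (iv4 F43808)) (tt N12405 D18620) (tt N12406 D18621) (tt N8816 F29886))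
theorem Q5982 : ∀ i, i < 5982 → P i := stepQ 5981 Q5981 (allL N5981 (tt N2770 (iv1 D8743)) (tt N8818 F22050) (tt N8816 (iv2 F29888)) (tt N12407 D18622) (tt N11875 (iv4 F42190)) (tt N5811 (iv5 F13639)) (tt N12408 D18624) (tt N8815 (iv7 F29891)))
theorem Q5983 : ∀ i, i < 5983 → P i := stepQ 5982 Q5982 (allL N5982 (tt N12409 D18625) (tt N12410 D18626) (tt N8817 (iv2 F22045)) (tt N12411 D18627) (tt N2770 (iv4 D8744)) (tt N12412 D18628) (tt N5370 F13640) (tt N12413 D18629))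
theorem Q5984 : ∀ i, i < 5984 → P i := stepQ 5983 Q5983 (allL N5983 (tt N8816 (iv1 F22043)) (tt N8815 F22049) (tt N8818 (iv2 F22047)) (tt N12398 (iv3 F29823)) (tt N12413 (iv4 F29900)) (tt N2771 F13641) (tt N12414 D18630) (tt N2770 (iv7 D8745)))
theorem Q5985 : ∀ i, i < 5985 → P i := stepQ 5984 Q5984 (allL N5984 (tt N10738 (iv1 F41472)) (tt N12415 D18632) (tt N8616 F26658) (tt N2772 (iv3 D8747)) (tt N12416 D18633) (tt N8614 (iv5 F26652)) (tt N12417 D18634) (tt N8435 F27029))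
theorem Q5986 : ∀ i, i < 5986 → P i := stepQ 5985 Q5985 (allL N5985 (tt N12418 D18635) (tt N12419 D18636) (tt N8438 F27034) (tt N11640 F28157) (tt N2772 (iv4 D8748)) (tt N12420 D18637) (tt N12421 D18638) (tt N8436 F27030))
theorem Q5987 : ∀ i, i < 5987 → P i := stepQ 5986 Q5986 (allL N5986 (tt N12422 D18639) (tt N10997 F53232) (tt N8439 (iv2 F27021)) (tt N12417 (iv3 F29908)) (tt N12421 (iv4 F29915)) (tt N10987 F26655) (tt N2772 (iv6 D8750)) (tt N12423 D18641))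
theorem Q5988 : ∀ i, i < 5988 → P i := stepQ 5987 Q5987 (allL N5987 (tt N12419 (iv1 F29911)) (tt N12418 F29910) (tt N8436 F27031) (tt N12424 D18642) (tt N2773 (iv4 D8753)) (tt N12425 D18643) (tt N12426 D18644) (tt N8438 (iv7 F27033)))
theorem Q5989 : ∀ i, i < 5989 → P i := stepQ 5988 Q5988 (allL N5988 (tt N10980 F130258) (tt N12427 D18646) (tt N8437 F27032) (tt N11803 (iv3 F28399)) (tt N12426 (iv4 F29917)) (tt N12428 D18647) (tt N2773 (iv6 D8755)) (tt N12429 D18648))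
theorem Q5990 : ∀ i, i < 5990 → P i := stepQ 5989 Q5989 (allL N5989 (tt N12430 D18649) (tt N12431 D18650) (tt N2775 F13644) (tt N8825 (iv3 F22055)) (tt N12263 (iv4 F29547)) (tt N11126 (iv5 F313600)) (tt N2774 (iv6 D8756)) (tt N12432 D18652))
theorem Q5991 : ∀ i, i < 5991 → P i := stepQ 5990 Q5990 (allL N5990 (tt N12432 (iv1 F29923)) (tt N2775 (iv0 D8757)) (tt N12430 F130145) (tt N12433 D18654) (tt N12434 D18655) (tt N12435 D18656) (tt N12436 D18657) (tt N12431 (iv7 F130153)))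
theorem Q5992 : ∀ i, i < 5992 → P i := stepQ 5991 Q5991 (allL N5991 (tt N2775 (iv1 D8758)) (tt N12432 F29922) (tt N12431 (iv2 F130152)) (tt N12437 D18659) (tt N12438 D18660) (tt N12439 D18661) (tt N12440 D18662) (tt N12430 F130151))
theorem Q5993 : ∀ i, i < 5993 → P i := stepQ 5992 Q5992 (allL N5992 (tt N11127 (iv1 F313592)) (tt N11129 F311322) (tt N11126 (iv2 F313599)) (tt N2778 F13645) (tt N12441 D18665) (tt N2775 (iv5 D8759)) (tt N8448 (iv6 F21107)) (tt N11125 (iv7 F313598)))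
theorem Q5994 : ∀ i, i < 5994 → P i := stepQ 5993 Q5993 (allL N5993 (tt N12431 (iv1 F29918)) (tt N12430 F29921) (tt N12432 (iv2 F29920)) (tt N2779 F13646) (tt N12271 (iv4 F29552)) (tt N11125 (iv5 F313597)) (tt N8446 (iv6 F21105)) (tt N2775 (iv7 D8760)))
theorem Q5995 : ∀ i, i < 5995 → P i := stepQ 5994 Q5994 (allL N5994 (tt N12442 D18672) (tt N10801 F199860) (tt N12443 D18674) (tt N2776 (iv3 D8762)) (tt N12444 D18675) (tt N12445 D18676) (tt N12446 D18677) (tt N8833 (iv7 F30405)))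
theorem Q5996 : ∀ i, i < 5996 → P i := stepQ 5995 Q5995 (allL N5995 (tt N12447 D18679) (tt N12448 D18680) (tt N8831 (iv2 F30415)) (tt N12445 (iv3 F29934)) (tt N12449 D18681) (tt N2776 (iv5 D8764)) (tt N12450 D18682) (tt N8834 (iv7 F30407)))
theorem Q5997 : ∀ i, i < 5997 → P i := stepQ 5996 Q5996 (allL N5996 (tt N10983 (iv1 F42186)) (tt N11827 F298701) (tt N8832 (iv2 F30392)) (tt N12446 (iv3 F29935)) (tt N6100 (iv4 F28969)) (tt N12451 D18686) (tt N2776 (iv6 D8765)) (tt N12452 D18687))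
theorem Q5998 : ∀ i, i < 5998 → P i := stepQ 5997 Q5997 (allL N5997 (tt N10734 F232338) (tt N12453 D18690) (tt N12454 D18691) (tt N2777 (iv3 D8767)) (tt N12455 D18692) (tt N12456 D18693) (tt N12457 D18694) (tt N8830 (iv7 F30414)))
theorem Q5999 : ∀ i, i < 5999 → P i := stepQ 5998 Q5998 (allL N5998 (tt N12448 (iv1 F29948)) (tt N12447 F29951) (tt N8834 (iv2 F30406)) (tt N12456 (iv3 F29961)) (tt N12458 D18695) (tt N2777 (iv5 D8769)) (tt N12459 D18696) (tt N8831 (iv7 F30416)))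
theorem Q6000 : ∀ i, i < 6000 → P i := stepQ 5999 Q5999 (allL N5999 (tt N12460 D18697) (tt N10996 (iv0 F42337)) (tt N8835 (iv2 F30410)) (tt N12457 (iv3 F29962)) (tt N6103 (iv4 F28978)) (tt N10080 (iv5 F316163)) (tt N2777 (iv6 D8770)) (tt N12461 D18700))
theorem Q6001 : ∀ i, i < 6001 → P i := stepQ 6000 Q6000 (allL N6000 (tt N8839 (iv1 F22069)) (tt N2778 (iv0 D8771)) (tt N8836 (iv2 F51300)) (tt N12462 D18702) (tt N12463 D18703) (tt N12464 D18704) (tt N12465 D18705) (tt N8837 F51299))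
theorem Q6002 : ∀ i, i < 6002 → P i := stepQ 6001 Q6001 (allL N6001 (tt N2778 (iv1 D8772)) (tt N8839 F22068) (tt N8837 F51298) (tt N12466 D18707) (tt N12467 D18708) (tt N11208 (iv5 F27296)) (tt N12468 D18709) (tt N8836 (iv7 F51301)))
theorem Q6003 : ∀ i, i < 6003 → P i := stepQ 6002 Q6002 (allL N6002 (tt N12469 D18710) (tt N12470 D18711) (tt N8838 (iv2 F22063)) (tt N12471 D18712) (tt N2778 (iv4 D8773)) (tt N12472 D18713) (tt N8473 (iv6 F21163)) (tt N12473 D18714))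
theorem Q6004 : ∀ i, i < 6004 → P i := stepQ 6003 Q6003 (allL N6003 (tt N8837 (iv1 F22062)) (tt N8836 F22067) (tt N8839 (iv2 F22065)) (tt N11125 F316043) (tt N12473 (iv4 F29967)) (tt N2779 F13649) (tt N12474 D18715) (tt N2778 (iv7 D8774)))
theorem Q6005 : ∀ i, i < 6005 → P i := stepQ 6004 Q6004 (allL N6004 (tt N8847 (iv1 F22089)) (tt N2780 (iv0 D8781)) (tt N8846 F61088) (tt N12306 (iv3 F60792)) (tt N12475 D18718) (tt N11327 F61594) (tt N12006 (iv6 F116729)) (tt N6729 F116660))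
theorem Q6006 : ∀ i, i < 6006 → P i := stepQ 6005 Q6005 (allL N6005 (tt N8846 (iv1 F22090)) (tt N6729 F116658) (tt N2780 (iv2 D8783)) (tt N8773 (iv3 F297760)) (tt N12476 D18726) (tt N12477 D18727) (tt N8771 F296475) (tt N8847 (iv7 F22088)))
theorem Q6007 : ∀ i, i < 6007 → P i := stepQ 6006 Q6006 (allL N6006 (tt N12478 D18729) (tt N12342 (iv0 F59762)) (tt N12476 (iv2 F29970)) (tt N9549 F309159) (tt N2780 (iv4 D8784)) (tt N9547 F309160) (tt N12479 D18733) (tt N8848 (iv7 F22092)))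
theorem Q6008 : ∀ i, i < 6008 → P i := stepQ 6007 Q6007 (allL N6007 (tt N12480 D18734) (tt N12481 D18735) (tt N12477 (iv2 F29971)) (tt N2782 F13660) (tt N12482 D18736) (tt N2780 (iv5 D8785)) (tt N12483 D18737) (tt N6008 (iv7 F13713)))
theorem Q6009 : ∀ i, i < 6009 → P i := stepQ 6008 Q6008 (allL N6008 (tt N12484 D18738) (tt N12010 F296449) (tt N8771 F296450) (tt N2783 F13661) (tt N12479 (iv4 F29976)) (tt N4244 (iv5 F13662)) (tt N2780 (iv6 D8786)) (tt N6007 F13713))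
theorem Q6010 : ∀ i, i < 6010 → P i := stepQ 6009 Q6009 (allL N6009 (tt N2785 (iv1 F13668)) (tt N2781 (iv0 D8788)) (tt N8842 (iv2 F30432)) (tt N12485 D18741) (tt N2827 (iv4 F30050)) (tt N12486 D18743) (tt N7229 (iv6 F30051)) (tt N2824 F30049))
theorem Q6011 : ∀ i, i < 6011 → P i := stepQ 6010 Q6010 (allL N6010 (tt N9899 (iv1 F311032)) (tt N9907 (iv0 F311358)) (tt N12487 D18752) (tt N2781 (iv3 D8790)) (tt N9549 F309161) (tt N9249 (iv5 F309324)) (tt N12488 D18754) (tt N8850 (iv7 F22094)))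
theorem Q6012 : ∀ i, i < 6012 → P i := stepQ 6011 Q6011 (allL N6011 (tt N12489 D18755) (tt N12490 D18756) (tt N8844 (iv2 F22082)) (tt N9249 F311551) (tt N12491 D18757) (tt N2781 (iv5 D8791)) (tt N12492 D18758) (tt N8851 (iv7 F22096)))
theorem Q6013 : ∀ i, i < 6013 → P i := stepQ 6012 Q6012 (allL N6012 (tt N10571 (iv1 F41778)) (tt N12493 D18760) (tt N6026 F13712) (tt N12488 (iv3 F29988)) (tt N2783 F13665) (tt N12494 D18761) (tt N2781 (iv6 D8792)) (tt N6015 F13714))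
theorem Q6014 : ∀ i, i < 6014 → P i := stepQ 6013 Q6013 (allL N6013 (tt N2786 (iv1 F13675)) (tt N2782 (iv0 D8794)) (tt N6017 F29782) (tt N5817 (iv3 F297059)) (tt N12495 D18763) (tt N5840 F13669) (tt N5735 F296974) (tt N5979 F29736))
theorem Q6015 : ∀ i, i < 6015 → P i := stepQ 6014 Q6014 (allL N6014 (tt N2782 (iv1 D8795)) (tt N2786 F13670) (tt N5979 F29783) (tt N12303 F117905) (tt N12496 D18766) (tt N12497 D18767) (tt N4230 F29784) (tt N6017 F29785))
theorem Q6016 : ∀ i, i < 6016 → P i := stepQ 6015 Q6015 (allL N6015 (tt N11824 (iv1 F298434)) (tt N11864 (iv0 F30420)) (tt N8845 (iv2 F22084)) (tt N12498 D18770) (tt N2782 (iv4 D8796)) (tt N12499 D18771) (tt N12500 D18772) (tt N6012 (iv7 F13714)))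
theorem Q6017 : ∀ i, i < 6017 → P i := stepQ 6016 Q6016 (allL N6016 (tt N5960 F13672) (tt N6027 (iv0 F13689)) (tt N6028 (iv2 F13695)) (tt N12483 (iv3 F29980)) (tt N12500 (iv4 F30026)) (tt N4246 F13671) (tt N2782 (iv6 D8797)) (tt N4246 F13677))
theorem Q6018 : ∀ i, i < 6018 → P i := stepQ 6017 Q6017 (allL N6017 (tt N2783 (iv1 D8800)) (tt N4243 F13678) (tt N6013 (iv2 F29782)) (tt N12105 F296216) (tt N11827 (iv4 F296982)) (tt N8696 (iv5 F21794)) (tt N8664 F296217) (tt N6014 (iv7 F29785)))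
theorem Q6019 : ∀ i, i < 6019 → P i := stepQ 6018 Q6018 (allL N6018 (tt N2784 (iv1 D8804)) (tt N8773 (iv0 F297757)) (tt N8840 F61275) (tt N12236 F297061) (tt N12501 D18781) (tt N11340 F91477) (tt N8747 F297062) (tt N8678 F117174))
theorem Q6020 : ∀ i, i < 6020 → P i := stepQ 6019 Q6019 (allL N6019 (tt N8678 (iv1 F117172)) (tt N8840 F22070) (tt N2784 (iv2 D8805)) (tt N8847 (iv3 F22087)) (tt N12502 D18784) (tt N4212 F297060) (tt N12503 D18786) (tt N8773 (iv7 F297761)))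
theorem Q6021 : ∀ i, i < 6021 → P i := stepQ 6020 Q6020 (allL N6020 (tt N12385 F91157) (tt N12504 D18788) (tt N12502 (iv2 F30031)) (tt N12505 D18789) (tt N2784 (iv4 D8806)) (tt N12506 D18790) (tt N12507 D18791) (tt N8841 (iv7 F22076)))
theorem Q6022 : ∀ i, i < 6022 → P i := stepQ 6021 Q6021 (allL N6021 (tt N4214 (iv1 F299870)) (tt N4199 F297755) (tt N4212 F297756) (tt N2786 F13683) (tt N12508 D18794) (tt N2784 (iv5 D8807)) (tt N4241 (iv6 F13684)) (tt N4213 (iv7 F298706)))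
theorem Q6023 : ∀ i, i < 6023 → P i := stepQ 6022 Q6022 (allL N6022 (tt N12363 F301521) (tt N12509 D18796) (tt N12503 (iv2 F30035)) (tt N2787 F13685) (tt N12507 (iv4 F30037)) (tt N8775 F301522) (tt N2784 (iv6 D8808)) (tt N8775 F301523))
theorem Q6024 : ∀ i, i < 6024 → P i := stepQ 6023 Q6023 (allL N6023 (tt N10550 F155109) (tt N12510 D18799) (tt N12511 D18800) (tt N2785 (iv3 D8809)) (tt N12505 (iv4 F30036)) (tt N12512 D18801) (tt N12513 D18802) (tt N8843 (iv7 F22081)))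
theorem Q6025 : ∀ i, i < 6025 → P i := stepQ 6024 Q6024 (allL N6024 (tt N12490 (iv1 F29990)) (tt N12489 F29989) (tt N8851 (iv2 F22095)) (tt N12512 (iv3 F30042)) (tt N12514 D18803) (tt N2785 (iv5 D8810)) (tt N12515 D18804) (tt N8844 (iv7 F22083)))
theorem Q6026 : ∀ i, i < 6026 → P i := stepQ 6025 Q6025 (allL N6025 (tt N11969 (iv1 F41734)) (tt N10629 (iv0 F41943)) (tt N8852 (iv2 F22097)) (tt N12513 (iv3 F30043)) (tt N2787 F13686) (tt N12516 D18807) (tt N2785 (iv6 D8811)) (tt N12517 D18808))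
theorem Q6027 : ∀ i, i < 6027 → P i := stepQ 6026 Q6026 (allL N6026 (tt N11864 (iv1 F30421)) (tt N11824 F300050) (tt N6012 (iv2 F13712)) (tt N12518 D18809) (tt N2786 (iv4 D8812)) (tt N12519 D18810) (tt N4242 F13687) (tt N8845 (iv7 F22085)))
theorem Q6028 : ∀ i, i < 6028 → P i := stepQ 6027 Q6027 (allL N6027 (tt N6016 F13689) (tt N2787 (iv0 D8813)) (tt N5810 F29861) (tt N12315 F117752) (tt N12460 (iv4 F30363)) (tt N4175 F13688) (tt N12371 (iv6 F29725)) (tt N5813 F29862))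
theorem Q6029 : ∀ i, i < 6029 → P i := stepQ 6028 Q6028 (allL N6028 (tt N5813 F13693) (tt N5810 (iv0 F13691)) (tt N6016 F13695) (tt N8775 (iv3 F301367)) (tt N12517 (iv4 F30062)) (tt N2787 (iv5 D8815)) (tt N4243 F13690) (tt N2787 (iv7 F13692)))
theorem Q6030 : ∀ i, i < 6030 → P i := stepQ 6029 Q6029 (allL N6029 (tt N8859 (iv1 F22106)) (tt N8858 F22105) (tt N8853 (iv2 F22099)) (tt N12317 (iv3 F29637)) (tt N12520 D18813) (tt N2788 (iv5 D8816)) (tt N11351 (iv6 F27594)) (tt N2791 F13717))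
theorem Q6031 : ∀ i, i < 6031 → P i := stepQ 6030 Q6030 (allL N6030 (tt N12006 F126006) (tt N6733 F126007) (tt N12004 F126008) (tt N2789 (iv3 D8818)) (tt N12521 D18823) (tt N12522 D18824) (tt N12523 D18825) (tt N8856 (iv7 F44652)))
theorem Q6032 : ∀ i, i < 6032 → P i := stepQ 6031 Q6031 (allL N6031 (tt N12366 F29713) (tt N12524 D18833) (tt N8854 (iv2 F44663)) (tt N12522 (iv3 F30080)) (tt N12525 D18834) (tt N2789 (iv5 D8820)) (tt N12526 D18835) (tt N8857 (iv7 F44654)))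
theorem Q6033 : ∀ i, i < 6033 → P i := stepQ 6032 Q6032 (allL N6032 (tt N8799 (iv1 F29879)) (tt N12371 (iv0 F29726)) (tt N8855 (iv2 F44665)) (tt N12523 (iv3 F30081)) (tt N9166 (iv4 F43122)) (tt N11542 F28005) (tt N2789 (iv6 D8821)) (tt N12369 (iv7 F44669)))
theorem Q6034 : ∀ i, i < 6034 → P i := stepQ 6033 Q6033 (allL N6033 (tt N12524 (iv1 F30088)) (tt N12366 (iv0 F29708)) (tt N8857 (iv2 F44653)) (tt N8748 (iv3 F297993)) (tt N12527 D18848) (tt N2790 (iv5 D8825)) (tt N11756 (iv6 F28323)) (tt N8854 (iv7 F44664)))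
theorem Q6035 : ∀ i, i < 6035 → P i := stepQ 6034 Q6034 (allL N6034 (tt N8853 (iv1 F22102)) (tt N2791 (iv0 D8827)) (tt N8858 (iv2 F43194)) (tt N12528 D18852) (tt N12529 D18853) (tt N11339 (iv5 F43156)) (tt N12530 D18854) (tt N8859 (iv7 F43154)))
theorem Q6036 : ∀ i, i < 6036 → P i := stepQ 6035 Q6035 (allL N6035 (tt N2791 (iv1 D8828)) (tt N8853 (iv0 F22101)) (tt N8859 (iv2 F43153)) (tt N12531 D18856) (tt N12532 D18857) (tt N8531 (iv5 F21290)) (tt N12400 (iv6 F43138)) (tt N8858 (iv7 F43195)))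
theorem Q6037 : ∀ i, i < 6037 → P i := stepQ 6036 Q6036 (allL N6036 (tt N12533 D18859) (tt N12534 D18860) (tt N8860 (iv2 F22108)) (tt N12535 D18861) (tt N2791 (iv4 D8829)) (tt N12536 D18862) (tt N2797 F13720) (tt N12520 (iv7 F30071)))
theorem Q6038 : ∀ i, i < 6038 → P i := stepQ 6037 Q6037 (allL N6037 (tt N12537 D18863) (tt N12538 D18864) (tt N12007 (iv2 F29066)) (tt N2793 F13724) (tt N12539 D18865) (tt N2792 (iv5 D8832)) (tt N8810 (iv6 F22036)) (tt N7135 (iv7 F17963)))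
theorem Q6039 : ∀ i, i < 6039 → P i := stepQ 6038 Q6038 (allL N6038 (tt N5625 F13726) (tt N5620 F13727) (tt N5370 F13725) (tt N12540 D18866) (tt N2793 (iv4 D8833)) (tt N6043 (iv5 F13741)) (tt N8817 (iv6 F22046)) (tt N8861 (iv7 F22111)))
theorem Q6040 : ∀ i, i < 6040 → P i := stepQ 6039 Q6039 (allL N6039 (tt N11753 (iv1 F296192)) (tt N12541 D18867) (tt N12074 (iv2 F29159)) (tt N2795 F13734) (tt N12542 D18868) (tt N2794 (iv5 D8836)) (tt N12543 D18869) (tt N5369 F13735))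
theorem Q6041 : ∀ i, i < 6041 → P i := stepQ 6040 Q6040 (allL N6040 (tt N5620 F13738) (tt N5625 F13739) (tt N8861 (iv2 F22110)) (tt N12544 D18870) (tt N2795 (iv4 D8837)) (tt N5363 F13737) (tt N12545 D18871) (tt N5370 F13736))
theorem Q6042 : ∀ i, i < 6042 → P i := stepQ 6041 Q6041 (allL N6041 (tt N12368 F29722) (tt N12546 D18872) (tt N8862 (iv2 F22115)) (tt N12543 (iv3 F30113)) (tt N12545 (iv4 F30116)) (tt N6044 (iv5 F13744)) (tt N2795 (iv6 D8838)) (tt N12414 (iv7 F29901)))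
theorem Q6043 : ∀ i, i < 6043 → P i := stepQ 6042 Q6042 (allL N6042 (tt N8675 F21744) (tt N11236 (iv0 F27381)) (tt N12075 (iv2 F29165)) (tt N2796 (iv3 D8839)) (tt N12547 D18873) (tt N5634 F13740) (tt N12548 D18874) (tt N6058 (iv7 F13796)))
theorem Q6044 : ∀ i, i < 6044 → P i := stepQ 6043 Q6043 (allL N6043 (tt N5722 F13742) (tt N5717 F13743) (tt N8864 (iv2 F22119)) (tt N12549 D18875) (tt N2796 (iv4 D8840)) (tt N6038 F13741) (tt N12550 D18876) (tt N6059 (iv7 F13800)))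
theorem Q6045 : ∀ i, i < 6045 → P i := stepQ 6044 Q6044 (allL N6044 (tt N12551 D18877) (tt N12552 D18878) (tt N8865 (iv2 F22124)) (tt N12548 (iv3 F30117)) (tt N12550 (iv4 F30120)) (tt N6041 F13744) (tt N2796 (iv6 D8841)) (tt N12553 D18879))
theorem Q6046 : ∀ i, i < 6046 → P i := stepQ 6045 Q6045 (allL N6045 (tt N2797 (iv1 D8842)) (tt N5529 F13745) (tt N5632 (iv2 F13749)) (tt N12554 D18880) (tt N4111 F13747) (tt N4147 F13748) (tt N12555 D18881) (tt N4110 F13746))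
theorem Q6047 : ∀ i, i < 6047 → P i := stepQ 6046 Q6046 (allL N6046 (tt N12556 D18882) (tt N12557 D18883) (tt N12558 D18884) (tt N2797 (iv3 D8843)) (tt N12331 (iv4 F29656)) (tt N11545 (iv5 F28014)) (tt N12535 (iv6 F30101)) (tt N11360 (iv7 F27601)))
theorem Q6048 : ∀ i, i < 6048 → P i := stepQ 6047 Q6047 (allL N6047 (tt N5534 F13756) (tt N5531 (iv0 F13767)) (tt N2801 F13753) (tt N2816 F13754) (tt N12182 (iv4 F29470)) (tt N2800 (iv5 D8845)) (tt N12559 D18885) (tt N5600 F13755))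
theorem Q6049 : ∀ i, i < 6049 → P i := stepQ 6048 Q6048 (allL N6048 (tt N5600 (iv1 F13759)) (tt N2801 (iv0 D8846)) (tt N5534 F13765) (tt N11520 (iv3 F27953)) (tt N12560 D18886) (tt N4088 (iv5 F13764)) (tt N12561 D18887) (tt N5531 F13766))
theorem Q6050 : ∀ i, i < 6050 → P i := stepQ 6049 Q6049 (allL N6049 (tt N2801 (iv1 D8847)) (tt N5600 F13760) (tt N5531 (iv2 F13762)) (tt N6697 F16145) (tt N12562 D18888) (tt N4089 F13761) (tt N12563 D18889) (tt N5534 (iv7 F13763)))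
theorem Q6051 : ∀ i, i < 6051 → P i := stepQ 6050 Q6050 (allL N6050 (tt N12180 (iv1 F29466)) (tt N12155 (iv0 F29419)) (tt N12182 F29471) (tt N9157 (iv3 F22812)) (tt N2801 (iv4 D8848)) (tt N12564 D18890) (tt N12565 D18891) (tt N5601 F13773))
theorem Q6052 : ∀ i, i < 6052 → P i := stepQ 6051 Q6051 (allL N6051 (tt N12566 D18892) (tt N12567 D18893) (tt N12559 (iv2 F30130)) (tt N2802 F13774) (tt N12565 (iv4 F30144)) (tt N5751 F13775) (tt N2801 (iv6 D8849)) (tt N12568 D18894))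
theorem Q6053 : ∀ i, i < 6053 → P i := stepQ 6052 Q6052 (allL N6052 (tt N2827 (iv1 F13780)) (tt N2802 (iv0 D8850)) (tt N2825 (iv2 F30400)) (tt N6102 (iv3 F297790)) (tt N4237 F29956) (tt N6101 (iv5 F297788)) (tt N6102 F13875) (tt N2826 F30394))
theorem Q6054 : ∀ i, i < 6054 → P i := stepQ 6053 Q6053 (allL N6053 (tt N2802 (iv1 D8851)) (tt N2827 F13776) (tt N2826 (iv2 F30393)) (tt N12569 D18898) (tt N4238 F29958) (tt N6100 (iv5 F13873)) (tt N11968 (iv6 F30399)) (tt N2825 (iv7 F30401)))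
theorem Q6055 : ∀ i, i < 6055 → P i := stepQ 6054 Q6054 (allL N6054 (tt N2826 (iv1 F13781)) (tt N2825 F13782) (tt N2827 F13777) (tt N12568 (iv3 F30145)) (tt N8842 (iv4 F30433)) (tt N5754 F13778) (tt N5604 F13779) (tt N2802 (iv7 D8852)))
theorem Q6056 : ∀ i, i < 6056 → P i := stepQ 6055 Q6055 (allL N6055 (tt N5376 (iv1 F13789)) (tt N5378 F13790) (tt N5375 F13785) (tt N2804 (iv3 D8854)) (tt N5375 F13786) (tt N5827 F13787) (tt N4168 (iv6 F16998)) (tt N5365 F13788))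
theorem Q6057 : ∀ i, i < 6057 → P i := stepQ 6056 Q6056 (allL N6056 (tt N5837 F17007) (tt N11662 (iv0 F28185)) (tt N2806 F13792) (tt N5358 F13793) (tt N6056 F13794) (tt N12570 D18900) (tt N2805 (iv6 D8856)) (tt N11749 (iv7 F28301)))
theorem Q6058 : ∀ i, i < 6058 → P i := stepQ 6057 Q6057 (allL N6057 (tt N2806 (iv1 D8858)) (tt N11749 F28303) (tt N11662 F28187) (tt N12571 D18901) (tt N11619 (iv4 F28127)) (tt N12541 F30110) (tt N6057 F21698) (tt N5837 F21697))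
theorem Q6059 : ∀ i, i < 6059 → P i := stepQ 6058 Q6058 (allL N6058 (tt N11239 F27391) (tt N5823 (iv0 F13797)) (tt N12570 (iv2 F30154)) (tt N2807 F13795) (tt N12572 D18902) (tt N2806 (iv5 D8859)) (tt N8794 (iv6 F22010)) (tt N6042 F13796))
theorem Q6060 : ∀ i, i < 6060 → P i := stepQ 6059 Q6059 (allL N6059 (tt N5548 F13801) (tt N5628 F13802) (tt N5363 F13799) (tt N12573 D18903) (tt N2807 (iv4 D8860)) (tt N8861 (iv5 F22112)) (tt N8802 (iv6 F22018)) (tt N6043 F13800))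
theorem Q6061 : ∀ i, i < 6061 → P i := stepQ 6060 Q6060 (allL N6060 (tt N2962 F13807) (tt N2964 (iv0 F13808)) (tt N6107 F13886) (tt N2809 (iv3 D8862)) (tt N2974 F13804) (tt N5799 F13805) (tt N12574 D18904) (tt N5357 F13806))
theorem Q6062 : ∀ i, i < 6062 → P i := stepQ 6061 Q6061 (allL N6061 (tt N3364 F13814) (tt N5789 F16816) (tt N5356 F13811) (tt N12574 (iv3 F30168)) (tt N2973 F13812) (tt N12575 D18905) (tt N2809 (iv6 D8863)) (tt N3167 (iv7 F16847)))
theorem Q6063 : ∀ i, i < 6063 → P i := stepQ 6062 Q6062 (allL N6062 (tt N2818 F13820) (tt N2817 F13819) (tt N2821 F13816) (tt N5600 F13817) (tt N12576 D18906) (tt N2811 (iv5 D8864)) (tt N12577 D18907) (tt N2816 F13818))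
theorem Q6064 : ∀ i, i < 6064 → P i := stepQ 6063 Q6063 (allL N6063 (tt N5551 F13825) (tt N5714 (iv0 F13826)) (tt N2822 F13821) (tt N5720 F13822) (tt N2858 F13823) (tt N11732 (iv5 F28280)) (tt N2811 (iv6 D8865)) (tt N5715 F13824))
theorem Q6065 : ∀ i, i < 6065 → P i := stepQ 6064 Q6064 (allL N6064 (tt N10885 F302498) (tt N12578 D18909) (tt N6788 (iv2 F16630)) (tt N10789 F302499) (tt N2812 (iv4 D8866)) (tt N11828 F28471) (tt N12579 D18910) (tt N6840 (iv7 F16726)))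
theorem Q6066 : ∀ i, i < 6066 → P i := stepQ 6065 Q6065 (allL N6065 (tt N12580 D18911) (tt N5765 F118838) (tt N6789 (iv2 F16632)) (tt N6784 (iv3 F16613)) (tt N12579 (iv4 F30191)) (tt N6065 F13827) (tt N2812 (iv6 D8867)) (tt N12581 D18913))
theorem Q6067 : ∀ i, i < 6067 → P i := stepQ 6066 Q6066 (allL N6066 (tt N6802 (iv1 F16662)) (tt N5738 F16667) (tt N6805 (iv2 F16670)) (tt N2814 F13828) (tt N12582 D18914) (tt N2813 (iv5 D8868)) (tt N8708 (iv6 F295921)) (tt N6787 (iv7 F16629)))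
theorem Q6068 : ∀ i, i < 6068 → P i := stepQ 6067 Q6067 (allL N6067 (tt N5833 F17613) (tt N5836 (iv0 F17623)) (tt N6806 (iv2 F16674)) (tt N2815 F13829) (tt N6806 (iv4 F16676)) (tt N8709 F295721) (tt N2813 (iv6 D8869)) (tt N6067 F13830))
theorem Q6069 : ∀ i, i < 6069 → P i := stepQ 6068 Q6068 (allL N6068 (tt N12578 (iv1 F30188)) (tt N10885 F304039) (tt N6840 (iv2 F16725)) (tt N12583 D18917) (tt N2814 (iv4 D8870)) (tt N12584 D18918) (tt N12585 D18919) (tt N6788 (iv7 F16631)))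
theorem Q6070 : ∀ i, i < 6070 → P i := stepQ 6069 Q6069 (allL N6069 (tt N5772 (iv1 F295957)) (tt N6149 (iv0 F295958)) (tt N6694 F295871) (tt N8708 (iv3 F295920)) (tt N12585 (iv4 F30203)) (tt N2871 F295872) (tt N2814 (iv6 D8871)) (tt N6693 (iv7 F295959)))
theorem Q6071 : ∀ i, i < 6071 → P i := stepQ 6070 Q6070 (allL N6070 (tt N3188 F295644) (tt N3186 F295645) (tt N6695 F295646) (tt N8709 (iv3 F295685)) (tt N2873 F295647) (tt N2815 (iv5 D8874)) (tt N2871 (iv6 F295733)) (tt N6070 F13833))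
theorem Q6072 : ∀ i, i < 6072 → P i := stepQ 6071 Q6071 (allL N6071 (tt N2821 (iv1 F13835)) (tt N2816 (iv0 D8875)) (tt N2817 (iv2 F13836)) (tt N12586 D18925) (tt N12587 D18926) (tt N2910 F13834) (tt N12588 D18927) (tt N2818 (iv7 F13837)))
theorem Q6073 : ∀ i, i < 6073 → P i := stepQ 6072 Q6072 (allL N6072 (tt N2816 (iv1 D8876)) (tt N2821 F13838) (tt N2818 (iv2 F13841)) (tt N2925 (iv3 F13842)) (tt N12589 D18928) (tt N2924 F13840) (tt N12590 D18929) (tt N2817 F13839))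
theorem Q6074 : ∀ i, i < 6074 → P i := stepQ 6073 Q6073 (allL N6073 (tt N8731 (iv1 F21920)) (tt N12591 D18930) (tt N2819 F13843) (tt N12592 D18931) (tt N2816 (iv4 D8877)) (tt N6966 (iv5 F17276)) (tt N12593 D18932) (tt N12576 (iv7 F30180)))
theorem Q6075 : ∀ i, i < 6075 → P i := stepQ 6074 Q6074 (allL N6074 (tt N12594 D18933) (tt N12595 D18934) (tt N2820 F13844) (tt N12559 (iv3 F30131)) (tt N12593 (iv4 F30228)) (tt N11585 (iv5 F28068)) (tt N2816 (iv6 D8878)) (tt N12596 D18935))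
theorem Q6076 : ∀ i, i < 6076 → P i := stepQ 6075 Q6075 (allL N6075 (tt N5688 (iv1 F13853)) (tt N6575 (iv0 F15482)) (tt N2916 F13850) (tt N2817 (iv3 D8879)) (tt N5878 F13847) (tt N2906 F13845) (tt N12597 D18936) (tt N2925 F13846))
theorem Q6077 : ∀ i, i < 6077 → P i := stepQ 6076 Q6076 (allL N6076 (tt N12598 D18937) (tt N12599 D18938) (tt N12587 (iv2 F30212)) (tt N11830 F28477) (tt N2817 (iv4 D8880)) (tt N12600 D18939) (tt N12601 D18940) (tt N12589 (iv7 F30218)))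
theorem Q6078 : ∀ i, i < 6078 → P i := stepQ 6077 Q6077 (allL N6077 (tt N12602 D18941) (tt N5609 (iv0 F118793)) (tt N12588 (iv2 F30215)) (tt N12597 (iv3 F30236)) (tt N12601 (iv4 F30247)) (tt N12603 D18943) (tt N2817 (iv6 D8881)) (tt N12604 D18944))
theorem Q6079 : ∀ i, i < 6079 → P i := stepQ 6078 Q6078 (allL N6078 (tt N5815 F14295) (tt N5577 F21537) (tt N12605 D18945) (tt N2818 (iv3 D8882)) (tt N12606 D18946) (tt N5550 F13854) (tt N12607 D18947) (tt N12586 (iv7 F30208)))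
theorem Q6080 : ∀ i, i < 6080 → P i := stepQ 6079 Q6079 (allL N6079 (tt N12599 (iv1 F30241)) (tt N12598 F30239) (tt N12589 (iv2 F30216)) (tt N12608 D18948) (tt N2818 (iv4 D8883)) (tt N12609 D18949) (tt N12610 D18950) (tt N12587 (iv7 F30213)))
theorem Q6081 : ∀ i, i < 6081 → P i := stepQ 6080 Q6080 (allL N6080 (tt N5703 F118103) (tt N12611 D18952) (tt N12590 (iv2 F30221)) (tt N12607 (iv3 F30259)) (tt N12610 (iv4 F30262)) (tt N12612 D18953) (tt N2818 (iv6 D8884)) (tt N12613 D18954))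
theorem Q6082 : ∀ i, i < 6082 → P i := stepQ 6081 Q6081 (allL N6081 (tt N12576 (iv1 F30182)) (tt N2819 (iv0 D8885)) (tt N8731 (iv2 F21917)) (tt N12614 D18955) (tt N6109 (iv4 F13896)) (tt N12615 D18956) (tt N12616 D18957) (tt N12591 (iv7 F30224)))
theorem Q6083 : ∀ i, i < 6083 → P i := stepQ 6082 Q6082 (allL N6082 (tt N2819 (iv1 D8886)) (tt N12576 (iv0 F30181)) (tt N12591 F30226) (tt N12617 D18958) (tt N6113 (iv4 F14004)) (tt N12618 D18959) (tt N12619 D18960) (tt N8731 (iv7 F21918)))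
theorem Q6084 : ∀ i, i < 6084 → P i := stepQ 6083 Q6083 (allL N6083 (tt N12620 D18961) (tt N12621 D18962) (tt N12622 D18963) (tt N2819 (iv3 D8887)) (tt N2823 F13855) (tt N12623 D18964) (tt N12624 D18965) (tt N7225 (iv7 F18163)))
theorem Q6085 : ∀ i, i < 6085 → P i := stepQ 6084 Q6084 (allL N6084 (tt N12625 D18966) (tt N12626 D18967) (tt N6966 (iv2 F17274)) (tt N12623 (iv3 F30280)) (tt N6963 (iv4 F17265)) (tt N2819 (iv5 D8888)) (tt N12627 D18968) (tt N12628 D18969))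
theorem Q6086 : ∀ i, i < 6086 → P i := stepQ 6085 Q6085 (allL N6085 (tt N12479 (iv1 F296499)) (tt N12629 D18971) (tt N12593 (iv2 F30227)) (tt N12624 (iv3 F30282)) (tt N2820 F13856) (tt N12630 D18972) (tt N2819 (iv6 D8889)) (tt N12631 D18973))
theorem Q6087 : ∀ i, i < 6087 → P i := stepQ 6086 Q6086 (allL N6086 (tt N12591 (iv1 F30223)) (tt N8731 (iv0 F21919)) (tt N12576 (iv2 F30178)) (tt N7225 (iv3 F18162)) (tt N2821 F13857) (tt N12628 (iv5 F30300)) (tt N12632 D18974) (tt N2819 (iv7 D8890)))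
theorem Q6088 : ∀ i, i < 6088 → P i := stepQ 6087 Q6087 (allL N6087 (tt N12596 (iv1 F30234)) (tt N2820 (iv0 D8891)) (tt N12594 F61133) (tt N12633 D18976) (tt N12634 D18977) (tt N12635 D18978) (tt N12636 D18979) (tt N12595 (iv7 F61139)))
theorem Q6089 : ∀ i, i < 6089 → P i := stepQ 6088 Q6088 (allL N6088 (tt N2820 (iv1 D8892)) (tt N12596 F30233) (tt N12595 (iv2 F61138)) (tt N12637 D18981) (tt N12638 D18982) (tt N12639 D18983) (tt N12640 D18984) (tt N12594 F61137))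
theorem Q6090 : ∀ i, i < 6090 → P i := stepQ 6089 Q6089 (allL N6089 (tt N12595 (iv1 F30229)) (tt N12594 F30232) (tt N12596 (iv2 F30231)) (tt N2827 F13858) (tt N12631 (iv4 F30301)) (tt N11590 (iv5 F28074)) (tt N12641 D18985) (tt N2820 (iv7 D8893)))
theorem Q6091 : ∀ i, i < 6091 → P i := stepQ 6090 Q6090 (allL N6090 (tt N12642 D18986) (tt N12643 D18987) (tt N12577 (iv2 F30183)) (tt N2828 F13859) (tt N12632 (iv4 F30302)) (tt N11734 (iv5 F28282)) (tt N2821 (iv6 D8894)) (tt N12641 (iv7 F30308)))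
theorem Q6092 : ∀ i, i < 6092 → P i := stepQ 6091 Q6091 (allL N6091 (tt N5715 (iv1 F13862)) (tt N2822 (iv0 D8895)) (tt N5551 (iv2 F13863)) (tt N2926 F13860) (tt N6708 (iv4 F16930)) (tt N12644 D18988) (tt N2924 F13861) (tt N5714 (iv7 F13864)))
theorem Q6093 : ∀ i, i < 6093 → P i := stepQ 6092 Q6092 (allL N6092 (tt N2822 (iv1 D8896)) (tt N5715 F13865) (tt N5714 (iv2 F13867)) (tt N11595 (iv3 F28078)) (tt N6328 (iv4 F14441)) (tt N12645 D18989) (tt N5622 (iv6 F17561)) (tt N5551 F13866))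
theorem Q6094 : ∀ i, i < 6094 → P i := stepQ 6093 Q6093 (allL N6093 (tt N7222 (iv1 F18159)) (tt N2823 (iv0 D8897)) (tt N7224 (iv2 F42907)) (tt N10947 (iv3 F25831)) (tt N12646 D18991) (tt N5480 (iv5 F25996)) (tt N12647 D18992) (tt N7223 F42906))
theorem Q6095 : ∀ i, i < 6095 → P i := stepQ 6094 Q6094 (allL N6094 (tt N2823 (iv1 D8898)) (tt N7222 F18158) (tt N7223 F42903) (tt N12648 D18994) (tt N12649 D18995) (tt N5481 F30276) (tt N12650 D18996) (tt N7224 (iv7 F42908)))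
theorem Q6096 : ∀ i, i < 6096 → P i := stepQ 6095 Q6095 (allL N6095 (tt N7224 (iv1 F18161)) (tt N7223 F18160) (tt N2823 (iv2 D8899)) (tt N9110 (iv3 F22767)) (tt N12622 (iv4 F30277)) (tt N5432 F13868) (tt N12651 D18997) (tt N7222 (iv7 F18157)))
theorem Q6097 : ∀ i, i < 6097 → P i := stepQ 6096 Q6096 (allL N6096 (tt N12652 D18998) (tt N12653 D18999) (tt N12651 (iv2 F30327)) (tt N2824 F13869) (tt N12624 (iv4 F30283)) (tt N12654 D19000) (tt N2823 (iv6 D8900)) (tt N12485 F30057))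
theorem Q6098 : ∀ i, i < 6098 → P i := stepQ 6097 Q6097 (allL N6097 (tt N12655 D19011) (tt N12656 D19012) (tt N9169 (iv2 F22826)) (tt N12654 (iv3 F30328)) (tt N12657 D19013) (tt N2824 (iv5 D8903)) (tt N5434 F13870) (tt N12486 F30058))
theorem Q6099 : ∀ i, i < 6099 → P i := stepQ 6098 Q6098 (allL N6098 (tt N12658 D19019) (tt N5582 (iv0 F91174)) (tt N12659 D19021) (tt N2825 (iv3 D8906)) (tt N12660 D19022) (tt N11631 (iv5 F300052)) (tt N12659 (iv6 F298953)) (tt N12569 (iv7 F30397)))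
theorem Q6100 : ∀ i, i < 6100 → P i := stepQ 6099 Q6099 (allL N6099 (tt N8561 F297785) (tt N8649 (iv0 F30508)) (tt N6101 (iv2 F297787)) (tt N11631 (iv3 F300051)) (tt N12452 (iv4 F30425)) (tt N2825 (iv5 D8908)) (tt N11692 F28239) (tt N6100 (iv7 F30390)))
theorem Q6101 : ∀ i, i < 6101 → P i := stepQ 6100 Q6100 (allL N6100 (tt N5709 F30419) (tt N5687 F297786) (tt N6102 (iv2 F30391)) (tt N12659 (iv3 F298951)) (tt N5996 F28969) (tt N6053 F13873) (tt N2825 (iv6 D8909)) (tt N6099 F30390))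
theorem Q6102 : ∀ i, i < 6102 → P i := stepQ 6101 Q6101 (allL N6101 (tt N5687 (iv1 F59697)) (tt N5709 (iv0 F298240)) (tt N6099 F297787) (tt N2826 (iv3 D8911)) (tt N12661 D19033) (tt N6052 F297788) (tt N11967 (iv6 F300055)) (tt N6102 (iv7 F297791)))
theorem Q6103 : ∀ i, i < 6103 → P i := stepQ 6102 Q6102 (allL N6102 (tt N8649 (iv1 F30509)) (tt N8561 F297789) (tt N6100 F30391) (tt N6052 F297790) (tt N8832 (iv4 F29957)) (tt N2826 (iv5 D8913)) (tt N6052 (iv6 F13875)) (tt N6101 F297791))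
theorem Q6104 : ∀ i, i < 6104 → P i := stepQ 6103 Q6103 (allL N6103 (tt N8660 F30380) (tt N5608 F30381) (tt N11968 F30345) (tt N11967 (iv3 F300054)) (tt N5999 F28978) (tt N11967 (iv5 F28778)) (tt N2826 (iv6 D8914)) (tt N11967 (iv7 F30343)))
theorem Q6105 : ∀ i, i < 6105 → P i := stepQ 6104 Q6104 (allL N6104 (tt N5242 F28955) (tt N5238 F28956) (tt N5604 F13876) (tt N12641 (iv3 F30307)) (tt N7229 (iv4 F18167)) (tt N11739 (iv5 F28288)) (tt N2827 (iv6 D8915)) (tt N2828 F13877))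
theorem Q6106 : ∀ i, i < 6106 → P i := stepQ 6105 Q6105 (allL N6105 (tt N5604 (iv1 F13880)) (tt N2828 (iv0 D8916)) (tt N5238 (iv2 F53049)) (tt N12662 D19037) (tt N4038 (iv4 F41667)) (tt N12663 D19039) (tt N12664 D19040) (tt N5242 (iv7 F53054)))
theorem Q6107 : ∀ i, i < 6107 → P i := stepQ 6106 Q6106 (allL N6106 (tt N6397 F27370) (tt N6445 F27429) (tt N5379 F13882) (tt N2831 F13883) (tt N5374 F13884) (tt N12665 D19046) (tt N2829 (iv6 D8918)) (tt N6444 (iv7 F17545)))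
theorem Q6108 : ∀ i, i < 6108 → P i := stepQ 6107 Q6107 (allL N6107 (tt N2833 (iv1 F13887)) (tt N2830 (iv0 D8919)) (tt N6060 (iv2 F13886)) (tt N4091 (iv3 F13889)) (tt N2853 F13885) (tt N6745 (iv5 F296087)) (tt N11836 (iv6 F28492)) (tt N5676 F13888))
theorem Q6109 : ∀ i, i < 6109 → P i := stepQ 6108 Q6108 (allL N6108 (tt N4132 F13893) (tt N4130 (iv0 F13894)) (tt N5516 F13890) (tt N2830 (iv3 D8920)) (tt N5373 F13891) (tt N12666 D19047) (tt N11996 F296218) (tt N5384 F13892))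
theorem Q6110 : ∀ i, i < 6110 → P i := stepQ 6109 Q6109 (allL N6109 (tt N6160 F14143) (tt N5791 F13895) (tt N4200 (iv2 F14038)) (tt N12666 (iv3 F30557)) (tt N6081 F13896) (tt N2830 (iv5 D8921)) (tt N12667 D19049) (tt N6355 (iv7 F14516)))
theorem Q6111 : ∀ i, i < 6111 → P i := stepQ 6110 Q6110 (allL N6110 (tt N12668 D19050) (tt N11230 F27369) (tt N6357 (iv2 F14518)) (tt N11996 (iv3 F296044)) (tt N2831 F13897) (tt N12669 D19051) (tt N2830 (iv6 D8922)) (tt N6467 F17539))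
theorem Q6112 : ∀ i, i < 6112 → P i := stepQ 6111 Q6111 (allL N6111 (tt N6359 F14530) (tt N2896 (iv0 F13898)) (tt N6358 (iv2 F14522)) (tt N12665 (iv3 F30553)) (tt N12670 D19052) (tt N2831 (iv5 D8925)) (tt N3328 (iv6 F291585)) (tt N6362 (iv7 F14538)))
theorem Q6113 : ∀ i, i < 6113 → P i := stepQ 6112 Q6112 (allL N6112 (tt N6366 F14551) (tt N3080 F16870) (tt N6368 (iv2 F14555)) (tt N2834 F13900) (tt N6631 (iv4 F16950)) (tt N12671 D19053) (tt N2832 (iv6 D8927)) (tt N6231 (iv7 F14168)))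
theorem Q6114 : ∀ i, i < 6114 → P i := stepQ 6113 Q6113 (allL N6113 (tt N5791 (iv1 F14039)) (tt N6160 (iv0 F14003)) (tt N6355 (iv2 F14515)) (tt N4197 (iv3 F14006)) (tt N6082 F14004) (tt N2833 (iv5 D8928)) (tt N12672 D19054) (tt N4200 (iv7 F14036)))
theorem Q6115 : ∀ i, i < 6115 → P i := stepQ 6114 Q6114 (allL N6114 (tt N12574 F30171) (tt N6161 (iv0 F16936)) (tt N6230 (iv2 F14165)) (tt N4216 (iv3 F13905)) (tt N2834 F13903) (tt N12673 D19055) (tt N2833 (iv6 D8929)) (tt N6232 (iv7 F14169)))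
theorem Q6116 : ∀ i, i < 6116 → P i := stepQ 6115 Q6115 (allL N6115 (tt N3025 F17548) (tt N3162 F292872) (tt N3184 F292873) (tt N12671 (iv3 F30578)) (tt N12674 D19056) (tt N2834 (iv5 D8930)) (tt N6206 (iv6 F14155)) (tt N3185 F292874))
theorem Q6117 : ∀ i, i < 6117 → P i := stepQ 6116 Q6116 (allL N6116 (tt N6284 (iv1 F14357)) (tt N6305 F14415) (tt N2838 F13908) (tt N12675 D19057) (tt N2835 (iv4 D8931)) (tt N12676 D19058) (tt N12677 D19059) (tt N6306 (iv7 F14419)))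
theorem Q6118 : ∀ i, i < 6118 → P i := stepQ 6117 Q6117 (allL N6117 (tt N12678 D19060) (tt N12679 D19061) (tt N2839 F13909) (tt N6117 F13910) (tt N12677 (iv4 F30589)) (tt N2880 F13911) (tt N2835 (iv6 D8932)) (tt N12680 D19062))
theorem Q6119 : ∀ i, i < 6119 → P i := stepQ 6118 Q6118 (allL N6118 (tt N6659 (iv1 F16003)) (tt N12681 D19063) (tt N2876 F13912) (tt N12682 D19064) (tt N2836 (iv4 D8933)) (tt N12683 D19065) (tt N12684 D19066) (tt N2866 F13913))
theorem Q6120 : ∀ i, i < 6120 → P i := stepQ 6119 Q6119 (allL N6119 (tt N6153 (iv1 F294772)) (tt N3113 F62531) (tt N2877 F13914) (tt N5867 F13915) (tt N12684 (iv4 F30609)) (tt N2847 F294130) (tt N2836 (iv6 D8934)) (tt N6154 F294131))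
theorem Q6121 : ∀ i, i < 6121 → P i := stepQ 6120 Q6120 (allL N6120 (tt N6485 (iv1 F15041)) (tt N2972 F14092) (tt N5851 F13916) (tt N2837 (iv3 D8935)) (tt N6746 (iv4 F16417)) (tt N2859 F13917) (tt N12685 D19071) (tt N2872 F13918))
theorem Q6122 : ∀ i, i < 6122 → P i := stepQ 6121 Q6121 (allL N6121 (tt N12681 (iv1 F30597)) (tt N6659 (iv0 F16002)) (tt N2866 F13919) (tt N12686 D19072) (tt N2837 (iv4 D8936)) (tt N12687 D19073) (tt N12688 D19074) (tt N2876 F13920))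
theorem Q6123 : ∀ i, i < 6123 → P i := stepQ 6122 Q6122 (allL N6122 (tt N3078 F293307) (tt N6602 F66149) (tt N2867 F13921) (tt N12685 (iv3 F30621)) (tt N12688 (iv4 F30627)) (tt N6122 F13922) (tt N2837 (iv6 D8937)) (tt N6601 F66198))
theorem Q6124 : ∀ i, i < 6124 → P i := stepQ 6123 Q6123 (allL N6123 (tt N6306 (iv1 F14420)) (tt N2838 (iv0 D8938)) (tt N6284 (iv2 F14354)) (tt N12689 D19078) (tt N6283 F14353) (tt N6965 (iv5 F17270)) (tt N12690 D19079) (tt N6305 (iv7 F14416)))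
theorem Q6125 : ∀ i, i < 6125 → P i := stepQ 6124 Q6124 (allL N6124 (tt N6209 (iv1 F14156)) (tt N6212 (iv0 F14157)) (tt N12676 (iv2 F30584)) (tt N6311 (iv3 F14428)) (tt N12691 D19080) (tt N2838 (iv5 D8939)) (tt N12692 D19081) (tt N6307 (iv7 F14423)))
theorem Q6126 : ∀ i, i < 6126 → P i := stepQ 6125 Q6125 (allL N6125 (tt N12693 D19082) (tt N12694 D19083) (tt N12677 (iv2 F30588)) (tt N6316 (iv3 F14431)) (tt N2839 F13923) (tt N12695 D19084) (tt N2838 (iv6 D8940)) (tt N12696 D19085))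
theorem Q6127 : ∀ i, i < 6127 → P i := stepQ 6126 Q6126 (allL N6126 (tt N12680 (iv1 F30596)) (tt N2839 (iv0 D8941)) (tt N12678 F63444) (tt N12697 D19087) (tt N12698 D19088) (tt N12699 D19089) (tt N12700 D19090) (tt N12679 (iv7 F63452)))
theorem Q6128 : ∀ i, i < 6128 → P i := stepQ 6127 Q6127 (allL N6127 (tt N2839 (iv1 D8942)) (tt N12680 F30595) (tt N12679 (iv2 F63451)) (tt N12701 D19092) (tt N12702 D19093) (tt N12703 D19094) (tt N12704 D19095) (tt N12678 F63450))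
theorem Q6129 : ∀ i, i < 6129 → P i := stepQ 6128 Q6128 (allL N6128 (tt N12679 (iv1 F30590)) (tt N12678 F30594) (tt N12680 (iv2 F30591)) (tt N2842 F13924) (tt N12696 (iv4 F30639)) (tt N2893 F13925) (tt N6335 (iv6 F14457)) (tt N2839 (iv7 D8943)))
theorem Q6130 : ∀ i, i < 6130 → P i := stepQ 6129 Q6129 (allL N6129 (tt N6495 (iv1 F35684)) (tt N2986 (iv0 F35685)) (tt N6494 (iv2 F35663)) (tt N2840 (iv3 D8945)) (tt N12705 D19104) (tt N12706 D19105) (tt N12707 D19106) (tt N6132 F30663))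
theorem Q6131 : ∀ i, i < 6131 → P i := stepQ 6130 Q6130 (allL N6130 (tt N6565 F15396) (tt N3114 (iv0 F14788)) (tt N6130 F30664) (tt N12706 (iv3 F30691)) (tt N6605 (iv4 F15561)) (tt N2840 (iv5 D8947)) (tt N3320 (iv6 F291867)) (tt N6133 F30665))
theorem Q6132 : ∀ i, i < 6132 → P i := stepQ 6131 Q6131 (allL N6131 (tt N3097 F14787) (tt N6345 (iv0 F292200)) (tt N6131 F30666) (tt N12707 (iv3 F30692)) (tt N6133 (iv4 F15293)) (tt N3321 (iv5 F292204)) (tt N2840 (iv6 D8948)) (tt N6605 F30667))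
theorem Q6133 : ∀ i, i < 6133 → P i := stepQ 6132 Q6132 (allL N6132 (tt N3040 (iv1 F35661)) (tt N6389 (iv0 F35662)) (tt N6388 (iv2 F35687)) (tt N2841 (iv3 D8950)) (tt N12708 D19110) (tt N12709 D19111) (tt N6935 (iv6 F291328)) (tt N6129 (iv7 F30663)))
theorem Q6134 : ∀ i, i < 6134 → P i := stepQ 6133 Q6133 (allL N6133 (tt N3114 (iv1 F15294)) (tt N6565 (iv0 F15393)) (tt N6133 F30688) (tt N12709 (iv3 F30701)) (tt N6131 F15293) (tt N2841 (iv5 D8952)) (tt N2950 F13929) (tt N6130 (iv7 F30665)))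
theorem Q6135 : ∀ i, i < 6135 → P i := stepQ 6134 Q6134 (allL N6134 (tt N6693 (iv1 F16127)) (tt N6694 (iv0 F16131)) (tt N5772 F13930) (tt N6259 (iv3 F14276)) (tt N6740 (iv4 F16388)) (tt N2843 (iv5 D8954)) (tt N12710 D19113) (tt N6149 (iv7 F13962)))
theorem Q6136 : ∀ i, i < 6136 → P i := stepQ 6135 Q6135 (allL N6135 (tt N6712 F16746) (tt N6711 F16747) (tt N5694 F13931) (tt N6260 (iv3 F14282)) (tt N2844 F13932) (tt N12711 D19114) (tt N2843 (iv6 D8955)) (tt N3117 F16748))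
theorem Q6137 : ∀ i, i < 6137 → P i := stepQ 6136 Q6136 (allL N6136 (tt N6721 F16775) (tt N2849 F16776) (tt N6152 (iv2 F13979)) (tt N6502 (iv3 F15137)) (tt N12712 D19115) (tt N2844 (iv5 D8956)) (tt N6752 (iv6 F16433)) (tt N3120 F16777))
theorem Q6138 : ∀ i, i < 6138 → P i := stepQ 6137 Q6137 (allL N6137 (tt N2846 (iv1 D8963)) (tt N2850 F13935) (tt N2848 F14736) (tt N3010 F13936) (tt N12713 D19116) (tt N6154 (iv5 F16900)) (tt N6137 F14740) (tt N2847 F14737))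
theorem Q6139 : ∀ i, i < 6139 → P i := stepQ 6138 Q6138 (allL N6138 (tt N6152 (iv1 F16808)) (tt N3120 (iv0 F13939)) (tt N2849 F13937) (tt N6138 F13938) (tt N12714 D19117) (tt N2846 (iv5 D8964)) (tt N6561 (iv6 F293009)) (tt N6721 (iv7 F16235)))
theorem Q6140 : ∀ i, i < 6140 → P i := stepQ 6139 Q6139 (allL N6139 (tt N2848 (iv1 F13944)) (tt N2847 F13945) (tt N2850 F13940) (tt N6139 F13941) (tt N11227 (iv4 F27354)) (tt N6721 F16236) (tt N3157 (iv6 F16773)) (tt N2846 (iv7 D8965)))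
theorem Q6141 : ∀ i, i < 6141 → P i := stepQ 6140 Q6140 (allL N6140 (tt N6481 (iv1 F17572)) (tt N6488 F17391) (tt N3008 F14721) (tt N2847 (iv3 D8967)) (tt N2989 F13947) (tt N5867 (iv5 F293113)) (tt N3112 F16858) (tt N3010 F14722))
theorem Q6142 : ∀ i, i < 6142 → P i := stepQ 6141 Q6141 (allL N6141 (tt N12715 D19119) (tt N11551 (iv0 F28031)) (tt N6777 F16878) (tt N6266 F17567) (tt N2847 (iv4 D8968)) (tt N12716 D19120) (tt N3186 F16879) (tt N12713 (iv7 F30712)))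
theorem Q6143 : ∀ i, i < 6143 → P i := stepQ 6142 Q6142 (allL N6142 (tt N6252 (iv1 F17587)) (tt N6258 F17586) (tt N6256 (iv2 F17579)) (tt N2848 (iv3 D8972)) (tt N12717 D19123) (tt N12718 D19124) (tt N6142 F14746) (tt N6255 (iv7 F17585)))
theorem Q6144 : ∀ i, i < 6144 → P i := stepQ 6143 Q6143 (allL N6143 (tt N11551 F28030) (tt N12715 F30722) (tt N12713 (iv2 F30709)) (tt N8556 F21350) (tt N2848 (iv4 D8973)) (tt N11843 (iv5 F28514)) (tt N6143 F14747) (tt N6777 (iv7 F16915)))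
theorem Q6145 : ∀ i, i < 6145 → P i := stepQ 6144 Q6144 (allL N6144 (tt N3113 F294236) (tt N6153 (iv0 F16813)) (tt N6154 F16899) (tt N12718 (iv3 F30733)) (tt N12719 D19125) (tt N2848 (iv5 D8974)) (tt N6601 F292886) (tt N2877 (iv7 F293895)))
theorem Q6146 : ∀ i, i < 6146 → P i := stepQ 6145 Q6145 (allL N6145 (tt N12720 D19127) (tt N12721 D19128) (tt N12714 (iv2 F30713)) (tt N12722 D19129) (tt N2849 (iv4 D8977)) (tt N12723 D19130) (tt N6562 (iv6 F293109)) (tt N7136 (iv7 F17975)))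
theorem Q6147 : ∀ i, i < 6147 → P i := stepQ 6146 Q6146 (allL N6146 (tt N6886 (iv1 F293744)) (tt N7021 (iv0 F293528)) (tt N6911 (iv2 F293745)) (tt N2851 (iv3 D8978)) (tt N12722 (iv4 F30737)) (tt N3143 (iv5 F293746)) (tt N3318 (iv6 F293747)) (tt N6689 (iv7 F292759)))
theorem Q6148 : ∀ i, i < 6148 → P i := stepQ 6147 Q6147 (allL N6147 (tt N2854 (iv1 F13952)) (tt N2852 (iv0 D8979)) (tt N5533 (iv2 F13953)) (tt N4060 F13951) (tt N2963 F13950) (tt N6696 (iv5 F16137)) (tt N12724 D19134) (tt N5673 (iv7 F13954)))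
theorem Q6149 : ∀ i, i < 6149 → P i := stepQ 6148 Q6148 (allL N6148 (tt N2852 (iv1 D8980)) (tt N2854 F13955) (tt N5673 F13959) (tt N4089 (iv3 F13958)) (tt N3034 (iv4 F13957)) (tt N6697 (iv5 F16143)) (tt N6711 F16941) (tt N5533 F13956))
theorem Q6150 : ∀ i, i < 6150 → P i := stepQ 6149 Q6149 (allL N6149 (tt N6069 F295958) (tt N6627 (iv0 F15940)) (tt N5674 F13960) (tt N3207 F13961) (tt N5802 F13963) (tt N2852 (iv5 D8981)) (tt N12725 D19135) (tt N6134 F13962))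
theorem Q6151 : ∀ i, i < 6151 → P i := stepQ 6150 Q6150 (allL N6150 (tt N2908 (iv1 F13976)) (tt N2853 (iv0 D8987)) (tt N2912 (iv2 F13975)) (tt N2922 F13974) (tt N2924 F13973) (tt N6706 (iv5 F16196)) (tt N6708 F16932) (tt N2909 F13977))
theorem Q6152 : ∀ i, i < 6152 → P i := stepQ 6151 Q6151 (allL N6151 (tt N11880 F28564) (tt N3303 (iv0 F15465)) (tt N6370 (iv2 F14560)) (tt N2855 F13978) (tt N11836 (iv4 F28491)) (tt N12726 D19136) (tt N2853 (iv6 D8988)) (tt N3152 (iv7 F16817)))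
theorem Q6153 : ∀ i, i < 6153 → P i := stepQ 6152 Q6152 (allL N6152 (tt N3365 F16807) (tt N6138 F16808) (tt N6136 F13979) (tt N12726 (iv3 F30749)) (tt N12727 D19137) (tt N2855 (iv5 D8989)) (tt N3344 F292512) (tt N3158 (iv7 F16818)))
theorem Q6154 : ∀ i, i < 6154 → P i := stepQ 6153 Q6153 (allL N6153 (tt N6144 F16813) (tt N6119 F294772) (tt N2857 F13980) (tt N6153 F13981) (tt N12728 D19138) (tt N2856 (iv5 D8990)) (tt N7071 (iv6 F17714)) (tt N6184 F294773))
theorem Q6155 : ∀ i, i < 6155 → P i := stepQ 6154 Q6154 (allL N6154 (tt N6184 (iv1 F295241)) (tt N2857 (iv0 D8994)) (tt N6144 (iv2 F16899)) (tt N6448 (iv3 F16903)) (tt N12729 D19139) (tt N6137 F16900) (tt N6170 F293141) (tt N6119 (iv7 F294131)))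
theorem Q6156 : ∀ i, i < 6156 → P i := stepQ 6155 Q6155 (allL N6155 (tt N12730 D19144) (tt N12731 D19145) (tt N12728 (iv2 F30754)) (tt N6688 (iv3 F293868)) (tt N2857 (iv4 D8996)) (tt N12732 D19147) (tt N7090 (iv6 F17738)) (tt N6625 (iv7 F293506)))
theorem Q6157 : ∀ i, i < 6157 → P i := stepQ 6156 Q6156 (allL N6156 (tt N6358 F14525) (tt N6362 F14537) (tt N2896 F13987) (tt N6156 F13988) (tt N12733 D19151) (tt N2858 (iv5 D8998)) (tt N7102 (iv6 F17834)) (tt N6359 (iv7 F14528)))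
theorem Q6158 : ∀ i, i < 6158 → P i := stepQ 6157 Q6157 (allL N6157 (tt N2881 F13991) (tt N6496 (iv0 F15121)) (tt N2996 F13989) (tt N6171 (iv3 F14080)) (tt N3253 F13992) (tt N2860 (iv5 D8999)) (tt N12734 D19152) (tt N5849 F13990))
theorem Q6159 : ∀ i, i < 6159 → P i := stepQ 6158 Q6158 (allL N6158 (tt N2861 (iv1 D9001)) (tt N5855 F13995) (tt N3043 (iv2 F13998)) (tt N6174 (iv3 F14103)) (tt N3214 (iv4 F13999)) (tt N3042 F13997) (tt N12735 D19153) (tt N5852 F13996))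
theorem Q6160 : ∀ i, i < 6160 → P i := stepQ 6159 Q6159 (allL N6159 (tt N12736 D19154) (tt N12737 D19155) (tt N5854 F14000) (tt N2867 F14001) (tt N6304 (iv4 F14412)) (tt N6159 F14002) (tt N2861 (iv6 D9002)) (tt N12738 D19156))
theorem Q6161 : ∀ i, i < 6161 → P i := stepQ 6160 Q6160 (allL N6160 (tt N6113 F14003) (tt N6109 (iv0 F14143)) (tt N6730 (iv2 F16313)) (tt N8655 (iv3 F21588)) (tt N12739 D19157) (tt N2862 (iv5 D9003)) (tt N8808 (iv6 F296098)) (tt N6642 (iv7 F15959)))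
theorem Q6162 : ∀ i, i < 6162 → P i := stepQ 6161 Q6161 (allL N6161 (tt N6114 F16936) (tt N6360 F16939) (tt N6731 (iv2 F16318)) (tt N8656 (iv3 F21595)) (tt N3152 F14040) (tt N12740 D19159) (tt N2862 (iv6 D9004)) (tt N11836 (iv7 F28493)))
theorem Q6163 : ∀ i, i < 6163 → P i := stepQ 6162 Q6162 (allL N6162 (tt N2874 (iv1 F14062)) (tt N2864 (iv0 D9006)) (tt N6737 (iv2 F16380)) (tt N5677 (iv3 F14064)) (tt N12741 D19161) (tt N5676 F14063) (tt N12742 D19162) (tt N6745 (iv7 F296088)))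
theorem Q6164 : ∀ i, i < 6164 → P i := stepQ 6163 Q6163 (allL N6163 (tt N11584 (iv1 F28066)) (tt N5756 F14057) (tt N8701 (iv2 F21826)) (tt N12743 D19163) (tt N2864 (iv4 D9007)) (tt N12625 (iv5 F30284)) (tt N12044 (iv6 F296516)) (tt N6744 F296106))
theorem Q6165 : ∀ i, i < 6165 → P i := stepQ 6164 Q6164 (allL N6164 (tt N2876 (iv1 F14071)) (tt N2866 (iv0 D9011)) (tt N12681 F30600) (tt N12744 D19170) (tt N3177 F14070) (tt N12745 D19171) (tt N12746 D19172) (tt N6659 (iv7 F16001)))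
theorem Q6166 : ∀ i, i < 6166 → P i := stepQ 6165 Q6165 (allL N6165 (tt N2866 (iv1 D9012)) (tt N2876 F14072) (tt N6659 (iv2 F16000)) (tt N6845 F17030) (tt N3198 (iv4 F14073)) (tt N12747 D19173) (tt N12748 D19174) (tt N12681 (iv7 F30598)))
theorem Q6167 : ∀ i, i < 6167 → P i := stepQ 6166 Q6166 (allL N6166 (tt N12749 D19175) (tt N12750 D19176) (tt N12751 D19177) (tt N2866 (iv3 D9013)) (tt N6302 (iv4 F14407)) (tt N12752 D19178) (tt N12753 D19179) (tt N12682 (iv7 F30602)))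
theorem Q6168 : ∀ i, i < 6168 → P i := stepQ 6167 Q6167 (allL N6167 (tt N12754 D19180) (tt N12755 D19181) (tt N12687 (iv2 F30624)) (tt N12752 (iv3 F30816)) (tt N12626 F30297) (tt N2866 (iv5 D9014)) (tt N12756 D19182) (tt N12683 (iv7 F30607)))
theorem Q6169 : ∀ i, i < 6169 → P i := stepQ 6168 Q6168 (allL N6168 (tt N12757 D19183) (tt N12758 D19184) (tt N12688 (iv2 F30626)) (tt N12753 (iv3 F30821)) (tt N2867 F14074) (tt N12759 D19185) (tt N2866 (iv6 D9015)) (tt N12760 D19186))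
theorem Q6170 : ∀ i, i < 6170 → P i := stepQ 6169 Q6169 (allL N6169 (tt N6601 (iv1 F66170)) (tt N2867 (iv0 D9016)) (tt N3078 F293308) (tt N6169 F66171) (tt N12761 D19189) (tt N12762 D19190) (tt N12763 D19191) (tt N6602 F66153))
theorem Q6171 : ∀ i, i < 6171 → P i := stepQ 6170 Q6170 (allL N6170 (tt N6602 F66150) (tt N3078 F293740) (tt N6601 F66199) (tt N12738 (iv3 F30776)) (tt N12760 (iv4 F30826)) (tt N6170 F14075) (tt N6154 (iv6 F293141)) (tt N2867 (iv7 D9018)))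
theorem Q6172 : ∀ i, i < 6172 → P i := stepQ 6171 Q6171 (allL N6171 (tt N6364 (iv1 F14546)) (tt N2884 F14082) (tt N3053 F14079) (tt N6157 F14080) (tt N3324 F14083) (tt N2869 (iv5 D9020)) (tt N12764 D19198) (tt N5785 F14081))
theorem Q6173 : ∀ i, i < 6173 → P i := stepQ 6172 Q6172 (allL N6172 (tt N2972 F14091) (tt N6485 F15043) (tt N2872 F14088) (tt N5855 F14089) (tt N6747 (iv4 F16423)) (tt N2870 (iv5 D9022)) (tt N12765 D19199) (tt N5851 F14090))
theorem Q6174 : ∀ i, i < 6174 → P i := stepQ 6173 Q6173 (allL N6173 (tt N3109 F17409) (tt N6177 F14109) (tt N2873 F14094) (tt N5856 F14095) (tt N6695 (iv4 F16135)) (tt N6624 (iv5 F294265)) (tt N2870 (iv6 D9023)) (tt N6173 F14096))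
theorem Q6175 : ∀ i, i < 6175 → P i := stepQ 6174 Q6174 (allL N6174 (tt N5851 (iv1 F14105)) (tt N2872 (iv0 D9026)) (tt N2972 (iv2 F14104)) (tt N6158 F14103) (tt N3180 F14102) (tt N2971 F14101) (tt N12766 D19204) (tt N6485 (iv7 F15040)))
theorem Q6176 : ∀ i, i < 6176 → P i := stepQ 6175 Q6175 (allL N6175 (tt N3131 F14106) (tt N3128 F14107) (tt N6747 F16424) (tt N12767 D19205) (tt N2872 (iv4 D9027)) (tt N12768 D19206) (tt N12769 D19207) (tt N6746 F16420))
theorem Q6177 : ∀ i, i < 6177 → P i := stepQ 6176 Q6176 (allL N6176 (tt N12770 D19208) (tt N12771 D19209) (tt N12765 (iv2 F30835)) (tt N2877 F14108) (tt N12769 (iv4 F30854)) (tt N6255 F292888) (tt N2872 (iv6 D9028)) (tt N12718 F292889))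
theorem Q6178 : ∀ i, i < 6178 → P i := stepQ 6177 Q6177 (allL N6177 (tt N6173 (iv1 F14109)) (tt N2873 (iv0 D9029)) (tt N3109 F17421) (tt N5868 (iv3 F17472)) (tt N3172 F17423) (tt N6705 F293628) (tt N6439 F17424) (tt N6177 F17425))
theorem Q6179 : ∀ i, i < 6179 → P i := stepQ 6178 Q6178 (allL N6178 (tt N5756 F14113) (tt N11584 (iv0 F28065)) (tt N6744 F296107) (tt N12772 D19214) (tt N2874 (iv4 D9032)) (tt N12626 (iv5 F30288)) (tt N6723 F296108) (tt N8701 (iv7 F21827)))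
theorem Q6180 : ∀ i, i < 6180 → P i := stepQ 6179 Q6179 (allL N6179 (tt N3174 F295895) (tt N2875 (iv0 D9034)) (tt N6180 (iv2 F17417)) (tt N3173 F17397) (tt N6624 F17398) (tt N3173 F295649) (tt N12773 D19221) (tt N6179 F17399))
theorem Q6181 : ∀ i, i < 6181 → P i := stepQ 6180 Q6180 (allL N6180 (tt N2875 (iv1 D9035)) (tt N3174 (iv0 F295736)) (tt N6179 F17417) (tt N5778 F17418) (tt N3187 F17419) (tt N3172 F295720) (tt N12668 F30577) (tt N6180 F17420))
theorem Q6182 : ∀ i, i < 6182 → P i := stepQ 6181 Q6181 (allL N6181 (tt N12774 D19224) (tt N6818 (iv0 F16695)) (tt N12775 D19225) (tt N2876 (iv3 D9037)) (tt N12767 (iv4 F30851)) (tt N12776 D19226) (tt N12777 D19227) (tt N12686 (iv7 F30623)))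
theorem Q6183 : ∀ i, i < 6183 → P i := stepQ 6182 Q6182 (allL N6182 (tt N12755 (iv1 F30824)) (tt N12754 F30823) (tt N12683 (iv2 F30605)) (tt N12776 (iv3 F30888)) (tt N12625 (iv4 F30285)) (tt N2876 (iv5 D9038)) (tt N12778 D19228) (tt N12687 (iv7 F30625)))
theorem Q6184 : ∀ i, i < 6184 → P i := stepQ 6183 Q6183 (allL N6183 (tt N12779 D19229) (tt N12780 D19230) (tt N12684 (iv2 F30608)) (tt N12777 (iv3 F30889)) (tt N2877 F14117) (tt N12781 D19231) (tt N2876 (iv6 D9039)) (tt N12719 F294144))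
theorem Q6185 : ∀ i, i < 6185 → P i := stepQ 6184 Q6184 (allL N6184 (tt N2877 (iv1 D9041)) (tt N6154 F295241) (tt N3113 F62530) (tt N6184 F62179) (tt N12782 D19240) (tt N3157 F294155) (tt N12783 D19242) (tt N6153 (iv7 F294773)))
theorem Q6186 : ∀ i, i < 6186 → P i := stepQ 6185 Q6185 (allL N6185 (tt N6872 (iv1 F17166)) (tt N6871 F17162) (tt N6778 (iv2 F16596)) (tt N2879 (iv3 D9054)) (tt N6185 F14129) (tt N12784 D19253) (tt N12785 D19254) (tt N6873 (iv7 F17165)))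
theorem Q6187 : ∀ i, i < 6187 → P i := stepQ 6186 Q6186 (allL N6186 (tt N6792 (iv1 F16642)) (tt N6965 F17272) (tt N2889 F14130) (tt N12784 (iv3 F30909)) (tt N12628 (iv4 F30299)) (tt N2879 (iv5 D9055)) (tt N10955 (iv6 F304324)) (tt N6963 (iv7 F17264)))
theorem Q6188 : ∀ i, i < 6188 → P i := stepQ 6187 Q6187 (allL N6187 (tt N7001 F17307) (tt N12786 D19256) (tt N2890 F14131) (tt N12785 (iv3 F30910)) (tt N2880 F14132) (tt N12787 D19257) (tt N2879 (iv6 D9056)) (tt N12788 D19258))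
theorem Q6189 : ∀ i, i < 6189 → P i := stepQ 6188 Q6188 (allL N6188 (tt N2893 (iv1 F14136)) (tt N2880 (iv0 D9057)) (tt N2891 F31050) (tt N12789 D19260) (tt N12790 D19261) (tt N12791 D19262) (tt N6228 F14164) (tt N2892 F31051))
theorem Q6190 : ∀ i, i < 6190 → P i := stepQ 6189 Q6189 (allL N6189 (tt N2880 (iv1 D9058)) (tt N2893 F14133) (tt N2892 (iv2 F31045)) (tt N6988 F17290) (tt N12792 D19264) (tt N6225 (iv5 F14162)) (tt N6474 F293888) (tt N2891 (iv7 F31049)))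
theorem Q6191 : ∀ i, i < 6191 → P i := stepQ 6190 Q6190 (allL N6190 (tt N2892 (iv1 F14137)) (tt N2891 F14138) (tt N2893 F14134) (tt N6190 F14135) (tt N12788 (iv4 F30918)) (tt N12680 (iv5 F30593)) (tt N7103 (iv6 F17837)) (tt N2880 (iv7 D9059)))
theorem Q6192 : ∀ i, i < 6192 → P i := stepQ 6191 Q6191 (allL N6191 (tt N12793 D19266) (tt N12794 D19267) (tt N6945 (iv2 F17244)) (tt N2883 F14139) (tt N6867 (iv4 F17155)) (tt N7083 F291264) (tt N2881 (iv6 D9060)) (tt N12795 D19269))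
theorem Q6193 : ∀ i, i < 6193 → P i := stepQ 6192 Q6192 (allL N6192 (tt N2885 (iv1 F14141)) (tt N2882 (iv0 D9061)) (tt N7094 F17804) (tt N12796 D19270) (tt N3151 F14140) (tt N12754 (iv5 F30822)) (tt N12797 D19271) (tt N6643 (iv7 F15966)))
theorem Q6194 : ∀ i, i < 6194 → P i := stepQ 6193 Q6193 (allL N6193 (tt N2882 (iv1 D9062)) (tt N2885 F14144) (tt N6643 (iv2 F15965)) (tt N6924 F17229) (tt N3194 (iv4 F14145)) (tt N12755 (iv5 F30825)) (tt N12798 D19272) (tt N7094 (iv7 F17802)))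
theorem Q6195 : ∀ i, i < 6195 → P i := stepQ 6194 Q6194 (allL N6194 (tt N12799 D19273) (tt N12800 D19274) (tt N12801 D19275) (tt N2882 (iv3 D9063)) (tt N6865 (iv4 F17148)) (tt N10659 F27837) (tt N12802 D19276) (tt N6953 (iv7 F17252)))
theorem Q6196 : ∀ i, i < 6196 → P i := stepQ 6195 Q6195 (allL N6195 (tt N10882 F302010) (tt N12803 D19278) (tt N7099 (iv2 F17819)) (tt N10659 (iv3 F27845)) (tt N12618 (iv4 F30266)) (tt N2882 (iv5 D9064)) (tt N12804 D19279) (tt N7095 (iv7 F17806)))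
theorem Q6197 : ∀ i, i < 6197 → P i := stepQ 6196 Q6196 (allL N6196 (tt N12805 D19280) (tt N12806 D19281) (tt N7100 (iv2 F17821)) (tt N12802 (iv3 F30936)) (tt N2883 F14146) (tt N12807 D19282) (tt N2882 (iv6 D9065)) (tt N12808 D19283))
theorem Q6198 : ∀ i, i < 6198 → P i := stepQ 6197 Q6197 (allL N6197 (tt N6462 F66031) (tt N2883 (iv0 D9066)) (tt N3015 (iv2 F66049)) (tt N6197 F66050) (tt N12809 D19286) (tt N12810 D19287) (tt N6476 F293892) (tt N6463 (iv7 F66046)))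
theorem Q6199 : ∀ i, i < 6199 → P i := stepQ 6198 Q6198 (allL N6198 (tt N6463 (iv1 F66045)) (tt N3015 (iv0 F66047)) (tt N6462 F66032) (tt N12795 (iv3 F30925)) (tt N12808 (iv4 F30945)) (tt N7070 (iv5 F292527)) (tt N6560 F62512) (tt N2883 (iv7 D9069)))
theorem Q6200 : ∀ i, i < 6200 → P i := stepQ 6199 Q6199 (allL N6199 (tt N3053 (iv1 F14150)) (tt N5785 F14149) (tt N2884 (iv2 D9070)) (tt N6496 (iv3 F15119)) (tt N6701 (iv4 F16165)) (tt N3034 F14148) (tt N12811 D19298) (tt N6364 (iv7 F14544)))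
theorem Q6201 : ∀ i, i < 6201 → P i := stepQ 6200 Q6200 (allL N6200 (tt N3124 F14151) (tt N3118 F14152) (tt N6701 F16166) (tt N12812 D19299) (tt N2884 (iv4 D9071)) (tt N12813 D19300) (tt N12814 D19301) (tt N6700 F16162))
theorem Q6202 : ∀ i, i < 6202 → P i := stepQ 6201 Q6201 (allL N6201 (tt N12815 D19302) (tt N12816 D19303) (tt N12811 (iv2 F30952)) (tt N2886 F14153) (tt N12814 (iv4 F30956)) (tt N12817 D19304) (tt N2884 (iv6 D9072)) (tt N12818 D19305))
theorem Q6203 : ∀ i, i < 6203 → P i := stepQ 6202 Q6202 (allL N6202 (tt N12819 D19306) (tt N6896 (iv0 F17196)) (tt N12820 D19307) (tt N2885 (iv3 D9073)) (tt N12812 (iv4 F30953)) (tt N12821 D19308) (tt N12822 D19309) (tt N7098 (iv7 F17818)))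
theorem Q6204 : ∀ i, i < 6204 → P i := stepQ 6203 Q6203 (allL N6203 (tt N12803 (iv1 F30941)) (tt N10882 (iv0 F300220)) (tt N7095 (iv2 F17805)) (tt N12821 (iv3 F30960)) (tt N12615 (iv4 F30264)) (tt N2885 (iv5 D9074)) (tt N12823 D19310) (tt N7099 (iv7 F17820)))
theorem Q6205 : ∀ i, i < 6205 → P i := stepQ 6204 Q6204 (allL N6204 (tt N12824 D19311) (tt N12825 D19312) (tt N7096 (iv2 F17807)) (tt N12822 (iv3 F30961)) (tt N2886 F14154) (tt N12826 D19313) (tt N2885 (iv6 D9075)) (tt N12827 D19314))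
theorem Q6206 : ∀ i, i < 6206 → P i := stepQ 6205 Q6205 (allL N6205 (tt N2886 (iv1 D9077)) (tt N6560 (iv0 F62491)) (tt N3073 F62480) (tt N6205 F62169) (tt N12828 D19322) (tt N7045 F291975) (tt N12829 D19324) (tt N6561 (iv7 F62496)))
theorem Q6207 : ∀ i, i < 6207 → P i := stepQ 6206 Q6206 (allL N6206 (tt N6352 F291820) (tt N12830 D19326) (tt N6773 (iv2 F292207)) (tt N12817 (iv3 F30957)) (tt N12831 D19327) (tt N2886 (iv5 D9078)) (tt N6115 F14155) (tt N12832 D19328))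
theorem Q6208 : ∀ i, i < 6208 → P i := stepQ 6207 Q6207 (allL N6207 (tt N3073 F62486) (tt N6561 (iv0 F62494)) (tt N6560 F62501) (tt N12818 (iv3 F30959)) (tt N12827 (iv4 F30962)) (tt N12832 (iv5 F30968)) (tt N6462 F66037) (tt N2886 (iv7 D9079)))
theorem Q6209 : ∀ i, i < 6209 → P i := stepQ 6208 Q6208 (allL N6208 (tt N12833 D19329) (tt N12834 D19330) (tt N12835 D19331) (tt N2887 (iv3 D9080)) (tt N12836 D19332) (tt N12837 D19333) (tt N12838 D19334) (tt N6960 (iv7 F17258)))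
theorem Q6210 : ∀ i, i < 6210 → P i := stepQ 6209 Q6209 (allL N6209 (tt N12839 D19335) (tt N6124 F14156) (tt N6889 (iv2 F17186)) (tt N12837 (iv3 F30974)) (tt N12609 (iv4 F30261)) (tt N2887 (iv5 D9081)) (tt N12840 D19336) (tt N6961 (iv7 F17260)))
theorem Q6211 : ∀ i, i < 6211 → P i := stepQ 6210 Q6210 (allL N6210 (tt N12809 F66090) (tt N6464 (iv0 F65648)) (tt N6890 (iv2 F17189)) (tt N12838 (iv3 F30975)) (tt N6887 (iv4 F17183)) (tt N12841 D19339) (tt N2887 (iv6 D9082)) (tt N12842 D19340))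
theorem Q6212 : ∀ i, i < 6212 → P i := stepQ 6211 Q6211 (allL N6211 (tt N12843 D19341) (tt N12844 D19342) (tt N12845 D19343) (tt N2888 (iv3 D9083)) (tt N6862 (iv4 F17130)) (tt N5825 F14159) (tt N12846 D19344) (tt N6888 (iv7 F17185)))
theorem Q6213 : ∀ i, i < 6213 → P i := stepQ 6212 Q6212 (allL N6212 (tt N6124 F14157) (tt N12839 F30979) (tt N6961 (iv2 F17259)) (tt N5825 (iv3 F14158)) (tt N12600 (iv4 F30246)) (tt N2888 (iv5 D9084)) (tt N12847 D19345) (tt N6889 (iv7 F17187)))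
theorem Q6214 : ∀ i, i < 6214 → P i := stepQ 6213 Q6213 (allL N6213 (tt N6562 (iv1 F62728)) (tt N12828 (iv0 F62729)) (tt N6962 (iv2 F17262)) (tt N12846 (iv3 F30987)) (tt N6861 (iv4 F17129)) (tt N12848 D19348) (tt N2888 (iv6 D9085)) (tt N12849 D19349))
theorem Q6215 : ∀ i, i < 6215 → P i := stepQ 6214 Q6214 (allL N6214 (tt N6963 (iv1 F17267)) (tt N2889 (iv0 D9086)) (tt N6792 (iv2 F16638)) (tt N12850 D19350) (tt N12584 (iv4 F30202)) (tt N6305 F14417) (tt N12851 D19351) (tt N6965 (iv7 F17273)))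
theorem Q6216 : ∀ i, i < 6216 → P i := stepQ 6215 Q6215 (allL N6215 (tt N2889 (iv1 D9087)) (tt N6963 (iv0 F17266)) (tt N6965 F17271) (tt N8673 (iv3 F21741)) (tt N11828 (iv4 F28470)) (tt N6284 F14358) (tt N12852 D19352) (tt N6792 (iv7 F16640)))
theorem Q6217 : ∀ i, i < 6217 → P i := stepQ 6216 Q6216 (allL N6216 (tt N12626 (iv1 F30287)) (tt N12625 F30286) (tt N12628 (iv2 F30298)) (tt N12853 D19353) (tt N2889 (iv4 D9088)) (tt N12576 (iv5 F30179)) (tt N12854 D19354) (tt N6966 (iv7 F17275)))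
theorem Q6218 : ∀ i, i < 6218 → P i := stepQ 6217 Q6217 (allL N6217 (tt N10916 (iv1 F304945)) (tt N10957 (iv0 F304946)) (tt N10955 (iv2 F304323)) (tt N6982 (iv3 F17287)) (tt N12854 (iv4 F30990)) (tt N12855 D19357) (tt N2889 (iv6 D9089)) (tt N10954 F306744))
theorem Q6219 : ∀ i, i < 6219 → P i := stepQ 6218 Q6218 (allL N6218 (tt N12788 (iv1 F30920)) (tt N2890 (iv0 D9090)) (tt N7001 (iv2 F17364)) (tt N12856 D19359) (tt N7000 F17365) (tt N12857 D19360) (tt N12858 D19361) (tt N12786 (iv7 F30914)))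
theorem Q6220 : ∀ i, i < 6220 → P i := stepQ 6219 Q6219 (allL N6219 (tt N2890 (iv1 D9091)) (tt N12788 F30919) (tt N12786 F30915) (tt N12859 D19362) (tt N6884 (iv4 F17181)) (tt N12860 D19363) (tt N12861 D19364) (tt N7001 (iv7 F17363)))
theorem Q6221 : ∀ i, i < 6221 → P i := stepQ 6220 Q6220 (allL N6220 (tt N12862 D19365) (tt N12863 D19366) (tt N12787 (iv2 F30916)) (tt N6998 (iv3 F17295)) (tt N12864 D19367) (tt N2890 (iv5 D9092)) (tt N12855 (iv6 F30991)) (tt N12865 D19368))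
theorem Q6222 : ∀ i, i < 6222 → P i := stepQ 6221 Q6221 (allL N6221 (tt N12786 (iv1 F30913)) (tt N7001 (iv0 F17306)) (tt N12788 (iv2 F30917)) (tt N6995 (iv3 F17292)) (tt N2893 F14160) (tt N12865 (iv5 F30992)) (tt N6971 (iv6 F17281)) (tt N2890 (iv7 D9093)))
theorem Q6223 : ∀ i, i < 6223 → P i := stepQ 6222 Q6222 (allL N6222 (tt N12866 D19375) (tt N12734 (iv0 F35586)) (tt N6984 (iv2 F31066)) (tt N2891 (iv3 D9095)) (tt N6877 F17177) (tt N12867 D19378) (tt N12868 D19379) (tt N6988 (iv7 F31046)))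
theorem Q6224 : ∀ i, i < 6224 → P i := stepQ 6223 Q6223 (allL N6223 (tt N12869 D19381) (tt N12798 F63093) (tt N12790 (iv2 F31055)) (tt N12870 D19383) (tt N2891 (iv4 D9096)) (tt N12871 D19384) (tt N12872 D19385) (tt N12792 (iv7 F31048)))
theorem Q6225 : ∀ i, i < 6225 → P i := stepQ 6224 Q6224 (allL N6224 (tt N12873 D19387) (tt N6564 (iv0 F62469)) (tt N12791 (iv2 F31057)) (tt N12867 (iv3 F31003)) (tt N12874 D19389) (tt N2891 (iv5 D9097)) (tt N12875 D19390) (tt N6225 F31053))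
theorem Q6226 : ∀ i, i < 6226 → P i := stepQ 6225 Q6225 (allL N6225 (tt N12829 (iv1 F62076)) (tt N7137 (iv0 F292756)) (tt N6228 (iv2 F31052)) (tt N12868 (iv3 F31004)) (tt N12872 (iv4 F31009)) (tt N6189 F14162) (tt N2891 (iv6 D9098)) (tt N6224 (iv7 F31053)))
theorem Q6227 : ∀ i, i < 6227 → P i := stepQ 6226 Q6226 (allL N6226 (tt N12764 (iv1 F35590)) (tt N12876 D19397) (tt N12877 D19398) (tt N2892 (iv3 D9100)) (tt N12878 D19399) (tt N12879 D19400) (tt N12880 D19401) (tt N12789 (iv7 F31054)))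
theorem Q6228 : ∀ i, i < 6228 → P i := stepQ 6227 Q6227 (allL N6227 (tt N12798 F63094) (tt N12869 F31012) (tt N12792 (iv2 F31047)) (tt N12881 D19402) (tt N2892 (iv4 D9101)) (tt N12882 D19403) (tt N12883 D19404) (tt N12790 (iv7 F31056)))
theorem Q6229 : ∀ i, i < 6229 → P i := stepQ 6228 Q6228 (allL N6228 (tt N6564 F62470) (tt N12873 F31019) (tt N6225 F31052) (tt N12879 (iv3 F31030)) (tt N12884 D19405) (tt N2892 (iv5 D9102)) (tt N6188 (iv6 F14164)) (tt N12791 (iv7 F31058)))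
theorem Q6230 : ∀ i, i < 6230 → P i := stepQ 6229 Q6229 (allL N6229 (tt N6477 F292736) (tt N6476 (iv0 F292883)) (tt N6474 (iv2 F292880)) (tt N12880 (iv3 F31032)) (tt N12883 (iv4 F31033)) (tt N6475 (iv5 F292973)) (tt N2892 (iv6 D9103)) (tt N6475 (iv7 F292974)))
theorem Q6231 : ∀ i, i < 6231 → P i := stepQ 6230 Q6230 (allL N6230 (tt N11836 F28495) (tt N6731 F16926) (tt N6114 F14165) (tt N11261 (iv3 F27451)) (tt N2894 (iv4 D9104)) (tt N12885 D19409) (tt N2962 F14166) (tt N6360 (iv7 F14532)))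
theorem Q6232 : ∀ i, i < 6232 → P i := stepQ 6231 Q6231 (allL N6231 (tt N5786 (iv1 F16924)) (tt N2973 F16923) (tt N6568 F16921) (tt N2895 (iv3 D9106)) (tt N6712 (iv4 F16928)) (tt N6774 (iv5 F292521)) (tt N6438 (iv6 F27367)) (tt N6112 F14168))
theorem Q6233 : ∀ i, i < 6233 → P i := stepQ 6232 Q6232 (allL N6232 (tt N6731 F16925) (tt N11836 (iv0 F28494)) (tt N6360 (iv2 F14531)) (tt N5523 F14170) (tt N2895 (iv4 D9107)) (tt N12886 D19412) (tt N6471 (iv6 F17534)) (tt N6114 F14169))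
theorem Q6234 : ∀ i, i < 6234 → P i := stepQ 6233 Q6233 (allL N6233 (tt N2896 (iv1 D9110)) (tt N6359 (iv0 F14529)) (tt N6362 F14536) (tt N12887 D19415) (tt N12888 D19416) (tt N3023 F17522) (tt N7126 (iv6 F292262)) (tt N6358 (iv7 F14523)))
theorem Q6235 : ∀ i, i < 6235 → P i := stepQ 6234 Q6234 (allL N6234 (tt N12889 D19418) (tt N12890 D19419) (tt N12733 (iv2 F30768)) (tt N12891 D19420) (tt N2896 (iv4 D9111)) (tt N12892 D19421) (tt N7110 (iv6 F17843)) (tt N6363 (iv7 F14539)))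
theorem Q6236 : ∀ i, i < 6236 → P i := stepQ 6235 Q6235 (allL N6235 (tt N6241 (iv1 F14227)) (tt N2897 (iv0 D9118)) (tt N6240 F35620) (tt N12876 (iv3 F35313)) (tt N12893 D19424) (tt N6495 (iv5 F35602)) (tt N6408 (iv6 F35603)) (tt N3055 (iv7 F35604)))
theorem Q6237 : ∀ i, i < 6237 → P i := stepQ 6236 Q6236 (allL N6236 (tt N6240 (iv1 F14228)) (tt N3055 (iv0 F35616)) (tt N2897 (iv2 D9120)) (tt N6236 F14222) (tt N12894 D19432) (tt N12895 D19433) (tt N12896 D19434) (tt N6241 (iv7 F14226)))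
theorem Q6238 : ∀ i, i < 6238 → P i := stepQ 6237 Q6237 (allL N6237 (tt N12897 D19435) (tt N6419 F63159) (tt N12894 (iv2 F31085)) (tt N7112 (iv3 F17847)) (tt N2897 (iv4 D9121)) (tt N12898 D19437) (tt N12899 D19438) (tt N6242 (iv7 F14230)))
theorem Q6239 : ∀ i, i < 6239 → P i := stepQ 6238 Q6238 (allL N6238 (tt N12900 D19439) (tt N6546 (iv0 F35610)) (tt N12895 (iv2 F31086)) (tt N2898 F14188) (tt N12901 D19441) (tt N2897 (iv5 D9122)) (tt N3367 (iv6 F291734)) (tt N6239 F14217))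
theorem Q6240 : ∀ i, i < 6240 → P i := stepQ 6239 Q6239 (allL N6239 (tt N12902 D19443) (tt N7035 F291173) (tt N12896 (iv2 F31088)) (tt N2899 F14189) (tt N12899 (iv4 F31093)) (tt N2900 (iv5 F14190)) (tt N2897 (iv6 D9123)) (tt N6238 (iv7 F14217)))
theorem Q6241 : ∀ i, i < 6241 → P i := stepQ 6240 Q6240 (allL N6240 (tt N2900 (iv1 D9136)) (tt N6236 F14228) (tt N6235 (iv2 F35620)) (tt N12866 (iv3 F34853)) (tt N12903 D19454) (tt N6389 (iv5 F35627)) (tt N6527 (iv6 F35628)) (tt N2998 (iv7 F35629)))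
theorem Q6242 : ∀ i, i < 6242 → P i := stepQ 6241 Q6241 (allL N6241 (tt N2998 (iv1 F35606)) (tt N6235 F14227) (tt N2900 (iv2 D9137)) (tt N6241 F14225) (tt N12904 D19457) (tt N12896 F31090) (tt N12905 D19458) (tt N6236 F14226))
theorem Q6243 : ∀ i, i < 6243 → P i := stepQ 6242 Q6242 (allL N6242 (tt N6530 F63137) (tt N12906 D19460) (tt N12904 (iv2 F31109)) (tt N7113 (iv3 F17864)) (tt N2900 (iv4 D9138)) (tt N12907 D19461) (tt N12908 D19462) (tt N6237 F14230))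
theorem Q6244 : ∀ i, i < 6244 → P i := stepQ 6243 Q6243 (allL N6243 (tt N6595 F35648) (tt N6599 (iv0 F35649)) (tt N12905 (iv2 F31113)) (tt N2901 F14231) (tt N12908 (iv4 F31121)) (tt N3367 F292489) (tt N2900 (iv6 D9139)) (tt N3367 F292490))
theorem Q6245 : ∀ i, i < 6245 → P i := stepQ 6244 Q6244 (allL N6244 (tt N7059 (iv1 F293028)) (tt N12909 D19466) (tt N12910 D19467) (tt N2902 (iv3 D9143)) (tt N12891 (iv4 F31080)) (tt N3361 F291910) (tt N3355 F291911) (tt N3361 F291912))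
theorem Q6246 : ∀ i, i < 6246 → P i := stepQ 6245 Q6245 (allL N6245 (tt N2937 F14239) (tt N2936 F14240) (tt N2941 F14237) (tt N12911 D19468) (tt N2903 (iv4 D9144)) (tt N6946 (iv5 F17246)) (tt N12912 D19469) (tt N2928 F14238))
theorem Q6247 : ∀ i, i < 6247 → P i := stepQ 6246 Q6246 (allL N6246 (tt N12913 D19470) (tt N12914 D19471) (tt N2945 F14241) (tt N6246 F14242) (tt N12912 (iv4 F31127)) (tt N6526 F291103) (tt N2903 (iv6 D9145)) (tt N12915 D19473))
theorem Q6248 : ∀ i, i < 6248 → P i := stepQ 6247 Q6247 (allL N6247 (tt N3307 F14246) (tt N2920 (iv0 F14247)) (tt N2947 F14243) (tt N6247 F14244) (tt N12916 D19474) (tt N2904 (iv5 D9146)) (tt N6526 F291036) (tt N3192 F14245))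
theorem Q6249 : ∀ i, i < 6249 → P i := stepQ 6248 Q6248 (allL N6248 (tt N3008 F17400) (tt N3010 F17401) (tt N6488 (iv2 F15057)) (tt N2907 F14248) (tt N6488 (iv4 F15059)) (tt N12917 D19475) (tt N2905 (iv6 D9147)) (tt N6481 F17575))
theorem Q6250 : ∀ i, i < 6250 → P i := stepQ 6249 Q6249 (allL N6249 (tt N6843 F17024) (tt N6446 F17596) (tt N2917 F14249) (tt N5549 F14250) (tt N2907 F14251) (tt N12918 D19476) (tt N2906 (iv6 D9148)) (tt N6482 F17558))
theorem Q6251 : ∀ i, i < 6251 → P i := stepQ 6250 Q6250 (allL N6250 (tt N2947 F14255) (tt N3192 (iv0 F14256)) (tt N2920 F14253) (tt N12917 (iv3 F31143)) (tt N12919 D19477) (tt N2907 (iv5 D9150)) (tt N6511 (iv6 F291526)) (tt N3307 F14254))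
theorem Q6252 : ∀ i, i < 6252 → P i := stepQ 6251 Q6251 (allL N6251 (tt N2930 F14260) (tt N3195 F14261) (tt N3177 F14257) (tt N3038 F14258) (tt N12681 (iv4 F30599)) (tt N2908 (iv5 D9151)) (tt N12920 D19478) (tt N3198 F14259))
theorem Q6253 : ∀ i, i < 6253 → P i := stepQ 6252 Q6252 (allL N6252 (tt N6442 (iv1 F17588)) (tt N6142 F17587) (tt N2911 F14264) (tt N6488 (iv3 F15058)) (tt N5549 F14265) (tt N12921 D19479) (tt N2909 (iv6 D9153)) (tt N12922 D19480))
theorem Q6254 : ∀ i, i < 6254 → P i := stepQ 6253 Q6253 (allL N6253 (tt N5558 F14269) (tt N4129 (iv0 F14270)) (tt N2915 F14266) (tt N2910 (iv3 D9154)) (tt N2915 F14267) (tt N12586 (iv5 F30207)) (tt N12923 D19481) (tt N5550 F14268))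
theorem Q6255 : ∀ i, i < 6255 → P i := stepQ 6254 Q6254 (allL N6254 (tt N3022 F17517) (tt N5623 F17518) (tt N5549 F14271) (tt N12923 (iv3 F31166)) (tt N2911 F14272) (tt N11883 (iv5 F28577)) (tt N2910 (iv6 D9155)) (tt N5622 (iv7 F17562)))
theorem Q6256 : ∀ i, i < 6256 → P i := stepQ 6255 Q6255 (allL N6255 (tt N12922 (iv1 F31164)) (tt N2911 (iv0 D9156)) (tt N6442 F17582) (tt N3189 F17583) (tt N12668 (iv4 F30574)) (tt N6176 (iv5 F292888)) (tt N3187 F17584) (tt N6142 F17585))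
theorem Q6257 : ∀ i, i < 6257 → P i := stepQ 6256 Q6256 (allL N6256 (tt N2911 (iv1 D9157)) (tt N12922 F31163) (tt N6142 F17579) (tt N6399 (iv3 F17570)) (tt N11230 (iv4 F27363)) (tt N12924 D19482) (tt N6256 F17580) (tt N6442 F17581))
theorem Q6258 : ∀ i, i < 6258 → P i := stepQ 6257 Q6257 (allL N6257 (tt N12726 F30751) (tt N12925 D19483) (tt N12921 (iv2 F31156)) (tt N2920 F14273) (tt N12926 D19484) (tt N2911 (iv5 D9158)) (tt N6541 (iv6 F291608)) (tt N12927 D19485))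
theorem Q6259 : ∀ i, i < 6259 → P i := stepQ 6258 Q6258 (allL N6258 (tt N6142 (iv1 F17586)) (tt N6442 F17490) (tt N12922 (iv2 F31159)) (tt N2921 F14274) (tt N5622 F17491) (tt N12927 (iv5 F31181)) (tt N6328 (iv6 F14439)) (tt N2911 (iv7 D9159)))
theorem Q6260 : ∀ i, i < 6260 → P i := stepQ 6259 Q6259 (allL N6259 (tt N3193 F14278) (tt N3211 F14279) (tt N3208 F14275) (tt N6134 F14276) (tt N5858 F14280) (tt N2913 (iv5 D9160)) (tt N12928 D19486) (tt N3207 F14277))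
theorem Q6261 : ∀ i, i < 6261 → P i := stepQ 6260 Q6260 (allL N6260 (tt N3306 F14287) (tt N3304 (iv0 F14284)) (tt N5679 F14281) (tt N6135 F14282) (tt N3044 F14283) (tt N12929 D19487) (tt N2913 (iv6 D9161)) (tt N3203 (iv7 F16779)))
theorem Q6262 : ∀ i, i < 6262 → P i := stepQ 6261 Q6261 (allL N6261 (tt N5577 F14290) (tt N5815 F21736) (tt N12586 (iv2 F30206)) (tt N2916 F14289) (tt N12930 D19488) (tt N2915 (iv5 D9163)) (tt N12931 D19489) (tt N12605 (iv7 F30251)))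
theorem Q6263 : ∀ i, i < 6263 → P i := stepQ 6262 Q6262 (allL N6262 (tt N5591 F21533) (tt N12932 D19490) (tt N12923 (iv2 F31165)) (tt N2917 F14302) (tt N12923 (iv4 F31167)) (tt N12933 D19491) (tt N2915 (iv6 D9164)) (tt N12934 D19492))
theorem Q6264 : ∀ i, i < 6264 → P i := stepQ 6263 Q6263 (allL N6263 (tt N4129 (iv1 F14306)) (tt N5558 F14307) (tt N5550 F14303) (tt N2918 F14304) (tt N5550 F14305) (tt N12605 (iv5 F30250)) (tt N7030 (iv6 F17374)) (tt N2915 (iv7 D9165)))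
theorem Q6265 : ∀ i, i < 6265 → P i := stepQ 6264 Q6264 (allL N6264 (tt N12935 D19493) (tt N12936 D19494) (tt N12597 (iv2 F30235)) (tt N12931 (iv3 F31196)) (tt N5910 F14308) (tt N12937 D19495) (tt N2916 (iv6 D9166)) (tt N12938 D19496))
theorem Q6266 : ∀ i, i < 6266 → P i := stepQ 6265 Q6265 (allL N6265 (tt N6575 (iv1 F15483)) (tt N5688 (iv0 F14312)) (tt N2925 F14309) (tt N12605 (iv3 F30249)) (tt N5879 F14310) (tt N2918 F14311) (tt N12939 D19497) (tt N2916 (iv7 D9167)))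
theorem Q6267 : ∀ i, i < 6267 → P i := stepQ 6266 Q6266 (allL N6266 (tt N6482 (iv1 F17565)) (tt N2917 (iv0 D9168)) (tt N6843 F17594) (tt N6141 (iv3 F17567)) (tt N6397 F17568) (tt N12940 D19498) (tt N3229 F17027) (tt N6446 (iv7 F17569)))
theorem Q6268 : ∀ i, i < 6268 → P i := stepQ 6267 Q6267 (allL N6267 (tt N2917 (iv1 D9169)) (tt N6482 F17589) (tt N6446 (iv2 F17590)) (tt N4100 (iv3 F17597)) (tt N6445 F17591) (tt N12941 D19499) (tt N6267 F17592) (tt N6843 (iv7 F17593)))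
theorem Q6269 : ∀ i, i < 6269 → P i := stepQ 6268 Q6268 (allL N6268 (tt N12929 (iv1 F31189)) (tt N11840 (iv0 F28509)) (tt N12918 (iv2 F31147)) (tt N12933 (iv3 F31207)) (tt N12329 (iv4 F29655)) (tt N2917 (iv5 D9170)) (tt N12937 (iv6 F31215)) (tt N12942 D19500))
theorem Q6270 : ∀ i, i < 6270 → P i := stepQ 6269 Q6269 (allL N6269 (tt N6446 F17492) (tt N6843 F17566) (tt N6482 F17564) (tt N12934 (iv3 F31210)) (tt N2921 F14313) (tt N12942 (iv5 F31225)) (tt N6329 (iv6 F14443)) (tt N2917 (iv7 D9171)))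
theorem Q6271 : ∀ i, i < 6271 → P i := stepQ 6270 Q6270 (allL N6270 (tt N12943 D19503) (tt N12944 D19504) (tt N12919 (iv2 F31151)) (tt N12945 D19505) (tt N2920 (iv4 D9180)) (tt N12946 D19506) (tt N6542 (iv6 F290715)) (tt N12947 D19507))
theorem Q6272 : ∀ i, i < 6272 → P i := stepQ 6271 Q6271 (allL N6271 (tt N3192 (iv1 F14324)) (tt N2947 F14325) (tt N3307 F14322) (tt N12927 (iv3 F31179)) (tt N12947 (iv4 F31237)) (tt N2921 F14323) (tt N12900 (iv6 F291306)) (tt N2920 (iv7 D9181)))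
theorem Q6273 : ∀ i, i < 6273 → P i := stepQ 6272 Q6272 (allL N6272 (tt N3046 F14328) (tt N3083 (iv0 F16832)) (tt N2923 F14326) (tt N6708 (iv3 F16929)) (tt N2923 F14327) (tt N12948 D19509) (tt N2922 (iv6 D9182)) (tt N6372 (iv7 F14565)))
theorem Q6274 : ∀ i, i < 6274 → P i := stepQ 6273 Q6273 (allL N6273 (tt N12949 D19510) (tt N5867 (iv0 F293112)) (tt N12948 (iv2 F31239)) (tt N2927 F14329) (tt N12950 D19511) (tt N2923 (iv5 D9185)) (tt N6921 (iv6 F17227)) (tt N6621 (iv7 F292646)))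
theorem Q6275 : ∀ i, i < 6275 → P i := stepQ 6274 Q6274 (allL N6274 (tt N5602 F296275) (tt N12951 D19513) (tt N12939 (iv2 F31217)) (tt N12590 (iv3 F30222)) (tt N5913 F14330) (tt N12952 D19514) (tt N2925 (iv6 D9186)) (tt N12953 D19515))
theorem Q6276 : ∀ i, i < 6276 → P i := stepQ 6275 Q6275 (allL N6275 (tt N12941 F31224) (tt N12940 (iv0 F31221)) (tt N7031 (iv2 F17376)) (tt N12644 (iv3 F30310)) (tt N12954 D19516) (tt N2926 (iv5 D9188)) (tt N12952 (iv6 F31249)) (tt N7032 (iv7 F17630)))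
theorem Q6277 : ∀ i, i < 6277 → P i := stepQ 6276 Q6276 (allL N6276 (tt N12955 D19517) (tt N6837 F291536) (tt N6619 F291537) (tt N12956 D19519) (tt N2927 (iv4 D9190)) (tt N12957 D19520) (tt N6937 (iv6 F17238)) (tt N6622 F291538))
theorem Q6278 : ∀ i, i < 6278 → P i := stepQ 6277 Q6277 (allL N6277 (tt N12958 D19521) (tt N12959 D19522) (tt N12960 D19523) (tt N2928 (iv3 D9191)) (tt N6277 F14337) (tt N12961 D19524) (tt N12962 D19525) (tt N12911 (iv7 F31125)))
theorem Q6279 : ∀ i, i < 6279 → P i := stepQ 6278 Q6278 (allL N6278 (tt N6866 (iv1 F17153)) (tt N6869 (iv0 F17159)) (tt N2939 F14338) (tt N12961 (iv3 F31258)) (tt N11293 (iv4 F27539)) (tt N2928 (iv5 D9192)) (tt N12963 D19526) (tt N6946 (iv7 F17250)))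
theorem Q6280 : ∀ i, i < 6280 → P i := stepQ 6279 Q6279 (allL N6279 (tt N12964 D19527) (tt N12965 D19528) (tt N2940 F14339) (tt N12962 (iv3 F31259)) (tt N2929 F14340) (tt N12966 D19529) (tt N2928 (iv6 D9193)) (tt N12967 D19530))
theorem Q6281 : ∀ i, i < 6281 → P i := stepQ 6280 Q6280 (allL N6280 (tt N2944 (iv1 F14345)) (tt N2929 (iv0 D9194)) (tt N2942 F63510) (tt N12968 D19532) (tt N12969 D19533) (tt N12970 D19534) (tt N12971 D19535) (tt N2943 F63511))
theorem Q6282 : ∀ i, i < 6282 → P i := stepQ 6281 Q6281 (allL N6281 (tt N2929 (iv1 D9195)) (tt N2944 F14341) (tt N2943 (iv2 F63503)) (tt N12972 D19537) (tt N12973 D19538) (tt N12974 D19539) (tt N6547 F291172) (tt N2942 (iv7 F63509)))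
theorem Q6283 : ∀ i, i < 6283 → P i := stepQ 6282 Q6282 (allL N6282 (tt N2943 (iv1 F14346)) (tt N2942 F14347) (tt N2944 F14342) (tt N6282 F14343) (tt N12967 (iv4 F31265)) (tt N3248 F14344) (tt N12915 (iv6 F31136)) (tt N2929 (iv7 D9196)))
theorem Q6284 : ∀ i, i < 6284 → P i := stepQ 6283 Q6283 (allL N6283 (tt N3198 (iv1 F14352)) (tt N3177 F14351) (tt N2930 (iv2 D9197)) (tt N3220 F14348) (tt N6123 (iv4 F14353)) (tt N3150 F14349) (tt N12975 D19541) (tt N3195 F14350))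
theorem Q6285 : ∀ i, i < 6285 → P i := stepQ 6284 Q6284 (allL N6284 (tt N2938 F14356) (tt N6116 F14357) (tt N6123 F14354) (tt N12976 D19542) (tt N2930 (iv4 D9198)) (tt N6215 (iv5 F14358)) (tt N12731 (iv6 F293872)) (tt N3199 F14355))
theorem Q6286 : ∀ i, i < 6286 → P i := stepQ 6285 Q6285 (allL N6285 (tt N12671 F292877) (tt N12977 D19545) (tt N12975 (iv2 F31275)) (tt N2932 F14359) (tt N12731 (iv4 F293871)) (tt N3007 F292878) (tt N2930 (iv6 D9199)) (tt N6552 (iv7 F293208)))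
theorem Q6287 : ∀ i, i < 6287 → P i := stepQ 6286 Q6286 (allL N6286 (tt N2934 (iv1 F14361)) (tt N2931 (iv0 D9200)) (tt N3214 (iv2 F14362)) (tt N12978 D19548) (tt N3043 F14360) (tt N6902 (iv5 F17206)) (tt N12979 D19549) (tt N3213 (iv7 F14363)))
theorem Q6288 : ∀ i, i < 6288 → P i := stepQ 6287 Q6287 (allL N6287 (tt N2931 (iv1 D9201)) (tt N2934 F14364) (tt N3213 (iv2 F14367)) (tt N12980 D19550) (tt N5852 F14366) (tt N6903 (iv5 F17212)) (tt N12981 D19551) (tt N3214 F14365))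
theorem Q6289 : ∀ i, i < 6289 → P i := stepQ 6288 Q6288 (allL N6288 (tt N8687 F21783) (tt N12078 (iv0 F29169)) (tt N12093 F29200) (tt N2931 (iv3 D9202)) (tt N12976 (iv4 F31278)) (tt N8789 F22003) (tt N12982 D19552) (tt N3215 F14368))
theorem Q6290 : ∀ i, i < 6290 → P i := stepQ 6289 Q6289 (allL N6289 (tt N12983 D19553) (tt N12984 D19554) (tt N3232 F14369) (tt N8789 F22002) (tt N11285 (iv4 F27528)) (tt N2931 (iv5 D9203)) (tt N12985 D19555) (tt N3216 F14370))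
theorem Q6291 : ∀ i, i < 6291 → P i := stepQ 6290 Q6290 (allL N6290 (tt N12950 F292912) (tt N12986 D19557) (tt N3233 F14371) (tt N12982 (iv3 F31298)) (tt N2932 F14372) (tt N12987 D19558) (tt N2931 (iv6 D9204)) (tt N6553 (iv7 F293140)))
theorem Q6292 : ∀ i, i < 6292 → P i := stepQ 6291 Q6291 (allL N6291 (tt N2984 (iv1 F14385)) (tt N2975 F14384) (tt N2933 (iv2 D9209)) (tt N3195 F14381) (tt N6490 (iv4 F15071)) (tt N3098 F14382) (tt N12988 D19574) (tt N3220 F14383))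
theorem Q6293 : ∀ i, i < 6293 → P i := stepQ 6292 Q6292 (allL N6292 (tt N2985 F14387) (tt N2977 F14388) (tt N6490 F15072) (tt N12989 D19575) (tt N2933 (iv4 D9210)) (tt N12990 D19576) (tt N12991 D19577) (tt N3222 F14386))
theorem Q6294 : ∀ i, i < 6294 → P i := stepQ 6293 Q6293 (allL N6293 (tt N12992 D19578) (tt N12993 D19579) (tt N12988 (iv2 F31333)) (tt N2935 F14389) (tt N12991 (iv4 F31342)) (tt N6293 F14390) (tt N2933 (iv6 D9211)) (tt N12994 D19580))
theorem Q6295 : ∀ i, i < 6295 → P i := stepQ 6294 Q6294 (allL N6294 (tt N12995 D19581) (tt N12996 D19582) (tt N12997 D19583) (tt N2934 (iv3 D9212)) (tt N12989 (iv4 F31336)) (tt N12998 D19584) (tt N12999 D19585) (tt N3231 F14391))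
theorem Q6296 : ∀ i, i < 6296 → P i := stepQ 6295 Q6295 (allL N6295 (tt N12984 (iv1 F31304)) (tt N12983 F31301) (tt N3216 F14392) (tt N12998 (iv3 F31359)) (tt N11282 (iv4 F27519)) (tt N2934 (iv5 D9213)) (tt N13000 D19586) (tt N3232 F14393))
theorem Q6297 : ∀ i, i < 6297 → P i := stepQ 6296 Q6296 (allL N6296 (tt N13001 D19587) (tt N13002 D19588) (tt N3217 F14394) (tt N12999 (iv3 F31361)) (tt N2935 F14395) (tt N13003 D19589) (tt N2934 (iv6 D9214)) (tt N13004 D19590))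
theorem Q6298 : ∀ i, i < 6298 → P i := stepQ 6297 Q6297 (allL N6297 (tt N2935 (iv1 D9216)) (tt N3219 F14396) (tt N3143 F65718) (tt N6297 F65747) (tt N13005 D19597) (tt N6911 (iv5 F17216)) (tt N13006 D19598) (tt N3218 (iv7 F35517)))
theorem Q6299 : ∀ i, i < 6299 → P i := stepQ 6298 Q6298 (allL N6298 (tt N3143 F65724) (tt N3218 F14402) (tt N3219 F14397) (tt N12994 (iv3 F31343)) (tt N13004 (iv4 F31366)) (tt N6298 F14398) (tt N3011 (iv6 F291846)) (tt N2935 (iv7 D9217)))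
theorem Q6300 : ∀ i, i < 6300 → P i := stepQ 6299 Q6299 (allL N6299 (tt N13007 D19599) (tt N13008 D19600) (tt N13009 D19601) (tt N2936 (iv3 D9218)) (tt N13010 D19602) (tt N13011 D19603) (tt N13012 D19604) (tt N12113 (iv7 F29318)))
theorem Q6301 : ∀ i, i < 6301 → P i := stepQ 6300 Q6300 (allL N6300 (tt N3244 F14405) (tt N3285 F14406) (tt N3282 F14403) (tt N13011 (iv3 F31375)) (tt N11277 (iv4 F27505)) (tt N2936 (iv5 D9219)) (tt N13013 D19605) (tt N3281 F14404))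
theorem Q6302 : ∀ i, i < 6302 → P i := stepQ 6301 Q6301 (allL N6301 (tt N6515 F292941) (tt N6558 (iv0 F293305)) (tt N6555 (iv2 F293712)) (tt N13012 (iv3 F31377)) (tt N6443 (iv4 F293251)) (tt N13014 D19608) (tt N2936 (iv6 D9220)) (tt N6554 (iv7 F293205)))
theorem Q6303 : ∀ i, i < 6303 → P i := stepQ 6302 Q6302 (allL N6302 (tt N13015 D19610) (tt N13016 D19611) (tt N13017 D19612) (tt N2937 (iv3 D9221)) (tt N6166 F14407) (tt N13018 D19613) (tt N13019 D19614) (tt N12138 (iv7 F29361)))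
theorem Q6304 : ∀ i, i < 6304 → P i := stepQ 6303 Q6303 (allL N6303 (tt N3285 F14410) (tt N3244 F14411) (tt N3281 F14408) (tt N13018 (iv3 F31382)) (tt N11272 (iv4 F27482)) (tt N2937 (iv5 D9222)) (tt N13020 D19615) (tt N3282 F14409))
theorem Q6305 : ∀ i, i < 6305 → P i := stepQ 6304 Q6304 (allL N6304 (tt N6688 (iv1 F66224)) (tt N13005 (iv0 F66225)) (tt N12114 (iv2 F29319)) (tt N13019 (iv3 F31385)) (tt N6159 F14412) (tt N13021 D19618) (tt N2937 (iv6 D9223)) (tt N13022 D19619))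
theorem Q6306 : ∀ i, i < 6306 → P i := stepQ 6305 Q6305 (allL N6305 (tt N6116 (iv1 F14415)) (tt N2938 (iv0 D9224)) (tt N3199 (iv2 F14414)) (tt N13023 D19620) (tt N3195 F14413) (tt N6214 (iv5 F14417)) (tt N13024 D19621) (tt N6123 F14416))
theorem Q6307 : ∀ i, i < 6307 → P i := stepQ 6306 Q6306 (allL N6306 (tt N3199 (iv1 F14421)) (tt N6123 F14420) (tt N2938 (iv2 D9225)) (tt N12960 (iv3 F31254)) (tt N2948 F14418) (tt N12839 (iv5 F30976)) (tt N13025 D19622) (tt N6116 F14419))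
theorem Q6308 : ∀ i, i < 6308 → P i := stepQ 6307 Q6307 (allL N6307 (tt N6961 (iv1 F17261)) (tt N6889 (iv0 F17188)) (tt N12839 F30978) (tt N2939 F14422) (tt N13026 D19623) (tt N2938 (iv5 D9226)) (tt N13027 D19624) (tt N6124 F14423))
theorem Q6309 : ∀ i, i < 6309 → P i := stepQ 6308 Q6308 (allL N6308 (tt N13028 D19625) (tt N13029 D19626) (tt N13025 (iv2 F31393)) (tt N2940 F14424) (tt N2949 F14425) (tt N13030 D19627) (tt N2938 (iv6 D9227)) (tt N13031 D19628))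
theorem Q6310 : ∀ i, i < 6310 → P i := stepQ 6309 Q6309 (allL N6309 (tt N5912 F14426) (tt N5909 F14427) (tt N11293 (iv2 F27538)) (tt N13032 D19629) (tt N2939 (iv4 D9228)) (tt N11244 (iv5 F27394)) (tt N13033 D19630) (tt N11265 (iv7 F27461)))
theorem Q6311 : ∀ i, i < 6311 → P i := stepQ 6310 Q6310 (allL N6310 (tt N13034 D19631) (tt N13035 D19632) (tt N12963 (iv2 F31261)) (tt N13027 (iv3 F31398)) (tt N13033 (iv4 F31403)) (tt N13036 D19633) (tt N2939 (iv6 D9229)) (tt N13037 D19634))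
theorem Q6312 : ∀ i, i < 6312 → P i := stepQ 6311 Q6311 (allL N6311 (tt N6869 (iv1 F17160)) (tt N6866 (iv0 F17152)) (tt N6946 F17248) (tt N6124 F14428) (tt N11265 (iv4 F27462)) (tt N2941 F14429) (tt N13038 D19635) (tt N2939 (iv7 D9230)))
theorem Q6313 : ∀ i, i < 6313 → P i := stepQ 6312 Q6312 (allL N6312 (tt N12967 (iv1 F31269)) (tt N2940 (iv0 D9231)) (tt N12964 (iv2 F63482)) (tt N13039 D19637) (tt N13040 D19638) (tt N13041 D19639) (tt N13042 D19640) (tt N12965 (iv7 F63487)))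
theorem Q6314 : ∀ i, i < 6314 → P i := stepQ 6313 Q6313 (allL N6313 (tt N2940 (iv1 D9232)) (tt N12967 F31267) (tt N12965 (iv2 F63486)) (tt N13043 D19642) (tt N13044 D19643) (tt N13045 D19644) (tt N13046 D19645) (tt N12964 (iv7 F63483)))
theorem Q6315 : ∀ i, i < 6315 → P i := stepQ 6314 Q6314 (allL N6314 (tt N13047 D19646) (tt N13048 D19647) (tt N12966 (iv2 F31263)) (tt N13030 (iv3 F31399)) (tt N13049 D19648) (tt N2940 (iv5 D9233)) (tt N13036 (iv6 F31404)) (tt N13050 D19649))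
theorem Q6316 : ∀ i, i < 6316 → P i := stepQ 6315 Q6315 (allL N6315 (tt N12965 (iv1 F31262)) (tt N12964 F31266) (tt N12967 (iv2 F31264)) (tt N13031 (iv3 F31400)) (tt N2944 F14430) (tt N13050 (iv5 F31409)) (tt N13051 D19650) (tt N2940 (iv7 D9234)))
theorem Q6317 : ∀ i, i < 6317 → P i := stepQ 6316 Q6316 (allL N6316 (tt N13052 D19651) (tt N13053 D19652) (tt N12912 (iv2 F31126)) (tt N6125 F14431) (tt N2945 F14432) (tt N13054 D19653) (tt N2941 (iv6 D9235)) (tt N13051 (iv7 F31412)))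
theorem Q6318 : ∀ i, i < 6318 → P i := stepQ 6317 Q6317 (allL N6317 (tt N13055 D19660) (tt N12920 (iv0 F63105)) (tt N13056 D19662) (tt N2942 (iv3 D9237)) (tt N13057 D19663) (tt N13058 D19664) (tt N13059 D19665) (tt N12972 (iv7 F63502)))
theorem Q6319 : ∀ i, i < 6319 → P i := stepQ 6318 Q6318 (allL N6318 (tt N13060 D19667) (tt N12981 (iv0 F35659)) (tt N12969 (iv2 F63514)) (tt N13061 D19669) (tt N2942 (iv4 D9238)) (tt N13062 D19670) (tt N13063 D19671) (tt N12973 (iv7 F63505)))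
theorem Q6320 : ∀ i, i < 6320 → P i := stepQ 6319 Q6319 (allL N6319 (tt N13064 D19673) (tt N6559 (iv0 F291864)) (tt N12970 (iv2 F63516)) (tt N13058 (iv3 F31425)) (tt N13065 D19675) (tt N2942 (iv5 D9239)) (tt N13066 D19676) (tt N12974 (iv7 F63507)))
theorem Q6321 : ∀ i, i < 6321 → P i := stepQ 6320 Q6320 (allL N6320 (tt N13006 (iv1 F35515)) (tt N13067 D19679) (tt N12971 (iv2 F63518)) (tt N13059 (iv3 F31426)) (tt N13063 (iv4 F31429)) (tt N13068 D19680) (tt N2942 (iv6 D9240)) (tt N13069 D19681))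
theorem Q6322 : ∀ i, i < 6322 → P i := stepQ 6321 Q6321 (allL N6321 (tt N6489 F63141) (tt N13070 D19684) (tt N13071 D19685) (tt N2943 (iv3 D9242)) (tt N13072 D19686) (tt N13073 D19687) (tt N13074 D19688) (tt N12968 (iv7 F63513)))
theorem Q6323 : ∀ i, i < 6323 → P i := stepQ 6322 Q6322 (allL N6322 (tt N12981 (iv1 F35660)) (tt N13060 F31432) (tt N12973 (iv2 F63504)) (tt N13075 D19689) (tt N2943 (iv4 D9243)) (tt N13076 D19690) (tt N13077 D19691) (tt N12969 (iv7 F63515)))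
theorem Q6324 : ∀ i, i < 6324 → P i := stepQ 6323 Q6323 (allL N6323 (tt N6559 (iv1 F291865)) (tt N13064 F31438) (tt N12974 (iv2 F63506)) (tt N13073 (iv3 F31442)) (tt N13078 D19692) (tt N2943 (iv5 D9244)) (tt N12913 (iv6 F31128)) (tt N12970 (iv7 F63517)))
theorem Q6325 : ∀ i, i < 6325 → P i := stepQ 6324 Q6324 (allL N6324 (tt N6550 F291082) (tt N6513 F291083) (tt N6547 F291084) (tt N13074 (iv3 F31443)) (tt N13077 (iv4 F31444)) (tt N13079 D19695) (tt N2943 (iv6 D9245)) (tt N6548 F291085))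
theorem Q6326 : ∀ i, i < 6326 → P i := stepQ 6325 Q6325 (allL N6325 (tt N12914 (iv1 F31130)) (tt N12913 (iv0 F31129)) (tt N12915 (iv2 F31134)) (tt N2961 F14435) (tt N13051 (iv4 F31411)) (tt N3347 F291051) (tt N2944 (iv6 D9246)) (tt N2945 F14436))
theorem Q6327 : ∀ i, i < 6327 → P i := stepQ 6326 Q6326 (allL N6326 (tt N12915 (iv1 F31138)) (tt N2945 (iv0 D9247)) (tt N12913 (iv2 F63538)) (tt N13080 D19699) (tt N13081 D19700) (tt N13082 D19701) (tt N12974 (iv6 F31274)) (tt N12914 (iv7 F63542)))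
theorem Q6328 : ∀ i, i < 6328 → P i := stepQ 6327 Q6327 (allL N6327 (tt N2945 (iv1 D9248)) (tt N12915 F31137) (tt N12914 (iv2 F63541)) (tt N13083 D19703) (tt N13084 D19704) (tt N6600 (iv5 F290813)) (tt N13085 D19706) (tt N12913 (iv7 F63539)))
theorem Q6329 : ∀ i, i < 6329 → P i := stepQ 6328 Q6328 (allL N6328 (tt N3152 F16934) (tt N6370 (iv0 F14562)) (tt N11880 (iv2 F28560)) (tt N2946 (iv3 D9250)) (tt N6092 F14441) (tt N12771 F292652) (tt N6258 F14439) (tt N3303 F14440))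
theorem Q6330 : ∀ i, i < 6330 → P i := stepQ 6329 Q6329 (allL N6329 (tt N3203 F16822) (tt N5679 F14446) (tt N3306 F14442) (tt N11902 F28630) (tt N2946 (iv4 D9251)) (tt N13086 D19711) (tt N6269 F14443) (tt N3304 F14444))
theorem Q6331 : ∀ i, i < 6331 → P i := stepQ 6330 Q6330 (allL N6330 (tt N3102 (iv1 F291874)) (tt N3033 F17506) (tt N3108 (iv2 F291654)) (tt N12771 (iv3 F292087)) (tt N13087 D19712) (tt N2946 (iv5 D9252)) (tt N13088 D19713) (tt N3107 (iv7 F291638)))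
theorem Q6332 : ∀ i, i < 6332 → P i := stepQ 6331 Q6331 (allL N6331 (tt N13089 D19714) (tt N13090 D19715) (tt N12916 (iv2 F31139)) (tt N12908 (iv3 F291748)) (tt N2947 (iv4 D9253)) (tt N13091 D19717) (tt N7113 (iv6 F291507)) (tt N3308 F14451))
theorem Q6333 : ∀ i, i < 6333 → P i := stepQ 6332 Q6332 (allL N6332 (tt N13092 D19718) (tt N13093 D19719) (tt N2949 F14452) (tt N6332 F14453) (tt N13025 (iv4 F31394)) (tt N6717 F292133) (tt N2948 (iv6 D9254)) (tt N13094 D19721))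
theorem Q6334 : ∀ i, i < 6334 → P i := stepQ 6333 Q6333 (allL N6333 (tt N13094 (iv1 F31486)) (tt N2949 (iv0 D9255)) (tt N13092 (iv2 F63461)) (tt N13095 D19723) (tt N13096 D19724) (tt N13097 D19725) (tt N13098 D19726) (tt N13093 (iv7 F63465)))
theorem Q6335 : ∀ i, i < 6335 → P i := stepQ 6334 Q6334 (allL N6334 (tt N2949 (iv1 D9256)) (tt N13094 F31485) (tt N13093 (iv2 F63464)) (tt N13099 D19728) (tt N13100 D19729) (tt N6687 (iv5 F291362)) (tt N13101 D19731) (tt N13092 (iv7 F63462)))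
theorem Q6336 : ∀ i, i < 6336 → P i := stepQ 6335 Q6335 (allL N6335 (tt N13093 (iv1 F31478)) (tt N13092 (iv0 F31477)) (tt N13094 (iv2 F31482)) (tt N2952 F14456) (tt N13031 (iv4 F31401)) (tt N3357 F291217) (tt N6128 F14457) (tt N2949 (iv7 D9258)))
theorem Q6337 : ∀ i, i < 6337 → P i := stepQ 6336 Q6336 (allL N6336 (tt N6380 (iv1 F35666)) (tt N3048 (iv0 F35667)) (tt N6378 (iv2 F35781)) (tt N2950 (iv3 D9260)) (tt N13102 D19739) (tt N13067 (iv5 F290670)) (tt N12709 F30703) (tt N6338 (iv7 F30689)))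
theorem Q6338 : ∀ i, i < 6338 → P i := stepQ 6337 Q6337 (allL N6337 (tt N2956 (iv1 F291108)) (tt N6347 (iv0 F291105)) (tt N6337 F30683) (tt N13067 F290853) (tt N6565 (iv4 F291349)) (tt N2950 (iv5 D9262)) (tt N6461 F14782) (tt N3144 F290854))
theorem Q6339 : ∀ i, i < 6339 → P i := stepQ 6338 Q6338 (allL N6338 (tt N2978 (iv1 F35783)) (tt N6507 (iv0 F35782)) (tt N6506 (iv2 F35668)) (tt N2951 (iv3 D9264)) (tt N13103 D19745) (tt N6692 F290660) (tt N7065 (iv6 F290846)) (tt N6336 F30689))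
theorem Q6340 : ∀ i, i < 6340 → P i := stepQ 6339 Q6339 (allL N6339 (tt N6349 (iv1 F16110)) (tt N2953 (iv0 D9278)) (tt N6348 (iv2 F35866)) (tt N13070 (iv3 F35867)) (tt N13104 D19760) (tt N3352 (iv5 F35868)) (tt N6753 (iv6 F63227)) (tt N3129 F63186))
theorem Q6341 : ∀ i, i < 6341 → P i := stepQ 6340 Q6340 (allL N6340 (tt N6348 (iv1 F16113)) (tt N3129 F63184) (tt N2953 (iv2 D9280)) (tt N6340 F16117) (tt N13105 D19768) (tt N13106 D19769) (tt N13107 D19770) (tt N6349 (iv7 F16108)))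
theorem Q6342 : ∀ i, i < 6342 → P i := stepQ 6341 Q6341 (allL N6341 (tt N13108 D19771) (tt N6763 (iv0 F35862)) (tt N13105 (iv2 F31543)) (tt N13109 D19773) (tt N2953 (iv4 D9281)) (tt N13110 D19774) (tt N13111 D19775) (tt N6350 (iv7 F16109)))
theorem Q6343 : ∀ i, i < 6343 → P i := stepQ 6342 Q6342 (allL N6342 (tt N13112 D19776) (tt N6776 (iv0 F63234)) (tt N13106 (iv2 F31544)) (tt N2955 F14476) (tt N13113 D19778) (tt N2953 (iv5 D9282)) (tt N6465 (iv6 F293304)) (tt N6351 (iv7 F16107)))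
theorem Q6344 : ∀ i, i < 6344 → P i := stepQ 6343 Q6343 (allL N6343 (tt N13114 D19780) (tt N13115 D19781) (tt N13107 (iv2 F31546)) (tt N2956 F14477) (tt N13111 (iv4 F31549)) (tt N6466 F291731) (tt N2953 (iv6 D9283)) (tt N13116 D19782))
theorem Q6345 : ∀ i, i < 6345 → P i := stepQ 6344 Q6344 (allL N6344 (tt N6753 F63243) (tt N3132 F63244) (tt N6751 (iv2 F63264)) (tt N2954 (iv3 D9287)) (tt N13109 (iv4 F31548)) (tt N13117 D19786) (tt N6351 F16074) (tt N6353 F16075))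
theorem Q6346 : ∀ i, i < 6346 → P i := stepQ 6345 Q6345 (allL N6345 (tt N6131 F292200) (tt N6605 F292201) (tt N6345 F16076) (tt N13117 (iv3 F31554)) (tt N6346 F292202) (tt N2954 (iv5 D9288)) (tt N6354 F16077) (tt N3097 F292203))
theorem Q6347 : ∀ i, i < 6347 → P i := stepQ 6346 Q6346 (allL N6346 (tt N2959 (iv1 F14489)) (tt N2955 (iv0 D9291)) (tt N6346 F14855) (tt N13118 D19788) (tt N6345 (iv4 F292202)) (tt N3333 F14484) (tt N3077 (iv6 F292947)) (tt N3079 (iv7 F292953)))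
theorem Q6348 : ∀ i, i < 6348 → P i := stepQ 6347 Q6347 (allL N6347 (tt N6337 F291105) (tt N3144 F16080) (tt N6347 F16081) (tt N13116 (iv3 F31551)) (tt N2955 (iv4 D9293)) (tt N3363 F16082) (tt N3075 (iv6 F291727)) (tt N2956 F15425))
theorem Q6349 : ∀ i, i < 6349 → P i := stepQ 6348 Q6348 (allL N6348 (tt N2957 (iv1 D9301)) (tt N6340 F16113) (tt N6339 F35866) (tt N13055 (iv3 F61487)) (tt N13119 D19797) (tt N3358 (iv5 F35838)) (tt N6665 (iv6 F63204)) (tt N3179 F63155))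
theorem Q6350 : ∀ i, i < 6350 → P i := stepQ 6349 Q6349 (allL N6349 (tt N3179 F63154) (tt N6339 F16110) (tt N2957 (iv2 D9302)) (tt N6349 F16118) (tt N13120 D19800) (tt N13121 D19801) (tt N13122 D19802) (tt N6340 F16108))
theorem Q6351 : ∀ i, i < 6351 → P i := stepQ 6350 Q6350 (allL N6350 (tt N6668 (iv1 F35816)) (tt N13123 D19804) (tt N13120 (iv2 F31562)) (tt N13124 D19805) (tt N2957 (iv4 D9303)) (tt N13125 D19806) (tt N13126 D19807) (tt N6341 F16109))
theorem Q6352 : ∀ i, i < 6352 → P i := stepQ 6351 Q6351 (allL N6351 (tt N13127 D19808) (tt N13128 D19809) (tt N13121 (iv2 F31566)) (tt N2959 F14491) (tt N13129 D19810) (tt N2957 (iv5 D9304)) (tt N6344 (iv6 F16074)) (tt N6342 F16107))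
theorem Q6353 : ∀ i, i < 6353 → P i := stepQ 6352 Q6352 (allL N6352 (tt N13130 D19811) (tt N6206 (iv0 F291820)) (tt N13122 (iv2 F31572)) (tt N2960 F14492) (tt N13126 (iv4 F31579)) (tt N13131 D19813) (tt N2957 (iv6 D9305)) (tt N6566 (iv7 F292244)))
theorem Q6354 : ∀ i, i < 6354 → P i := stepQ 6353 Q6353 (allL N6353 (tt N3176 (iv1 F63246)) (tt N6665 F63239) (tt N6664 F63259) (tt N2958 (iv3 D9306)) (tt N13124 (iv4 F31576)) (tt N6604 (iv5 F290895)) (tt N6460 (iv6 F290896)) (tt N6344 (iv7 F16075)))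
theorem Q6355 : ∀ i, i < 6355 → P i := stepQ 6354 Q6354 (allL N6354 (tt N3320 F14505) (tt N3319 (iv0 F14496)) (tt N6354 F16106) (tt N13131 (iv3 F31585)) (tt N3077 (iv4 F292946)) (tt N2960 (iv5 D9312)) (tt N6345 (iv6 F16077)) (tt N3076 (iv7 F292097)))
theorem Q6356 : ∀ i, i < 6356 → P i := stepQ 6355 Q6355 (allL N6355 (tt N6642 (iv1 F15961)) (tt N6730 (iv0 F16316)) (tt N6113 F14515) (tt N8742 (iv3 F21927)) (tt N12591 (iv4 F30225)) (tt N2962 (iv5 D9328)) (tt N8856 (iv6 F296093)) (tt N6109 F14516))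
theorem Q6357 : ∀ i, i < 6357 → P i := stepQ 6356 Q6356 (allL N6356 (tt N6439 F30731) (tt N6398 F30732) (tt N6365 (iv2 F14547)) (tt N2965 F14517) (tt N12724 (iv4 F30741)) (tt N13132 D19832) (tt N2963 (iv6 D9329)) (tt N6438 (iv7 F27368)))
theorem Q6358 : ∀ i, i < 6358 → P i := stepQ 6357 Q6357 (allL N6357 (tt N12773 F30877) (tt N12717 F30730) (tt N6110 F14518) (tt N4061 F14519) (tt N2965 F14520) (tt N13133 D19833) (tt N2964 (iv6 D9330)) (tt N6471 F17532))
theorem Q6359 : ∀ i, i < 6359 → P i := stepQ 6358 Q6358 (allL N6358 (tt N2969 F14524) (tt N6156 (iv0 F14525)) (tt N6111 F14522) (tt N13132 (iv3 F31627)) (tt N13134 D19834) (tt N2965 (iv5 D9332)) (tt N7069 (iv6 F291949)) (tt N6233 F14523))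
theorem Q6360 : ∀ i, i < 6360 → P i := stepQ 6359 Q6359 (allL N6359 (tt N6233 F14529) (tt N6111 (iv0 F14530)) (tt N2969 F14526) (tt N6359 F14527) (tt N13135 D19835) (tt N2967 (iv5 D9333)) (tt N6717 (iv6 F291902)) (tt N6156 F14528))
theorem Q6361 : ∀ i, i < 6361 → P i := stepQ 6360 Q6360 (allL N6360 (tt N6161 (iv1 F16939)) (tt N12574 F30172) (tt N6232 F14531) (tt N11598 (iv3 F28088)) (tt N2968 (iv4 D9334)) (tt N13136 D19836) (tt N6467 F17538) (tt N6230 F14532))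
theorem Q6362 : ∀ i, i < 6362 → P i := stepQ 6361 Q6361 (allL N6361 (tt N3162 (iv1 F292276)) (tt N3025 F17547) (tt N3185 (iv2 F292263)) (tt N6839 F292068) (tt N13137 D19837) (tt N2968 (iv5 D9335)) (tt N13127 F292069) (tt N3184 (iv7 F292551)))
theorem Q6363 : ∀ i, i < 6363 → P i := stepQ 6362 Q6362 (allL N6362 (tt N6156 (iv1 F14537)) (tt N2969 (iv0 D9336)) (tt N6233 (iv2 F14536)) (tt N13138 D19839) (tt N13139 D19840) (tt N3020 F17526) (tt N7123 F293077) (tt N6111 F14538))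
theorem Q6364 : ∀ i, i < 6364 → P i := stepQ 6363 Q6363 (allL N6363 (tt N13140 D19842) (tt N12926 (iv0 F31176)) (tt N13135 (iv2 F31635)) (tt N7133 (iv3 F291914)) (tt N2969 (iv4 D9337)) (tt N13141 D19844) (tt N7131 F291221) (tt N6234 F14539))
theorem Q6365 : ∀ i, i < 6365 → P i := stepQ 6364 Q6364 (allL N6364 (tt N2993 F14545) (tt N6171 F14546) (tt N3339 F14542) (tt N3270 F14543) (tt N6634 (iv4 F15949)) (tt N2970 (iv5 D9339)) (tt N13142 D19848) (tt N6199 F14544))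
theorem Q6366 : ∀ i, i < 6366 → P i := stepQ 6365 Q6365 (allL N6365 (tt N3007 F17524) (tt N13143 D19849) (tt N6356 F14547) (tt N5379 F14548) (tt N11551 (iv4 F28029)) (tt N13144 D19850) (tt N2970 (iv6 D9340)) (tt N13145 D19851))
theorem Q6367 : ∀ i, i < 6367 → P i := stepQ 6366 Q6366 (allL N6366 (tt N6568 (iv1 F16943)) (tt N6112 (iv0 F14551)) (tt N2973 F14549) (tt N6497 (iv3 F15125)) (tt N5356 F14550) (tt N13146 D19852) (tt N2971 (iv6 D9341)) (tt N5786 (iv7 F16942)))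
theorem Q6368 : ∀ i, i < 6368 → P i := stepQ 6367 Q6367 (allL N6367 (tt N13147 D19853) (tt N13148 D19854) (tt N12766 (iv2 F30848)) (tt N2978 F14552) (tt N6671 (iv4 F16010)) (tt N13149 D19855) (tt N2972 (iv6 D9342)) (tt N13150 D19856))
theorem Q6369 : ∀ i, i < 6369 → P i := stepQ 6368 Q6368 (allL N6368 (tt N2973 (iv1 D9344)) (tt N5786 F16927) (tt N6112 F14555) (tt N5941 (iv3 F14553)) (tt N6711 (iv4 F16935)) (tt N13151 D19857) (tt N3034 (iv6 F14554)) (tt N6568 (iv7 F16920)))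
theorem Q6370 : ∀ i, i < 6370 → P i := stepQ 6369 Q6369 (allL N6369 (tt N12887 F31078) (tt N13144 (iv0 F31675)) (tt N13146 (iv2 F31682)) (tt N2980 F14556) (tt N13152 D19858) (tt N2973 (iv5 D9345)) (tt N13149 (iv6 F31687)) (tt N6569 F16841))
theorem Q6371 : ∀ i, i < 6371 → P i := stepQ 6370 Q6370 (allL N6370 (tt N6328 F14562) (tt N6708 (iv0 F16933)) (tt N6151 F14560) (tt N2976 F14561) (tt N12574 (iv4 F30169)) (tt N13153 D19859) (tt N2974 (iv6 D9347)) (tt N6571 F16937))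
theorem Q6372 : ∀ i, i < 6372 → P i := stepQ 6371 Q6371 (allL N6371 (tt N13154 D19860) (tt N13083 (iv0 F63702)) (tt N6501 (iv2 F15134)) (tt N6790 (iv3 F16635)) (tt N6611 (iv4 F15684)) (tt N13155 D19862) (tt N2975 (iv6 D9348)) (tt N13156 D19863))
theorem Q6373 : ∀ i, i < 6373 → P i := stepQ 6372 Q6372 (allL N6372 (tt N3068 (iv1 F14567)) (tt N2976 (iv0 D9349)) (tt N3305 (iv2 F14564)) (tt N11880 (iv3 F28561)) (tt N3305 F14563) (tt N12139 (iv5 F293236)) (tt N6441 F17574) (tt N6272 F14565))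
theorem Q6374 : ∀ i, i < 6374 → P i := stepQ 6373 Q6373 (allL N6373 (tt N13157 D19865) (tt N12917 (iv0 F31145)) (tt N6502 (iv2 F15136)) (tt N13153 (iv3 F31697)) (tt N6453 F16968) (tt N2976 (iv5 D9350)) (tt N13155 (iv6 F31701)) (tt N6573 (iv7 F16961)))
theorem Q6375 : ∀ i, i < 6375 → P i := stepQ 6374 Q6374 (allL N6374 (tt N2977 (iv1 D9352)) (tt N2985 F14574) (tt N3222 (iv2 F14576)) (tt N13158 D19866) (tt N3220 F14575) (tt N13159 D19867) (tt N13160 D19868) (tt N6490 (iv7 F15070)))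
theorem Q6376 : ∀ i, i < 6376 → P i := stepQ 6375 Q6375 (allL N6375 (tt N13161 D19869) (tt N13162 D19870) (tt N8028 (iv2 F26937)) (tt N2977 (iv3 D9353)) (tt N6669 (iv4 F16008)) (tt N7166 F26933) (tt N13163 D19871) (tt N6491 (iv7 F15073)))
theorem Q6377 : ∀ i, i < 6377 → P i := stepQ 6376 Q6376 (allL N6376 (tt N6917 (iv1 F17224)) (tt N13164 D19872) (tt N6504 (iv2 F15139)) (tt N7166 (iv3 F26931)) (tt N6421 F14666) (tt N2977 (iv5 D9354)) (tt N7164 F26934) (tt N6492 (iv7 F15075)))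
theorem Q6378 : ∀ i, i < 6378 → P i := stepQ 6377 Q6377 (allL N6377 (tt N13165 D19873) (tt N13166 D19874) (tt N6505 (iv2 F15141)) (tt N13163 (iv3 F31716)) (tt N2978 F14577) (tt N13167 D19875) (tt N2977 (iv6 D9355)) (tt N13168 D19876))
theorem Q6379 : ∀ i, i < 6379 → P i := stepQ 6378 Q6378 (allL N6378 (tt N6507 (iv1 F15150)) (tt N2978 (iv0 D9356)) (tt N6336 F35781) (tt N6378 F35696) (tt N13169 D19879) (tt N13170 D19880) (tt N13171 D19881) (tt N6506 (iv7 F35784)))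
theorem Q6380 : ∀ i, i < 6380 → P i := stepQ 6379 Q6379 (allL N6379 (tt N3191 (iv1 F290729)) (tt N3299 (iv0 F290724)) (tt N3301 (iv2 F290744)) (tt N13149 (iv3 F31686)) (tt N13172 D19889) (tt N2978 (iv5 D9358)) (tt N2980 F14578) (tt N3300 F290673))
theorem Q6381 : ∀ i, i < 6381 → P i := stepQ 6380 Q6380 (allL N6380 (tt N6506 (iv1 F15143)) (tt N6336 F35666) (tt N6507 (iv2 F15146)) (tt N13150 (iv3 F31688)) (tt N13168 (iv4 F31719)) (tt N3300 (iv5 F290604)) (tt N6495 (iv6 F15082)) (tt N2978 (iv7 D9359)))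
theorem Q6382 : ∀ i, i < 6382 → P i := stepQ 6381 Q6381 (allL N6381 (tt N3012 F16851) (tt N2980 (iv0 D9361)) (tt N3014 F16852) (tt N6381 F16350) (tt N13173 D19893) (tt N2992 F16853) (tt N7008 (iv6 F292193)) (tt N2991 F16854))
theorem Q6383 : ∀ i, i < 6383 → P i := stepQ 6382 Q6382 (allL N6382 (tt N13174 D19895) (tt N13175 D19896) (tt N6508 (iv2 F15153)) (tt N13176 D19897) (tt N2980 (iv4 D9363)) (tt N13177 D19898) (tt N13172 (iv6 F31723)) (tt N6574 F16855))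
theorem Q6384 : ∀ i, i < 6384 → P i := stepQ 6383 Q6383 (allL N6383 (tt N13040 (iv1 F35826)) (tt N13044 (iv0 F58698)) (tt N12112 (iv2 F29316)) (tt N2986 F14593) (tt N6817 (iv4 F16693)) (tt N6410 F17013) (tt N2983 (iv6 D9367)) (tt N13178 D19901))
theorem Q6385 : ∀ i, i < 6385 → P i := stepQ 6384 Q6384 (allL N6384 (tt N12968 (iv1 F63164)) (tt N13071 (iv0 F63530)) (tt N6489 (iv2 F15060)) (tt N3129 F14597) (tt N6613 (iv4 F15687)) (tt N6576 F17014) (tt N2984 (iv6 D9372)) (tt N13070 (iv7 F63168)))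
theorem Q6386 : ∀ i, i < 6386 → P i := stepQ 6385 Q6385 (allL N6385 (tt N13179 D19905) (tt N13158 (iv0 F31710)) (tt N13180 D19906) (tt N2985 (iv3 D9377)) (tt N6815 (iv4 F16692)) (tt N13181 D19907) (tt N13182 D19908) (tt N6503 (iv7 F15138)))
theorem Q6387 : ∀ i, i < 6387 → P i := stepQ 6386 Q6386 (allL N6386 (tt N13164 (iv1 F31717)) (tt N6917 (iv0 F17223)) (tt N6492 (iv2 F15074)) (tt N13181 (iv3 F31743)) (tt N6420 F14664) (tt N2985 (iv5 D9378)) (tt N13183 D19909) (tt N6504 (iv7 F15140)))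
theorem Q6388 : ∀ i, i < 6388 → P i := stepQ 6387 Q6387 (allL N6387 (tt N13184 D19910) (tt N13072 (iv0 F35822)) (tt N6493 (iv2 F15076)) (tt N13182 (iv3 F31744)) (tt N2986 F14602) (tt N13185 D19912) (tt N2985 (iv6 D9379)) (tt N13186 D19913))
theorem Q6389 : ∀ i, i < 6389 → P i := stepQ 6388 Q6388 (allL N6388 (tt N2986 (iv1 D9381)) (tt N6495 F15084) (tt N6132 F35687) (tt N6388 F35691) (tt N13187 D19921) (tt N13171 (iv5 F31721)) (tt N13188 D19922) (tt N6494 F35688))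
theorem Q6390 : ∀ i, i < 6390 → P i := stepQ 6389 Q6389 (allL N6389 (tt N6132 F35662) (tt N6494 F15083) (tt N6495 (iv2 F15081)) (tt N13178 (iv3 F31741)) (tt N13186 (iv4 F31745)) (tt N6240 F35627) (tt N6507 (iv6 F15147)) (tt N2986 (iv7 D9383)))
theorem Q6391 : ∀ i, i < 6391 → P i := stepQ 6390 Q6390 (allL N6390 (tt N13189 D19923) (tt N13189 F31748) (tt N6509 (iv2 F15154)) (tt N2987 (iv3 D9397)) (tt N6390 F14613) (tt N13190 D19924) (tt N13191 D19925) (tt N6509 (iv7 F15156)))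
theorem Q6392 : ∀ i, i < 6392 → P i := stepQ 6391 Q6391 (allL N6391 (tt N6535 (iv1 F15224)) (tt N6534 F15220) (tt N3001 F14614) (tt N13190 (iv3 F31749)) (tt N3061 F14615) (tt N2987 (iv5 D9398)) (tt N13192 D19926) (tt N6422 (iv7 F14668)))
theorem Q6393 : ∀ i, i < 6393 → P i := stepQ 6392 Q6392 (allL N6392 (tt N13193 D19927) (tt N13194 D19928) (tt N3002 F14616) (tt N13191 (iv3 F31750)) (tt N2988 F14617) (tt N13195 D19929) (tt N2987 (iv6 D9399)) (tt N13196 D19930))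
theorem Q6394 : ∀ i, i < 6394 → P i := stepQ 6393 Q6393 (allL N6393 (tt N3006 (iv1 F14624)) (tt N2988 (iv0 D9400)) (tt N3003 (iv2 F35740)) (tt N12793 F66072) (tt N13197 D19933) (tt N13085 F290909) (tt N6599 F15537) (tt N3004 (iv7 F35746)))
theorem Q6395 : ∀ i, i < 6395 → P i := stepQ 6394 Q6394 (allL N6394 (tt N2988 (iv1 D9401)) (tt N3006 F14618) (tt N3004 F35751) (tt N13198 D19936) (tt N13199 D19937) (tt N13066 (iv5 F290769)) (tt N13068 F290639) (tt N3003 F35752))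
theorem Q6396 : ∀ i, i < 6396 → P i := stepQ 6395 Q6395 (allL N6395 (tt N3268 (iv1 F291879)) (tt N3240 (iv0 F291765)) (tt N3005 F14619) (tt N6395 F14620) (tt N13200 D19942) (tt N2988 (iv5 D9402)) (tt N2991 F14621) (tt N3266 (iv7 F291444)))
theorem Q6397 : ∀ i, i < 6397 → P i := stepQ 6396 Q6396 (allL N6396 (tt N3004 (iv1 F14625)) (tt N3003 F14626) (tt N3006 F14622) (tt N6396 F14623) (tt N13196 (iv4 F31757)) (tt N3266 (iv5 F291443)) (tt N6514 (iv6 F15165)) (tt N2988 (iv7 D9403)))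
theorem Q6398 : ∀ i, i < 6398 → P i := stepQ 6397 Q6397 (allL N6397 (tt N11256 (iv1 F27439)) (tt N6106 (iv0 F27370)) (tt N11254 F27425) (tt N2989 (iv3 D9405)) (tt N6266 (iv4 F17568)) (tt N3223 (iv5 F291985)) (tt N3111 F16857) (tt N3009 F14720))
theorem Q6399 : ∀ i, i < 6399 → P i := stepQ 6398 Q6398 (allL N6398 (tt N6356 (iv1 F30732)) (tt N13145 F31680) (tt N13143 (iv2 F31671)) (tt N2990 (iv3 D9409)) (tt N5360 F14630) (tt N6552 (iv5 F16955)) (tt N6398 F14715) (tt N3007 F14728))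
theorem Q6400 : ∀ i, i < 6400 → P i := stepQ 6399 Q6399 (allL N6399 (tt N6488 (iv1 F17578)) (tt N6481 (iv0 F17571)) (tt N3010 F14729) (tt N6256 F17570) (tt N2990 (iv4 D9410)) (tt N12949 (iv5 F31242)) (tt N6399 F14716) (tt N3008 F14730))
theorem Q6401 : ∀ i, i < 6401 → P i := stepQ 6400 Q6400 (allL N6400 (tt N13201 D19944) (tt N13202 D19945) (tt N3013 F14631) (tt N13203 D19946) (tt N2991 (iv4 D9414)) (tt N13204 D19947) (tt N13200 (iv6 F31769)) (tt N13173 (iv7 F31732)))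
theorem Q6402 : ∀ i, i < 6402 → P i := stepQ 6401 Q6401 (allL N6401 (tt N13205 D19948) (tt N13206 D19949) (tt N11997 (iv2 F29056)) (tt N2995 F14648) (tt N7076 (iv4 F17727)) (tt N13207 D19950) (tt N2993 (iv6 D9416)) (tt N13208 D19951))
theorem Q6403 : ∀ i, i < 6403 → P i := stepQ 6402 Q6402 (allL N6402 (tt N2994 (iv1 D9417)) (tt N2997 F14649) (tt N6517 F15176) (tt N12836 (iv3 F30971)) (tt N6487 (iv4 F15056)) (tt N13164 (iv5 F31718)) (tt N13209 D19952) (tt N6518 (iv7 F15179)))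
theorem Q6404 : ∀ i, i < 6404 → P i := stepQ 6403 Q6403 (allL N6403 (tt N11441 F27797) (tt N11444 (iv0 F31792)) (tt N13210 D19954) (tt N2994 (iv3 D9418)) (tt N7075 (iv4 F17724)) (tt N13211 D19955) (tt N13212 D19956) (tt N6519 (iv7 F15182)))
theorem Q6405 : ∀ i, i < 6405 → P i := stepQ 6404 Q6404 (allL N6404 (tt N6836 (iv1 F16712)) (tt N13213 D19957) (tt N6524 (iv2 F15197)) (tt N13211 (iv3 F31789)) (tt N6418 (iv4 F14661)) (tt N2994 (iv5 D9419)) (tt N13214 D19958) (tt N6520 (iv7 F15184)))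
theorem Q6406 : ∀ i, i < 6406 → P i := stepQ 6405 Q6405 (allL N6405 (tt N13215 D19959) (tt N13216 D19960) (tt N6525 (iv2 F15199)) (tt N13212 (iv3 F31793)) (tt N2995 F14650) (tt N13217 D19961) (tt N2994 (iv6 D9420)) (tt N13218 D19962))
theorem Q6407 : ∀ i, i < 6407 → P i := stepQ 6406 Q6406 (allL N6406 (tt N6527 (iv1 F15206)) (tt N2995 (iv0 D9421)) (tt N3347 F66485) (tt N6406 F66489) (tt N13219 D19965) (tt N12915 (iv5 F290746)) (tt N13220 D19967) (tt N6526 F65329))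
theorem Q6408 : ∀ i, i < 6408 → P i := stepQ 6407 Q6407 (allL N6407 (tt N13221 D19973) (tt N6914 F290874) (tt N6452 (iv2 F14757)) (tt N13207 (iv3 F31786)) (tt N13222 D19975) (tt N2995 (iv5 D9423)) (tt N3084 F14651) (tt N7025 F290875))
theorem Q6409 : ∀ i, i < 6409 → P i := stepQ 6408 Q6408 (allL N6408 (tt N6526 (iv1 F15201)) (tt N3347 F66483) (tt N6527 (iv2 F15202)) (tt N13208 (iv3 F31788)) (tt N13218 (iv4 F31799)) (tt N7025 F290873) (tt N6235 F35603) (tt N2995 (iv7 D9424)))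
theorem Q6410 : ∀ i, i < 6410 → P i := stepQ 6409 Q6409 (allL N6409 (tt N3236 F14654) (tt N3239 F14655) (tt N3253 F14652) (tt N13223 D19977) (tt N2996 (iv4 D9425)) (tt N12983 (iv5 F31299)) (tt N13224 D19978) (tt N3252 F14653))
theorem Q6411 : ∀ i, i < 6411 → P i := stepQ 6410 Q6410 (allL N6410 (tt N6984 F35827) (tt N6988 (iv0 F35828)) (tt N12734 (iv2 F30769)) (tt N2998 F14656) (tt N13224 (iv4 F31809)) (tt N6383 (iv5 F17013)) (tt N2996 (iv6 D9426)) (tt N12866 (iv7 F35623)))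
theorem Q6412 : ∀ i, i < 6412 → P i := stepQ 6411 Q6411 (allL N6411 (tt N13225 D19982) (tt N12836 (iv0 F30972)) (tt N13226 D19983) (tt N2997 (iv3 D9427)) (tt N13223 (iv4 F31806)) (tt N13227 D19984) (tt N13228 D19985) (tt N6523 (iv7 F15196)))
theorem Q6413 : ∀ i, i < 6413 → P i := stepQ 6412 Q6412 (allL N6412 (tt N13213 (iv1 F31794)) (tt N6836 (iv0 F16711)) (tt N6520 (iv2 F15183)) (tt N13227 (iv3 F31812)) (tt N6415 (iv4 F14659)) (tt N2997 (iv5 D9428)) (tt N13229 D19986) (tt N6524 (iv7 F15198)))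
theorem Q6414 : ∀ i, i < 6414 → P i := stepQ 6413 Q6413 (allL N6413 (tt N13230 D19987) (tt N7014 F35613) (tt N6521 (iv2 F15185)) (tt N13228 (iv3 F31817)) (tt N2998 F14657) (tt N13231 D19989) (tt N2997 (iv6 D9429)) (tt N12903 (iv7 F35626)))
theorem Q6415 : ∀ i, i < 6415 → P i := stepQ 6414 Q6414 (allL N6414 (tt N13232 D20001) (tt N13233 D20002) (tt N13234 D20003) (tt N2999 (iv3 D9434)) (tt N13235 D20004) (tt N13236 D20005) (tt N13237 D20006) (tt N6528 (iv7 F15207)))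
theorem Q6416 : ∀ i, i < 6416 → P i := stepQ 6415 Q6415 (allL N6415 (tt N6587 (iv1 F15533)) (tt N3091 F14660) (tt N6532 (iv2 F15214)) (tt N13236 (iv3 F31832)) (tt N6412 F14659) (tt N2999 (iv5 D9435)) (tt N13238 D20007) (tt N6529 (iv7 F15209)))
theorem Q6417 : ∀ i, i < 6417 → P i := stepQ 6416 Q6416 (allL N6416 (tt N13219 F66790) (tt N7113 F66791) (tt N6533 (iv2 F15218)) (tt N13237 (iv3 F31833)) (tt N6572 (iv4 F15469)) (tt N13239 D20010) (tt N2999 (iv6 D9436)) (tt N13240 D20011))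
theorem Q6418 : ∀ i, i < 6418 → P i := stepQ 6417 Q6417 (allL N6417 (tt N10597 F27051) (tt N13241 D20012) (tt N13242 D20013) (tt N3000 (iv3 D9437)) (tt N6702 (iv4 F16167)) (tt N13243 D20014) (tt N13244 D20015) (tt N6531 (iv7 F15213)))
theorem Q6419 : ∀ i, i < 6419 → P i := stepQ 6418 Q6418 (allL N6418 (tt N3091 F14662) (tt N6587 (iv0 F15532)) (tt N6529 (iv2 F15208)) (tt N13243 (iv3 F31841)) (tt N6404 F14661) (tt N3000 (iv5 D9438)) (tt N13245 D20016) (tt N6532 (iv7 F15216)))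
theorem Q6420 : ∀ i, i < 6420 → P i := stepQ 6419 Q6419 (allL N6419 (tt N6237 (iv1 F63159)) (tt N12904 (iv0 F63160)) (tt N6530 (iv2 F15212)) (tt N13244 (iv3 F31845)) (tt N6576 (iv4 F15491)) (tt N13246 D20019) (tt N3000 (iv6 D9439)) (tt N12906 (iv7 F63162)))
theorem Q6421 : ∀ i, i < 6421 → P i := stepQ 6420 Q6420 (allL N6420 (tt N6422 (iv1 F14671)) (tt N3001 (iv0 D9440)) (tt N6535 (iv2 F15228)) (tt N13247 D20021) (tt N6386 (iv4 F14664)) (tt N3103 F14663) (tt N13248 D20022) (tt N6534 (iv7 F15223)))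
theorem Q6422 : ∀ i, i < 6422 → P i := stepQ 6421 Q6421 (allL N6421 (tt N3001 (iv1 D9441)) (tt N6422 (iv0 F14670)) (tt N6534 (iv2 F15222)) (tt N5447 F26932) (tt N6376 (iv4 F14666)) (tt N3104 F14665) (tt N5445 (iv6 F26936)) (tt N6535 (iv7 F15225)))
theorem Q6423 : ∀ i, i < 6423 → P i := stepQ 6422 Q6422 (allL N6422 (tt N6421 F14670) (tt N6420 F14671) (tt N3061 F14667) (tt N13249 D20023) (tt N3001 (iv4 D9442)) (tt N3050 F14669) (tt N13250 D20024) (tt N6391 F14668))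
theorem Q6424 : ∀ i, i < 6424 → P i := stepQ 6423 Q6423 (allL N6423 (tt N13251 D20025) (tt N13252 D20026) (tt N13192 (iv2 F31752)) (tt N6536 (iv3 F15229)) (tt N13250 (iv4 F31864)) (tt N13253 D20027) (tt N3001 (iv6 D9443)) (tt N13254 D20028))
theorem Q6425 : ∀ i, i < 6425 → P i := stepQ 6424 Q6424 (allL N6424 (tt N13196 (iv1 F31761)) (tt N3002 (iv0 D9444)) (tt N13193 (iv2 F63401)) (tt N13255 D20030) (tt N13256 D20031) (tt N13257 D20032) (tt N13258 D20033) (tt N13194 (iv7 F63404)))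
theorem Q6426 : ∀ i, i < 6426 → P i := stepQ 6425 Q6425 (allL N6425 (tt N3002 (iv1 D9445)) (tt N13196 F31759) (tt N13194 (iv2 F63403)) (tt N13259 D20035) (tt N13260 D20036) (tt N13261 D20037) (tt N13262 D20038) (tt N13193 (iv7 F63402)))
theorem Q6427 : ∀ i, i < 6427 → P i := stepQ 6426 Q6426 (allL N6426 (tt N13263 D20039) (tt N13264 D20040) (tt N13195 (iv2 F31755)) (tt N6539 (iv3 F15230)) (tt N13265 D20041) (tt N3002 (iv5 D9446)) (tt N13253 (iv6 F31865)) (tt N13266 D20042))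
theorem Q6428 : ∀ i, i < 6428 → P i := stepQ 6427 Q6427 (allL N6427 (tt N13194 (iv1 F31754)) (tt N13193 F31758) (tt N13196 (iv2 F31756)) (tt N6540 (iv3 F15231)) (tt N3006 F14672) (tt N13266 (iv5 F31869)) (tt N6540 (iv6 F15233)) (tt N3002 (iv7 D9447)))
theorem Q6429 : ∀ i, i < 6429 → P i := stepQ 6428 Q6428 (allL N6428 (tt N13267 D20049) (tt N13142 (iv0 F66016)) (tt N13268 D20051) (tt N3003 (iv3 D9449)) (tt N13269 D20052) (tt N13270 D20053) (tt N13271 D20054) (tt N13198 (iv7 F35753)))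
theorem Q6430 : ∀ i, i < 6430 → P i := stepQ 6429 Q6429 (allL N6429 (tt N13272 D20056) (tt N13209 (iv0 F65637)) (tt N13197 (iv2 F35742)) (tt N13273 D20058) (tt N3003 (iv4 D9450)) (tt N13274 D20059) (tt N13275 D20060) (tt N13199 (iv7 F35755)))
theorem Q6431 : ∀ i, i < 6431 → P i := stepQ 6430 Q6430 (allL N6430 (tt N13276 D20062) (tt N6690 (iv0 F291356)) (tt N13085 F291157) (tt N13270 (iv3 F31880)) (tt N13277 D20064) (tt N3003 (iv5 D9451)) (tt N12914 F291158) (tt N13066 F291159))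
theorem Q6432 : ∀ i, i < 6432 → P i := stepQ 6431 Q6431 (allL N6431 (tt N12905 (iv1 F35608)) (tt N3367 F292488) (tt N6599 F35731) (tt N13271 (iv3 F31881)) (tt N13275 (iv4 F31884)) (tt N6581 F15520) (tt N3003 (iv6 D9452)) (tt N6595 F35732))
theorem Q6433 : ∀ i, i < 6433 → P i := stepQ 6432 Q6432 (allL N6432 (tt N6945 F66041) (tt N12795 (iv0 F66042)) (tt N12794 F66061) (tt N3004 (iv3 D9454)) (tt N13278 D20074) (tt N13279 D20075) (tt N13280 D20076) (tt N12793 F66062))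
theorem Q6434 : ∀ i, i < 6434 → P i := stepQ 6433 Q6433 (allL N6433 (tt N13209 F65638) (tt N13272 F31887) (tt N13199 (iv2 F35754)) (tt N13281 D20077) (tt N3004 (iv4 D9455)) (tt N13282 D20078) (tt N13283 D20079) (tt N13197 (iv7 F35743)))
theorem Q6435 : ∀ i, i < 6435 → P i := stepQ 6434 Q6434 (allL N6434 (tt N6690 (iv1 F291357)) (tt N13276 (iv0 F31890)) (tt N13066 F290907) (tt N13279 (iv3 F31896)) (tt N13284 D20080) (tt N3004 (iv5 D9456)) (tt N12970 (iv6 F291441)) (tt N13085 F290908))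
theorem Q6436 : ∀ i, i < 6436 → P i := stepQ 6435 Q6435 (allL N6435 (tt N3302 F290605) (tt N13220 (iv0 F35760)) (tt N13068 F290606) (tt N13280 (iv3 F31897)) (tt N13283 (iv4 F31898)) (tt N12971 (iv5 F290682)) (tt N3004 (iv6 D9457)) (tt N13285 D20085))
theorem Q6437 : ∀ i, i < 6437 → P i := stepQ 6436 Q6436 (allL N6436 (tt N3266 F292293) (tt N3005 (iv0 D9458)) (tt N3268 F292294) (tt N13286 D20087) (tt N13287 D20088) (tt N13288 D20089) (tt N3259 F292295) (tt N3240 F292296))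
theorem Q6438 : ∀ i, i < 6438 → P i := stepQ 6437 Q6437 (allL N6437 (tt N13289 D20096) (tt N3276 (iv0 F292524)) (tt N13200 (iv2 F31768)) (tt N6459 (iv3 F293348)) (tt N3005 (iv4 D9460)) (tt N13290 D20099) (tt N3013 F14675) (tt N7092 F292298))
theorem Q6439 : ∀ i, i < 6439 → P i := stepQ 6438 Q6438 (allL N6438 (tt N13143 (iv1 F31667)) (tt N3007 (iv0 D9468)) (tt N13145 (iv2 F31677)) (tt N3023 F27366) (tt N12715 (iv4 F30720)) (tt N12887 (iv5 F31076)) (tt N6231 F27367) (tt N6356 F27368))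
theorem Q6440 : ∀ i, i < 6440 → P i := stepQ 6439 Q6439 (allL N6439 (tt N13145 (iv1 F31681)) (tt N6356 (iv0 F30731)) (tt N3007 (iv2 D9470)) (tt N11254 (iv3 F27426)) (tt N5359 (iv4 F14735)) (tt N12975 F292539) (tt N6177 (iv6 F17424)) (tt N13143 (iv7 F31668)))
theorem Q6441 : ∀ i, i < 6441 → P i := stepQ 6440 Q6440 (allL N6440 (tt N5362 F14686) (tt N5358 (iv0 F14687)) (tt N5359 F14734) (tt N12773 (iv3 F30875)) (tt N3007 (iv4 D9471)) (tt N12538 (iv5 F30106)) (tt N3173 F16865) (tt N5360 F14733))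
theorem Q6442 : ∀ i, i < 6442 → P i := stepQ 6441 Q6441 (allL N6441 (tt N3010 (iv1 F14695)) (tt N3008 (iv0 D9475)) (tt N6481 (iv2 F17576)) (tt N12922 (iv3 F31160)) (tt N6481 F15014) (tt N13157 (iv5 F31706)) (tt N6372 (iv6 F17574)) (tt N6488 F17577))
theorem Q6443 : ∀ i, i < 6443 → P i := stepQ 6442 Q6442 (allL N6442 (tt N6258 (iv1 F17490)) (tt N6252 F17588) (tt N6255 (iv2 F17582)) (tt N3008 (iv3 D9477)) (tt N12773 (iv4 F30876)) (tt N12765 F293253) (tt N6624 (iv6 F16917)) (tt N6256 (iv7 F17581)))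
theorem Q6444 : ∀ i, i < 6444 → P i := stepQ 6443 Q6443 (allL N6443 (tt N12948 (iv1 F31241)) (tt N6621 F293248) (tt N5867 F293249) (tt N12765 F293250) (tt N6301 F293251) (tt N3008 (iv5 D9478)) (tt N5855 F293252) (tt N12949 (iv7 F31245)))
theorem Q6445 : ∀ i, i < 6445 → P i := stepQ 6444 Q6444 (allL N6444 (tt N3009 (iv1 D9489)) (tt N11254 F27432) (tt N11256 (iv2 F27435)) (tt N3020 F17542) (tt N5640 F17543) (tt N13138 (iv5 F31644)) (tt N5944 F17544) (tt N6106 F17545))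
theorem Q6446 : ∀ i, i < 6446 → P i := stepQ 6445 Q6445 (allL N6445 (tt N6106 (iv1 F27429)) (tt N11256 F27438) (tt N3009 (iv2 D9490)) (tt N13143 F31670) (tt N6267 (iv4 F17591)) (tt N13291 D20115) (tt N6445 F14752) (tt N11254 (iv7 F27428)))
theorem Q6447 : ∀ i, i < 6447 → P i := stepQ 6446 Q6446 (allL N6446 (tt N6249 (iv1 F17596)) (tt N6269 (iv0 F17492)) (tt N6267 F17590) (tt N12713 (iv3 F30710)) (tt N3009 (iv4 D9491)) (tt N13292 D20116) (tt N6446 F14753) (tt N6266 F17569))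
theorem Q6448 : ∀ i, i < 6448 → P i := stepQ 6447 Q6447 (allL N6447 (tt N13293 D20117) (tt N6771 F291884) (tt N13291 (iv2 F31929)) (tt N3011 F14754) (tt N13294 D20118) (tt N3009 (iv5 D9492)) (tt N12994 F291885) (tt N3223 (iv7 F291986)))
theorem Q6449 : ∀ i, i < 6449 → P i := stepQ 6448 Q6448 (allL N6448 (tt N6621 (iv1 F292644)) (tt N12948 (iv0 F31240)) (tt N12949 F31243) (tt N6154 F16903) (tt N13295 D20120) (tt N3010 (iv5 D9493)) (tt N12738 F292022) (tt N5867 (iv7 F293114)))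
theorem Q6450 : ∀ i, i < 6450 → P i := stepQ 6449 Q6449 (allL N6449 (tt N12986 (iv1 F293702)) (tt N12950 (iv0 F31247)) (tt N6553 F16956) (tt N13296 D20122) (tt N3011 (iv4 D9494)) (tt N13297 D20123) (tt N13004 F292908) (tt N3233 (iv7 F293701)))
theorem Q6451 : ∀ i, i < 6451 → P i := stepQ 6450 Q6450 (allL N6450 (tt N11255 (iv1 F27433)) (tt N13138 F31647) (tt N12110 (iv2 F29312)) (tt N3012 (iv3 D9499)) (tt N13298 D20128) (tt N3067 F16790) (tt N13299 D20129) (tt N6500 F16791))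
theorem Q6452 : ∀ i, i < 6452 → P i := stepQ 6451 Q6451 (allL N6451 (tt N13175 (iv1 F31740)) (tt N13174 F31739) (tt N6574 (iv2 F15477)) (tt N13300 D20130) (tt N3012 (iv4 D9500)) (tt N13301 D20131) (tt N13302 D20132) (tt N6508 F16869))
theorem Q6453 : ∀ i, i < 6453 → P i := stepQ 6452 Q6452 (allL N6452 (tt N7114 (iv1 F35717)) (tt N13303 D20134) (tt N6407 F14757) (tt N13299 (iv3 F31960)) (tt N13302 (iv4 F31963)) (tt N3058 F14758) (tt N3012 (iv6 D9501)) (tt N13304 D20135))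
theorem Q6454 : ∀ i, i < 6454 → P i := stepQ 6453 Q6453 (allL N6453 (tt N13173 (iv1 F31734)) (tt N3013 (iv0 D9502)) (tt N13201 F31778) (tt N13305 D20136) (tt N6373 (iv4 F16968)) (tt N13306 D20137) (tt N13307 D20138) (tt N13202 (iv7 F31781)))
theorem Q6455 : ∀ i, i < 6455 → P i := stepQ 6454 Q6454 (allL N6454 (tt N3013 (iv1 D9503)) (tt N13173 (iv0 F31733)) (tt N13202 F31783) (tt N13308 D20139) (tt N6551 (iv4 F16850)) (tt N13309 D20140) (tt N13310 D20141) (tt N13201 F31779))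
theorem Q6456 : ∀ i, i < 6456 → P i := stepQ 6455 Q6455 (allL N6455 (tt N13311 D20142) (tt N13312 D20143) (tt N13313 D20144) (tt N3013 (iv3 D9504)) (tt N3026 F14759) (tt N13314 D20145) (tt N6459 (iv6 F293349)) (tt N13315 D20146))
theorem Q6457 : ∀ i, i < 6457 → P i := stepQ 6456 Q6456 (allL N6456 (tt N13014 (iv1 F293944)) (tt N13316 D20148) (tt N13204 (iv2 F31785)) (tt N13314 (iv3 F31976)) (tt N13317 D20149) (tt N3013 (iv5 D9505)) (tt N13318 D20150) (tt N13319 D20151))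
theorem Q6458 : ∀ i, i < 6458 → P i := stepQ 6457 Q6457 (allL N6457 (tt N13202 (iv1 F31780)) (tt N13201 F31777) (tt N13173 (iv2 F31731)) (tt N13315 (iv3 F31977)) (tt N3014 F14760) (tt N13319 (iv5 F31989)) (tt N13320 D20152) (tt N3013 (iv7 D9506)))
theorem Q6459 : ∀ i, i < 6459 → P i := stepQ 6458 Q6458 (allL N6458 (tt N3294 (iv1 F292993)) (tt N6883 (iv0 F292994)) (tt N7008 (iv2 F292192)) (tt N3028 F14761) (tt N13320 (iv4 F31990)) (tt N6559 (iv5 F15254)) (tt N3014 (iv6 D9507)) (tt N7009 F291881))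
theorem Q6460 : ∀ i, i < 6460 → P i := stepQ 6459 Q6459 (allL N6459 (tt N12842 (iv1 F65806)) (tt N6890 F65775) (tt N12809 F66092) (tt N6437 F293348) (tt N3015 (iv4 D9517)) (tt N13321 D20170) (tt N6455 F293349) (tt N6464 (iv7 F14895)))
theorem Q6461 : ∀ i, i < 6461 → P i := stepQ 6460 Q6460 (allL N6460 (tt N13322 D20172) (tt N13323 D20173) (tt N12810 F66102) (tt N3016 F14772) (tt N13324 D20174) (tt N3015 (iv5 D9518)) (tt N6353 F290896) (tt N6465 (iv7 F14887)))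
theorem Q6462 : ∀ i, i < 6462 → P i := stepQ 6461 Q6461 (allL N6461 (tt N3018 F14783) (tt N3016 (iv0 D9527)) (tt N6461 F30656) (tt N13325 D20178) (tt N3336 F293218) (tt N3334 F293195) (tt N6337 (iv6 F14782)) (tt N3142 (iv7 F292137)))
theorem Q6463 : ∀ i, i < 6463 → P i := stepQ 6462 Q6462 (allL N6462 (tt N3017 (iv1 D9535)) (tt N6197 (iv0 F66031)) (tt N6198 (iv2 F66032)) (tt N13267 (iv3 F65544)) (tt N13326 D20193) (tt N3329 F294086) (tt N6207 (iv6 F66037)) (tt N3341 (iv7 F66038)))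
theorem Q6464 : ∀ i, i < 6464 → P i := stepQ 6463 Q6463 (allL N6463 (tt N3341 F66044) (tt N6198 F66045) (tt N3017 (iv2 D9536)) (tt N6463 F14901) (tt N13327 D20196) (tt N13328 D20197) (tt N13329 D20198) (tt N6197 F66046))
theorem Q6465 : ∀ i, i < 6465 → P i := stepQ 6464 Q6464 (allL N6464 (tt N6210 F65648) (tt N13330 D20200) (tt N13327 (iv2 F32025)) (tt N7092 (iv3 F17774)) (tt N3017 (iv4 D9537)) (tt N13331 D20201) (tt N13332 D20202) (tt N6459 F14895))
theorem Q6466 : ∀ i, i < 6466 → P i := stepQ 6465 Q6465 (allL N6465 (tt N6683 F291421) (tt N13333 D20204) (tt N13328 (iv2 F32029)) (tt N3018 F14819) (tt N13334 D20205) (tt N3017 (iv5 D9538)) (tt N6342 F293304) (tt N6460 F14887))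
theorem Q6467 : ∀ i, i < 6467 → P i := stepQ 6466 Q6466 (allL N6466 (tt N6639 F291106) (tt N13335 D20208) (tt N13329 (iv2 F32034)) (tt N3019 F14820) (tt N13332 (iv4 F32039)) (tt N6343 (iv5 F291731)) (tt N3017 (iv6 D9539)) (tt N7134 F291107))
theorem Q6468 : ∀ i, i < 6468 → P i := stepQ 6467 Q6467 (allL N6467 (tt N12717 F30728) (tt N12773 F30878) (tt N6471 F17537) (tt N11657 F28170) (tt N3020 (iv4 D9562)) (tt N13336 D20248) (tt N6360 (iv6 F17538)) (tt N6110 (iv7 F17539)))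
theorem Q6469 : ∀ i, i < 6469 → P i := stepQ 6468 Q6468 (allL N6468 (tt N5622 (iv1 F14926)) (tt N5549 (iv0 F17514)) (tt N3022 F14923) (tt N5618 (iv3 F14927)) (tt N3021 (iv4 D9570)) (tt N13337 D20249) (tt N5781 F14924) (tt N5623 F14925))
theorem Q6470 : ∀ i, i < 6470 → P i := stepQ 6469 Q6469 (allL N6469 (tt N5623 (iv1 F14931)) (tt N3022 (iv0 D9572)) (tt N5622 F17560) (tt N6482 F15017) (tt N12922 (iv4 F31161)) (tt N11882 (iv5 F28571)) (tt N5714 (iv6 F17559)) (tt N5549 F17557))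
theorem Q6471 : ∀ i, i < 6471 → P i := stepQ 6470 Q6470 (allL N6470 (tt N12644 F30313) (tt N12645 (iv0 F30316)) (tt N13337 (iv2 F32113)) (tt N4107 F14933) (tt N13338 D20252) (tt N3022 (iv5 D9574)) (tt N13339 D20253) (tt N5624 F14934))
theorem Q6472 : ∀ i, i < 6472 → P i := stepQ 6471 Q6471 (allL N6471 (tt N11230 F27365) (tt N12668 F30576) (tt N6467 (iv2 F17537)) (tt N5635 (iv3 F14945)) (tt N3023 (iv4 D9591)) (tt N13340 D20277) (tt N6232 F17534) (tt N6357 (iv7 F17532)))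
theorem Q6473 : ∀ i, i < 6473 → P i := stepQ 6472 Q6472 (allL N6472 (tt N3185 F293327) (tt N3184 F293328) (tt N3025 F14946) (tt N6472 F14947) (tt N13341 D20278) (tt N3024 (iv5 D9594)) (tt N6654 F293329) (tt N3162 F293330))
theorem Q6474 : ∀ i, i < 6474 → P i := stepQ 6473 Q6473 (allL N6473 (tt N13342 D20280) (tt N13343 D20281) (tt N13341 (iv2 F32168)) (tt N6679 (iv3 F293103)) (tt N3025 (iv4 D9597)) (tt N13344 D20283) (tt N6679 (iv6 F293104)) (tt N3183 (iv7 F292219)))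
theorem Q6475 : ∀ i, i < 6475 → P i := stepQ 6474 Q6474 (allL N6474 (tt N12762 F292879) (tt N3026 (iv0 D9604)) (tt N6229 F292880) (tt N13345 D20303) (tt N13346 D20304) (tt N12875 F292881) (tt N6189 (iv6 F293888)) (tt N12875 F292882))
theorem Q6476 : ∀ i, i < 6476 → P i := stepQ 6475 Q6475 (allL N6475 (tt N3026 (iv1 D9605)) (tt N12762 F292971) (tt N12875 F292972) (tt N13347 D20308) (tt N13348 D20309) (tt N6229 F292973) (tt N12791 (iv6 F293959)) (tt N6229 F292974))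
theorem Q6477 : ∀ i, i < 6477 → P i := stepQ 6476 Q6476 (allL N6476 (tt N6229 F292883) (tt N12875 F292884) (tt N3026 (iv2 D9606)) (tt N6476 F14966) (tt N13313 (iv4 F31975)) (tt N6602 (iv5 F293891)) (tt N6197 (iv6 F293892)) (tt N12762 F292885))
theorem Q6478 : ∀ i, i < 6478 → P i := stepQ 6477 Q6477 (allL N6477 (tt N12875 (iv1 F292735)) (tt N6229 (iv0 F292736)) (tt N12762 (iv2 F292737)) (tt N3027 F14969) (tt N13315 (iv4 F31978)) (tt N3078 F14970) (tt N7134 (iv6 F292738)) (tt N3026 (iv7 D9608)))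
theorem Q6479 : ∀ i, i < 6479 → P i := stepQ 6478 Q6478 (allL N6478 (tt N5942 (iv1 F17609)) (tt N5945 (iv0 F17608)) (tt N11257 (iv2 F27440)) (tt N3030 F14986) (tt N13349 D20335) (tt N3029 (iv5 D9616)) (tt N13350 D20336) (tt N5642 F14987))
theorem Q6480 : ∀ i, i < 6480 → P i := stepQ 6479 Q6479 (allL N6479 (tt N4147 F14991) (tt N5631 F14992) (tt N5638 F14988) (tt N13351 D20337) (tt N3030 (iv4 D9617)) (tt N5638 F14990) (tt N13352 D20338) (tt N5643 F14989))
theorem Q6481 : ∀ i, i < 6481 → P i := stepQ 6480 Q6480 (allL N6480 (tt N13353 D20339) (tt N13354 D20340) (tt N5639 F14993) (tt N13350 (iv3 F32269)) (tt N13352 (iv4 F32274)) (tt N5592 F296002) (tt N3030 (iv6 D9618)) (tt N13355 D20341))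
theorem Q6482 : ∀ i, i < 6482 → P i := stepQ 6481 Q6481 (allL N6481 (tt N6399 F17571) (tt N6140 F17572) (tt N6441 F17576) (tt N3031 (iv3 D9645)) (tt N6441 (iv4 F15014)) (tt N7033 (iv5 F17632)) (tt N3305 F17573) (tt N6248 (iv7 F17575)))
theorem Q6483 : ∀ i, i < 6483 → P i := stepQ 6482 Q6482 (allL N6482 (tt N6267 (iv1 F17589)) (tt N6266 F17565) (tt N6269 (iv2 F17564)) (tt N6469 (iv3 F15017)) (tt N3031 (iv4 D9646)) (tt N13356 D20361) (tt N3306 F17563) (tt N6249 (iv7 F17558)))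
theorem Q6484 : ∀ i, i < 6484 → P i := stepQ 6483 Q6483 (allL N6483 (tt N3108 (iv1 F291653)) (tt N3107 (iv0 F291636)) (tt N3033 F15018) (tt N6483 F15019) (tt N13357 D20362) (tt N3032 (iv5 D9649)) (tt N6582 F291174) (tt N3102 (iv7 F291876)))
theorem Q6485 : ∀ i, i < 6485 → P i := stepQ 6484 Q6484 (allL N6484 (tt N13358 D20364) (tt N13359 D20365) (tt N13357 (iv2 F32317)) (tt N6592 (iv3 F293721)) (tt N3033 (iv4 D9652)) (tt N13360 D20367) (tt N6592 (iv6 F293722)) (tt N3106 F292725))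
theorem Q6486 : ∀ i, i < 6486 → P i := stepQ 6485 Q6485 (allL N6485 (tt N6172 (iv1 F15043)) (tt N6120 F15041) (tt N3036 F15038) (tt N5852 F15039) (tt N3133 F15042) (tt N3035 (iv5 D9659)) (tt N13361 D20381) (tt N6174 F15040))
theorem Q6487 : ∀ i, i < 6487 → P i := stepQ 6486 Q6486 (allL N6486 (tt N13362 D20382) (tt N13363 D20383) (tt N13361 (iv2 F32359)) (tt N3040 F15047) (tt N6763 (iv4 F16464)) (tt N6516 F16965) (tt N3036 (iv6 D9661)) (tt N13364 D20384))
theorem Q6488 : ∀ i, i < 6488 → P i := stepQ 6487 Q6487 (allL N6487 (tt N3100 F15054) (tt N3099 F15055) (tt N3235 F15051) (tt N3249 F15052) (tt N6402 F15056) (tt N3037 (iv5 D9666)) (tt N13365 D20385) (tt N3260 F15053))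
theorem Q6489 : ∀ i, i < 6489 → P i := stepQ 6488 Q6488 (allL N6488 (tt N6140 (iv1 F17391)) (tt N6399 F17578) (tt N6248 F15057) (tt N6252 F15058) (tt N6248 F15059) (tt N13366 D20386) (tt N3037 (iv6 D9667)) (tt N6441 (iv7 F17577)))
theorem Q6490 : ∀ i, i < 6490 → P i := stepQ 6489 Q6489 (allL N6489 (tt N13367 D20387) (tt N6321 (iv0 F63141)) (tt N6384 F15060) (tt N12920 (iv3 F31154)) (tt N6584 (iv4 F15527)) (tt N6606 (iv5 F17015)) (tt N3038 (iv6 D9668)) (tt N13368 D20389))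
theorem Q6491 : ∀ i, i < 6491 → P i := stepQ 6490 Q6490 (allL N6490 (tt N3039 (iv1 D9673)) (tt N3047 F15069) (tt N6292 (iv2 F15072)) (tt N13369 D20390) (tt N6291 F15071) (tt N13213 (iv5 F31796)) (tt N13370 D20391) (tt N6374 F15070))
theorem Q6492 : ∀ i, i < 6492 → P i := stepQ 6491 Q6491 (allL N6491 (tt N13371 D20392) (tt N13372 D20393) (tt N13373 D20394) (tt N3039 (iv3 D9674)) (tt N6761 (iv4 F16458)) (tt N11506 F27900) (tt N13374 D20395) (tt N6375 F15073))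
theorem Q6493 : ∀ i, i < 6493 → P i := stepQ 6492 Q6492 (allL N6492 (tt N13375 D20396) (tt N13376 D20397) (tt N6386 F15074) (tt N11506 (iv3 F27895)) (tt N6535 F15227) (tt N3039 (iv5 D9675)) (tt N13377 D20398) (tt N6376 F15075))
theorem Q6494 : ∀ i, i < 6494 → P i := stepQ 6493 Q6493 (allL N6493 (tt N13378 D20399) (tt N13379 D20400) (tt N6387 F15076) (tt N13374 (iv3 F32393)) (tt N3040 F15077) (tt N13380 D20401) (tt N3039 (iv6 D9676)) (tt N13381 D20402))
theorem Q6495 : ∀ i, i < 6495 → P i := stepQ 6494 Q6494 (allL N6494 (tt N6389 (iv1 F15083)) (tt N3040 (iv0 D9677)) (tt N6129 F35663) (tt N6494 F35665) (tt N13382 D20405) (tt N13383 D20406) (tt N13384 D20407) (tt N6388 (iv7 F35688)))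
theorem Q6496 : ∀ i, i < 6496 → P i := stepQ 6495 Q6495 (allL N6495 (tt N6388 (iv1 F15084)) (tt N6129 F35684) (tt N6389 F15081) (tt N13364 (iv3 F32363)) (tt N13381 (iv4 F32411)) (tt N6235 F35602) (tt N6380 F15082) (tt N3040 (iv7 D9680)))
theorem Q6497 : ∀ i, i < 6497 → P i := stepQ 6496 Q6496 (allL N6496 (tt N6157 F15121) (tt N3056 F15122) (tt N3274 F15118) (tt N6199 F15119) (tt N3242 F15123) (tt N3041 (iv5 D9694)) (tt N13385 D20413) (tt N3270 F15120))
theorem Q6498 : ∀ i, i < 6498 → P i := stepQ 6497 Q6497 (allL N6497 (tt N5944 F15128) (tt N5941 (iv0 F15127)) (tt N3044 F15124) (tt N6366 F15125) (tt N5679 F15126) (tt N13386 D20414) (tt N3042 (iv6 D9695)) (tt N5850 (iv7 F16789)))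
theorem Q6499 : ∀ i, i < 6499 → P i := stepQ 6498 Q6498 (allL N6498 (tt N13387 D20415) (tt N13388 D20416) (tt N12735 (iv2 F30772)) (tt N3048 F15129) (tt N12979 (iv4 F31291)) (tt N7026 F290803) (tt N3043 (iv6 D9696)) (tt N13389 D20418))
theorem Q6500 : ∀ i, i < 6500 → P i := stepQ 6499 Q6499 (allL N6499 (tt N5850 (iv1 F16787)) (tt N3044 (iv0 D9697)) (tt N5944 (iv2 F15131)) (tt N6568 F16922) (tt N5405 F15130) (tt N13293 (iv5 F31937)) (tt N11256 (iv6 F27437)) (tt N5941 F15132))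
theorem Q6501 : ∀ i, i < 6501 → P i := stepQ 6500 Q6500 (allL N6500 (tt N13390 D20419) (tt N12665 (iv0 F30555)) (tt N13386 (iv2 F32423)) (tt N3049 F15133) (tt N12943 (iv4 F31232)) (tt N3044 (iv5 D9698)) (tt N7026 F290979) (tt N6450 (iv7 F16791)))
theorem Q6502 : ∀ i, i < 6502 → P i := stepQ 6501 Q6501 (allL N6501 (tt N13391 D20420) (tt N13392 D20421) (tt N6371 F15134) (tt N3176 F15135) (tt N6586 (iv4 F15528)) (tt N13393 D20422) (tt N3045 (iv6 D9699)) (tt N13394 D20423))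
theorem Q6503 : ∀ i, i < 6503 → P i := stepQ 6502 Q6502 (allL N6502 (tt N7033 F17634) (tt N13366 (iv0 F32371)) (tt N6373 F15136) (tt N6136 F15137) (tt N13201 (iv4 F31776)) (tt N3046 (iv5 D9700)) (tt N13393 (iv6 F32440)) (tt N6551 (iv7 F15247)))
theorem Q6504 : ∀ i, i < 6504 → P i := stepQ 6503 Q6503 (allL N6503 (tt N13395 D20424) (tt N13369 (iv0 F32382)) (tt N13396 D20425) (tt N3047 (iv3 D9701)) (tt N12978 (iv4 F31288)) (tt N13397 D20426) (tt N13398 D20427) (tt N6385 F15138))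
theorem Q6505 : ∀ i, i < 6505 → P i := stepQ 6504 Q6504 (allL N6504 (tt N13376 (iv1 F32400)) (tt N13375 F32397) (tt N6376 F15139) (tt N13397 (iv3 F32457)) (tt N6534 F15221) (tt N3047 (iv5 D9702)) (tt N13399 D20428) (tt N6386 F15140))
theorem Q6506 : ∀ i, i < 6506 → P i := stepQ 6505 Q6505 (allL N6505 (tt N13400 D20429) (tt N13401 D20430) (tt N6377 F15141) (tt N13398 (iv3 F32461)) (tt N3048 F15142) (tt N13402 D20431) (tt N3047 (iv6 D9703)) (tt N13403 D20432))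
theorem Q6507 : ∀ i, i < 6507 → P i := stepQ 6506 Q6506 (allL N6506 (tt N3048 (iv1 D9705)) (tt N6380 F15143) (tt N6338 F35668) (tt N6506 F35670) (tt N13404 D20439) (tt N13006 (iv5 F290665)) (tt N6910 (iv6 F290667)) (tt N6378 F35784))
theorem Q6508 : ∀ i, i < 6508 → P i := stepQ 6507 Q6507 (allL N6507 (tt N6338 F35782) (tt N6378 F15150) (tt N6380 F15146) (tt N13389 (iv3 F32430)) (tt N13403 (iv4 F32471)) (tt N6780 (iv5 F290662)) (tt N6389 F15147) (tt N3048 (iv7 D9707)))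
theorem Q6509 : ∀ i, i < 6509 → P i := stepQ 6508 Q6508 (allL N6508 (tt N13405 D20446) (tt N13406 D20447) (tt N6382 F15153) (tt N13407 D20448) (tt N3049 (iv4 D9710)) (tt N13408 D20449) (tt N7027 F291510) (tt N6451 (iv7 F16869)))
theorem Q6510 : ∀ i, i < 6510 → P i := stepQ 6509 Q6509 (allL N6509 (tt N13409 D20450) (tt N13409 F32500) (tt N6390 F15154) (tt N3050 (iv3 D9711)) (tt N6509 F15155) (tt N13249 (iv5 F31861)) (tt N13410 D20451) (tt N6390 F15156))
theorem Q6511 : ∀ i, i < 6511 → P i := stepQ 6510 Q6510 (allL N6510 (tt N13411 D20452) (tt N13412 D20453) (tt N3062 F15157) (tt N13410 (iv3 F32502)) (tt N3051 F15158) (tt N13413 D20454) (tt N3050 (iv6 D9712)) (tt N13414 D20455))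
theorem Q6512 : ∀ i, i < 6512 → P i := stepQ 6511 Q6511 (allL N6511 (tt N3066 (iv1 F15166)) (tt N3051 (iv0 D9713)) (tt N3063 F35927) (tt N13415 D20457) (tt N13416 D20458) (tt N3237 F291525) (tt N6250 F291526) (tt N3064 F35928))
theorem Q6513 : ∀ i, i < 6513 → P i := stepQ 6512 Q6512 (allL N6512 (tt N3051 (iv1 D9714)) (tt N3066 F15159) (tt N3064 (iv2 F35920)) (tt N12816 F62969) (tt N13417 D20463) (tt N3259 (iv5 F292104)) (tt N12902 (iv6 F35937)) (tt N3063 (iv7 F35926)))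
theorem Q6514 : ∀ i, i < 6514 → P i := stepQ 6513 Q6513 (allL N6513 (tt N6324 (iv1 F291083)) (tt N13418 D20466) (tt N3065 F15160) (tt N6513 F15161) (tt N13419 D20467) (tt N3051 (iv5 D9715)) (tt N3052 F15162) (tt N13420 D20468))
theorem Q6515 : ∀ i, i < 6515 → P i := stepQ 6514 Q6514 (allL N6514 (tt N3064 (iv1 F15167)) (tt N3063 F15168) (tt N3066 F15163) (tt N6514 F15164) (tt N13414 (iv4 F32507)) (tt N13420 (iv5 F32523)) (tt N6396 F15165) (tt N3051 (iv7 D9716)))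
theorem Q6516 : ∀ i, i < 6516 → P i := stepQ 6515 Q6515 (allL N6515 (tt N13295 (iv1 F31950)) (tt N6301 (iv0 F292941)) (tt N3070 F15172) (tt N13421 D20469) (tt N3052 (iv4 D9719)) (tt N13422 D20470) (tt N13419 (iv6 F32520)) (tt N6853 (iv7 F292942)))
theorem Q6517 : ∀ i, i < 6517 → P i := stepQ 6516 Q6516 (allL N6516 (tt N12789 (iv1 F35638)) (tt N12877 (iv0 F35639)) (tt N12764 (iv2 F30832)) (tt N3055 F15173) (tt N7049 (iv4 F17654)) (tt N6486 (iv5 F16965)) (tt N3053 (iv6 D9720)) (tt N12876 (iv7 F35596)))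
theorem Q6518 : ∀ i, i < 6518 → P i := stepQ 6517 Q6517 (allL N6517 (tt N3057 (iv1 F15175)) (tt N3054 (iv0 D9721)) (tt N6402 (iv2 F15176)) (tt N13423 D20474) (tt N3235 F15174) (tt N13375 (iv5 F32394)) (tt N13424 D20475) (tt N3261 (iv7 F15177)))
theorem Q6519 : ∀ i, i < 6519 → P i := stepQ 6518 Q6518 (allL N6518 (tt N3054 (iv1 D9722)) (tt N3057 F15178) (tt N3261 (iv2 F15181)) (tt N13425 D20476) (tt N3260 F15180) (tt N13376 (iv5 F32402)) (tt N13426 D20477) (tt N6402 F15179))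
theorem Q6520 : ∀ i, i < 6520 → P i := stepQ 6519 Q6519 (allL N6519 (tt N13427 D20478) (tt N13428 D20479) (tt N13429 D20480) (tt N3054 (iv3 D9723)) (tt N7048 (iv4 F17653)) (tt N7996 (iv5 F27050)) (tt N13430 D20481) (tt N6403 F15182))
theorem Q6521 : ∀ i, i < 6521 → P i := stepQ 6520 Q6520 (allL N6520 (tt N12990 (iv1 F31341)) (tt N13159 (iv0 F31712)) (tt N6412 F15183) (tt N7996 F27046) (tt N6532 (iv4 F15215)) (tt N3054 (iv5 D9724)) (tt N7994 (iv6 F27049)) (tt N6404 F15184))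
theorem Q6522 : ∀ i, i < 6522 → P i := stepQ 6521 Q6521 (allL N6521 (tt N13431 D20482) (tt N13432 D20483) (tt N6413 F15185) (tt N13430 (iv3 F32558)) (tt N3055 F15186) (tt N13433 D20484) (tt N3054 (iv6 D9725)) (tt N12893 (iv7 F35601)))
theorem Q6523 : ∀ i, i < 6523 → P i := stepQ 6522 Q6522 (allL N6522 (tt N13434 D20494) (tt N13393 (iv0 F290925)) (tt N12109 (iv2 F29310)) (tt N3058 F15195) (tt N6895 (iv4 F17195)) (tt N13299 (iv5 F31961)) (tt N3056 (iv6 D9730)) (tt N13435 D20496))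
theorem Q6524 : ∀ i, i < 6524 → P i := stepQ 6523 Q6523 (allL N6523 (tt N13436 D20497) (tt N13425 (iv0 F32540)) (tt N13437 D20498) (tt N3057 (iv3 D9731)) (tt N6894 (iv4 F17194)) (tt N13438 D20499) (tt N13439 D20500) (tt N6411 F15196))
theorem Q6525 : ∀ i, i < 6525 → P i := stepQ 6524 Q6524 (allL N6524 (tt N13159 (iv1 F31713)) (tt N12990 (iv0 F31340)) (tt N6404 F15197) (tt N13438 (iv3 F32581)) (tt N6529 (iv4 F15210)) (tt N3057 (iv5 D9732)) (tt N13440 D20501) (tt N6412 F15198))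
theorem Q6526 : ∀ i, i < 6526 → P i := stepQ 6525 Q6525 (allL N6525 (tt N13441 D20502) (tt N13442 D20503) (tt N6405 F15199) (tt N13439 (iv3 F32583)) (tt N3058 F15200) (tt N13443 D20504) (tt N3057 (iv6 D9733)) (tt N13444 D20505))
theorem Q6527 : ∀ i, i < 6527 → P i := stepQ 6526 Q6526 (allL N6526 (tt N3058 (iv1 D9735)) (tt N6408 F15201) (tt N3349 F66486) (tt N6526 F66496) (tt N13445 D20513) (tt N6246 (iv5 F291103)) (tt N6247 (iv6 F291036)) (tt N6406 (iv7 F65329)))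
theorem Q6528 : ∀ i, i < 6528 → P i := stepQ 6527 Q6527 (allL N6527 (tt N3349 F66487) (tt N6406 F15206) (tt N6408 F15202) (tt N13435 (iv3 F32570)) (tt N13444 (iv4 F32588)) (tt N13304 (iv5 F31966)) (tt N6240 F35628) (tt N3058 (iv7 D9736)))
theorem Q6529 : ∀ i, i < 6529 → P i := stepQ 6528 Q6528 (allL N6528 (tt N13446 D20516) (tt N13447 D20517) (tt N13448 D20518) (tt N3059 (iv3 D9737)) (tt N6924 F17230) (tt N13449 D20519) (tt N13450 D20520) (tt N6414 F15207))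
theorem Q6530 : ∀ i, i < 6530 → P i := stepQ 6529 Q6529 (allL N6529 (tt N6578 (iv1 F15516)) (tt N3105 F15211) (tt N6418 F15208) (tt N13449 (iv3 F32610)) (tt N6524 F15210) (tt N3059 (iv5 D9738)) (tt N13451 D20521) (tt N6415 F15209))
theorem Q6531 : ∀ i, i < 6531 → P i := stepQ 6530 Q6530 (allL N6530 (tt N12894 (iv1 F63136)) (tt N6242 (iv0 F63137)) (tt N6419 F15212) (tt N13450 (iv3 F32612)) (tt N6606 (iv4 F15572)) (tt N13452 D20524) (tt N3059 (iv6 D9739)) (tt N12897 (iv7 F63140)))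
theorem Q6532 : ∀ i, i < 6532 → P i := stepQ 6531 Q6531 (allL N6531 (tt N11435 F27789) (tt N11432 (iv0 F27782)) (tt N13453 D20526) (tt N3060 (iv3 D9740)) (tt N6635 (iv4 F15950)) (tt N8003 F27047) (tt N13454 D20527) (tt N6417 F15213))
theorem Q6533 : ∀ i, i < 6533 → P i := stepQ 6532 Q6532 (allL N6532 (tt N3105 F15217) (tt N6578 (iv0 F15515)) (tt N6415 F15214) (tt N8003 (iv3 F27045)) (tt N6520 F15215) (tt N3060 (iv5 D9741)) (tt N8001 F27048) (tt N6418 F15216))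
theorem Q6534 : ∀ i, i < 6534 → P i := stepQ 6533 Q6533 (allL N6533 (tt N7112 (iv1 F66709)) (tt N13445 (iv0 F66710)) (tt N6416 F15218) (tt N13454 (iv3 F32626)) (tt N6607 (iv4 F15636)) (tt N13455 D20530) (tt N3060 (iv6 D9742)) (tt N13456 D20531))
theorem Q6535 : ∀ i, i < 6535 → P i := stepQ 6534 Q6534 (allL N6534 (tt N6391 (iv1 F15220)) (tt N3061 (iv0 D9743)) (tt N6421 F15222) (tt N11421 (iv3 F27764)) (tt N6504 (iv4 F15221)) (tt N3089 F15219) (tt N11390 (iv6 F27684)) (tt N6420 F15223))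
theorem Q6536 : ∀ i, i < 6536 → P i := stepQ 6535 Q6535 (allL N6535 (tt N3061 (iv1 D9744)) (tt N6391 F15224) (tt N6420 F15228) (tt N11393 (iv3 F27690)) (tt N6492 (iv4 F15227)) (tt N3090 F15226) (tt N13457 D20532) (tt N6421 F15225))
theorem Q6537 : ∀ i, i < 6537 → P i := stepQ 6536 Q6536 (allL N6536 (tt N13458 D20533) (tt N13459 D20534) (tt N13250 (iv2 F31863)) (tt N6423 F15229) (tt N13192 (iv4 F31753)) (tt N13460 D20535) (tt N3061 (iv6 D9745)) (tt N13461 D20536))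
theorem Q6538 : ∀ i, i < 6538 → P i := stepQ 6537 Q6537 (allL N6537 (tt N13414 (iv1 F32512)) (tt N3062 (iv0 D9746)) (tt N13411 (iv2 F62794)) (tt N13462 D20538) (tt N6919 F62781) (tt N13463 D20540) (tt N7036 F291752) (tt N13412 (iv7 F62791)))
theorem Q6539 : ∀ i, i < 6539 → P i := stepQ 6538 Q6538 (allL N6538 (tt N3062 (iv1 D9747)) (tt N13414 F32510) (tt N13412 F62792) (tt N13464 D20543) (tt N6920 (iv4 F62793)) (tt N13465 D20545) (tt N13466 D20546) (tt N13411 (iv7 F62795)))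
theorem Q6540 : ∀ i, i < 6540 → P i := stepQ 6539 Q6539 (allL N6539 (tt N13467 D20547) (tt N13468 D20548) (tt N13413 (iv2 F32505)) (tt N6426 F15230) (tt N13469 D20549) (tt N3062 (iv5 D9748)) (tt N13460 (iv6 F32638)) (tt N13470 D20550))
theorem Q6541 : ∀ i, i < 6541 → P i := stepQ 6540 Q6540 (allL N6540 (tt N13412 (iv1 F32504)) (tt N13411 F32509) (tt N13414 (iv2 F32506)) (tt N6427 F15231) (tt N3066 F15232) (tt N13470 (iv5 F32645)) (tt N6427 F15233) (tt N3062 (iv7 D9749)))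
theorem Q6542 : ∀ i, i < 6542 → P i := stepQ 6541 Q6541 (allL N6541 (tt N12818 (iv1 F62650)) (tt N12811 F62632) (tt N12815 F62964) (tt N3063 (iv3 D9751)) (tt N13471 D20560) (tt N3251 F291607) (tt N6257 F291608) (tt N12816 (iv7 F62968)))
theorem Q6543 : ∀ i, i < 6543 → P i := stepQ 6542 Q6542 (allL N6542 (tt N13472 D20564) (tt N13426 (iv0 F62744)) (tt N13416 (iv2 F35930)) (tt N13473 D20566) (tt N3063 (iv4 D9752)) (tt N13474 D20567) (tt N6270 F290715) (tt N13417 (iv7 F35923)))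
theorem Q6544 : ∀ i, i < 6544 → P i := stepQ 6543 Q6543 (allL N6543 (tt N13385 (iv1 F62617)) (tt N13475 D20581) (tt N13476 D20582) (tt N3064 (iv3 D9756)) (tt N6930 F62727) (tt N13477 D20584) (tt N13478 D20585) (tt N13415 (iv7 F35929)))
theorem Q6545 : ∀ i, i < 6545 → P i := stepQ 6544 Q6544 (allL N6544 (tt N13426 (iv1 F62745)) (tt N13472 F32663) (tt N13417 (iv2 F35922)) (tt N13479 D20586) (tt N3064 (iv4 D9757)) (tt N13480 D20587) (tt N13481 D20588) (tt N13416 (iv7 F35931)))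
theorem Q6546 : ∀ i, i < 6546 → P i := stepQ 6545 Q6545 (allL N6545 (tt N3258 F291342) (tt N3257 F291343) (tt N3259 (iv2 F292103)) (tt N13477 (iv3 F32674)) (tt N13482 D20589) (tt N3064 (iv5 D9758)) (tt N3268 (iv6 F291880)) (tt N3237 F291344))
theorem Q6547 : ∀ i, i < 6547 → P i := stepQ 6546 Q6546 (allL N6546 (tt N6238 F35610) (tt N12896 (iv0 F35619)) (tt N12902 (iv2 F35936)) (tt N13478 (iv3 F32675)) (tt N13481 (iv4 F32676)) (tt N13483 D20591) (tt N3064 (iv6 D9759)) (tt N7035 F291308))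
theorem Q6548 : ∀ i, i < 6548 → P i := stepQ 6547 Q6547 (allL N6547 (tt N13420 (iv1 F32526)) (tt N3065 (iv0 D9760)) (tt N6324 (iv2 F291084)) (tt N13484 D20594) (tt N13485 D20595) (tt N13486 D20596) (tt N6281 (iv6 F291172)) (tt N13418 (iv7 F35776)))
theorem Q6549 : ∀ i, i < 6549 → P i := stepQ 6548 Q6548 (allL N6548 (tt N3065 (iv1 D9761)) (tt N13420 F32525) (tt N13418 (iv2 F35775)) (tt N13487 D20599) (tt N13488 D20600) (tt N13489 D20601) (tt N13490 D20602) (tt N6324 (iv7 F291085)))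
theorem Q6550 : ∀ i, i < 6550 → P i := stepQ 6549 Q6549 (allL N6549 (tt N13491 D20603) (tt N13492 D20604) (tt N13419 (iv2 F32519)) (tt N13493 D20605) (tt N3065 (iv4 D9762)) (tt N13494 D20606) (tt N3070 F15236) (tt N13495 D20607))
theorem Q6551 : ∀ i, i < 6551 → P i := stepQ 6550 Q6550 (allL N6550 (tt N13418 (iv1 F32517)) (tt N6324 (iv0 F291082)) (tt N13420 (iv2 F32521)) (tt N3077 F15237) (tt N13495 (iv4 F32683)) (tt N3066 F15238) (tt N13118 (iv6 F291166)) (tt N3065 (iv7 D9763)))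
theorem Q6552 : ∀ i, i < 6552 → P i := stepQ 6551 Q6551 (allL N6551 (tt N12917 F31146) (tt N13157 F31708) (tt N6573 F16848) (tt N3120 F16849) (tt N6454 F16850) (tt N3068 (iv5 D9766)) (tt N13496 D20609) (tt N6502 F15247))
theorem Q6553 : ∀ i, i < 6553 → P i := stepQ 6552 Q6552 (allL N6552 (tt N6774 F293206) (tt N13151 (iv0 F31691)) (tt N13497 D20610) (tt N3069 (iv3 D9770)) (tt N13498 D20611) (tt N6398 F16955) (tt N6796 F293207) (tt N6285 F293208))
theorem Q6554 : ∀ i, i < 6554 → P i := stepQ 6553 Q6553 (allL N6553 (tt N6851 F293137) (tt N6850 F293138) (tt N6449 (iv2 F16956)) (tt N13499 D20615) (tt N3069 (iv4 D9771)) (tt N13500 D20616) (tt N6830 F293139) (tt N6290 F293140))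
theorem Q6555 : ∀ i, i < 6555 → P i := stepQ 6554 Q6554 (allL N6554 (tt N6853 F293204) (tt N3070 (iv0 D9778)) (tt N13295 (iv2 F31947)) (tt N13501 D20629) (tt N12949 F31246) (tt N13502 D20630) (tt N13503 D20631) (tt N6301 F293205))
theorem Q6556 : ∀ i, i < 6556 → P i := stepQ 6555 Q6555 (allL N6555 (tt N3070 (iv1 D9779)) (tt N6853 F293711) (tt N6301 F293712) (tt N13504 D20632) (tt N5867 F293713) (tt N13505 D20633) (tt N5866 F293714) (tt N13295 (iv7 F31948)))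
theorem Q6557 : ∀ i, i < 6557 → P i := stepQ 6556 Q6556 (allL N6556 (tt N13506 D20635) (tt N6793 (iv0 F294330)) (tt N12761 (iv2 F294329)) (tt N3070 (iv3 D9780)) (tt N3078 F15251) (tt N13507 D20638) (tt N13493 (iv6 F32682)) (tt N6603 (iv7 F293963)))
theorem Q6558 : ∀ i, i < 6558 → P i := stepQ 6557 Q6557 (allL N6557 (tt N13306 (iv1 F31971)) (tt N13309 (iv0 F31974)) (tt N13422 (iv2 F32528)) (tt N13507 (iv3 F32753)) (tt N13508 D20639) (tt N3070 (iv5 D9781)) (tt N13509 D20640) (tt N13510 D20641))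
theorem Q6559 : ∀ i, i < 6559 → P i := stepQ 6558 Q6558 (allL N6558 (tt N6301 F293305) (tt N13295 (iv0 F31949)) (tt N6853 F293306) (tt N6603 (iv3 F293962)) (tt N3071 F15252) (tt N13510 (iv5 F32760)) (tt N13511 D20642) (tt N3070 (iv7 D9782)))
theorem Q6560 : ∀ i, i < 6560 → P i := stepQ 6559 Q6559 (allL N6559 (tt N6319 F291864) (tt N6323 F291865) (tt N6854 (iv2 F292289)) (tt N3079 F15253) (tt N13511 (iv4 F32761)) (tt N6458 F15254) (tt N3071 (iv6 D9783)) (tt N13118 F291866))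
theorem Q6561 : ∀ i, i < 6561 → P i := stepQ 6560 Q6560 (allL N6560 (tt N6205 F62491) (tt N3072 (iv0 D9789)) (tt N6207 (iv2 F62501)) (tt N13475 (iv3 F62771)) (tt N13512 D20647) (tt N13130 F293108) (tt N6198 (iv6 F62512)) (tt N3338 (iv7 F62500)))
theorem Q6562 : ∀ i, i < 6562 → P i := stepQ 6561 Q6561 (allL N6561 (tt N6207 F62494) (tt N3338 F62495) (tt N3072 (iv2 D9791)) (tt N6561 F15375) (tt N13513 D20655) (tt N3310 F293008) (tt N6138 F293009) (tt N6205 F62496))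
theorem Q6563 : ∀ i, i < 6563 → P i := stepQ 6562 Q6562 (allL N6562 (tt N13514 D20658) (tt N6213 F62728) (tt N13513 (iv2 F32765)) (tt N7064 (iv3 F17663)) (tt N3072 (iv4 D9792)) (tt N13515 D20660) (tt N6145 F293109) (tt N6563 (iv7 F15382)))
theorem Q6564 : ∀ i, i < 6564 → P i := stepQ 6563 Q6563 (allL N6563 (tt N6962 (iv1 F62731)) (tt N12849 F62725) (tt N12828 (iv2 F62492)) (tt N6912 F65704) (tt N3073 (iv4 D9808)) (tt N13516 D20694) (tt N13517 D20695) (tt N6562 F15382))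
theorem Q6565 : ∀ i, i < 6565 → P i := stepQ 6564 Q6564 (allL N6564 (tt N6224 F62469) (tt N6228 (iv0 F62470)) (tt N12829 (iv2 F62471)) (tt N3074 F15386) (tt N13517 (iv4 F32820)) (tt N13518 D20701) (tt N3073 (iv6 D9810)) (tt N7137 F293219))
theorem Q6566 : ∀ i, i < 6566 → P i := stepQ 6565 Q6565 (allL N6565 (tt N6133 F15393) (tt N6130 (iv0 F15396)) (tt N6565 F15390) (tt N13518 (iv3 F32825)) (tt N6337 F291349) (tt N3074 (iv5 D9812)) (tt N3336 (iv6 F292139)) (tt N3114 F15392))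
theorem Q6567 : ∀ i, i < 6567 → P i := stepQ 6566 Q6566 (allL N6566 (tt N6773 F292243) (tt N12832 F66126) (tt N12830 (iv2 F66154)) (tt N3075 (iv3 D9817)) (tt N13519 D20716) (tt N6567 F294254) (tt N13116 (iv6 F293303)) (tt N6352 F292244))
theorem Q6568 : ∀ i, i < 6568 → P i := stepQ 6567 Q6567 (allL N6567 (tt N7058 (iv1 F294205)) (tt N7062 (iv0 F294206)) (tt N12763 (iv2 F294253)) (tt N3076 (iv3 D9822)) (tt N13493 (iv4 F32681)) (tt N6566 (iv5 F294254)) (tt N3078 F15439) (tt N13131 F293190))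
theorem Q6569 : ∀ i, i < 6569 → P i := stepQ 6568 Q6568 (allL N6568 (tt N3080 (iv1 D9831)) (tt N6366 F16943) (tt N6231 (iv2 F16921)) (tt N6499 (iv3 F16922)) (tt N6632 F16944) (tt N12977 (iv5 F292065)) (tt N13145 (iv6 F31679)) (tt N6368 F16920))
theorem Q6570 : ∀ i, i < 6570 → P i := stepQ 6569 Q6569 (allL N6569 (tt N13132 F31629) (tt N13520 D20746) (tt N11998 (iv2 F29058)) (tt N3084 F15457) (tt N12721 F30736) (tt N3080 (iv5 D9832)) (tt N13207 (iv6 F31787)) (tt N6369 (iv7 F16841)))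
theorem Q6571 : ∀ i, i < 6571 → P i := stepQ 6570 Q6570 (allL N6570 (tt N3238 F15464) (tt N3249 (iv0 F15466)) (tt N3151 F15461) (tt N3082 F15462) (tt N7094 (iv4 F17803)) (tt N3081 (iv5 D9834)) (tt N13521 D20747) (tt N3194 F15463))
theorem Q6572 : ∀ i, i < 6572 → P i := stepQ 6571 Q6571 (allL N6571 (tt N3303 (iv1 F16938)) (tt N11880 (iv0 F28563)) (tt N3152 F15467) (tt N3083 F15468) (tt N6731 (iv4 F16320)) (tt N12925 (iv5 F31172)) (tt N3081 (iv6 D9835)) (tt N6370 (iv7 F16937)))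
theorem Q6573 : ∀ i, i < 6573 → P i := stepQ 6572 Q6572 (allL N6572 (tt N13522 D20748) (tt N7026 (iv0 F66796)) (tt N6607 (iv2 F15634)) (tt N13521 (iv3 F32900)) (tt N6416 F15469) (tt N13523 D20750) (tt N3082 (iv6 D9836)) (tt N13524 D20751))
theorem Q6574 : ∀ i, i < 6574 → P i := stepQ 6573 Q6573 (allL N6573 (tt N13366 (iv1 F32372)) (tt N7033 F17633) (tt N6551 (iv2 F16848)) (tt N12925 F31174) (tt N13202 (iv4 F31782)) (tt N3083 (iv5 D9839)) (tt N13523 (iv6 F32902)) (tt N6373 F16961))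
theorem Q6575 : ∀ i, i < 6575 → P i := stepQ 6574 Q6574 (allL N6574 (tt N13406 (iv1 F32493)) (tt N13405 F32490) (tt N6451 F15477) (tt N13525 D20752) (tt N3084 (iv4 D9847)) (tt N13526 D20753) (tt N13222 (iv6 F31803)) (tt N6382 (iv7 F16855)))
theorem Q6576 : ∀ i, i < 6576 → P i := stepQ 6575 Q6575 (allL N6575 (tt N6075 F15482) (tt N6265 F15483) (tt N3204 F15479) (tt N3147 F15480) (tt N5890 F15484) (tt N3085 (iv5 D9848)) (tt N13527 D20754) (tt N3202 F15481))
theorem Q6577 : ∀ i, i < 6577 → P i := stepQ 6576 Q6576 (allL N6576 (tt N6881 (iv1 F63130)) (tt N7013 (iv0 F63131)) (tt N6606 (iv2 F15571)) (tt N3149 F15490) (tt N6419 F15491) (tt N6384 (iv5 F17014)) (tt N3086 (iv6 D9854)) (tt N7012 (iv7 F63135)))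
theorem Q6578 : ∀ i, i < 6578 → P i := stepQ 6577 Q6577 (allL N6577 (tt N13528 D20758) (tt N13528 F32914) (tt N6608 (iv2 F15665)) (tt N3087 (iv3 D9867)) (tt N6577 F15512) (tt N13529 D20759) (tt N13530 D20760) (tt N6608 (iv7 F15667)))
theorem Q6579 : ∀ i, i < 6579 → P i := stepQ 6578 Q6578 (allL N6578 (tt N6532 F15515) (tt N6529 F15516) (tt N3091 F15513) (tt N13529 (iv3 F32915)) (tt N3105 F15514) (tt N3087 (iv5 D9868)) (tt N13531 D20761) (tt N6587 (iv7 F15530)))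
theorem Q6580 : ∀ i, i < 6580 → P i := stepQ 6579 Q6579 (allL N6579 (tt N13532 D20762) (tt N13533 D20763) (tt N3092 F15517) (tt N13530 (iv3 F32916)) (tt N3088 F15518) (tt N13534 D20764) (tt N3087 (iv6 D9869)) (tt N13535 D20765))
theorem Q6581 : ∀ i, i < 6581 → P i := stepQ 6580 Q6580 (allL N6580 (tt N3095 (iv1 F15524)) (tt N3088 (iv0 D9870)) (tt N3093 (iv2 F35730)) (tt N12736 F66239) (tt N13536 D20768) (tt N7138 F293537) (tt N13489 (iv6 F32680)) (tt N3094 (iv7 F35737)))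
theorem Q6582 : ∀ i, i < 6582 → P i := stepQ 6581 Q6581 (allL N6581 (tt N3088 (iv1 D9871)) (tt N3095 F15519) (tt N3094 F35738) (tt N13537 D20771) (tt N13538 D20772) (tt N6431 (iv5 F15520)) (tt N13539 D20773) (tt N3093 F35739))
theorem Q6583 : ∀ i, i < 6583 → P i := stepQ 6582 Q6582 (allL N6582 (tt N3094 (iv1 F15525)) (tt N3093 F15526) (tt N3095 F15521) (tt N6582 F15522) (tt N13535 (iv4 F32923)) (tt N6582 F15523) (tt N6483 (iv6 F291174)) (tt N3088 (iv7 D9872)))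
theorem Q6584 : ∀ i, i < 6584 → P i := stepQ 6583 Q6583 (allL N6583 (tt N13540 D20774) (tt N13541 D20775) (tt N11426 (iv2 F27774)) (tt N3089 (iv3 D9873)) (tt N12996 F31348) (tt N11421 F27767) (tt N13542 D20776) (tt N6610 (iv7 F15682)))
theorem Q6585 : ∀ i, i < 6585 → P i := stepQ 6584 Q6584 (allL N6584 (tt N13382 (iv1 F63170)) (tt N12708 (iv0 F63171)) (tt N6613 (iv2 F15686)) (tt N13542 (iv3 F32947)) (tt N6489 F15527) (tt N13543 D20779) (tt N3089 (iv6 D9874)) (tt N13544 D20780))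
theorem Q6586 : ∀ i, i < 6586 → P i := stepQ 6585 Q6585 (allL N6585 (tt N11438 (iv1 F27791)) (tt N11437 F27796) (tt N11440 (iv2 F27794)) (tt N3090 (iv3 D9875)) (tt N6748 (iv4 F16425)) (tt N11393 (iv5 F27692)) (tt N13545 D20781) (tt N6612 (iv7 F15685)))
theorem Q6587 : ∀ i, i < 6587 → P i := stepQ 6586 Q6586 (allL N6586 (tt N13102 (iv1 F63425)) (tt N13404 (iv0 F63422)) (tt N6611 (iv2 F15683)) (tt N13545 (iv3 F32949)) (tt N6501 F15528) (tt N13546 D20784) (tt N3090 (iv6 D9876)) (tt N13547 D20785))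
theorem Q6588 : ∀ i, i < 6588 → P i := stepQ 6587 Q6587 (allL N6587 (tt N6418 F15532) (tt N6415 F15533) (tt N3105 F15529) (tt N13548 D20786) (tt N3091 (iv4 D9877)) (tt N3101 F15531) (tt N13549 D20787) (tt N6578 F15530))
theorem Q6589 : ∀ i, i < 6589 → P i := stepQ 6588 Q6588 (allL N6588 (tt N13550 D20788) (tt N13551 D20789) (tt N13531 (iv2 F32918)) (tt N6614 (iv3 F15688)) (tt N13549 (iv4 F32956)) (tt N13552 D20790) (tt N3091 (iv6 D9878)) (tt N13553 D20791))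
theorem Q6590 : ∀ i, i < 6590 → P i := stepQ 6589 Q6589 (allL N6589 (tt N13535 (iv1 F32927)) (tt N3092 (iv0 D9879)) (tt N13532 (iv2 F63408)) (tt N13554 D20793) (tt N12992 F65917) (tt N13555 D20795) (tt N13556 D20796) (tt N13533 (iv7 F63412)))
theorem Q6591 : ∀ i, i < 6591 → P i := stepQ 6590 Q6590 (allL N6590 (tt N3092 (iv1 D9880)) (tt N13535 F32925) (tt N13533 (iv2 F63411)) (tt N13557 D20798) (tt N12993 (iv4 F65907)) (tt N13558 D20800) (tt N13559 D20801) (tt N13532 (iv7 F63409)))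
theorem Q6592 : ∀ i, i < 6592 → P i := stepQ 6591 Q6591 (allL N6591 (tt N13560 D20802) (tt N13561 D20803) (tt N13534 (iv2 F32921)) (tt N6617 (iv3 F15689)) (tt N13562 D20804) (tt N3092 (iv5 D9881)) (tt N13552 (iv6 F32957)) (tt N13563 D20805))
theorem Q6593 : ∀ i, i < 6593 → P i := stepQ 6592 Q6592 (allL N6592 (tt N13533 (iv1 F32920)) (tt N13532 F32924) (tt N13535 (iv2 F32922)) (tt N6484 F293721) (tt N3095 F15534) (tt N13563 (iv5 F32961)) (tt N6484 F293722) (tt N3092 (iv7 D9882)))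
theorem Q6594 : ∀ i, i < 6594 → P i := stepQ 6593 Q6593 (allL N6593 (tt N13564 D20812) (tt N12111 F66215) (tt N13565 D20814) (tt N3093 (iv3 D9884)) (tt N13566 D20815) (tt N13567 D20816) (tt N13568 D20817) (tt N13537 (iv7 F35747)))
theorem Q6595 : ∀ i, i < 6595 → P i := stepQ 6594 Q6594 (allL N6594 (tt N13569 D20819) (tt N13370 (iv0 F65889)) (tt N13536 (iv2 F35734)) (tt N13570 D20821) (tt N3093 (iv4 D9885)) (tt N13571 D20822) (tt N13572 D20823) (tt N13538 (iv7 F35749)))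
theorem Q6596 : ∀ i, i < 6596 → P i := stepQ 6595 Q6595 (allL N6595 (tt N7139 F293522) (tt N6243 (iv0 F35648)) (tt N7138 F293523) (tt N13567 (iv3 F32973)) (tt N13573 D20827) (tt N3093 (iv5 D9886)) (tt N7028 F290588) (tt N6431 (iv7 F35732)))
theorem Q6597 : ∀ i, i < 6597 → P i := stepQ 6596 Q6596 (allL N6596 (tt N6910 F290768) (tt N6913 (iv0 F291167)) (tt N13489 (iv2 F35736)) (tt N13568 (iv3 F32974)) (tt N13572 (iv4 F32977)) (tt N13418 F32518) (tt N3093 (iv6 D9887)) (tt N13486 (iv7 F35777)))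
theorem Q6598 : ∀ i, i < 6598 → P i := stepQ 6597 Q6597 (allL N6597 (tt N5854 (iv1 F66160)) (tt N12738 (iv0 F66161)) (tt N12737 (iv2 F66242)) (tt N3094 (iv3 D9889)) (tt N13002 F65815) (tt N13574 D20838) (tt N13575 D20839) (tt N12736 F66241))
theorem Q6599 : ∀ i, i < 6599 → P i := stepQ 6598 Q6598 (allL N6598 (tt N13370 (iv1 F65890)) (tt N13569 F32980) (tt N13538 (iv2 F35748)) (tt N13576 D20840) (tt N3094 (iv4 D9890)) (tt N13577 D20841) (tt N13578 D20842) (tt N13536 (iv7 F35735)))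
theorem Q6600 : ∀ i, i < 6600 → P i := stepQ 6599 Q6599 (allL N6599 (tt N6243 F35649) (tt N7139 (iv0 F292491)) (tt N6431 (iv2 F35731)) (tt N13574 (iv3 F32992)) (tt N13579 D20843) (tt N3094 (iv5 D9891)) (tt N6393 (iv6 F15537)) (tt N7138 (iv7 F292493)))
theorem Q6601 : ∀ i, i < 6601 → P i := stepQ 6600 Q6600 (allL N6600 (tt N13580 D20844) (tt N13384 (iv0 F35811)) (tt N13539 (iv2 F35750)) (tt N13575 (iv3 F32994)) (tt N13578 (iv4 F32995)) (tt N6327 F290813) (tt N3094 (iv6 D9892)) (tt N13581 D20847))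
theorem Q6602 : ∀ i, i < 6602 → P i := stepQ 6601 Q6601 (allL N6601 (tt N3096 (iv1 D9902)) (tt N6169 F66170) (tt N6170 (iv2 F66199)) (tt N13564 (iv3 F65891)) (tt N13582 D20879) (tt N6601 F33542) (tt N6144 (iv6 F292886)) (tt N6122 (iv7 F66198)))
theorem Q6603 : ∀ i, i < 6603 → P i := stepQ 6602 Q6602 (allL N6602 (tt N6122 (iv1 F66149)) (tt N6170 (iv0 F66150)) (tt N3096 (iv2 D9903)) (tt N6602 F15553) (tt N13583 D20882) (tt N6476 F293891) (tt N13584 D20883) (tt N6169 (iv7 F66153)))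
theorem Q6604 : ∀ i, i < 6604 → P i := stepQ 6603 Q6603 (allL N6603 (tt N13024 (iv1 F65821)) (tt N13585 D20885) (tt N13583 (iv2 F33024)) (tt N6558 F293962) (tt N3096 (iv4 D9904)) (tt N13586 D20886) (tt N13587 D20887) (tt N6556 F293963))
theorem Q6605 : ∀ i, i < 6605 → P i := stepQ 6604 Q6604 (allL N6604 (tt N13588 D20888) (tt N13589 D20889) (tt N13584 (iv2 F33028)) (tt N3097 F15559) (tt N13587 (iv4 F33033)) (tt N6353 F290895) (tt N3096 (iv6 D9905)) (tt N13117 (iv7 F291418)))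
theorem Q6606 : ∀ i, i < 6606 → P i := stepQ 6605 Q6605 (allL N6605 (tt N6345 (iv1 F292201)) (tt N3097 (iv0 D9906)) (tt N6605 F30675) (tt N13580 (iv3 F35714)) (tt N6130 F15561) (tt N3350 F15560) (tt N3335 (iv6 F293048)) (tt N6131 (iv7 F30667)))
theorem Q6607 : ∀ i, i < 6607 → P i := stepQ 6606 Q6606 (allL N6606 (tt N13590 D20892) (tt N3295 (iv0 F63119)) (tt N6576 F15571) (tt N6785 (iv3 F16616)) (tt N6530 F15572) (tt N6489 F17015) (tt N3099 (iv6 D9912)) (tt N13591 D20894))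
theorem Q6608 : ∀ i, i < 6608 → P i := stepQ 6607 Q6607 (allL N6607 (tt N13592 D20895) (tt N13593 D20896) (tt N6572 F15634) (tt N3119 F15635) (tt N6533 F15636) (tt N13496 (iv5 F32690)) (tt N3100 (iv6 D9927)) (tt N13594 D20897))
theorem Q6609 : ∀ i, i < 6609 → P i := stepQ 6608 Q6608 (allL N6608 (tt N13595 D20898) (tt N13595 F33054) (tt N6577 F15665) (tt N3101 (iv3 D9937)) (tt N6608 F15666) (tt N13548 (iv5 F32953)) (tt N13596 D20899) (tt N6577 F15667))
theorem Q6610 : ∀ i, i < 6610 → P i := stepQ 6609 Q6609 (allL N6609 (tt N13359 F292980) (tt N13358 F292981) (tt N3106 F15668) (tt N13596 (iv3 F33056)) (tt N3102 F15669) (tt N13597 D20902) (tt N3101 (iv6 D9938)) (tt N13357 F292982))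
theorem Q6611 : ∀ i, i < 6611 → P i := stepQ 6610 Q6610 (allL N6610 (tt N13598 D20918) (tt N13599 D20919) (tt N13600 D20920) (tt N3103 (iv3 D9944)) (tt N6845 F17031) (tt N13247 (iv5 F31848)) (tt N13601 D20921) (tt N6583 F15682))
theorem Q6612 : ∀ i, i < 6612 → P i := stepQ 6611 Q6611 (allL N6611 (tt N13169 (iv1 F63357)) (tt N13103 (iv0 F63358)) (tt N6586 F15683) (tt N13601 (iv3 F33094)) (tt N6371 F15684) (tt N13602 D20924) (tt N3103 (iv6 D9945)) (tt N13603 D20925))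
theorem Q6613 : ∀ i, i < 6613 → P i := stepQ 6612 Q6612 (allL N6612 (tt N13604 D20926) (tt N13605 D20927) (tt N5470 F26939) (tt N3104 (iv3 D9946)) (tt N6656 (iv4 F15997)) (tt N5447 (iv5 F26938)) (tt N13606 D20928) (tt N6585 F15685))
theorem Q6614 : ∀ i, i < 6614 → P i := stepQ 6613 Q6613 (allL N6613 (tt N12705 (iv1 F63210)) (tt N13187 (iv0 F63211)) (tt N6584 F15686) (tt N13606 (iv3 F33111)) (tt N6384 F15687) (tt N13607 D20931) (tt N3104 (iv6 D9947)) (tt N13608 D20932))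
theorem Q6615 : ∀ i, i < 6615 → P i := stepQ 6614 Q6614 (allL N6614 (tt N13609 D20933) (tt N13610 D20934) (tt N13549 (iv2 F32955)) (tt N6588 F15688) (tt N13531 (iv4 F32919)) (tt N13611 D20935) (tt N3105 (iv6 D9948)) (tt N13612 D20936))
theorem Q6616 : ∀ i, i < 6616 → P i := stepQ 6615 Q6615 (allL N6615 (tt N13357 F292783) (tt N3106 (iv0 D9949)) (tt N13359 F292784) (tt N13613 D20938) (tt N6838 F62864) (tt N13614 D20940) (tt N13615 D20941) (tt N13358 F292785))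
theorem Q6617 : ∀ i, i < 6617 → P i := stepQ 6616 Q6616 (allL N6616 (tt N3106 (iv1 D9950)) (tt N13357 F292070) (tt N13358 (iv2 F292143)) (tt N13616 D20943) (tt N6839 F62869) (tt N13617 D20945) (tt N13618 D20946) (tt N13359 (iv7 F292554)))
theorem Q6618 : ∀ i, i < 6618 → P i := stepQ 6617 Q6617 (allL N6617 (tt N13619 D20947) (tt N13620 D20948) (tt N13597 (iv2 F33059)) (tt N6591 F15689) (tt N13621 D20949) (tt N3106 (iv5 D9951)) (tt N13611 (iv6 F33124)) (tt N13360 (iv7 F292614)))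
theorem Q6619 : ∀ i, i < 6619 → P i := stepQ 6618 Q6618 (allL N6618 (tt N12718 F292640) (tt N12765 F62687) (tt N12770 (iv2 F62905)) (tt N3107 (iv3 D9954)) (tt N13343 F292641) (tt N3303 F292642) (tt N13622 D20962) (tt N12771 F62903))
theorem Q6620 : ∀ i, i < 6620 → P i := stepQ 6619 Q6619 (allL N6619 (tt N13294 (iv1 F291180)) (tt N13160 (iv0 F62850)) (tt N6276 (iv2 F291537)) (tt N13623 D20966) (tt N3107 (iv4 D9955)) (tt N13624 D20967) (tt N13625 D20968) (tt N13087 F291042))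
theorem Q6621 : ∀ i, i < 6621 → P i := stepQ 6620 Q6620 (allL N6620 (tt N13188 (iv1 F35724)) (tt N7093 (iv0 F292015)) (tt N3267 (iv2 F292093)) (tt N13622 (iv3 F33143)) (tt N13625 (iv4 F33146)) (tt N3240 (iv5 F291766)) (tt N3107 (iv6 D9957)) (tt N13288 (iv7 F35915)))
theorem Q6622 : ∀ i, i < 6622 → P i := stepQ 6621 Q6621 (allL N6621 (tt N6443 (iv1 F293248)) (tt N6448 F292644) (tt N12139 (iv2 F62888)) (tt N3108 (iv3 D9959)) (tt N6851 F62689) (tt N3305 F292645) (tt N13626 D20984) (tt N6273 F292646))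
theorem Q6623 : ∀ i, i < 6623 → P i := stepQ 6622 Q6622 (allL N6622 (tt N13160 (iv1 F62851)) (tt N13294 (iv0 F291179)) (tt N13087 F291044) (tt N13627 D20985) (tt N3108 (iv4 D9960)) (tt N13628 D20986) (tt N13629 D20987) (tt N6276 (iv7 F291538)))
theorem Q6624 : ∀ i, i < 6624 → P i := stepQ 6623 Q6623 (allL N6623 (tt N12706 (iv1 F35682)) (tt N13171 (iv0 F35809)) (tt N13088 F291275) (tt N13626 (iv3 F33159)) (tt N13629 (iv4 F33160)) (tt N7035 F291276) (tt N3108 (iv6 D9962)) (tt N13483 (iv7 F35941)))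
theorem Q6625 : ∀ i, i < 6625 → P i := stepQ 6624 Q6624 (allL N6624 (tt N3201 (iv1 F17403)) (tt N6705 F17394) (tt N3187 F15712) (tt N3110 (iv3 D9981)) (tt N6179 (iv4 F17398)) (tt N6173 F294265) (tt N6442 F16917) (tt N6624 F15767))
theorem Q6626 : ∀ i, i < 6626 → P i := stepQ 6625 Q6625 (allL N6625 (tt N12690 F62664) (tt N13498 (iv0 F294229)) (tt N12782 (iv2 F62565)) (tt N6691 (iv3 F16037)) (tt N3113 (iv4 D10027)) (tt N13630 D21081) (tt N13631 D21082) (tt N6155 F293506))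
theorem Q6627 : ∀ i, i < 6627 → P i := stepQ 6626 Q6626 (allL N6626 (tt N12699 (iv1 F62497)) (tt N12703 (iv0 F62498)) (tt N12783 (iv2 F62499)) (tt N3114 F15851) (tt N13631 (iv4 F33278)) (tt N7137 (iv5 F292758)) (tt N3113 (iv6 D10029)) (tt N13518 (iv7 F32827)))
theorem Q6628 : ∀ i, i < 6628 → P i := stepQ 6627 Q6627 (allL N6627 (tt N6149 F15940) (tt N5772 F15941) (tt N6693 (iv2 F16123)) (tt N5728 F15939) (tt N13632 D21154) (tt N3115 (iv5 D10082)) (tt N12581 (iv6 F295995)) (tt N6694 (iv7 F16130)))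
theorem Q6629 : ∀ i, i < 6629 → P i := stepQ 6628 Q6628 (allL N6628 (tt N3123 (iv1 F15943)) (tt N3116 (iv0 D10083)) (tt N6697 F16144) (tt N11518 (iv3 F27943)) (tt N13633 D21156) (tt N5673 F15942) (tt N12643 (iv6 F296247)) (tt N6696 F16140))
theorem Q6630 : ∀ i, i < 6630 → P i := stepQ 6629 Q6629 (allL N6629 (tt N3116 (iv1 D10084)) (tt N3123 F15944) (tt N6696 F16139) (tt N5534 (iv3 F15946)) (tt N13634 D21158) (tt N5533 F15945) (tt N13635 D21159) (tt N6697 (iv7 F16142)))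
theorem Q6631 : ∀ i, i < 6631 → P i := stepQ 6630 Q6630 (allL N6630 (tt N12613 (iv1 F296495)) (tt N12590 (iv0 F296243)) (tt N5703 F296178) (tt N6798 (iv3 F16654)) (tt N12340 (iv4 F29667)) (tt N13636 D21162) (tt N3116 (iv6 D10085)) (tt N12611 (iv7 F296494)))
theorem Q6632 : ∀ i, i < 6632 → P i := stepQ 6631 Q6631 (allL N6631 (tt N5694 (iv1 F16753)) (tt N3117 (iv0 D10086)) (tt N6711 (iv2 F16948)) (tt N8779 (iv3 F21976)) (tt N6112 F16950) (tt N13637 D21164) (tt N5673 (iv6 F16951)) (tt N6712 (iv7 F16949)))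
theorem Q6633 : ∀ i, i < 6633 → P i := stepQ 6632 Q6632 (allL N6632 (tt N3117 (iv1 D10087)) (tt N5694 (iv0 F16752)) (tt N6712 F16945) (tt N5719 F16947) (tt N6568 (iv4 F16944)) (tt N13638 D21165) (tt N13639 D21166) (tt N6711 F16946))
theorem Q6634 : ∀ i, i < 6634 → P i := stepQ 6633 Q6633 (allL N6633 (tt N13640 D21167) (tt N13641 D21168) (tt N6713 (iv2 F16212)) (tt N6799 (iv3 F16655)) (tt N13642 D21169) (tt N3117 (iv5 D10088)) (tt N13636 (iv6 F33398)) (tt N12711 (iv7 F30707)))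
theorem Q6635 : ∀ i, i < 6635 → P i := stepQ 6634 Q6634 (allL N6634 (tt N3118 (iv1 D10090)) (tt N3124 F15948) (tt N6700 F16161) (tt N6942 (iv3 F17240)) (tt N6364 F15949) (tt N13643 D21170) (tt N13644 D21171) (tt N6701 (iv7 F16164)))
theorem Q6636 : ∀ i, i < 6636 → P i := stepQ 6635 Q6635 (allL N6635 (tt N13645 D21172) (tt N13646 D21173) (tt N13647 D21174) (tt N3118 (iv3 D10091)) (tt N6531 F15950) (tt N13648 D21175) (tt N13649 D21176) (tt N6702 (iv7 F16168)))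
theorem Q6637 : ∀ i, i < 6637 → P i := stepQ 6636 Q6636 (allL N6636 (tt N12768 (iv1 F30853)) (tt N13650 D21177) (tt N6715 (iv2 F16220)) (tt N13648 (iv3 F33421)) (tt N12039 F29107) (tt N3118 (iv5 D10092)) (tt N13651 D21178) (tt N6703 (iv7 F16170)))
theorem Q6638 : ∀ i, i < 6638 → P i := stepQ 6637 Q6637 (allL N6637 (tt N13652 D21179) (tt N13653 D21180) (tt N6716 (iv2 F16222)) (tt N13649 (iv3 F33422)) (tt N3119 F15951) (tt N13654 D21181) (tt N3118 (iv6 D10093)) (tt N13655 D21182))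
theorem Q6639 : ∀ i, i < 6639 → P i := stepQ 6638 Q6638 (allL N6638 (tt N6719 (iv1 F16231)) (tt N3119 (iv0 D10094)) (tt N3357 (iv2 F66712)) (tt N6638 F66713) (tt N13656 D21185) (tt N13094 (iv5 F291361)) (tt N13657 D21187) (tt N6717 F66771))
theorem Q6640 : ∀ i, i < 6640 → P i := stepQ 6639 Q6639 (allL N6639 (tt N13658 D21193) (tt N6466 (iv0 F291106)) (tt N6718 (iv2 F16225)) (tt N13496 (iv3 F32688)) (tt N13659 D21195) (tt N3119 (iv5 D10096)) (tt N3120 F15952) (tt N7106 (iv7 F291119)))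
theorem Q6641 : ∀ i, i < 6641 → P i := stepQ 6640 Q6640 (allL N6640 (tt N6717 (iv1 F16224)) (tt N3357 (iv0 F66772)) (tt N6719 (iv2 F16227)) (tt N13594 (iv3 F33048)) (tt N13655 (iv4 F33426)) (tt N7106 F291216) (tt N3352 F63172) (tt N3119 (iv7 D10097)))
theorem Q6642 : ∀ i, i < 6642 → P i := stepQ 6641 Q6641 (allL N6641 (tt N13660 D21197) (tt N13661 D21198) (tt N6722 (iv2 F16249)) (tt N13662 D21199) (tt N3120 (iv4 D10108)) (tt N13663 D21200) (tt N13659 (iv6 F33429)) (tt N12712 (iv7 F30708)))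
theorem Q6643 : ∀ i, i < 6643 → P i := stepQ 6642 Q6642 (allL N6642 (tt N4200 F15960) (tt N6355 F15961) (tt N5791 F15957) (tt N5770 F15958) (tt N12599 (iv4 F30242)) (tt N3121 (iv5 D10110)) (tt N12480 (iv6 F295955)) (tt N6160 F15959))
theorem Q6644 : ∀ i, i < 6644 → P i := stepQ 6643 Q6643 (allL N6643 (tt N3340 F15967) (tt N3337 F15968) (tt N6193 F15965) (tt N13664 D21202) (tt N3122 (iv4 D10112)) (tt N13665 D21203) (tt N13666 D21204) (tt N6192 F15966))
theorem Q6645 : ∀ i, i < 6645 → P i := stepQ 6644 Q6644 (allL N6644 (tt N7000 (iv1 F63108)) (tt N6884 (iv0 F63109)) (tt N6785 (iv2 F16615)) (tt N3125 F15969) (tt N13666 (iv4 F33446)) (tt N6754 (iv5 F16969)) (tt N3122 (iv6 D10113)) (tt N6999 (iv7 F63113)))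
theorem Q6646 : ∀ i, i < 6646 → P i := stepQ 6645 Q6645 (allL N6645 (tt N12636 (iv1 F296506)) (tt N13667 D21209) (tt N6699 (iv2 F16150)) (tt N5687 F15972) (tt N12342 (iv4 F29669)) (tt N11810 (iv5 F28423)) (tt N3123 (iv6 D10118)) (tt N13668 D21210))
theorem Q6647 : ∀ i, i < 6647 → P i := stepQ 6646 Q6646 (allL N6646 (tt N13669 D21211) (tt N6942 (iv0 F17241)) (tt N13670 D21212) (tt N3124 (iv3 D10123)) (tt N13664 (iv4 F33439)) (tt N13671 D21213) (tt N13672 D21214) (tt N6714 (iv7 F16219)))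
theorem Q6648 : ∀ i, i < 6648 → P i := stepQ 6647 Q6647 (allL N6647 (tt N13650 (iv1 F33424)) (tt N12768 (iv0 F30852)) (tt N6703 (iv2 F16169)) (tt N13671 (iv3 F33449)) (tt N12038 (iv4 F29103)) (tt N3124 (iv5 D10124)) (tt N13673 D21215) (tt N6715 (iv7 F16221)))
theorem Q6649 : ∀ i, i < 6649 → P i := stepQ 6648 Q6648 (allL N6648 (tt N13674 D21216) (tt N12878 (iv0 F63149)) (tt N6704 (iv2 F16171)) (tt N13672 (iv3 F33450)) (tt N3125 F15976) (tt N13675 D21218) (tt N3124 (iv6 D10125)) (tt N7127 (iv7 F63152)))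
theorem Q6650 : ∀ i, i < 6650 → P i := stepQ 6649 Q6649 (allL N6649 (tt N13676 D21230) (tt N13676 F33456) (tt N6724 (iv2 F16270)) (tt N3126 (iv3 D10144)) (tt N6649 F15984) (tt N13677 D21231) (tt N13678 D21232) (tt N6724 (iv7 F16272)))
theorem Q6651 : ∀ i, i < 6651 → P i := stepQ 6650 Q6650 (allL N6650 (tt N6765 (iv1 F16469)) (tt N6764 F16466) (tt N3135 F15985) (tt N13677 (iv3 F33457)) (tt N6743 (iv4 F16400)) (tt N3126 (iv5 D10145)) (tt N13679 D21233) (tt N6725 (iv7 F16275)))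
theorem Q6652 : ∀ i, i < 6652 → P i := stepQ 6651 Q6651 (allL N6651 (tt N13566 F32972) (tt N13680 D21234) (tt N3136 F15986) (tt N13678 (iv3 F33458)) (tt N3127 F15987) (tt N13681 D21235) (tt N3126 (iv6 D10146)) (tt N13682 D21236))
theorem Q6653 : ∀ i, i < 6653 → P i := stepQ 6652 Q6652 (allL N6652 (tt N3139 (iv1 F15992)) (tt N3127 (iv0 D10147)) (tt N3137 (iv2 F63367)) (tt N6794 F65878) (tt N13683 D21239) (tt N12909 F294008) (tt N13323 F291925) (tt N3138 (iv7 F63374)))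
theorem Q6654 : ∀ i, i < 6654 → P i := stepQ 6653 Q6653 (allL N6653 (tt N3127 (iv1 D10148)) (tt N3139 F15988) (tt N3138 F63375) (tt N12993 F65909) (tt N13684 D21243) (tt N7059 (iv5 F17657)) (tt N13114 (iv6 F63237)) (tt N3137 F63376))
theorem Q6655 : ∀ i, i < 6655 → P i := stepQ 6654 Q6654 (allL N6654 (tt N3138 (iv1 F15993)) (tt N3137 F15994) (tt N3139 F15989) (tt N6654 F15990) (tt N13682 (iv4 F33464)) (tt N6654 F15991) (tt N6472 (iv6 F293329)) (tt N3127 (iv7 D10149)))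
theorem Q6656 : ∀ i, i < 6656 → P i := stepQ 6655 Q6655 (allL N6655 (tt N3128 (iv1 D10150)) (tt N3131 F15995) (tt N6746 F16419) (tt N13685 D21245) (tt N5851 F15996) (tt N13650 (iv5 F33425)) (tt N13686 D21246) (tt N6747 (iv7 F16422)))
theorem Q6657 : ∀ i, i < 6657 → P i := stepQ 6656 Q6656 (allL N6656 (tt N13687 D21247) (tt N13688 D21248) (tt N11439 (iv2 F27793)) (tt N3128 (iv3 D10151)) (tt N6612 F15997) (tt N13689 D21249) (tt N13690 D21250) (tt N6748 (iv7 F16426)))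
theorem Q6658 : ∀ i, i < 6658 → P i := stepQ 6657 Q6657 (allL N6657 (tt N13691 D21251) (tt N13692 D21252) (tt N6756 (iv2 F16441)) (tt N13689 (iv3 F33477)) (tt N12036 (iv4 F29098)) (tt N3128 (iv5 D10152)) (tt N13693 D21253) (tt N6749 (iv7 F16428)))
theorem Q6659 : ∀ i, i < 6659 → P i := stepQ 6658 Q6658 (allL N6658 (tt N13694 D21254) (tt N13695 D21255) (tt N6757 (iv2 F16443)) (tt N13690 (iv3 F33478)) (tt N3129 F15998) (tt N13696 D21256) (tt N3128 (iv6 D10153)) (tt N13104 (iv7 F63226)))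
theorem Q6660 : ∀ i, i < 6660 → P i := stepQ 6659 Q6659 (allL N6659 (tt N6121 F16002) (tt N6118 F16003) (tt N6165 F16000) (tt N13697 D21268) (tt N3130 (iv4 D10158)) (tt N10882 F302975) (tt N13698 D21269) (tt N6164 F16001))
theorem Q6661 : ∀ i, i < 6661 → P i := stepQ 6660 Q6660 (allL N6660 (tt N13699 D21270) (tt N13700 D21271) (tt N6790 (iv2 F16634)) (tt N3132 F16004) (tt N13698 (iv4 F33495)) (tt N7107 (iv5 F291031)) (tt N3130 (iv6 D10159)) (tt N13701 D21273))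
theorem Q6662 : ∀ i, i < 6662 → P i := stepQ 6661 Q6661 (allL N6661 (tt N13702 D21274) (tt N13685 (iv0 F33472)) (tt N13703 D21275) (tt N3131 (iv3 D10160)) (tt N13697 (iv4 F33492)) (tt N13704 D21276) (tt N13705 D21277) (tt N6755 (iv7 F16440)))
theorem Q6663 : ∀ i, i < 6663 → P i := stepQ 6662 Q6662 (allL N6662 (tt N13692 (iv1 F33484)) (tt N13691 F33481) (tt N6749 (iv2 F16427)) (tt N13704 (iv3 F33501)) (tt N12033 (iv4 F29094)) (tt N3131 (iv5 D10161)) (tt N13706 D21278) (tt N6756 (iv7 F16442)))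
theorem Q6664 : ∀ i, i < 6664 → P i := stepQ 6663 Q6663 (allL N6663 (tt N13707 D21279) (tt N13708 D21280) (tt N6750 (iv2 F16429)) (tt N13705 (iv3 F33502)) (tt N3132 F16005) (tt N13709 D21281) (tt N3131 (iv6 D10162)) (tt N13710 D21282))
theorem Q6665 : ∀ i, i < 6665 → P i := stepQ 6664 Q6664 (allL N6664 (tt N3132 (iv1 D10164)) (tt N6753 F16437) (tt N6353 (iv2 F63259)) (tt N6664 F63260) (tt N13711 D21289) (tt N13584 (iv5 F291397)) (tt N12810 (iv6 F291400)) (tt N6751 (iv7 F63265)))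
theorem Q6666 : ∀ i, i < 6666 → P i := stepQ 6665 Q6665 (allL N6665 (tt N6353 (iv1 F63239)) (tt N6751 F16436) (tt N6753 (iv2 F16434)) (tt N13701 (iv3 F33498)) (tt N13710 (iv4 F33503)) (tt N7101 (iv5 F291121)) (tt N6348 F63204) (tt N3132 (iv7 D10166)))
theorem Q6667 : ∀ i, i < 6667 → P i := stepQ 6666 Q6666 (allL N6666 (tt N13712 D21296) (tt N13713 D21297) (tt N13714 D21298) (tt N3133 (iv3 D10167)) (tt N12980 (iv4 F31292)) (tt N13715 D21299) (tt N13716 D21300) (tt N6758 (iv7 F16453)))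
theorem Q6668 : ∀ i, i < 6668 → P i := stepQ 6667 Q6667 (allL N6667 (tt N7041 (iv1 F17640)) (tt N3326 F16007) (tt N6762 (iv2 F16460)) (tt N13715 (iv3 F33510)) (tt N12027 (iv4 F29092)) (tt N3133 (iv5 D10168)) (tt N13717 D21301) (tt N6759 (iv7 F16455)))
theorem Q6669 : ∀ i, i < 6669 → P i := stepQ 6668 Q6668 (allL N6668 (tt N13105 (iv1 F35821)) (tt N6350 F35816) (tt N6763 (iv2 F16463)) (tt N13716 (iv3 F33511)) (tt N13361 (iv4 F32361)) (tt N13718 D21304) (tt N3133 (iv6 D10169)) (tt N13108 (iv7 F35861)))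
theorem Q6670 : ∀ i, i < 6670 → P i := stepQ 6669 Q6669 (allL N6669 (tt N13719 D21306) (tt N13720 D21307) (tt N13721 D21308) (tt N3134 (iv3 D10170)) (tt N6375 F16008) (tt N13722 D21309) (tt N13723 D21310) (tt N6761 (iv7 F16459)))
theorem Q6671 : ∀ i, i < 6671 → P i := stepQ 6670 Q6670 (allL N6670 (tt N3326 F16009) (tt N7041 (iv0 F17639)) (tt N6759 (iv2 F16454)) (tt N13722 (iv3 F33515)) (tt N12022 (iv4 F29087)) (tt N3134 (iv5 D10171)) (tt N13724 D21311) (tt N6762 (iv7 F16461)))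
theorem Q6672 : ∀ i, i < 6672 → P i := stepQ 6671 Q6671 (allL N6671 (tt N13109 (iv1 F35802)) (tt N13711 (iv0 F63261)) (tt N6760 (iv2 F16457)) (tt N13723 (iv3 F33518)) (tt N6367 F16010) (tt N13725 D21314) (tt N3134 (iv6 D10172)) (tt N13726 D21315))
theorem Q6673 : ∀ i, i < 6673 → P i := stepQ 6672 Q6672 (allL N6672 (tt N6725 (iv1 F16277)) (tt N3135 (iv0 D10173)) (tt N6765 F16472) (tt N13727 D21316) (tt N12012 (iv4 F29071)) (tt N3311 F16011) (tt N13728 D21317) (tt N6764 F16468))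
theorem Q6674 : ∀ i, i < 6674 → P i := stepQ 6673 Q6673 (allL N6673 (tt N3135 (iv1 D10174)) (tt N6725 (iv0 F16276)) (tt N6764 F16467) (tt N13729 D21318) (tt N12002 (iv4 F29063)) (tt N3312 F16012) (tt N13730 D21319) (tt N6765 (iv7 F16470)))
theorem Q6675 : ∀ i, i < 6675 → P i := stepQ 6674 Q6674 (allL N6674 (tt N12039 (iv1 F29105)) (tt N12038 F29104) (tt N6743 (iv2 F16398)) (tt N13731 D21320) (tt N3135 (iv4 D10175)) (tt N6723 (iv5 F16262)) (tt N13732 D21321) (tt N6766 (iv7 F16475)))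
theorem Q6676 : ∀ i, i < 6676 → P i := stepQ 6675 Q6675 (allL N6675 (tt N13733 D21322) (tt N13734 D21323) (tt N13679 (iv2 F33460)) (tt N6767 (iv3 F16476)) (tt N13732 (iv4 F33523)) (tt N13735 D21324) (tt N3135 (iv6 D10176)) (tt N13736 D21325))
theorem Q6677 : ∀ i, i < 6677 → P i := stepQ 6676 Q6676 (allL N6676 (tt N13682 (iv1 F33466)) (tt N3136 (iv0 D10177)) (tt N13566 (iv2 F35768)) (tt N13737 D21327) (tt N13565 (iv4 F35773)) (tt N13738 D21329) (tt N13739 D21330) (tt N13680 (iv7 F35772)))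
theorem Q6678 : ∀ i, i < 6678 → P i := stepQ 6677 Q6677 (allL N6677 (tt N3136 (iv1 D10178)) (tt N13682 F33465) (tt N13680 (iv2 F35771)) (tt N13740 D21332) (tt N13537 (iv4 F32943)) (tt N13741 D21333) (tt N13742 D21334) (tt N13566 (iv7 F35769)))
theorem Q6679 : ∀ i, i < 6679 → P i := stepQ 6678 Q6678 (allL N6678 (tt N13743 D21335) (tt N13744 D21336) (tt N13681 (iv2 F33462)) (tt N6770 (iv3 F16477)) (tt N13745 D21337) (tt N3136 (iv5 D10179)) (tt N13735 (iv6 F33524)) (tt N13746 D21338))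
theorem Q6680 : ∀ i, i < 6680 → P i := stepQ 6679 Q6679 (allL N6679 (tt N13680 (iv1 F33461)) (tt N13566 (iv0 F32970)) (tt N13682 (iv2 F33463)) (tt N6473 F293103) (tt N3139 F16013) (tt N13746 (iv5 F33527)) (tt N6473 F293104) (tt N3136 (iv7 D10180)))
theorem Q6681 : ∀ i, i < 6681 → P i := stepQ 6680 Q6680 (allL N6680 (tt N12994 (iv1 F65823)) (tt N12988 F65822) (tt N12992 (iv2 F65914)) (tt N3137 (iv3 D10182)) (tt N13532 F32926) (tt N13747 D21348) (tt N13748 D21349) (tt N12993 F65913))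
theorem Q6682 : ∀ i, i < 6682 → P i := stepQ 6681 Q6681 (allL N6681 (tt N13749 D21351) (tt N13686 (iv0 F66216)) (tt N13683 (iv2 F63371)) (tt N13750 D21353) (tt N3137 (iv4 D10183)) (tt N13751 D21354) (tt N13752 D21355) (tt N13684 (iv7 F63386)))
theorem Q6683 : ∀ i, i < 6683 → P i := stepQ 6682 Q6682 (allL N6682 (tt N12910 F293026) (tt N3361 (iv0 F63250)) (tt N12909 (iv2 F293030)) (tt N13747 (iv3 F33537)) (tt N13753 D21359) (tt N3137 (iv5 D10184)) (tt N7109 F290960) (tt N7059 (iv7 F63369)))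
theorem Q6684 : ∀ i, i < 6684 → P i := stepQ 6683 Q6683 (allL N6683 (tt N12810 (iv1 F291399)) (tt N6465 (iv0 F291421)) (tt N13323 (iv2 F291420)) (tt N13748 (iv3 F33538)) (tt N13752 (iv4 F33549)) (tt N13754 D21364) (tt N3137 (iv6 D10185)) (tt N13322 (iv7 F291419)))
theorem Q6685 : ∀ i, i < 6685 → P i := stepQ 6684 Q6684 (allL N6684 (tt N6786 (iv1 F65813)) (tt N6796 (iv0 F65814)) (tt N6795 F65876) (tt N3138 (iv3 D10187)) (tt N13755 D21370) (tt N13756 D21371) (tt N13757 D21372) (tt N6794 (iv7 F65877)))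
theorem Q6686 : ∀ i, i < 6686 → P i := stepQ 6685 Q6685 (allL N6685 (tt N13686 (iv1 F66217)) (tt N13749 F33552) (tt N13684 (iv2 F63385)) (tt N13758 D21373) (tt N3138 (iv4 D10188)) (tt N13759 D21374) (tt N13760 D21375) (tt N13683 (iv7 F63372)))
theorem Q6687 : ∀ i, i < 6687 → P i := stepQ 6686 Q6686 (allL N6686 (tt N3361 (iv1 F63251)) (tt N12910 F293027) (tt N7059 (iv2 F63368)) (tt N13756 (iv3 F33566)) (tt N13761 D21376) (tt N3138 (iv5 D10189)) (tt N7043 (iv6 F17643)) (tt N12909 (iv7 F293031)))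
theorem Q6688 : ∀ i, i < 6688 → P i := stepQ 6687 Q6687 (allL N6687 (tt N13116 (iv1 F63240)) (tt N13107 (iv0 F63297)) (tt N13114 (iv2 F63387)) (tt N13757 (iv3 F33567)) (tt N13760 (iv4 F33568)) (tt N6334 F291362) (tt N3138 (iv6 D10190)) (tt N13115 (iv7 F63407)))
theorem Q6689 : ∀ i, i < 6689 → P i := stepQ 6688 Q6688 (allL N6688 (tt N13503 (iv1 F292125)) (tt N6304 F66224) (tt N6831 (iv2 F65786)) (tt N6155 F293868) (tt N3140 (iv4 D10194)) (tt N13762 D21394) (tt N13763 D21395) (tt N6691 (iv7 F16038)))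
theorem Q6690 : ∀ i, i < 6690 → P i := stepQ 6689 Q6689 (allL N6689 (tt N7011 (iv1 F65717)) (tt N3298 (iv0 F65716)) (tt N6832 (iv2 F65719)) (tt N3141 F16018) (tt N13764 D21398) (tt N3140 (iv5 D10195)) (tt N7114 F291380) (tt N6146 F292759))
theorem Q6691 : ∀ i, i < 6691 → P i := stepQ 6690 Q6690 (allL N6690 (tt N6430 F291356) (tt N6434 F291357) (tt N6833 F65760) (tt N3142 F16019) (tt N13763 (iv4 F33588)) (tt N7093 (iv5 F17784)) (tt N3140 (iv6 D10196)) (tt N13325 F291358))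
theorem Q6692 : ∀ i, i < 6692 → P i := stepQ 6691 Q6691 (allL N6691 (tt N12114 F66220) (tt N13022 F66221) (tt N13005 (iv2 F65751)) (tt N6625 F16037) (tt N3143 (iv4 D10202)) (tt N13765 D21417) (tt N13766 D21418) (tt N6688 F16038))
theorem Q6693 : ∀ i, i < 6693 → P i := stepQ 6692 Q6692 (allL N6692 (tt N13069 (iv1 F65754)) (tt N12971 (iv0 F65755)) (tt N13006 (iv2 F65752)) (tt N3144 F16042) (tt N13766 (iv4 F33632)) (tt N6338 (iv5 F290660)) (tt N3143 (iv6 D10204)) (tt N13067 (iv7 F65758)))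
theorem Q6694 : ∀ i, i < 6694 → P i := stepQ 6693 Q6693 (allL N6693 (tt N5674 F16126) (tt N6134 F16127) (tt N6627 F16123) (tt N4187 F16124) (tt N12020 (iv4 F29086)) (tt N3145 (iv5 D10207)) (tt N11973 (iv6 F296114)) (tt N6069 F295959))
theorem Q6695 : ∀ i, i < 6695 → P i := stepQ 6694 Q6694 (allL N6694 (tt N6134 F16131) (tt N5674 F16132) (tt N6069 (iv2 F295871)) (tt N3227 F295734) (tt N12019 (iv4 F29083)) (tt N3146 (iv5 D10208)) (tt N3224 (iv6 F295776)) (tt N6627 F16130))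
theorem Q6696 : ∀ i, i < 6696 → P i := stepQ 6695 Q6695 (allL N6695 (tt N3186 F17428) (tt N3188 F17429) (tt N6070 (iv2 F295646)) (tt N3230 F295528) (tt N6173 F16135) (tt N3225 (iv5 F295648)) (tt N3146 (iv6 D10209)) (tt N6695 F16136))
theorem Q6697 : ∀ i, i < 6697 → P i := stepQ 6696 Q6696 (allL N6696 (tt N3153 (iv1 F16138)) (tt N3147 (iv0 D10210)) (tt N6629 (iv2 F16139)) (tt N8502 (iv3 F21241)) (tt N12000 (iv4 F29062)) (tt N6147 F16137) (tt N13767 D21429) (tt N6628 (iv7 F16140)))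
theorem Q6698 : ∀ i, i < 6698 → P i := stepQ 6697 Q6697 (allL N6697 (tt N3147 (iv1 D10211)) (tt N3153 F16141) (tt N6628 (iv2 F16144)) (tt N6049 (iv3 F16145)) (tt N11999 (iv4 F29059)) (tt N6148 F16143) (tt N13768 D21430) (tt N6629 F16142))
theorem Q6699 : ∀ i, i < 6699 → P i := stepQ 6698 Q6698 (allL N6698 (tt N5948 F16148) (tt N4227 F16149) (tt N5951 F16146) (tt N13769 D21431) (tt N3147 (iv4 D10212)) (tt N13770 D21432) (tt N13771 D21433) (tt N5950 F16147))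
theorem Q6700 : ∀ i, i < 6700 → P i := stepQ 6699 Q6699 (allL N6699 (tt N12639 (iv1 F296179)) (tt N12635 (iv0 F296180)) (tt N6645 F16150) (tt N13527 (iv3 F32908)) (tt N13771 (iv4 F33665)) (tt N12725 (iv5 F30748)) (tt N3147 (iv6 D10213)) (tt N13772 D21436))
theorem Q6701 : ∀ i, i < 6701 → P i := stepQ 6700 Q6700 (allL N6700 (tt N3155 (iv1 F16160)) (tt N3148 (iv0 D10218)) (tt N6634 (iv2 F16161)) (tt N13773 D21437) (tt N3339 F16159) (tt N13691 (iv5 F33480)) (tt N13774 D21438) (tt N6200 (iv7 F16162)))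
theorem Q6702 : ∀ i, i < 6702 → P i := stepQ 6701 Q6701 (allL N6701 (tt N3148 (iv1 D10219)) (tt N3155 F16163) (tt N6200 (iv2 F16166)) (tt N13775 D21439) (tt N6199 F16165) (tt N13692 (iv5 F33486)) (tt N13776 D21440) (tt N6634 F16164))
theorem Q6703 : ∀ i, i < 6703 → P i := stepQ 6702 Q6702 (allL N6702 (tt N13777 D21441) (tt N13778 D21442) (tt N13779 D21443) (tt N3148 (iv3 D10220)) (tt N6417 F16167) (tt N13780 D21444) (tt N13781 D21445) (tt N6635 F16168))
theorem Q6704 : ∀ i, i < 6704 → P i := stepQ 6703 Q6703 (allL N6703 (tt N13782 D21446) (tt N13783 D21447) (tt N6647 F16169) (tt N13780 (iv3 F33696)) (tt N13784 D21448) (tt N3148 (iv5 D10221)) (tt N13785 D21449) (tt N6636 F16170))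
theorem Q6705 : ∀ i, i < 6705 → P i := stepQ 6704 Q6704 (allL N6704 (tt N13786 D21450) (tt N13787 D21451) (tt N6648 F16171) (tt N13781 (iv3 F33698)) (tt N3149 F16172) (tt N13788 D21452) (tt N3148 (iv6 D10222)) (tt N7115 (iv7 F63183)))
theorem Q6706 : ∀ i, i < 6706 → P i := stepQ 6705 Q6705 (allL N6705 (tt N6624 (iv1 F17394)) (tt N3187 (iv0 F17395)) (tt N3201 F16192) (tt N3221 F16193) (tt N3225 F16194) (tt N6177 (iv5 F293628)) (tt N3150 (iv6 D10241)) (tt N6705 F16195))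
theorem Q6707 : ∀ i, i < 6707 → P i := stepQ 6706 Q6706 (allL N6706 (tt N3194 (iv1 F16200)) (tt N3151 (iv0 D10242)) (tt N3238 (iv2 F16199)) (tt N3260 F16198) (tt N3277 F16197) (tt N6150 F16196) (tt N13789 D21463) (tt N3249 F16201))
theorem Q6708 : ∀ i, i < 6708 → P i := stepQ 6707 Q6707 (allL N6707 (tt N13790 D21464) (tt N13149 F291130) (tt N13521 (iv2 F32899)) (tt N3156 F16202) (tt N12797 (iv4 F30927)) (tt N13791 D21466) (tt N3151 (iv6 D10243)) (tt N13792 D21467))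
theorem Q6709 : ∀ i, i < 6709 → P i := stepQ 6708 Q6708 (allL N6708 (tt N6370 F16933) (tt N3152 (iv0 D10244)) (tt N3303 (iv2 F16931)) (tt N6272 F16929) (tt N6091 F16930) (tt N12770 (iv5 F293694)) (tt N6150 (iv6 F16932)) (tt N11880 (iv7 F28562)))
theorem Q6710 : ∀ i, i < 6710 → P i := stepQ 6709 Q6709 (allL N6709 (tt N12921 (iv1 F31157)) (tt N12927 F31182) (tt N12925 F31173) (tt N3158 F16203) (tt N13793 D21469) (tt N3152 (iv5 D10246)) (tt N13791 (iv6 F33735)) (tt N12726 (iv7 F30750)))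
theorem Q6711 : ∀ i, i < 6711 → P i := stepQ 6710 Q6710 (allL N6710 (tt N4227 F16208) (tt N5948 F16209) (tt N5950 F16206) (tt N13794 D21470) (tt N3153 (iv4 D10248)) (tt N13784 (iv5 F33709)) (tt N11850 (iv6 F296183)) (tt N5951 F16207))
theorem Q6712 : ∀ i, i < 6712 → P i := stepQ 6711 Q6711 (allL N6711 (tt N6135 (iv1 F16747)) (tt N3154 (iv0 D10250)) (tt N6631 F16948) (tt N5542 (iv3 F16940)) (tt N6368 F16935) (tt N13795 D21476) (tt N6148 (iv6 F16941)) (tt N6632 (iv7 F16946)))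
theorem Q6713 : ∀ i, i < 6713 → P i := stepQ 6712 Q6712 (allL N6712 (tt N3154 (iv1 D10251)) (tt N6135 (iv0 F16746)) (tt N6632 (iv2 F16945)) (tt N11532 (iv3 F27984)) (tt N6231 F16928) (tt N13796 D21477) (tt N12715 F30723) (tt N6631 F16949))
theorem Q6714 : ∀ i, i < 6714 → P i := stepQ 6713 Q6713 (allL N6713 (tt N13797 D21478) (tt N13798 D21479) (tt N6633 F16212) (tt N8657 (iv3 F21600)) (tt N13799 D21480) (tt N3154 (iv5 D10252)) (tt N11851 (iv6 F296053)) (tt N11834 (iv7 F28485)))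
theorem Q6715 : ∀ i, i < 6715 → P i := stepQ 6714 Q6714 (allL N6714 (tt N13800 D21481) (tt N13775 (iv0 F33678)) (tt N13801 D21482) (tt N3155 (iv3 D10254)) (tt N12796 (iv4 F30926)) (tt N13802 D21483) (tt N13803 D21484) (tt N6646 F16219))
theorem Q6716 : ∀ i, i < 6716 → P i := stepQ 6715 Q6715 (allL N6715 (tt N13783 (iv1 F33704)) (tt N13782 F33701) (tt N6636 F16220) (tt N13802 (iv3 F33781)) (tt N13770 (iv4 F33661)) (tt N3155 (iv5 D10255)) (tt N13804 D21485) (tt N6647 F16221))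
theorem Q6717 : ∀ i, i < 6717 → P i := stepQ 6716 Q6716 (allL N6716 (tt N13805 D21486) (tt N13806 D21487) (tt N6637 F16222) (tt N13803 (iv3 F33783)) (tt N3156 F16223) (tt N13807 D21488) (tt N3155 (iv6 D10256)) (tt N13808 D21489))
theorem Q6718 : ∀ i, i < 6718 → P i := stepQ 6717 Q6717 (allL N6717 (tt N3156 (iv1 D10258)) (tt N6640 F16224) (tt N3362 (iv2 F66762)) (tt N6717 F66763) (tt N13809 D21497) (tt N6332 (iv5 F292133)) (tt N6359 F291902) (tt N6638 (iv7 F66771)))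
theorem Q6719 : ∀ i, i < 6719 → P i := stepQ 6718 Q6718 (allL N6718 (tt N7134 (iv1 F63205)) (tt N13329 (iv0 F291729)) (tt N6639 F16225) (tt N13791 (iv3 F33734)) (tt N13810 D21502) (tt N3156 (iv5 D10259)) (tt N3158 F16226) (tt N13335 F291122))
theorem Q6720 : ∀ i, i < 6720 → P i := stepQ 6719 Q6719 (allL N6719 (tt N3362 F66711) (tt N6638 F16231) (tt N6640 F16227) (tt N13792 (iv3 F33736)) (tt N13808 (iv4 F33788)) (tt N13335 F291120) (tt N3358 F63156) (tt N3156 (iv7 D10260)))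
theorem Q6721 : ∀ i, i < 6721 → P i := stepQ 6720 Q6720 (allL N6720 (tt N3167 F16329) (tt N5356 (iv0 F16798)) (tt N3364 (iv2 F16963)) (tt N5822 (iv3 F16993)) (tt N3157 (iv4 D10268)) (tt N13811 D21504) (tt N11227 (iv6 F27355)) (tt N5789 F16962))
theorem Q6722 : ∀ i, i < 6722 → P i := stepQ 6721 Q6721 (allL N6721 (tt N3158 (iv1 D10271)) (tt N6136 (iv0 F16775)) (tt N3365 F16237) (tt N6721 F16238) (tt N13812 D21507) (tt N6139 (iv5 F16236)) (tt N12873 (iv6 F293453)) (tt N6138 F16235))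
theorem Q6723 : ∀ i, i < 6723 → P i := stepQ 6722 Q6722 (allL N6722 (tt N13813 D21509) (tt N13814 D21510) (tt N6641 F16249) (tt N13815 D21511) (tt N3158 (iv4 D10272)) (tt N13816 D21512) (tt N13810 (iv6 F33798)) (tt N12727 (iv7 F30753)))
theorem Q6724 : ∀ i, i < 6724 → P i := stepQ 6723 Q6723 (allL N6723 (tt N5803 F16263) (tt N5802 F16264) (tt N3170 F16260) (tt N13817 D21513) (tt N3159 (iv4 D10274)) (tt N6674 F16262) (tt N6178 (iv6 F296108)) (tt N5794 F16261))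
theorem Q6725 : ∀ i, i < 6725 → P i := stepQ 6724 Q6724 (allL N6724 (tt N13818 D21520) (tt N13818 F33850) (tt N6649 F16270) (tt N3161 (iv3 D10277)) (tt N6724 F16271) (tt N13819 D21521) (tt N13820 D21522) (tt N6649 F16272))
theorem Q6726 : ∀ i, i < 6726 → P i := stepQ 6725 Q6725 (allL N6725 (tt N6673 F16276) (tt N6672 F16277) (tt N3182 F16273) (tt N13819 (iv3 F33852)) (tt N5804 F16274) (tt N3161 (iv5 D10278)) (tt N13821 D21523) (tt N6650 F16275))
theorem Q6727 : ∀ i, i < 6727 → P i := stepQ 6726 Q6726 (allL N6726 (tt N13343 (iv1 F291958)) (tt N13342 (iv0 F291962)) (tt N3183 F16278) (tt N13820 (iv3 F33855)) (tt N3162 F16279) (tt N13822 D21525) (tt N3161 (iv6 D10279)) (tt N13341 (iv7 F292266)))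
theorem Q6728 : ∀ i, i < 6728 → P i := stepQ 6727 Q6727 (allL N6727 (tt N5872 (iv1 F21592)) (tt N5898 F16295) (tt N5770 F16292) (tt N3164 F16293) (tt N5584 (iv4 F16296)) (tt N3163 (iv5 D10285)) (tt N13823 D21542) (tt N5771 F16294))
theorem Q6729 : ∀ i, i < 6729 → P i := stepQ 6728 Q6728 (allL N6728 (tt N13634 (iv1 F33396)) (tt N13633 (iv0 F33391)) (tt N5792 F16302) (tt N13824 D21543) (tt N3164 (iv4 D10287)) (tt N13825 D21544) (tt N13826 D21545) (tt N5787 F16303))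
theorem Q6730 : ∀ i, i < 6730 → P i := stepQ 6729 Q6729 (allL N6729 (tt N6005 (iv1 F116658)) (tt N4244 (iv0 F116659)) (tt N5793 F16304) (tt N13823 (iv3 F33887)) (tt N13826 (iv4 F33897)) (tt N5798 F17012) (tt N3164 (iv6 D10288)) (tt N6004 (iv7 F116660)))
theorem Q6731 : ∀ i, i < 6731 → P i := stepQ 6730 Q6730 (allL N6730 (tt N6355 F16316) (tt N4200 F16317) (tt N6160 F16313) (tt N3166 F16314) (tt N12598 (iv4 F30238)) (tt N3165 (iv5 D10293)) (tt N13827 D21549) (tt N5791 F16315))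
theorem Q6732 : ∀ i, i < 6732 → P i := stepQ 6731 Q6731 (allL N6731 (tt N6230 (iv1 F16926)) (tt N6232 (iv0 F16925)) (tt N6161 F16318) (tt N3167 F16319) (tt N6571 F16320) (tt N13828 D21550) (tt N3165 (iv6 D10294)) (tt N12574 (iv7 F30170)))
theorem Q6733 : ∀ i, i < 6733 → P i := stepQ 6732 Q6732 (allL N6732 (tt N13633 (iv1 F33392)) (tt N13634 (iv0 F33395)) (tt N5787 F16321) (tt N13829 D21551) (tt N3166 (iv4 D10295)) (tt N13830 D21552) (tt N13831 D21553) (tt N5792 F16322))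
theorem Q6734 : ∀ i, i < 6734 → P i := stepQ 6733 Q6733 (allL N6733 (tt N6030 (iv1 F126007)) (tt N12672 (iv0 F296444)) (tt N5788 F16323) (tt N13827 (iv3 F33906)) (tt N13831 (iv4 F33916)) (tt N13832 D21556) (tt N3166 (iv6 D10296)) (tt N13833 D21557))
theorem Q6735 : ∀ i, i < 6735 → P i := stepQ 6734 Q6734 (allL N6734 (tt N5361 F16327) (tt N13834 D21558) (tt N5790 F16326) (tt N13828 (iv3 F33908)) (tt N13835 D21559) (tt N3167 (iv5 D10299)) (tt N13832 (iv6 F33919)) (tt N12575 (iv7 F30175)))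
theorem Q6736 : ∀ i, i < 6736 → P i := stepQ 6735 Q6735 (allL N6735 (tt N13632 (iv1 F33386)) (tt N12585 F296109) (tt N5800 F16377) (tt N13836 D21560) (tt N3168 (iv4 D10301)) (tt N13837 D21561) (tt N13838 D21562) (tt N5797 F16378))
theorem Q6737 : ∀ i, i < 6737 → P i := stepQ 6736 Q6736 (allL N6736 (tt N13839 D21563) (tt N11538 (iv0 F116743)) (tt N5801 F16379) (tt N11816 (iv3 F28438)) (tt N13838 (iv4 F33937)) (tt N13840 D21565) (tt N3168 (iv6 D10302)) (tt N13841 D21566))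
theorem Q6738 : ∀ i, i < 6738 → P i := stepQ 6737 Q6737 (allL N6737 (tt N3171 F296083) (tt N4185 (iv0 F16383)) (tt N6162 F16380) (tt N3169 (iv3 D10303)) (tt N10885 F304658) (tt N5357 F16381) (tt N10890 (iv6 F306669)) (tt N5799 F16382))
theorem Q6739 : ∀ i, i < 6739 → P i := stepQ 6738 Q6738 (allL N6738 (tt N12585 F296110) (tt N13632 (iv0 F33385)) (tt N5797 F16385) (tt N13842 D21568) (tt N3169 (iv4 D10304)) (tt N13843 D21569) (tt N13844 D21570) (tt N5800 F16386))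
theorem Q6740 : ∀ i, i < 6740 → P i := stepQ 6739 Q6739 (allL N6739 (tt N5413 (iv1 F116655)) (tt N13845 D21572) (tt N5798 F16387) (tt N10890 F308505) (tt N13844 (iv4 F33954)) (tt N5793 F17011) (tt N3169 (iv6 D10305)) (tt N13846 D21573))
theorem Q6741 : ∀ i, i < 6741 → P i := stepQ 6740 Q6740 (allL N6740 (tt N5794 (iv1 F16389)) (tt N3170 (iv0 D10306)) (tt N5803 (iv2 F16390)) (tt N13847 D21574) (tt N6134 F16388) (tt N12343 (iv5 F29670)) (tt N13848 D21575) (tt N5802 (iv7 F16391)))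
theorem Q6742 : ∀ i, i < 6742 → P i := stepQ 6741 Q6741 (allL N6741 (tt N3170 (iv1 D10307)) (tt N5794 F16392) (tt N5802 (iv2 F16395)) (tt N13849 D21576) (tt N5674 F16394) (tt N12344 (iv5 F29677)) (tt N13850 D21577) (tt N5803 F16393))
theorem Q6743 : ∀ i, i < 6743 → P i := stepQ 6742 Q6742 (allL N6742 (tt N10636 F26848) (tt N10640 F26849) (tt N13851 D21578) (tt N3170 (iv3 D10308)) (tt N3986 F16396) (tt N10294 (iv5 F307005)) (tt N13852 D21580) (tt N5102 F16397))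
theorem Q6744 : ∀ i, i < 6744 → P i := stepQ 6743 Q6743 (allL N6743 (tt N13770 (iv1 F33663)) (tt N13784 (iv0 F33711)) (tt N6674 F16398) (tt N10294 F308779) (tt N6650 F16400) (tt N3170 (iv5 D10309)) (tt N13853 D21581) (tt N5804 F16399))
theorem Q6745 : ∀ i, i < 6745 → P i := stepQ 6744 Q6744 (allL N6744 (tt N11950 F296090) (tt N5553 F296091) (tt N6178 (iv2 F296107)) (tt N13852 (iv3 F33979)) (tt N3171 F16401) (tt N13854 D21584) (tt N3170 (iv6 D10310)) (tt N6163 (iv7 F296106)))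
theorem Q6746 : ∀ i, i < 6746 → P i := stepQ 6745 Q6745 (allL N6745 (tt N4185 F296084) (tt N3171 (iv0 D10311)) (tt N5799 (iv2 F296197)) (tt N5864 F296085) (tt N12578 F296086) (tt N6107 F296087) (tt N13855 D21590) (tt N6162 F296088))
theorem Q6747 : ∀ i, i < 6747 → P i := stepQ 6746 Q6746 (allL N6746 (tt N3178 (iv1 F16418)) (tt N3175 (iv0 D10323)) (tt N6655 (iv2 F16419)) (tt N13856 D21608) (tt N6120 F16417) (tt N13782 (iv5 F33700)) (tt N13857 D21609) (tt N6175 (iv7 F16420)))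
theorem Q6748 : ∀ i, i < 6748 → P i := stepQ 6747 Q6747 (allL N6747 (tt N3175 (iv1 D10324)) (tt N3178 F16421) (tt N6175 (iv2 F16424)) (tt N13010 (iv3 F31373)) (tt N6172 F16423) (tt N13783 (iv5 F33706)) (tt N13858 D21610) (tt N6655 F16422))
theorem Q6749 : ∀ i, i < 6749 → P i := stepQ 6748 Q6748 (allL N6748 (tt N13859 D21611) (tt N13860 D21612) (tt N13861 D21613) (tt N3175 (iv3 D10325)) (tt N6585 F16425) (tt N13862 D21614) (tt N13863 D21615) (tt N6656 F16426))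
theorem Q6750 : ∀ i, i < 6750 → P i := stepQ 6749 Q6749 (allL N6749 (tt N12813 (iv1 F30955)) (tt N13643 (iv0 F33415)) (tt N6662 F16427) (tt N13862 (iv3 F34022)) (tt N12344 F29679) (tt N3175 (iv5 D10326)) (tt N13864 D21616) (tt N6657 F16428))
theorem Q6751 : ∀ i, i < 6751 → P i := stepQ 6750 Q6750 (allL N6750 (tt N13865 D21617) (tt N13866 D21618) (tt N6663 F16429) (tt N13863 (iv3 F34025)) (tt N3176 F16430) (tt N13867 D21619) (tt N3175 (iv6 D10327)) (tt N13868 D21620))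
theorem Q6752 : ∀ i, i < 6752 → P i := stepQ 6751 Q6751 (allL N6751 (tt N6665 (iv1 F16436)) (tt N3176 (iv0 D10328)) (tt N6344 F63264) (tt N6751 F63253) (tt N13869 D21623) (tt N13870 D21624) (tt N13121 F63238) (tt N6664 F63265))
theorem Q6753 : ∀ i, i < 6753 → P i := stepQ 6752 Q6752 (allL N6752 (tt N3342 F291213) (tt N3346 F291214) (tt N3344 (iv2 F291579)) (tt N13393 (iv3 F32439)) (tt N13871 D21633) (tt N3176 (iv5 D10330)) (tt N6136 F16433) (tt N3343 F291215))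
theorem Q6754 : ∀ i, i < 6754 → P i := stepQ 6753 Q6753 (allL N6753 (tt N6664 (iv1 F16437)) (tt N6344 (iv0 F63243)) (tt N6665 F16434) (tt N13394 (iv3 F32442)) (tt N13868 (iv4 F34031)) (tt N3343 (iv5 F290972)) (tt N6339 F63227) (tt N3176 (iv7 D10331)))
theorem Q6755 : ∀ i, i < 6755 → P i := stepQ 6754 Q6754 (allL N6754 (tt N13056 (iv1 F63497)) (tt N12972 (iv0 F63558)) (tt N12920 (iv2 F31153)) (tt N3179 F16439) (tt N12746 (iv4 F30803)) (tt N6644 F16969) (tt N3177 (iv6 D10332)) (tt N13055 (iv7 F63127)))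
theorem Q6756 : ∀ i, i < 6756 → P i := stepQ 6755 Q6755 (allL N6755 (tt N13872 D21638) (tt N13010 (iv0 F31374)) (tt N13873 D21639) (tt N3178 (iv3 D10333)) (tt N12744 (iv4 F30800)) (tt N13874 D21640) (tt N13875 D21641) (tt N6661 F16440))
theorem Q6757 : ∀ i, i < 6757 → P i := stepQ 6756 Q6756 (allL N6756 (tt N13643 (iv1 F33416)) (tt N12813 (iv0 F30954)) (tt N6657 F16441) (tt N13874 (iv3 F34061)) (tt N12343 (iv4 F29671)) (tt N3178 (iv5 D10334)) (tt N13876 D21642) (tt N6662 F16442))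
theorem Q6758 : ∀ i, i < 6758 → P i := stepQ 6757 Q6757 (allL N6757 (tt N13877 D21643) (tt N13878 D21644) (tt N6658 F16443) (tt N13875 (iv3 F34063)) (tt N3179 F16444) (tt N13879 D21645) (tt N3178 (iv6 D10335)) (tt N13119 (iv7 F63203)))
theorem Q6759 : ∀ i, i < 6759 → P i := stepQ 6758 Q6758 (allL N6758 (tt N13880 D21656) (tt N13881 D21657) (tt N13882 D21658) (tt N3180 (iv3 D10340)) (tt N6818 (iv4 F16694)) (tt N13883 D21659) (tt N13884 D21660) (tt N6666 F16453))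
theorem Q6760 : ∀ i, i < 6760 → P i := stepQ 6759 Q6759 (allL N6759 (tt N7067 (iv1 F17708)) (tt N3313 F16456) (tt N6670 F16454) (tt N13883 (iv3 F34084)) (tt N13843 (iv4 F33951)) (tt N3180 (iv5 D10341)) (tt N13885 D21661) (tt N6667 F16455))
theorem Q6761 : ∀ i, i < 6761 → P i := stepQ 6760 Q6760 (allL N6760 (tt N13869 (iv1 F63255)) (tt N13124 (iv0 F35853)) (tt N6671 F16457) (tt N13884 (iv3 F34086)) (tt N12766 (iv4 F30850)) (tt N13886 D21664) (tt N3180 (iv6 D10342)) (tt N13887 D21665))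
theorem Q6762 : ∀ i, i < 6762 → P i := stepQ 6761 Q6761 (allL N6761 (tt N13888 D21666) (tt N13889 D21667) (tt N13890 D21668) (tt N3181 (iv3 D10343)) (tt N6491 F16458) (tt N11786 (iv5 F28369)) (tt N13891 D21669) (tt N6669 F16459))
theorem Q6763 : ∀ i, i < 6763 → P i := stepQ 6762 Q6762 (allL N6762 (tt N3313 F16462) (tt N7067 (iv0 F17707)) (tt N6667 F16460) (tt N11786 (iv3 F28370)) (tt N13837 (iv4 F33935)) (tt N3181 (iv5 D10344)) (tt N13892 D21670) (tt N6670 F16461))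
theorem Q6764 : ∀ i, i < 6764 → P i := stepQ 6763 Q6763 (allL N6763 (tt N6341 F35862) (tt N13120 (iv0 F35863)) (tt N6668 F16463) (tt N13891 (iv3 F34118)) (tt N6486 F16464) (tt N13893 D21673) (tt N3181 (iv6 D10345)) (tt N13123 (iv7 F35820)))
theorem Q6765 : ∀ i, i < 6765 → P i := stepQ 6764 Q6764 (allL N6764 (tt N6650 (iv1 F16466)) (tt N3182 (iv0 D10346)) (tt N6673 (iv2 F16467)) (tt N13894 D21675) (tt N13830 (iv4 F33913)) (tt N3324 F16465) (tt N13895 D21676) (tt N6672 (iv7 F16468)))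
theorem Q6766 : ∀ i, i < 6766 → P i := stepQ 6765 Q6765 (allL N6765 (tt N3182 (iv1 D10347)) (tt N6650 F16469) (tt N6672 (iv2 F16472)) (tt N13896 D21677) (tt N13825 (iv4 F33895)) (tt N3325 F16471) (tt N13897 D21678) (tt N6673 F16470))
theorem Q6767 : ∀ i, i < 6767 → P i := stepQ 6766 Q6766 (allL N6766 (tt N13784 (iv1 F33712)) (tt N13770 (iv0 F33662)) (tt N5804 F16473) (tt N13898 D21679) (tt N3182 (iv4 D10348)) (tt N5794 F16474) (tt N13899 D21680) (tt N6674 F16475))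
theorem Q6768 : ∀ i, i < 6768 → P i := stepQ 6767 Q6767 (allL N6767 (tt N13900 D21681) (tt N13901 D21682) (tt N13821 (iv2 F33857)) (tt N6675 F16476) (tt N13899 (iv4 F34139)) (tt N13902 D21683) (tt N3182 (iv6 D10349)) (tt N13903 D21684))
theorem Q6769 : ∀ i, i < 6769 → P i := stepQ 6768 Q6768 (allL N6768 (tt N13341 F293062) (tt N3183 (iv0 D10350)) (tt N13343 F293063) (tt N13904 D21686) (tt N12770 F62906) (tt N13905 D21688) (tt N13906 D21689) (tt N13342 F293064))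
theorem Q6770 : ∀ i, i < 6770 → P i := stepQ 6769 Q6769 (allL N6769 (tt N3183 (iv1 D10351)) (tt N13341 (iv0 F292264)) (tt N13342 (iv2 F291963)) (tt N13907 D21691) (tt N12771 F62902) (tt N13908 D21692) (tt N13909 D21693) (tt N13343 (iv7 F291960)))
theorem Q6771 : ∀ i, i < 6771 → P i := stepQ 6770 Q6770 (allL N6770 (tt N13910 D21694) (tt N13911 D21695) (tt N13822 (iv2 F33860)) (tt N6678 F16477) (tt N13912 D21696) (tt N3183 (iv5 D10352)) (tt N13902 (iv6 F34141)) (tt N13344 (iv7 F293052)))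
theorem Q6772 : ∀ i, i < 6772 → P i := stepQ 6771 Q6771 (allL N6771 (tt N6447 (iv1 F291884)) (tt N6834 F62662) (tt N6838 F62858) (tt N3184 (iv3 D10355)) (tt N13359 (iv4 F292552)) (tt N5386 F291593) (tt N13913 D21708) (tt N6839 (iv7 F62867)))
theorem Q6773 : ∀ i, i < 6773 → P i := stepQ 6772 Q6772 (allL N6772 (tt N13914 D21710) (tt N13858 (iv0 F62910)) (tt N12674 (iv2 F293878)) (tt N13915 D21712) (tt N3184 (iv4 D10356)) (tt N13916 D21713) (tt N13917 D21714) (tt N13137 F293638))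
theorem Q6774 : ∀ i, i < 6774 → P i := stepQ 6773 Q6773 (allL N6773 (tt N13122 (iv1 F63360)) (tt N6566 (iv0 F292243)) (tt N6206 F292207) (tt N13913 (iv3 F34157)) (tt N13917 (iv4 F34161)) (tt N3338 (iv5 F292523)) (tt N3184 (iv6 D10358)) (tt N13130 (iv7 F63320)))
theorem Q6775 : ∀ i, i < 6775 → P i := stepQ 6774 Q6774 (allL N6774 (tt N12975 (iv1 F62628)) (tt N6552 (iv0 F293206)) (tt N12977 (iv2 F62877)) (tt N3185 (iv3 D10360)) (tt N12780 F62621) (tt N6231 F292521) (tt N13918 D21731) (tt N12671 F292522))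
theorem Q6776 : ∀ i, i < 6776 → P i := stepQ 6775 Q6775 (allL N6775 (tt N13858 (iv1 F62911)) (tt N13914 F34164) (tt N13137 F293326) (tt N13919 D21732) (tt N3185 (iv4 D10361)) (tt N13920 D21733) (tt N13921 D21734) (tt N12674 (iv7 F293879)))
theorem Q6777 : ∀ i, i < 6777 → P i := stepQ 6776 Q6776 (allL N6776 (tt N6342 F63234) (tt N13121 (iv0 F63252)) (tt N13127 (iv2 F63285)) (tt N13918 (iv3 F34179)) (tt N13921 (iv4 F34180)) (tt N7126 F63241) (tt N3185 (iv6 D10363)) (tt N13128 (iv7 F63317)))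
theorem Q6778 : ∀ i, i < 6778 → P i := stepQ 6777 Q6777 (allL N6777 (tt N13639 F33408) (tt N12724 F30744) (tt N6141 (iv2 F16878)) (tt N4099 (iv3 F16905)) (tt N3189 F16520) (tt N13339 (iv5 F295894)) (tt N3188 (iv6 D10385)) (tt N6143 F16915))
theorem Q6779 : ∀ i, i < 6779 → P i := stepQ 6778 Q6778 (allL N6778 (tt N13922 D21855) (tt N13923 D21856) (tt N6185 F16596) (tt N3190 (iv3 D10427)) (tt N6778 F16597) (tt N12275 (iv5 F29558)) (tt N13924 D21857) (tt N3243 F16598))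
theorem Q6780 : ∀ i, i < 6780 → P i := stepQ 6779 Q6779 (allL N6779 (tt N13925 D21858) (tt N13307 F291055) (tt N3290 F16599) (tt N13924 (iv3 F34313)) (tt N3191 F16600) (tt N13926 D21860) (tt N3190 (iv6 D10428)) (tt N13927 D21861))
theorem Q6781 : ∀ i, i < 6781 → P i := stepQ 6780 Q6780 (allL N6780 (tt N3299 (iv1 F16608)) (tt N3191 (iv0 D10429)) (tt N3300 F66822) (tt N13592 (iv3 F66838)) (tt N13928 D21864) (tt N6507 F290662) (tt N13304 F290663) (tt N3301 F66823))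
theorem Q6782 : ∀ i, i < 6782 → P i := stepQ 6781 Q6781 (allL N6781 (tt N13285 F290630) (tt N13068 (iv0 F31439)) (tt N3302 F16602) (tt N6781 F16603) (tt N13929 D21873) (tt N3191 (iv5 D10431)) (tt N3192 F16604) (tt N13220 F290631))
theorem Q6783 : ∀ i, i < 6783 → P i := stepQ 6782 Q6782 (allL N6782 (tt N3301 (iv1 F16609)) (tt N3300 F16610) (tt N3299 F16605) (tt N6782 F16606) (tt N13927 (iv4 F34318)) (tt N13220 F290633) (tt N3248 F16607) (tt N3191 (iv7 D10432)))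
theorem Q6784 : ∀ i, i < 6784 → P i := stepQ 6783 Q6783 (allL N6783 (tt N13090 (iv1 F31467)) (tt N13089 F31466) (tt N3308 F16611) (tt N13930 D21875) (tt N3192 (iv4 D10433)) (tt N13931 D21876) (tt N13929 (iv6 F34330)) (tt N12916 (iv7 F31140)))
theorem Q6785 : ∀ i, i < 6785 → P i := stepQ 6784 Q6784 (allL N6784 (tt N8662 (iv1 F296661)) (tt N11961 (iv0 F296657)) (tt N3210 F16612) (tt N6065 F16613) (tt N11286 (iv4 F27533)) (tt N6784 F16614) (tt N3193 (iv6 D10434)) (tt N11901 F296147))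
theorem Q6786 : ∀ i, i < 6786 → P i := stepQ 6785 Q6785 (allL N6785 (tt N3291 (iv1 F63099)) (tt N13932 D21881) (tt N6644 F16615) (tt N6606 F16616) (tt N12798 (iv4 F30928)) (tt N12920 (iv5 F31155)) (tt N3194 (iv6 D10435)) (tt N13933 D21882))
theorem Q6787 : ∀ i, i < 6787 → P i := stepQ 6786 Q6786 (allL N6786 (tt N13934 D21883) (tt N6684 F65813) (tt N3200 F16625) (tt N12988 (iv3 F31334)) (tt N13024 (iv4 F31392)) (tt N6786 F16626) (tt N3195 (iv6 D10440)) (tt N13935 D21885))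
theorem Q6788 : ∀ i, i < 6788 → P i := stepQ 6787 Q6787 (allL N6787 (tt N11234 (iv1 F27376)) (tt N5559 F16665) (tt N3205 F16627) (tt N3197 F16628) (tt N12079 (iv4 F29184)) (tt N3196 (iv5 D10441)) (tt N13936 D21886) (tt N6066 F16629))
theorem Q6789 : ∀ i, i < 6789 → P i := stepQ 6788 Q6788 (allL N6788 (tt N12741 (iv1 F30791)) (tt N12024 (iv0 F29089)) (tt N6064 F16630) (tt N13937 D21887) (tt N3197 (iv4 D10442)) (tt N13938 D21888) (tt N13939 D21889) (tt N6068 F16631))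
theorem Q6790 : ∀ i, i < 6790 → P i := stepQ 6789 Q6789 (allL N6789 (tt N8659 (iv1 F118881)) (tt N11974 F118870) (tt N6065 F16632) (tt N13936 (iv3 F34360)) (tt N13939 (iv4 F34367)) (tt N6789 F16633) (tt N3197 (iv6 D10443)) (tt N11973 F118853))
theorem Q6791 : ∀ i, i < 6791 → P i := stepQ 6790 Q6790 (allL N6790 (tt N13080 (iv1 F63556)) (tt N13940 D21894) (tt N6660 F16634) (tt N6371 F16635) (tt N12748 (iv4 F30806)) (tt N13206 (iv5 F290971)) (tt N3198 (iv6 D10444)) (tt N13941 D21896))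
theorem Q6792 : ∀ i, i < 6792 → P i := stepQ 6791 Q6791 (allL N6791 (tt N13942 D21897) (tt N13943 D21898) (tt N13944 D21899) (tt N3199 (iv3 D10445)) (tt N3215 F16636) (tt N5816 (iv5 F16637)) (tt N13945 D21900) (tt N12976 (iv7 F31280)))
theorem Q6793 : ∀ i, i < 6793 → P i := stepQ 6792 Q6792 (allL N6792 (tt N3279 F16641) (tt N6186 F16642) (tt N6214 F16638) (tt N5816 F16639) (tt N13946 D21901) (tt N3199 (iv5 D10446)) (tt N13947 D21902) (tt N6215 F16640))
theorem Q6794 : ∀ i, i < 6794 → P i := stepQ 6793 Q6793 (allL N6793 (tt N6556 F294330) (tt N13583 (iv0 F65812)) (tt N13024 (iv2 F31391)) (tt N13945 (iv3 F34391)) (tt N3200 F16643) (tt N13948 D21905) (tt N3199 (iv6 D10447)) (tt N13585 (iv7 F65810)))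
theorem Q6795 : ∀ i, i < 6795 → P i := stepQ 6794 Q6794 (allL N6794 (tt N13935 (iv1 F34358)) (tt N3200 (iv0 D10448)) (tt N13934 (iv2 F65886)) (tt N6652 (iv3 F65878)) (tt N12757 F66226) (tt N13949 D21910) (tt N13950 D21911) (tt N6684 F65877))
theorem Q6796 : ∀ i, i < 6796 → P i := stepQ 6795 Q6795 (allL N6795 (tt N3200 (iv1 D10449)) (tt N13935 F34357) (tt N6684 (iv2 F65876)) (tt N13951 D21913) (tt N12758 F66230) (tt N13952 D21915) (tt N13953 D21916) (tt N13934 (iv7 F65888)))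
theorem Q6797 : ∀ i, i < 6797 → P i := stepQ 6796 Q6796 (allL N6796 (tt N6684 F65814) (tt N13934 F34356) (tt N13935 (iv2 F34354)) (tt N3219 F16644) (tt N13585 (iv4 F65808)) (tt N6796 F16645) (tt N6552 (iv6 F293207)) (tt N3200 (iv7 D10450)))
theorem Q6798 : ∀ i, i < 6798 → P i := stepQ 6797 Q6797 (allL N6797 (tt N5876 F16652) (tt N5873 F16653) (tt N5889 F16650) (tt N13954 D21917) (tt N3202 (iv4 D10454)) (tt N13955 D21918) (tt N13956 D21919) (tt N5890 F16651))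
theorem Q6799 : ∀ i, i < 6799 → P i := stepQ 6798 Q6798 (allL N6798 (tt N11857 (iv1 F296701)) (tt N11549 (iv0 F296591)) (tt N8645 (iv2 F296257)) (tt N6630 F16654) (tt N13956 (iv4 F34411)) (tt N13957 D21922) (tt N3202 (iv6 D10455)) (tt N11858 (iv7 F296704)))
theorem Q6800 : ∀ i, i < 6800 → P i := stepQ 6799 Q6799 (allL N6799 (tt N12918 (iv1 F31149)) (tt N12942 F31226) (tt N11840 (iv2 F28506)) (tt N6633 F16655) (tt N13958 D21924) (tt N3203 (iv5 D10458)) (tt N13957 (iv6 F34413)) (tt N12929 (iv7 F31188)))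
theorem Q6801 : ∀ i, i < 6801 → P i := stepQ 6800 Q6800 (allL N6800 (tt N5873 F16660) (tt N5876 F16661) (tt N5890 F16658) (tt N13959 D21925) (tt N3204 (iv4 D10460)) (tt N13960 D21926) (tt N13961 D21927) (tt N5889 F16659))
theorem Q6802 : ∀ i, i < 6802 → P i := stepQ 6801 Q6801 (allL N6801 (tt N12283 F59748) (tt N12287 (iv0 F59749)) (tt N13527 (iv2 F32907)) (tt N8561 (iv3 F21370)) (tt N13961 (iv4 F34425)) (tt N11991 (iv5 F28881)) (tt N3204 (iv6 D10461)) (tt N11861 (iv7 F296700)))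
theorem Q6803 : ∀ i, i < 6803 → P i := stepQ 6802 Q6802 (allL N6802 (tt N3205 (iv1 D10466)) (tt N6066 F16662) (tt N5559 F16664) (tt N11918 (iv3 F28684)) (tt N5830 F16666) (tt N5558 (iv5 F16663)) (tt N13962 D21931) (tt N11234 (iv7 F27374)))
theorem Q6804 : ∀ i, i < 6804 → P i := stepQ 6803 Q6803 (allL N6803 (tt N8681 (iv1 F21765)) (tt N8684 (iv0 F21776)) (tt N12079 F29186) (tt N13963 D21932) (tt N3205 (iv4 D10467)) (tt N13964 D21933) (tt N13965 D21934) (tt N12080 (iv7 F29188)))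
theorem Q6805 : ∀ i, i < 6805 → P i := stepQ 6804 Q6804 (allL N6804 (tt N11935 F118884) (tt N13966 D21936) (tt N13936 (iv2 F34359)) (tt N3210 F16668) (tt N13965 (iv4 F34437)) (tt N6804 F16669) (tt N3205 (iv6 D10468)) (tt N13967 D21937))
theorem Q6806 : ∀ i, i < 6806 → P i := stepQ 6805 Q6805 (allL N6805 (tt N5559 (iv1 F16673)) (tt N11234 (iv0 F27375)) (tt N6066 F16670) (tt N3211 F16671) (tt N12080 (iv4 F29189)) (tt N3206 F16672) (tt N4192 (iv6 F295968)) (tt N3205 (iv7 D10469)))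
theorem Q6807 : ∀ i, i < 6807 → P i := stepQ 6806 Q6806 (allL N6806 (tt N5836 (iv1 F17625)) (tt N5833 (iv0 F17611)) (tt N6067 F16674) (tt N3212 F16675) (tt N6067 F16676) (tt N4193 F295935) (tt N3206 (iv6 D10470)) (tt N6806 F16677))
theorem Q6808 : ∀ i, i < 6808 → P i := stepQ 6807 Q6807 (allL N6807 (tt N5391 F16680) (tt N5393 F16681) (tt N5857 F16678) (tt N13968 D21940) (tt N3207 (iv4 D10471)) (tt N12199 (iv5 F29495)) (tt N13969 D21941) (tt N5858 F16679))
theorem Q6809 : ∀ i, i < 6809 → P i := stepQ 6808 Q6808 (allL N6808 (tt N13970 D21942) (tt N13971 D21943) (tt N11991 (iv2 F28879)) (tt N12725 (iv3 F30746)) (tt N13969 (iv4 F34450)) (tt N13527 (iv5 F32910)) (tt N3207 (iv6 D10472)) (tt N13972 D21944))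
theorem Q6810 : ∀ i, i < 6810 → P i := stepQ 6809 Q6809 (allL N6809 (tt N5393 F16684) (tt N5391 F16685) (tt N5858 F16682) (tt N13973 D21945) (tt N3208 (iv4 D10473)) (tt N12198 (iv5 F29488)) (tt N13974 D21946) (tt N5857 F16683))
theorem Q6811 : ∀ i, i < 6811 → P i := stepQ 6810 Q6810 (allL N6810 (tt N13975 D21947) (tt N13976 D21948) (tt N12928 (iv2 F31183)) (tt N5682 F16686) (tt N13974 (iv4 F34454)) (tt N13977 D21949) (tt N3208 (iv6 D10474)) (tt N13978 D21950))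
theorem Q6812 : ∀ i, i < 6812 → P i := stepQ 6811 Q6811 (allL N6811 (tt N13979 D21951) (tt N13980 D21952) (tt N13981 D21953) (tt N3209 (iv3 D10475)) (tt N13963 (iv4 F34428)) (tt N12272 (iv5 F29554)) (tt N13982 D21954) (tt N11281 (iv7 F27516)))
theorem Q6813 : ∀ i, i < 6813 → P i := stepQ 6812 Q6812 (allL N6812 (tt N12132 F118894) (tt N12058 F118895) (tt N11286 (iv2 F27532)) (tt N13982 (iv3 F34460)) (tt N3210 F16687) (tt N13983 D21957) (tt N3209 (iv6 D10476)) (tt N13984 D21958))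
theorem Q6814 : ∀ i, i < 6814 → P i := stepQ 6813 Q6813 (allL N6813 (tt N11901 F296164) (tt N3210 (iv0 D10477)) (tt N8662 (iv2 F296662)) (tt N11974 F296165) (tt N13985 D21961) (tt N13986 D21962) (tt N13987 D21963) (tt N11961 (iv7 F296659)))
theorem Q6815 : ∀ i, i < 6815 → P i := stepQ 6814 Q6814 (allL N6814 (tt N11961 (iv1 F296658)) (tt N8662 (iv0 F296660)) (tt N11901 F296134) (tt N13967 (iv3 F34438)) (tt N13984 (iv4 F34461)) (tt N6814 F16688) (tt N5538 F296135) (tt N3210 (iv7 D10479)))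
theorem Q6816 : ∀ i, i < 6816 → P i := stepQ 6815 Q6815 (allL N6815 (tt N13988 D21974) (tt N13989 D21975) (tt N13990 D21976) (tt N3213 (iv3 D10482)) (tt N6385 F16692) (tt N13991 D21977) (tt N13992 D21978) (tt N12978 (iv7 F31289)))
theorem Q6817 : ∀ i, i < 6817 → P i := stepQ 6816 Q6816 (allL N6816 (tt N6858 (iv1 F17116)) (tt N6863 (iv0 F17136)) (tt N6903 F17213) (tt N13991 (iv3 F34478)) (tt N12198 (iv4 F29489)) (tt N3213 (iv5 D10483)) (tt N13993 D21979) (tt N6902 F17209))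
theorem Q6818 : ∀ i, i < 6818 → P i := stepQ 6817 Q6817 (allL N6817 (tt N12969 (iv1 F63435)) (tt N12973 (iv0 F35815)) (tt N12981 (iv2 F31296)) (tt N13992 (iv3 F34479)) (tt N6383 F16693) (tt N13994 D21982) (tt N3213 (iv6 D10484)) (tt N13060 (iv7 F35658)))
theorem Q6819 : ∀ i, i < 6819 → P i := stepQ 6818 Q6818 (allL N6818 (tt N6181 F16695) (tt N13995 D21984) (tt N13996 D21985) (tt N3214 (iv3 D10485)) (tt N6758 F16694) (tt N13997 D21986) (tt N13998 D21987) (tt N12980 (iv7 F31293)))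
theorem Q6820 : ∀ i, i < 6820 → P i := stepQ 6819 Q6819 (allL N6819 (tt N6863 (iv1 F17137)) (tt N6858 (iv0 F17115)) (tt N6902 F17208) (tt N13997 (iv3 F34491)) (tt N12199 (iv4 F29496)) (tt N3214 (iv5 D10486)) (tt N13999 D21988) (tt N6903 (iv7 F17211)))
theorem Q6821 : ∀ i, i < 6821 → P i := stepQ 6820 Q6820 (allL N6820 (tt N13081 (iv1 F63557)) (tt N13084 (iv0 F63705)) (tt N12979 (iv2 F31290)) (tt N13998 (iv3 F34492)) (tt N12735 (iv4 F30773)) (tt N14000 D21991) (tt N3214 (iv6 D10487)) (tt N14001 D21992))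
theorem Q6822 : ∀ i, i < 6822 → P i := stepQ 6821 Q6821 (allL N6821 (tt N3215 (iv1 D10488)) (tt N12093 F29201) (tt N8687 (iv2 F21781)) (tt N14002 D21993) (tt N5832 F16696) (tt N8679 (iv5 F21756)) (tt N14003 D21994) (tt N12078 (iv7 F29167)))
theorem Q6823 : ∀ i, i < 6823 → P i := stepQ 6822 Q6822 (allL N6822 (tt N12078 (iv1 F29170)) (tt N8687 F21784) (tt N3215 (iv2 D10489)) (tt N12997 (iv3 F31355)) (tt N13944 (iv4 F34388)) (tt N8788 F21997) (tt N14004 D21995) (tt N12093 (iv7 F29203)))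
theorem Q6824 : ∀ i, i < 6824 → P i := stepQ 6823 Q6823 (allL N6823 (tt N14005 D21996) (tt N14006 D21997) (tt N14004 (iv2 F34495)) (tt N3217 F16697) (tt N13945 (iv4 F34392)) (tt N14007 D21998) (tt N3215 (iv6 D10490)) (tt N14008 D21999))
theorem Q6825 : ∀ i, i < 6825 → P i := stepQ 6824 Q6824 (allL N6824 (tt N3232 (iv1 F16699)) (tt N3216 (iv0 D10491)) (tt N12984 F31308) (tt N14009 D22000) (tt N13960 (iv4 F34419)) (tt N3252 F16698) (tt N14010 D22001) (tt N12983 F31303))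
theorem Q6826 : ∀ i, i < 6826 → P i := stepQ 6825 Q6825 (allL N6825 (tt N3216 (iv1 D10492)) (tt N3232 F16700) (tt N12983 F31302) (tt N14011 D22002) (tt N13955 (iv4 F34407)) (tt N3253 F16701) (tt N14012 D22003) (tt N12984 (iv7 F31305)))
theorem Q6827 : ∀ i, i < 6827 → P i := stepQ 6826 Q6826 (allL N6826 (tt N14013 D22004) (tt N14014 D22005) (tt N13000 (iv2 F31362)) (tt N12386 (iv3 F29812)) (tt N12274 (iv4 F29557)) (tt N14015 D22006) (tt N3216 (iv6 D10493)) (tt N14016 D22007))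
theorem Q6828 : ∀ i, i < 6828 → P i := stepQ 6827 Q6827 (allL N6827 (tt N13004 (iv1 F31370)) (tt N3217 (iv0 D10494)) (tt N13001 (iv2 F65839)) (tt N14017 D22009) (tt N12736 F66240) (tt N14018 D22011) (tt N14019 D22012) (tt N13002 (iv7 F65841)))
theorem Q6829 : ∀ i, i < 6829 → P i := stepQ 6828 Q6828 (allL N6828 (tt N3217 (iv1 D10495)) (tt N13004 F31369) (tt N13002 F65842) (tt N14020 D22014) (tt N12737 F66244) (tt N14021 D22016) (tt N14022 D22017) (tt N13001 F65843))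
theorem Q6830 : ∀ i, i < 6830 → P i := stepQ 6829 Q6829 (allL N6829 (tt N14023 D22018) (tt N14024 D22019) (tt N13003 (iv2 F31364)) (tt N14007 (iv3 F34496)) (tt N14025 D22020) (tt N3217 (iv5 D10496)) (tt N14015 (iv6 F34501)) (tt N14026 D22021))
theorem Q6831 : ∀ i, i < 6831 → P i := stepQ 6830 Q6830 (allL N6830 (tt N13002 (iv1 F31363)) (tt N13001 F31368) (tt N13004 (iv2 F31365)) (tt N14008 (iv3 F34497)) (tt N3219 F16702) (tt N14026 (iv5 F34504)) (tt N6553 (iv6 F293139)) (tt N3217 (iv7 D10497)))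
theorem Q6832 : ∀ i, i < 6832 → P i := stepQ 6831 Q6831 (allL N6831 (tt N13022 F66218) (tt N12114 F66219) (tt N6688 F65786) (tt N14027 D22037) (tt N3218 (iv4 D10500)) (tt N14028 D22038) (tt N14029 D22039) (tt N13005 (iv7 F35514)))
theorem Q6833 : ∀ i, i < 6833 → P i := stepQ 6832 Q6832 (allL N6832 (tt N7021 F17339) (tt N6886 F17367) (tt N6689 F65719) (tt N6832 F65748) (tt N14030 D22041) (tt N3218 (iv5 D10501)) (tt N13221 F290967) (tt N6911 F35507))
theorem Q6834 : ∀ i, i < 6834 → P i := stepQ 6833 Q6833 (allL N6833 (tt N13085 (iv1 F63007)) (tt N13066 (iv0 F31435)) (tt N6690 (iv2 F65760)) (tt N6833 F65762) (tt N14029 (iv4 F34517)) (tt N6936 F17237) (tt N3218 (iv6 D10502)) (tt N13276 F291160))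
theorem Q6835 : ∀ i, i < 6835 → P i := stepQ 6834 Q6834 (allL N6834 (tt N6771 (iv1 F62662)) (tt N13293 (iv0 F291594)) (tt N3223 F16707) (tt N12975 (iv3 F31276)) (tt N13160 (iv4 F31715)) (tt N11254 (iv5 F292215)) (tt N3220 (iv6 D10509)) (tt N13291 (iv7 F292073)))
theorem Q6836 : ∀ i, i < 6836 → P i := stepQ 6835 Q6835 (allL N6835 (tt N14031 D22067) (tt N14032 D22068) (tt N14033 D22069) (tt N3222 (iv3 D10511)) (tt N3231 F16710) (tt N14034 D22070) (tt N14035 D22071) (tt N12989 (iv7 F31337)))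
theorem Q6837 : ∀ i, i < 6837 → P i := stepQ 6836 Q6836 (allL N6836 (tt N6412 F16711) (tt N6404 F16712) (tt N13159 (iv2 F31711)) (tt N14034 (iv3 F34542)) (tt N12990 (iv4 F31339)) (tt N3222 (iv5 D10512)) (tt N14036 D22072) (tt N12990 (iv7 F31338)))
theorem Q6838 : ∀ i, i < 6838 → P i := stepQ 6837 Q6837 (allL N6837 (tt N6276 (iv1 F291536)) (tt N13087 F291229) (tt N13160 (iv2 F31714)) (tt N14035 (iv3 F34543)) (tt N3223 F16713) (tt N14037 D22075) (tt N3222 (iv6 D10513)) (tt N13294 F291230))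
theorem Q6839 : ∀ i, i < 6839 → P i := stepQ 6838 Q6838 (allL N6838 (tt N13291 F292407) (tt N3223 (iv0 D10514)) (tt N6771 (iv2 F62858)) (tt N13151 (iv3 F292518)) (tt N6615 (iv4 F62864)) (tt N5941 F292408) (tt N14038 D22081) (tt N13293 F292409))
theorem Q6840 : ∀ i, i < 6840 → P i := stepQ 6839 Q6839 (allL N6839 (tt N3223 (iv1 D10515)) (tt N13291 (iv0 F292071)) (tt N13293 (iv2 F291595)) (tt N6361 (iv3 F292068)) (tt N6616 (iv4 F62869)) (tt N5944 (iv5 F291516)) (tt N14039 D22086) (tt N6771 F62867))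
theorem Q6841 : ∀ i, i < 6841 → P i := stepQ 6840 Q6840 (allL N6840 (tt N12024 (iv1 F29090)) (tt N12741 (iv0 F30790)) (tt N6068 F16725) (tt N14040 D22093) (tt N3224 (iv4 D10531)) (tt N13946 (iv5 F34395)) (tt N12019 F295922) (tt N6064 F16726))
theorem Q6842 : ∀ i, i < 6842 → P i := stepQ 6841 Q6841 (allL N6841 (tt N12137 (iv1 F29354)) (tt N9559 (iv0 F299892)) (tt N14041 D22101) (tt N3226 (iv3 D10534)) (tt N14040 (iv4 F34558)) (tt N5578 F16732) (tt N14042 D22102) (tt N11284 (iv7 F27524)))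
theorem Q6843 : ∀ i, i < 6843 → P i := stepQ 6842 Q6842 (allL N6842 (tt N12095 F117930) (tt N12085 (iv0 F295977)) (tt N11283 (iv2 F27522)) (tt N14042 (iv3 F34583)) (tt N3227 F16733) (tt N14043 D22105) (tt N3226 (iv6 D10535)) (tt N11900 (iv7 F295978)))
theorem Q6844 : ∀ i, i < 6844 → P i := stepQ 6843 Q6843 (allL N6843 (tt N6269 (iv1 F17566)) (tt N6249 (iv0 F17024)) (tt N6266 (iv2 F17594)) (tt N5780 F17595) (tt N11254 (iv4 F27424)) (tt N11718 (iv5 F295927)) (tt N3228 (iv6 D10544)) (tt N6267 F17593))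
theorem Q6845 : ∀ i, i < 6845 → P i := stepQ 6844 Q6844 (allL N6844 (tt N12997 (iv1 F31357)) (tt N3231 (iv0 D10549)) (tt N12996 (iv2 F31351)) (tt N14044 D22125) (tt N11426 F31352) (tt N14045 D22126) (tt N14046 D22127) (tt N12995 F31353))
theorem Q6846 : ∀ i, i < 6846 → P i := stepQ 6845 Q6845 (allL N6845 (tt N3231 (iv1 D10550)) (tt N12997 F31358) (tt N12995 F31350) (tt N6165 (iv3 F17030)) (tt N6610 (iv4 F17031)) (tt N14047 D22128) (tt N14048 D22129) (tt N12996 (iv7 F31349)))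
theorem Q6847 : ∀ i, i < 6847 → P i := stepQ 6846 Q6846 (allL N6846 (tt N12996 (iv1 F31354)) (tt N12995 F31346) (tt N3231 (iv2 D10551)) (tt N12093 (iv3 F29204)) (tt N14033 (iv4 F34541)) (tt N12384 (iv5 F29810)) (tt N14049 D22130) (tt N12997 (iv7 F31356)))
theorem Q6848 : ∀ i, i < 6848 → P i := stepQ 6847 Q6847 (allL N6847 (tt N14050 D22131) (tt N14051 D22132) (tt N12384 (iv2 F29809)) (tt N3232 F17032) (tt N14052 D22133) (tt N3231 (iv5 D10552)) (tt N14053 D22134) (tt N12998 (iv7 F31360)))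
theorem Q6849 : ∀ i, i < 6849 → P i := stepQ 6848 Q6848 (allL N6848 (tt N14054 D22135) (tt N14055 D22136) (tt N14049 (iv2 F34601)) (tt N3233 F17033) (tt N14035 (iv4 F34544)) (tt N14056 D22137) (tt N3231 (iv6 D10553)) (tt N13296 F293119))
theorem Q6850 : ∀ i, i < 6850 → P i := stepQ 6849 Q6849 (allL N6849 (tt N14057 D22139) (tt N14058 D22140) (tt N12985 (iv2 F31309)) (tt N14053 (iv3 F34603)) (tt N12273 (iv4 F29555)) (tt N14059 D22141) (tt N3232 (iv6 D10554)) (tt N14060 D22142))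
theorem Q6851 : ∀ i, i < 6851 → P i := stepQ 6850 Q6850 (allL N6850 (tt N6553 (iv1 F293138)) (tt N3233 (iv0 D10555)) (tt N12950 F292680) (tt N14061 D22144) (tt N12948 (iv4 F293136)) (tt N14062 D22146) (tt N14063 D22147) (tt N12986 (iv7 F62916)))
theorem Q6852 : ∀ i, i < 6852 → P i := stepQ 6851 Q6851 (allL N6851 (tt N3233 (iv1 D10556)) (tt N6553 (iv0 F293137)) (tt N12986 (iv2 F62914)) (tt N14064 D22149) (tt N6621 (iv4 F62689)) (tt N14065 D22151) (tt N14066 D22152) (tt N12950 F292913))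
theorem Q6853 : ∀ i, i < 6853 → P i := stepQ 6852 Q6852 (allL N6852 (tt N14067 D22153) (tt N14068 D22154) (tt N12987 (iv2 F31311)) (tt N14056 (iv3 F34604)) (tt N13502 (iv4 F295031)) (tt N3233 (iv5 D10557)) (tt N14059 (iv6 F34606)) (tt N13297 F294375))
theorem Q6854 : ∀ i, i < 6854 → P i := stepQ 6853 Q6853 (allL N6853 (tt N6555 (iv1 F293711)) (tt N6554 (iv0 F293204)) (tt N6558 (iv2 F293306)) (tt N14069 D22191) (tt N3234 (iv4 D10566)) (tt N13508 (iv5 F293447)) (tt N14070 D22193) (tt N6515 F292942))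
theorem Q6855 : ∀ i, i < 6855 → P i := stepQ 6854 Q6854 (allL N6854 (tt N12970 F34631) (tt N12974 (iv0 F35494)) (tt N6559 F292289) (tt N6854 F62159) (tt N14070 (iv4 F34636)) (tt N7008 (iv5 F17317)) (tt N3234 (iv6 D10568)) (tt N13064 (iv7 F35009)))
theorem Q6856 : ∀ i, i < 6856 → P i := stepQ 6855 Q6855 (allL N6855 (tt N13256 F65861) (tt N13260 (iv0 F65862)) (tt N13365 (iv2 F32365)) (tt N3237 F17107) (tt N13424 (iv4 F32537)) (tt N13415 (iv5 F291182)) (tt N3235 (iv6 D10600)) (tt N13477 (iv7 F290913)))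
theorem Q6857 : ∀ i, i < 6857 → P i := stepQ 6856 Q6856 (allL N6856 (tt N3239 (iv1 F17110)) (tt N3236 (iv0 D10601)) (tt N3252 (iv2 F17109)) (tt N14071 D22233) (tt N5849 F17108) (tt N12984 (iv5 F31306)) (tt N14072 D22234) (tt N3253 F17111))
theorem Q6858 : ∀ i, i < 6858 → P i := stepQ 6857 Q6857 (allL N6857 (tt N14073 D22235) (tt N13235 (iv0 F31831)) (tt N14074 D22236) (tt N3236 (iv3 D10602)) (tt N13423 (iv4 F32532)) (tt N14075 D22237) (tt N14076 D22238) (tt N3263 F17112))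
theorem Q6859 : ∀ i, i < 6859 → P i := stepQ 6858 Q6858 (allL N6858 (tt N6819 F17115) (tt N6816 F17116) (tt N3255 F17113) (tt N14075 (iv3 F34699)) (tt N12163 (iv4 F29443)) (tt N3236 (iv5 D10603)) (tt N14077 D22239) (tt N3264 F17114))
theorem Q6860 : ∀ i, i < 6860 → P i := stepQ 6859 Q6859 (allL N6859 (tt N14078 D22240) (tt N13278 (iv0 F65666)) (tt N3256 F17117) (tt N14076 (iv3 F34702)) (tt N3237 F17118) (tt N14079 D22242) (tt N3236 (iv6 D10604)) (tt N13482 (iv7 F292032)))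
theorem Q6861 : ∀ i, i < 6861 → P i := stepQ 6860 Q6860 (allL N6860 (tt N3237 (iv1 D10606)) (tt N3259 F17120) (tt N3258 (iv2 F35526)) (tt N6860 F65660) (tt N14080 D22250) (tt N14081 D22251) (tt N13303 F291346) (tt N3257 F35518))
theorem Q6862 : ∀ i, i < 6862 → P i := stepQ 6861 Q6861 (allL N6861 (tt N14082 D22257) (tt N14083 D22258) (tt N13789 (iv2 F33731)) (tt N3240 F17128) (tt N6213 F17129) (tt N13622 F292792) (tt N3238 (iv6 D10609)) (tt N13286 F292793))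
theorem Q6863 : ∀ i, i < 6863 → P i := stepQ 6862 Q6862 (allL N6862 (tt N8790 (iv1 F22006)) (tt N12381 F29799) (tt N12387 F29815) (tt N3239 (iv3 D10610)) (tt N6211 F17130) (tt N5831 (iv5 F17132)) (tt N14084 D22261) (tt N3254 F17131))
theorem Q6864 : ∀ i, i < 6864 → P i := stepQ 6863 Q6863 (allL N6863 (tt N6816 F17136) (tt N6819 F17137) (tt N3264 F17133) (tt N5831 F17134) (tt N11912 (iv4 F28666)) (tt N3239 (iv5 D10611)) (tt N14085 D22262) (tt N3255 F17135))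
theorem Q6865 : ∀ i, i < 6865 → P i := stepQ 6864 Q6864 (allL N6864 (tt N14086 D22263) (tt N14087 D22264) (tt N3265 F17138) (tt N14084 (iv3 F34735)) (tt N3240 F17139) (tt N14088 D22265) (tt N3239 (iv6 D10612)) (tt N13287 (iv7 F293344)))
theorem Q6866 : ∀ i, i < 6866 → P i := stepQ 6865 Q6865 (allL N6865 (tt N14089 D22280) (tt N14090 D22281) (tt N14091 D22282) (tt N3241 (iv3 D10617)) (tt N6194 F17148) (tt N10653 F27217) (tt N14092 D22283) (tt N3273 F17149))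
theorem Q6867 : ∀ i, i < 6867 → P i := stepQ 6866 Q6866 (allL N6866 (tt N6311 F17152) (tt N6278 F17153) (tt N3271 F17150) (tt N10653 (iv3 F27216)) (tt N12157 (iv4 F29424)) (tt N3241 (iv5 D10618)) (tt N14093 D22284) (tt N3275 F17151))
theorem Q6868 : ∀ i, i < 6868 → P i := stepQ 6867 Q6867 (allL N6867 (tt N7064 (iv1 F66083)) (tt N14080 (iv0 F66080)) (tt N3272 F17154) (tt N14092 (iv3 F34770)) (tt N6191 F17155) (tt N14094 D22287) (tt N3241 (iv6 D10619)) (tt N14095 D22288))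
theorem Q6869 : ∀ i, i < 6869 → P i := stepQ 6868 Q6868 (allL N6868 (tt N14096 D22289) (tt N14097 D22290) (tt N14098 D22291) (tt N3242 (iv3 D10620)) (tt N13775 (iv4 F33676)) (tt N14099 D22292) (tt N14100 D22293) (tt N3269 F17156))
theorem Q6870 : ∀ i, i < 6870 → P i := stepQ 6869 Q6869 (allL N6869 (tt N6278 F17159) (tt N6311 F17160) (tt N3275 F17157) (tt N14099 (iv3 F34790)) (tt N12150 (iv4 F29403)) (tt N3242 (iv5 D10621)) (tt N14101 D22294) (tt N3271 F17158))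
theorem Q6871 : ∀ i, i < 6871 → P i := stepQ 6870 Q6870 (allL N6870 (tt N13200 F292791) (tt N7092 F62610) (tt N3276 F17161) (tt N14100 (iv3 F34792)) (tt N13385 (iv4 F32422)) (tt N14102 D22297) (tt N3242 (iv6 D10622)) (tt N13289 (iv7 F293004)))
theorem Q6872 : ∀ i, i < 6872 → P i := stepQ 6871 Q6871 (allL N6871 (tt N6185 (iv1 F17162)) (tt N3243 (iv0 D10623)) (tt N13923 (iv2 F68215)) (tt N14103 D22300) (tt N14104 D22301) (tt N14105 D22302) (tt N14106 D22303) (tt N13922 (iv7 F68218)))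
theorem Q6873 : ∀ i, i < 6873 → P i := stepQ 6872 Q6872 (allL N6872 (tt N3243 (iv1 D10624)) (tt N6185 F17166) (tt N13922 (iv2 F68217)) (tt N14107 D22305) (tt N14108 D22306) (tt N14109 D22307) (tt N14110 D22308) (tt N13923 (iv7 F68216)))
theorem Q6874 : ∀ i, i < 6874 → P i := stepQ 6873 Q6873 (allL N6873 (tt N13923 (iv1 F34311)) (tt N13922 F34310) (tt N3243 (iv2 D10625)) (tt N3278 F17163) (tt N6873 F17164) (tt N14111 D22309) (tt N14112 D22310) (tt N6185 F17165))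
theorem Q6875 : ∀ i, i < 6875 → P i := stepQ 6874 Q6874 (allL N6874 (tt N14113 D22311) (tt N14114 D22312) (tt N14111 (iv2 F34804)) (tt N3244 F17167) (tt N14115 D22313) (tt N3243 (iv5 D10626)) (tt N14116 D22314) (tt N12275 (iv7 F29559)))
theorem Q6876 : ∀ i, i < 6876 → P i := stepQ 6875 Q6875 (allL N6875 (tt N14117 D22315) (tt N14118 D22316) (tt N14112 (iv2 F34807)) (tt N3245 F17168) (tt N6875 F17169) (tt N14119 D22317) (tt N3243 (iv6 D10627)) (tt N14120 D22318))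
theorem Q6877 : ∀ i, i < 6877 → P i := stepQ 6876 Q6876 (allL N6876 (tt N14121 D22319) (tt N14122 D22320) (tt N3284 F17170) (tt N14116 (iv3 F34812)) (tt N12281 (iv4 F29564)) (tt N14123 D22321) (tt N3244 (iv6 D10628)) (tt N14124 D22322))
theorem Q6878 : ∀ i, i < 6878 → P i := stepQ 6877 Q6877 (allL N6877 (tt N3289 (iv1 F17175)) (tt N3245 (iv0 D10629)) (tt N3286 F31062) (tt N14125 D22323) (tt N6222 (iv4 F17177)) (tt N14126 D22324) (tt N14127 D22325) (tt N3287 F31063))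
theorem Q6879 : ∀ i, i < 6879 → P i := stepQ 6878 Q6878 (allL N6878 (tt N3245 (iv1 D10630)) (tt N3289 F17171) (tt N3287 F31064) (tt N14128 D22326) (tt N14129 D22327) (tt N14130 D22328) (tt N14131 D22329) (tt N3286 F31065))
theorem Q6880 : ∀ i, i < 6880 → P i := stepQ 6879 Q6879 (allL N6879 (tt N14132 D22330) (tt N14133 D22331) (tt N3288 F17172) (tt N14119 (iv3 F34813)) (tt N14134 D22332) (tt N3245 (iv5 D10631)) (tt N14123 (iv6 F34818)) (tt N14135 D22333))
theorem Q6881 : ∀ i, i < 6881 → P i := stepQ 6880 Q6880 (allL N6880 (tt N3287 (iv1 F17176)) (tt N3286 F17178) (tt N3289 F17173) (tt N14120 (iv3 F34814)) (tt N3248 F17174) (tt N14135 (iv5 F34843)) (tt N13927 (iv6 F34319)) (tt N3245 (iv7 D10632)))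
theorem Q6882 : ∀ i, i < 6882 → P i := stepQ 6881 Q6881 (allL N6881 (tt N13591 F63129) (tt N6576 F63130) (tt N13590 (iv2 F63114)) (tt N3246 (iv3 D10634)) (tt N13431 (iv4 F35635)) (tt N14136 D22338) (tt N7015 F17332) (tt N3295 F17355))
theorem Q6883 : ∀ i, i < 6883 → P i := stepQ 6882 Q6882 (allL N6882 (tt N14137 D22339) (tt N13224 (iv0 F35614)) (tt N3292 F17356) (tt N14138 D22341) (tt N3246 (iv4 D10635)) (tt N14139 D22342) (tt N7020 (iv6 F17335)) (tt N3296 F17357))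
theorem Q6884 : ∀ i, i < 6884 → P i := stepQ 6883 Q6883 (allL N6883 (tt N6458 F292994) (tt N6934 F35466) (tt N3293 F17358) (tt N14136 (iv3 F34861)) (tt N14140 D22343) (tt N3246 (iv5 D10636)) (tt N7021 (iv6 F17338)) (tt N3297 F17359))
theorem Q6885 : ∀ i, i < 6885 → P i := stepQ 6884 Q6884 (allL N6884 (tt N6644 F63109) (tt N13933 F63110) (tt N13932 (iv2 F63100)) (tt N3247 (iv3 D10638)) (tt N6219 F17181) (tt N7003 F17310) (tt N14141 D22347) (tt N3291 F17347))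
theorem Q6886 : ∀ i, i < 6886 → P i := stepQ 6885 Q6885 (allL N6885 (tt N13224 (iv1 F35615)) (tt N14137 F34863) (tt N3296 F17348) (tt N14142 D22348) (tt N3247 (iv4 D10639)) (tt N14143 D22349) (tt N14144 D22350) (tt N3292 F17349))
theorem Q6887 : ∀ i, i < 6887 → P i := stepQ 6886 Q6886 (allL N6886 (tt N6832 (iv1 F17367)) (tt N6146 F293744) (tt N3298 F17345) (tt N14141 (iv3 F34882)) (tt N14144 (iv4 F34889)) (tt N7011 (iv5 F17319)) (tt N3247 (iv6 D10640)) (tt N7011 (iv7 F17325)))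
theorem Q6888 : ∀ i, i < 6888 → P i := stepQ 6887 Q6887 (allL N6887 (tt N14145 D22351) (tt N7060 (iv0 F65646)) (tt N3251 F17182) (tt N13365 (iv3 F32366)) (tt N6210 F17183) (tt N12815 (iv5 F292302)) (tt N3249 (iv6 D10641)) (tt N14146 D22354))
theorem Q6889 : ∀ i, i < 6889 → P i := stepQ 6888 Q6888 (allL N6888 (tt N14147 D22355) (tt N14148 D22356) (tt N12088 (iv2 F29195)) (tt N3250 (iv3 D10642)) (tt N3254 F17184) (tt N8681 (iv5 F21764)) (tt N14149 D22357) (tt N6211 F17185))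
theorem Q6890 : ∀ i, i < 6890 → P i := stepQ 6889 Q6889 (allL N6889 (tt N6307 F17188) (tt N12676 (iv0 F30586)) (tt N6209 F17186) (tt N8681 (iv3 F21766)) (tt N10785 (iv4 F297179)) (tt N3250 (iv5 D10643)) (tt N14150 D22358) (tt N6212 F17187))
theorem Q6891 : ∀ i, i < 6891 → P i := stepQ 6890 Q6890 (allL N6890 (tt N6459 (iv1 F65775)) (tt N13327 (iv0 F65776)) (tt N6210 F17189) (tt N14149 (iv3 F34914)) (tt N3251 F17190) (tt N14151 D22361) (tt N3250 (iv6 D10644)) (tt N13330 (iv7 F65653)))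
theorem Q6892 : ∀ i, i < 6892 → P i := stepQ 6891 Q6891 (allL N6891 (tt N14146 (iv1 F34898)) (tt N3251 (iv0 D10645)) (tt N14145 (iv2 F65763)) (tt N7043 (iv3 F65765)) (tt N12805 F66125) (tt N14152 D22366) (tt N13756 (iv6 F65767)) (tt N7060 (iv7 F65769)))
theorem Q6893 : ∀ i, i < 6893 → P i := stepQ 6892 Q6892 (allL N6892 (tt N3251 (iv1 D10646)) (tt N14146 F34897) (tt N7060 (iv2 F65768)) (tt N14153 D22369) (tt N12806 F66124) (tt N14154 D22371) (tt N14155 D22372) (tt N14145 (iv7 F65764)))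
theorem Q6894 : ∀ i, i < 6894 → P i := stepQ 6893 Q6893 (allL N6893 (tt N7060 F65647) (tt N14145 F34896) (tt N14146 (iv2 F34894)) (tt N3259 F17193) (tt N13330 (iv4 F65651)) (tt N12816 (iv5 F292509)) (tt N13286 (iv6 F292511)) (tt N3251 (iv7 D10648)))
theorem Q6895 : ∀ i, i < 6895 → P i := stepQ 6894 Q6894 (allL N6894 (tt N14156 D22377) (tt N14157 D22378) (tt N14158 D22379) (tt N3252 (iv3 D10649)) (tt N6523 F17194) (tt N14009 (iv5 F34498)) (tt N14159 D22380) (tt N13223 (iv7 F31807)))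
theorem Q6896 : ∀ i, i < 6896 → P i := stepQ 6895 Q6895 (allL N6895 (tt N13928 (iv1 F66836)) (tt N13172 F290974) (tt N14072 (iv2 F34686)) (tt N14159 (iv3 F34934)) (tt N6522 F17195) (tt N14160 D22383) (tt N3252 (iv6 D10650)) (tt N14161 D22384))
theorem Q6897 : ∀ i, i < 6897 → P i := stepQ 6896 Q6896 (allL N6896 (tt N6202 F17196) (tt N14162 D22385) (tt N14163 D22386) (tt N3253 (iv3 D10651)) (tt N7073 (iv4 F17721)) (tt N14011 (iv5 F34499)) (tt N14164 D22387) (tt N14071 (iv7 F34683)))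
theorem Q6898 : ∀ i, i < 6898 → P i := stepQ 6897 Q6897 (allL N6897 (tt N3292 (iv1 F35583)) (tt N3296 (iv0 F35584)) (tt N13224 (iv2 F31808)) (tt N14164 (iv3 F34945)) (tt N12734 (iv4 F30770)) (tt N14165 D22390) (tt N3253 (iv6 D10652)) (tt N14137 (iv7 F35953)))
theorem Q6899 : ∀ i, i < 6899 → P i := stepQ 6898 Q6898 (allL N6898 (tt N3254 (iv1 D10653)) (tt N12387 F29816) (tt N8790 (iv2 F22004)) (tt N14166 D22392) (tt N5971 (iv4 F17197)) (tt N8786 (iv5 F21988)) (tt N14167 D22393) (tt N12381 (iv7 F29796)))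
theorem Q6900 : ∀ i, i < 6900 → P i := stepQ 6899 Q6899 (allL N6899 (tt N12381 (iv1 F29798)) (tt N8790 F22007) (tt N3254 (iv2 D10654)) (tt N14074 (iv3 F34693)) (tt N12088 (iv4 F29196)) (tt N5830 (iv5 F17204)) (tt N14168 D22394) (tt N12387 (iv7 F29817)))
theorem Q6901 : ∀ i, i < 6901 → P i := stepQ 6900 Q6900 (allL N6900 (tt N4173 F17203) (tt N5824 F17200) (tt N5830 F17202) (tt N3255 F17198) (tt N5559 (iv4 F17201)) (tt N3254 (iv5 D10655)) (tt N14169 D22395) (tt N5831 F17199))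
theorem Q6902 : ∀ i, i < 6902 → P i := stepQ 6901 Q6901 (allL N6901 (tt N14170 D22396) (tt N14171 D22397) (tt N14168 (iv2 F34948)) (tt N3256 F17205) (tt N14149 (iv4 F34915)) (tt N14172 D22398) (tt N3254 (iv6 D10656)) (tt N14173 D22399))
theorem Q6903 : ∀ i, i < 6903 → P i := stepQ 6902 Q6902 (allL N6902 (tt N3264 (iv1 F17207)) (tt N3255 (iv0 D10657)) (tt N6819 (iv2 F17208)) (tt N14174 D22400) (tt N12118 (iv4 F29328)) (tt N6286 F17206) (tt N14175 D22401) (tt N6816 (iv7 F17209)))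
theorem Q6904 : ∀ i, i < 6904 → P i := stepQ 6903 Q6903 (allL N6903 (tt N3255 (iv1 D10658)) (tt N3264 F17210) (tt N6816 (iv2 F17213)) (tt N14176 D22402) (tt N12121 (iv4 F29330)) (tt N6287 F17212) (tt N14177 D22403) (tt N6819 F17211))
theorem Q6905 : ∀ i, i < 6905 → P i := stepQ 6904 Q6904 (allL N6904 (tt N14178 D22404) (tt N14179 D22405) (tt N14077 (iv2 F34703)) (tt N14169 (iv3 F34950)) (tt N12252 (iv4 F29539)) (tt N14180 D22406) (tt N3255 (iv6 D10659)) (tt N14181 D22407))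
theorem Q6906 : ∀ i, i < 6906 → P i := stepQ 6905 Q6905 (allL N6905 (tt N13482 (iv1 F292031)) (tt N3256 (iv0 D10660)) (tt N14078 (iv2 F65943)) (tt N14182 D22409) (tt N12793 F66073) (tt N14183 D22411) (tt N14184 D22412) (tt N13278 (iv7 F65779)))
theorem Q6907 : ∀ i, i < 6907 → P i := stepQ 6906 Q6906 (allL N6906 (tt N3256 (iv1 D10661)) (tt N13482 (iv0 F292030)) (tt N13278 (iv2 F65778)) (tt N14185 D22414) (tt N12794 F66068) (tt N14186 D22416) (tt N14187 D22417) (tt N14078 (iv7 F65944)))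
theorem Q6908 : ∀ i, i < 6908 → P i := stepQ 6907 Q6907 (allL N6907 (tt N14188 D22418) (tt N14189 D22419) (tt N14079 (iv2 F34705)) (tt N14172 (iv3 F34952)) (tt N14190 D22420) (tt N3256 (iv5 D10662)) (tt N14180 (iv6 F34961)) (tt N14191 D22421))
theorem Q6909 : ∀ i, i < 6909 → P i := stepQ 6908 Q6908 (allL N6908 (tt N13278 (iv1 F65667)) (tt N14078 F34709) (tt N13482 F292280) (tt N14173 (iv3 F34953)) (tt N3259 F17214) (tt N14191 (iv5 F34965)) (tt N13287 (iv6 F293343)) (tt N3256 (iv7 D10663)))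
theorem Q6910 : ∀ i, i < 6910 → P i := stepQ 6909 Q6909 (allL N6909 (tt N14095 (iv1 F66079)) (tt N3272 F66059) (tt N7064 F65672) (tt N14192 D22437) (tt N3257 (iv4 D10666)) (tt N14193 D22438) (tt N14194 D22439) (tt N14080 (iv7 F35530)))
theorem Q6911 : ∀ i, i < 6911 → P i := stepQ 6910 Q6910 (allL N6910 (tt N13079 F31445) (tt N6596 (iv0 F290768)) (tt N7065 F65683) (tt N6910 F65714) (tt N14195 D22442) (tt N3257 (iv5 D10667)) (tt N6506 F290667) (tt N14081 (iv7 F35532)))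
theorem Q6912 : ∀ i, i < 6912 → P i := stepQ 6911 Q6911 (allL N6911 (tt N3298 F17366) (tt N7011 (iv0 F17320)) (tt N6146 F293745) (tt N6911 F65715) (tt N14194 (iv4 F34981)) (tt N6297 F17216) (tt N3257 (iv6 D10668)) (tt N6832 (iv7 F35507)))
theorem Q6913 : ∀ i, i < 6913 → P i := stepQ 6912 Q6912 (allL N6912 (tt N3272 F66060) (tt N14095 (iv0 F66078)) (tt N14080 (iv2 F35529)) (tt N6563 (iv3 F65704)) (tt N3258 (iv4 D10671)) (tt N14196 D22454) (tt N14197 D22455) (tt N7064 F65669))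
theorem Q6914 : ∀ i, i < 6914 → P i := stepQ 6913 Q6913 (allL N6913 (tt N6596 F291167) (tt N13079 F34992) (tt N14081 (iv2 F35531)) (tt N3320 (iv3 F65696)) (tt N14198 D22456) (tt N3258 (iv5 D10672)) (tt N12706 F291168) (tt N7065 F65670))
theorem Q6915 : ∀ i, i < 6915 → P i := stepQ 6914 Q6914 (allL N6914 (tt N6407 (iv1 F290874)) (tt N13304 F290697) (tt N13303 (iv2 F290870)) (tt N3321 (iv3 F65697)) (tt N14197 (iv4 F34998)) (tt N12707 (iv5 F290876)) (tt N3258 (iv6 D10673)) (tt N7114 (iv7 F290872)))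
theorem Q6916 : ∀ i, i < 6916 → P i := stepQ 6915 Q6915 (allL N6915 (tt N7083 (iv1 F62736)) (tt N14199 D22477) (tt N3262 F17221) (tt N13789 (iv3 F33732)) (tt N13426 (iv4 F32543)) (tt N14200 D22478) (tt N3260 (iv6 D10678)) (tt N14201 D22479))
theorem Q6917 : ∀ i, i < 6917 → P i := stepQ 6916 Q6916 (allL N6916 (tt N14202 D22480) (tt N14203 D22481) (tt N14204 D22482) (tt N3261 (iv3 D10679)) (tt N3263 F17222) (tt N14205 D22483) (tt N14206 D22484) (tt N13423 (iv7 F32534)))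
theorem Q6918 : ∀ i, i < 6918 → P i := stepQ 6917 Q6917 (allL N6917 (tt N6386 F17223) (tt N6376 F17224) (tt N13376 F32404) (tt N14205 (iv3 F35034)) (tt N13375 (iv4 F32395)) (tt N3261 (iv5 D10680)) (tt N14207 D22485) (tt N13375 F32399))
theorem Q6919 : ∀ i, i < 6919 → P i := stepQ 6918 Q6918 (allL N6918 (tt N13416 (iv1 F63001)) (tt N13417 (iv0 F63000)) (tt N13426 (iv2 F32542)) (tt N14206 (iv3 F35048)) (tt N3262 F17225) (tt N14208 D22488) (tt N3261 (iv6 D10681)) (tt N13472 (iv7 F62724)))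
theorem Q6920 : ∀ i, i < 6920 → P i := stepQ 6919 Q6919 (allL N6919 (tt N14201 (iv1 F35029)) (tt N3262 (iv0 D10682)) (tt N7083 (iv2 F62780)) (tt N14209 D22491) (tt N6537 (iv4 F62781)) (tt N6945 F291514) (tt N11255 F291515) (tt N14199 (iv7 F62782)))
theorem Q6921 : ∀ i, i < 6921 → P i := stepQ 6920 Q6920 (allL N6920 (tt N3262 (iv1 D10683)) (tt N14201 F35028) (tt N14199 F62783) (tt N7070 (iv3 F62796)) (tt N6538 F62793) (tt N12795 F291588) (tt N14210 D22499) (tt N7083 F62784))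
theorem Q6922 : ∀ i, i < 6922 → P i := stepQ 6921 Q6921 (allL N6921 (tt N14211 D22500) (tt N14212 D22501) (tt N14200 (iv2 F35024)) (tt N3267 F17226) (tt N14213 D22502) (tt N3262 (iv5 D10684)) (tt N6273 F17227) (tt N14214 D22503))
theorem Q6923 : ∀ i, i < 6923 → P i := stepQ 6922 Q6922 (allL N6922 (tt N14199 (iv1 F35023)) (tt N7083 F62737) (tt N14201 (iv2 F35026)) (tt N3268 F17228) (tt N13472 (iv4 F62723)) (tt N14214 (iv5 F35055)) (tt N13477 F291455) (tt N3262 (iv7 D10685)))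
theorem Q6924 : ∀ i, i < 6924 → P i := stepQ 6923 Q6923 (allL N6923 (tt N14074 (iv1 F34695)) (tt N3263 (iv0 D10686)) (tt N13235 (iv2 F31829)) (tt N14215 D22504) (tt N13234 F31830) (tt N14050 (iv5 F34602)) (tt N14216 D22505) (tt N14073 (iv7 F34691)))
theorem Q6925 : ∀ i, i < 6925 → P i := stepQ 6924 Q6924 (allL N6924 (tt N3263 (iv1 D10687)) (tt N14074 F34696) (tt N14073 F34688) (tt N6193 (iv3 F17229)) (tt N6528 (iv4 F17230)) (tt N14051 (iv5 F44595)) (tt N14217 D22507) (tt N13235 (iv7 F31828)))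
theorem Q6926 : ∀ i, i < 6926 → P i := stepQ 6925 Q6925 (allL N6925 (tt N13235 (iv1 F34692)) (tt N14073 F34689) (tt N3263 (iv2 D10688)) (tt N12387 (iv3 F29818)) (tt N14204 (iv4 F35031)) (tt N14218 D22508) (tt N14219 D22509) (tt N14074 (iv7 F34694)))
theorem Q6927 : ∀ i, i < 6927 → P i := stepQ 6926 Q6926 (allL N6926 (tt N14220 D22510) (tt N14221 D22511) (tt N14218 (iv2 F35061)) (tt N3264 F17231) (tt N14222 D22512) (tt N3263 (iv5 D10689)) (tt N14223 D22513) (tt N14075 (iv7 F34700)))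
theorem Q6928 : ∀ i, i < 6928 → P i := stepQ 6927 Q6927 (allL N6927 (tt N14224 D22514) (tt N14225 D22515) (tt N14219 (iv2 F35067)) (tt N3265 F17232) (tt N14206 (iv4 F35049)) (tt N14226 D22516) (tt N3263 (iv6 D10690)) (tt N14227 D22517))
theorem Q6929 : ∀ i, i < 6929 → P i := stepQ 6928 Q6928 (allL N6928 (tt N14228 D22518) (tt N14229 D22519) (tt N14085 (iv2 F34737)) (tt N14223 (iv3 F35077)) (tt N12247 (iv4 F29534)) (tt N14230 D22520) (tt N3264 (iv6 D10691)) (tt N14231 D22521))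
theorem Q6930 : ∀ i, i < 6930 → P i := stepQ 6929 Q6929 (allL N6929 (tt N13287 (iv1 F293341)) (tt N3265 (iv0 D10692)) (tt N14086 (iv2 F62752)) (tt N14232 D22523) (tt N14233 D22524) (tt N14234 D22525) (tt N13175 F292306) (tt N14087 (iv7 F62955)))
theorem Q6931 : ∀ i, i < 6931 → P i := stepQ 6930 Q6930 (allL N6930 (tt N3265 (iv1 D10693)) (tt N13287 (iv0 F293340)) (tt N14087 (iv2 F62954)) (tt N14235 D22528) (tt N6543 (iv4 F62727)) (tt N14236 D22530) (tt N14237 D22531) (tt N14086 (iv7 F62753)))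
theorem Q6932 : ∀ i, i < 6932 → P i := stepQ 6931 Q6931 (allL N6931 (tt N14238 D22532) (tt N14239 D22533) (tt N14088 (iv2 F34740)) (tt N14226 (iv3 F35078)) (tt N14240 D22534) (tt N3265 (iv5 D10694)) (tt N14230 (iv6 F35080)) (tt N14241 D22535))
theorem Q6933 : ∀ i, i < 6933 → P i := stepQ 6932 Q6932 (allL N6932 (tt N14087 (iv1 F34739)) (tt N14086 F34744) (tt N13287 (iv2 F293342)) (tt N14227 (iv3 F35079)) (tt N3268 F17233) (tt N14241 (iv5 F35084)) (tt N13482 F292988) (tt N3265 (iv7 D10695)))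
theorem Q6934 : ∀ i, i < 6934 → P i := stepQ 6933 Q6933 (allL N6933 (tt N3276 (iv1 F62714)) (tt N13289 (iv0 F293001)) (tt N7092 (iv2 F62706)) (tt N14242 D22569) (tt N3266 (iv4 D10703)) (tt N14243 D22570) (tt N14244 D22571) (tt N13200 F292299))
theorem Q6935 : ∀ i, i < 6935 → P i := stepQ 6934 Q6934 (allL N6934 (tt N6883 (iv1 F35466)) (tt N3294 (iv0 F35467)) (tt N7009 F35014) (tt N6934 F62160) (tt N14244 (iv4 F35110)) (tt N13064 (iv5 F31433)) (tt N3266 (iv6 D10705)) (tt N7008 (iv7 F35011)))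
theorem Q6936 : ∀ i, i < 6936 → P i := stepQ 6935 Q6935 (allL N6935 (tt N13288 (iv1 F292049)) (tt N3267 (iv0 D10706)) (tt N13188 F291326) (tt N3334 (iv3 F65729)) (tt N14245 D22577) (tt N13325 F291327) (tt N6132 F291328) (tt N7093 (iv7 F65726)))
theorem Q6937 : ∀ i, i < 6937 → P i := stepQ 6936 Q6936 (allL N6936 (tt N3267 (iv1 D10707)) (tt N13288 (iv0 F292048)) (tt N7093 (iv2 F65725)) (tt N6936 F65727) (tt N14246 D22582) (tt N6833 (iv5 F17237)) (tt N14247 D22583) (tt N13188 F291381))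
theorem Q6938 : ∀ i, i < 6938 → P i := stepQ 6937 Q6937 (allL N6937 (tt N14248 D22584) (tt N14249 D22585) (tt N13625 F291314) (tt N14250 D22586) (tt N3267 (iv4 D10708)) (tt N14251 D22587) (tt N6276 F17238) (tt N14252 D22588))
theorem Q6939 : ∀ i, i < 6939 → P i := stepQ 6938 Q6938 (allL N6938 (tt N7093 F65736) (tt N13188 F291309) (tt N13288 (iv2 F292050)) (tt N14214 (iv3 F35054)) (tt N14252 (iv4 F35127)) (tt N3268 F17239) (tt N13483 F291310) (tt N3267 (iv7 D10709)))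
theorem Q6940 : ∀ i, i < 6940 → P i := stepQ 6939 Q6939 (allL N6939 (tt N14098 (iv1 F34787)) (tt N3269 (iv0 D10710)) (tt N14097 F34911) (tt N14148 F34909) (tt N14253 D22590) (tt N14254 D22591) (tt N14255 D22592) (tt N14096 (iv7 F34910)))
theorem Q6941 : ∀ i, i < 6941 → P i := stepQ 6940 Q6940 (allL N6940 (tt N3269 (iv1 D10711)) (tt N14098 F34789) (tt N14096 (iv2 F34912)) (tt N14256 D22593) (tt N14257 D22594) (tt N14258 D22595) (tt N14259 D22596) (tt N14097 F34913))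
theorem Q6942 : ∀ i, i < 6942 → P i := stepQ 6941 Q6941 (allL N6941 (tt N14097 (iv1 F34788)) (tt N14096 F34782) (tt N3269 (iv2 D10712)) (tt N14091 (iv3 F34761)) (tt N13800 (iv4 F33774)) (tt N14260 D22597) (tt N14261 D22598) (tt N14098 (iv7 F34786)))
theorem Q6943 : ∀ i, i < 6943 → P i := stepQ 6942 Q6942 (allL N6942 (tt N6646 F17241) (tt N13801 F33780) (tt N13800 F33772) (tt N6634 F17240) (tt N3269 (iv4 D10713)) (tt N14262 D22599) (tt N14263 D22600) (tt N13775 (iv7 F33677)))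
theorem Q6944 : ∀ i, i < 6944 → P i := stepQ 6943 Q6943 (allL N6943 (tt N13963 F34429) (tt N14264 D22601) (tt N14260 (iv2 F35135)) (tt N3271 F17242) (tt N14265 D22602) (tt N3269 (iv5 D10714)) (tt N14266 D22603) (tt N14099 (iv7 F34791)))
theorem Q6945 : ∀ i, i < 6945 → P i := stepQ 6944 Q6944 (allL N6944 (tt N14267 D22604) (tt N14268 D22605) (tt N14261 (iv2 F35137)) (tt N3272 F17243) (tt N14263 (iv4 F35140)) (tt N14269 D22606) (tt N3269 (iv6 D10715)) (tt N14270 D22607))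
theorem Q6946 : ∀ i, i < 6946 → P i := stepQ 6945 Q6945 (allL N6945 (tt N14271 D22608) (tt N6432 (iv0 F66041)) (tt N6191 F17244) (tt N13142 (iv3 F31666)) (tt N3272 F17245) (tt N6919 (iv5 F291514)) (tt N3270 (iv6 D10716)) (tt N14272 D22611))
theorem Q6947 : ∀ i, i < 6947 → P i := stepQ 6946 Q6946 (allL N6946 (tt N3275 (iv1 F17249)) (tt N3271 (iv0 D10717)) (tt N6311 (iv2 F17248)) (tt N14273 D22612) (tt N5398 F17247) (tt N6245 F17246) (tt N14274 D22613) (tt N6278 F17250))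
theorem Q6948 : ∀ i, i < 6948 → P i := stepQ 6947 Q6947 (allL N6947 (tt N14275 D22614) (tt N14276 D22615) (tt N14093 (iv2 F34772)) (tt N14266 (iv3 F35142)) (tt N12227 (iv4 F29521)) (tt N14277 D22616) (tt N3271 (iv6 D10718)) (tt N14278 D22617))
theorem Q6949 : ∀ i, i < 6949 → P i := stepQ 6948 Q6948 (allL N6948 (tt N14279 D22628) (tt N13494 F293214) (tt N14094 (iv2 F34774)) (tt N14269 (iv3 F35143)) (tt N14280 D22630) (tt N3272 (iv5 D10721)) (tt N14277 (iv6 F35157)) (tt N14281 D22631))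
theorem Q6950 : ∀ i, i < 6950 → P i := stepQ 6949 Q6949 (allL N6949 (tt N14080 (iv1 F66081)) (tt N7064 (iv0 F66082)) (tt N14095 (iv2 F34775)) (tt N14270 (iv3 F35144)) (tt N14272 (iv4 F35149)) (tt N14281 (iv5 F35160)) (tt N13289 (iv6 F293003)) (tt N3272 (iv7 D10722)))
theorem Q6951 : ∀ i, i < 6951 → P i := stepQ 6950 Q6950 (allL N6950 (tt N14091 (iv1 F34765)) (tt N3273 (iv0 D10723)) (tt N14090 (iv2 F44840)) (tt N14282 D22633) (tt N14089 (iv4 F34759)) (tt N10933 F25811) (tt N14283 D22634) (tt N14089 (iv7 F44839)))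
theorem Q6952 : ∀ i, i < 6952 → P i := stepQ 6951 Q6951 (allL N6951 (tt N3273 (iv1 D10724)) (tt N14091 F34767) (tt N14089 (iv2 F44838)) (tt N14284 D22636) (tt N14090 F34768) (tt N14285 D22637) (tt N14286 D22638) (tt N14090 (iv7 F44841)))
theorem Q6953 : ∀ i, i < 6953 → P i := stepQ 6952 Q6952 (allL N6952 (tt N14090 (iv1 F34766)) (tt N14089 F34760) (tt N3273 (iv2 D10725)) (tt N14098 (iv3 F34784)) (tt N14287 D22639) (tt N10656 F27270) (tt N14288 D22640) (tt N14091 (iv7 F34764)))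
theorem Q6954 : ∀ i, i < 6954 → P i := stepQ 6953 Q6953 (allL N6953 (tt N10556 F24953) (tt N14289 D22641) (tt N14287 (iv2 F35166)) (tt N3337 F17251) (tt N3273 (iv4 D10726)) (tt N14290 D22642) (tt N14291 D22643) (tt N6194 F17252))
theorem Q6955 : ∀ i, i < 6955 → P i := stepQ 6954 Q6954 (allL N6954 (tt N14292 D22644) (tt N14293 D22645) (tt N10656 (iv2 F27269)) (tt N3275 F17253) (tt N5023 (iv4 F17254)) (tt N3273 (iv5 D10727)) (tt N14294 D22646) (tt N10653 F27218))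
theorem Q6956 : ∀ i, i < 6956 → P i := stepQ 6955 Q6955 (allL N6955 (tt N14295 D22647) (tt N14296 D22648) (tt N14288 (iv2 F35172)) (tt N3276 F17255) (tt N14291 (iv4 F35207)) (tt N14297 D22649) (tt N3273 (iv6 D10728)) (tt N14298 D22650))
theorem Q6957 : ∀ i, i < 6957 → P i := stepQ 6956 Q6956 (allL N6956 (tt N13415 (iv1 F62750)) (tt N13476 (iv0 F62951)) (tt N13385 (iv2 F32420)) (tt N3338 F17256) (tt N3276 F17257) (tt N13913 F291584) (tt N3274 (iv6 D10729)) (tt N13475 (iv7 F62774)))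
theorem Q6958 : ∀ i, i < 6958 → P i := stepQ 6957 Q6957 (allL N6957 (tt N14299 D22655) (tt N14300 D22656) (tt N14101 (iv2 F34793)) (tt N14294 (iv3 F35216)) (tt N12200 (iv4 F29498)) (tt N14301 D22657) (tt N3275 (iv6 D10730)) (tt N14302 D22658))
theorem Q6959 : ∀ i, i < 6959 → P i := stepQ 6958 Q6958 (allL N6958 (tt N14303 D22669) (tt N14304 D22670) (tt N14102 (iv2 F34795)) (tt N14297 (iv3 F35218)) (tt N14305 D22671) (tt N3276 (iv5 D10733)) (tt N14301 (iv6 F35225)) (tt N14306 D22672))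
theorem Q6960 : ∀ i, i < 6960 → P i := stepQ 6959 Q6959 (allL N6959 (tt N7092 (iv1 F62576)) (tt N13200 F292989) (tt N13289 (iv2 F293002)) (tt N14298 (iv3 F35219)) (tt N13475 (iv4 F62772)) (tt N14306 (iv5 F35228)) (tt N14095 (iv6 F34777)) (tt N3276 (iv7 D10734)))
theorem Q6961 : ∀ i, i < 6961 → P i := stepQ 6960 Q6960 (allL N6960 (tt N14284 F35163) (tt N14307 D22673) (tt N14308 D22674) (tt N3277 (iv3 D10735)) (tt N13425 (iv4 F32538)) (tt N14309 D22675) (tt N14310 D22676) (tt N6208 F17258))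
theorem Q6962 : ∀ i, i < 6962 → P i := stepQ 6961 Q6961 (allL N6961 (tt N12676 (iv1 F30587)) (tt N6307 F17261) (tt N6212 F17259) (tt N14309 (iv3 F35235)) (tt N10884 (iv4 F300976)) (tt N3277 (iv5 D10736)) (tt N14311 D22678) (tt N6209 F17260))
theorem Q6963 : ∀ i, i < 6963 → P i := stepQ 6962 Q6962 (allL N6962 (tt N13513 F62730) (tt N6563 F62731) (tt N6213 F17262) (tt N14310 (iv3 F35237)) (tt N13789 (iv4 F33733)) (tt N14312 D22681) (tt N3277 (iv6 D10737)) (tt N13514 (iv7 F62734)))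
theorem Q6964 : ∀ i, i < 6964 → P i := stepQ 6963 Q6963 (allL N6963 (tt N6215 F17266) (tt N6214 F17267) (tt N3279 F17263) (tt N14111 (iv3 F34805)) (tt N6084 F17265) (tt N3278 (iv5 D10738)) (tt N14313 D22683) (tt N6186 F17264))
theorem Q6965 : ∀ i, i < 6965 → P i := stepQ 6964 Q6964 (allL N6964 (tt N14314 D22684) (tt N14315 D22685) (tt N3280 F17268) (tt N14112 (iv3 F34808)) (tt N3342 F17269) (tt N14316 D22686) (tt N3278 (iv6 D10739)) (tt N14317 D22687))
theorem Q6966 : ∀ i, i < 6966 → P i := stepQ 6965 Q6965 (allL N6965 (tt N6186 (iv1 F17272)) (tt N3279 (iv0 D10740)) (tt N6215 (iv2 F17271)) (tt N14318 D22688) (tt N13938 (iv4 F34365)) (tt N6123 F17270) (tt N14319 D22689) (tt N6214 F17273))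
theorem Q6967 : ∀ i, i < 6967 → P i := stepQ 6966 Q6966 (allL N6966 (tt N14320 D22690) (tt N13854 (iv0 F296458)) (tt N6084 F17274) (tt N14321 D22692) (tt N3279 (iv4 D10741)) (tt N6073 F17276) (tt N14322 D22693) (tt N6216 F17275))
theorem Q6968 : ∀ i, i < 6968 → P i := stepQ 6967 Q6967 (allL N6967 (tt N14323 D22694) (tt N14324 D22695) (tt N14313 (iv2 F35249)) (tt N3284 F17277) (tt N14322 (iv4 F35278)) (tt N14325 D22696) (tt N3279 (iv6 D10742)) (tt N14326 D22697))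
theorem Q6969 : ∀ i, i < 6969 → P i := stepQ 6968 Q6968 (allL N6968 (tt N14317 (iv1 F35259)) (tt N3280 (iv0 D10743)) (tt N14314 (iv2 F66809)) (tt N14327 D22699) (tt N13790 (iv4 F66804)) (tt N14328 D22701) (tt N14329 D22702) (tt N14315 (iv7 F66863)))
theorem Q6970 : ∀ i, i < 6970 → P i := stepQ 6969 Q6969 (allL N6969 (tt N3280 (iv1 D10744)) (tt N14317 F35257) (tt N14315 (iv2 F66862)) (tt N14330 D22704) (tt N13149 F291370) (tt N14331 D22705) (tt N13152 (iv6 F292175)) (tt N14314 (iv7 F66810)))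
theorem Q6971 : ∀ i, i < 6971 → P i := stepQ 6970 Q6970 (allL N6970 (tt N14332 D22707) (tt N14333 D22708) (tt N14316 (iv2 F35252)) (tt N3288 F17278) (tt N14334 D22709) (tt N3280 (iv5 D10745)) (tt N14325 (iv6 F35280)) (tt N14335 D22710))
theorem Q6972 : ∀ i, i < 6972 → P i := stepQ 6971 Q6971 (allL N6971 (tt N14315 (iv1 F35251)) (tt N14314 F35256) (tt N14317 (iv2 F35253)) (tt N3289 F17279) (tt N3346 F17280) (tt N14335 (iv5 F35286)) (tt N6221 F17281) (tt N3280 (iv7 D10746)))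
theorem Q6973 : ∀ i, i < 6973 → P i := stepQ 6972 Q6972 (allL N6972 (tt N14254 F35132) (tt N14258 (iv0 F59336)) (tt N14336 D22712) (tt N3281 (iv3 D10747)) (tt N14337 D22713) (tt N12113 (iv5 F29317)) (tt N14338 D22714) (tt N13011 (iv7 F31376)))
theorem Q6974 : ∀ i, i < 6974 → P i := stepQ 6973 Q6973 (allL N6973 (tt N14339 D22715) (tt N14340 D22716) (tt N13020 (iv2 F31387)) (tt N14338 (iv3 F35289)) (tt N12145 (iv4 F29375)) (tt N14341 D22717) (tt N3281 (iv6 D10748)) (tt N14342 D22718))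
theorem Q6975 : ∀ i, i < 6975 → P i := stepQ 6974 Q6974 (allL N6974 (tt N10933 F25812) (tt N14285 (iv0 F35292)) (tt N14343 D22720) (tt N3282 (iv3 D10749)) (tt N5030 (iv4 F17283)) (tt N12138 (iv5 F29360)) (tt N14344 D22721) (tt N13018 (iv7 F31383)))
theorem Q6976 : ∀ i, i < 6976 → P i := stepQ 6975 Q6975 (allL N6975 (tt N14345 D22722) (tt N14346 D22723) (tt N13013 (iv2 F31378)) (tt N14344 (iv3 F35293)) (tt N12128 (iv4 F29336)) (tt N14347 D22724) (tt N3282 (iv6 D10750)) (tt N14348 D22725))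
theorem Q6977 : ∀ i, i < 6977 → P i := stepQ 6976 Q6976 (allL N6976 (tt N14349 D22726) (tt N14350 D22727) (tt N14351 D22728) (tt N3283 (iv3 D10751)) (tt N14321 (iv4 F35274)) (tt N12097 (iv5 F29285)) (tt N14352 D22729) (tt N12168 (iv7 F29450)))
theorem Q6978 : ∀ i, i < 6978 → P i := stepQ 6977 Q6977 (allL N6977 (tt N14353 D22730) (tt N14354 D22731) (tt N12281 (iv2 F29563)) (tt N14352 (iv3 F35295)) (tt N3284 F17285) (tt N14355 D22732) (tt N3283 (iv6 D10752)) (tt N14356 D22733))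
theorem Q6979 : ∀ i, i < 6979 → P i := stepQ 6978 Q6978 (allL N6978 (tt N14124 (iv1 F34822)) (tt N3284 (iv0 D10753)) (tt N14121 F156679) (tt N14357 D22735) (tt N14358 D22736) (tt N14359 D22737) (tt N14360 D22738) (tt N14122 (iv7 F156684)))
theorem Q6980 : ∀ i, i < 6980 → P i := stepQ 6979 Q6979 (allL N6979 (tt N3284 (iv1 D10754)) (tt N14124 F34821) (tt N14122 (iv2 F156683)) (tt N14361 D22740) (tt N14362 D22741) (tt N14363 D22742) (tt N14364 D22743) (tt N14121 F156680))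
theorem Q6981 : ∀ i, i < 6981 → P i := stepQ 6980 Q6980 (allL N6980 (tt N14365 D22744) (tt N14366 D22745) (tt N14123 (iv2 F34817)) (tt N14325 (iv3 F35279)) (tt N14367 D22746) (tt N3284 (iv5 D10755)) (tt N3288 F17286) (tt N14368 D22747))
theorem Q6982 : ∀ i, i < 6982 → P i := stepQ 6981 Q6981 (allL N6981 (tt N14122 (iv1 F34816)) (tt N14121 F34820) (tt N14124 (iv2 F34819)) (tt N14326 (iv3 F35281)) (tt N14356 (iv4 F35296)) (tt N14368 (iv5 F35300)) (tt N14369 D22748) (tt N3284 (iv7 D10756)))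
theorem Q6983 : ∀ i, i < 6983 → P i := stepQ 6982 Q6982 (allL N6982 (tt N14370 D22749) (tt N14371 D22750) (tt N12276 (iv2 F29560)) (tt N6217 F17287) (tt N12170 (iv4 F29453)) (tt N14372 D22751) (tt N3285 (iv6 D10757)) (tt N14369 (iv7 F35302)))
theorem Q6984 : ∀ i, i < 6984 → P i := stepQ 6983 Q6983 (allL N6983 (tt N14373 D22752) (tt N14259 F289579) (tt N14374 D22754) (tt N3286 (iv3 D10759)) (tt N14375 D22755) (tt N14376 D22756) (tt N14377 D22757) (tt N14128 (iv7 F34830)))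
theorem Q6985 : ∀ i, i < 6985 → P i := stepQ 6984 Q6984 (allL N6984 (tt N14378 D22758) (tt N6410 (iv0 F35827)) (tt N6222 F31066) (tt N14379 D22760) (tt N3286 (iv4 D10760)) (tt N14380 D22761) (tt N14381 D22762) (tt N14129 (iv7 F34832)))
theorem Q6986 : ∀ i, i < 6986 → P i := stepQ 6985 Q6985 (allL N6985 (tt N14382 D22763) (tt N14383 D22764) (tt N14126 (iv2 F34825)) (tt N14376 (iv3 F35305)) (tt N14384 D22765) (tt N3286 (iv5 D10761)) (tt N14385 D22766) (tt N14130 (iv7 F34838)))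
theorem Q6987 : ∀ i, i < 6987 → P i := stepQ 6986 Q6986 (allL N6986 (tt N14244 (iv1 F35555)) (tt N13320 (iv0 F292741)) (tt N14127 (iv2 F34827)) (tt N14377 (iv3 F35306)) (tt N14381 (iv4 F35322)) (tt N14386 D22769) (tt N3286 (iv6 D10762)) (tt N14387 D22770))
theorem Q6988 : ∀ i, i < 6988 → P i := stepQ 6987 Q6987 (allL N6987 (tt N14283 F290138) (tt N14388 D22772) (tt N14389 D22773) (tt N3287 (iv3 D10764)) (tt N14390 D22774) (tt N9849 (iv5 F328619)) (tt N14391 D22776) (tt N14125 (iv7 F34824)))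
theorem Q6989 : ∀ i, i < 6989 → P i := stepQ 6988 Q6988 (allL N6988 (tt N6410 F35828) (tt N14378 F35307) (tt N14129 (iv2 F34831)) (tt N6189 (iv3 F17290)) (tt N3287 (iv4 D10765)) (tt N12868 F31005) (tt N13345 F294761) (tt N6222 F31046))
theorem Q6990 : ∀ i, i < 6990 → P i := stepQ 6989 Q6989 (allL N6989 (tt N14383 (iv1 F35332)) (tt N14382 F35328) (tt N14130 (iv2 F34837)) (tt N9849 F329048) (tt N14392 D22778) (tt N3287 (iv5 D10766)) (tt N9847 (iv6 F329373)) (tt N14126 (iv7 F34826)))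
theorem Q6991 : ∀ i, i < 6991 → P i := stepQ 6990 Q6990 (allL N6990 (tt N13764 (iv1 F66263)) (tt N14194 (iv0 F66258)) (tt N14131 (iv2 F34839)) (tt N14391 (iv3 F35341)) (tt N13345 (iv4 F293883)) (tt N14393 D22782) (tt N3287 (iv6 D10767)) (tt N14394 D22783))
theorem Q6992 : ∀ i, i < 6992 → P i := stepQ 6991 Q6991 (allL N6991 (tt N14135 (iv1 F34846)) (tt N3288 (iv0 D10768)) (tt N14132 (iv2 F64425)) (tt N14395 D22785) (tt N14396 D22786) (tt N14397 D22787) (tt N14398 D22788) (tt N14133 (iv7 F64423)))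
theorem Q6993 : ∀ i, i < 6993 → P i := stepQ 6992 Q6992 (allL N6992 (tt N3288 (iv1 D10769)) (tt N14135 F34845) (tt N14133 (iv2 F64422)) (tt N14399 D22790) (tt N14400 D22791) (tt N14401 D22792) (tt N14402 D22793) (tt N14132 (iv7 F64426)))
theorem Q6994 : ∀ i, i < 6994 → P i := stepQ 6993 Q6993 (allL N6993 (tt N14403 D22794) (tt N14404 D22795) (tt N14134 (iv2 F34841)) (tt N14405 D22796) (tt N3288 (iv4 D10770)) (tt N14406 D22797) (tt N14367 (iv6 F35299)) (tt N14407 D22798))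
theorem Q6995 : ∀ i, i < 6995 → P i := stepQ 6994 Q6994 (allL N6994 (tt N14133 (iv1 F34840)) (tt N14132 F34844) (tt N14135 (iv2 F34842)) (tt N14335 (iv3 F35285)) (tt N14407 (iv4 F35346)) (tt N3289 F17291) (tt N14408 D22799) (tt N3288 (iv7 D10771)))
theorem Q6996 : ∀ i, i < 6996 → P i := stepQ 6995 Q6995 (allL N6995 (tt N13307 F291050) (tt N13925 F34320) (tt N13927 (iv2 F34317)) (tt N6221 F17292) (tt N3299 F17293) (tt N14409 D22800) (tt N3289 (iv6 D10772)) (tt N3290 F17294))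
theorem Q6997 : ∀ i, i < 6997 → P i := stepQ 6996 Q6996 (allL N6996 (tt N13927 (iv1 F34323)) (tt N3290 (iv0 D10773)) (tt N13925 (iv2 F66608)) (tt N14410 D22802) (tt N13434 (iv4 F66647)) (tt N14411 D22804) (tt N14412 D22805) (tt N13307 F291102))
theorem Q6998 : ∀ i, i < 6998 → P i := stepQ 6997 Q6997 (allL N6997 (tt N3290 (iv1 D10774)) (tt N13927 F34321) (tt N13307 F291100) (tt N14413 D22807) (tt N13393 F291101) (tt N14414 D22809) (tt N13201 (iv6 F291721)) (tt N13925 (iv7 F66609)))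
theorem Q6999 : ∀ i, i < 6999 → P i := stepQ 6998 Q6998 (allL N6998 (tt N14415 D22811) (tt N14416 D22812) (tt N13926 (iv2 F34316)) (tt N6220 F17295) (tt N14417 D22813) (tt N3290 (iv5 D10775)) (tt N14372 (iv6 F35304)) (tt N14409 (iv7 F35348)))
theorem Q7000 : ∀ i, i < 7000 → P i := stepQ 6999 Q6999 (allL N6999 (tt N13932 F63111) (tt N3291 (iv0 D10782)) (tt N13933 F63112) (tt N3358 F35318) (tt N12869 F35319) (tt N13055 (iv5 F61489)) (tt N13792 (iv6 F63128)) (tt N6644 F63113))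
theorem Q7001 : ∀ i, i < 7001 → P i := stepQ 7000 Q7000 (allL N7000 (tt N13933 F63107) (tt N6644 F63108) (tt N3291 (iv2 D10784)) (tt N13590 (iv3 F63115)) (tt N6218 (iv4 F17365)) (tt N14418 D22819) (tt N14419 D22820) (tt N13932 (iv7 F63104)))
theorem Q7002 : ∀ i, i < 7002 → P i := stepQ 7001 Q7001 (allL N7001 (tt N6221 F17306) (tt N6187 (iv0 F17307)) (tt N6218 F17364) (tt N14420 D22821) (tt N3291 (iv4 D10785)) (tt N14421 D22822) (tt N14422 D22823) (tt N6219 F17363))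
theorem Q7003 : ∀ i, i < 7003 → P i := stepQ 7002 Q7002 (allL N7002 (tt N14423 D22824) (tt N14424 D22825) (tt N14418 (iv2 F35389)) (tt N3293 F17308) (tt N14425 D22826) (tt N3291 (iv5 D10786)) (tt N14426 D22827) (tt N7003 (iv7 F17361)))
theorem Q7004 : ∀ i, i < 7004 → P i := stepQ 7003 Q7003 (allL N7003 (tt N14427 D22828) (tt N14428 D22829) (tt N14419 (iv2 F35390)) (tt N3294 F17309) (tt N14422 (iv4 F35399)) (tt N6884 (iv5 F17310)) (tt N3291 (iv6 D10787)) (tt N7002 F17361))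
theorem Q7005 : ∀ i, i < 7005 → P i := stepQ 7004 Q7004 (allL N7004 (tt N3296 (iv1 F17316)) (tt N3292 (iv0 D10789)) (tt N14137 (iv2 F35951)) (tt N14429 D22831) (tt N12866 (iv4 F34854)) (tt N14430 D22832) (tt N14161 (iv6 F35655)) (tt N13224 (iv7 F35585)))
theorem Q7006 : ∀ i, i < 7006 → P i := stepQ 7005 Q7005 (allL N7005 (tt N14431 D22838) (tt N14167 F289717) (tt N14432 D22840) (tt N3292 (iv3 D10791)) (tt N14420 (iv4 F35394)) (tt N14433 D22841) (tt N14434 D22842) (tt N14142 (iv7 F34885)))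
theorem Q7007 : ∀ i, i < 7007 → P i := stepQ 7006 Q7006 (allL N7006 (tt N14435 D22843) (tt N14436 D22844) (tt N14139 (iv2 F34868)) (tt N14433 (iv3 F35410)) (tt N14437 D22845) (tt N3292 (iv5 D10792)) (tt N14438 D22846) (tt N14143 (iv7 F34887)))
theorem Q7008 : ∀ i, i < 7008 → P i := stepQ 7007 Q7007 (allL N7007 (tt N14237 (iv1 F62996)) (tt N14439 D22848) (tt N7020 F17360) (tt N14434 (iv3 F35411)) (tt N3294 F17313) (tt N14440 D22849) (tt N3292 (iv6 D10793)) (tt N7010 F17362))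
theorem Q7009 : ∀ i, i < 7009 → P i := stepQ 7008 Q7008 (allL N7008 (tt N3297 (iv1 F17323)) (tt N3293 (iv0 D10795)) (tt N6458 F292192) (tt N7008 F62158) (tt N14441 D22852) (tt N6854 F17317) (tt N6381 F292193) (tt N6934 F35011))
theorem Q7010 : ∀ i, i < 7010 → P i := stepQ 7009 Q7009 (allL N7009 (tt N3293 (iv1 D10796)) (tt N3297 F17318) (tt N6934 (iv2 F35014)) (tt N3333 (iv3 F62695)) (tt N14442 D22855) (tt N13118 F62685) (tt N3332 (iv6 F62698)) (tt N6458 (iv7 F291881)))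
theorem Q7011 : ∀ i, i < 7011 → P i := stepQ 7010 Q7010 (allL N7010 (tt N14443 D22857) (tt N14444 D22858) (tt N14140 (iv2 F34870)) (tt N14445 D22859) (tt N3293 (iv4 D10797)) (tt N14446 D22860) (tt N14447 D22861) (tt N7007 (iv7 F17362)))
theorem Q7012 : ∀ i, i < 7012 → P i := stepQ 7011 Q7011 (allL N7011 (tt N6911 F17320) (tt N6689 F65717) (tt N7021 (iv2 F17343)) (tt N14426 (iv3 F35403)) (tt N14447 (iv4 F35560)) (tt N6886 F17319) (tt N3293 (iv6 D10798)) (tt N6886 F17325))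
theorem Q7013 : ∀ i, i < 7013 → P i := stepQ 7012 Q7012 (allL N7012 (tt N3295 (iv1 D10805)) (tt N13590 F63133) (tt N13591 F63134) (tt N3352 F34856) (tt N12906 F34857) (tt N13070 (iv5 F35825)) (tt N13594 (iv6 F63169)) (tt N6576 F63135))
theorem Q7014 : ∀ i, i < 7014 → P i := stepQ 7013 Q7013 (allL N7013 (tt N6576 F63131) (tt N13591 F63132) (tt N3295 (iv2 D10806)) (tt N13932 (iv3 F63101)) (tt N13432 (iv4 F35633)) (tt N14448 D22868) (tt N14449 D22869) (tt N13590 (iv7 F63118)))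
theorem Q7015 : ∀ i, i < 7015 → P i := stepQ 7014 Q7014 (allL N7014 (tt N6413 (iv1 F35613)) (tt N12893 (iv0 F31083)) (tt N13432 (iv2 F35632)) (tt N14450 D22871) (tt N3295 (iv4 D10807)) (tt N14451 D22872) (tt N14452 D22873) (tt N13431 (iv7 F35637)))
theorem Q7016 : ∀ i, i < 7016 → P i := stepQ 7015 Q7015 (allL N7015 (tt N14453 D22874) (tt N14454 D22875) (tt N14448 (iv2 F35569)) (tt N3297 F17331) (tt N14455 D22876) (tt N3295 (iv5 D10808)) (tt N6881 (iv6 F17332)) (tt N14136 (iv7 F34862)))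
theorem Q7017 : ∀ i, i < 7017 → P i := stepQ 7016 Q7016 (allL N7016 (tt N14456 D22877) (tt N14457 D22878) (tt N14449 (iv2 F35572)) (tt N3298 F17333) (tt N14452 (iv4 F35574)) (tt N14458 D22879) (tt N3295 (iv6 D10809)) (tt N14458 F35578))
theorem Q7018 : ∀ i, i < 7018 → P i := stepQ 7017 Q7017 (allL N7017 (tt N14216 (iv1 F66885)) (tt N14459 D22881) (tt N14460 D22882) (tt N3296 (iv3 D10810)) (tt N14450 (iv4 F35573)) (tt N14461 D22883) (tt N14462 D22884) (tt N14138 (iv7 F34867)))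
theorem Q7019 : ∀ i, i < 7019 → P i := stepQ 7018 Q7018 (allL N7018 (tt N14436 (iv1 F35413)) (tt N14435 F35412) (tt N14143 (iv2 F34886)) (tt N14461 (iv3 F35579)) (tt N14463 D22885) (tt N3296 (iv5 D10811)) (tt N14464 D22886) (tt N14139 (iv7 F34869)))
theorem Q7020 : ∀ i, i < 7020 → P i := stepQ 7019 Q7019 (allL N7019 (tt N14465 D22887) (tt N14184 (iv0 F64196)) (tt N14144 (iv2 F34888)) (tt N14462 (iv3 F35580)) (tt N3298 F17334) (tt N14466 D22889) (tt N3296 (iv6 D10812)) (tt N14467 D22890))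
theorem Q7021 : ∀ i, i < 7021 → P i := stepQ 7020 Q7020 (allL N7020 (tt N14444 (iv1 F35557)) (tt N14443 F35556) (tt N7007 (iv2 F17360)) (tt N14468 D22891) (tt N3297 (iv4 D10813)) (tt N14469 D22892) (tt N6882 F17335) (tt N14140 (iv7 F34871)))
theorem Q7022 : ∀ i, i < 7022 → P i := stepQ 7021 Q7021 (allL N7021 (tt N6146 F293528) (tt N6832 (iv0 F17339)) (tt N7011 F17343) (tt N14458 (iv3 F35576)) (tt N14467 (iv4 F35957)) (tt N3298 (iv5 D10816)) (tt N6883 F17338) (tt N3298 (iv7 F17340)))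
theorem Q7023 : ∀ i, i < 7023 → P i := stepQ 7022 Q7022 (allL N7022 (tt N13068 F31440) (tt N13285 F290628) (tt N13220 F290629) (tt N3348 (iv3 F290719)) (tt N14470 D22895) (tt N3299 (iv5 D10817)) (tt N3347 (iv6 F290725)) (tt N3302 F17369))
theorem Q7024 : ∀ i, i < 7024 → P i := stepQ 7023 Q7023 (allL N7023 (tt N13792 (iv1 F66730)) (tt N13521 (iv0 F66797)) (tt N13790 (iv2 F66808)) (tt N3300 (iv3 D10819)) (tt N14314 F35258) (tt N13150 F290671) (tt N14471 D22906) (tt N13149 (iv7 F290866)))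
theorem Q7025 : ∀ i, i < 7025 → P i := stepQ 7024 Q7024 (allL N7024 (tt N14161 (iv1 F66540)) (tt N14072 (iv0 F66633)) (tt N13928 (iv2 F66826)) (tt N14472 D22910) (tt N3300 (iv4 D10820)) (tt N14473 D22911) (tt N14474 D22912) (tt N13172 (iv7 F290868)))
theorem Q7026 : ∀ i, i < 7026 → P i := stepQ 7025 Q7025 (allL N7025 (tt N13303 (iv1 F290869)) (tt N7114 (iv0 F290871)) (tt N13304 F290672) (tt N14471 (iv3 F35976)) (tt N14474 (iv4 F35979)) (tt N6408 (iv5 F290873)) (tt N3300 (iv6 D10822)) (tt N6407 (iv7 F290875)))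
theorem Q7027 : ∀ i, i < 7027 → P i := stepQ 7026 Q7026 (allL N7026 (tt N6572 F66796) (tt N13594 (iv0 F66798)) (tt N13593 (iv2 F66843)) (tt N3301 (iv3 D10824)) (tt N13442 (iv4 F66505)) (tt N6498 (iv5 F290803)) (tt N6500 (iv6 F290979)) (tt N13592 (iv7 F66840)))
theorem Q7028 : ∀ i, i < 7028 → P i := stepQ 7027 Q7027 (allL N7027 (tt N14072 (iv1 F66634)) (tt N14161 (iv0 F66539)) (tt N13172 F290973) (tt N14475 D22927) (tt N3301 (iv4 D10825)) (tt N14476 D22928) (tt N6508 (iv6 F291510)) (tt N13928 (iv7 F66827)))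
theorem Q7029 : ∀ i, i < 7029 → P i := stepQ 7028 Q7028 (allL N7028 (tt N13220 (iv1 F290587)) (tt N3302 (iv0 D10828)) (tt N13285 (iv2 F290585)) (tt N14477 D22935) (tt N14478 D22936) (tt N13069 (iv5 F63524)) (tt N6595 (iv6 F290588)) (tt N13068 (iv7 F63522)))
theorem Q7030 : ∀ i, i < 7030 → P i := stepQ 7029 Q7029 (allL N7029 (tt N14479 D22942) (tt N13262 (iv0 F290739)) (tt N13929 (iv2 F34329)) (tt N12901 (iv3 F290751)) (tt N3302 (iv4 D10830)) (tt N14480 D22945) (tt N3308 F17372) (tt N14470 (iv7 F35966)))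
theorem Q7031 : ∀ i, i < 7031 → P i := stepQ 7030 Q7030 (allL N7030 (tt N5560 F17375) (tt N8672 F27386) (tt N11582 (iv2 F28056)) (tt N3304 (iv3 D10832)) (tt N11582 (iv4 F28058)) (tt N14481 D22946) (tt N6263 F17374) (tt N11902 (iv7 F28628)))
theorem Q7032 : ∀ i, i < 7032 → P i := stepQ 7031 Q7031 (allL N7031 (tt N13292 (iv1 F31936)) (tt N11718 F296035) (tt N6275 F17376) (tt N14481 (iv3 F36001)) (tt N14482 D22947) (tt N3304 (iv5 D10833)) (tt N14483 D22948) (tt N13086 (iv7 F31457)))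
theorem Q7033 : ∀ i, i < 7033 → P i := stepQ 7032 Q7032 (allL N7032 (tt N11718 F296036) (tt N13292 (iv0 F31935)) (tt N13086 (iv2 F31456)) (tt N11724 (iv3 F30318)) (tt N14484 D22953) (tt N3306 (iv5 D10837)) (tt N14485 D22954) (tt N6275 F17630))
theorem Q7034 : ∀ i, i < 7034 → P i := stepQ 7033 Q7033 (allL N7033 (tt N6573 (iv1 F17633)) (tt N6502 (iv0 F17634)) (tt N13157 F31707) (tt N3307 (iv3 D10840)) (tt N13174 (iv4 F31738)) (tt N6481 F17632) (tt N14486 D22959) (tt N12917 (iv7 F31144)))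
theorem Q7035 : ∀ i, i < 7035 → P i := stepQ 7034 Q7034 (allL N7034 (tt N12944 (iv1 F31234)) (tt N12943 F31233) (tt N12947 (iv2 F31236)) (tt N14487 D22960) (tt N3307 (iv4 D10841)) (tt N14488 D22961) (tt N14489 D22962) (tt N12919 (iv7 F31152)))
theorem Q7036 : ∀ i, i < 7036 → P i := stepQ 7035 Q7035 (allL N7035 (tt N6239 (iv1 F291173)) (tt N12895 (iv0 F291627)) (tt N12900 (iv2 F291304)) (tt N14486 (iv3 F36017)) (tt N14489 (iv4 F36019)) (tt N6623 (iv5 F291276)) (tt N3307 (iv6 D10842)) (tt N6546 (iv7 F291308)))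
theorem Q7037 : ∀ i, i < 7037 → P i := stepQ 7036 Q7036 (allL N7036 (tt N12916 (iv1 F31141)) (tt N3308 (iv0 D10843)) (tt N13090 F31469) (tt N14490 D22966) (tt N11255 (iv4 F27434)) (tt N14491 D22967) (tt N6537 (iv6 F291752)) (tt N13089 (iv7 F31470)))
theorem Q7038 : ∀ i, i < 7038 → P i := stepQ 7037 Q7037 (allL N7037 (tt N3308 (iv1 D10844)) (tt N12916 F31142) (tt N13089 (iv2 F31472)) (tt N14492 D22969) (tt N13138 (iv4 F31646)) (tt N14493 D22970) (tt N14494 D22971) (tt N13090 F31471))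
theorem Q7039 : ∀ i, i < 7039 → P i := stepQ 7038 Q7038 (allL N7038 (tt N13258 (iv1 F291695)) (tt N14495 D22973) (tt N14496 D22974) (tt N3308 (iv3 D10845)) (tt N3367 F17636) (tt N14497 D22975) (tt N12901 (iv6 F291697)) (tt N12908 (iv7 F291749)))
theorem Q7040 : ∀ i, i < 7040 → P i := stepQ 7039 Q7039 (allL N7039 (tt N13614 (iv1 F291757)) (tt N13617 (iv0 F291761)) (tt N13931 (iv2 F34338)) (tt N14497 (iv3 F36029)) (tt N14498 D22978) (tt N3308 (iv5 D10846)) (tt N14499 D22979) (tt N13091 (iv7 F31475)))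
theorem Q7041 : ∀ i, i < 7041 → P i := stepQ 7040 Q7040 (allL N7040 (tt N14500 D22980) (tt N14500 F36032) (tt N7066 (iv2 F17701)) (tt N3309 (iv3 D10847)) (tt N7040 F17637) (tt N10566 F26946) (tt N14501 D22981) (tt N7066 (iv7 F17703)))
theorem Q7042 : ∀ i, i < 7042 → P i := stepQ 7041 Q7041 (allL N7041 (tt N6670 F17639) (tt N6667 F17640) (tt N3313 F17638) (tt N10566 (iv3 F26945)) (tt N8806 (iv4 F22032)) (tt N3309 (iv5 D10848)) (tt N14502 D22982) (tt N7067 (iv7 F17705)))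
theorem Q7043 : ∀ i, i < 7043 → P i := stepQ 7042 Q7042 (allL N7042 (tt N13269 F31879) (tt N14503 D22983) (tt N3314 F17641) (tt N14501 (iv3 F36033)) (tt N3310 F17642) (tt N14504 D22984) (tt N3309 (iv6 D10849)) (tt N14505 D22985))
theorem Q7044 : ∀ i, i < 7044 → P i := stepQ 7043 Q7043 (allL N7043 (tt N3317 (iv1 F17650)) (tt N3310 (iv0 D10850)) (tt N3315 (iv2 F63377)) (tt N6891 F65765) (tt N14506 D22988) (tt N13101 F292161) (tt N6686 F17643) (tt N3316 (iv7 F63383)))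
theorem Q7045 : ∀ i, i < 7045 → P i := stepQ 7044 Q7044 (allL N7044 (tt N3310 (iv1 D10851)) (tt N3317 F17644) (tt N3316 F63388) (tt N13260 F31868) (tt N14507 D22991) (tt N14508 D22992) (tt N14509 D22993) (tt N3315 F63389))
theorem Q7046 : ∀ i, i < 7046 → P i := stepQ 7045 Q7045 (allL N7045 (tt N3316 (iv1 F17651)) (tt N3315 F17652) (tt N3317 F17648) (tt N7045 F17649) (tt N14505 (iv4 F36041)) (tt N6205 (iv5 F291975)) (tt N7072 (iv6 F17717)) (tt N3310 (iv7 D10853)))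
theorem Q7047 : ∀ i, i < 7047 → P i := stepQ 7046 Q7046 (allL N7046 (tt N14510 D22997) (tt N14511 D22998) (tt N14512 D22999) (tt N3311 (iv3 D10854)) (tt N14071 (iv4 F34682)) (tt N13727 (iv5 F33521)) (tt N14513 D23000) (tt N7073 (iv7 F17722)))
theorem Q7048 : ∀ i, i < 7048 → P i := stepQ 7047 Q7047 (allL N7047 (tt N13656 (iv1 F66715)) (tt N7131 F66548) (tt N7076 (iv2 F17726)) (tt N14513 (iv3 F36064)) (tt N11997 (iv4 F29057)) (tt N14514 D23003) (tt N3311 (iv6 D10855)) (tt N14515 D23004))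
theorem Q7049 : ∀ i, i < 7049 → P i := stepQ 7048 Q7048 (allL N7048 (tt N14516 D23005) (tt N14517 D23006) (tt N14518 D23007) (tt N3312 (iv3 D10856)) (tt N6519 F17653) (tt N13729 (iv5 F33522)) (tt N14519 D23008) (tt N7075 (iv7 F17725)))
theorem Q7050 : ∀ i, i < 7050 → P i := stepQ 7049 Q7049 (allL N7049 (tt N3354 F35640) (tt N7128 F35641) (tt N7074 (iv2 F17723)) (tt N14519 (iv3 F36069)) (tt N6516 F17654) (tt N14520 D23009) (tt N3312 (iv6 D10857)) (tt N7130 (iv7 F35593)))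
theorem Q7051 : ∀ i, i < 7051 → P i := stepQ 7050 Q7050 (allL N7050 (tt N12344 (iv1 F29675)) (tt N12343 F29672) (tt N8806 (iv2 F22031)) (tt N14521 D23010) (tt N3313 (iv4 D10858)) (tt N8804 (iv5 F22025)) (tt N14522 D23011) (tt N7077 (iv7 F17729)))
theorem Q7052 : ∀ i, i < 7052 → P i := stepQ 7051 Q7051 (allL N7051 (tt N14523 D23012) (tt N14524 D23013) (tt N14502 (iv2 F36035)) (tt N7078 (iv3 F17731)) (tt N14522 (iv4 F36071)) (tt N14525 D23014) (tt N3313 (iv6 D10859)) (tt N14526 D23015))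
theorem Q7053 : ∀ i, i < 7053 → P i := stepQ 7052 Q7052 (allL N7052 (tt N14505 (iv1 F36043)) (tt N3314 (iv0 D10860)) (tt N13269 (iv2 F35764)) (tt N14527 D23016) (tt N13268 F35765) (tt N14528 D23017) (tt N14529 D23018) (tt N14503 (iv7 F36037)))
theorem Q7054 : ∀ i, i < 7054 → P i := stepQ 7053 Q7053 (allL N7053 (tt N3314 (iv1 D10861)) (tt N14505 F36042) (tt N14503 F36038) (tt N14530 D23019) (tt N13198 (iv4 F31764)) (tt N14531 D23020) (tt N14532 D23021) (tt N13269 (iv7 F35763)))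
theorem Q7055 : ∀ i, i < 7055 → P i := stepQ 7054 Q7054 (allL N7054 (tt N14533 D23022) (tt N14534 D23023) (tt N14504 (iv2 F36039)) (tt N7081 (iv3 F17732)) (tt N14535 D23024) (tt N3314 (iv5 D10862)) (tt N14525 (iv6 F36072)) (tt N14536 D23025))
theorem Q7056 : ∀ i, i < 7056 → P i := stepQ 7055 Q7055 (allL N7055 (tt N14503 (iv1 F36036)) (tt N13269 (iv0 F31878)) (tt N14505 (iv2 F36040)) (tt N7082 (iv3 F17733)) (tt N3317 F17655) (tt N14536 (iv5 F36073)) (tt N7082 (iv6 F17735)) (tt N3314 (iv7 D10863)))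
theorem Q7057 : ∀ i, i < 7057 → P i := stepQ 7056 Q7056 (allL N7056 (tt N13477 F291447) (tt N13365 (iv0 F65640)) (tt N13256 (iv2 F63405)) (tt N3315 (iv3 D10865)) (tt N13193 F31760) (tt N14537 D23035) (tt N14457 (iv6 F65930)) (tt N13260 (iv7 F63390)))
theorem Q7058 : ∀ i, i < 7058 → P i := stepQ 7057 Q7057 (allL N7057 (tt N14538 D23038) (tt N13644 (iv0 F66025)) (tt N14506 (iv2 F63379)) (tt N14539 D23040) (tt N3315 (iv4 D10866)) (tt N14540 D23041) (tt N14541 D23042) (tt N14507 (iv7 F63392)))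
theorem Q7059 : ∀ i, i < 7059 → P i := stepQ 7058 Q7058 (allL N7058 (tt N14542 D23044) (tt N6567 F294205) (tt N13101 F292153) (tt N14537 (iv3 F36084)) (tt N14543 D23046) (tt N3315 (iv5 D10867)) (tt N13093 F292154) (tt N14508 (iv7 F63394)))
theorem Q7060 : ∀ i, i < 7060 → P i := stepQ 7059 Q7059 (allL N7059 (tt N7129 F63191) (tt N6244 F293028) (tt N6686 F63368) (tt N14457 (iv3 F65927)) (tt N14541 (iv4 F36090)) (tt N6653 F17657) (tt N3315 (iv6 D10868)) (tt N6682 F63369))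
theorem Q7061 : ∀ i, i < 7061 → P i := stepQ 7060 Q7060 (allL N7060 (tt N6887 F65646) (tt N6893 (iv0 F65647)) (tt N6892 F65768) (tt N3316 (iv3 D10870)) (tt N14544 D23055) (tt N14545 D23056) (tt N14546 D23057) (tt N6891 F65769))
theorem Q7062 : ∀ i, i < 7062 → P i := stepQ 7061 Q7061 (allL N7061 (tt N13644 (iv1 F66026)) (tt N14538 F36093) (tt N14507 (iv2 F63391)) (tt N14547 D23058) (tt N3316 (iv4 D10871)) (tt N14548 D23059) (tt N14549 D23060) (tt N14506 (iv7 F63380)))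
theorem Q7063 : ∀ i, i < 7063 → P i := stepQ 7062 Q7062 (allL N7062 (tt N6567 F294206) (tt N14542 (iv0 F36096)) (tt N14508 (iv2 F63393)) (tt N14545 (iv3 F36116)) (tt N14550 D23061) (tt N3316 (iv5 D10872)) (tt N14551 D23062) (tt N13101 F292162))
theorem Q7064 : ∀ i, i < 7064 → P i := stepQ 7063 Q7063 (allL N7063 (tt N3345 F291025) (tt N13657 (iv0 F63397)) (tt N14509 (iv2 F63396)) (tt N14546 (iv3 F36117)) (tt N14549 (iv4 F36118)) (tt N13589 (iv5 F291414)) (tt N3316 (iv6 D10873)) (tt N14552 D23066))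
theorem Q7065 : ∀ i, i < 7065 → P i := stepQ 7064 Q7064 (allL N7064 (tt N6949 F66082) (tt N6867 F66083) (tt N6909 (iv2 F65672)) (tt N6562 F17663) (tt N3318 (iv4 D10881)) (tt N14553 D23096) (tt N12722 F294114) (tt N6912 (iv7 F65669)))
theorem Q7066 : ∀ i, i < 7066 → P i := stepQ 7065 Q7065 (allL N7065 (tt N13486 (iv1 F291170)) (tt N13489 (iv0 F291079)) (tt N6910 (iv2 F65683)) (tt N3319 F17664) (tt N14554 D23099) (tt N3318 (iv5 D10882)) (tt N6338 F290846) (tt N6913 (iv7 F65670)))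
theorem Q7067 : ∀ i, i < 7067 → P i := stepQ 7066 Q7066 (allL N7066 (tt N14555 D23147) (tt N14555 F36217) (tt N7040 F17701) (tt N3322 (iv3 D10901)) (tt N7066 F17702) (tt N14556 D23148) (tt N14557 D23149) (tt N7040 F17703))
theorem Q7068 : ∀ i, i < 7068 → P i := stepQ 7067 Q7067 (allL N7067 (tt N6762 F17707) (tt N6759 F17708) (tt N3326 F17704) (tt N14556 (iv3 F36219)) (tt N5952 F17706) (tt N3322 (iv5 D10902)) (tt N14558 D23150) (tt N7041 F17705))
theorem Q7069 : ∀ i, i < 7069 → P i := stepQ 7068 Q7068 (allL N7068 (tt N13471 F32655) (tt N14559 D23151) (tt N3327 F17709) (tt N14557 (iv3 F36223)) (tt N3323 F17710) (tt N14560 D23152) (tt N3322 (iv6 D10903)) (tt N14561 D23153))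
theorem Q7070 : ∀ i, i < 7070 → P i := stepQ 7069 Q7069 (allL N7069 (tt N3331 (iv1 F17718)) (tt N3323 (iv0 D10904)) (tt N3328 F62806) (tt N14082 (iv3 F62808)) (tt N14562 D23156) (tt N3341 F291948) (tt N6358 F291949) (tt N3329 F62807))
theorem Q7071 : ∀ i, i < 7071 → P i := stepQ 7070 Q7070 (allL N7070 (tt N3323 (iv1 D10905)) (tt N3331 F17711) (tt N3329 (iv2 F62797)) (tt N6920 F62796) (tt N14563 D23159) (tt N6198 F292527) (tt N7125 F63293) (tt N3328 (iv7 F62805)))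
theorem Q7072 : ∀ i, i < 7072 → P i := stepQ 7071 Q7071 (allL N7071 (tt N12704 F292377) (tt N13754 (iv0 F33559)) (tt N3330 F17712) (tt N7071 F17713) (tt N14564 D23162) (tt N3323 (iv5 D10906)) (tt N6153 F17714) (tt N14565 D23163))
theorem Q7073 : ∀ i, i < 7073 → P i := stepQ 7072 Q7072 (allL N7072 (tt N3329 (iv1 F17719)) (tt N3328 F17720) (tt N3331 F17715) (tt N7072 F17716) (tt N14561 (iv4 F36232)) (tt N14565 (iv5 F36242)) (tt N7045 F17717) (tt N3323 (iv7 D10907)))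
theorem Q7074 : ∀ i, i < 7074 → P i := stepQ 7073 Q7073 (allL N7073 (tt N14566 D23164) (tt N14567 D23165) (tt N14568 D23166) (tt N3324 (iv3 D10908)) (tt N6896 F17721) (tt N13894 (iv5 F34129)) (tt N14569 D23167) (tt N7046 F17722))
theorem Q7075 : ∀ i, i < 7075 → P i := stepQ 7074 Q7074 (allL N7074 (tt N7116 F35591) (tt N3360 F35592) (tt N7049 F17723) (tt N14569 (iv3 F36254)) (tt N12764 (iv4 F30834)) (tt N14570 D23168) (tt N3324 (iv6 D10909)) (tt N7119 (iv7 F35643)))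
theorem Q7076 : ∀ i, i < 7076 → P i := stepQ 7075 Q7075 (allL N7075 (tt N14571 D23169) (tt N14572 D23170) (tt N14573 D23171) (tt N3325 (iv3 D10910)) (tt N6403 F17724) (tt N13896 (iv5 F34132)) (tt N14574 D23172) (tt N7048 F17725))
theorem Q7077 : ∀ i, i < 7077 → P i := stepQ 7076 Q7076 (allL N7076 (tt N7120 (iv1 F66549)) (tt N13809 (iv0 F66764)) (tt N7047 F17726) (tt N14574 (iv3 F36275)) (tt N6401 F17727) (tt N14575 D23175) (tt N3325 (iv6 D10911)) (tt N14576 D23176))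
theorem Q7078 : ∀ i, i < 7078 → P i := stepQ 7077 Q7077 (allL N7077 (tt N12036 (iv1 F29100)) (tt N12033 (iv0 F29095)) (tt N5952 F17728) (tt N14577 D23177) (tt N3326 (iv4 D10912)) (tt N5948 F17730) (tt N14578 D23178) (tt N7050 F17729))
theorem Q7079 : ∀ i, i < 7079 → P i := stepQ 7078 Q7078 (allL N7078 (tt N14579 D23179) (tt N14580 D23180) (tt N14558 (iv2 F36225)) (tt N7051 F17731) (tt N14578 (iv4 F36289)) (tt N14581 D23181) (tt N3326 (iv6 D10913)) (tt N14582 D23182))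
theorem Q7080 : ∀ i, i < 7080 → P i := stepQ 7079 Q7079 (allL N7079 (tt N14561 (iv1 F36235)) (tt N3327 (iv0 D10914)) (tt N13471 (iv2 F35944)) (tt N14583 D23183) (tt N12815 F62965) (tt N14584 D23184) (tt N12889 F291934) (tt N14559 (iv7 F36228)))
theorem Q7081 : ∀ i, i < 7081 → P i := stepQ 7080 Q7080 (allL N7080 (tt N3327 (iv1 D10915)) (tt N14561 F36234) (tt N14559 F36229) (tt N14585 D23186) (tt N12816 F62970) (tt N14586 D23187) (tt N14587 D23188) (tt N13471 (iv7 F35943)))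
theorem Q7082 : ∀ i, i < 7082 → P i := stepQ 7081 Q7081 (allL N7081 (tt N14588 D23189) (tt N14589 D23190) (tt N14560 (iv2 F36230)) (tt N7054 F17732) (tt N14590 D23191) (tt N3327 (iv5 D10916)) (tt N14581 (iv6 F36291)) (tt N14591 D23192))
theorem Q7083 : ∀ i, i < 7083 → P i := stepQ 7082 Q7082 (allL N7082 (tt N14559 (iv1 F36227)) (tt N13471 (iv0 F32654)) (tt N14561 (iv2 F36231)) (tt N7055 F17733) (tt N3331 F17734) (tt N14591 (iv5 F36295)) (tt N7055 F17735) (tt N3327 (iv7 D10917)))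
theorem Q7084 : ∀ i, i < 7084 → P i := stepQ 7083 Q7083 (allL N7083 (tt N6922 (iv1 F62737)) (tt N6915 F62736) (tt N6919 F62780) (tt N3328 (iv3 D10919)) (tt N13411 F32511) (tt N6191 (iv5 F291264)) (tt N12665 F291032) (tt N6920 (iv7 F62784)))
theorem Q7085 : ∀ i, i < 7085 → P i := stepQ 7084 Q7084 (allL N7084 (tt N14592 D23205) (tt N13776 (iv0 F62739)) (tt N14562 (iv2 F62809)) (tt N14593 D23207) (tt N3328 (iv4 D10920)) (tt N14594 D23208) (tt N12670 F292525) (tt N14563 (iv7 F62799)))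
theorem Q7086 : ∀ i, i < 7086 → P i := stepQ 7085 Q7085 (allL N7085 (tt N13789 (iv1 F62735)) (tt N13286 F292794) (tt N14083 (iv2 F62756)) (tt N3329 (iv3 D10924)) (tt N12825 F62578) (tt N13267 F292795) (tt N14427 (iv6 F63231)) (tt N14082 (iv7 F62764)))
theorem Q7087 : ∀ i, i < 7087 → P i := stepQ 7086 Q7086 (allL N7086 (tt N13776 (iv1 F62740)) (tt N14592 F36312) (tt N14563 (iv2 F62798)) (tt N14595 D23226) (tt N3329 (iv4 D10925)) (tt N14596 D23227) (tt N14597 D23228) (tt N14562 (iv7 F62810)))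
theorem Q7088 : ∀ i, i < 7088 → P i := stepQ 7087 Q7087 (allL N7087 (tt N3355 F63188) (tt N7118 (iv0 F63228)) (tt N7125 F63290) (tt N14427 (iv3 F63230)) (tt N14597 (iv4 F36326)) (tt N13128 (iv5 F63242)) (tt N3329 (iv6 D10927)) (tt N7126 F63291))
theorem Q7089 : ∀ i, i < 7089 → P i := stepQ 7088 Q7088 (allL N7088 (tt N14565 (iv1 F36245)) (tt N3330 (iv0 D10928)) (tt N12704 F292249) (tt N14598 D23234) (tt N14599 D23235) (tt N13322 F292250) (tt N12679 F292251) (tt N13754 (iv7 F63416)))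
theorem Q7090 : ∀ i, i < 7090 → P i := stepQ 7089 Q7089 (allL N7089 (tt N3330 (iv1 D10929)) (tt N14565 F36244) (tt N13754 (iv2 F63415)) (tt N14600 D23239) (tt N14601 D23240) (tt N13323 F291924) (tt N14602 D23241) (tt N12704 (iv7 F292176)))
theorem Q7091 : ∀ i, i < 7091 → P i := stepQ 7090 Q7090 (allL N7090 (tt N14603 D23242) (tt N14604 D23243) (tt N14564 (iv2 F36238)) (tt N13763 (iv3 F292861)) (tt N3330 (iv4 D10930)) (tt N14605 D23245) (tt N6155 F17738) (tt N14606 D23246))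
theorem Q7092 : ∀ i, i < 7092 → P i := stepQ 7091 Q7091 (allL N7091 (tt N13754 F33560) (tt N12704 F292378) (tt N14565 (iv2 F36240)) (tt N3336 F17739) (tt N14606 (iv4 F36335)) (tt N3331 F17740) (tt N13518 F292379) (tt N3330 (iv7 D10931)))
theorem Q7093 : ∀ i, i < 7093 → P i := stepQ 7092 Q7092 (allL N7092 (tt N6870 (iv1 F62610)) (tt N6959 F62576) (tt N6933 F62706) (tt N6464 F17774) (tt N3332 (iv4 D10946)) (tt N14607 D23291) (tt N14442 F62707) (tt N6437 (iv7 F292298)))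
theorem Q7094 : ∀ i, i < 7094 → P i := stepQ 7093 Q7093 (allL N7093 (tt N6620 F292015) (tt N6938 (iv0 F65736)) (tt N6936 F65725) (tt N3335 (iv3 D10952)) (tt N14608 D23307) (tt N6690 F17784) (tt N13580 F292016) (tt N6935 F65726))
theorem Q7095 : ∀ i, i < 7095 → P i := stepQ 7094 Q7094 (allL N7094 (tt N3337 (iv1 D10958)) (tt N3340 F17801) (tt N6192 (iv2 F17804)) (tt N13235 (iv3 F31827)) (tt N6570 F17803) (tt N14609 D23316) (tt N14610 D23317) (tt N6193 F17802))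
theorem Q7096 : ∀ i, i < 7096 → P i := stepQ 7095 Q7095 (allL N7095 (tt N12745 (iv1 F30802)) (tt N12747 (iv0 F30804)) (tt N6203 F17805) (tt N14290 (iv3 F35178)) (tt N14611 D23318) (tt N3337 (iv5 D10959)) (tt N14612 D23319) (tt N6195 F17806))
theorem Q7097 : ∀ i, i < 7097 → P i := stepQ 7096 Q7096 (allL N7096 (tt N14613 D23320) (tt N14614 D23321) (tt N6204 F17807) (tt N14291 (iv3 F35206)) (tt N3338 F17808) (tt N14615 D23322) (tt N3337 (iv6 D10960)) (tt N13512 (iv7 F62507)))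
theorem Q7098 : ∀ i, i < 7098 → P i := stepQ 7097 Q7097 (allL N7097 (tt N13268 (iv1 F66030)) (tt N13198 (iv0 F66027)) (tt N13142 (iv2 F31665)) (tt N3341 F17817) (tt N13774 (iv4 F33675)) (tt N14082 (iv5 F291829)) (tt N3339 (iv6 D10965)) (tt N13267 F66024))
theorem Q7099 : ∀ i, i < 7099 → P i := stepQ 7098 Q7098 (allL N7098 (tt N14163 (iv1 F34943)) (tt N14071 (iv0 F34684)) (tt N14162 (iv2 F34939)) (tt N3340 (iv3 D10966)) (tt N13773 (iv4 F33672)) (tt N14616 D23342) (tt N14617 D23343) (tt N6202 F17818))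
theorem Q7100 : ∀ i, i < 7100 → P i := stepQ 7099 Q7099 (allL N7099 (tt N12747 (iv1 F30805)) (tt N12745 (iv0 F30801)) (tt N6195 F17819) (tt N14616 (iv3 F36462)) (tt N14618 D23344) (tt N3340 (iv5 D10967)) (tt N14619 D23345) (tt N6203 F17820))
theorem Q7101 : ∀ i, i < 7101 → P i := stepQ 7100 Q7100 (allL N7100 (tt N14620 D23346) (tt N14544 (iv0 F66119)) (tt N6196 F17821) (tt N14617 (iv3 F36464)) (tt N3341 F17822) (tt N14621 D23348) (tt N3340 (iv6 D10968)) (tt N13326 F66055))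
theorem Q7102 : ∀ i, i < 7102 → P i := stepQ 7101 Q7101 (allL N7101 (tt N3346 (iv1 F17838)) (tt N3342 (iv0 D10973)) (tt N3343 F66583) (tt N13205 F66618) (tt N14622 D23365) (tt N6665 F291121) (tt N13335 (iv6 F66107)) (tt N3344 F66584))
theorem Q7103 : ∀ i, i < 7103 → P i := stepQ 7102 Q7102 (allL N7102 (tt N14552 (iv1 F290783)) (tt N14509 (iv0 F290779)) (tt N3345 F17832) (tt N7102 F17833) (tt N14623 D23374) (tt N3342 (iv5 D10975)) (tt N6156 F17834) (tt N13657 (iv7 F290777)))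
theorem Q7104 : ∀ i, i < 7104 → P i := stepQ 7103 Q7103 (allL N7103 (tt N3344 (iv1 F17839)) (tt N3343 F17840) (tt N3346 F17835) (tt N7103 F17836) (tt N14317 (iv4 F35254)) (tt N13657 F291196) (tt N6190 F17837) (tt N3342 (iv7 D10976)))
theorem Q7105 : ∀ i, i < 7105 → P i := stepQ 7104 Q7104 (allL N7104 (tt N13435 (iv1 F66562)) (tt N12109 F66561) (tt N13434 (iv2 F66645)) (tt N3343 (iv3 D10978)) (tt N13925 F34322) (tt N13394 F290700) (tt N14624 D23386) (tt N13393 (iv7 F290927)))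
theorem Q7106 : ∀ i, i < 7106 → P i := stepQ 7105 Q7105 (allL N7105 (tt N14625 D23388) (tt N14610 (iv0 F66799)) (tt N14622 (iv2 F66587)) (tt N14626 D23390) (tt N3343 (iv4 D10979)) (tt N14627 D23391) (tt N14628 D23392) (tt N13871 (iv7 F291930)))
theorem Q7107 : ∀ i, i < 7107 → P i := stepQ 7106 Q7106 (allL N7106 (tt N13329 (iv1 F66087)) (tt N7134 F291118) (tt N13335 (iv2 F66591)) (tt N14624 (iv3 F36514)) (tt N14628 (iv4 F36517)) (tt N6640 (iv5 F291216)) (tt N3343 (iv6 D10981)) (tt N6639 F291119))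
theorem Q7108 : ∀ i, i < 7108 → P i := stepQ 7107 Q7107 (allL N7107 (tt N11997 F66559) (tt N13208 (iv0 F66560)) (tt N13206 F66613) (tt N3344 (iv3 D10983)) (tt N13806 (iv4 F66780)) (tt N6660 F291031) (tt N12726 (iv6 F291581)) (tt N13205 (iv7 F66617)))
theorem Q7109 : ∀ i, i < 7109 → P i := stepQ 7108 Q7108 (allL N7108 (tt N14610 (iv1 F66800)) (tt N14625 F36520) (tt N13871 (iv2 F291929)) (tt N14629 D23410) (tt N3344 (iv4 D10984)) (tt N14630 D23411) (tt N12727 (iv6 F292534)) (tt N14622 (iv7 F66588)))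
theorem Q7110 : ∀ i, i < 7110 → P i := stepQ 7109 Q7109 (allL N7109 (tt N13657 (iv1 F290775)) (tt N3345 (iv0 D10987)) (tt N14552 (iv2 F290784)) (tt N14631 D23420) (tt N14632 D23421) (tt N13588 (iv5 F66192)) (tt N6682 (iv6 F290960)) (tt N14509 (iv7 F290781)))
theorem Q7111 : ∀ i, i < 7111 → P i := stepQ 7110 Q7110 (allL N7110 (tt N14633 D23429) (tt N14532 F290649) (tt N14623 (iv2 F36497)) (tt N7124 (iv3 F290778)) (tt N3345 (iv4 D10989)) (tt N14634 D23432) (tt N6234 F17843) (tt N14635 D23433))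
theorem Q7112 : ∀ i, i < 7112 → P i := stepQ 7111 Q7111 (allL N7111 (tt N14509 (iv1 F290780)) (tt N14552 (iv0 F290782)) (tt N13657 (iv2 F290776)) (tt N3351 F17844) (tt N14635 (iv4 F36540)) (tt N3346 F17845) (tt N3357 (iv6 F290785)) (tt N3345 (iv7 D10990)))
theorem Q7113 : ∀ i, i < 7113 → P i := stepQ 7112 Q7112 (allL N7112 (tt N13240 (iv1 F66729)) (tt N6533 F66709) (tt N13219 (iv2 F66490)) (tt N6237 F17847) (tt N3347 (iv4 D10994)) (tt N14636 D23449) (tt N14470 F291049) (tt N7113 (iv7 F17865)))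
theorem Q7114 : ∀ i, i < 7114 → P i := stepQ 7113 Q7113 (allL N7113 (tt N6416 (iv1 F66791)) (tt N13456 F66786) (tt N13445 (iv2 F66499)) (tt N6242 F17864) (tt N3349 (iv4 D11003)) (tt N14637 D23477) (tt N6331 F291507) (tt N7112 F17865))
theorem Q7115 : ∀ i, i < 7115 → P i := stepQ 7114 Q7114 (allL N7114 (tt N7025 F290871) (tt N6452 F35717) (tt N13221 F35699) (tt N3350 (iv3 D11008)) (tt N14638 D23485) (tt N13580 F35718) (tt N6689 (iv6 F291380)) (tt N6914 F290872))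
theorem Q7116 : ∀ i, i < 7116 → P i := stepQ 7115 Q7115 (allL N7115 (tt N12878 F31029) (tt N13674 F63182) (tt N7127 F35385) (tt N14639 D23501) (tt N3352 (iv4 D11021)) (tt N14640 D23502) (tt N13655 (iv6 F63221)) (tt N6704 F63183))
theorem Q7117 : ∀ i, i < 7117 → P i := stepQ 7116 Q7116 (allL N7116 (tt N7130 (iv1 F17932)) (tt N7074 (iv0 F35591)) (tt N3354 F17893) (tt N14641 D23517) (tt N3353 (iv4 D11029)) (tt N14642 D23518) (tt N14643 D23519) (tt N7128 (iv7 F17926)))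
theorem Q7118 : ∀ i, i < 7118 → P i := stepQ 7117 Q7117 (allL N7117 (tt N7126 (iv1 F17909)) (tt N7125 F17908) (tt N3355 F17894) (tt N7117 F17895) (tt N14644 D23520) (tt N3353 (iv5 D11030)) (tt N12910 (iv6 F293015)) (tt N7118 F17899))
theorem Q7119 : ∀ i, i < 7119 → P i := stepQ 7118 Q7118 (allL N7118 (tt N7087 F63228) (tt N7123 F17902) (tt N3356 F17896) (tt N7118 F17897) (tt N14643 (iv4 F36630)) (tt N3359 (iv5 F17898)) (tt N3353 (iv6 D11031)) (tt N7117 (iv7 F17899)))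
theorem Q7120 : ∀ i, i < 7120 → P i := stepQ 7119 Q7119 (allL N7119 (tt N7128 (iv1 F17928)) (tt N3354 (iv0 D11032)) (tt N7130 (iv2 F35642)) (tt N14645 D23522) (tt N14646 D23523) (tt N14647 D23524) (tt N14515 (iv6 F36065)) (tt N7074 F35643))
theorem Q7121 : ∀ i, i < 7121 → P i := stepQ 7120 Q7120 (allL N7120 (tt N14515 (iv1 F66558)) (tt N7076 F66549) (tt N13656 (iv2 F66716)) (tt N3354 (iv3 D11034)) (tt N3357 F17900) (tt N14648 D23528) (tt N14635 F290648) (tt N7131 (iv7 F17934)))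
theorem Q7122 : ∀ i, i < 7122 → P i := stepQ 7121 Q7121 (allL N7121 (tt N14649 D23530) (tt N14650 D23531) (tt N14642 (iv2 F36628)) (tt N14648 (iv3 F36648)) (tt N14651 D23532) (tt N3354 (iv5 D11035)) (tt N14652 D23533) (tt N7132 (iv7 F17935)))
theorem Q7123 : ∀ i, i < 7123 → P i := stepQ 7122 Q7122 (allL N7122 (tt N14653 D23534) (tt N14654 D23535) (tt N14643 (iv2 F36629)) (tt N14635 F290646) (tt N3356 F17901) (tt N14655 D23536) (tt N3354 (iv6 D11036)) (tt N7124 (iv7 F17904)))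
theorem Q7124 : ∀ i, i < 7124 → P i := stepQ 7123 Q7123 (allL N7123 (tt N7118 (iv1 F17902)) (tt N3355 (iv0 D11037)) (tt N7126 (iv2 F63288)) (tt N14454 (iv3 F63347)) (tt N14656 D23539) (tt N13127 (iv5 F63284)) (tt N6362 (iv6 F293077)) (tt N7125 (iv7 F63289)))
theorem Q7125 : ∀ i, i < 7125 → P i := stepQ 7124 Q7124 (allL N7124 (tt N14657 D23547) (tt N14587 (iv0 F62974)) (tt N14644 (iv2 F36631)) (tt N7110 F290778) (tt N3355 (iv4 D11039)) (tt N14658 D23550) (tt N12891 (iv6 F291204)) (tt N7122 F17904))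
theorem Q7126 : ∀ i, i < 7126 → P i := stepQ 7125 Q7125 (allL N7125 (tt N7117 (iv1 F17908)) (tt N3356 (iv0 D11041)) (tt N7087 (iv2 F63290)) (tt N14210 (iv3 F63292)) (tt N14659 D23556) (tt N13112 (iv5 F63313)) (tt N7070 (iv6 F63293)) (tt N7123 F63289))
theorem Q7127 : ∀ i, i < 7127 → P i := stepQ 7126 Q7126 (allL N7126 (tt N3356 (iv1 D11042)) (tt N7117 F17909) (tt N7123 F63288) (tt N14423 (iv3 F62468)) (tt N14660 D23561) (tt N6776 (iv5 F63241)) (tt N6233 F292262) (tt N7087 (iv7 F63291)))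
theorem Q7128 : ∀ i, i < 7128 → P i := stepQ 7127 Q7127 (allL N7127 (tt N13787 (iv1 F63177)) (tt N13786 (iv0 F63173)) (tt N7115 (iv2 F35385)) (tt N14661 D23602) (tt N3358 (iv4 D11060)) (tt N14662 D23603) (tt N13808 (iv6 F63187)) (tt N6648 F63152))
theorem Q7129 : ∀ i, i < 7129 → P i := stepQ 7128 Q7128 (allL N7128 (tt N7049 (iv1 F35641)) (tt N7119 F17928) (tt N3360 F17925) (tt N14663 D23609) (tt N3359 (iv4 D11063)) (tt N14664 D23610) (tt N14665 D23611) (tt N7116 F17926))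
theorem Q7130 : ∀ i, i < 7130 → P i := stepQ 7129 Q7129 (allL N7129 (tt N12909 (iv1 F293029)) (tt N7059 (iv0 F63191)) (tt N3361 F17929) (tt N7129 F17930) (tt N14665 (iv4 F36738)) (tt N12910 F293024) (tt N3359 (iv6 D11064)) (tt N12910 F293025))
theorem Q7131 : ∀ i, i < 7131 → P i := stepQ 7130 Q7130 (allL N7130 (tt N3360 (iv1 D11066)) (tt N7116 F17932) (tt N7119 F35642) (tt N14666 D23612) (tt N12876 (iv4 F35314)) (tt N14667 D23613) (tt N14576 (iv6 F36281)) (tt N7049 F35593))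
theorem Q7132 : ∀ i, i < 7132 → P i := stepQ 7131 Q7131 (allL N7131 (tt N7047 (iv1 F66548)) (tt N14576 F66535) (tt N13809 (iv2 F66766)) (tt N3360 (iv3 D11067)) (tt N3362 F17933) (tt N14668 D23617) (tt N6363 (iv6 F291221)) (tt N7120 F17934))
theorem Q7133 : ∀ i, i < 7133 → P i := stepQ 7132 Q7132 (allL N7132 (tt N14669 D23619) (tt N14670 D23620) (tt N14664 (iv2 F36733)) (tt N14668 (iv3 F36749)) (tt N14671 D23621) (tt N3360 (iv5 D11068)) (tt N14672 D23622) (tt N7121 F17935))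
theorem Q7134 : ∀ i, i < 7134 → P i := stepQ 7133 Q7133 (allL N7133 (tt N14673 D23623) (tt N14674 D23624) (tt N14665 (iv2 F36737)) (tt N6363 F291914) (tt N3361 F17936) (tt N14675 D23625) (tt N3360 (iv6 D11069)) (tt N12891 F291915))
theorem Q7135 : ∀ i, i < 7135 → P i := stepQ 7134 Q7134 (allL N7134 (tt N7106 (iv1 F291118)) (tt N6718 F63205) (tt N13658 (iv2 F63216)) (tt N3363 (iv3 D11079)) (tt N14676 D23658) (tt N13116 (iv5 F31552)) (tt N6477 F292738) (tt N6466 (iv7 F291107)))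
theorem Q7136 : ∀ i, i < 7136 → P i := stepQ 7135 Q7135 (allL N7135 (tt N11229 F27362) (tt N11231 (iv0 F27371)) (tt N13811 (iv2 F33806)) (tt N4251 F17962) (tt N14677 D23669) (tt N3364 (iv5 D11084)) (tt N14678 D23670) (tt N6037 F17963))
theorem Q7137 : ∀ i, i < 7137 → P i := stepQ 7136 Q7136 (allL N7136 (tt N14679 D23682) (tt N13152 (iv0 F31694)) (tt N13812 (iv2 F33817)) (tt N13764 (iv3 F292471)) (tt N3365 (iv4 D11090)) (tt N14680 D23684) (tt N14681 D23685) (tt N6145 F17975))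
theorem Q7138 : ∀ i, i < 7138 → P i := stepQ 7137 Q7137 (allL N7137 (tt N6225 F292756) (tt N12791 F292757) (tt N12873 (iv2 F293452)) (tt N3366 F17976) (tt N14681 (iv4 F36838)) (tt N6626 F292758) (tt N3365 (iv6 D11091)) (tt N6564 (iv7 F293219)))
theorem Q7139 : ∀ i, i < 7139 → P i := stepQ 7138 Q7138 (allL N7138 (tt N3367 (iv1 D11097)) (tt N12905 (iv0 F293529)) (tt N6595 (iv2 F293523)) (tt N14682 D23704) (tt N14683 D23705) (tt N6580 (iv5 F293537)) (tt N13285 (iv6 F293538)) (tt N6599 F292493))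
theorem Q7140 : ∀ i, i < 7140 → P i := stepQ 7139 Q7139 (allL N7139 (tt N6599 F292491) (tt N6595 (iv0 F293522)) (tt N3367 (iv2 D11098)) (tt N7139 F17984) (tt N14496 (iv4 F36028)) (tt N12905 (iv5 F293530)) (tt N12895 F292492) (tt N12905 (iv7 F293531)))
theorem Q7141 : ∀ i, i < 7141 → P i := stepQ 7140 Q7140 (allL N7140 (tt N14684 D23708) (tt N14685 D23709) (tt N3797 F17986) (tt N5261 F17987) (tt N14686 D23710) (tt N3368 (iv5 D11101)) (tt N3371 F17988) (tt N14687 D23711))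
theorem Q7142 : ∀ i, i < 7142 → P i := stepQ 7141 Q7141 (allL N7141 (tt N3796 (iv1 F17994)) (tt N3585 (iv0 F22453)) (tt N3798 F17989) (tt N3607 F22447) (tt N3798 F17991) (tt N14687 (iv5 F36874)) (tt N7141 F17992) (tt N3368 (iv7 D11102)))
theorem Q7143 : ∀ i, i < 7143 → P i := stepQ 7142 Q7142 (allL N7142 (tt N7597 F18994) (tt N3792 F22445) (tt N7751 (iv2 F19251)) (tt N3369 (iv3 D11103)) (tt N7151 (iv4 F18015)) (tt N14688 D23712) (tt N14689 D23713) (tt N3801 F17996))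
theorem Q7144 : ∀ i, i < 7144 → P i := stepQ 7143 Q7143 (allL N7143 (tt N7370 (iv1 F18534)) (tt N14690 D23714) (tt N3799 F17997) (tt N14688 (iv3 F36877)) (tt N14691 D23715) (tt N3369 (iv5 D11104)) (tt N14692 D23716) (tt N3802 F17998))
theorem Q7145 : ∀ i, i < 7145 → P i := stepQ 7144 Q7144 (allL N7144 (tt N4560 F18001) (tt N7641 (iv0 F19045)) (tt N3800 F17999) (tt N14689 (iv3 F36880)) (tt N3418 F18000) (tt N7336 F18468) (tt N3369 (iv6 D11105)) (tt N14693 D23717))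
theorem Q7146 : ∀ i, i < 7146 → P i := stepQ 7145 Q7145 (allL N7145 (tt N14690 (iv1 F36887)) (tt N7370 (iv0 F18533)) (tt N3802 F18002) (tt N7754 (iv3 F19261)) (tt N14694 D23718) (tt N3370 (iv5 D11106)) (tt N14695 D23719) (tt N3799 F18003))
theorem Q7147 : ∀ i, i < 7147 → P i := stepQ 7146 Q7146 (allL N7146 (tt N3628 (iv1 F18006)) (tt N3683 (iv0 F18007)) (tt N3803 F18004) (tt N7755 (iv3 F19265)) (tt N3401 F18005) (tt N7872 (iv5 F19790)) (tt N3370 (iv6 D11107)) (tt N7866 (iv7 F19766)))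
theorem Q7148 : ∀ i, i < 7148 → P i := stepQ 7147 Q7147 (allL N7147 (tt N3807 (iv1 F18012)) (tt N3371 (iv0 D11108)) (tt N3804 (iv2 F18387)) (tt N14696 D23720) (tt N8949 (iv4 F22306)) (tt N7875 (iv5 F19795)) (tt N14697 D23721) (tt N3805 F18386))
theorem Q7149 : ∀ i, i < 7149 → P i := stepQ 7148 Q7148 (allL N7148 (tt N3371 (iv1 D11109)) (tt N3807 F18008) (tt N3805 F18384) (tt N7757 (iv3 F19270)) (tt N8950 (iv4 F22310)) (tt N7310 (iv5 F18383)) (tt N14698 D23722) (tt N3804 (iv7 F18385)))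
theorem Q7150 : ∀ i, i < 7150 → P i := stepQ 7149 Q7149 (allL N7149 (tt N14699 D23723) (tt N14700 D23724) (tt N3806 F18009) (tt N14701 D23725) (tt N3371 (iv4 D11110)) (tt N14702 D23726) (tt N14686 (iv6 F36871)) (tt N14703 D23727))
theorem Q7151 : ∀ i, i < 7151 → P i := stepQ 7150 Q7150 (allL N7150 (tt N3805 (iv1 F18013)) (tt N3804 F18014) (tt N3807 F18010) (tt N7808 (iv3 F19628)) (tt N14703 (iv4 F36925)) (tt N3372 F18011) (tt N14704 D23728) (tt N3371 (iv7 D11111)))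
theorem Q7152 : ∀ i, i < 7152 → P i := stepQ 7151 Q7151 (allL N7151 (tt N7847 F19726) (tt N7414 (iv0 F19388)) (tt N14705 D23729) (tt N3373 (iv3 D11112)) (tt N7142 F18015) (tt N14706 D23730) (tt N14707 D23731) (tt N3816 F18016))
theorem Q7153 : ∀ i, i < 7153 → P i := stepQ 7152 Q7152 (allL N7152 (tt N4909 F18019) (tt N9065 F22694) (tt N3809 F18017) (tt N14706 (iv3 F36936)) (tt N14708 D23732) (tt N3373 (iv5 D11113)) (tt N14709 D23733) (tt N3817 F18018))
theorem Q7154 : ∀ i, i < 7154 → P i := stepQ 7153 Q7153 (allL N7153 (tt N5306 F18023) (tt N9059 (iv0 F22687)) (tt N3810 F18020) (tt N14707 (iv3 F36938)) (tt N3375 F18021) (tt N4519 F18022) (tt N3373 (iv6 D11114)) (tt N14710 D23734))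
theorem Q7155 : ∀ i, i < 7155 → P i := stepQ 7154 Q7154 (allL N7154 (tt N9054 (iv1 F22673)) (tt N9055 (iv0 F22677)) (tt N3812 F18024) (tt N14711 D23735) (tt N3374 (iv4 D11115)) (tt N14712 D23736) (tt N14713 D23737) (tt N3819 F18025))
theorem Q7156 : ∀ i, i < 7156 → P i := stepQ 7155 Q7155 (allL N7155 (tt N4891 F18027) (tt N9109 (iv0 F22764)) (tt N3813 F18026) (tt N7234 (iv3 F18188)) (tt N14713 (iv4 F36957)) (tt N7692 (iv5 F19124)) (tt N3374 (iv6 D11116)) (tt N7692 (iv7 F19125)))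
theorem Q7157 : ∀ i, i < 7157 → P i := stepQ 7156 Q7156 (allL N7156 (tt N3814 (iv1 F18031)) (tt N3780 F18032) (tt N3815 F18028) (tt N7235 (iv3 F18190)) (tt N14710 (iv4 F36947)) (tt N3511 F18029) (tt N3627 F18030) (tt N3375 (iv7 D11117)))
theorem Q7158 : ∀ i, i < 7158 → P i := stepQ 7157 Q7157 (allL N7157 (tt N7240 (iv1 F18209)) (tt N3429 F18035) (tt N3820 F18033) (tt N14714 D23738) (tt N3376 (iv4 D11118)) (tt N14715 D23739) (tt N14716 D23740) (tt N3822 F18034))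
theorem Q7159 : ∀ i, i < 7159 → P i := stepQ 7158 Q7158 (allL N7158 (tt N4935 F18632) (tt N11507 (iv0 F27905)) (tt N3821 F18036) (tt N7237 (iv3 F18205)) (tt N14716 (iv4 F36963)) (tt N4998 F18037) (tt N3376 (iv6 D11119)) (tt N11448 (iv7 F27812)))
theorem Q7160 : ∀ i, i < 7160 → P i := stepQ 7159 Q7159 (allL N7159 (tt N3828 (iv1 F18041)) (tt N3377 (iv0 D11120)) (tt N3824 (iv2 F18039)) (tt N14717 D23741) (tt N3419 F18038) (tt N14718 D23742) (tt N14719 D23743) (tt N3825 (iv7 F18040)))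
theorem Q7161 : ∀ i, i < 7161 → P i := stepQ 7160 Q7160 (allL N7160 (tt N3377 (iv1 D11121)) (tt N3828 F18042) (tt N3825 (iv2 F18045)) (tt N8264 (iv3 F20674)) (tt N3404 F18044) (tt N14720 D23744) (tt N14721 D23745) (tt N3824 F18043))
theorem Q7162 : ∀ i, i < 7162 → P i := stepQ 7161 Q7161 (allL N7161 (tt N10346 F27006) (tt N14722 D23746) (tt N14723 D23747) (tt N3377 (iv3 D11122)) (tt N3406 F18046) (tt N14724 D23748) (tt N3383 F18047) (tt N14725 D23749))
theorem Q7163 : ∀ i, i < 7163 → P i := stepQ 7162 Q7162 (allL N7162 (tt N14726 D23750) (tt N14727 D23751) (tt N3827 F18048) (tt N14724 (iv3 F36981)) (tt N14728 D23752) (tt N3377 (iv5 D11123)) (tt N14729 D23753) (tt N14730 D23754))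
theorem Q7164 : ∀ i, i < 7164 → P i := stepQ 7163 Q7163 (allL N7163 (tt N3825 (iv1 F18051)) (tt N3824 F18052) (tt N3828 F18049) (tt N14725 (iv3 F36982)) (tt N3378 F18050) (tt N14730 (iv5 F36999)) (tt N11367 (iv6 F27624)) (tt N3377 (iv7 D11124)))
theorem Q7165 : ∀ i, i < 7165 → P i := stepQ 7164 Q7164 (allL N7164 (tt N14731 D23755) (tt N14732 D23756) (tt N13399 (iv2 F32462)) (tt N3379 (iv3 D11125)) (tt N5445 F18053) (tt N14733 D23757) (tt N6376 (iv6 F26934)) (tt N3837 F18054))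
theorem Q7166 : ∀ i, i < 7166 → P i := stepQ 7165 Q7165 (allL N7165 (tt N5441 F18058) (tt N3435 F18059) (tt N3833 F18055) (tt N14733 (iv3 F37012)) (tt N4116 F18056) (tt N3379 (iv5 D11126)) (tt N14734 D23758) (tt N3838 F18057))
theorem Q7167 : ∀ i, i < 7167 → P i := stepQ 7166 Q7166 (allL N7166 (tt N5472 F18062) (tt N5474 F20118) (tt N3834 F18060) (tt N6376 F26931) (tt N3380 F18061) (tt N6375 (iv5 F26933)) (tt N3379 (iv6 D11127)) (tt N11506 (iv7 F27897)))
theorem Q7168 : ∀ i, i < 7168 → P i := stepQ 7167 Q7167 (allL N7167 (tt N14735 D23759) (tt N14736 D23760) (tt N14737 D23761) (tt N3381 (iv3 D11128)) (tt N7169 (iv4 F18067)) (tt N14738 D23762) (tt N7922 (iv6 F19914)) (tt N3844 F18063))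
theorem Q7169 : ∀ i, i < 7169 → P i := stepQ 7168 Q7168 (allL N7168 (tt N8019 (iv1 F20083)) (tt N8016 (iv0 F20072)) (tt N3843 F18064) (tt N14738 (iv3 F37033)) (tt N5350 F18066) (tt N3381 (iv5 D11129)) (tt N14739 D23763) (tt N3845 F18065))
theorem Q7170 : ∀ i, i < 7170 → P i := stepQ 7169 Q7169 (allL N7169 (tt N14740 D23764) (tt N14741 D23765) (tt N10742 (iv2 F25388)) (tt N3382 (iv3 D11130)) (tt N7167 F18067) (tt N14742 D23766) (tt N13551 (iv6 F65514)) (tt N3852 F18068))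
theorem Q7171 : ∀ i, i < 7171 → P i := stepQ 7170 Q7170 (allL N7170 (tt N4051 F18072) (tt N5460 F18073) (tt N3850 F18069) (tt N14742 (iv3 F37039)) (tt N4382 F18070) (tt N3382 (iv5 D11131)) (tt N14743 D23768) (tt N3853 F18071))
theorem Q7172 : ∀ i, i < 7172 → P i := stepQ 7171 Q7171 (allL N7171 (tt N4483 F18076) (tt N7643 (iv0 F19054)) (tt N3851 F18074) (tt N13551 (iv3 F65512)) (tt N3415 F18075) (tt N14744 D23769) (tt N3382 (iv6 D11132)) (tt N9528 (iv7 F23547)))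
theorem Q7173 : ∀ i, i < 7173 → P i := stepQ 7172 Q7172 (allL N7172 (tt N11362 (iv1 F27608)) (tt N3383 (iv0 D11133)) (tt N8405 (iv2 F26663)) (tt N14745 D23770) (tt N8404 (iv4 F26666)) (tt N14746 D23771) (tt N14747 D23772) (tt N11361 (iv7 F27604)))
theorem Q7174 : ∀ i, i < 7174 → P i := stepQ 7173 Q7173 (allL N7173 (tt N3383 (iv1 D11134)) (tt N11362 F27609) (tt N11361 F27602) (tt N14748 D23773) (tt N8408 (iv4 F26647)) (tt N14749 D23774) (tt N14750 D23775) (tt N8405 F26662))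
theorem Q7175 : ∀ i, i < 7175 → P i := stepQ 7174 Q7174 (allL N7174 (tt N8405 F21061) (tt N11361 F27603) (tt N3383 (iv2 D11135)) (tt N3857 F18077) (tt N3411 F18078) (tt N14751 D23776) (tt N14723 (iv6 F36980)) (tt N11362 (iv7 F27607)))
theorem Q7176 : ∀ i, i < 7176 → P i := stepQ 7175 Q7175 (allL N7175 (tt N14752 D23777) (tt N14753 D23778) (tt N14751 (iv2 F37053)) (tt N3384 F18079) (tt N14754 D23779) (tt N3383 (iv5 D11136)) (tt N14755 D23780) (tt N8090 (iv7 F20213)))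
theorem Q7177 : ∀ i, i < 7177 → P i := stepQ 7176 Q7176 (allL N7176 (tt N14756 D23781) (tt N14757 D23782) (tt N3862 F18080) (tt N14755 (iv3 F37055)) (tt N8095 (iv4 F20216)) (tt N14729 (iv5 F36996)) (tt N3384 (iv6 D11137)) (tt N14758 D23783))
theorem Q7178 : ∀ i, i < 7178 → P i := stepQ 7177 Q7177 (allL N7177 (tt N7469 F20232) (tt N9634 (iv0 F23749)) (tt N4255 F18081) (tt N7696 (iv3 F19135)) (tt N3386 F18082) (tt N14759 D23784) (tt N3385 (iv6 D11138)) (tt N9412 (iv7 F23250)))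
theorem Q7179 : ∀ i, i < 7179 → P i := stepQ 7178 Q7178 (allL N7178 (tt N9442 (iv1 F23339)) (tt N4449 (iv0 F19433)) (tt N7179 (iv2 F18086)) (tt N8991 (iv3 F22410)) (tt N14760 D23785) (tt N3386 (iv5 D11141)) (tt N4321 F18083) (tt N9413 (iv7 F23254)))
theorem Q7180 : ∀ i, i < 7180 → P i := stepQ 7179 Q7179 (allL N7179 (tt N4535 (iv1 F23257)) (tt N9258 (iv0 F23027)) (tt N7178 F18086) (tt N7510 (iv3 F18830)) (tt N14761 D23786) (tt N3387 (iv5 D11145)) (tt N4325 F18087) (tt N9233 (iv7 F23005)))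
theorem Q7181 : ∀ i, i < 7181 → P i := stepQ 7180 Q7180 (allL N7180 (tt N3392 F18094) (tt N3388 (iv0 D11147)) (tt N3389 F18949) (tt N3586 F18093) (tt N8877 (iv4 F22160)) (tt N14762 D23787) (tt N9241 (iv6 F24312)) (tt N3390 F18950))
theorem Q7182 : ∀ i, i < 7182 → P i := stepQ 7181 Q7181 (allL N7181 (tt N3388 (iv1 D11148)) (tt N3392 F18095) (tt N3390 F18945) (tt N4336 (iv3 F18096)) (tt N8895 (iv4 F22217)) (tt N14763 D23788) (tt N7896 (iv6 F20274)) (tt N3389 F18946))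
theorem Q7183 : ∀ i, i < 7183 → P i := stepQ 7182 Q7182 (allL N7182 (tt N14764 D23789) (tt N14765 D23790) (tt N3391 F18097) (tt N4329 F18098) (tt N14766 D23791) (tt N3388 (iv5 D11149)) (tt N7467 (iv6 F18734)) (tt N14767 D23792))
theorem Q7184 : ∀ i, i < 7184 → P i := stepQ 7183 Q7183 (allL N7183 (tt N3390 (iv1 F18103)) (tt N3389 F18107) (tt N3392 F18099) (tt N4330 F18100) (tt N3597 F18101) (tt N14767 (iv5 F37086)) (tt N7183 F18102) (tt N3388 (iv7 D11150)))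
theorem Q7185 : ∀ i, i < 7185 → P i := stepQ 7184 Q7184 (allL N7184 (tt N4901 F18110) (tt N7688 F19117) (tt N4332 F18947) (tt N3389 (iv3 D11152)) (tt N4327 F18109) (tt N14768 D23793) (tt N14769 D23794) (tt N4336 (iv7 F18944)))
theorem Q7186 : ∀ i, i < 7186 → P i := stepQ 7185 Q7185 (allL N7185 (tt N7846 F19720) (tt N8867 (iv0 F22130)) (tt N8877 (iv2 F22159)) (tt N7709 (iv3 F19171)) (tt N3389 (iv4 D11153)) (tt N14770 D23795) (tt N14771 D23796) (tt N8895 (iv7 F22218)))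
theorem Q7187 : ∀ i, i < 7187 → P i := stepQ 7186 Q7186 (allL N7186 (tt N14772 D23797) (tt N4861 F37069) (tt N14762 (iv2 F37065)) (tt N14768 (iv3 F37096)) (tt N14773 D23798) (tt N3389 (iv5 D11154)) (tt N14774 D23799) (tt N14763 (iv7 F37072)))
theorem Q7188 : ∀ i, i < 7188 → P i := stepQ 7187 Q7187 (allL N7187 (tt N9235 F24501) (tt N4870 F24502) (tt N9241 F24313) (tt N14769 (iv3 F37100)) (tt N14771 (iv4 F37103)) (tt N14775 D23800) (tt N3389 (iv6 D11155)) (tt N9240 F23264))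
theorem Q7189 : ∀ i, i < 7189 → P i := stepQ 7188 Q7188 (allL N7188 (tt N7507 (iv1 F19376)) (tt N4845 (iv0 F18114)) (tt N3590 F18919) (tt N3390 (iv3 D11157)) (tt N3582 F18113) (tt N14776 D23801) (tt N14777 D23802) (tt N3586 F18920))
theorem Q7190 : ∀ i, i < 7190 → P i := stepQ 7189 Q7189 (allL N7189 (tt N4861 F20328) (tt N14772 F37106) (tt N14763 (iv2 F37070)) (tt N14776 (iv3 F37114)) (tt N14778 D23803) (tt N3390 (iv5 D11158)) (tt N14779 D23804) (tt N14762 (iv7 F37067)))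
theorem Q7191 : ∀ i, i < 7191 → P i := stepQ 7190 Q7190 (allL N7190 (tt N3646 F20306) (tt N7898 F20307) (tt N7896 F20275) (tt N14777 (iv3 F37117)) (tt N8897 (iv4 F22222)) (tt N7884 (iv5 F19831)) (tt N3390 (iv6 D11159)) (tt N7897 (iv7 F20277)))
theorem Q7192 : ∀ i, i < 7192 → P i := stepQ 7191 Q7191 (allL N7191 (tt N14767 (iv1 F37092)) (tt N3391 (iv0 D11160)) (tt N14764 (iv2 F37090)) (tt N14780 D23805) (tt N14781 D23806) (tt N7887 F37093) (tt N14782 D23807) (tt N14765 F37091))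
theorem Q7193 : ∀ i, i < 7193 → P i := stepQ 7192 Q7192 (allL N7192 (tt N3391 (iv1 D11161)) (tt N14767 F37088) (tt N14765 (iv2 F37079)) (tt N14783 D23808) (tt N14784 D23809) (tt N7888 (iv5 F24295)) (tt N14785 D23810) (tt N14764 (iv7 F37089)))
theorem Q7194 : ∀ i, i < 7194 → P i := stepQ 7193 Q7193 (allL N7193 (tt N14786 D23811) (tt N14787 D23812) (tt N14766 (iv2 F37083)) (tt N14788 D23813) (tt N3391 (iv4 D11162)) (tt N14789 D23814) (tt N7479 (iv6 F18751)) (tt N14790 D23815))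
theorem Q7195 : ∀ i, i < 7195 → P i := stepQ 7194 Q7194 (allL N7194 (tt N14765 (iv1 F37076)) (tt N14764 F37087) (tt N14767 (iv2 F37084)) (tt N3396 F18115) (tt N14790 (iv4 F37130)) (tt N3392 F18116) (tt N14791 D23816) (tt N3391 (iv7 D11163)))
theorem Q7196 : ∀ i, i < 7196 → P i := stepQ 7195 Q7195 (allL N7195 (tt N4847 F22225) (tt N4417 F22226) (tt N7728 (iv2 F19195)) (tt N3393 (iv3 D11164)) (tt N14792 D23817) (tt N4934 F18117) (tt N14793 D23818) (tt N4345 F18118))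
theorem Q7197 : ∀ i, i < 7197 → P i := stepQ 7196 Q7196 (allL N7196 (tt N14794 D23819) (tt N14795 D23820) (tt N4344 F18119) (tt N14793 (iv3 F37135)) (tt N4830 F18120) (tt N9224 (iv5 F22991)) (tt N3393 (iv6 D11165)) (tt N14796 D23821))
theorem Q7198 : ∀ i, i < 7198 → P i := stepQ 7197 Q7197 (allL N7197 (tt N14797 D23822) (tt N14798 D23823) (tt N4346 F18121) (tt N7732 (iv3 F19210)) (tt N4833 F18122) (tt N7484 (iv5 F18763)) (tt N3394 (iv6 D11166)) (tt N14799 D23824))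
theorem Q7199 : ∀ i, i < 7199 → P i := stepQ 7198 Q7198 (allL N7198 (tt N14800 D23825) (tt N14801 D23826) (tt N14802 D23827) (tt N3395 (iv3 D11167)) (tt N14788 (iv4 F37129)) (tt N14803 D23828) (tt N7491 (iv6 F18782)) (tt N10040 (iv7 F24345)))
theorem Q7200 : ∀ i, i < 7200 → P i := stepQ 7199 Q7199 (allL N7199 (tt N8156 (iv1 F20367)) (tt N8166 (iv0 F20398)) (tt N4348 F18123) (tt N14803 (iv3 F37154)) (tt N4380 F18125) (tt N3395 (iv5 D11168)) (tt N14804 D23829) (tt N4378 F18124))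
theorem Q7201 : ∀ i, i < 7201 → P i := stepQ 7200 Q7200 (allL N7200 (tt N14805 D23830) (tt N14806 D23831) (tt N4350 F18126) (tt N14791 (iv3 F37131)) (tt N10041 (iv4 F24347)) (tt N7200 F18127) (tt N3396 (iv6 D11169)) (tt N7494 (iv7 F18793)))
theorem Q7202 : ∀ i, i < 7202 → P i := stepQ 7201 Q7201 (allL N7201 (tt N10488 F26894) (tt N10485 F26918) (tt N10486 F26915) (tt N3397 (iv3 D11170)) (tt N7978 (iv4 F20021)) (tt N8285 (iv5 F20702)) (tt N14807 D23832) (tt N4365 F18128))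
theorem Q7203 : ∀ i, i < 7203 → P i := stepQ 7202 Q7202 (allL N7202 (tt N8219 (iv1 F20532)) (tt N8220 (iv0 F20535)) (tt N4359 F18129) (tt N14807 (iv3 F37160)) (tt N3398 F18130) (tt N10722 (iv5 F25352)) (tt N3397 (iv6 D11171)) (tt N5319 F18131))
theorem Q7204 : ∀ i, i < 7204 → P i := stepQ 7203 Q7203 (allL N7203 (tt N9068 (iv1 F22703)) (tt N4872 F18134) (tt N7250 (iv2 F18223)) (tt N14808 D23833) (tt N3400 (iv4 D11172)) (tt N14727 (iv5 F36990)) (tt N7319 (iv6 F18422)) (tt N4353 F18133))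
theorem Q7205 : ∀ i, i < 7205 → P i := stepQ 7204 Q7204 (allL N7204 (tt N14809 D23834) (tt N14810 D23835) (tt N14811 D23836) (tt N3402 (iv3 D11173)) (tt N14808 (iv4 F37162)) (tt N8287 (iv5 F20705)) (tt N5315 F18135) (tt N4358 F18136))
theorem Q7206 : ∀ i, i < 7206 → P i := stepQ 7205 Q7205 (allL N7205 (tt N8607 F21484) (tt N8608 (iv0 F21487)) (tt N7251 (iv2 F18225)) (tt N3405 F18137) (tt N14721 (iv4 F36974)) (tt N7314 (iv5 F18406)) (tt N3404 (iv6 D11174)) (tt N11805 (iv7 F28407)))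
theorem Q7207 : ∀ i, i < 7207 → P i := stepQ 7206 Q7206 (allL N7206 (tt N14812 D23837) (tt N3406 (iv0 D11175)) (tt N14813 D23838) (tt N14814 D23839) (tt N14815 D23840) (tt N14816 D23841) (tt N14817 D23842) (tt N14818 D23843))
theorem Q7208 : ∀ i, i < 7208 → P i := stepQ 7207 Q7207 (allL N7207 (tt N3406 (iv1 D11176)) (tt N14812 F37176) (tt N14818 (iv2 F37179)) (tt N14819 D23844) (tt N14820 D23845) (tt N14821 D23846) (tt N14822 D23847) (tt N14813 F37177))
theorem Q7209 : ∀ i, i < 7209 → P i := stepQ 7208 Q7208 (allL N7208 (tt N14813 (iv1 F54335)) (tt N14818 (iv0 F54294)) (tt N3406 (iv2 D11177)) (tt N4375 F18138) (tt N14723 (iv4 F36979)) (tt N14823 D23850) (tt N3411 F18139) (tt N14812 (iv7 F37175)))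
theorem Q7210 : ∀ i, i < 7210 → P i := stepQ 7209 Q7209 (allL N7209 (tt N14824 D23851) (tt N14825 D23852) (tt N14823 (iv2 F37183)) (tt N3407 F18140) (tt N14826 D23853) (tt N3406 (iv5 D11178)) (tt N14827 D23854) (tt N14828 D23855))
theorem Q7211 : ∀ i, i < 7211 → P i := stepQ 7210 Q7210 (allL N7210 (tt N14818 (iv1 F54295)) (tt N14813 (iv0 F54334)) (tt N14812 F37173) (tt N3408 F18141) (tt N14725 (iv4 F36983)) (tt N14828 (iv5 F37188)) (tt N11377 (iv6 F27652)) (tt N3406 (iv7 D11179)))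
theorem Q7212 : ∀ i, i < 7212 → P i := stepQ 7211 Q7211 (allL N7211 (tt N8166 (iv1 F20399)) (tt N8156 (iv0 F20366)) (tt N4378 F18142) (tt N14829 D23856) (tt N3407 (iv4 D11180)) (tt N4349 F18143) (tt N14830 D23857) (tt N4348 (iv7 F18144)))
theorem Q7213 : ∀ i, i < 7213 → P i := stepQ 7212 Q7212 (allL N7212 (tt N14831 D23858) (tt N14832 D23859) (tt N4379 F18145) (tt N14827 (iv3 F37185)) (tt N14830 (iv4 F37192)) (tt N3413 F18146) (tt N3407 (iv6 D11181)) (tt N14833 D23860))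
theorem Q7214 : ∀ i, i < 7214 → P i := stepQ 7213 Q7213 (allL N7213 (tt N3932 (iv1 F18150)) (tt N3922 F18151) (tt N4380 F18147) (tt N14828 (iv3 F37187)) (tt N4348 F18148) (tt N3408 F18149) (tt N14834 D23861) (tt N3407 (iv7 D11182)))
theorem Q7215 : ∀ i, i < 7215 → P i := stepQ 7214 Q7214 (allL N7214 (tt N5098 F25656) (tt N10865 F25657) (tt N4389 (iv2 F37243)) (tt N3409 (iv3 D11184)) (tt N4387 (iv4 F37244)) (tt N14835 D23869) (tt N14836 D23870) (tt N4394 F37242))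
theorem Q7216 : ∀ i, i < 7216 → P i := stepQ 7215 Q7215 (allL N7215 (tt N14837 D23872) (tt N14838 D23873) (tt N11372 (iv2 F37235)) (tt N14839 D23874) (tt N3409 (iv4 D11185)) (tt N14840 D23875) (tt N14841 D23876) (tt N11369 F37272))
theorem Q7217 : ∀ i, i < 7217 → P i := stepQ 7216 Q7216 (allL N7216 (tt N10516 (iv1 F43059)) (tt N5087 (iv0 F43060)) (tt N10521 (iv2 F43050)) (tt N14835 (iv3 F37213)) (tt N14842 D23879) (tt N3409 (iv5 D11186)) (tt N14843 D23880) (tt N10520 (iv7 F43049)))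
theorem Q7218 : ∀ i, i < 7218 → P i := stepQ 7217 Q7217 (allL N7217 (tt N9539 F54044) (tt N4494 (iv0 F54068)) (tt N9538 (iv2 F54232)) (tt N14836 (iv3 F37215)) (tt N14841 (iv4 F37282)) (tt N14844 D23883) (tt N3409 (iv6 D11187)) (tt N9537 F54231))
theorem Q7219 : ∀ i, i < 7219 → P i := stepQ 7218 Q7218 (allL N7218 (tt N10809 F37229) (tt N5075 F37230) (tt N14845 D23885) (tt N3410 (iv3 D11189)) (tt N14846 D23886) (tt N14847 D23887) (tt N14848 D23888) (tt N11371 (iv7 F37234)))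
theorem Q7220 : ∀ i, i < 7220 → P i := stepQ 7219 Q7219 (allL N7219 (tt N14838 (iv1 F37223)) (tt N14837 F37273) (tt N11369 F37271) (tt N14849 D23889) (tt N3410 (iv4 D11190)) (tt N14850 D23890) (tt N14851 D23891) (tt N11372 (iv7 F37236)))
theorem Q7221 : ∀ i, i < 7221 → P i := stepQ 7220 Q7220 (allL N7220 (tt N5087 F43061) (tt N10516 F43062) (tt N10520 (iv2 F43046)) (tt N14847 (iv3 F37294)) (tt N14852 D23892) (tt N3410 (iv5 D11191)) (tt N14853 D23893) (tt N10521 (iv7 F43052)))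
theorem Q7222 : ∀ i, i < 7222 → P i := stepQ 7221 Q7221 (allL N7221 (tt N5109 (iv1 F50900)) (tt N14854 D23895) (tt N11370 F37274) (tt N14848 (iv3 F37295)) (tt N14851 (iv4 F37299)) (tt N14855 D23896) (tt N3410 (iv6 D11192)) (tt N14856 D23897))
theorem Q7223 : ∀ i, i < 7223 → P i := stepQ 7222 Q7222 (allL N7222 (tt N6094 (iv1 F18158)) (tt N6093 F18159) (tt N3412 F18155) (tt N4397 F18156) (tt N14857 D23898) (tt N3411 (iv5 D11193)) (tt N14858 D23899) (tt N6095 F18157))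
theorem Q7224 : ∀ i, i < 7224 → P i := stepQ 7223 Q7223 (allL N7223 (tt N6095 (iv1 F18160)) (tt N3412 (iv0 D11194)) (tt N6094 (iv2 F42903)) (tt N14859 D23901) (tt N14860 D23902) (tt N5015 F30279) (tt N14861 D23903) (tt N6093 (iv7 F42906)))
theorem Q7225 : ∀ i, i < 7225 → P i := stepQ 7224 Q7224 (allL N7224 (tt N3412 (iv1 D11195)) (tt N6095 F18161) (tt N6093 F42907) (tt N14862 D23905) (tt N14863 D23906) (tt N5016 F37308) (tt N14864 D23907) (tt N6094 F42908))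
theorem Q7226 : ∀ i, i < 7226 → P i := stepQ 7225 Q7225 (allL N7225 (tt N14865 D23908) (tt N12416 (iv0 F29906)) (tt N14857 (iv2 F37300)) (tt N6086 F18162) (tt N3412 (iv4 D11196)) (tt N14866 D23909) (tt N14867 D23910) (tt N6083 F18163))
theorem Q7227 : ∀ i, i < 7227 → P i := stepQ 7226 Q7226 (allL N7226 (tt N14868 D23911) (tt N14869 D23912) (tt N14858 (iv2 F37304)) (tt N3413 F18164) (tt N14867 (iv4 F37322)) (tt N14827 (iv5 F37186)) (tt N3412 (iv6 D11197)) (tt N14870 D23913))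
theorem Q7228 : ∀ i, i < 7228 → P i := stepQ 7227 Q7227 (allL N7227 (tt N4406 (iv1 F18169)) (tt N3413 (iv0 D11198)) (tt N4404 F44661) (tt N14871 D23915) (tt N4248 F37195) (tt N14872 D23916) (tt N14873 D23917) (tt N4405 F44662))
theorem Q7229 : ∀ i, i < 7229 → P i := stepQ 7228 Q7228 (allL N7228 (tt N3413 (iv1 D11199)) (tt N4406 F18165) (tt N4405 (iv2 F44658)) (tt N14874 D23919) (tt N4249 F37327) (tt N14875 D23920) (tt N11822 F297732) (tt N4404 (iv7 F44659)))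
theorem Q7230 : ∀ i, i < 7230 → P i := stepQ 7229 Q7229 (allL N7229 (tt N4405 (iv1 F18170)) (tt N4404 F18171) (tt N4406 F18166) (tt N14870 (iv3 F37323)) (tt N6104 F18167) (tt N14833 (iv5 F37197)) (tt N6009 F30051) (tt N3413 (iv7 D11200)))
theorem Q7231 : ∀ i, i < 7231 → P i := stepQ 7230 Q7230 (allL N7230 (tt N7292 F18345) (tt N9289 F23061) (tt N4308 F18172) (tt N7230 F18173) (tt N14876 D23922) (tt N3414 (iv5 D11201)) (tt N3505 F18174) (tt N4309 F18175))
theorem Q7232 : ∀ i, i < 7232 → P i := stepQ 7231 Q7231 (allL N7231 (tt N4313 (iv1 F18179)) (tt N3415 (iv0 D11202)) (tt N4311 (iv2 F18176)) (tt N7231 F18177) (tt N7907 (iv4 F19877)) (tt N7281 (iv5 F18317)) (tt N8608 (iv6 F21486)) (tt N4312 F18178))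
theorem Q7233 : ∀ i, i < 7233 → P i := stepQ 7232 Q7232 (allL N7232 (tt N4312 (iv1 F18183)) (tt N4311 F18184) (tt N4313 F18180) (tt N3782 F18181) (tt N9528 (iv4 F23548)) (tt N3416 F18182) (tt N7261 (iv6 F18262)) (tt N3415 (iv7 D11203)))
theorem Q7234 : ∀ i, i < 7234 → P i := stepQ 7233 Q7233 (allL N7233 (tt N4872 F18186) (tt N9068 (iv0 F22702)) (tt N4353 F18185) (tt N14877 D23923) (tt N3417 (iv4 D11204)) (tt N14726 (iv5 F36984)) (tt N14878 D23924) (tt N7250 (iv7 F18224)))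
theorem Q7235 : ∀ i, i < 7235 → P i := stepQ 7234 Q7234 (allL N7234 (tt N11222 F27337) (tt N10681 (iv0 F25250)) (tt N4354 F18187) (tt N7155 F18188) (tt N14878 (iv4 F37340)) (tt N7321 (iv5 F18429)) (tt N3417 (iv6 D11205)) (tt N7321 (iv7 F18430)))
theorem Q7236 : ∀ i, i < 7236 → P i := stepQ 7235 Q7235 (allL N7235 (tt N4356 (iv1 F18193)) (tt N4355 F18194) (tt N4357 F18189) (tt N7156 F18190) (tt N14693 (iv4 F36896)) (tt N3452 F18191) (tt N3494 F18192) (tt N3418 (iv7 D11206)))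
theorem Q7237 : ∀ i, i < 7237 → P i := stepQ 7236 Q7236 (allL N7236 (tt N3506 (iv1 F18199)) (tt N3445 (iv0 F18198)) (tt N3504 F18195) (tt N3753 F18196) (tt N7875 (iv4 F19796)) (tt N3419 (iv5 D11207)) (tt N7280 F18310) (tt N3448 F18197))
theorem Q7238 : ∀ i, i < 7238 → P i := stepQ 7237 Q7237 (allL N7237 (tt N11223 F27343) (tt N8942 F26923) (tt N4366 F18204) (tt N7158 F18205) (tt N14719 (iv4 F36969)) (tt N8598 F21459) (tt N3419 (iv6 D11208)) (tt N11400 (iv7 F27709)))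
theorem Q7239 : ∀ i, i < 7239 → P i := stepQ 7238 Q7238 (allL N7238 (tt N7990 F26921) (tt N14879 D23925) (tt N14880 D23926) (tt N3420 (iv3 D11209)) (tt N8942 (iv4 F22293)) (tt N14881 D23927) (tt N3422 F18206) (tt N14882 D23928))
theorem Q7240 : ∀ i, i < 7240 → P i := stepQ 7239 Q7239 (allL N7239 (tt N7979 (iv1 F20022)) (tt N7987 (iv0 F20031)) (tt N7253 (iv2 F18229)) (tt N14881 (iv3 F37348)) (tt N14883 D23929) (tt N3420 (iv5 D11210)) (tt N14884 D23930) (tt N14885 D23931))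
theorem Q7241 : ∀ i, i < 7241 → P i := stepQ 7240 Q7240 (allL N7240 (tt N4370 (iv1 F18208)) (tt N7157 F18209) (tt N7254 (iv2 F18230)) (tt N14882 (iv3 F37349)) (tt N3421 F18207) (tt N14885 (iv5 F37354)) (tt N11386 (iv6 F27677)) (tt N3420 (iv7 D11211)))

end Cfsg.Agent.Helper17.ONTC
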