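import Cfsg.Agent.Helper17.ONTC.Fin13

set_option autoImplicit false
set_option linter.all false
set_option maxRecDepth 100000

noncomputable section

namespace Cfsg.Agent.Helper17.ONTC

theorem Q7242 : ∀ i, i < 7242 → P i := stepQ 7241 Q7241 (allL N7241 (tt N11382 (iv1 F27669)) (tt N3422 (iv0 D11212)) (tt N11381 (iv2 F27663)) (tt N8401 (iv3 F26617)) (tt N7442 F26785) (tt N14886 D23932) (tt N7441 F26793) (tt N8425 F26786))
theorem Q7243 : ∀ i, i < 7243 → P i := stepQ 7242 Q7242 (allL N7242 (tt N3422 (iv1 D11213)) (tt N11382 F27670) (tt N8425 F26998) (tt N14887 D23933) (tt N8103 (iv4 F26997)) (tt N14888 D23934) (tt N8101 F26999) (tt N11381 (iv7 F27661)))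
theorem Q7244 : ∀ i, i < 7244 → P i := stepQ 7243 Q7243 (allL N7243 (tt N11381 (iv1 F27665)) (tt N8425 F21084) (tt N3422 (iv2 D11214)) (tt N7264 (iv3 F18265)) (tt N8944 (iv4 F22296)) (tt N11785 (iv5 F28367)) (tt N14880 (iv6 F37347)) (tt N11382 (iv7 F27668)))
theorem Q7245 : ∀ i, i < 7245 → P i := stepQ 7244 Q7244 (allL N7244 (tt N11787 F28372) (tt N8039 (iv0 F27057)) (tt N11785 F28368) (tt N3423 F18210) (tt N14889 D23935) (tt N3422 (iv5 D11215)) (tt N14890 D23936) (tt N11383 (iv7 F27672)))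
theorem Q7246 : ∀ i, i < 7246 → P i := stepQ 7245 Q7245 (allL N7245 (tt N14891 D23937) (tt N14892 D23938) (tt N7268 (iv2 F18275)) (tt N14890 (iv3 F37363)) (tt N11384 (iv4 F27674)) (tt N14884 (iv5 F37353)) (tt N3423 (iv6 D11216)) (tt N14893 D23939))
theorem Q7247 : ∀ i, i < 7247 → P i := stepQ 7246 Q7246 (allL N7246 (tt N4299 (iv1 F18217)) (tt N3424 (iv0 D11217)) (tt N4296 (iv2 F18215)) (tt N14894 D23940) (tt N14699 (iv4 F36913)) (tt N7400 (iv5 F18596)) (tt N14895 D23941) (tt N4297 (iv7 F18216)))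
theorem Q7248 : ∀ i, i < 7248 → P i := stepQ 7247 Q7247 (allL N7247 (tt N3424 (iv1 D11218)) (tt N4299 F18211) (tt N4297 F18213) (tt N14896 D23942) (tt N14700 (iv4 F36919)) (tt N4514 (iv5 F18212)) (tt N14897 D23943) (tt N4296 F18214))
theorem Q7249 : ∀ i, i < 7249 → P i := stepQ 7248 Q7248 (allL N7248 (tt N7960 (iv1 F19998)) (tt N7963 (iv0 F20001)) (tt N4298 F18218) (tt N14898 D23944) (tt N3424 (iv4 D11219)) (tt N14899 D23945) (tt N8884 (iv6 F22189)) (tt N14900 D23946))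
theorem Q7250 : ∀ i, i < 7250 → P i := stepQ 7249 Q7249 (allL N7249 (tt N4297 (iv1 F18221)) (tt N4296 F18222) (tt N4299 F18219) (tt N8885 (iv3 F22191)) (tt N14900 (iv4 F37377)) (tt N3425 F18220) (tt N14901 D23947) (tt N3424 (iv7 D11220)))
theorem Q7251 : ∀ i, i < 7251 → P i := stepQ 7250 Q7250 (allL N7250 (tt N7976 (iv1 F20017)) (tt N7878 (iv0 F19810)) (tt N7203 F18223) (tt N14902 D23948) (tt N3426 (iv4 D11221)) (tt N8010 (iv5 F20062)) (tt N7293 (iv6 F18346)) (tt N7233 F18224))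
theorem Q7252 : ∀ i, i < 7252 → P i := stepQ 7251 Q7251 (allL N7251 (tt N14903 D23949) (tt N8974 (iv0 F22373)) (tt N7205 F18225) (tt N3823 F18226) (tt N8003 (iv4 F20055)) (tt N7288 (iv5 F18338)) (tt N3428 (iv6 D11222)) (tt N14904 D23950))
theorem Q7253 : ∀ i, i < 7253 → P i := stepQ 7252 Q7252 (allL N7252 (tt N14905 D23951) (tt N14906 D23952) (tt N14907 D23953) (tt N3429 (iv3 D11223)) (tt N7252 F18227) (tt N14908 D23954) (tt N3434 F18228) (tt N14909 D23955))
theorem Q7254 : ∀ i, i < 7254 → P i := stepQ 7253 Q7253 (allL N7253 (tt N14712 (iv1 F36955)) (tt N9070 (iv0 F22708)) (tt N7239 F18229) (tt N14908 (iv3 F37403)) (tt N14910 D23956) (tt N3429 (iv5 D11224)) (tt N14911 D23957) (tt N14912 D23958))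
theorem Q7255 : ∀ i, i < 7255 → P i := stepQ 7254 Q7254 (allL N7254 (tt N3822 (iv1 F18232)) (tt N3820 F18233) (tt N7240 F18230) (tt N14909 (iv3 F37404)) (tt N3430 F18231) (tt N14912 (iv5 F37413)) (tt N14913 D23959) (tt N3429 (iv7 D11225)))
theorem Q7256 : ∀ i, i < 7256 → P i := stepQ 7255 Q7255 (allL N7255 (tt N5437 (iv1 F18239)) (tt N5443 (iv0 F18238)) (tt N5444 F18234) (tt N7255 F18235) (tt N14913 (iv4 F37417)) (tt N7255 F18236) (tt N3430 (iv6 D11226)) (tt N3437 F18237))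
theorem Q7257 : ∀ i, i < 7257 → P i := stepQ 7256 Q7256 (allL N7256 (tt N14914 D23960) (tt N14915 D23961) (tt N14916 D23962) (tt N3431 (iv3 D11227)) (tt N3837 F18240) (tt N8088 (iv5 F20210)) (tt N14917 D23963) (tt N5445 F18241))
theorem Q7258 : ∀ i, i < 7258 → P i := stepQ 7257 Q7257 (allL N7257 (tt N8041 F20162) (tt N5670 (iv0 F18244)) (tt N4117 F18242) (tt N14917 (iv3 F37428)) (tt N3432 F18243) (tt N14918 D23964) (tt N3431 (iv6 D11228)) (tt N10638 (iv7 F25136)))
theorem Q7259 : ∀ i, i < 7259 → P i := stepQ 7258 Q7258 (allL N7258 (tt N4120 (iv1 F18249)) (tt N3432 (iv0 D11229)) (tt N4118 (iv2 F18246)) (tt N7258 F18247) (tt N5652 (iv4 F18250)) (tt N14903 (iv5 F37386)) (tt N4309 F18245) (tt N4119 F18248))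
theorem Q7260 : ∀ i, i < 7260 → P i := stepQ 7259 Q7259 (allL N7259 (tt N4119 (iv1 F18255)) (tt N4118 F18256) (tt N4120 F18251) (tt N3841 F18252) (tt N10638 F25137) (tt N5450 F18253) (tt N5450 F18254) (tt N3432 (iv7 D11230)))
theorem Q7261 : ∀ i, i < 7261 → P i := stepQ 7260 Q7260 (allL N7260 (tt N5353 F18258) (tt N3433 (iv0 D11231)) (tt N5093 (iv2 F20139)) (tt N7260 F20140) (tt N9104 (iv4 F22742)) (tt N9058 F22682) (tt N5475 F18257) (tt N5352 F20141))
theorem Q7262 : ∀ i, i < 7262 → P i := stepQ 7261 Q7261 (allL N7261 (tt N5352 (iv1 F18263)) (tt N5093 F18264) (tt N5353 F18259) (tt N3849 F18260) (tt N8069 (iv4 F20191)) (tt N7261 F18261) (tt N7232 F18262) (tt N3433 (iv7 D11232)))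
theorem Q7263 : ∀ i, i < 7263 → P i := stepQ 7262 Q7262 (allL N7262 (tt N14919 D23965) (tt N3434 (iv0 D11233)) (tt N14920 D23966) (tt N11372 F27646) (tt N14921 D23967) (tt N14922 D23968) (tt N14923 D23969) (tt N14849 (iv7 F37296)))
theorem Q7264 : ∀ i, i < 7264 → P i := stepQ 7263 Q7263 (allL N7263 (tt N3434 (iv1 D11234)) (tt N14919 F37436) (tt N14849 (iv2 F37437)) (tt N14924 D23970) (tt N14925 D23971) (tt N14926 D23972) (tt N14927 D23973) (tt N14920 (iv7 F37439)))
theorem Q7265 : ∀ i, i < 7265 → P i := stepQ 7264 Q7264 (allL N7264 (tt N14920 (iv1 F37440)) (tt N14849 (iv0 F37297)) (tt N3434 (iv2 D11235)) (tt N7243 F18265) (tt N7264 F18266) (tt N14928 D23974) (tt N14907 (iv6 F37402)) (tt N14919 (iv7 F37435)))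
theorem Q7266 : ∀ i, i < 7266 → P i := stepQ 7265 Q7265 (allL N7265 (tt N14929 D23975) (tt N14930 D23976) (tt N14928 (iv2 F37453)) (tt N3435 F18267) (tt N11194 (iv4 F54082)) (tt N3434 (iv5 D11236)) (tt N14931 D23978) (tt N14932 D23979))
theorem Q7267 : ∀ i, i < 7267 → P i := stepQ 7266 Q7266 (allL N7266 (tt N14849 F37298) (tt N14920 F37441) (tt N14919 F37432) (tt N3436 F18268) (tt N7266 F18269) (tt N14932 (iv5 F37458)) (tt N14933 D23980) (tt N3434 (iv7 D11237)))
theorem Q7268 : ∀ i, i < 7268 → P i := stepQ 7267 Q7267 (allL N7267 (tt N3838 F18272) (tt N3833 F18273) (tt N5441 F18270) (tt N14932 (iv3 F37457)) (tt N3435 (iv4 D11238)) (tt N3436 F18271) (tt N14934 D23981) (tt N3435 F18274))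
theorem Q7269 : ∀ i, i < 7269 → P i := stepQ 7268 Q7268 (allL N7268 (tt N14935 D23982) (tt N14936 D23983) (tt N7245 F18275) (tt N14931 (iv3 F37456)) (tt N14934 (iv4 F37462)) (tt N14911 (iv5 F37410)) (tt N3435 (iv6 D11239)) (tt N14937 D23984))
theorem Q7270 : ∀ i, i < 7270 → P i := stepQ 7269 Q7269 (allL N7269 (tt N11368 (iv1 F27630)) (tt N9175 (iv0 F22838)) (tt N5442 F18276) (tt N14933 (iv3 F37459)) (tt N3437 F18277) (tt N14938 D23985) (tt N3436 (iv6 D11240)) (tt N14913 (iv7 F37418)))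
theorem Q7271 : ∀ i, i < 7271 → P i := stepQ 7270 Q7270 (allL N7270 (tt N3437 (iv1 D11241)) (tt N5444 F18278) (tt N5437 (iv2 F18280)) (tt N3866 (iv3 F18281)) (tt N8097 F20219) (tt N11401 (iv5 F27715)) (tt N10608 F27002) (tt N5443 F18279))
theorem Q7272 : ∀ i, i < 7272 → P i := stepQ 7271 Q7271 (allL N7271 (tt N4724 F24076) (tt N14939 D23986) (tt N9621 (iv2 F23709)) (tt N3440 F18282) (tt N14940 D23987) (tt N3438 (iv5 D11242)) (tt N7936 (iv6 F19955)) (tt N9780 (iv7 F23992)))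
theorem Q7273 : ∀ i, i < 7273 → P i := stepQ 7272 Q7272 (allL N7272 (tt N3481 (iv1 F18289)) (tt N3439 (iv0 D11243)) (tt N3478 F26036) (tt N5267 F19527) (tt N3478 F19528) (tt N14941 D23988) (tt N14942 D23989) (tt N3479 F26037))
theorem Q7274 : ∀ i, i < 7274 → P i := stepQ 7273 Q7273 (allL N7273 (tt N14943 D23990) (tt N11078 F26100) (tt N3480 F18284) (tt N7936 (iv3 F19954)) (tt N14944 D23991) (tt N3439 (iv5 D11245)) (tt N3440 F18285) (tt N14945 D23992))
theorem Q7275 : ∀ i, i < 7275 → P i := stepQ 7274 Q7274 (allL N7274 (tt N3479 (iv1 F18290)) (tt N3478 F18291) (tt N3481 F18286) (tt N7937 (iv3 F19957)) (tt N3676 F18287) (tt N14945 (iv5 F37491)) (tt N7274 F18288) (tt N3439 (iv7 D11246)))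
theorem Q7276 : ∀ i, i < 7276 → P i := stepQ 7275 Q7275 (allL N7275 (tt N3491 (iv1 F18295)) (tt N3440 (iv0 D11247)) (tt N3488 (iv2 F18293)) (tt N14946 D23993) (tt N14947 D23994) (tt N4285 F18292) (tt N14948 D23995) (tt N3489 (iv7 F18294)))
theorem Q7277 : ∀ i, i < 7277 → P i := stepQ 7276 Q7276 (allL N7276 (tt N3440 (iv1 D11248)) (tt N3491 F18296) (tt N3489 F18299) (tt N3883 (iv3 F19652)) (tt N14949 D23996) (tt N3752 (iv5 F18298)) (tt N14950 D23997) (tt N3488 F18297))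
theorem Q7278 : ∀ i, i < 7278 → P i := stepQ 7277 Q7277 (allL N7277 (tt N7729 (iv1 F19200)) (tt N7731 (iv0 F19204)) (tt N3490 F18300) (tt N14951 D23998) (tt N3440 (iv4 D11249)) (tt N7382 (iv5 F18549)) (tt N14944 (iv6 F37488)) (tt N7381 (iv7 F18544)))
theorem Q7279 : ∀ i, i < 7279 → P i := stepQ 7278 Q7278 (allL N7278 (tt N3489 (iv1 F18303)) (tt N3488 F18304) (tt N3491 F18301) (tt N9780 (iv3 F23991)) (tt N7381 (iv4 F18543)) (tt N3441 F18302) (tt N14952 D23999) (tt N3440 (iv7 D11250)))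
theorem Q7280 : ∀ i, i < 7280 → P i := stepQ 7279 Q7279 (allL N7279 (tt N7639 (iv1 F19038)) (tt N4362 F18308) (tt N3495 F18305) (tt N10320 (iv3 F24650)) (tt N3442 (iv4 D11251)) (tt N3679 F18307) (tt N9059 (iv6 F22685)) (tt N3503 F18306))
theorem Q7281 : ∀ i, i < 7281 → P i := stepQ 7280 Q7280 (allL N7280 (tt N3443 (iv1 D11253)) (tt N3499 F18309) (tt N3497 F18311) (tt N4286 F18312) (tt N8937 (iv4 F22266)) (tt N9289 (iv5 F23058)) (tt N7236 (iv6 F18310)) (tt N3465 F18313))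
theorem Q7282 : ∀ i, i < 7282 → P i := stepQ 7281 Q7281 (allL N7281 (tt N3497 (iv1 F18319)) (tt N3465 F18320) (tt N3499 F18315) (tt N7281 F18316) (tt N7727 (iv4 F19191)) (tt N7231 F18317) (tt N3506 F18318) (tt N3443 (iv7 D11254)))
theorem Q7283 : ∀ i, i < 7283 → P i := stepQ 7282 Q7282 (allL N7282 (tt N3448 (iv1 F18326)) (tt N3504 F18327) (tt N3506 F18321) (tt N4295 F18322) (tt N4910 F18323) (tt N4899 F18324) (tt N3499 F18325) (tt N3445 (iv7 D11255)))
theorem Q7284 : ∀ i, i < 7284 → P i := stepQ 7283 Q7283 (allL N7283 (tt N9501 (iv1 F23464)) (tt N14953 D24000) (tt N7309 (iv2 F18377)) (tt N9686 (iv3 F23816)) (tt N14954 D24001) (tt N3446 (iv5 D11257)) (tt N14955 D24002) (tt N7315 (iv7 F18411)))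
theorem Q7285 : ∀ i, i < 7285 → P i := stepQ 7284 Q7284 (allL N7284 (tt N3487 (iv1 F18330)) (tt N7877 F19807) (tt N7310 (iv2 F18380)) (tt N9687 (iv3 F23819)) (tt N3448 F18328) (tt N3805 F18329) (tt N3446 (iv6 D11258)) (tt N7875 (iv7 F19798)))
theorem Q7286 : ∀ i, i < 7286 → P i := stepQ 7285 Q7285 (allL N7285 (tt N3450 (iv1 F18332)) (tt N3447 (iv0 D11259)) (tt N7311 F18393) (tt N7285 F18333) (tt N14956 D24003) (tt N4310 F18331) (tt N14903 (iv6 F37387)) (tt N7312 (iv7 F18397)))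
theorem Q7287 : ∀ i, i < 7287 → P i := stepQ 7286 Q7286 (allL N7286 (tt N3447 (iv1 D11260)) (tt N3450 F18334) (tt N7312 (iv2 F18399)) (tt N4511 F26385) (tt N14957 D24004) (tt N3496 (iv5 F18335)) (tt N3498 F18337) (tt N7311 F18395))
theorem Q7288 : ∀ i, i < 7288 → P i := stepQ 7287 Q7287 (allL N7287 (tt N9509 (iv1 F23490)) (tt N14958 D24005) (tt N7313 (iv2 F18402)) (tt N13610 (iv3 F65508)) (tt N3447 (iv4 D11261)) (tt N14959 D24007) (tt N14960 D24008) (tt N7317 (iv7 F18416)))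
theorem Q7289 : ∀ i, i < 7289 → P i := stepQ 7288 Q7288 (allL N7288 (tt N5475 F18339) (tt N4291 F26305) (tt N7314 (iv2 F18404)) (tt N7408 (iv3 F18625)) (tt N14960 (iv4 F37537)) (tt N7251 F18338) (tt N3447 (iv6 D11262)) (tt N10608 F27003))
theorem Q7290 : ∀ i, i < 7290 → P i := stepQ 7289 Q7289 (allL N7289 (tt N14953 (iv1 F37520)) (tt N9501 (iv0 F23463)) (tt N7315 (iv2 F18410)) (tt N9626 (iv3 F23725)) (tt N14961 D24009) (tt N3449 (iv5 D11263)) (tt N14962 D24010) (tt N7309 (iv7 F18379)))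
theorem Q7291 : ∀ i, i < 7291 → P i := stepQ 7290 Q7290 (allL N7290 (tt N7362 F18518) (tt N4284 (iv0 F18342)) (tt N7316 (iv2 F18412)) (tt N8150 (iv3 F20347)) (tt N3451 F18341) (tt N9284 (iv5 F23050)) (tt N3449 (iv6 D11264)) (tt N7360 (iv7 F18513)))
theorem Q7292 : ∀ i, i < 7292 → P i := stepQ 7291 Q7291 (allL N7291 (tt N14958 (iv1 F37530)) (tt N9509 (iv0 F23489)) (tt N7317 (iv2 F18415)) (tt N14963 D24011) (tt N3450 (iv4 D11265)) (tt N14964 D24012) (tt N8096 F20218) (tt N7313 (iv7 F18403)))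
theorem Q7293 : ∀ i, i < 7293 → P i := stepQ 7292 Q7292 (allL N7292 (tt N4508 F18344) (tt N7230 (iv0 F18345)) (tt N7318 (iv2 F18417)) (tt N3535 F18343) (tt N9291 (iv4 F23065)) (tt N3451 (iv5 D11266)) (tt N9173 (iv6 F22831)) (tt N7394 (iv7 F18581)))
theorem Q7294 : ∀ i, i < 7294 → P i := stepQ 7293 Q7293 (allL N7293 (tt N7695 (iv1 F19133)) (tt N3513 (iv0 F18347)) (tt N7319 (iv2 F18421)) (tt N14965 D24013) (tt N3452 (iv4 D11267)) (tt N14966 D24014) (tt N7250 F18346) (tt N7320 (iv7 F18426)))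
theorem Q7295 : ∀ i, i < 7295 → P i := stepQ 7294 Q7294 (allL N7294 (tt N3513 F18348) (tt N7695 F19132) (tt N7320 (iv2 F18425)) (tt N14967 D24015) (tt N3453 (iv4 D11268)) (tt N14968 D24016) (tt N14969 D24017) (tt N7319 (iv7 F18423)))
theorem Q7296 : ∀ i, i < 7296 → P i := stepQ 7295 Q7295 (allL N7295 (tt N10681 F25251) (tt N11222 (iv0 F27335)) (tt N7321 (iv2 F18428)) (tt N3539 F18349) (tt N14969 (iv4 F37547)) (tt N4354 F18350) (tt N3453 (iv6 D11269)) (tt N4354 F18351))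
theorem Q7297 : ∀ i, i < 7297 → P i := stepQ 7296 Q7296 (allL N7296 (tt N7326 (iv1 F18447)) (tt N3454 (iv0 D11270)) (tt N7322 F18436) (tt N14970 D24018) (tt N3536 F18352) (tt N14971 D24019) (tt N4364 (iv6 F18353)) (tt N7323 F18435))
theorem Q7298 : ∀ i, i < 7298 → P i := stepQ 7297 Q7297 (allL N7297 (tt N3454 (iv1 D11271)) (tt N7326 F18446) (tt N7323 F18434) (tt N14972 D24020) (tt N3661 F18354) (tt N14973 D24021) (tt N14974 D24022) (tt N7322 (iv7 F18439)))
theorem Q7299 : ∀ i, i < 7299 → P i := stepQ 7298 Q7298 (allL N7298 (tt N9502 F26403) (tt N9503 F26404) (tt N8973 F26405) (tt N3454 (iv3 D11272)) (tt N4508 F26406) (tt N14975 D24023) (tt N8018 (iv6 F20077)) (tt N8972 F26407))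
theorem Q7300 : ∀ i, i < 7300 → P i := stepQ 7299 Q7299 (allL N7299 (tt N14976 D24024) (tt N14977 D24025) (tt N7325 (iv2 F18443)) (tt N14975 (iv3 F37555)) (tt N14978 D24026) (tt N3454 (iv5 D11273)) (tt N14979 D24027) (tt N14980 D24028))
theorem Q7301 : ∀ i, i < 7301 → P i := stepQ 7300 Q7300 (allL N7300 (tt N7323 (iv1 F18432)) (tt N7322 F18440) (tt N7326 (iv2 F18444)) (tt N8972 (iv3 F27010)) (tt N3455 F18355) (tt N14980 (iv5 F37559)) (tt N11398 (iv6 F27703)) (tt N3454 (iv7 D11274)))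
theorem Q7302 : ∀ i, i < 7302 → P i := stepQ 7301 Q7301 (allL N7301 (tt N8985 F22398) (tt N4323 (iv0 F19478)) (tt N8983 F22393) (tt N3456 (iv3 D11275)) (tt N4657 (iv4 F22496)) (tt N14981 D24029) (tt N10268 (iv6 F24602)) (tt N4515 F18357))
theorem Q7303 : ∀ i, i < 7303 → P i := stepQ 7302 Q7302 (allL N7302 (tt N9220 F22983) (tt N14982 D24030) (tt N4513 F18358) (tt N14981 (iv3 F37560)) (tt N14983 D24031) (tt N3456 (iv5 D11276)) (tt N14984 D24032) (tt N4516 F18359))
theorem Q7304 : ∀ i, i < 7304 → P i := stepQ 7303 Q7303 (allL N7303 (tt N14982 (iv1 F37562)) (tt N9220 F22984) (tt N4516 F18360) (tt N11095 (iv3 F26136)) (tt N14985 D24033) (tt N3457 (iv5 D11277)) (tt N14986 D24034) (tt N4513 F18361))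
theorem Q7305 : ∀ i, i < 7305 → P i := stepQ 7304 Q7304 (allL N7304 (tt N7727 (iv1 F19194)) (tt N3493 (iv0 F18364)) (tt N4517 F18362) (tt N11096 (iv3 F26138)) (tt N3510 F18363) (tt N14987 D24035) (tt N3457 (iv6 D11278)) (tt N7642 (iv7 F19048)))
theorem Q7306 : ∀ i, i < 7306 → P i := stepQ 7305 Q7305 (allL N7305 (tt N4521 (iv1 F18371)) (tt N3458 (iv0 D11279)) (tt N4518 F18374) (tt N14988 D24036) (tt N14989 D24037) (tt N14710 (iv5 F36948)) (tt N14990 D24038) (tt N4519 F18373))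
theorem Q7307 : ∀ i, i < 7307 → P i := stepQ 7306 Q7306 (allL N7306 (tt N3458 (iv1 D11280)) (tt N4521 F18365) (tt N4519 F18367) (tt N14991 D24039) (tt N14992 D24040) (tt N3810 (iv5 F18366)) (tt N14993 D24041) (tt N4518 (iv7 F18375)))
theorem Q7308 : ∀ i, i < 7308 → P i := stepQ 7307 Q7307 (allL N7307 (tt N14994 D24042) (tt N14995 D24043) (tt N4520 F18368) (tt N14996 D24044) (tt N3458 (iv4 D11281)) (tt N14997 D24045) (tt N9186 (iv6 F22861)) (tt N14998 D24046))
theorem Q7309 : ∀ i, i < 7309 → P i := stepQ 7308 Q7308 (allL N7308 (tt N4519 (iv1 F18372)) (tt N4518 F18376) (tt N4521 F18369) (tt N9187 (iv3 F22863)) (tt N14998 (iv4 F37609)) (tt N3459 F18370) (tt N14999 D24047) (tt N3458 (iv7 D11282)))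
theorem Q7310 : ∀ i, i < 7310 → P i := stepQ 7309 Q7309 (allL N7309 (tt N15000 D24048) (tt N15001 D24049) (tt N7283 F18377) (tt N4636 F18378) (tt N15002 D24050) (tt N3460 (iv5 D11283)) (tt N15003 D24051) (tt N7289 F18379))
theorem Q7311 : ∀ i, i < 7311 → P i := stepQ 7310 Q7310 (allL N7310 (tt N3751 F18389) (tt N7371 F18536) (tt N7284 F18380) (tt N4637 F18381) (tt N3462 F18382) (tt N7148 F18383) (tt N3460 (iv6 D11284)) (tt N7369 F18532))
theorem Q7312 : ∀ i, i < 7312 → P i := stepQ 7311 Q7311 (allL N7311 (tt N3464 (iv1 F18392)) (tt N3461 (iv0 D11285)) (tt N7285 (iv2 F18393)) (tt N4509 (iv3 F18394)) (tt N15004 D24052) (tt N4355 F18391) (tt N8607 (iv6 F21483)) (tt N7286 (iv7 F18395)))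
theorem Q7313 : ∀ i, i < 7313 → P i := stepQ 7312 Q7312 (allL N7312 (tt N3461 (iv1 D11286)) (tt N3464 F18396) (tt N7286 F18399) (tt N7312 F18400) (tt N15005 D24053) (tt N4356 (iv5 F18398)) (tt N4312 F18401) (tt N7285 F18397))
theorem Q7314 : ∀ i, i < 7314 → P i := stepQ 7313 Q7313 (allL N7313 (tt N15006 D24054) (tt N9531 F23556) (tt N7287 F18402) (tt N14747 (iv3 F37050)) (tt N3461 (iv4 D11287)) (tt N15007 D24055) (tt N14745 F37049) (tt N7291 F18403))
theorem Q7315 : ∀ i, i < 7315 → P i := stepQ 7314 Q7314 (allL N7314 (tt N5058 F26279) (tt N8944 F26280) (tt N7288 F18404) (tt N3563 F18405) (tt N14745 (iv4 F37047)) (tt N7205 F18406) (tt N3461 (iv6 D11288)) (tt N8943 (iv7 F27004)))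
theorem Q7316 : ∀ i, i < 7316 → P i := stepQ 7315 Q7315 (allL N7315 (tt N15001 (iv1 F37620)) (tt N15000 F37616) (tt N7289 F18410) (tt N9680 (iv3 F23807)) (tt N15008 D24056) (tt N3463 (iv5 D11290)) (tt N15009 D24057) (tt N7283 F18411))
theorem Q7317 : ∀ i, i < 7317 → P i := stepQ 7316 Q7316 (allL N7316 (tt N8938 (iv1 F22274)) (tt N3484 (iv0 F18414)) (tt N7290 F18412) (tt N9681 (iv3 F23809)) (tt N3465 F18413) (tt N9498 (iv5 F23460)) (tt N3463 (iv6 D11291)) (tt N8937 (iv7 F22265)))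
theorem Q7318 : ∀ i, i < 7318 → P i := stepQ 7317 Q7317 (allL N7317 (tt N9531 F23557) (tt N15006 F37641) (tt N7291 F18415) (tt N15010 D24058) (tt N3464 (iv4 D11292)) (tt N15011 D24059) (tt N11364 F27614) (tt N7287 F18416))
theorem Q7319 : ∀ i, i < 7319 → P i := stepQ 7318 Q7318 (allL N7318 (tt N4309 F18419) (tt N4308 (iv0 F18420)) (tt N7292 F18417) (tt N4562 F18418) (tt N9506 (iv4 F23483)) (tt N3465 (iv5 D11293)) (tt N11387 (iv6 F27682)) (tt N9289 (iv7 F23060)))
theorem Q7320 : ∀ i, i < 7320 → P i := stepQ 7319 Q7319 (allL N7319 (tt N7413 (iv1 F18637)) (tt N3662 (iv0 F18424)) (tt N7293 F18421) (tt N11157 (iv3 F27086)) (tt N3466 (iv4 D11294)) (tt N15012 D24060) (tt N7203 F18422) (tt N7294 F18423))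
theorem Q7321 : ∀ i, i < 7321 → P i := stepQ 7320 Q7320 (allL N7320 (tt N3662 F18427) (tt N7413 F18636) (tt N7294 F18425) (tt N15013 D24061) (tt N3467 (iv4 D11295)) (tt N15014 D24062) (tt N15015 D24063) (tt N7293 F18426))
theorem Q7322 : ∀ i, i < 7322 → P i := stepQ 7321 Q7321 (allL N7321 (tt N9058 (iv1 F22681)) (tt N5473 (iv0 F18431)) (tt N7295 F18428) (tt N7692 (iv3 F19123)) (tt N15015 (iv4 F37661)) (tt N7234 F18429) (tt N3467 (iv6 D11296)) (tt N7234 F18430))
theorem Q7323 : ∀ i, i < 7323 → P i := stepQ 7322 Q7322 (allL N7322 (tt N7300 (iv1 F18440)) (tt N3468 (iv0 D11297)) (tt N7296 (iv2 F18436)) (tt N15016 D24064) (tt N3511 F18437) (tt N15017 D24065) (tt N3819 F18438) (tt N7297 F18439))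
theorem Q7324 : ∀ i, i < 7324 → P i := stepQ 7323 Q7323 (allL N7323 (tt N3468 (iv1 D11298)) (tt N7300 F18432) (tt N7297 (iv2 F18434)) (tt N11160 (iv3 F27090)) (tt N3512 F18433) (tt N15018 D24066) (tt N15019 D24067) (tt N7296 (iv7 F18435)))
theorem Q7325 : ∀ i, i < 7325 → P i := stepQ 7324 Q7324 (allL N7324 (tt N15020 D24068) (tt N15021 D24069) (tt N15022 D24070) (tt N3468 (iv3 D11299)) (tt N7324 F18441) (tt N15023 D24071) (tt N5457 F18442) (tt N15024 D24072))
theorem Q7326 : ∀ i, i < 7326 → P i := stepQ 7325 Q7325 (allL N7325 (tt N15025 D24073) (tt N15026 D24074) (tt N7299 F18443) (tt N15023 (iv3 F37678)) (tt N15027 D24075) (tt N3468 (iv5 D11300)) (tt N15028 D24076) (tt N15029 D24077))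
theorem Q7327 : ∀ i, i < 7327 → P i := stepQ 7326 Q7326 (allL N7326 (tt N7297 (iv1 F18446)) (tt N7296 F18447) (tt N7300 F18444) (tt N15024 (iv3 F37679)) (tt N3469 F18445) (tt N15029 (iv5 F37696)) (tt N15030 D24078) (tt N3468 (iv7 D11301)))
theorem Q7328 : ∀ i, i < 7328 → P i := stepQ 7327 Q7327 (allL N7327 (tt N5455 F18452) (tt N5454 F18453) (tt N5456 F18448) (tt N7327 F18449) (tt N15030 (iv4 F37700)) (tt N7327 F18450) (tt N3469 (iv6 D11302)) (tt N4114 F18451))
theorem Q7329 : ∀ i, i < 7329 → P i := stepQ 7328 Q7328 (allL N7328 (tt N7338 (iv1 F18478)) (tt N3470 (iv0 D11303)) (tt N7335 (iv2 F18476)) (tt N9688 F36902) (tt N9406 F36901) (tt N14693 (iv5 F36897)) (tt N15031 D24079) (tt N7336 F18477))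
theorem Q7330 : ∀ i, i < 7330 → P i := stepQ 7329 Q7329 (allL N7329 (tt N3470 (iv1 D11304)) (tt N7338 F18474) (tt N7336 (iv2 F18469)) (tt N7765 (iv3 F19297)) (tt N9407 (iv4 F23241)) (tt N3800 (iv5 F18454)) (tt N15032 D24080) (tt N7335 (iv7 F18475)))
theorem Q7331 : ∀ i, i < 7331 → P i := stepQ 7330 Q7330 (allL N7330 (tt N14989 (iv1 F37586)) (tt N14992 (iv0 F37594)) (tt N7337 (iv2 F18470)) (tt N15033 D24081) (tt N3470 (iv4 D11305)) (tt N15034 D24082) (tt N9704 (iv6 F23845)) (tt N15035 D24083))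
theorem Q7332 : ∀ i, i < 7332 → P i := stepQ 7331 Q7331 (allL N7331 (tt N7336 (iv1 F18467)) (tt N7335 F18473) (tt N7338 (iv2 F18471)) (tt N8117 (iv3 F20266)) (tt N15035 (iv4 F37706)) (tt N3471 F18455) (tt N15036 D24084) (tt N3470 (iv7 D11306)))
theorem Q7333 : ∀ i, i < 7333 → P i := stepQ 7332 Q7332 (allL N7332 (tt N3472 (iv1 D11308)) (tt N4666 F18456) (tt N4427 F22908) (tt N8105 (iv3 F22523)) (tt N4419 F22522) (tt N15037 D24085) (tt N10161 (iv6 F24452)) (tt N4423 (iv7 F22907)))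
theorem Q7334 : ∀ i, i < 7334 → P i := stepQ 7333 Q7333 (allL N7333 (tt N9591 (iv1 F37717)) (tt N15038 D24087) (tt N4665 F18457) (tt N4658 F18458) (tt N15039 D24088) (tt N3472 (iv5 D11309)) (tt N3473 F18459) (tt N15040 D24089))
theorem Q7335 : ∀ i, i < 7335 → P i := stepQ 7334 Q7334 (allL N7334 (tt N4427 (iv1 F22518)) (tt N4423 (iv0 F22498)) (tt N4666 F18460) (tt N4659 F18461) (tt N4666 F18462) (tt N15040 (iv5 F37723)) (tt N7334 F18463) (tt N3472 (iv7 D11310)))
theorem Q7336 : ∀ i, i < 7336 → P i := stepQ 7335 Q7335 (allL N7335 (tt N7331 (iv1 F18473)) (tt N3473 (iv0 D11311)) (tt N7328 F18476) (tt N4641 F19546) (tt N14994 (iv4 F37597)) (tt N7955 (iv5 F19989)) (tt N15041 D24090) (tt N7329 F18475))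
theorem Q7337 : ∀ i, i < 7337 → P i := stepQ 7336 Q7336 (allL N7336 (tt N3473 (iv1 D11312)) (tt N7331 F18467) (tt N7329 F18469) (tt N9683 (iv3 F36882)) (tt N14995 (iv4 F37603)) (tt N7144 (iv5 F18468)) (tt N15042 D24091) (tt N7328 (iv7 F18477)))
theorem Q7338 : ∀ i, i < 7338 → P i := stepQ 7337 Q7337 (allL N7337 (tt N9401 (iv1 F23239)) (tt N9404 (iv0 F23240)) (tt N7330 F18470) (tt N15043 D24092) (tt N3473 (iv4 D11313)) (tt N15044 D24093) (tt N15039 (iv6 F37719)) (tt N15045 D24094))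
theorem Q7339 : ∀ i, i < 7339 → P i := stepQ 7338 Q7338 (allL N7338 (tt N7329 (iv1 F18474)) (tt N7328 F18478) (tt N7331 F18471) (tt N9752 (iv3 F23954)) (tt N15045 (iv4 F37732)) (tt N3474 F18472) (tt N15046 D24095) (tt N3473 (iv7 D11314)))
theorem Q7340 : ∀ i, i < 7340 → P i := stepQ 7339 Q7339 (allL N7339 (tt N4788 F18481) (tt N4630 (iv0 F19390)) (tt N3808 F18479) (tt N14705 (iv3 F36931)) (tt N3475 (iv4 D11315)) (tt N15047 D24096) (tt N15048 D24097) (tt N4785 F18480))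
theorem Q7341 : ∀ i, i < 7341 → P i := stepQ 7340 Q7340 (allL N7340 (tt N4792 (iv1 F18486)) (tt N4791 F18488) (tt N3886 F18483) (tt N4761 F18484) (tt N15049 D24098) (tt N3475 (iv5 D11316)) (tt N15050 D24099) (tt N4786 F18485))
theorem Q7342 : ∀ i, i < 7342 → P i := stepQ 7341 Q7341 (allL N7341 (tt N4640 F24293) (tt N10007 (iv0 F24309)) (tt N3887 F18489) (tt N4762 F18490) (tt N15048 (iv4 F37743)) (tt N7748 F19241) (tt N3475 (iv6 D11317)) (tt N15051 D24100))
theorem Q7343 : ∀ i, i < 7343 → P i := stepQ 7342 Q7342 (allL N7342 (tt N4784 (iv1 F18494)) (tt N3476 (iv0 D11318)) (tt N3898 (iv2 F18491)) (tt N4807 F18492) (tt N15052 D24101) (tt N15053 D24102) (tt N15054 D24103) (tt N4819 F18493))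
theorem Q7344 : ∀ i, i < 7344 → P i := stepQ 7343 Q7343 (allL N7343 (tt N15055 D24104) (tt N15056 D24105) (tt N9622 (iv2 F23712)) (tt N15057 D24106) (tt N3476 (iv4 D11319)) (tt N15058 D24107) (tt N7515 (iv6 F18836)) (tt N15059 D24108))
theorem Q7345 : ∀ i, i < 7345 → P i := stepQ 7344 Q7344 (allL N7344 (tt N4819 (iv1 F19208)) (tt N3898 (iv0 F19206)) (tt N4784 F18495) (tt N3491 F18496) (tt N15059 (iv4 F37771)) (tt N3477 F18497) (tt N15060 D24109) (tt N3476 (iv7 D11320)))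
theorem Q7346 : ∀ i, i < 7346 → P i := stepQ 7345 Q7345 (allL N7345 (tt N15061 D24110) (tt N15062 D24111) (tt N14941 (iv2 F37475)) (tt N11059 (iv3 F26057)) (tt N15063 D24112) (tt N3478 (iv5 D11324)) (tt N15064 D24113) (tt N11069 (iv7 F26085)))
theorem Q7347 : ∀ i, i < 7347 → P i := stepQ 7346 Q7346 (allL N7346 (tt N7947 (iv1 F37786)) (tt N15065 D24115) (tt N14942 (iv2 F37478)) (tt N4730 F19468) (tt N14942 (iv4 F37480)) (tt N4728 (iv5 F19469)) (tt N3478 (iv6 D11325)) (tt N15066 D24116))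
theorem Q7348 : ∀ i, i < 7348 → P i := stepQ 7347 Q7347 (allL N7347 (tt N3786 F19521) (tt N7745 (iv0 F19522)) (tt N5271 F26038) (tt N3479 (iv3 D11327)) (tt N5263 (iv4 F19519)) (tt N15067 D24117) (tt N15068 D24118) (tt N5267 (iv7 F26035)))
theorem Q7349 : ∀ i, i < 7349 → P i := stepQ 7348 Q7348 (allL N7348 (tt N15062 (iv1 F37778)) (tt N15061 F37777) (tt N11069 (iv2 F26083)) (tt N15067 (iv3 F37791)) (tt N15069 D24119) (tt N3479 (iv5 D11329)) (tt N15070 D24120) (tt N14941 (iv7 F37477)))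
theorem Q7350 : ∀ i, i < 7350 → P i := stepQ 7349 Q7349 (allL N7349 (tt N15071 D24121) (tt N8889 (iv0 F26089)) (tt N11070 (iv2 F26086)) (tt N15068 (iv3 F37794)) (tt N11070 (iv4 F26088)) (tt N15072 D24122) (tt N3479 (iv6 D11330)) (tt N15073 D24123))
theorem Q7351 : ∀ i, i < 7351 → P i := stepQ 7350 Q7350 (allL N7350 (tt N14945 (iv1 F37498)) (tt N3480 (iv0 D11331)) (tt N14943 (iv2 F37495)) (tt N11061 (iv3 F37497)) (tt N15074 D24124) (tt N15075 D24125) (tt N15076 D24126) (tt N11078 F37496))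
theorem Q7352 : ∀ i, i < 7352 → P i := stepQ 7351 Q7351 (allL N7351 (tt N3480 (iv1 D11332)) (tt N14945 F37493) (tt N11078 (iv2 F26098)) (tt N9788 (iv3 F24019)) (tt N15077 D24127) (tt N9782 (iv5 F24000)) (tt N15078 D24128) (tt N14943 (iv7 F37494)))
theorem Q7353 : ∀ i, i < 7353 → P i := stepQ 7352 Q7352 (allL N7352 (tt N15079 D24129) (tt N15080 D24130) (tt N14944 (iv2 F37487)) (tt N15081 D24131) (tt N3480 (iv4 D11333)) (tt N15082 D24132) (tt N3490 F18500) (tt N15083 D24133))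
theorem Q7354 : ∀ i, i < 7354 → P i := stepQ 7353 Q7353 (allL N7353 (tt N11078 (iv1 F26101)) (tt N14943 F37492) (tt N14945 (iv2 F37490)) (tt N7516 (iv3 F18837)) (tt N15083 (iv4 F37813)) (tt N3481 F18501) (tt N15084 D24134) (tt N3480 (iv7 D11334)))
theorem Q7355 : ∀ i, i < 7355 → P i := stepQ 7354 Q7354 (allL N7354 (tt N4770 F18505) (tt N15085 D24135) (tt N3878 F18502) (tt N3483 F18503) (tt N15086 D24136) (tt N3482 (iv5 D11335)) (tt N15087 D24137) (tt N3880 F18504))
theorem Q7356 : ∀ i, i < 7356 → P i := stepQ 7355 Q7355 (allL N7355 (tt N4566 F19051) (tt N15088 D24138) (tt N3879 F18506) (tt N3484 F18507) (tt N3637 F18508) (tt N4697 F18509) (tt N3482 (iv6 D11336)) (tt N15089 D24139))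
theorem Q7357 : ∀ i, i < 7357 → P i := stepQ 7356 Q7356 (allL N7356 (tt N3486 (iv1 F18511)) (tt N3483 (iv0 D11337)) (tt N7872 F19791) (tt N9783 F24005) (tt N15090 D24140) (tt N3803 F18510) (tt N15091 D24141) (tt N7871 F19787))
theorem Q7358 : ∀ i, i < 7358 → P i := stepQ 7357 Q7357 (allL N7357 (tt N3483 (iv1 D11338)) (tt N3486 F18512) (tt N7871 F19786) (tt N4791 F20340) (tt N15092 D24142) (tt N7866 (iv5 F19767)) (tt N15093 D24143) (tt N7872 (iv7 F19789)))
theorem Q7359 : ∀ i, i < 7359 → P i := stepQ 7358 Q7358 (allL N7358 (tt N10257 (iv1 F24584)) (tt N10254 (iv0 F24578)) (tt N8935 (iv2 F22261)) (tt N15094 D24144) (tt N3483 (iv4 D11339)) (tt N7376 (iv5 F18540)) (tt N15095 D24145) (tt N7873 (iv7 F19793)))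
theorem Q7360 : ∀ i, i < 7360 → P i := stepQ 7359 Q7359 (allL N7359 (tt N15096 D24146) (tt N15097 D24147) (tt N8936 (iv2 F22263)) (tt N15087 (iv3 F37824)) (tt N15095 (iv4 F37851)) (tt N15098 D24148) (tt N3483 (iv6 D11340)) (tt N15099 D24149))
theorem Q7361 : ∀ i, i < 7361 → P i := stepQ 7360 Q7360 (allL N7360 (tt N3484 (iv1 D11341)) (tt N8938 F22273) (tt N8937 (iv2 F22268)) (tt N10007 (iv3 F24306)) (tt N3497 (iv4 F18514)) (tt N9497 (iv5 F23454)) (tt N7369 F18531) (tt N7290 F18513))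
theorem Q7362 : ∀ i, i < 7362 → P i := stepQ 7361 Q7361 (allL N7361 (tt N3788 F18516) (tt N7929 F19928) (tt N7927 (iv2 F19925)) (tt N4697 F18515) (tt N15100 D24150) (tt N3484 (iv5 D11342)) (tt N15098 (iv6 F37853)) (tt N7926 F19923))
theorem Q7363 : ∀ i, i < 7363 → P i := stepQ 7362 Q7362 (allL N7362 (tt N8937 (iv1 F22264)) (tt N7290 (iv0 F18518)) (tt N8938 (iv2 F22269)) (tt N15089 (iv3 F37832)) (tt N3633 F18517) (tt N7926 (iv5 F19922)) (tt N7877 (iv6 F19806)) (tt N3484 (iv7 D11343)))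
theorem Q7364 : ∀ i, i < 7364 → P i := stepQ 7363 Q7363 (allL N7363 (tt N3485 (iv1 D11345)) (tt N3877 F18524) (tt N7579 (iv2 F19410)) (tt N3893 (iv3 F19411)) (tt N7846 (iv4 F19719)) (tt N15101 D24151) (tt N7363 F19412) (tt N4596 F19409))
theorem Q7365 : ∀ i, i < 7365 → P i := stepQ 7364 Q7364 (allL N7364 (tt N4596 (iv1 F19318)) (tt N7579 F18965) (tt N3485 (iv2 D11346)) (tt N3874 F18521) (tt N3719 F18522) (tt N15102 D24152) (tt N15103 D24153) (tt N3877 F18523))
theorem Q7366 : ∀ i, i < 7366 → P i := stepQ 7365 Q7365 (allL N7365 (tt N15104 D24154) (tt N15105 D24155) (tt N15102 (iv2 F37858)) (tt N3486 F18525) (tt N15106 D24156) (tt N3485 (iv5 D11347)) (tt N15107 D24157) (tt N7580 (iv7 F18968)))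
theorem Q7367 : ∀ i, i < 7367 → P i := stepQ 7366 Q7366 (allL N7366 (tt N15108 D24158) (tt N15109 D24159) (tt N15103 (iv2 F37861)) (tt N3487 F18526) (tt N3721 F18527) (tt N15110 D24160) (tt N3485 (iv6 D11348)) (tt N15111 D24161))
theorem Q7368 : ∀ i, i < 7368 → P i := stepQ 7367 Q7367 (allL N7367 (tt N10254 (iv1 F24579)) (tt N10257 (iv0 F24583)) (tt N7873 (iv2 F19792)) (tt N15112 D24162) (tt N3486 (iv4 D11349)) (tt N7373 (iv5 F18537)) (tt N15113 D24163) (tt N8935 (iv7 F22262)))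
theorem Q7369 : ∀ i, i < 7369 → P i := stepQ 7368 Q7368 (allL N7368 (tt N15114 D24164) (tt N15115 D24165) (tt N7874 (iv2 F19794)) (tt N15107 (iv3 F37872)) (tt N15113 (iv4 F37877)) (tt N15116 D24166) (tt N3486 (iv6 D11350)) (tt N15117 D24167))
theorem Q7370 : ∀ i, i < 7370 → P i := stepQ 7369 Q7369 (allL N7369 (tt N7877 (iv1 F19808)) (tt N3487 (iv0 D11351)) (tt N7875 F19797) (tt N4795 (iv3 F18530)) (tt N3504 F18529) (tt N3804 F18528) (tt N7360 (iv6 F18531)) (tt N7310 (iv7 F18532)))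
theorem Q7371 : ∀ i, i < 7371 → P i := stepQ 7370 Q7370 (allL N7370 (tt N7145 F18533) (tt N7143 F18534) (tt N7876 (iv2 F19800)) (tt N15110 (iv3 F37873)) (tt N15118 D24168) (tt N3487 (iv5 D11352)) (tt N15116 (iv6 F37878)) (tt N7951 (iv7 F19980)))
theorem Q7372 : ∀ i, i < 7372 → P i := stepQ 7371 Q7371 (allL N7371 (tt N7310 (iv1 F18536)) (tt N7875 F19799) (tt N7877 (iv2 F19804)) (tt N15111 (iv3 F37874)) (tt N3685 F18535) (tt N7951 (iv5 F19981)) (tt N8938 (iv6 F22272)) (tt N3487 (iv7 D11353)))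
theorem Q7373 : ∀ i, i < 7373 → P i := stepQ 7372 Q7372 (allL N7372 (tt N3885 F18539) (tt N3875 (iv0 F19042)) (tt N3882 F19654) (tt N3488 (iv3 D11354)) (tt N15119 D24169) (tt N7640 (iv5 F19040)) (tt N15120 D24170) (tt N3883 (iv7 F19653)))
theorem Q7374 : ∀ i, i < 7374 → P i := stepQ 7373 Q7373 (allL N7373 (tt N7734 (iv1 F19214)) (tt N3681 F18538) (tt N14947 (iv2 F37505)) (tt N15121 D24171) (tt N3488 (iv4 D11355)) (tt N7367 F18537) (tt N15122 D24172) (tt N14949 (iv7 F37513)))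
theorem Q7375 : ∀ i, i < 7375 → P i := stepQ 7374 Q7374 (allL N7374 (tt N15123 D24173) (tt N15124 D24174) (tt N14948 (iv2 F37510)) (tt N15120 (iv3 F37884)) (tt N15122 (iv4 F37886)) (tt N15125 D24175) (tt N3488 (iv6 D11356)) (tt N15126 D24176))
theorem Q7376 : ∀ i, i < 7376 → P i := stepQ 7375 Q7375 (allL N7375 (tt N9747 F23949) (tt N15101 (iv0 F37857)) (tt N15127 D24177) (tt N3489 (iv3 D11357)) (tt N15128 D24178) (tt N7737 (iv5 F19220)) (tt N15129 D24179) (tt N14946 (iv7 F37501)))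
theorem Q7377 : ∀ i, i < 7377 → P i := stepQ 7376 Q7376 (allL N7376 (tt N3681 F18541) (tt N7734 (iv0 F19213)) (tt N14949 (iv2 F37511)) (tt N15130 D24180) (tt N3489 (iv4 D11358)) (tt N7358 F18540) (tt N15131 D24181) (tt N14947 (iv7 F37506)))
theorem Q7378 : ∀ i, i < 7378 → P i := stepQ 7377 Q7377 (allL N7377 (tt N15132 D24182) (tt N15133 D24183) (tt N14950 (iv2 F37516)) (tt N15129 (iv3 F37898)) (tt N15131 (iv4 F37900)) (tt N9287 (iv5 F23054)) (tt N3489 (iv6 D11359)) (tt N15134 D24184))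
theorem Q7379 : ∀ i, i < 7379 → P i := stepQ 7378 Q7378 (allL N7378 (tt N7381 F18546) (tt N3490 (iv0 D11360)) (tt N7729 (iv2 F19196)) (tt N15135 D24185) (tt N4343 F18542) (tt N7398 (iv5 F18594)) (tt N15136 D24186) (tt N7731 (iv7 F19203)))
theorem Q7380 : ∀ i, i < 7380 → P i := stepQ 7379 Q7379 (allL N7379 (tt N3490 (iv1 D11361)) (tt N7381 F18545) (tt N7731 (iv2 F19201)) (tt N15137 D24187) (tt N7404 (iv4 F18616)) (tt N7386 (iv5 F18617)) (tt N15138 D24188) (tt N7729 (iv7 F19197)))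
theorem Q7381 : ∀ i, i < 7381 → P i := stepQ 7380 Q7380 (allL N7380 (tt N15139 D24189) (tt N15140 D24190) (tt N15141 D24191) (tt N3490 (iv3 D11362)) (tt N15057 (iv4 F37769)) (tt N15142 D24192) (tt N15081 (iv6 F37812)) (tt N15143 D24193))
theorem Q7382 : ∀ i, i < 7382 → P i := stepQ 7381 Q7381 (allL N7381 (tt N7379 (iv1 F18545)) (tt N7378 (iv0 F18546)) (tt N7382 (iv2 F18547)) (tt N15142 (iv3 F37904)) (tt N7278 F18543) (tt N3490 (iv5 D11363)) (tt N15144 D24194) (tt N7277 F18544))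
theorem Q7383 : ∀ i, i < 7383 → P i := stepQ 7382 Q7382 (allL N7382 (tt N7731 (iv1 F19205)) (tt N7729 (iv0 F19199)) (tt N7381 F18547) (tt N15143 (iv3 F37906)) (tt N3491 F18548) (tt N7277 F18549) (tt N15145 D24195) (tt N3490 (iv7 D11364)))
theorem Q7384 : ∀ i, i < 7384 → P i := stepQ 7383 Q7383 (allL N7383 (tt N15146 D24196) (tt N15147 D24197) (tt N14952 (iv2 F37518)) (tt N15060 (iv3 F37774)) (tt N15145 (iv4 F37910)) (tt N7383 F18550) (tt N3491 (iv6 D11365)) (tt N15084 (iv7 F37816)))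
theorem Q7385 : ∀ i, i < 7385 → P i := stepQ 7384 Q7384 (allL N7384 (tt N3501 (iv1 F18552)) (tt N3492 (iv0 D11366)) (tt N4904 (iv2 F18553)) (tt N9991 (iv3 F24279)) (tt N15148 D24198) (tt N4362 F18551) (tt N15149 D24199) (tt N4903 (iv7 F18554)))
theorem Q7386 : ∀ i, i < 7386 → P i := stepQ 7385 Q7385 (allL N7385 (tt N3492 (iv1 D11367)) (tt N3501 F18555) (tt N4903 (iv2 F18557)) (tt N15150 D24200) (tt N15151 D24201) (tt N7639 (iv5 F19036)) (tt N15152 D24202) (tt N4904 F18556))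
theorem Q7387 : ∀ i, i < 7387 → P i := stepQ 7386 Q7386 (allL N7386 (tt N15090 (iv1 F37842)) (tt N15092 (iv0 F37847)) (tt N7724 (iv2 F19185)) (tt N15153 D24203) (tt N3492 (iv4 D11368)) (tt N7379 F18617) (tt N15154 D24204) (tt N4905 F18558))
theorem Q7388 : ∀ i, i < 7388 → P i := stepQ 7387 Q7387 (allL N7387 (tt N15155 D24205) (tt N15156 D24206) (tt N7725 (iv2 F19187)) (tt N3916 F18559) (tt N15154 (iv4 F37929)) (tt N15157 D24207) (tt N3492 (iv6 D11369)) (tt N15158 D24208))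
theorem Q7389 : ∀ i, i < 7389 → P i := stepQ 7388 Q7388 (allL N7388 (tt N3493 (iv1 D11370)) (tt N7727 F19193) (tt N7642 (iv2 F19046)) (tt N15159 D24209) (tt N4286 (iv4 F18561)) (tt N15160 D24210) (tt N7400 F18600) (tt N4517 F18560))
theorem Q7390 : ∀ i, i < 7390 → P i := stepQ 7389 Q7389 (allL N7389 (tt N3767 F18563) (tt N7916 F19892) (tt N7726 (iv2 F19188)) (tt N3525 F18562) (tt N15161 D24211) (tt N3493 (iv5 D11371)) (tt N15157 (iv6 F37931)) (tt N7489 (iv7 F18779)))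
theorem Q7391 : ∀ i, i < 7391 → P i := stepQ 7390 Q7390 (allL N7390 (tt N7642 F19050) (tt N4517 (iv0 F18567)) (tt N7727 (iv2 F19190)) (tt N3917 F18564) (tt N3499 F18565) (tt N7489 (iv5 F18778)) (tt N4910 F18566) (tt N3493 (iv7 D11372)))
theorem Q7392 : ∀ i, i < 7392 → P i := stepQ 7391 Q7391 (allL N7391 (tt N3683 F18569) (tt N3628 F18570) (tt N7866 (iv2 F19765)) (tt N15162 D24212) (tt N3494 (iv4 D11373)) (tt N7871 (iv5 F19784)) (tt N14693 (iv6 F36898)) (tt N3803 F18568))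
theorem Q7393 : ∀ i, i < 7393 → P i := stepQ 7392 Q7392 (allL N7392 (tt N3503 (iv1 F18573)) (tt N3495 (iv0 D11374)) (tt N7639 (iv2 F19034)) (tt N9992 (iv3 F24280)) (tt N3644 F18572) (tt N4903 F18571) (tt N7975 (iv6 F20012)) (tt N4362 F18574))
theorem Q7394 : ∀ i, i < 7394 → P i := stepQ 7393 Q7393 (allL N7393 (tt N3810 F18578) (tt N14710 F36950) (tt N9059 (iv2 F22684)) (tt N3642 F18575) (tt N3496 F18576) (tt N9392 F23233) (tt N3495 (iv6 D11375)) (tt N5306 F18577))
theorem Q7395 : ∀ i, i < 7395 → P i := stepQ 7394 Q7394 (allL N7394 (tt N4308 F18582) (tt N4309 (iv0 F18583)) (tt N9289 (iv2 F23057)) (tt N3647 F18579) (tt N9505 (iv4 F23477)) (tt N3497 (iv5 D11376)) (tt N5455 F18580) (tt N7292 F18581))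
theorem Q7396 : ∀ i, i < 7396 → P i := stepQ 7395 Q7395 (allL N7395 (tt N3772 F18584) (tt N7924 F19918) (tt N7921 F19913) (tt N14957 (iv3 F37526)) (tt N3498 (iv4 D11377)) (tt N15163 D24213) (tt N14957 (iv6 F37527)) (tt N7920 F19908))
theorem Q7397 : ∀ i, i < 7397 → P i := stepQ 7396 Q7396 (allL N7396 (tt N4851 (iv1 F18588)) (tt N4850 F18589) (tt N3927 F18585) (tt N3501 F18586) (tt N15164 D24214) (tt N3500 (iv5 D11378)) (tt N15165 D24215) (tt N4848 F18587))
theorem Q7398 : ∀ i, i < 7398 → P i := stepQ 7397 Q7397 (allL N7397 (tt N10166 F24469) (tt N4425 F22187) (tt N3928 F18590) (tt N3502 F18591) (tt N7397 F18592) (tt N8890 (iv5 F22207)) (tt N3500 (iv6 D11379)) (tt N15166 D24216))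
theorem Q7399 : ∀ i, i < 7399 → P i := stepQ 7398 Q7398 (allL N7398 (tt N15092 (iv1 F37848)) (tt N15090 (iv0 F37841)) (tt N4905 F18593) (tt N15167 D24217) (tt N3501 (iv4 D11380)) (tt N7378 F18594) (tt N15168 D24218) (tt N7724 (iv7 F19186)))
theorem Q7400 : ∀ i, i < 7400 → P i := stepQ 7399 Q7399 (allL N7399 (tt N15169 D24219) (tt N15170 D24220) (tt N4906 F18595) (tt N15165 (iv3 F37952)) (tt N15168 (iv4 F37963)) (tt N15171 D24221) (tt N3501 (iv6 D11381)) (tt N15172 D24222))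
theorem Q7401 : ∀ i, i < 7401 → P i := stepQ 7400 Q7400 (allL N7400 (tt N4910 (iv1 F18601)) (tt N3502 (iv0 D11382)) (tt N4907 (iv2 F18598)) (tt N15173 D24223) (tt N3753 F18597) (tt N7246 F18596) (tt N7388 (iv6 F18600)) (tt N4908 F18599))
theorem Q7402 : ∀ i, i < 7402 → P i := stepQ 7401 Q7401 (allL N7401 (tt N3817 F18603) (tt N3809 F18604) (tt N4909 F18602) (tt N8890 F22210) (tt N15174 D24224) (tt N3502 (iv5 D11383)) (tt N15171 (iv6 F37966)) (tt N9065 (iv7 F22695)))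
theorem Q7403 : ∀ i, i < 7403 → P i := stepQ 7402 Q7402 (allL N7402 (tt N4908 (iv1 F18607)) (tt N4907 F18608) (tt N4910 F18605) (tt N15166 (iv3 F37954)) (tt N3506 F18606) (tt N9065 (iv5 F22692)) (tt N7727 (iv6 F19192)) (tt N3502 (iv7 D11384)))
theorem Q7404 : ∀ i, i < 7404 → P i := stepQ 7403 Q7403 (allL N7403 (tt N4270 F22223) (tt N10319 F24648) (tt N5300 F18609) (tt N3503 (iv3 D11385)) (tt N7403 F18610) (tt N9039 (iv5 F22659)) (tt N3674 F19508) (tt N10320 (iv7 F24653)))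
theorem Q7405 : ∀ i, i < 7405 → P i := stepQ 7404 Q7404 (allL N7404 (tt N3659 F18614) (tt N3682 F18615) (tt N3680 F18612) (tt N9039 (iv3 F22658)) (tt N7379 F18616) (tt N3503 (iv5 D11386)) (tt N15175 D24225) (tt N3679 F18613))
theorem Q7406 : ∀ i, i < 7406 → P i := stepQ 7405 Q7405 (allL N7405 (tt N3819 F18618) (tt N3812 F18619) (tt N9054 (iv2 F22669)) (tt N15176 D24226) (tt N3505 (iv4 D11387)) (tt N15177 D24227) (tt N14876 (iv6 F37334)) (tt N9055 (iv7 F22676)))
theorem Q7407 : ∀ i, i < 7407 → P i := stepQ 7406 Q7406 (allL N7406 (tt N3507 (iv1 D11388)) (tt N3509 F18620) (tt N4577 F18623) (tt N3531 F18624) (tt N14958 (iv4 F37531)) (tt N3629 (iv5 F18621)) (tt N3632 (iv6 F18622)) (tt N7440 (iv7 F18679)))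
theorem Q7408 : ∀ i, i < 7408 → P i := stepQ 7407 Q7407 (allL N7407 (tt N15004 (iv1 F37633)) (tt N15005 (iv0 F37637)) (tt N7441 (iv2 F18682)) (tt N15178 D24228) (tt N3507 (iv4 D11389)) (tt N15025 (iv5 F37681)) (tt N11381 (iv6 F27664)) (tt N7691 (iv7 F19121)))
theorem Q7409 : ∀ i, i < 7409 → P i := stepQ 7408 Q7408 (allL N7408 (tt N8030 F20102) (tt N5505 (iv0 F18627)) (tt N7442 (iv2 F18684)) (tt N7288 F18625) (tt N11381 F27662) (tt N3823 F18626) (tt N3507 (iv6 D11390)) (tt N8103 (iv7 F20227)))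
theorem Q7410 : ∀ i, i < 7410 → P i := stepQ 7409 Q7409 (allL N7409 (tt N15005 (iv1 F37638)) (tt N15004 (iv0 F37632)) (tt N7691 (iv2 F19120)) (tt N15179 D24229) (tt N3509 (iv4 D11391)) (tt N15026 (iv5 F37687)) (tt N8099 (iv6 F20220)) (tt N7441 (iv7 F18683)))
theorem Q7411 : ∀ i, i < 7411 → P i := stepQ 7410 Q7410 (allL N7410 (tt N9109 F22765) (tt N4891 (iv0 F18631)) (tt N7692 (iv2 F19122)) (tt N3566 F18628) (tt N15019 (iv4 F37672)) (tt N3813 F18629) (tt N3512 (iv6 D11392)) (tt N3813 F18630))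
theorem Q7412 : ∀ i, i < 7412 → P i := stepQ 7411 Q7411 (allL N7411 (tt N15180 D24230) (tt N15181 D24231) (tt N15182 D24232) (tt N3513 (iv3 D11393)) (tt N3540 F18633) (tt N15183 D24233) (tt N5018 F18634) (tt N15184 D24234))
theorem Q7413 : ∀ i, i < 7413 → P i := stepQ 7412 Q7412 (allL N7412 (tt N14959 (iv1 F37535)) (tt N14964 (iv0 F37543)) (tt N7694 (iv2 F19129)) (tt N15183 (iv3 F37989)) (tt N15185 D24235) (tt N3513 (iv5 D11394)) (tt N15186 D24236) (tt N15187 D24237))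
theorem Q7414 : ∀ i, i < 7414 → P i := stepQ 7413 Q7413 (allL N7413 (tt N7320 (iv1 F18636)) (tt N7319 F18637) (tt N7695 (iv2 F19130)) (tt N15184 (iv3 F37990)) (tt N3514 F18635) (tt N15187 (iv5 F37996)) (tt N11414 (iv6 F27748)) (tt N3513 (iv7 D11395)))
theorem Q7415 : ∀ i, i < 7415 → P i := stepQ 7414 Q7414 (allL N7414 (tt N7151 F19388) (tt N7767 (iv0 F19393)) (tt N7462 (iv2 F18718)) (tt N3517 F18638) (tt N3546 F18639) (tt N15188 D24238) (tt N3515 (iv6 D11396)) (tt N7644 F19345))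
theorem Q7416 : ∀ i, i < 7416 → P i := stepQ 7415 Q7415 (allL N7415 (tt N4331 F19392) (tt N7712 (iv0 F19389)) (tt N4416 F18640) (tt N7507 (iv3 F18828)) (tt N3517 F18641) (tt N15189 D24239) (tt N3516 (iv6 D11397)) (tt N7645 F19417))
theorem Q7417 : ∀ i, i < 7417 → P i := stepQ 7416 Q7416 (allL N7416 (tt N8955 (iv1 F22323)) (tt N4277 (iv0 F19555)) (tt N7417 (iv2 F18644)) (tt N15188 (iv3 F37999)) (tt N15190 D24240) (tt N3517 (iv5 D11400)) (tt N7463 (iv6 F18721)) (tt N7646 F19434))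
theorem Q7418 : ∀ i, i < 7418 → P i := stepQ 7417 Q7417 (allL N7417 (tt N4300 F19353) (tt N8921 F22248) (tt N7416 F18644) (tt N9564 (iv3 F23632)) (tt N15191 D24241) (tt N3518 (iv5 D11404)) (tt N7464 (iv6 F18725)) (tt N7880 (iv7 F19819)))
theorem Q7419 : ∀ i, i < 7419 → P i := stepQ 7418 Q7418 (allL N7418 (tt N3523 (iv1 F18656)) (tt N3519 (iv0 D11406)) (tt N3520 F22887) (tt N4604 (iv3 F18658)) (tt N8979 (iv4 F22382)) (tt N15192 D24242) (tt N7888 (iv6 F24291)) (tt N3521 F22888))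
theorem Q7420 : ∀ i, i < 7420 → P i := stepQ 7419 Q7419 (allL N7419 (tt N3519 (iv1 D11407)) (tt N3523 F18650) (tt N3521 F22890) (tt N7474 (iv3 F18748)) (tt N8980 F22384) (tt N15193 D24243) (tt N7653 (iv6 F23895)) (tt N3520 F22891))
theorem Q7421 : ∀ i, i < 7421 → P i := stepQ 7420 Q7420 (allL N7420 (tt N15194 D24244) (tt N14775 (iv0 F37111)) (tt N3522 F18651) (tt N7467 (iv3 F18733)) (tt N15195 D24245) (tt N3519 (iv5 D11408)) (tt N4329 F18652) (tt N15196 D24246))
theorem Q7422 : ∀ i, i < 7422 → P i := stepQ 7421 Q7421 (allL N7421 (tt N3521 (iv1 F18657)) (tt N3520 F18659) (tt N3523 F18653) (tt N7468 (iv3 F18736)) (tt N3870 F18654) (tt N15196 (iv5 F38016)) (tt N7421 F18655) (tt N3519 (iv7 D11409)))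
theorem Q7423 : ∀ i, i < 7423 → P i := stepQ 7422 Q7422 (allL N7422 (tt N7912 F19940) (tt N7743 (iv0 F19231)) (tt N7470 F22897) (tt N3520 (iv3 D11411)) (tt N7465 F18741) (tt N15197 D24247) (tt N15198 D24248) (tt N7474 F22892))
theorem Q7424 : ∀ i, i < 7424 → P i := stepQ 7423 Q7423 (allL N7423 (tt N8982 F22391) (tt N7700 (iv0 F19941)) (tt N8979 (iv2 F22885)) (tt N7508 F19451) (tt N3520 (iv4 D11412)) (tt N15199 D24249) (tt N15200 D24250) (tt N8980 F22893))
theorem Q7425 : ∀ i, i < 7425 → P i := stepQ 7424 Q7424 (allL N7424 (tt N15201 D24251) (tt N10195 (iv0 F37082)) (tt N15192 (iv2 F38002)) (tt N15197 (iv3 F38019)) (tt N15202 D24252) (tt N3520 (iv5 D11413)) (tt N15203 D24253) (tt N15193 (iv7 F38007)))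
theorem Q7426 : ∀ i, i < 7426 → P i := stepQ 7425 Q7425 (allL N7425 (tt N7882 (iv1 F37081)) (tt N7890 (iv0 F37080)) (tt N7888 F24294) (tt N15198 (iv3 F38020)) (tt N15200 (iv4 F38024)) (tt N14765 F37078) (tt N3520 (iv6 D11414)) (tt N7887 (iv7 F37094)))
theorem Q7427 : ∀ i, i < 7427 → P i := stepQ 7426 Q7426 (allL N7426 (tt N7696 (iv1 F19471)) (tt N7708 (iv0 F19470)) (tt N4608 (iv2 F22920)) (tt N3521 (iv3 D11416)) (tt N4600 F18662) (tt N15204 D24254) (tt N9944 (iv6 F24195)) (tt N4604 F22889))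
theorem Q7428 : ∀ i, i < 7428 → P i := stepQ 7427 Q7427 (allL N7427 (tt N10195 (iv1 F24509)) (tt N15201 F38027) (tt N15193 (iv2 F38006)) (tt N15204 (iv3 F38029)) (tt N15205 D24255) (tt N3521 (iv5 D11417)) (tt N15206 D24256) (tt N15192 (iv7 F38004)))
theorem Q7429 : ∀ i, i < 7429 → P i := stepQ 7428 Q7428 (allL N7428 (tt N7655 F24196) (tt N7648 (iv0 F22964)) (tt N7653 F23896) (tt N9944 (iv3 F24194)) (tt N9198 (iv4 F22963)) (tt N9237 (iv5 F23262)) (tt N3521 (iv6 D11418)) (tt N7654 (iv7 F23898)))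
theorem Q7430 : ∀ i, i < 7430 → P i := stepQ 7429 Q7429 (allL N7429 (tt N15196 (iv1 F38018)) (tt N3522 (iv0 D11419)) (tt N15194 F38010) (tt N15207 D24257) (tt N15208 D24258) (tt N9240 F23265) (tt N15209 D24259) (tt N14775 (iv7 F37110)))
theorem Q7431 : ∀ i, i < 7431 → P i := stepQ 7430 Q7430 (allL N7430 (tt N3522 (iv1 D11420)) (tt N15196 F38017) (tt N14775 (iv2 F37109)) (tt N15210 D24260) (tt N15211 D24261) (tt N9241 (iv5 F24314)) (tt N15212 D24262) (tt N15194 (iv7 F38011)))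
theorem Q7432 : ∀ i, i < 7432 → P i := stepQ 7431 Q7431 (allL N7431 (tt N15213 D24263) (tt N15214 D24264) (tt N15195 (iv2 F38013)) (tt N12469 F315103) (tt N3522 (iv4 D11421)) (tt N15215 D24266) (tt N4341 F18663) (tt N15216 D24267))
theorem Q7433 : ∀ i, i < 7433 → P i := stepQ 7432 Q7432 (allL N7432 (tt N14775 F37112) (tt N15194 F38012) (tt N15196 (iv2 F38015)) (tt N3527 F18664) (tt N15216 (iv4 F38034)) (tt N3523 F18665) (tt N15217 D24268) (tt N3522 (iv7 D11422)))
theorem Q7434 : ∀ i, i < 7434 → P i := stepQ 7433 Q7433 (allL N7433 (tt N7723 (iv1 F22152)) (tt N4257 F22151) (tt N7721 F19423) (tt N3524 (iv3 D11423)) (tt N15079 (iv4 F37808)) (tt N4857 F18666) (tt N15218 D24269) (tt N4856 F18667))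
theorem Q7435 : ∀ i, i < 7435 → P i := stepQ 7434 Q7434 (allL N7434 (tt N15219 D24270) (tt N15220 D24271) (tt N7490 (iv2 F18781)) (tt N15218 (iv3 F38038)) (tt N11122 (iv4 F26209)) (tt N7859 (iv5 F19749)) (tt N3524 (iv6 D11424)) (tt N15221 D24272))
theorem Q7436 : ∀ i, i < 7436 → P i := stepQ 7435 Q7435 (allL N7435 (tt N15222 D24273) (tt N10242 (iv0 F317317)) (tt N4868 F18668) (tt N15157 (iv3 F37930)) (tt N8354 F315113) (tt N3916 F18669) (tt N3525 (iv6 D11425)) (tt N10726 (iv7 F317167)))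
theorem Q7437 : ∀ i, i < 7437 → P i := stepQ 7436 Q7436 (allL N7436 (tt N12486 (iv1 F312259)) (tt N9169 (iv0 F312256)) (tt N12655 (iv2 F312257)) (tt N3526 (iv3 D11426)) (tt N12469 (iv4 F312644)) (tt N11336 F310466) (tt N4347 F18670) (tt N12656 F310467))
theorem Q7438 : ∀ i, i < 7438 → P i := stepQ 7437 Q7437 (allL N7437 (tt N9883 (iv1 F24134)) (tt N9892 (iv0 F24142)) (tt N7492 (iv2 F18783)) (tt N11336 (iv3 F308388)) (tt N7506 (iv4 F18823)) (tt N3526 (iv5 D11427)) (tt N15223 D24281) (tt N7504 F18819))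
theorem Q7439 : ∀ i, i < 7439 → P i := stepQ 7438 Q7438 (allL N7438 (tt N5291 (iv1 F18672)) (tt N5288 F18673) (tt N7493 (iv2 F18786)) (tt N12656 (iv3 F309150)) (tt N3527 F18671) (tt N7504 (iv5 F18818)) (tt N15224 D24282) (tt N3526 (iv7 D11428)))
theorem Q7440 : ∀ i, i < 7440 → P i := stepQ 7439 Q7439 (allL N7439 (tt N14806 (iv1 F37159)) (tt N14805 F37158) (tt N7494 (iv2 F18791)) (tt N15217 (iv3 F38035)) (tt N15224 (iv4 F38056)) (tt N7439 F18674) (tt N3527 (iv6 D11429)) (tt N4350 F18675))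
theorem Q7441 : ∀ i, i < 7441 → P i := stepQ 7440 Q7440 (allL N7440 (tt N3660 (iv1 F18678)) (tt N3528 (iv0 D11430)) (tt N4564 (iv2 F18677)) (tt N3560 F18681) (tt N15006 (iv4 F37639)) (tt N3780 F18676) (tt N5656 (iv6 F18680)) (tt N7406 F18679))
theorem Q7442 : ∀ i, i < 7442 → P i := stepQ 7441 Q7441 (allL N7441 (tt N14956 (iv1 F37525)) (tt N14957 (iv0 F37528)) (tt N7407 F18682) (tt N15225 D24283) (tt N3528 (iv4 D11431)) (tt N14976 (iv5 F37557)) (tt N7241 (iv6 F26793)) (tt N7409 F18683))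
theorem Q7443 : ∀ i, i < 7443 → P i := stepQ 7442 Q7442 (allL N7442 (tt N8550 F21331) (tt N5050 (iv0 F18687)) (tt N7408 F18684) (tt N3533 F18685) (tt N7241 (iv4 F26785)) (tt N4371 F18686) (tt N3528 (iv6 D11432)) (tt N9177 (iv7 F22846)))
theorem Q7444 : ∀ i, i < 7444 → P i := stepQ 7443 Q7443 (allL N7443 (tt N4485 F26986) (tt N9532 F26987) (tt N4022 F26670) (tt N3532 (iv3 D11433)) (tt N15225 (iv4 F38058)) (tt N15226 D24284) (tt N4018 F26671) (tt N7497 (iv7 F18802)))
theorem Q7445 : ∀ i, i < 7445 → P i := stepQ 7444 Q7444 (allL N7444 (tt N5329 F18690) (tt N4054 F18691) (tt N5325 F18688) (tt N15226 (iv3 F38063)) (tt N9892 (iv4 F24141)) (tt N3532 (iv5 D11434)) (tt N15227 D24285) (tt N5326 F18689))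
theorem Q7446 : ∀ i, i < 7446 → P i := stepQ 7445 Q7445 (allL N7445 (tt N5057 (iv1 F18694)) (tt N5053 F20644) (tt N7496 (iv2 F18800)) (tt N4018 (iv3 F26573)) (tt N3533 F18692) (tt N10635 (iv5 F25133)) (tt N3532 (iv6 D11435)) (tt N4024 F26466))
theorem Q7447 : ∀ i, i < 7447 → P i := stepQ 7446 Q7446 (allL N7446 (tt N15228 D24286) (tt N15229 D24287) (tt N15230 D24288) (tt N3534 (iv3 D11436)) (tt N14963 (iv4 F37539)) (tt N15231 D24289) (tt N5245 F18695) (tt N7495 (iv7 F18799)))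
theorem Q7448 : ∀ i, i < 7448 → P i := stepQ 7447 Q7447 (allL N7447 (tt N4054 F18698) (tt N5329 F18699) (tt N5326 F18696) (tt N15231 (iv3 F38072)) (tt N9883 (iv4 F24132)) (tt N3534 (iv5 D11437)) (tt N15232 D24290) (tt N5325 F18697))
theorem Q7449 : ∀ i, i < 7449 → P i := stepQ 7448 Q7448 (allL N7448 (tt N4473 F26718) (tt N8540 (iv0 F26730)) (tt N9521 F26827) (tt N3537 (iv3 D11438)) (tt N14970 (iv4 F37550)) (tt N15233 D24291) (tt N4365 F18700) (tt N5317 F18701))
theorem Q7450 : ∀ i, i < 7450 → P i := stepQ 7449 Q7449 (allL N7449 (tt N9351 (iv1 F23146)) (tt N9524 (iv0 F23532)) (tt N5316 F18702) (tt N15233 (iv3 F38076)) (tt N9907 (iv4 F24155)) (tt N3537 (iv5 D11439)) (tt N10448 (iv6 F24824)) (tt N5318 F18703))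
theorem Q7451 : ∀ i, i < 7451 → P i := stepQ 7450 Q7450 (allL N7450 (tt N8610 F50543) (tt N11481 F50544) (tt N11479 (iv2 F50506)) (tt N3538 (iv3 D11440)) (tt N14967 (iv4 F37545)) (tt N15234 D24295) (tt N15235 D24296) (tt N5315 F18704))
theorem Q7452 : ∀ i, i < 7452 → P i := stepQ 7451 Q7451 (allL N7451 (tt N9524 (iv1 F23533)) (tt N9351 (iv0 F23145)) (tt N5318 F18705) (tt N15234 (iv3 F38085)) (tt N9899 (iv4 F24149)) (tt N3538 (iv5 D11441)) (tt N15236 D24297) (tt N5316 F18706))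
theorem Q7453 : ∀ i, i < 7453 → P i := stepQ 7452 Q7452 (allL N7452 (tt N8220 (iv1 F20536)) (tt N8219 (iv0 F20531)) (tt N5319 F18707) (tt N15235 (iv3 F38087)) (tt N3539 F18708) (tt N10721 (iv5 F25348)) (tt N3538 (iv6 D11442)) (tt N4359 F18709))
theorem Q7454 : ∀ i, i < 7454 → P i := stepQ 7453 Q7453 (allL N7453 (tt N15237 D24298) (tt N3540 (iv0 D11443)) (tt N15238 D24299) (tt N15239 D24300) (tt N15240 D24301) (tt N15241 D24302) (tt N15242 D24303) (tt N15243 D24304))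
theorem Q7455 : ∀ i, i < 7455 → P i := stepQ 7454 Q7454 (allL N7454 (tt N3540 (iv1 D11444)) (tt N15237 F38092) (tt N15243 (iv2 F38094)) (tt N15244 D24305) (tt N15245 D24306) (tt N15246 D24307) (tt N15247 D24308) (tt N15238 F38093))
theorem Q7456 : ∀ i, i < 7456 → P i := stepQ 7455 Q7455 (allL N7455 (tt N15238 (iv1 F55538)) (tt N15243 (iv0 F55505)) (tt N3540 (iv2 D11445)) (tt N7500 (iv3 F18803)) (tt N15182 (iv4 F37987)) (tt N15248 D24311) (tt N5017 F18711) (tt N15237 (iv7 F38091)))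
theorem Q7457 : ∀ i, i < 7457 → P i := stepQ 7456 Q7456 (allL N7456 (tt N15249 D24312) (tt N15250 D24313) (tt N15248 (iv2 F38097)) (tt N3541 F18712) (tt N15251 D24314) (tt N3540 (iv5 D11446)) (tt N15252 D24315) (tt N15253 D24316))
theorem Q7458 : ∀ i, i < 7458 → P i := stepQ 7457 Q7457 (allL N7457 (tt N15243 (iv1 F55506)) (tt N15238 (iv0 F55537)) (tt N15237 F38090) (tt N3542 F18713) (tt N15184 (iv4 F37991)) (tt N15253 (iv5 F38102)) (tt N11458 (iv6 F27828)) (tt N3540 (iv7 D11447)))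
theorem Q7459 : ∀ i, i < 7459 → P i := stepQ 7458 Q7458 (allL N7458 (tt N9892 (iv1 F24143)) (tt N9883 (iv0 F24133)) (tt N7504 (iv2 F18817)) (tt N15254 D24317) (tt N3541 (iv4 D11448)) (tt N7493 (iv5 F18788)) (tt N15255 D24318) (tt N7492 F18785))
theorem Q7460 : ∀ i, i < 7460 → P i := stepQ 7459 Q7459 (allL N7459 (tt N15256 D24319) (tt N15257 D24320) (tt N7505 (iv2 F18820)) (tt N15252 (iv3 F38099)) (tt N15255 (iv4 F38103)) (tt N5020 F18714) (tt N3541 (iv6 D11449)) (tt N15258 D24321))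
theorem Q7461 : ∀ i, i < 7461 → P i := stepQ 7460 Q7460 (allL N7460 (tt N7503 (iv1 F18813)) (tt N4588 F26538) (tt N7506 (iv2 F18822)) (tt N15253 (iv3 F38101)) (tt N7492 (iv4 F18784)) (tt N3542 F18715) (tt N15259 D24322) (tt N3541 (iv7 D11450)))
theorem Q7462 : ∀ i, i < 7462 → P i := stepQ 7461 Q7461 (allL N7461 (tt N8877 F22162) (tt N8895 F22219) (tt N8867 (iv2 F22126)) (tt N3545 F18716) (tt N4596 F18717) (tt N15260 D24323) (tt N3543 (iv6 D11451)) (tt N7846 (iv7 F19718)))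
theorem Q7463 : ∀ i, i < 7463 → P i := stepQ 7462 Q7462 (allL N7462 (tt N14705 (iv1 F36934)) (tt N3816 F19323) (tt N7414 F18718) (tt N4597 F18719) (tt N3545 F18720) (tt N15261 D24324) (tt N3544 (iv6 D11452)) (tt N7847 (iv7 F19724)))
theorem Q7464 : ∀ i, i < 7464 → P i := stepQ 7463 Q7463 (allL N7463 (tt N8915 (iv1 F22242)) (tt N4302 (iv0 F19487)) (tt N7464 (iv2 F18724)) (tt N15260 (iv3 F38106)) (tt N15262 D24325) (tt N3545 (iv5 D11455)) (tt N7416 F18721) (tt N7848 (iv7 F19728)))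
theorem Q7465 : ∀ i, i < 7465 → P i := stepQ 7464 Q7464 (allL N7464 (tt N4275 F22339) (tt N8961 F22340) (tt N7463 F18724) (tt N9630 (iv3 F23738)) (tt N15263 D24326) (tt N3546 (iv5 D11459)) (tt N7417 F18725) (tt N7671 F19346))
theorem Q7466 : ∀ i, i < 7466 → P i := stepQ 7465 Q7465 (allL N7465 (tt N3551 (iv1 F18739)) (tt N3547 (iv0 D11461)) (tt N3548 F22895) (tt N4632 F19518) (tt N7422 (iv4 F18741)) (tt N15264 D24327) (tt N7679 (iv6 F26055)) (tt N3549 F22896))
theorem Q7467 : ∀ i, i < 7467 → P i := stepQ 7466 Q7466 (allL N7466 (tt N3547 (iv1 D11462)) (tt N3551 F18731) (tt N3549 F22899) (tt N8869 (iv3 F22133)) (tt N9585 (iv4 F23686)) (tt N15265 D24328) (tt N7855 (iv6 F23863)) (tt N3548 F22900))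
theorem Q7468 : ∀ i, i < 7468 → P i := stepQ 7467 Q7467 (allL N7467 (tt N15266 D24329) (tt N9013 (iv0 F22630)) (tt N3550 F18732) (tt N7420 F18733) (tt N15267 D24330) (tt N3547 (iv5 D11463)) (tt N7182 F18734) (tt N15268 D24331))
theorem Q7469 : ∀ i, i < 7469 → P i := stepQ 7468 Q7468 (allL N7468 (tt N3549 (iv1 F18740)) (tt N3548 F18743) (tt N3551 F18735) (tt N7421 F18736) (tt N5265 F18737) (tt N15268 (iv5 F38128)) (tt N7468 F18738) (tt N3547 (iv7 D11464)))
theorem Q7470 : ∀ i, i < 7470 → P i := stepQ 7469 Q7469 (allL N7469 (tt N8871 F22139) (tt N7177 (iv0 F20232)) (tt N8868 F22903) (tt N3548 (iv3 D11466)) (tt N8104 (iv4 F20230)) (tt N15269 D24332) (tt N15270 D24333) (tt N8869 F22901))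
theorem Q7471 : ∀ i, i < 7471 → P i := stepQ 7470 Q7470 (allL N7470 (tt N15271 D24334) (tt N3774 (iv0 F18745)) (tt N7422 (iv2 F22897)) (tt N9569 (iv3 F23640)) (tt N3548 (iv4 D11467)) (tt N15272 D24335) (tt N15273 D24336) (tt N9585 (iv7 F23687)))
theorem Q7472 : ∀ i, i < 7472 → P i := stepQ 7471 Q7471 (allL N7471 (tt N15274 D24337) (tt N15275 D24338) (tt N15264 (iv2 F38114)) (tt N15269 (iv3 F38131)) (tt N15276 D24339) (tt N3548 (iv5 D11468)) (tt N15277 D24340) (tt N15265 (iv7 F38119)))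
theorem Q7473 : ∀ i, i < 7473 → P i := stepQ 7472 Q7472 (allL N7472 (tt N7673 (iv1 F22607)) (tt N7680 (iv0 F22606)) (tt N7679 (iv2 F26052)) (tt N15270 (iv3 F38132)) (tt N15273 (iv4 F38148)) (tt N9002 F22605) (tt N3548 (iv6 D11469)) (tt N7678 (iv7 F22931)))
theorem Q7474 : ∀ i, i < 7474 → P i := stepQ 7473 Q7473 (allL N7473 (tt N4625 (iv1 F18750)) (tt N4635 (iv0 F18749)) (tt N4633 (iv2 F22945)) (tt N3549 (iv3 D11471)) (tt N7520 (iv4 F19530)) (tt N15278 D24341) (tt N15279 D24342) (tt N4632 F22898))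
theorem Q7475 : ∀ i, i < 7475 → P i := stepQ 7474 Q7474 (allL N7474 (tt N3774 F18747) (tt N15271 F38143) (tt N9585 (iv2 F23685)) (tt N7419 F18748) (tt N3549 (iv4 D11472)) (tt N15280 D24343) (tt N15281 D24344) (tt N7422 (iv7 F22892)))
theorem Q7476 : ∀ i, i < 7476 → P i := stepQ 7475 Q7475 (allL N7475 (tt N15275 (iv1 F38154)) (tt N15274 F38150) (tt N15265 (iv2 F38118)) (tt N15278 (iv3 F38159)) (tt N15282 D24345) (tt N3549 (iv5 D11473)) (tt N15283 D24346) (tt N15264 (iv7 F38116)))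
theorem Q7477 : ∀ i, i < 7477 → P i := stepQ 7476 Q7476 (allL N7476 (tt N7857 F38151) (tt N7850 F23856) (tt N7855 F23864) (tt N15279 (iv3 F38162)) (tt N15281 (iv4 F38166)) (tt N9431 (iv5 F23311)) (tt N3549 (iv6 D11474)) (tt N7856 (iv7 F23866)))
theorem Q7478 : ∀ i, i < 7478 → P i := stepQ 7477 Q7477 (allL N7477 (tt N15268 (iv1 F38130)) (tt N3550 (iv0 D11475)) (tt N15266 F38121) (tt N15284 D24347) (tt N15285 D24348) (tt N9014 F22633) (tt N15286 D24349) (tt N9013 (iv7 F22634)))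
theorem Q7479 : ∀ i, i < 7479 → P i := stepQ 7478 Q7478 (allL N7478 (tt N3550 (iv1 D11476)) (tt N15268 F38129) (tt N9013 (iv2 F22629)) (tt N15287 D24350) (tt N15288 D24351) (tt N8999 (iv5 F22600)) (tt N15289 D24352) (tt N15266 (iv7 F38122)))
theorem Q7480 : ∀ i, i < 7480 → P i := stepQ 7479 Q7479 (allL N7479 (tt N15290 D24353) (tt N15291 D24354) (tt N15267 (iv2 F38124)) (tt N15292 D24355) (tt N3550 (iv4 D11477)) (tt N15293 D24356) (tt N7193 F18751) (tt N15294 D24357))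
theorem Q7481 : ∀ i, i < 7481 → P i := stepQ 7480 Q7480 (allL N7480 (tt N9013 (iv1 F22631)) (tt N15266 F38123) (tt N15268 (iv2 F38126)) (tt N3559 F18752) (tt N15294 (iv4 F38173)) (tt N3551 F18753) (tt N15295 D24358) (tt N3550 (iv7 D11478)))
theorem Q7482 : ∀ i, i < 7482 → P i := stepQ 7481 Q7481 (allL N7481 (tt N14987 (iv1 F37576)) (tt N15160 (iv0 F37940)) (tt N7900 (iv2 F19862)) (tt N3553 F18754) (tt N15296 D24359) (tt N3552 (iv5 D11479)) (tt N15297 D24360) (tt N5305 F18755))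
theorem Q7483 : ∀ i, i < 7483 → P i := stepQ 7482 Q7482 (allL N7482 (tt N3553 (iv1 D11480)) (tt N3555 F18756) (tt N4871 (iv2 F18759)) (tt N15275 (iv3 F38157)) (tt N11089 (iv4 F26116)) (tt N3748 F18758) (tt N8231 F20550) (tt N4534 F18757))
theorem Q7484 : ∀ i, i < 7484 → P i := stepQ 7483 Q7483 (allL N7483 (tt N9330 (iv1 F23125)) (tt N9880 (iv0 F24127)) (tt N5301 F18760) (tt N15298 D24361) (tt N3553 (iv4 D11481)) (tt N9921 (iv5 F24165)) (tt N10847 (iv6 F311255)) (tt N5307 F18761))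
theorem Q7485 : ∀ i, i < 7485 → P i := stepQ 7484 Q7484 (allL N7484 (tt N10187 F24491) (tt N15299 D24363) (tt N5302 F18762) (tt N15297 (iv3 F38178)) (tt N10847 F313610) (tt N7197 F18763) (tt N3553 (iv6 D11482)) (tt N15300 D24364))
theorem Q7486 : ∀ i, i < 7486 → P i := stepQ 7485 Q7485 (allL N7485 (tt N15301 D24365) (tt N9203 F22971) (tt N8872 (iv2 F22140)) (tt N3555 F18771) (tt N15302 D24366) (tt N3554 (iv5 D11486)) (tt N15303 D24367) (tt N5299 F18772))
theorem Q7487 : ∀ i, i < 7487 → P i := stepQ 7486 Q7486 (allL N7486 (tt N8894 F22973) (tt N8879 (iv0 F22169)) (tt N8873 (iv2 F22143)) (tt N3556 F18773) (tt N7486 F18774) (tt N9420 (iv5 F23276)) (tt N3554 (iv6 D11487)) (tt N7865 (iv7 F19764)))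
theorem Q7488 : ∀ i, i < 7488 → P i := stepQ 7487 Q7487 (allL N7487 (tt N9880 (iv1 F24128)) (tt N9330 (iv0 F23124)) (tt N5307 F18775) (tt N15304 D24368) (tt N3555 (iv4 D11488)) (tt N9552 (iv5 F26543)) (tt N15305 D24369) (tt N5301 F18776))
theorem Q7489 : ∀ i, i < 7489 → P i := stepQ 7488 Q7488 (allL N7488 (tt N10181 F24487) (tt N8206 (iv0 F20490)) (tt N5308 F18777) (tt N15303 (iv3 F38201)) (tt N15305 (iv4 F38205)) (tt N9422 (iv5 F23285)) (tt N3555 (iv6 D11489)) (tt N10180 (iv7 F24485)))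
theorem Q7490 : ∀ i, i < 7490 → P i := stepQ 7489 Q7489 (allL N7489 (tt N7903 (iv1 F19870)) (tt N3776 (iv0 F18780)) (tt N7901 F19865) (tt N3557 (iv3 D11490)) (tt N15306 D24370) (tt N7390 F18778) (tt N15307 D24371) (tt N7389 F18779))
theorem Q7491 : ∀ i, i < 7491 → P i := stepQ 7490 Q7490 (allL N7490 (tt N15308 D24372) (tt N15309 D24373) (tt N7434 F18781) (tt N15307 (iv3 F38208)) (tt N9913 (iv4 F24159)) (tt N7661 (iv5 F19086)) (tt N3557 (iv6 D11491)) (tt N15310 D24374))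
theorem Q7492 : ∀ i, i < 7492 → P i := stepQ 7491 Q7491 (allL N7491 (tt N15311 D24375) (tt N15312 D24376) (tt N15313 D24377) (tt N3558 (iv3 D11492)) (tt N15292 (iv4 F38171)) (tt N15314 D24378) (tt N7198 F18782) (tt N15315 D24379))
theorem Q7493 : ∀ i, i < 7493 → P i := stepQ 7492 Q7492 (allL N7492 (tt N11091 (iv1 F26123)) (tt N11101 (iv0 F26152)) (tt N7437 F18783) (tt N15314 (iv3 F38219)) (tt N7460 F18784) (tt N3558 (iv5 D11493)) (tt N15316 D24380) (tt N7458 (iv7 F18785)))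
theorem Q7494 : ∀ i, i < 7494 → P i := stepQ 7493 Q7493 (allL N7493 (tt N4751 (iv1 F18789)) (tt N4748 F18790) (tt N7438 F18786) (tt N15315 (iv3 F38221)) (tt N3559 F18787) (tt N7458 F18788) (tt N15317 D24381) (tt N3558 (iv7 D11494)))
theorem Q7495 : ∀ i, i < 7495 → P i := stepQ 7494 Q7494 (allL N7494 (tt N9053 (iv1 F22668)) (tt N9052 F22667) (tt N7439 F18791) (tt N15295 (iv3 F38174)) (tt N15317 (iv4 F38227)) (tt N7494 F18792) (tt N3559 (iv6 D11495)) (tt N7200 F18793))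
theorem Q7496 : ∀ i, i < 7496 → P i := stepQ 7495 Q7495 (allL N7495 (tt N15318 D24382) (tt N10775 (iv0 F50586)) (tt N8407 (iv2 F26669)) (tt N3562 (iv3 D11497)) (tt N14747 (iv4 F37051)) (tt N11179 (iv5 F27117)) (tt N8404 F26668) (tt N7446 F18799))
theorem Q7497 : ∀ i, i < 7497 → P i := stepQ 7496 Q7496 (allL N7496 (tt N8314 (iv1 F20819)) (tt N8310 (iv0 F20807)) (tt N7445 F18800) (tt N8404 (iv3 F26667)) (tt N3563 F18801) (tt N15319 D24384) (tt N3562 (iv6 D11498)) (tt N8423 (iv7 F26460)))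
theorem Q7498 : ∀ i, i < 7498 → P i := stepQ 7497 Q7497 (allL N7497 (tt N4578 F26675) (tt N8419 F26676) (tt N8421 (iv2 F26672)) (tt N3564 (iv3 D11499)) (tt N15179 (iv4 F37984)) (tt N11181 (iv5 F27118)) (tt N8432 (iv6 F26613)) (tt N7443 F18802))
theorem Q7499 : ∀ i, i < 7499 → P i := stepQ 7498 Q7498 (allL N7498 (tt N15320 D24385) (tt N3567 (iv0 D11500)) (tt N15321 D24386) (tt N15322 D24387) (tt N15323 D24388) (tt N13771 (iv5 F311339)) (tt N10208 F50948) (tt N15324 D24391))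
theorem Q7500 : ∀ i, i < 7500 → P i := stepQ 7499 Q7499 (allL N7499 (tt N3567 (iv1 D11501)) (tt N15320 F38240) (tt N15324 (iv2 F38242)) (tt N15325 D24392) (tt N15326 D24393) (tt N15327 D24394) (tt N15328 D24395) (tt N15321 F38241))
theorem Q7501 : ∀ i, i < 7501 → P i := stepQ 7500 Q7500 (allL N7500 (tt N15321 (iv1 F55509)) (tt N15324 (iv0 F55496)) (tt N3567 (iv2 D11502)) (tt N7455 F18803) (tt N5322 F18804) (tt N15329 D24398) (tt N5258 F18805) (tt N15320 (iv7 F38239)))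
theorem Q7502 : ∀ i, i < 7502 → P i := stepQ 7501 Q7501 (allL N7501 (tt N15330 D24399) (tt N15331 D24400) (tt N15329 (iv2 F38247)) (tt N3568 F18806) (tt N15332 D24401) (tt N3567 (iv5 D11503)) (tt N15333 D24402) (tt N15334 D24403))
theorem Q7503 : ∀ i, i < 7503 → P i := stepQ 7502 Q7502 (allL N7502 (tt N15324 (iv1 F55497)) (tt N15321 (iv0 F55508)) (tt N15320 F38236) (tt N3569 F18807) (tt N5324 F18808) (tt N15334 (iv5 F38252)) (tt N10286 (iv6 F26632)) (tt N3567 (iv7 D11504)))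
theorem Q7504 : ∀ i, i < 7504 → P i := stepQ 7503 Q7503 (allL N7503 (tt N3568 (iv1 D11506)) (tt N7460 F18813) (tt N5309 (iv2 F18816)) (tt N15335 D24404) (tt N9921 (iv4 F24166)) (tt N4052 F18815) (tt N15336 D24405) (tt N5304 F18814))
theorem Q7505 : ∀ i, i < 7505 → P i := stepQ 7504 Q7504 (allL N7504 (tt N11101 (iv1 F26153)) (tt N11091 (iv0 F26122)) (tt N7458 F18817) (tt N15337 D24406) (tt N3568 (iv4 D11507)) (tt N7438 F18818) (tt N15338 D24407) (tt N7437 (iv7 F18819)))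
theorem Q7506 : ∀ i, i < 7506 → P i := stepQ 7505 Q7505 (allL N7505 (tt N15339 D24408) (tt N15340 D24409) (tt N7459 F18820) (tt N15333 (iv3 F38249)) (tt N15338 (iv4 F38265)) (tt N5086 F18821) (tt N3568 (iv6 D11508)) (tt N15341 D24410))
theorem Q7507 : ∀ i, i < 7507 → P i := stepQ 7506 Q7506 (allL N7506 (tt N5309 (iv1 F18825)) (tt N5304 F18826) (tt N7460 F18822) (tt N15334 (iv3 F38251)) (tt N7437 F18823) (tt N3569 F18824) (tt N15342 D24411) (tt N3568 (iv7 D11509)))
theorem Q7508 : ∀ i, i < 7508 → P i := stepQ 7507 Q7507 (allL N7507 (tt N7529 (iv1 F19377)) (tt N7188 F19376) (tt N4414 F18827) (tt N7415 F18828) (tt N4630 F18829) (tt N15343 D24412) (tt N3571 (iv6 D11510)) (tt N7540 (iv7 F19416)))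
theorem Q7509 : ∀ i, i < 7509 → P i := stepQ 7508 Q7508 (allL N7508 (tt N7522 (iv1 F18849)) (tt N3572 (iv0 D11511)) (tt N4422 F22877) (tt N7423 (iv3 F19451)) (tt N4632 (iv4 F19517)) (tt N15344 D24413) (tt N15345 D24414) (tt N7520 (iv7 F22878)))
theorem Q7510 : ∀ i, i < 7510 → P i := stepQ 7509 Q7509 (allL N7509 (tt N3572 (iv1 D11512)) (tt N7522 F18848) (tt N7520 (iv2 F22880)) (tt N4419 (iv3 F22400)) (tt N4633 F22399) (tt N15346 D24415) (tt N10160 (iv6 F24449)) (tt N4422 F22879))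
theorem Q7511 : ∀ i, i < 7511 → P i := stepQ 7510 Q7510 (allL N7510 (tt N15347 D24416) (tt N15348 D24417) (tt N7521 (iv2 F18843)) (tt N7179 F18830) (tt N15349 D24418) (tt N3572 (iv5 D11513)) (tt N7698 (iv6 F19138)) (tt N15350 D24419))
theorem Q7512 : ∀ i, i < 7512 → P i := stepQ 7511 Q7511 (allL N7511 (tt N7520 (iv1 F18842)) (tt N4422 (iv0 F22506)) (tt N7522 (iv2 F18844)) (tt N4439 (iv3 F19484)) (tt N3575 F18832) (tt N15350 (iv5 F38298)) (tt N7511 F18833) (tt N3572 (iv7 D11514)))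
theorem Q7513 : ∀ i, i < 7513 → P i := stepQ 7512 Q7512 (allL N7512 (tt N9590 F23691) (tt N9888 F24139) (tt N5278 F19550) (tt N7738 (iv3 F19549)) (tt N15351 D24420) (tt N3573 (iv5 D11518)) (tt N15352 D24421) (tt N7523 (iv7 F19500)))
theorem Q7514 : ∀ i, i < 7514 → P i := stepQ 7513 Q7513 (allL N7513 (tt N3592 F24202) (tt N10035 F24339) (tt N5279 (iv2 F19557)) (tt N7739 F19556) (tt N4796 (iv4 F24205)) (tt N8179 (iv5 F20430)) (tt N3573 (iv6 D11519)) (tt N10029 (iv7 F24329)))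
theorem Q7515 : ∀ i, i < 7515 → P i := stepQ 7514 Q7514 (allL N7514 (tt N7527 (iv1 F18858)) (tt N3574 (iv0 D11525)) (tt N5287 (iv2 F19558)) (tt N7740 (iv3 F19559)) (tt N15353 D24422) (tt N9930 (iv5 F24187)) (tt N15354 D24423) (tt N7525 F19444))
theorem Q7516 : ∀ i, i < 7516 → P i := stepQ 7515 Q7515 (allL N7515 (tt N15355 D24424) (tt N15356 D24425) (tt N7526 (iv2 F18853)) (tt N15357 D24426) (tt N3574 (iv4 D11527)) (tt N15358 D24427) (tt N7343 F18836) (tt N15359 D24428))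
theorem Q7517 : ∀ i, i < 7517 → P i := stepQ 7516 Q7516 (allL N7516 (tt N7525 (iv1 F18852)) (tt N5287 (iv0 F19431)) (tt N7527 (iv2 F18854)) (tt N7353 F18837) (tt N15359 (iv4 F38305)) (tt N3575 F18838) (tt N15360 D24429) (tt N3574 (iv7 D11528)))
theorem Q7518 : ∀ i, i < 7518 → P i := stepQ 7517 Q7517 (allL N7517 (tt N3576 (iv1 D11530)) (tt N7937 F19959) (tt N4558 (iv2 F19541)) (tt N4672 (iv3 F19542)) (tt N3871 (iv4 F19543)) (tt N15361 D24430) (tt N15362 D24431) (tt N4691 F19532))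
theorem Q7519 : ∀ i, i < 7519 → P i := stepQ 7518 Q7518 (allL N7518 (tt N15363 D24432) (tt N15364 D24433) (tt N7936 (iv2 F19953)) (tt N3579 F18839) (tt N15365 D24434) (tt N3576 (iv5 D11531)) (tt N9621 (iv6 F23711)) (tt N15366 D24435))
theorem Q7520 : ∀ i, i < 7520 → P i := stepQ 7519 Q7519 (allL N7519 (tt N4558 (iv1 F19515)) (tt N4691 F19544) (tt N7937 (iv2 F19956)) (tt N3580 F18840) (tt N8982 (iv4 F22388)) (tt N15366 (iv5 F38323)) (tt N7519 F18841) (tt N3576 (iv7 D11532)))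
theorem Q7521 : ∀ i, i < 7521 → P i := stepQ 7520 Q7520 (allL N7520 (tt N3577 (iv1 D11534)) (tt N7511 F18842) (tt N7509 F22880) (tt N8980 F22385) (tt N7473 F19530) (tt N15367 D24436) (tt N15368 D24437) (tt N7508 F22878))
theorem Q7522 : ∀ i, i < 7522 → P i := stepQ 7521 Q7521 (allL N7521 (tt N9204 (iv1 F38987)) (tt N15369 D24439) (tt N7510 F18843) (tt N8984 (iv3 F22394)) (tt N15370 D24440) (tt N3577 (iv5 D11535)) (tt N7702 (iv6 F19146)) (tt N15371 D24441))
theorem Q7523 : ∀ i, i < 7523 → P i := stepQ 7522 Q7522 (allL N7522 (tt N7509 (iv1 F18848)) (tt N7508 F18849) (tt N7511 F18844) (tt N8985 (iv3 F22395)) (tt N3580 F18845) (tt N15371 (iv5 F38334)) (tt N7522 F18846) (tt N3577 (iv7 D11536)))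
theorem Q7524 : ∀ i, i < 7524 → P i := stepQ 7523 Q7523 (allL N7523 (tt N9948 (iv1 F24213)) (tt N9945 (iv0 F24198)) (tt N4743 (iv2 F19548)) (tt N7746 F19547) (tt N15372 D24442) (tt N3578 (iv5 D11545)) (tt N15373 D24443) (tt N7512 F19500))
theorem Q7525 : ∀ i, i < 7525 → P i := stepQ 7524 Q7524 (allL N7524 (tt N15374 D24444) (tt N3588 F19495) (tt N4744 F19496) (tt N7747 F19497) (tt N4640 F19498) (tt N9580 (iv5 F23679)) (tt N3578 (iv6 D11546)) (tt N15375 D24445))
theorem Q7526 : ∀ i, i < 7526 → P i := stepQ 7525 Q7525 (allL N7525 (tt N3579 (iv1 D11548)) (tt N7516 F18852) (tt N4750 F19429) (tt N7748 F19430) (tt N15376 D24446) (tt N4762 (iv5 F19424)) (tt N15377 D24447) (tt N7514 (iv7 F19444)))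
theorem Q7527 : ∀ i, i < 7527 → P i := stepQ 7526 Q7526 (allL N7526 (tt N15378 D24448) (tt N15379 D24449) (tt N7515 F18853) (tt N15380 D24450) (tt N3579 (iv4 D11549)) (tt N15381 D24451) (tt N9622 (iv6 F23713)) (tt N15382 D24452))
theorem Q7528 : ∀ i, i < 7528 → P i := stepQ 7527 Q7527 (allL N7527 (tt N4750 (iv1 F19437)) (tt N7514 F18858) (tt N7516 F18854) (tt N15366 (iv3 F38322)) (tt N15382 (iv4 F38362)) (tt N3580 F18855) (tt N15383 D24453) (tt N3579 (iv7 D11550)))
theorem Q7529 : ∀ i, i < 7529 → P i := stepQ 7528 Q7528 (allL N7528 (tt N3795 F18864) (tt N3791 (iv0 F18863)) (tt N3793 F18927) (tt N3581 (iv3 D11552)) (tt N4331 F18861) (tt N15384 D24454) (tt N15385 D24455) (tt N3589 F18928))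
theorem Q7530 : ∀ i, i < 7530 → P i := stepQ 7529 Q7529 (allL N7529 (tt N4845 F18862) (tt N7507 F19377) (tt N3586 F18929) (tt N4332 (iv3 F18860)) (tt N3581 (iv4 D11553)) (tt N15386 D24456) (tt N15387 D24457) (tt N3590 F18930))
theorem Q7531 : ∀ i, i < 7531 → P i := stepQ 7530 Q7530 (allL N7530 (tt N7798 F19600) (tt N15388 D24458) (tt N3587 F18931) (tt N15384 (iv3 F38377)) (tt N15389 D24459) (tt N3581 (iv5 D11554)) (tt N15390 D24460) (tt N3591 F18932))
theorem Q7532 : ∀ i, i < 7532 → P i := stepQ 7531 Q7531 (allL N7531 (tt N4744 F38346) (tt N15375 F38351) (tt N3588 F18933) (tt N15385 (iv3 F38381)) (tt N15387 (iv4 F38394)) (tt N4612 F18865) (tt N3581 (iv6 D11555)) (tt N15374 (iv7 F38345)))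
theorem Q7533 : ∀ i, i < 7533 → P i := stepQ 7532 Q7532 (allL N7532 (tt N15388 (iv1 F38395)) (tt N7798 F19601) (tt N3591 F18921) (tt N8898 (iv3 F22229)) (tt N15391 D24461) (tt N3582 (iv5 D11557)) (tt N15392 D24462) (tt N3587 F18922))
theorem Q7534 : ∀ i, i < 7534 → P i := stepQ 7533 Q7533 (allL N7533 (tt N10029 F24331) (tt N5279 F19440) (tt N3592 F18923) (tt N8899 (iv3 F22231)) (tt N14777 (iv4 F37118)) (tt N4763 (iv5 F19438)) (tt N3582 (iv6 D11558)) (tt N10035 (iv7 F24340)))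
theorem Q7535 : ∀ i, i < 7535 → P i := stepQ 7534 Q7534 (allL N7534 (tt N3596 (iv1 F18872)) (tt N3583 (iv0 D11559)) (tt N3593 F22926) (tt N15393 D24463) (tt N15394 D24464) (tt N9949 F24217) (tt N15395 D24465) (tt N3594 F22927))
theorem Q7536 : ∀ i, i < 7536 → P i := stepQ 7535 Q7535 (allL N7535 (tt N3583 (iv1 D11560)) (tt N3596 F18867) (tt N3594 F22923) (tt N14685 (iv3 F36858)) (tt N15396 D24466) (tt N4606 (iv5 F18868)) (tt N15397 D24467) (tt N3593 F22924))
theorem Q7537 : ∀ i, i < 7537 → P i := stepQ 7536 Q7536 (allL N7536 (tt N15398 D24468) (tt N15399 D24469) (tt N3595 F18869) (tt N15400 D24470) (tt N3583 (iv4 D11561)) (tt N15401 D24471) (tt N7758 (iv6 F19272)) (tt N15402 D24472))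
theorem Q7538 : ∀ i, i < 7538 → P i := stepQ 7537 Q7537 (allL N7537 (tt N3594 (iv1 F18873)) (tt N3593 F18874) (tt N3596 F18870) (tt N7759 (iv3 F19274)) (tt N15402 (iv4 F38427)) (tt N3584 F18871) (tt N15403 D24473) (tt N3583 (iv7 D11562)))
theorem Q7539 : ∀ i, i < 7539 → P i := stepQ 7538 Q7538 (allL N7538 (tt N9813 F24051) (tt N15404 D24474) (tt N8888 (iv2 F22202)) (tt N3587 F18883) (tt N15405 D24475) (tt N3585 (iv5 D11572)) (tt N15406 D24476) (tt N8898 (iv7 F22230)))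
theorem Q7540 : ∀ i, i < 7540 → P i := stepQ 7539 Q7539 (allL N7539 (tt N11070 (iv1 F39325)) (tt N15073 (iv0 F39324)) (tt N8889 (iv2 F22204)) (tt N3588 F18884) (tt N8879 (iv4 F22167)) (tt N9703 F23840) (tt N3585 (iv6 D11573)) (tt N15071 F37798))
theorem Q7541 : ∀ i, i < 7541 → P i := stepQ 7540 Q7540 (allL N7540 (tt N3590 (iv1 F18891)) (tt N3586 (iv0 D11575)) (tt N4845 (iv2 F19395)) (tt N7645 (iv3 F19059)) (tt N7670 (iv4 F19101)) (tt N15407 D24479) (tt N7540 F19342) (tt N7507 F19416))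
theorem Q7542 : ∀ i, i < 7542 → P i := stepQ 7541 Q7541 (allL N7541 (tt N15408 D24480) (tt N15409 D24481) (tt N15386 (iv2 F38387)) (tt N14762 (iv3 F37066)) (tt N15410 D24482) (tt N3586 (iv5 D11577)) (tt N15411 D24483) (tt N14776 (iv7 F37115)))
theorem Q7543 : ∀ i, i < 7543 → P i := stepQ 7542 Q7542 (allL N7542 (tt N15368 F38328) (tt N15412 D24484) (tt N15387 (iv2 F38392)) (tt N9241 F24311) (tt N3588 F18888) (tt N15210 (iv5 F38031)) (tt N3586 (iv6 D11578)) (tt N15413 D24485))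
theorem Q7544 : ∀ i, i < 7544 → P i := stepQ 7543 Q7543 (allL N7543 (tt N3591 (iv1 F18895)) (tt N3587 (iv0 D11580)) (tt N7798 (iv2 F19595)) (tt N7760 (iv3 F19314)) (tt N15414 D24486) (tt N7771 F19313) (tt N15415 D24487) (tt N15388 (iv7 F38396)))
theorem Q7545 : ∀ i, i < 7545 → P i := stepQ 7544 Q7544 (allL N7544 (tt N3587 (iv1 D11581)) (tt N3591 F18892) (tt N15388 F38397) (tt N3602 F19598) (tt N15416 D24488) (tt N7867 (iv5 F19770)) (tt N15417 D24489) (tt N7798 F19599))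
theorem Q7546 : ∀ i, i < 7546 → P i := stepQ 7545 Q7545 (allL N7545 (tt N15418 D24490) (tt N15419 D24491) (tt N15389 (iv2 F38398)) (tt N15420 D24492) (tt N3587 (iv4 D11582)) (tt N15421 D24493) (tt N15422 D24494) (tt N15391 (iv7 F38403)))
theorem Q7547 : ∀ i, i < 7547 → P i := stepQ 7546 Q7546 (allL N7546 (tt N15423 D24495) (tt N15424 D24496) (tt N15390 (iv2 F38400)) (tt N15406 (iv3 F38433)) (tt N15422 (iv4 F38451)) (tt N15425 D24497) (tt N3587 (iv6 D11583)) (tt N15426 D24498))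
theorem Q7548 : ∀ i, i < 7548 → P i := stepQ 7547 Q7547 (allL N7547 (tt N3588 (iv1 D11586)) (tt N15374 F38347) (tt N15375 (iv2 F38348)) (tt N3605 F19330) (tt N10007 (iv4 F24307)) (tt N9302 (iv5 F23082)) (tt N4809 F19331) (tt N4744 F19332))
theorem Q7549 : ∀ i, i < 7549 → P i := stepQ 7548 Q7548 (allL N7548 (tt N4601 F18896) (tt N4614 F18897) (tt N4612 F18936) (tt N9703 (iv3 F23841)) (tt N15427 D24499) (tt N3588 (iv5 D11587)) (tt N15425 (iv6 F38453)) (tt N4611 (iv7 F23659)))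
theorem Q7550 : ∀ i, i < 7550 → P i := stepQ 7549 Q7549 (allL N7549 (tt N15375 (iv1 F38352)) (tt N4744 (iv0 F23693)) (tt N15374 F38344) (tt N15071 F37797) (tt N15413 (iv4 F38442)) (tt N4611 F23660) (tt N10035 (iv6 F24336)) (tt N3588 (iv7 D11588)))
theorem Q7551 : ∀ i, i < 7551 → P i := stepQ 7550 Q7550 (allL N7550 (tt N3589 (iv1 D11591)) (tt N3793 F18911) (tt N3795 (iv2 F18912)) (tt N3597 F18913) (tt N3876 (iv4 F18905)) (tt N15428 D24500) (tt N7550 F18914) (tt N3791 F18907))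
theorem Q7552 : ∀ i, i < 7552 → P i := stepQ 7551 Q7551 (allL N7551 (tt N3791 (iv1 F18952)) (tt N3795 F18951) (tt N3589 (iv2 D11592)) (tt N3796 F22463) (tt N7712 F19174) (tt N15429 D24501) (tt N15430 D24502) (tt N3793 (iv7 F18910)))
theorem Q7553 : ∀ i, i < 7553 → P i := stepQ 7552 Q7552 (allL N7552 (tt N4416 (iv1 F19352)) (tt N7645 (iv0 F19058)) (tt N7712 (iv2 F19173)) (tt N4328 F18903) (tt N3589 (iv4 D11593)) (tt N15431 D24503) (tt N15432 D24504) (tt N4331 (iv7 F18940)))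
theorem Q7554 : ∀ i, i < 7554 → P i := stepQ 7553 Q7553 (allL N7553 (tt N15433 D24505) (tt N15434 D24506) (tt N15429 (iv2 F38461)) (tt N3591 F18899) (tt N15435 D24507) (tt N3589 (iv5 D11594)) (tt N15436 D24508) (tt N15384 (iv7 F38378)))
theorem Q7555 : ∀ i, i < 7555 → P i := stepQ 7554 Q7554 (allL N7554 (tt N8939 F38287) (tt N9754 F37869) (tt N15430 (iv2 F38465)) (tt N3592 F18900) (tt N15432 (iv4 F38471)) (tt N15105 (iv5 F37867)) (tt N3589 (iv6 D11595)) (tt N15437 D24509))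
theorem Q7556 : ∀ i, i < 7556 → P i := stepQ 7555 Q7555 (allL N7555 (tt N7688 F19116) (tt N4901 (iv0 F18902)) (tt N4336 (iv2 F18948)) (tt N3590 (iv3 D11596)) (tt N4328 (iv4 F18901)) (tt N15438 D24510) (tt N15439 D24511) (tt N4332 F18937))
theorem Q7557 : ∀ i, i < 7557 → P i := stepQ 7556 Q7556 (allL N7556 (tt N15409 (iv1 F38437)) (tt N15408 F38436) (tt N14776 (iv2 F37113)) (tt N15438 (iv3 F38486)) (tt N15440 D24512) (tt N3590 (iv5 D11597)) (tt N15441 D24513) (tt N15386 (iv7 F38389)))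
theorem Q7558 : ∀ i, i < 7558 → P i := stepQ 7557 Q7557 (allL N7557 (tt N15442 D24514) (tt N15345 (iv0 F38286)) (tt N14777 (iv2 F37116)) (tt N15439 (iv3 F38490)) (tt N3592 F18953) (tt N15443 D24515) (tt N3590 (iv6 D11598)) (tt N15444 D24516))
theorem Q7559 : ∀ i, i < 7559 → P i := stepQ 7558 Q7558 (allL N7558 (tt N15419 (iv1 F38450)) (tt N15418 F38449) (tt N15391 (iv2 F38402)) (tt N15445 D24517) (tt N3591 (iv4 D11599)) (tt N15446 D24518) (tt N15447 D24519) (tt N15389 (iv7 F38399)))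
theorem Q7560 : ∀ i, i < 7560 → P i := stepQ 7559 Q7559 (allL N7559 (tt N15448 D24520) (tt N15449 D24521) (tt N15392 (iv2 F38404)) (tt N15436 (iv3 F38481)) (tt N15447 (iv4 F38496)) (tt N15450 D24522) (tt N3591 (iv6 D11600)) (tt N15451 D24523))
theorem Q7561 : ∀ i, i < 7561 → P i := stepQ 7560 Q7560 (allL N7560 (tt N3894 (iv1 F19426)) (tt N4761 (iv0 F19425)) (tt N4763 F19439) (tt N15105 F37868) (tt N15452 D24524) (tt N3592 (iv5 D11603)) (tt N15450 (iv6 F38498)) (tt N4764 (iv7 F19442)))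
theorem Q7562 : ∀ i, i < 7562 → P i := stepQ 7561 Q7561 (allL N7561 (tt N5279 (iv1 F19441)) (tt N10029 F24332) (tt N10035 F24338) (tt N15437 (iv3 F38482)) (tt N15444 (iv4 F38495)) (tt N4764 F19443) (tt N15374 (iv6 F38343)) (tt N3592 (iv7 D11604)))
theorem Q7563 : ∀ i, i < 7563 → P i := stepQ 7562 Q7562 (allL N7562 (tt N14687 (iv1 F36876)) (tt N3797 F36863) (tt N14684 F36861) (tt N3593 (iv3 D11606)) (tt N15453 D24525) (tt N15454 D24526) (tt N15455 D24527) (tt N14685 F36859))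
theorem Q7564 : ∀ i, i < 7564 → P i := stepQ 7563 Q7563 (allL N7563 (tt N15456 D24528) (tt N15457 D24529) (tt N15394 (iv2 F38410)) (tt N15458 D24530) (tt N3593 (iv4 D11607)) (tt N15459 D24531) (tt N15460 D24532) (tt N15396 (iv7 F38415)))
theorem Q7565 : ∀ i, i < 7565 → P i := stepQ 7564 Q7564 (allL N7564 (tt N15461 D24533) (tt N3895 (iv0 F19428)) (tt N9949 (iv2 F24214)) (tt N15454 (iv3 F38506)) (tt N15462 D24534) (tt N3593 (iv5 D11608)) (tt N9929 F24181) (tt N4606 F22925))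
theorem Q7566 : ∀ i, i < 7566 → P i := stepQ 7565 Q7565 (allL N7565 (tt N15463 D24535) (tt N15464 D24536) (tt N15395 (iv2 F38412)) (tt N15455 (iv3 F38512)) (tt N15460 (iv4 F38516)) (tt N15465 D24537) (tt N3593 (iv6 D11609)) (tt N15466 D24538))
theorem Q7567 : ∀ i, i < 7567 → P i := stepQ 7566 Q7566 (allL N7566 (tt N3794 F38138) (tt N15428 F38460) (tt N15467 D24539) (tt N3594 (iv3 D11611)) (tt N15468 D24540) (tt N15109 F38139) (tt N15469 D24541) (tt N15393 (iv7 F38406)))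
theorem Q7568 : ∀ i, i < 7568 → P i := stepQ 7567 Q7567 (allL N7567 (tt N15457 (iv1 F38514)) (tt N15456 F38513) (tt N15396 (iv2 F38414)) (tt N15470 D24542) (tt N3594 (iv4 D11612)) (tt N15471 D24543) (tt N15472 D24544) (tt N15394 (iv7 F38411)))
theorem Q7569 : ∀ i, i < 7569 → P i := stepQ 7568 Q7568 (allL N7568 (tt N3895 F24219) (tt N15461 F38521) (tt N4606 (iv2 F22922)) (tt N15109 F38136) (tt N15473 D24545) (tt N3594 (iv5 D11613)) (tt N4599 F18956) (tt N9949 (iv7 F24215)))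
theorem Q7570 : ∀ i, i < 7570 → P i := stepQ 7569 Q7569 (allL N7569 (tt N15474 D24546) (tt N15475 D24547) (tt N15397 (iv2 F38416)) (tt N15469 (iv3 F38537)) (tt N15472 (iv4 F38538)) (tt N15476 D24548) (tt N3594 (iv6 D11614)) (tt N15477 D24549))
theorem Q7571 : ∀ i, i < 7571 → P i := stepQ 7570 Q7570 (allL N7570 (tt N15402 (iv1 F38429)) (tt N3595 (iv0 D11615)) (tt N15398 (iv2 F38421)) (tt N15478 D24550) (tt N15479 D24551) (tt N15480 D24552) (tt N15481 D24553) (tt N15399 (iv7 F38423)))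
theorem Q7572 : ∀ i, i < 7572 → P i := stepQ 7571 Q7571 (allL N7571 (tt N3595 (iv1 D11616)) (tt N15402 F38428) (tt N15399 F38424) (tt N15482 D24554) (tt N14896 (iv4 F37368)) (tt N15483 D24555) (tt N15484 D24556) (tt N15398 F38419))
theorem Q7573 : ∀ i, i < 7573 → P i := stepQ 7572 Q7572 (allL N7572 (tt N15485 D24557) (tt N15486 D24558) (tt N15487 D24559) (tt N3595 (iv3 D11617)) (tt N3623 F18957) (tt N15488 D24560) (tt N7783 (iv6 F19569)) (tt N15489 D24561))
theorem Q7574 : ∀ i, i < 7574 → P i := stepQ 7573 Q7573 (allL N7573 (tt N15490 D24562) (tt N15491 D24563) (tt N15401 (iv2 F38425)) (tt N15488 (iv3 F38548)) (tt N15492 D24564) (tt N3595 (iv5 D11618)) (tt N15493 D24565) (tt N15494 D24566))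
theorem Q7575 : ∀ i, i < 7575 → P i := stepQ 7574 Q7574 (allL N7574 (tt N15399 (iv1 F38422)) (tt N15398 F38420) (tt N15402 (iv2 F38426)) (tt N15489 (iv3 F38549)) (tt N3596 F18958) (tt N15494 (iv5 F38553)) (tt N15495 D24567) (tt N3595 (iv7 D11619)))
theorem Q7576 : ∀ i, i < 7576 → P i := stepQ 7575 Q7575 (allL N7575 (tt N15496 D24568) (tt N15497 D24569) (tt N15403 (iv2 F38430)) (tt N3626 F18959) (tt N15495 (iv4 F38554)) (tt N7575 F18960) (tt N3596 (iv6 D11620)) (tt N7786 (iv7 F19573)))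
theorem Q7577 : ∀ i, i < 7577 → P i := stepQ 7576 Q7576 (allL N7576 (tt N7830 F20249) (tt N3615 F20250) (tt N7808 (iv2 F19627)) (tt N15428 (iv3 F38457)) (tt N15498 D24570) (tt N3597 (iv5 D11621)) (tt N15499 D24571) (tt N4685 F18961))
theorem Q7578 : ∀ i, i < 7578 → P i := stepQ 7577 Q7577 (allL N7577 (tt N7812 (iv1 F19640)) (tt N7811 F19639) (tt N3600 F18962) (tt N7789 (iv3 F19582)) (tt N15500 D24572) (tt N3598 (iv5 D11622)) (tt N15501 D24573) (tt N7809 (iv7 F19634)))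
theorem Q7579 : ∀ i, i < 7579 → P i := stepQ 7578 Q7578 (allL N7578 (tt N4695 F20320) (tt N15502 D24574) (tt N3601 F18963) (tt N7790 (iv3 F19587)) (tt N8124 (iv4 F20303)) (tt N8115 F20258) (tt N3598 (iv6 D11623)) (tt N15503 D24575))
theorem Q7580 : ∀ i, i < 7580 → P i := stepQ 7579 Q7579 (allL N7579 (tt N7364 (iv1 F18965)) (tt N3599 (iv0 D11624)) (tt N7363 F19410) (tt N4846 F18964) (tt N9983 (iv4 F24267)) (tt N15504 D24576) (tt N7579 F19369) (tt N4687 F19374))
theorem Q7581 : ∀ i, i < 7581 → P i := stepQ 7580 Q7580 (allL N7580 (tt N15505 D24577) (tt N9933 F38579) (tt N8123 (iv2 F20299)) (tt N4283 F18967) (tt N15506 D24578) (tt N3599 (iv5 D11626)) (tt N15507 D24579) (tt N7365 F18968))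
theorem Q7582 : ∀ i, i < 7582 → P i := stepQ 7581 Q7581 (allL N7581 (tt N15508 D24580) (tt N9946 F38587) (tt N8124 (iv2 F20301)) (tt N4284 F18969) (tt N3601 F18970) (tt N15509 D24581) (tt N3599 (iv6 D11627)) (tt N15510 D24582))
theorem Q7583 : ∀ i, i < 7583 → P i := stepQ 7582 Q7582 (allL N7582 (tt N7809 (iv1 F19636)) (tt N3600 (iv0 D11628)) (tt N7812 F20285) (tt N15434 (iv3 F38480)) (tt N15511 D24583) (tt N8119 (iv5 F20284)) (tt N15512 D24584) (tt N7811 (iv7 F20286)))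
theorem Q7584 : ∀ i, i < 7584 → P i := stepQ 7583 Q7583 (allL N7583 (tt N3600 (iv1 D11629)) (tt N7809 F19635) (tt N7811 (iv2 F20288)) (tt N14690 F36891) (tt N15513 D24585) (tt N8134 (iv5 F20327)) (tt N15514 D24586) (tt N7812 F20287))
theorem Q7585 : ∀ i, i < 7585 → P i := stepQ 7584 Q7584 (allL N7584 (tt N15515 D24587) (tt N15516 D24588) (tt N15500 (iv2 F38557)) (tt N15517 D24589) (tt N3600 (iv4 D11630)) (tt N15518 D24590) (tt N15519 D24591) (tt N7813 (iv7 F19642)))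
theorem Q7586 : ∀ i, i < 7586 → P i := stepQ 7585 Q7585 (allL N7585 (tt N15520 D24592) (tt N15521 D24593) (tt N15501 (iv2 F38558)) (tt N3604 F18971) (tt N15519 (iv4 F38602)) (tt N9666 (iv5 F23779)) (tt N3600 (iv6 D11631)) (tt N15522 D24594))
theorem Q7587 : ∀ i, i < 7587 → P i := stepQ 7586 Q7586 (allL N7586 (tt N15503 (iv1 F38569)) (tt N3601 (iv0 D11632)) (tt N4695 (iv2 F18974)) (tt N15362 (iv3 F38313)) (tt N9235 (iv4 F23011)) (tt N9295 (iv5 F23070)) (tt N4672 F18975) (tt N15502 (iv7 F38560)))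
theorem Q7588 : ∀ i, i < 7588 → P i := stepQ 7587 Q7587 (allL N7587 (tt N3601 (iv1 D11633)) (tt N15503 F38568) (tt N15502 (iv2 F38563)) (tt N7641 (iv3 F19043)) (tt N4870 (iv4 F18972)) (tt N9296 F23073) (tt N7640 F19041) (tt N4695 F18973))
theorem Q7589 : ∀ i, i < 7589 → P i := stepQ 7588 Q7588 (allL N7588 (tt N15502 (iv1 F38559)) (tt N4695 (iv0 F19902)) (tt N15503 (iv2 F38565)) (tt N3606 F18976) (tt N15510 (iv4 F38596)) (tt N4615 F18977) (tt N7817 (iv6 F19658)) (tt N3601 (iv7 D11634)))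
theorem Q7590 : ∀ i, i < 7590 → P i := stepQ 7589 Q7589 (allL N7589 (tt N3640 F18978) (tt N3652 F18979) (tt N7801 (iv2 F19609)) (tt N15523 D24595) (tt N3602 (iv4 D11636)) (tt N7801 (iv5 F19610)) (tt N15524 D24596) (tt N7799 (iv7 F19603)))
theorem Q7591 : ∀ i, i < 7591 → P i := stepQ 7590 Q7590 (allL N7590 (tt N3612 F18981) (tt N7821 F19669) (tt N7802 (iv2 F19614)) (tt N15417 (iv3 F38447)) (tt N15524 (iv4 F38604)) (tt N5289 F18980) (tt N3602 (iv6 D11637)) (tt N7820 (iv7 F19670)))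
theorem Q7592 : ∀ i, i < 7592 → P i := stepQ 7591 Q7591 (allL N7591 (tt N3603 (iv1 D11638)) (tt N3611 F18982) (tt N7660 (iv2 F19081)) (tt N15525 D24597) (tt N3740 F18983) (tt N7660 (iv5 F19082)) (tt N15526 D24598) (tt N7657 (iv7 F19071)))
theorem Q7593 : ∀ i, i < 7593 → P i := stepQ 7592 Q7592 (allL N7592 (tt N15527 D24599) (tt N15528 D24600) (tt N15529 D24601) (tt N3603 (iv3 D11639)) (tt N15517 (iv4 F38601)) (tt N7624 (iv5 F19020)) (tt N15530 D24602) (tt N7818 (iv7 F19663)))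
theorem Q7594 : ∀ i, i < 7594 → P i := stepQ 7593 Q7593 (allL N7593 (tt N15531 D24603) (tt N15532 D24604) (tt N7804 (iv2 F19619)) (tt N15530 (iv3 F38608)) (tt N3604 F18984) (tt N11835 F325361) (tt N3603 (iv6 D11640)) (tt N15533 D24606))
theorem Q7595 : ∀ i, i < 7595 → P i := stepQ 7594 Q7594 (allL N7594 (tt N7807 (iv1 F19626)) (tt N3604 (iv0 D11641)) (tt N7805 (iv2 F39381)) (tt N15534 D24608) (tt N5593 (iv4 F324981)) (tt N9307 F23090) (tt N7805 (iv6 F23091)) (tt N7806 F39380))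
theorem Q7596 : ∀ i, i < 7596 → P i := stepQ 7595 Q7595 (allL N7595 (tt N3604 (iv1 D11642)) (tt N7807 F19625) (tt N7806 F39379) (tt N15424 F164319) (tt N5596 (iv4 F324768)) (tt N9306 (iv5 F23089)) (tt N15535 D24613) (tt N7805 (iv7 F39382)))
theorem Q7597 : ∀ i, i < 7597 → P i := stepQ 7596 Q7596 (allL N7596 (tt N7806 (iv1 F19621)) (tt N7805 F19624) (tt N7807 (iv2 F19622)) (tt N15522 (iv3 F38603)) (tt N15533 (iv4 F38609)) (tt N9669 (iv5 F23787)) (tt N7821 (iv6 F19667)) (tt N3604 (iv7 D11643)))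
theorem Q7598 : ∀ i, i < 7598 → P i := stepQ 7597 Q7597 (allL N7597 (tt N3700 (iv1 F18996)) (tt N7142 (iv0 F18994)) (tt N7787 (iv2 F22564)) (tt N3708 (iv3 F18995)) (tt N3607 (iv4 D11652)) (tt N15536 D24614) (tt N7597 F22563) (tt N5259 F22565))
theorem Q7599 : ∀ i, i < 7599 → P i := stepQ 7598 Q7598 (allL N7598 (tt N3618 F19489) (tt N7822 F19679) (tt N7788 (iv2 F22572)) (tt N14687 (iv3 F36873)) (tt N15537 D24615) (tt N3607 (iv5 D11653)) (tt N15538 D24616) (tt N5261 (iv7 F22573)))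
theorem Q7600 : ∀ i, i < 7600 → P i := stepQ 7599 Q7599 (allL N7599 (tt N7792 (iv1 F19589)) (tt N7791 F19588) (tt N3609 F18997) (tt N7809 (iv3 F19633)) (tt N15539 D24617) (tt N3608 (iv5 D11655)) (tt N15540 D24618) (tt N7789 (iv7 F19583)))
theorem Q7601 : ∀ i, i < 7601 → P i := stepQ 7600 Q7600 (allL N7600 (tt N9734 F23931) (tt N5269 F22529) (tt N3610 F18998) (tt N7810 (iv3 F19638)) (tt N7673 (iv4 F19106)) (tt N4707 F22549) (tt N3608 (iv6 D11656)) (tt N9837 (iv7 F24092)))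
theorem Q7602 : ∀ i, i < 7602 → P i := stepQ 7601 Q7601 (allL N7601 (tt N7789 (iv1 F19585)) (tt N3609 (iv0 D11657)) (tt N7792 (iv2 F22590)) (tt N15541 D24619) (tt N15542 D24620) (tt N8970 (iv5 F22591)) (tt N15543 D24621) (tt N7791 F22589))
theorem Q7603 : ∀ i, i < 7603 → P i := stepQ 7602 Q7602 (allL N7602 (tt N15544 D24622) (tt N15545 D24623) (tt N15539 (iv2 F38618)) (tt N15546 D24624) (tt N3609 (iv4 D11659)) (tt N15547 D24625) (tt N15548 D24626) (tt N7793 (iv7 F19590)))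
theorem Q7604 : ∀ i, i < 7604 → P i := stepQ 7603 Q7603 (allL N7603 (tt N15549 D24627) (tt N15514 (iv0 F38600)) (tt N15540 (iv2 F38619)) (tt N3612 F18999) (tt N15548 (iv4 F38626)) (tt N15550 D24628) (tt N3609 (iv6 D11660)) (tt N15551 D24629))
theorem Q7605 : ∀ i, i < 7605 → P i := stepQ 7604 Q7604 (allL N7604 (tt N4679 (iv1 F22469)) (tt N4676 (iv0 F22436)) (tt N4707 (iv2 F22550)) (tt N3613 F19000) (tt N15552 D24630) (tt N3610 (iv5 D11663)) (tt N15550 (iv6 F38629)) (tt N4708 (iv7 F22560)))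
theorem Q7606 : ∀ i, i < 7606 → P i := stepQ 7605 Q7605 (allL N7605 (tt N5269 F22528) (tt N9734 (iv0 F23933)) (tt N9837 F24089) (tt N3614 F19002) (tt N7680 (iv4 F19109)) (tt N4708 (iv5 F22559)) (tt N7797 (iv6 F19594)) (tt N3610 (iv7 D11664)))
theorem Q7607 : ∀ i, i < 7607 → P i := stepQ 7606 Q7606 (allL N7606 (tt N15553 D24631) (tt N15554 D24632) (tt N15555 D24633) (tt N3611 (iv3 D11665)) (tt N15546 (iv4 F38625)) (tt N7615 (iv5 F19013)) (tt N12240 F324508) (tt N7803 (iv7 F19618)))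
theorem Q7608 : ∀ i, i < 7608 → P i := stepQ 7607 Q7607 (allL N7607 (tt N15556 D24635) (tt N15526 (iv0 F38607)) (tt N7819 (iv2 F19664)) (tt N12240 (iv3 F324115)) (tt N3612 F19004) (tt N12221 (iv5 F324117)) (tt N3611 (iv6 D11666)) (tt N12220 (iv7 F323840)))
theorem Q7609 : ∀ i, i < 7609 → P i := stepQ 7608 Q7608 (allL N7608 (tt N7821 (iv1 F19673)) (tt N3612 (iv0 D11667)) (tt N7820 (iv2 F19671)) (tt N15448 (iv3 F49341)) (tt N15557 D24639) (tt N9903 (iv5 F24152)) (tt N10026 (iv6 F24326)) (tt N7802 F19672))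
theorem Q7610 : ∀ i, i < 7610 → P i := stepQ 7609 Q7609 (allL N7609 (tt N15558 D24640) (tt N15559 D24641) (tt N4772 F19005) (tt N15550 (iv3 F38628)) (tt N15560 D24642) (tt N3612 (iv5 D11668)) (tt N3613 F19006) (tt N15561 D24643))
theorem Q7611 : ∀ i, i < 7611 → P i := stepQ 7610 Q7610 (allL N7610 (tt N7802 (iv1 F19617)) (tt N7820 F19668) (tt N7821 (iv2 F19666)) (tt N15551 (iv3 F38630)) (tt N12220 (iv4 F323839)) (tt N15561 (iv5 F38639)) (tt N7807 (iv6 F19623)) (tt N3612 (iv7 D11669)))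
theorem Q7612 : ∀ i, i < 7612 → P i := stepQ 7611 Q7611 (allL N7611 (tt N3929 F19009) (tt N3915 F19010) (tt N4771 F19007) (tt N15562 D24644) (tt N3613 (iv4 D11670)) (tt N10091 (iv5 F24386)) (tt N15560 (iv6 F38637)) (tt N4773 F19008))
theorem Q7613 : ∀ i, i < 7613 → P i := stepQ 7612 Q7612 (allL N7612 (tt N7808 (iv1 F19631)) (tt N4685 F19011) (tt N3615 (iv2 D11673)) (tt N7822 (iv3 F19675)) (tt N15563 D24645) (tt N8941 (iv5 F22285)) (tt N15564 D24646) (tt N7830 (iv7 F19693)))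
theorem Q7614 : ∀ i, i < 7614 → P i := stepQ 7613 Q7613 (allL N7613 (tt N15565 D24647) (tt N15566 D24648) (tt N15563 (iv2 F38645)) (tt N15567 D24649) (tt N3615 (iv4 D11674)) (tt N15568 D24650) (tt N15569 D24651) (tt N7831 (iv7 F19696)))
theorem Q7615 : ∀ i, i < 7615 → P i := stepQ 7614 Q7614 (allL N7614 (tt N15570 D24652) (tt N15571 D24653) (tt N15564 (iv2 F38646)) (tt N3617 F19012) (tt N15569 (iv4 F38650)) (tt N15572 D24654) (tt N3615 (iv6 D11675)) (tt N15573 D24655))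
theorem Q7616 : ∀ i, i < 7616 → P i := stepQ 7615 Q7615 (allL N7615 (tt N15574 D24656) (tt N15575 D24657) (tt N15576 D24658) (tt N3616 (iv3 D11676)) (tt N15567 (iv4 F38649)) (tt N7606 F19013) (tt N15577 D24659) (tt N7833 (iv7 F19699)))
theorem Q7617 : ∀ i, i < 7617 → P i := stepQ 7616 Q7616 (allL N7616 (tt N15578 D24660) (tt N15579 D24661) (tt N7826 (iv2 F19684)) (tt N15577 (iv3 F38660)) (tt N3617 F19014) (tt N15580 D24662) (tt N3616 (iv6 D11677)) (tt N15581 D24663))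
theorem Q7618 : ∀ i, i < 7618 → P i := stepQ 7617 Q7617 (allL N7617 (tt N7829 (iv1 F19691)) (tt N3617 (iv0 D11678)) (tt N7827 F39517) (tt N15582 D24665) (tt N11603 (iv4 F324188)) (tt N15583 D24667) (tt N7836 F23703) (tt N7828 F39518))
theorem Q7619 : ∀ i, i < 7619 → P i := stepQ 7618 Q7618 (allL N7618 (tt N3617 (iv1 D11679)) (tt N7829 F19690) (tt N7828 (iv2 F39515)) (tt N15464 F163935) (tt N11653 (iv4 F323847)) (tt N10136 (iv5 F24413)) (tt N15584 D24671) (tt N7827 (iv7 F39516)))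
theorem Q7620 : ∀ i, i < 7620 → P i := stepQ 7619 Q7619 (allL N7619 (tt N3897 F19017) (tt N4805 F19018) (tt N4803 F19015) (tt N15572 (iv3 F38652)) (tt N15585 D24672) (tt N3617 (iv5 D11680)) (tt N4740 F19016) (tt N4802 (iv7 F20410)))
theorem Q7621 : ∀ i, i < 7621 → P i := stepQ 7620 Q7620 (allL N7620 (tt N7828 (iv1 F19686)) (tt N7827 F19689) (tt N7829 (iv2 F19687)) (tt N15573 (iv3 F38657)) (tt N15581 (iv4 F38662)) (tt N4802 (iv5 F20409)) (tt N7837 (iv6 F19704)) (tt N3617 (iv7 D11681)))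
theorem Q7622 : ∀ i, i < 7622 → P i := stepQ 7621 Q7621 (allL N7621 (tt N5261 (iv1 F22452)) (tt N7788 (iv0 F22343)) (tt N3618 (iv2 D11684)) (tt N7830 (iv3 F19692)) (tt N15586 D24673) (tt N4661 (iv5 F22490)) (tt N15587 D24674) (tt N7822 (iv7 F19676)))
theorem Q7623 : ∀ i, i < 7623 → P i := stepQ 7622 Q7622 (allL N7622 (tt N15588 D24675) (tt N15589 D24676) (tt N15586 (iv2 F38669)) (tt N15590 D24677) (tt N3618 (iv4 D11685)) (tt N15591 D24678) (tt N15592 D24679) (tt N7823 (iv7 F19680)))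
theorem Q7624 : ∀ i, i < 7624 → P i := stepQ 7623 Q7623 (allL N7623 (tt N15593 D24680) (tt N15594 D24681) (tt N15587 (iv2 F38670)) (tt N3620 F19019) (tt N15592 (iv4 F38674)) (tt N9478 (iv5 F23415)) (tt N3618 (iv6 D11686)) (tt N15595 D24682))
theorem Q7625 : ∀ i, i < 7625 → P i := stepQ 7624 Q7624 (allL N7624 (tt N15596 D24683) (tt N15597 D24684) (tt N15598 D24685) (tt N3619 (iv3 D11687)) (tt N15590 (iv4 F38673)) (tt N7592 F19020) (tt N15599 D24686) (tt N7825 (iv7 F19683)))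
theorem Q7626 : ∀ i, i < 7626 → P i := stepQ 7625 Q7625 (allL N7625 (tt N11841 (iv1 F325390)) (tt N11837 (iv0 F325382)) (tt N7834 (iv2 F19700)) (tt N15599 (iv3 F38677)) (tt N3620 F19021) (tt N15600 D24689) (tt N3619 (iv6 D11688)) (tt N15601 D24690))
theorem Q7627 : ∀ i, i < 7627 → P i := stepQ 7626 Q7626 (allL N7626 (tt N7837 (iv1 F19707)) (tt N3620 (iv0 D11689)) (tt N7835 (iv2 F39522)) (tt N15474 F168284) (tt N5733 (iv4 F324110)) (tt N9667 (iv5 F23780)) (tt N15602 D24694) (tt N7836 (iv7 F39520)))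
theorem Q7628 : ∀ i, i < 7628 → P i := stepQ 7627 Q7627 (allL N7627 (tt N3620 (iv1 D11690)) (tt N7837 F19706) (tt N7836 (iv2 F39519)) (tt N15603 D24696) (tt N8624 (iv4 F324962)) (tt N9668 F23783) (tt N7827 (iv6 F23784)) (tt N7835 (iv7 F39523)))
theorem Q7629 : ∀ i, i < 7629 → P i := stepQ 7628 Q7628 (allL N7628 (tt N7836 (iv1 F19702)) (tt N7835 F19705) (tt N7837 (iv2 F19703)) (tt N15595 (iv3 F38675)) (tt N15601 (iv4 F38679)) (tt N9486 (iv5 F23431)) (tt N7829 (iv6 F19688)) (tt N3620 (iv7 D11691)))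
theorem Q7630 : ∀ i, i < 7630 → P i := stepQ 7629 Q7629 (allL N7629 (tt N15604 D24698) (tt N15605 D24699) (tt N15606 D24700) (tt N3621 (iv3 D11692)) (tt N15607 D24701) (tt N7681 (iv5 F19110)) (tt N11577 F322501) (tt N7840 (iv7 F19711)))
theorem Q7631 : ∀ i, i < 7631 → P i := stepQ 7630 Q7630 (allL N7630 (tt N11603 (iv1 F324187)) (tt N11653 (iv0 F323845)) (tt N7839 (iv2 F19709)) (tt N11577 F322719) (tt N4301 F19022) (tt N11617 (iv5 F324191)) (tt N3621 (iv6 D11693)) (tt N11616 (iv7 F323871)))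
theorem Q7632 : ∀ i, i < 7632 → P i := stepQ 7631 Q7631 (allL N7631 (tt N15608 D24716) (tt N3623 (iv0 D11696)) (tt N15609 D24717) (tt N15610 D24718) (tt N15611 D24719) (tt N15612 D24720) (tt N15613 D24721) (tt N15614 D24722))
theorem Q7633 : ∀ i, i < 7633 → P i := stepQ 7632 Q7632 (allL N7632 (tt N3623 (iv1 D11697)) (tt N15608 F38692) (tt N15614 (iv2 F38694)) (tt N15615 D24723) (tt N15616 D24724) (tt N15617 D24725) (tt N15618 D24726) (tt N15609 F38693))
theorem Q7634 : ∀ i, i < 7634 → P i := stepQ 7633 Q7633 (allL N7633 (tt N15609 (iv1 F170127)) (tt N15614 F170124) (tt N3623 (iv2 D11698)) (tt N7844 (iv3 F19714)) (tt N15487 (iv4 F38547)) (tt N15619 D24729) (tt N7844 (iv6 F19715)) (tt N15608 (iv7 F38691)))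
theorem Q7635 : ∀ i, i < 7635 → P i := stepQ 7634 Q7634 (allL N7634 (tt N15620 D24730) (tt N15621 D24731) (tt N15619 (iv2 F38697)) (tt N3624 F19024) (tt N15622 D24732) (tt N3623 (iv5 D11699)) (tt N15623 D24733) (tt N3734 (iv7 F19025)))
theorem Q7636 : ∀ i, i < 7636 → P i := stepQ 7635 Q7635 (allL N7635 (tt N15614 F170125) (tt N15609 (iv0 F170126)) (tt N15608 F38689) (tt N3625 F19026) (tt N15489 (iv4 F38550)) (tt N3734 F19027) (tt N15624 D24734) (tt N3623 (iv7 D11700)))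
theorem Q7637 : ∀ i, i < 7637 → P i := stepQ 7636 Q7636 (allL N7636 (tt N15625 D24735) (tt N15625 F38710) (tt N7637 (iv2 F19029)) (tt N15623 (iv3 F38706)) (tt N3735 F19028) (tt N7637 (iv5 F19031)) (tt N3624 (iv6 D11701)) (tt N7637 (iv7 F19032)))
theorem Q7638 : ∀ i, i < 7638 → P i := stepQ 7637 Q7637 (allL N7637 (tt N15626 D24736) (tt N15626 F38711) (tt N7636 F19029) (tt N15624 (iv3 F38707)) (tt N3626 F19030) (tt N7636 F19031) (tt N3625 (iv6 D11702)) (tt N7636 F19032))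
theorem Q7639 : ∀ i, i < 7639 → P i := stepQ 7638 Q7638 (allL N7638 (tt N3626 (iv1 F19033)) (tt N3626 (iv0 D11703)) (tt N7845 F49021) (tt N15627 D24738) (tt N15628 D24739) (tt N15629 D24740) (tt N15630 D24741) (tt N7845 F49022))
theorem Q7640 : ∀ i, i < 7640 → P i := stepQ 7639 Q7639 (allL N7639 (tt N4944 F19037) (tt N7279 F19038) (tt N7392 F19034) (tt N15631 D24742) (tt N3627 (iv4 D11704)) (tt N7385 F19036) (tt N14710 (iv6 F36949)) (tt N3818 F19035))
theorem Q7641 : ∀ i, i < 7641 → P i := stepQ 7640 Q7640 (allL N7640 (tt N7817 F19659) (tt N7810 F19662) (tt N7815 F19648) (tt N3628 (iv3 D11705)) (tt N3646 F19039) (tt N7372 F19040) (tt N7587 (iv6 F19041)) (tt N7816 (iv7 F19647)))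
theorem Q7642 : ∀ i, i < 7642 → P i := stepQ 7641 Q7641 (allL N7641 (tt N7144 F19045) (tt N7955 F19991) (tt N7954 (iv2 F19986)) (tt N7587 F19043) (tt N3629 F19044) (tt N14953 (iv5 F37521)) (tt N3628 (iv6 D11706)) (tt N7918 (iv7 F19900)))
theorem Q7643 : ∀ i, i < 7643 → P i := stepQ 7642 Q7642 (allL N7642 (tt N3678 F19049) (tt N7390 (iv0 F19050)) (tt N7388 F19046) (tt N15632 D24743) (tt N3631 (iv4 D11707)) (tt N11143 (iv5 F27058)) (tt N4907 F19047) (tt N7304 F19048))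
theorem Q7644 : ∀ i, i < 7644 → P i := stepQ 7643 Q7643 (allL N7643 (tt N7171 F19054) (tt N8061 F20184) (tt N4576 F19053) (tt N9359 (iv3 F23157)) (tt N3632 (iv4 D11708)) (tt N15633 D24744) (tt N14958 F37534) (tt N7906 (iv7 F19875)))
theorem Q7645 : ∀ i, i < 7645 → P i := stepQ 7644 Q7644 (allL N7644 (tt N3816 F19057) (tt N14705 F36935) (tt N7847 (iv2 F19722)) (tt N3634 (iv3 D11710)) (tt N3648 F19056) (tt N15634 D24745) (tt N7644 F19338) (tt N7414 (iv7 F19345)))
theorem Q7646 : ∀ i, i < 7646 → P i := stepQ 7645 Q7645 (allL N7645 (tt N7552 F19058) (tt N7940 (iv0 F19971)) (tt N7879 (iv2 F19812)) (tt N7540 F19059) (tt N3634 (iv4 D11711)) (tt N15635 D24746) (tt N7645 F19341) (tt N7415 (iv7 F19417)))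
theorem Q7647 : ∀ i, i < 7647 → P i := stepQ 7646 Q7646 (allL N7646 (tt N8921 (iv1 F22247)) (tt N4300 F19821) (tt N7880 (iv2 F19818)) (tt N15634 (iv3 F38729)) (tt N15636 D24747) (tt N3634 (iv5 D11712)) (tt N15637 D24748) (tt N7416 (iv7 F19434)))
theorem Q7648 : ∀ i, i < 7648 → P i := stepQ 7647 Q7647 (allL N7647 (tt N7884 (iv1 F19830)) (tt N7883 F19829) (tt N3636 F19063) (tt N7849 (iv3 F19730)) (tt N15638 D24749) (tt N3635 (iv5 D11718)) (tt N15639 D24750) (tt N7881 (iv7 F19824)))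
theorem Q7649 : ∀ i, i < 7649 → P i := stepQ 7648 Q7648 (allL N7648 (tt N7428 F22964) (tt N15640 D24751) (tt N3637 F19064) (tt N7850 (iv3 F19736)) (tt N3879 F19065) (tt N9258 (iv5 F23026)) (tt N3635 (iv6 D11719)) (tt N15641 D24752))
theorem Q7650 : ∀ i, i < 7650 → P i := stepQ 7649 Q7649 (allL N7649 (tt N7881 (iv1 F19826)) (tt N3636 (iv0 D11720)) (tt N7884 F20276) (tt N15642 D24753) (tt N15643 D24754) (tt N7896 (iv5 F20273)) (tt N15644 D24755) (tt N7883 (iv7 F20278)))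
theorem Q7651 : ∀ i, i < 7651 → P i := stepQ 7650 Q7650 (allL N7650 (tt N3636 (iv1 D11721)) (tt N7881 F19825) (tt N7883 (iv2 F20280)) (tt N15645 D24756) (tt N15646 D24757) (tt N7897 (iv5 F20281)) (tt N15647 D24758) (tt N7884 F20279))
theorem Q7652 : ∀ i, i < 7652 → P i := stepQ 7651 Q7651 (allL N7651 (tt N15648 D24759) (tt N15649 D24760) (tt N15638 (iv2 F38738)) (tt N15650 D24761) (tt N3636 (iv4 D11722)) (tt N15651 D24762) (tt N15652 D24763) (tt N7885 (iv7 F19832)))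
theorem Q7653 : ∀ i, i < 7653 → P i := stepQ 7652 Q7652 (allL N7652 (tt N15653 D24764) (tt N15654 D24765) (tt N15639 (iv2 F38739)) (tt N3641 F19066) (tt N15652 (iv4 F38756)) (tt N9260 (iv5 F23029)) (tt N3636 (iv6 D11723)) (tt N15655 D24766))
theorem Q7654 : ∀ i, i < 7654 → P i := stepQ 7653 Q7653 (allL N7653 (tt N15641 (iv1 F38749)) (tt N3637 (iv0 D11724)) (tt N7428 (iv2 F23896)) (tt N15281 (iv3 F38165)) (tt N15656 D24767) (tt N9416 F23894) (tt N7419 F23895) (tt N15640 (iv7 F38741)))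
theorem Q7655 : ∀ i, i < 7655 → P i := stepQ 7654 Q7654 (allL N7654 (tt N3637 (iv1 D11725)) (tt N15641 F38748) (tt N15640 F38744) (tt N15657 D24768) (tt N10163 (iv4 F24457)) (tt N9417 F23902) (tt N15658 D24769) (tt N7428 F23898))
theorem Q7656 : ∀ i, i < 7656 → P i := stepQ 7655 Q7655 (allL N7655 (tt N15640 (iv1 F38740)) (tt N7428 (iv0 F24196)) (tt N15641 (iv2 F38745)) (tt N3643 F19067) (tt N15089 (iv4 F37833)) (tt N4535 F19068) (tt N7890 (iv6 F19838)) (tt N3637 (iv7 D11726)))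
theorem Q7657 : ∀ i, i < 7657 → P i := stepQ 7656 Q7656 (allL N7656 (tt N8880 (iv1 F22177)) (tt N8878 (iv0 F22165)) (tt N8890 F22209) (tt N3638 (iv3 D11727)) (tt N15659 D24770) (tt N3928 F19069) (tt N15660 D24771) (tt N7858 (iv7 F19747)))
theorem Q7658 : ∀ i, i < 7658 → P i := stepQ 7657 Q7657 (allL N7657 (tt N3722 F19073) (tt N3714 F19074) (tt N4917 F19070) (tt N15661 D24772) (tt N3638 (iv4 D11728)) (tt N4917 F19072) (tt N15662 D24773) (tt N7591 F19071))
theorem Q7659 : ∀ i, i < 7659 → P i := stepQ 7658 Q7658 (allL N7658 (tt N15663 D24774) (tt N15664 D24775) (tt N4915 F19075) (tt N15660 (iv3 F38772)) (tt N15662 (iv4 F38777)) (tt N3930 F19076) (tt N3638 (iv6 D11729)) (tt N15665 D24776))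
theorem Q7660 : ∀ i, i < 7660 → P i := stepQ 7659 Q7659 (allL N7659 (tt N3809 (iv1 F19079)) (tt N3817 F19080) (tt N9065 F22693) (tt N3639 (iv3 D11730)) (tt N15666 D24777) (tt N4910 F19077) (tt N15667 D24778) (tt N4909 F19078))
theorem Q7661 : ∀ i, i < 7661 → P i := stepQ 7660 Q7660 (allL N7660 (tt N3714 F19084) (tt N3722 F19085) (tt N7591 F19081) (tt N15668 D24779) (tt N3639 (iv4 D11731)) (tt N7591 F19082) (tt N15669 D24780) (tt N4917 F19083))
theorem Q7662 : ∀ i, i < 7662 → P i := stepQ 7661 Q7661 (allL N7661 (tt N3653 F19087) (tt N7895 F19848) (tt N7859 (iv2 F19748)) (tt N15667 (iv3 F38788)) (tt N15669 (iv4 F38793)) (tt N7490 F19086) (tt N3639 (iv6 D11732)) (tt N7893 (iv7 F19849)))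
theorem Q7663 : ∀ i, i < 7663 → P i := stepQ 7662 Q7662 (allL N7662 (tt N15670 D24781) (tt N15671 D24782) (tt N5724 (iv2 F323029)) (tt N3640 (iv3 D11733)) (tt N15650 (iv4 F38755)) (tt N5633 F321471) (tt N4148 (iv6 F323144)) (tt N7891 (iv7 F19840)))
theorem Q7664 : ∀ i, i < 7664 → P i := stepQ 7663 Q7663 (allL N7663 (tt N5593 (iv1 F324980)) (tt N5596 (iv0 F324767)) (tt N7861 (iv2 F19754)) (tt N4148 F324580) (tt N3641 F19089) (tt N4142 (iv5 F324949)) (tt N3640 (iv6 D11734)) (tt N4141 (iv7 F325707)))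
theorem Q7665 : ∀ i, i < 7665 → P i := stepQ 7664 Q7664 (allL N7664 (tt N7864 (iv1 F19761)) (tt N3641 (iv0 D11735)) (tt N7862 F45355) (tt N15672 D24790) (tt N15673 D24791) (tt N9428 F23301) (tt N7862 F23003) (tt N7863 F45356))
theorem Q7666 : ∀ i, i < 7666 → P i := stepQ 7665 Q7665 (allL N7665 (tt N3641 (iv1 D11736)) (tt N7864 F19760) (tt N7863 (iv2 F45353)) (tt N15674 D24793) (tt N15675 D24794) (tt N9427 (iv5 F23299)) (tt N15676 D24795) (tt N7862 (iv7 F45354)))
theorem Q7667 : ∀ i, i < 7667 → P i := stepQ 7666 Q7666 (allL N7666 (tt N7863 (iv1 F19756)) (tt N7862 F19759) (tt N7864 (iv2 F19757)) (tt N15655 (iv3 F38757)) (tt N4141 (iv4 F325706)) (tt N9266 (iv5 F23034)) (tt N7895 (iv6 F19846)) (tt N3641 (iv7 D11737)))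
theorem Q7668 : ∀ i, i < 7668 → P i := stepQ 7667 Q7667 (allL N7667 (tt N4425 F22186) (tt N10166 (iv0 F24467)) (tt N15166 (iv2 F37953)) (tt N3645 (iv3 D11738)) (tt N7667 F19090) (tt N7858 (iv5 F19746)) (tt N4857 F19091) (tt N3928 F19092))
theorem Q7669 : ∀ i, i < 7669 → P i := stepQ 7668 Q7668 (allL N7668 (tt N7898 (iv1 F19858)) (tt N3646 (iv0 D11739)) (tt N7897 (iv2 F20309)) (tt N15677 D24796) (tt N15678 D24797) (tt N7883 (iv5 F20310)) (tt N9240 (iv6 F23263)) (tt N7896 F20308))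
theorem Q7670 : ∀ i, i < 7670 → P i := stepQ 7669 Q7669 (allL N7669 (tt N7897 (iv1 F19859)) (tt N7896 F19853) (tt N3646 (iv2 D11741)) (tt N7869 (iv3 F19776)) (tt N7815 (iv4 F19649)) (tt N8955 (iv5 F22321)) (tt N10194 (iv6 F24503)) (tt N7898 (iv7 F19857)))
theorem Q7671 : ∀ i, i < 7671 → P i := stepQ 7670 Q7670 (allL N7670 (tt N4785 (iv1 F19103)) (tt N3808 (iv0 F19102)) (tt N4788 F19394) (tt N3648 (iv3 D11748)) (tt N7540 F19101) (tt N15679 D24798) (tt N7670 F19337) (tt N4630 (iv7 F19344)))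
theorem Q7672 : ∀ i, i < 7672 → P i := stepQ 7671 Q7671 (allL N7671 (tt N4302 (iv1 F19488)) (tt N8915 F22243) (tt N7848 (iv2 F19727)) (tt N15679 (iv3 F38807)) (tt N15680 D24799) (tt N3648 (iv5 D11749)) (tt N15681 D24800) (tt N7464 (iv7 F19346)))
theorem Q7673 : ∀ i, i < 7673 → P i := stepQ 7672 Q7672 (allL N7672 (tt N7852 (iv1 F19739)) (tt N7851 F19738) (tt N3650 F19104) (tt N7881 (iv3 F19823)) (tt N15682 D24801) (tt N3649 (iv5 D11751)) (tt N15683 D24802) (tt N7849 (iv7 F19731)))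
theorem Q7674 : ∀ i, i < 7674 → P i := stepQ 7673 Q7673 (allL N7673 (tt N15684 D24803) (tt N7472 F22607) (tt N3651 F19105) (tt N7882 (iv3 F19828)) (tt N7600 F19106) (tt N9010 (iv5 F22624)) (tt N3649 (iv6 D11752)) (tt N15685 D24804))
theorem Q7675 : ∀ i, i < 7675 → P i := stepQ 7674 Q7674 (allL N7674 (tt N7849 (iv1 F19734)) (tt N3650 (iv0 D11753)) (tt N7852 F22583) (tt N15686 D24805) (tt N15687 D24806) (tt N7868 F22592) (tt N15688 D24807) (tt N7851 F22581))
theorem Q7676 : ∀ i, i < 7676 → P i := stepQ 7675 Q7675 (allL N7675 (tt N3650 (iv1 D11754)) (tt N7849 F19732) (tt N7851 (iv2 F22579)) (tt N15689 D24808) (tt N15690 D24809) (tt N4338 F19733) (tt N15691 D24810) (tt N7852 (iv7 F22582)))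
theorem Q7677 : ∀ i, i < 7677 → P i := stepQ 7676 Q7676 (allL N7676 (tt N15692 D24811) (tt N15693 D24812) (tt N15682 (iv2 F38814)) (tt N15694 D24813) (tt N3650 (iv4 D11755)) (tt N15695 D24814) (tt N15696 D24815) (tt N7853 (iv7 F19740)))
theorem Q7678 : ∀ i, i < 7678 → P i := stepQ 7677 Q7677 (allL N7677 (tt N15697 D24816) (tt N15647 (iv0 F38753)) (tt N15683 (iv2 F38815)) (tt N3653 F19107) (tt N15696 (iv4 F38838)) (tt N10169 (iv5 F24474)) (tt N3650 (iv6 D11756)) (tt N15698 D24817))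
theorem Q7679 : ∀ i, i < 7679 → P i := stepQ 7678 Q7678 (allL N7678 (tt N15685 (iv1 F38824)) (tt N3651 (iv0 D11757)) (tt N15684 F38818) (tt N15699 D24818) (tt N15700 D24819) (tt N4339 (iv5 F22614)) (tt N15701 D24820) (tt N7472 F22931))
theorem Q7680 : ∀ i, i < 7680 → P i := stepQ 7679 Q7679 (allL N7679 (tt N3651 (iv1 D11758)) (tt N15685 F38823) (tt N7472 F26052) (tt N9633 F26053) (tt N15198 (iv4 F38021)) (tt N4340 F26054) (tt N7465 F26055) (tt N15684 (iv7 F38819)))
theorem Q7681 : ∀ i, i < 7681 → P i := stepQ 7680 Q7680 (allL N7680 (tt N7472 F22606) (tt N15684 F38820) (tt N15685 (iv2 F38821)) (tt N3655 F19108) (tt N7605 F19109) (tt N8205 (iv5 F20486)) (tt N7857 (iv6 F19745)) (tt N3651 (iv7 D11759)))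
theorem Q7682 : ∀ i, i < 7682 → P i := stepQ 7681 Q7681 (allL N7681 (tt N15702 D24821) (tt N15703 D24822) (tt N15704 D24823) (tt N3652 (iv3 D11760)) (tt N15694 (iv4 F38837)) (tt N7629 F19110) (tt N12663 (iv6 F323030)) (tt N7860 (iv7 F19753)))
theorem Q7683 : ∀ i, i < 7683 → P i := stepQ 7682 Q7682 (allL N7682 (tt N15557 (iv1 F39461)) (tt N15524 (iv0 F38605)) (tt N7892 (iv2 F19841)) (tt N12663 F324430) (tt N3653 F19111) (tt N12662 F324431) (tt N3652 (iv6 D11761)) (tt N15705 D24827))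
theorem Q7684 : ∀ i, i < 7684 → P i := stepQ 7683 Q7683 (allL N7683 (tt N7895 (iv1 F19852)) (tt N3653 (iv0 D11762)) (tt N7893 (iv2 F19850)) (tt N15706 D24828) (tt N15707 D24829) (tt N15221 (iv5 F38040)) (tt N15665 (iv6 F38781)) (tt N7859 F19851))
theorem Q7685 : ∀ i, i < 7685 → P i := stepQ 7684 Q7684 (allL N7684 (tt N7859 (iv1 F19751)) (tt N7893 F19847) (tt N7895 (iv2 F19845)) (tt N15698 (iv3 F38839)) (tt N15705 (iv4 F38852)) (tt N10174 (iv5 F24478)) (tt N7864 (iv6 F19758)) (tt N3653 (iv7 D11763)))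
theorem Q7686 : ∀ i, i < 7686 → P i := stepQ 7685 Q7685 (allL N7685 (tt N7869 (iv1 F19778)) (tt N3656 (iv0 D11764)) (tt N4338 (iv2 F22578)) (tt N15432 (iv3 F38470)) (tt N15439 (iv4 F38491)) (tt N7851 F22576) (tt N4328 F22577) (tt N7868 (iv7 F22594)))
theorem Q7687 : ∀ i, i < 7687 → P i := stepQ 7686 Q7686 (allL N7686 (tt N3656 (iv1 D11765)) (tt N7869 F19780) (tt N7868 (iv2 F22593)) (tt N15708 D24830) (tt N15677 (iv4 F38803)) (tt N7852 F22584) (tt N15709 D24831) (tt N4338 F22580))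
theorem Q7688 : ∀ i, i < 7688 → P i := stepQ 7687 Q7687 (allL N7687 (tt N4338 (iv1 F22596)) (tt N7868 F19775) (tt N3656 (iv2 D11766)) (tt N7898 (iv3 F19854)) (tt N4661 (iv4 F22489)) (tt N8961 (iv5 F22335)) (tt N4320 (iv6 F19536)) (tt N7869 (iv7 F19777)))
theorem Q7689 : ∀ i, i < 7689 → P i := stepQ 7688 Q7688 (allL N7688 (tt N7184 (iv1 F19117)) (tt N7555 (iv0 F19116)) (tt N3658 F19113) (tt N3668 F19114) (tt N4623 F19115) (tt N15710 D24832) (tt N3657 (iv6 D11767)) (tt N9007 (iv7 F22621)))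
theorem Q7690 : ∀ i, i < 7690 → P i := stepQ 7689 Q7689 (allL N7689 (tt N9856 (iv1 F24109)) (tt N9860 F37124) (tt N15710 (iv2 F38867)) (tt N3659 F19118) (tt N15711 D24833) (tt N3658 (iv5 D11768)) (tt N8870 (iv6 F22135)) (tt N10251 (iv7 F24570)))
theorem Q7691 : ∀ i, i < 7691 → P i := stepQ 7690 Q7690 (allL N7690 (tt N14947 (iv1 F37509)) (tt N14949 (iv0 F37514)) (tt N3681 F19119) (tt N15712 D24834) (tt N3659 (iv4 D11769)) (tt N7735 (iv5 F19217)) (tt N8875 (iv6 F22154)) (tt N7734 (iv7 F19212)))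
theorem Q7692 : ∀ i, i < 7692 → P i := stepQ 7691 Q7691 (allL N7691 (tt N14957 (iv1 F37529)) (tt N14956 (iv0 F37524)) (tt N7409 F19120) (tt N15713 D24835) (tt N3660 (iv4 D11770)) (tt N14977 (iv5 F37558)) (tt N11368 (iv6 F27628)) (tt N7407 F19121))
theorem Q7693 : ∀ i, i < 7693 → P i := stepQ 7692 Q7692 (allL N7692 (tt N7981 (iv1 F20024)) (tt N5506 (iv0 F19126)) (tt N7410 F19122) (tt N7321 F19123) (tt N14974 (iv4 F37553)) (tt N7155 F19124) (tt N3661 (iv6 D11771)) (tt N7155 F19125))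
theorem Q7694 : ∀ i, i < 7694 → P i := stepQ 7693 Q7693 (allL N7693 (tt N15714 D24836) (tt N15715 D24837) (tt N15716 D24838) (tt N3662 (iv3 D11772)) (tt N4053 F19127) (tt N15717 D24839) (tt N4050 F19128) (tt N15718 D24840))
theorem Q7695 : ∀ i, i < 7695 → P i := stepQ 7694 Q7694 (allL N7694 (tt N15007 (iv1 F37646)) (tt N15011 (iv0 F37653)) (tt N7412 F19129) (tt N15717 (iv3 F38881)) (tt N15719 D24841) (tt N3662 (iv5 D11773)) (tt N15720 D24842) (tt N15721 D24843))
theorem Q7696 : ∀ i, i < 7696 → P i := stepQ 7695 Q7695 (allL N7695 (tt N7294 (iv1 F19132)) (tt N7293 F19133) (tt N7413 F19130) (tt N15718 (iv3 F38882)) (tt N3663 F19131) (tt N15721 (iv5 F38891)) (tt N10480 (iv6 F24848)) (tt N3662 (iv7 D11774)))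
theorem Q7697 : ∀ i, i < 7697 → P i := stepQ 7696 Q7696 (allL N7696 (tt N9569 F23642) (tt N7426 F19471) (tt N3669 F19134) (tt N7177 F19135) (tt N3665 F19136) (tt N15722 D24844) (tt N3664 (iv6 D11775)) (tt N9577 (iv7 F23676)))
theorem Q7698 : ∀ i, i < 7698 → P i := stepQ 7697 Q7697 (allL N7697 (tt N7703 (iv1 F19151)) (tt N3665 (iv0 D11776)) (tt N4512 F19463) (tt N8983 (iv3 F22392)) (tt N3686 F19464) (tt N15723 D24845) (tt N15724 D24846) (tt N7701 (iv7 F19511)))
theorem Q7699 : ∀ i, i < 7699 → P i := stepQ 7698 Q7698 (allL N7698 (tt N15725 D24847) (tt N14991 (iv0 F37591)) (tt N7702 (iv2 F19145)) (tt N4325 F19137) (tt N15726 D24848) (tt N3665 (iv5 D11778)) (tt N7510 F19138) (tt N15727 D24849))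
theorem Q7700 : ∀ i, i < 7700 → P i := stepQ 7699 Q7699 (allL N7699 (tt N7701 (iv1 F19144)) (tt N4512 (iv0 F19513)) (tt N7703 (iv2 F19147)) (tt N4326 F19139) (tt N9577 (iv4 F23672)) (tt N15727 (iv5 F38907)) (tt N7699 F19140) (tt N3665 (iv7 D11779)))
theorem Q7701 : ∀ i, i < 7701 → P i := stepQ 7700 Q7700 (allL N7700 (tt N7423 F19941) (tt N4426 (iv0 F19529)) (tt N4318 F19141) (tt N3667 F19142) (tt N3790 F19143) (tt N15728 D24850) (tt N3666 (iv6 D11780)) (tt N15729 D24851))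
theorem Q7702 : ∀ i, i < 7702 → P i := stepQ 7701 Q7701 (allL N7701 (tt N3667 (iv1 D11782)) (tt N7699 F19144) (tt N5282 F19509) (tt N8990 F22406) (tt N3691 F19510) (tt N15730 D24852) (tt N15731 D24853) (tt N7697 F19511))
theorem Q7703 : ∀ i, i < 7703 → P i := stepQ 7702 Q7702 (allL N7702 (tt N9400 (iv1 F38927)) (tt N15732 D24855) (tt N7698 F19145) (tt N15728 (iv3 F38909)) (tt N15733 D24856) (tt N3667 (iv5 D11783)) (tt N7521 F19146) (tt N15734 D24857))
theorem Q7704 : ∀ i, i < 7704 → P i := stepQ 7703 Q7703 (allL N7703 (tt N5282 (iv1 F19480)) (tt N7697 F19151) (tt N7699 F19147) (tt N15729 (iv3 F38912)) (tt N7708 (iv4 F19168)) (tt N15734 (iv5 F38933)) (tt N7703 F19148) (tt N3667 (iv7 D11784)))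
theorem Q7705 : ∀ i, i < 7705 → P i := stepQ 7704 Q7704 (allL N7704 (tt N3673 (iv1 F19157)) (tt N3668 (iv0 D11785)) (tt N3670 (iv2 F19154)) (tt N7940 (iv3 F19969)) (tt N4263 F19152) (tt N15735 D24858) (tt N15736 D24859) (tt N3671 (iv7 F19155)))
theorem Q7706 : ∀ i, i < 7706 → P i := stepQ 7705 Q7705 (allL N7705 (tt N15737 D24860) (tt N9025 (iv0 F23744)) (tt N3672 F19159) (tt N15710 (iv3 F38868)) (tt N15738 D24861) (tt N3668 (iv5 D11786)) (tt N15722 (iv6 F38896)) (tt N15739 D24862))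
theorem Q7707 : ∀ i, i < 7707 → P i := stepQ 7706 Q7706 (allL N7706 (tt N3671 (iv1 F19163)) (tt N3670 F19164) (tt N3673 F19160) (tt N9007 (iv3 F22618)) (tt N3697 F19161) (tt N15739 (iv5 F38951)) (tt N7706 F19162) (tt N3668 (iv7 D11787)))
theorem Q7708 : ∀ i, i < 7708 → P i := stepQ 7707 Q7707 (allL N7707 (tt N15740 D24863) (tt N15741 D24864) (tt N15722 (iv2 F38894)) (tt N3675 F19165) (tt N15742 D24865) (tt N3669 (iv5 D11790)) (tt N3672 F19166) (tt N15743 D24866))
theorem Q7709 : ∀ i, i < 7709 → P i := stepQ 7708 Q7708 (allL N7708 (tt N7426 F19470) (tt N9569 F23643) (tt N9577 F23674) (tt N3676 F19167) (tt N7703 F19168) (tt N15743 (iv5 F38972)) (tt N7708 F19169) (tt N3669 (iv7 D11791)))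
theorem Q7710 : ∀ i, i < 7710 → P i := stepQ 7709 Q7709 (allL N7709 (tt N8160 F20382) (tt N4594 (iv0 F19350)) (tt N4263 F19170) (tt N7185 F19171) (tt N3670 (iv4 D11792)) (tt N15744 D24867) (tt N15745 D24868) (tt N9015 (iv7 F22637)))
theorem Q7711 : ∀ i, i < 7711 → P i := stepQ 7710 Q7710 (allL N7710 (tt N15746 D24869) (tt N10253 F38940) (tt N15735 (iv2 F38936)) (tt N8998 (iv3 F22433)) (tt N15747 D24870) (tt N3670 (iv5 D11793)) (tt N15748 D24871) (tt N9016 (iv7 F22642)))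
theorem Q7712 : ∀ i, i < 7712 → P i := stepQ 7711 Q7711 (allL N7711 (tt N15731 (iv1 F38921)) (tt N15632 (iv0 F38726)) (tt N15736 (iv2 F38941)) (tt N8999 (iv3 F22599)) (tt N15745 (iv4 F38979)) (tt N15287 (iv5 F38167)) (tt N3670 (iv6 D11794)) (tt N15749 D24872))
theorem Q7713 : ∀ i, i < 7713 → P i := stepQ 7712 Q7712 (allL N7712 (tt N7415 F19389) (tt N7879 F19817) (tt N7552 F19173) (tt N3671 (iv3 D11795)) (tt N7551 (iv4 F19174)) (tt N15750 D24873) (tt N15751 D24874) (tt N7940 (iv7 F19970)))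
theorem Q7714 : ∀ i, i < 7714 → P i := stepQ 7713 Q7713 (allL N7713 (tt N4594 (iv1 F19351)) (tt N8160 (iv0 F20381)) (tt N9015 (iv2 F22635)) (tt N4260 F19176) (tt N3671 (iv4 D11796)) (tt N15752 D24875) (tt N15753 D24876) (tt N4263 F19175))
theorem Q7715 : ∀ i, i < 7715 → P i := stepQ 7714 Q7714 (allL N7714 (tt N10253 F24577) (tt N15746 F38990) (tt N9016 (iv2 F22640)) (tt N15750 (iv3 F38997)) (tt N15754 D24877) (tt N3671 (iv5 D11797)) (tt N15755 D24878) (tt N15735 (iv7 F38937)))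
theorem Q7716 : ∀ i, i < 7716 → P i := stepQ 7715 Q7715 (allL N7715 (tt N10267 (iv1 F38446)) (tt N15724 F38901) (tt N9017 (iv2 F22643)) (tt N15751 (iv3 F38999)) (tt N15753 (iv4 F39005)) (tt N9986 (iv5 F37740)) (tt N3671 (iv6 D11798)) (tt N15756 D24879))
theorem Q7717 : ∀ i, i < 7717 → P i := stepQ 7716 Q7716 (allL N7716 (tt N15739 (iv1 F38958)) (tt N3672 (iv0 D11799)) (tt N15737 (iv2 F38955)) (tt N9001 (iv3 F38957)) (tt N15757 D24880) (tt N9989 F38959) (tt N15758 D24881) (tt N9025 F38956))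
theorem Q7718 : ∀ i, i < 7718 → P i := stepQ 7717 Q7717 (allL N7717 (tt N3672 (iv1 D11800)) (tt N15739 F38953) (tt N9025 F24278) (tt N15759 D24882) (tt N15760 D24883) (tt N9990 (iv5 F24274)) (tt N15761 D24884) (tt N15737 (iv7 F38954)))
theorem Q7719 : ∀ i, i < 7719 → P i := stepQ 7718 Q7718 (allL N7718 (tt N4808 F19178) (tt N15762 D24885) (tt N15738 (iv2 F38947)) (tt N15763 D24886) (tt N3672 (iv4 D11801)) (tt N15764 D24887) (tt N15742 (iv6 F38969)) (tt N15765 D24888))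
theorem Q7720 : ∀ i, i < 7720 → P i := stepQ 7719 Q7719 (allL N7719 (tt N9025 (iv1 F23745)) (tt N15737 F38952) (tt N15739 (iv2 F38950)) (tt N3682 F19179) (tt N15765 (iv4 F39020)) (tt N3673 F19180) (tt N15766 D24889) (tt N3672 (iv7 D11802)))
theorem Q7721 : ∀ i, i < 7721 → P i := stepQ 7720 Q7720 (allL N7720 (tt N9203 F22970) (tt N15301 F38193) (tt N5299 F19526) (tt N7900 (iv3 F19863)) (tt N15767 D24890) (tt N3674 (iv5 D11806)) (tt N15768 D24891) (tt N8872 (iv7 F22142)))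
theorem Q7722 : ∀ i, i < 7722 → P i := stepQ 7721 Q7721 (allL N7721 (tt N8876 (iv1 F22158)) (tt N3675 (iv0 D11813)) (tt N7433 (iv2 F19423)) (tt N7901 (iv3 F19866)) (tt N15769 D24892) (tt N10144 (iv5 F24433)) (tt N15770 D24893) (tt N8874 F22150))
theorem Q7723 : ∀ i, i < 7723 → P i := stepQ 7722 Q7722 (allL N7722 (tt N15074 F37802) (tt N15077 (iv0 F37807)) (tt N8875 (iv2 F22153)) (tt N15771 D24894) (tt N3675 (iv4 D11815)) (tt N15772 D24895) (tt N3681 F19183) (tt N15773 D24896))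
theorem Q7724 : ∀ i, i < 7724 → P i := stepQ 7723 Q7723 (allL N7723 (tt N8874 (iv1 F22146)) (tt N7433 F22152) (tt N8876 (iv2 F22155)) (tt N15743 (iv3 F38971)) (tt N15773 (iv4 F39033)) (tt N3676 F19184) (tt N15774 D24897) (tt N3675 (iv7 D11816)))
theorem Q7725 : ∀ i, i < 7725 → P i := stepQ 7724 Q7724 (allL N7724 (tt N10260 (iv1 F24588)) (tt N10259 F24587) (tt N7386 F19185) (tt N15775 D24898) (tt N3677 (iv4 D11817)) (tt N7731 (iv5 F19202)) (tt N15776 D24899) (tt N7398 F19186))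
theorem Q7726 : ∀ i, i < 7726 → P i := stepQ 7725 Q7725 (allL N7725 (tt N15777 D24900) (tt N15778 D24901) (tt N7387 F19187) (tt N10142 (iv3 F24424)) (tt N15776 (iv4 F39039)) (tt N15779 D24902) (tt N3677 (iv6 D11818)) (tt N15780 D24903))
theorem Q7727 : ∀ i, i < 7727 → P i := stepQ 7726 Q7726 (allL N7726 (tt N3776 F19189) (tt N7903 F19869) (tt N7389 F19188) (tt N8874 (iv3 F22149)) (tt N15781 D24904) (tt N3678 (iv5 D11819)) (tt N15779 (iv6 F39043)) (tt N7901 (iv7 F19867)))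
theorem Q7728 : ∀ i, i < 7728 → P i := stepQ 7727 Q7727 (allL N7727 (tt N7388 (iv1 F19193)) (tt N7304 F19194) (tt N7390 F19190) (tt N10144 (iv3 F24431)) (tt N7281 F19191) (tt N7901 (iv5 F19864)) (tt N7402 F19192) (tt N3678 (iv7 D11820)))
theorem Q7729 : ∀ i, i < 7729 → P i := stepQ 7728 Q7728 (allL N7728 (tt N8221 (iv1 F20540)) (tt N4415 F19554) (tt N7195 F19195) (tt N3679 (iv3 D11821)) (tt N15782 D24905) (tt N10320 (iv5 F24652)) (tt N15783 D24906) (tt N9039 (iv7 F22660)))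
theorem Q7730 : ∀ i, i < 7730 → P i := stepQ 7729 Q7729 (allL N7729 (tt N7382 F19199) (tt N7277 F19200) (tt N7378 F19196) (tt N15784 D24907) (tt N3679 (iv4 D11822)) (tt N4905 F19198) (tt N15785 D24908) (tt N7379 F19197))
theorem Q7731 : ∀ i, i < 7731 → P i := stepQ 7730 Q7730 (allL N7730 (tt N15786 D24909) (tt N15787 D24910) (tt N9034 (iv2 F22654)) (tt N15783 (iv3 F39054)) (tt N15785 (iv4 F39058)) (tt N15788 D24911) (tt N3679 (iv6 D11823)) (tt N15789 D24912))
theorem Q7732 : ∀ i, i < 7732 → P i := stepQ 7731 Q7731 (allL N7731 (tt N7277 F19204) (tt N7382 F19205) (tt N7379 F19201) (tt N10098 (iv3 F24390)) (tt N3680 (iv4 D11824)) (tt N7724 F19202) (tt N15790 D24913) (tt N7378 F19203))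
theorem Q7733 : ∀ i, i < 7733 → P i := stepQ 7732 Q7732 (allL N7732 (tt N15791 D24914) (tt N15792 D24915) (tt N15175 (iv2 F37978)) (tt N7197 F19210) (tt N15790 (iv4 F39062)) (tt N15297 (iv5 F38179)) (tt N3680 (iv6 D11825)) (tt N15793 D24916))
theorem Q7734 : ∀ i, i < 7734 → P i := stepQ 7733 Q7733 (allL N7733 (tt N15794 D24917) (tt N15795 D24918) (tt N15796 D24919) (tt N3681 (iv3 D11826)) (tt N15763 (iv4 F39017)) (tt N15797 D24920) (tt N15771 (iv6 F39032)) (tt N15798 D24921))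
theorem Q7735 : ∀ i, i < 7735 → P i := stepQ 7734 Q7734 (allL N7734 (tt N7376 F19213) (tt N7373 F19214) (tt N7735 (iv2 F19215)) (tt N15797 (iv3 F39064)) (tt N4902 F19211) (tt N3681 (iv5 D11827)) (tt N15799 D24922) (tt N7690 F19212))
theorem Q7736 : ∀ i, i < 7736 → P i := stepQ 7735 Q7735 (allL N7735 (tt N14949 (iv1 F37515)) (tt N14947 (iv0 F37508)) (tt N7734 F19215) (tt N15798 (iv3 F39066)) (tt N3682 F19216) (tt N7690 F19217) (tt N15800 D24923) (tt N3681 (iv7 D11828)))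
theorem Q7737 : ∀ i, i < 7737 → P i := stepQ 7736 Q7736 (allL N7736 (tt N15801 D24924) (tt N15802 D24925) (tt N10252 (iv2 F24572)) (tt N15766 (iv3 F39023)) (tt N15800 (iv4 F39070)) (tt N7736 F19218) (tt N3682 (iv6 D11829)) (tt N15774 (iv7 F39035)))
theorem Q7738 : ∀ i, i < 7738 → P i := stepQ 7737 Q7737 (allL N7737 (tt N15430 F38467) (tt N15437 F38484) (tt N9754 (iv2 F23958)) (tt N3683 (iv3 D11830)) (tt N4307 F19219) (tt N7375 F19220) (tt N4458 F19221) (tt N8939 (iv7 F22276)))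
theorem Q7739 : ∀ i, i < 7739 → P i := stepQ 7738 Q7738 (allL N7738 (tt N9648 (iv1 F23760)) (tt N11097 F26142) (tt N4738 F19223) (tt N7512 F19549) (tt N15803 D24926) (tt N3686 (iv5 D11832)) (tt N15804 D24927) (tt N7746 (iv7 F19238)))
theorem Q7740 : ∀ i, i < 7740 → P i := stepQ 7739 Q7739 (allL N7739 (tt N3703 F24296) (tt N9994 F24289) (tt N4739 F19224) (tt N7513 (iv3 F19556)) (tt N15724 (iv4 F38900)) (tt N4819 F19225) (tt N3686 (iv6 D11833)) (tt N15053 (iv7 F37763)))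
theorem Q7741 : ∀ i, i < 7741 → P i := stepQ 7740 Q7740 (allL N7740 (tt N7750 (iv1 F19250)) (tt N3687 (iv0 D11834)) (tt N4747 (iv2 F19226)) (tt N7514 F19559) (tt N15805 D24928) (tt N15051 (iv5 F37753)) (tt N15806 D24929) (tt N7748 F19243))
theorem Q7742 : ∀ i, i < 7742 → P i := stepQ 7741 Q7741 (allL N7741 (tt N15807 D24930) (tt N15808 D24931) (tt N7749 (iv2 F19246)) (tt N15809 D24932) (tt N3687 (iv4 D11835)) (tt N15810 D24933) (tt N9565 (iv6 F23633)) (tt N15811 D24934))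
theorem Q7743 : ∀ i, i < 7743 → P i := stepQ 7742 Q7742 (allL N7742 (tt N7748 (iv1 F19240)) (tt N4747 F19244) (tt N7750 (iv2 F19247)) (tt N7929 (iv3 F19926)) (tt N15811 (iv4 F39080)) (tt N3688 F19227) (tt N15812 D24935) (tt N3687 (iv7 D11836)))
theorem Q7744 : ∀ i, i < 7744 → P i := stepQ 7743 Q7743 (allL N7743 (tt N7422 F19231) (tt N9585 (iv0 F23688)) (tt N3774 F19228) (tt N4625 F19229) (tt N3690 F19230) (tt N15813 D24936) (tt N3689 (iv6 D11837)) (tt N15271 (iv7 F38144)))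
theorem Q7745 : ∀ i, i < 7745 → P i := stepQ 7744 Q7744 (allL N7744 (tt N15814 D24937) (tt N9778 (iv0 F23986)) (tt N7930 (iv2 F19929)) (tt N3692 F19232) (tt N15815 D24938) (tt N3690 (iv5 D11839)) (tt N9566 (iv6 F23635)) (tt N15816 D24939))
theorem Q7746 : ∀ i, i < 7746 → P i := stepQ 7745 Q7745 (allL N7745 (tt N7347 F19522) (tt N5266 F19935) (tt N7931 (iv2 F19931)) (tt N3693 F19233) (tt N15271 (iv4 F38140)) (tt N15816 (iv5 F39092)) (tt N7745 F19234) (tt N3690 (iv7 D11840)))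
theorem Q7747 : ∀ i, i < 7747 → P i := stepQ 7746 Q7746 (allL N7746 (tt N9877 (iv1 F24121)) (tt N9876 F24118) (tt N5283 F19237) (tt N7523 (iv3 F19547)) (tt N15817 D24940) (tt N3691 (iv5 D11842)) (tt N15818 D24941) (tt N7738 F19238))
theorem Q7748 : ∀ i, i < 7748 → P i := stepQ 7747 Q7747 (allL N7747 (tt N15819 D24942) (tt N3699 F19295) (tt N5284 F19239) (tt N7524 (iv3 F19497)) (tt N15731 (iv4 F38920)) (tt N9641 (iv5 F23753)) (tt N3691 (iv6 D11843)) (tt N15820 D24943))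
theorem Q7749 : ∀ i, i < 7749 → P i := stepQ 7748 Q7748 (allL N7748 (tt N3692 (iv1 D11845)) (tt N7742 F19240) (tt N5290 F19242) (tt N7525 (iv3 F19430)) (tt N15821 D24944) (tt N7341 (iv5 F19241)) (tt N15822 D24945) (tt N7740 (iv7 F19243)))
theorem Q7750 : ∀ i, i < 7750 → P i := stepQ 7749 Q7749 (allL N7749 (tt N15823 D24946) (tt N15824 D24947) (tt N7741 F19246) (tt N15825 D24948) (tt N3692 (iv4 D11846)) (tt N15826 D24949) (tt N9568 (iv6 F23638)) (tt N15827 D24950))
theorem Q7751 : ∀ i, i < 7751 → P i := stepQ 7750 Q7750 (allL N7750 (tt N5290 (iv1 F19249)) (tt N7740 F19250) (tt N7742 F19247) (tt N15816 (iv3 F39091)) (tt N15827 (iv4 F39126)) (tt N3693 F19248) (tt N15828 D24951) (tt N3692 (iv7 D11847)))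
theorem Q7752 : ∀ i, i < 7752 → P i := stepQ 7751 Q7751 (allL N7751 (tt N7787 F19576) (tt N5259 (iv0 F22439)) (tt N7142 F19251) (tt N3694 (iv3 D11848)) (tt N14705 (iv4 F36932)) (tt N15829 D24952) (tt N15830 D24953) (tt N3700 F19252))
theorem Q7753 : ∀ i, i < 7753 → P i := stepQ 7752 Q7752 (allL N7752 (tt N4797 F19256) (tt N15831 D24954) (tt N3698 F19254) (tt N15829 (iv3 F39132)) (tt N15832 D24955) (tt N3694 (iv5 D11849)) (tt N15833 D24956) (tt N3702 F19255))
theorem Q7754 : ∀ i, i < 7754 → P i := stepQ 7753 Q7753 (allL N7753 (tt N5284 F24185) (tt N15820 F39108) (tt N3699 F19257) (tt N15830 (iv3 F39136)) (tt N4762 F19258) (tt N4642 F19259) (tt N3694 (iv6 D11850)) (tt N15819 (iv7 F39103)))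
theorem Q7755 : ∀ i, i < 7755 → P i := stepQ 7754 Q7754 (allL N7754 (tt N15831 (iv1 F39138)) (tt N4797 F19263) (tt N3702 F19260) (tt N7145 F19261) (tt N15834 D24957) (tt N3695 (iv5 D11851)) (tt N15835 D24958) (tt N3698 F19262))
theorem Q7756 : ∀ i, i < 7756 → P i := stepQ 7755 Q7755 (allL N7755 (tt N15053 (iv1 F37764)) (tt N4739 (iv0 F19267)) (tt N3703 F19264) (tt N7146 F19265) (tt N3895 F19266) (tt N8146 (iv5 F20335)) (tt N3695 (iv6 D11852)) (tt N9994 (iv7 F24286)))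
theorem Q7757 : ∀ i, i < 7757 → P i := stepQ 7756 Q7756 (allL N7756 (tt N3707 (iv1 F19276)) (tt N3696 (iv0 D11853)) (tt N3704 (iv2 F19284)) (tt N15836 D24959) (tt N15837 D24960) (tt N9981 (iv5 F24259)) (tt N15838 D24961) (tt N3705 F19285))
theorem Q7758 : ∀ i, i < 7758 → P i := stepQ 7757 Q7757 (allL N7757 (tt N3696 (iv1 D11854)) (tt N3707 F19268) (tt N3705 F19283) (tt N7148 F19270) (tt N15839 D24962) (tt N4637 (iv5 F19269)) (tt N15840 D24963) (tt N3704 (iv7 F19281)))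
theorem Q7759 : ∀ i, i < 7759 → P i := stepQ 7758 Q7758 (allL N7758 (tt N15841 D24964) (tt N15842 D24965) (tt N3706 F19271) (tt N15843 D24966) (tt N3696 (iv4 D11855)) (tt N15844 D24967) (tt N7536 F19272) (tt N15845 D24968))
theorem Q7760 : ∀ i, i < 7760 → P i := stepQ 7759 Q7759 (allL N7759 (tt N3705 (iv1 F19277)) (tt N3704 F19278) (tt N3707 F19273) (tt N7537 F19274) (tt N15845 (iv4 F39172)) (tt N3697 F19275) (tt N15846 D24969) (tt N3696 (iv7 D11856)))
theorem Q7761 : ∀ i, i < 7761 → P i := stepQ 7760 Q7760 (allL N7760 (tt N3702 (iv1 F19287)) (tt N3698 (iv0 D11857)) (tt N4797 (iv2 F19288)) (tt N7543 F19314) (tt N15847 D24970) (tt N4787 F19286) (tt N15848 D24971) (tt N15831 (iv7 F39139)))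
theorem Q7762 : ∀ i, i < 7762 → P i := stepQ 7761 Q7761 (allL N7761 (tt N3698 (iv1 D11858)) (tt N3702 F19289) (tt N15831 F39141) (tt N3713 (iv3 F19291)) (tt N15849 D24972) (tt N4798 (iv5 F19292)) (tt N15850 D24973) (tt N4797 F19290))
theorem Q7763 : ∀ i, i < 7763 → P i := stepQ 7762 Q7762 (allL N7762 (tt N15851 D24974) (tt N15852 D24975) (tt N15832 (iv2 F39144)) (tt N15853 D24976) (tt N3698 (iv4 D11859)) (tt N15854 D24977) (tt N15855 D24978) (tt N15834 (iv7 F39149)))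
theorem Q7764 : ∀ i, i < 7764 → P i := stepQ 7763 Q7763 (allL N7763 (tt N15856 D24979) (tt N15857 D24980) (tt N15833 (iv2 F39146)) (tt N7953 (iv3 F19982)) (tt N15855 (iv4 F39194)) (tt N15858 D24981) (tt N3698 (iv6 D11860)) (tt N15859 D24982))
theorem Q7765 : ∀ i, i < 7765 → P i := stepQ 7764 Q7764 (allL N7764 (tt N3699 (iv1 D11862)) (tt N15819 F39104) (tt N15820 (iv2 F39105)) (tt N3716 (iv3 F19293)) (tt N15632 (iv4 F38723)) (tt N9481 (iv5 F23420)) (tt N7774 (iv6 F19563)) (tt N5284 F19294))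
theorem Q7766 : ∀ i, i < 7766 → P i := stepQ 7765 Q7765 (allL N7765 (tt N4628 F19298) (tt N4644 F19299) (tt N4642 F19296) (tt N7329 F19297) (tt N15860 D24983) (tt N3699 (iv5 D11863)) (tt N15858 (iv6 F39197)) (tt N4641 (iv7 F19545)))
theorem Q7767 : ∀ i, i < 7767 → P i := stepQ 7766 Q7766 (allL N7766 (tt N15820 (iv1 F39109)) (tt N5284 (iv0 F19993)) (tt N15819 F39101) (tt N7955 (iv3 F19987)) (tt N4769 F19300) (tt N4641 F19501) (tt N9994 F24288) (tt N3699 (iv7 D11864)))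
theorem Q7768 : ∀ i, i < 7768 → P i := stepQ 7767 Q7767 (allL N7767 (tt N7414 F19393) (tt N7847 (iv0 F19725)) (tt N3816 F19301) (tt N4785 F19302) (tt N3700 (iv4 D11865)) (tt N15861 D24984) (tt N15862 D24985) (tt N14705 (iv7 F36933)))
theorem Q7769 : ∀ i, i < 7769 → P i := stepQ 7768 Q7768 (allL N7768 (tt N15863 D24986) (tt N9818 (iv0 F26049)) (tt N7956 (iv2 F19994)) (tt N3702 F19303) (tt N15864 D24987) (tt N3700 (iv5 D11866)) (tt N15865 D24988) (tt N15829 (iv7 F39133)))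
theorem Q7770 : ∀ i, i < 7770 → P i := stepQ 7769 Q7769 (allL N7769 (tt N9838 (iv1 F26048)) (tt N9850 (iv0 F24106)) (tt N7957 (iv2 F19996)) (tt N3703 F19304) (tt N15862 (iv4 F39205)) (tt N9773 (iv5 F23977)) (tt N3700 (iv6 D11867)) (tt N15866 D24989))
theorem Q7771 : ∀ i, i < 7771 → P i := stepQ 7770 Q7770 (allL N7770 (tt N4764 (iv1 F19308)) (tt N4763 F19309) (tt N3894 F19305) (tt N4786 F19306) (tt N15867 D24990) (tt N3701 (iv5 D11868)) (tt N15868 D24991) (tt N4761 F19307))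
theorem Q7772 : ∀ i, i < 7772 → P i := stepQ 7771 Q7771 (allL N7771 (tt N9949 F24218) (tt N4606 F19774) (tt N3895 F19310) (tt N4787 F19311) (tt N3703 F19312) (tt N7543 (iv5 F19313)) (tt N3701 (iv6 D11869)) (tt N15461 (iv7 F38522)))
theorem Q7773 : ∀ i, i < 7773 → P i := stepQ 7772 Q7772 (allL N7772 (tt N15852 (iv1 F39193)) (tt N15851 F39192) (tt N15834 (iv2 F39148)) (tt N15869 D24992) (tt N3702 (iv4 D11870)) (tt N15870 D24993) (tt N15871 D24994) (tt N15832 (iv7 F39145)))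
theorem Q7774 : ∀ i, i < 7774 → P i := stepQ 7773 Q7773 (allL N7773 (tt N15872 D24995) (tt N15873 D24996) (tt N15835 (iv2 F39150)) (tt N15865 (iv3 F39209)) (tt N15871 (iv4 F39224)) (tt N9997 (iv5 F24298)) (tt N3702 (iv6 D11871)) (tt N15874 D24997))
theorem Q7775 : ∀ i, i < 7775 → P i := stepQ 7774 Q7774 (allL N7774 (tt N9994 F24292) (tt N3703 (iv0 D11872)) (tt N15053 (iv2 F37761)) (tt N3724 (iv3 F19561)) (tt N10267 (iv4 F24596)) (tt N3898 F19560) (tt N7764 F19563) (tt N4739 (iv7 F19562)))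
theorem Q7776 : ∀ i, i < 7776 → P i := stepQ 7775 Q7775 (allL N7775 (tt N4739 (iv1 F19564)) (tt N15053 F37765) (tt N9994 (iv2 F24284)) (tt N15866 (iv3 F39211)) (tt N15461 (iv4 F38517)) (tt N8147 F20344) (tt N15819 (iv6 F39099)) (tt N3703 (iv7 D11874)))
theorem Q7777 : ∀ i, i < 7777 → P i := stepQ 7776 Q7776 (allL N7776 (tt N15875 D24998) (tt N15876 D24999) (tt N15837 (iv2 F39156)) (tt N15877 D25000) (tt N3704 (iv4 D11875)) (tt N15878 D25001) (tt N15879 D25002) (tt N15839 (iv7 F39160)))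
theorem Q7778 : ∀ i, i < 7778 → P i := stepQ 7777 Q7777 (allL N7777 (tt N15880 D25003) (tt N15881 D25004) (tt N15838 (iv2 F39158)) (tt N7961 (iv3 F19999)) (tt N15879 (iv4 F39240)) (tt N15882 D25005) (tt N3704 (iv6 D11876)) (tt N15883 D25006))
theorem Q7779 : ∀ i, i < 7779 → P i := stepQ 7778 Q7778 (allL N7778 (tt N7939 F23805) (tt N15536 (iv0 F38614)) (tt N7962 (iv2 F20000)) (tt N3705 (iv3 D11877)) (tt N15884 D25007) (tt N9679 F23804) (tt N15885 D25008) (tt N15836 (iv7 F39154)))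
theorem Q7780 : ∀ i, i < 7780 → P i := stepQ 7779 Q7779 (allL N7779 (tt N15876 (iv1 F39237)) (tt N15875 F39231) (tt N15839 (iv2 F39159)) (tt N15886 D25009) (tt N3705 (iv4 D11878)) (tt N15887 D25010) (tt N15888 D25011) (tt N15837 (iv7 F39157)))
theorem Q7781 : ∀ i, i < 7781 → P i := stepQ 7780 Q7780 (allL N7780 (tt N15889 D25012) (tt N15890 D25013) (tt N15840 (iv2 F39161)) (tt N15885 (iv3 F39244)) (tt N15888 (iv4 F39246)) (tt N15891 D25014) (tt N3705 (iv6 D11880)) (tt N15892 D25015))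
theorem Q7782 : ∀ i, i < 7782 → P i := stepQ 7781 Q7781 (allL N7781 (tt N15845 (iv1 F39174)) (tt N3706 (iv0 D11881)) (tt N15841 (iv2 F39255)) (tt N15893 D25017) (tt N15894 D25018) (tt N15895 D25019) (tt N15896 D25020) (tt N15842 (iv7 F39258)))
theorem Q7783 : ∀ i, i < 7783 → P i := stepQ 7782 Q7782 (allL N7782 (tt N3706 (iv1 D11882)) (tt N15845 F39173) (tt N15842 (iv2 F39257)) (tt N15897 D25022) (tt N15898 D25023) (tt N15899 D25024) (tt N15900 D25025) (tt N15841 (iv7 F39256)))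
theorem Q7784 : ∀ i, i < 7784 → P i := stepQ 7783 Q7783 (allL N7783 (tt N15901 D25026) (tt N15902 D25027) (tt N15903 D25028) (tt N3706 (iv3 D11883)) (tt N3734 F19568) (tt N15904 D25029) (tt N7572 F19569) (tt N15622 (iv7 F38705)))
theorem Q7785 : ∀ i, i < 7785 → P i := stepQ 7784 Q7784 (allL N7784 (tt N15905 D25030) (tt N15906 D25031) (tt N15844 (iv2 F39170)) (tt N15904 (iv3 F39265)) (tt N15907 D25032) (tt N3706 (iv5 D11884)) (tt N15908 D25033) (tt N15909 D25034))
theorem Q7786 : ∀ i, i < 7786 → P i := stepQ 7785 Q7785 (allL N7785 (tt N15842 (iv1 F39167)) (tt N15841 (iv0 F39165)) (tt N15845 (iv2 F39171)) (tt N15622 (iv3 F38704)) (tt N3707 F19570) (tt N15909 (iv5 F39269)) (tt N15910 D25035) (tt N3706 (iv7 D11885)))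
theorem Q7787 : ∀ i, i < 7787 → P i := stepQ 7786 Q7786 (allL N7786 (tt N15911 D25036) (tt N15912 D25037) (tt N15846 (iv2 F39175)) (tt N3735 F19571) (tt N15910 (iv4 F39270)) (tt N7786 F19572) (tt N3707 (iv6 D11886)) (tt N7575 F19573))
theorem Q7788 : ∀ i, i < 7788 → P i := stepQ 7787 Q7787 (allL N7787 (tt N3801 F19575) (tt N7751 (iv0 F19576)) (tt N7597 F22564) (tt N3798 F22465) (tt N3708 (iv4 D11888)) (tt N15913 D25038) (tt N7787 F22466) (tt N3792 F22467))
theorem Q7789 : ∀ i, i < 7789 → P i := stepQ 7788 Q7788 (allL N7788 (tt N7621 F22343) (tt N3726 F22344) (tt N7598 F22572) (tt N15536 (iv3 F38612)) (tt N15914 D25039) (tt N3708 (iv5 D11889)) (tt N15915 D25040) (tt N5260 (iv7 F22571)))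
theorem Q7790 : ∀ i, i < 7790 → P i := stepQ 7789 Q7789 (allL N7789 (tt N4722 (iv1 F22588)) (tt N7601 F19585) (tt N3710 F19581) (tt N7577 F19582) (tt N15916 D25041) (tt N3709 (iv5 D11895)) (tt N15917 D25042) (tt N7599 F19583))
theorem Q7791 : ∀ i, i < 7791 → P i := stepQ 7790 Q7790 (allL N7790 (tt N5273 F23855) (tt N9839 (iv0 F24094)) (tt N3711 F19586) (tt N7578 F19587) (tt N7850 (iv4 F19737)) (tt N4669 (iv5 F22532)) (tt N3709 (iv6 D11896)) (tt N9694 (iv7 F23834)))
theorem Q7792 : ∀ i, i < 7792 → P i := stepQ 7791 Q7791 (allL N7791 (tt N7599 (iv1 F19588)) (tt N3710 (iv0 D11897)) (tt N4722 (iv2 F22575)) (tt N9818 (iv3 F24058)) (tt N15918 D25043) (tt N4680 F22574) (tt N15919 D25044) (tt N7601 (iv7 F22589)))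
theorem Q7793 : ∀ i, i < 7793 → P i := stepQ 7792 Q7792 (allL N7792 (tt N3710 (iv1 D11898)) (tt N7599 F19589) (tt N7601 F22590) (tt N15920 D25045) (tt N15921 D25046) (tt N4723 F22585) (tt N15922 D25047) (tt N4722 (iv7 F22586)))
theorem Q7794 : ∀ i, i < 7794 → P i := stepQ 7793 Q7793 (allL N7793 (tt N15923 D25048) (tt N15924 D25049) (tt N15916 (iv2 F39288)) (tt N15925 D25050) (tt N3710 (iv4 D11899)) (tt N15926 D25051) (tt N15927 D25052) (tt N7602 F19590))
theorem Q7795 : ∀ i, i < 7795 → P i := stepQ 7794 Q7794 (allL N7794 (tt N15928 D25053) (tt N15929 D25054) (tt N15917 (iv2 F39292)) (tt N3715 F19591) (tt N15927 (iv4 F39315)) (tt N9609 (iv5 F23700)) (tt N3710 (iv6 D11900)) (tt N15930 D25055))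
theorem Q7796 : ∀ i, i < 7796 → P i := stepQ 7795 Q7795 (allL N7795 (tt N9694 (iv1 F23836)) (tt N3711 (iv0 D11901)) (tt N5273 F26008) (tt N11072 (iv3 F26092)) (tt N15068 (iv4 F37795)) (tt N9475 F23860) (tt N5263 F23862) (tt N9839 (iv7 F26006)))
theorem Q7797 : ∀ i, i < 7797 → P i := stepQ 7796 Q7796 (allL N7796 (tt N3711 (iv1 D11902)) (tt N9694 F23835) (tt N9839 (iv2 F26009)) (tt N15931 D25056) (tt N15932 D25057) (tt N9476 F23932) (tt N9734 (iv6 F23930)) (tt N5273 F26031))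
theorem Q7798 : ∀ i, i < 7798 → P i := stepQ 7797 Q7797 (allL N7797 (tt N9839 F24096) (tt N5273 F23857) (tt N9694 (iv2 F23833)) (tt N3717 F19592) (tt N7857 (iv4 F19743)) (tt N4645 F19593) (tt N7605 F19594) (tt N3711 (iv7 D11903)))
theorem Q7799 : ∀ i, i < 7799 → P i := stepQ 7798 Q7798 (allL N7798 (tt N7532 (iv1 F19601)) (tt N7530 (iv0 F19600)) (tt N7543 F19595) (tt N3712 (iv3 D11904)) (tt N15933 D25058) (tt N3895 F19596) (tt N15934 D25059) (tt N7544 (iv7 F19599)))
theorem Q7800 : ∀ i, i < 7800 → P i := stepQ 7799 Q7799 (allL N7799 (tt N3760 F19605) (tt N3741 F19606) (tt N4806 F19602) (tt N15935 D25060) (tt N3712 (iv4 D11905)) (tt N4806 F19604) (tt N11652 F323903) (tt N7589 F19603))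
theorem Q7801 : ∀ i, i < 7801 → P i := stepQ 7800 Q7800 (allL N7800 (tt N15936 D25062) (tt N15937 D25063) (tt N4804 F19607) (tt N15934 (iv3 F39334)) (tt N11652 F324120) (tt N3897 F19608) (tt N3712 (iv6 D11906)) (tt N15938 D25064))
theorem Q7802 : ∀ i, i < 7802 → P i := stepQ 7801 Q7801 (allL N7801 (tt N3741 F19612) (tt N3760 F19613) (tt N7589 F19609) (tt N15939 D25065) (tt N3713 (iv4 D11907)) (tt N7589 F19610) (tt N15940 D25066) (tt N4806 F19611))
theorem Q7803 : ∀ i, i < 7803 → P i := stepQ 7802 Q7802 (allL N7802 (tt N3723 F19616) (tt N7610 F19617) (tt N7590 F19614) (tt N15850 (iv3 F39187)) (tt N15940 (iv4 F39351)) (tt N4749 F19615) (tt N3713 (iv6 D11908)) (tt N7608 (iv7 F19672)))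
theorem Q7804 : ∀ i, i < 7804 → P i := stepQ 7803 Q7803 (allL N7803 (tt N15941 D25067) (tt N15942 D25068) (tt N15943 D25069) (tt N3714 (iv3 D11909)) (tt N15925 (iv4 F39312)) (tt N7833 (iv5 F19698)) (tt N5945 (iv6 F325264)) (tt N7606 F19618))
theorem Q7805 : ∀ i, i < 7805 → P i := stepQ 7804 Q7804 (allL N7804 (tt N15673 (iv1 F79862)) (tt N15675 (iv0 F79859)) (tt N7593 F19619) (tt N5945 F325938) (tt N3715 F19620) (tt N5943 F325939) (tt N3714 (iv6 D11910)) (tt N11262 F325940))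
theorem Q7806 : ∀ i, i < 7806 → P i := stepQ 7805 Q7805 (allL N7805 (tt N7596 (iv1 F19624)) (tt N3715 (iv0 D11911)) (tt N7594 F39381) (tt N15944 D25076) (tt N8644 (iv4 F324959)) (tt N9485 F23429) (tt N7594 F23091) (tt N7595 F39382))
theorem Q7807 : ∀ i, i < 7807 → P i := stepQ 7806 Q7806 (allL N7806 (tt N3715 (iv1 D11912)) (tt N7596 F19621) (tt N7595 (iv2 F39379)) (tt N15857 F164334) (tt N8643 (iv4 F324961)) (tt N9484 (iv5 F23427)) (tt N15945 D25081) (tt N7594 (iv7 F39380)))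
theorem Q7808 : ∀ i, i < 7808 → P i := stepQ 7807 Q7807 (allL N7807 (tt N7595 (iv1 F19625)) (tt N7594 F19626) (tt N7596 F19622) (tt N15930 (iv3 F39316)) (tt N11262 (iv4 F325069)) (tt N9612 (iv5 F23704)) (tt N7610 F19623) (tt N3715 (iv7 D11913)))
theorem Q7809 : ∀ i, i < 7809 → P i := stepQ 7808 Q7808 (allL N7808 (tt N3729 (iv1 F19630)) (tt N7612 F19631) (tt N7576 F19627) (tt N7150 F19628) (tt N15946 D25082) (tt N3718 (iv5 D11914)) (tt N15947 D25083) (tt N4686 F19629))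
theorem Q7810 : ∀ i, i < 7810 → P i := stepQ 7809 Q7809 (allL N7809 (tt N7583 (iv1 F19635)) (tt N7582 F19636) (tt N3720 F19632) (tt N7599 F19633) (tt N15948 D25084) (tt N3719 (iv5 D11915)) (tt N15949 D25085) (tt N7577 F19634))
theorem Q7811 : ∀ i, i < 7811 → P i := stepQ 7810 Q7810 (allL N7810 (tt N7640 (iv1 F19662)) (tt N4693 F19661) (tt N3721 F19637) (tt N7600 F19638) (tt N15103 (iv4 F37863)) (tt N8125 (iv5 F20304)) (tt N3719 (iv6 D11916)) (tt N15950 D25086))
theorem Q7812 : ∀ i, i < 7812 → P i := stepQ 7811 Q7811 (allL N7811 (tt N7577 (iv1 F19639)) (tt N3720 (iv0 D11917)) (tt N7583 F20288) (tt N15951 D25087) (tt N15952 D25088) (tt N8940 (iv5 F22279)) (tt N15953 D25089) (tt N7582 F20286))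
theorem Q7813 : ∀ i, i < 7813 → P i := stepQ 7812 Q7812 (allL N7812 (tt N3720 (iv1 D11918)) (tt N7577 F19640) (tt N7582 (iv2 F20285)) (tt N7876 (iv3 F19801)) (tt N15954 D25090) (tt N3881 F19641) (tt N15955 D25091) (tt N7583 (iv7 F20287)))
theorem Q7814 : ∀ i, i < 7814 → P i := stepQ 7813 Q7813 (allL N7813 (tt N15956 D25092) (tt N15957 D25093) (tt N15948 (iv2 F39399)) (tt N15958 D25094) (tt N3720 (iv4 D11919)) (tt N15959 D25095) (tt N15960 D25096) (tt N7584 F19642))
theorem Q7815 : ∀ i, i < 7815 → P i := stepQ 7814 Q7814 (allL N7814 (tt N15961 D25097) (tt N15922 (iv0 F39309)) (tt N15949 (iv2 F39403)) (tt N3723 F19643) (tt N15960 (iv4 F39434)) (tt N9951 (iv5 F24221)) (tt N3720 (iv6 D11920)) (tt N15962 D25098))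
theorem Q7816 : ∀ i, i < 7816 → P i := stepQ 7815 Q7815 (allL N7815 (tt N15950 (iv1 F39411)) (tt N3721 (iv0 D11921)) (tt N7640 (iv2 F19648)) (tt N15963 D25099) (tt N7669 F19649) (tt N3882 (iv5 F19655)) (tt N15502 F38562) (tt N4693 F19656))
theorem Q7817 : ∀ i, i < 7817 → P i := stepQ 7816 Q7816 (allL N7816 (tt N3721 (iv1 D11922)) (tt N15950 F39410) (tt N4693 (iv2 F19650)) (tt N3752 (iv3 F19644)) (tt N3764 (iv4 F19645)) (tt N3883 F19651) (tt N4524 F19646) (tt N7640 F19647))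
theorem Q7818 : ∀ i, i < 7818 → P i := stepQ 7817 Q7817 (allL N7817 (tt N4693 (iv1 F19660)) (tt N7640 (iv0 F19659)) (tt N15950 (iv2 F39406)) (tt N3725 F19657) (tt N15111 (iv4 F37875)) (tt N8126 (iv5 F20314)) (tt N7588 F19658) (tt N3721 (iv7 D11923)))
theorem Q7819 : ∀ i, i < 7819 → P i := stepQ 7818 Q7818 (allL N7818 (tt N15964 D25100) (tt N15965 D25101) (tt N15966 D25102) (tt N3722 (iv3 D11924)) (tt N15958 (iv4 F39431)) (tt N7825 (iv5 F19682)) (tt N15967 D25103) (tt N7592 F19663))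
theorem Q7820 : ∀ i, i < 7820 → P i := stepQ 7819 Q7819 (allL N7819 (tt N15707 (iv1 F38858)) (tt N15669 (iv0 F38794)) (tt N7607 F19664) (tt N15967 (iv3 F39450)) (tt N3723 F19665) (tt N15968 D25104) (tt N3722 (iv6 D11925)) (tt N15969 D25105))
theorem Q7821 : ∀ i, i < 7821 → P i := stepQ 7820 Q7820 (allL N7820 (tt N7610 (iv1 F19668)) (tt N3723 (iv0 D11926)) (tt N7608 F19671) (tt N15872 (iv3 F79381)) (tt N15970 D25107) (tt N11112 (iv5 F26179)) (tt N15938 (iv6 F39344)) (tt N7590 F19670))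
theorem Q7822 : ∀ i, i < 7822 → P i := stepQ 7821 Q7821 (allL N7821 (tt N7590 (iv1 F19669)) (tt N7608 F19673) (tt N7610 F19666) (tt N15962 (iv3 F39435)) (tt N15969 (iv4 F39453)) (tt N9957 (iv5 F24226)) (tt N7596 F19667) (tt N3723 (iv7 D11927)))
theorem Q7823 : ∀ i, i < 7823 → P i := stepQ 7822 Q7822 (allL N7822 (tt N7598 (iv1 F19679)) (tt N5260 (iv0 F22441)) (tt N3726 (iv2 D11930)) (tt N7612 F19675) (tt N15971 D25108) (tt N8971 (iv5 F22361)) (tt N15972 D25109) (tt N7621 F19676))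
theorem Q7824 : ∀ i, i < 7824 → P i := stepQ 7823 Q7823 (allL N7823 (tt N15973 D25110) (tt N15974 D25111) (tt N15971 (iv2 F39463)) (tt N15975 D25112) (tt N3726 (iv4 D11931)) (tt N15976 D25113) (tt N15977 D25114) (tt N7622 F19680))
theorem Q7825 : ∀ i, i < 7825 → P i := stepQ 7824 Q7824 (allL N7824 (tt N15978 D25115) (tt N15979 D25116) (tt N15972 (iv2 F39467)) (tt N3728 F19681) (tt N15977 (iv4 F39480)) (tt N10021 (iv5 F24321)) (tt N3726 (iv6 D11932)) (tt N15980 D25117))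
theorem Q7826 : ∀ i, i < 7826 → P i := stepQ 7825 Q7825 (allL N7825 (tt N15981 D25118) (tt N15982 D25119) (tt N15983 D25120) (tt N3727 (iv3 D11933)) (tt N15975 (iv4 F39477)) (tt N7818 F19682) (tt N15984 D25121) (tt N7624 F19683))
theorem Q7827 : ∀ i, i < 7827 → P i := stepQ 7826 Q7826 (allL N7826 (tt N15985 D25122) (tt N15986 D25123) (tt N7616 F19684) (tt N15984 (iv3 F39490)) (tt N3728 F19685) (tt N15987 D25124) (tt N3727 (iv6 D11934)) (tt N15988 D25125))
theorem Q7828 : ∀ i, i < 7828 → P i := stepQ 7827 Q7827 (allL N7827 (tt N7620 (iv1 F19689)) (tt N3728 (iv0 D11935)) (tt N7617 (iv2 F39517)) (tt N15989 D25127) (tt N11926 (iv4 F325088)) (tt N15990 D25129) (tt N7627 F23784) (tt N7618 F39516))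
theorem Q7829 : ∀ i, i < 7829 → P i := stepQ 7828 Q7828 (allL N7828 (tt N3728 (iv1 D11936)) (tt N7620 F19686) (tt N7618 F39515) (tt N15881 F168244) (tt N15991 D25132) (tt N15992 D25133) (tt N15993 D25134) (tt N7617 (iv7 F39518)))
theorem Q7830 : ∀ i, i < 7830 → P i := stepQ 7829 Q7829 (allL N7829 (tt N7618 (iv1 F19690)) (tt N7617 F19691) (tt N7620 F19687) (tt N15980 (iv3 F39481)) (tt N15988 (iv4 F39495)) (tt N8168 F20407) (tt N7628 F19688) (tt N3728 (iv7 D11937)))
theorem Q7831 : ∀ i, i < 7831 → P i := stepQ 7830 Q7830 (allL N7830 (tt N4686 (iv1 F20248)) (tt N7576 (iv0 F20249)) (tt N3729 (iv2 D11938)) (tt N7621 F19692) (tt N15994 D25135) (tt N8109 F20246) (tt N15995 D25136) (tt N7612 F19693))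
theorem Q7832 : ∀ i, i < 7832 → P i := stepQ 7831 Q7831 (allL N7831 (tt N15996 D25137) (tt N15997 D25138) (tt N15994 (iv2 F39547)) (tt N15998 D25139) (tt N3729 (iv4 D11939)) (tt N15999 D25140) (tt N16000 D25141) (tt N7613 F19696))
theorem Q7833 : ∀ i, i < 7833 → P i := stepQ 7832 Q7832 (allL N7832 (tt N16001 D25142) (tt N16002 D25143) (tt N15995 (iv2 F39551)) (tt N3731 F19697) (tt N16000 (iv4 F39558)) (tt N9298 (iv5 F23075)) (tt N3729 (iv6 D11940)) (tt N16003 D25144))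
theorem Q7834 : ∀ i, i < 7834 → P i := stepQ 7833 Q7833 (allL N7833 (tt N16004 D25145) (tt N16005 D25146) (tt N16006 D25147) (tt N3730 (iv3 D11941)) (tt N15998 (iv4 F39555)) (tt N7803 F19698) (tt N5946 (iv6 F323996)) (tt N7615 F19699))
theorem Q7835 : ∀ i, i < 7835 → P i := stepQ 7834 Q7834 (allL N7834 (tt N16007 D25149) (tt N11817 (iv0 F324951)) (tt N7625 F19700) (tt N5946 (iv3 F323995)) (tt N3731 F19701) (tt N11758 (iv5 F324231)) (tt N3730 (iv6 D11942)) (tt N16008 D25152))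
theorem Q7836 : ∀ i, i < 7836 → P i := stepQ 7835 Q7835 (allL N7835 (tt N7628 (iv1 F19705)) (tt N3731 (iv0 D11943)) (tt N7626 F39522) (tt N15889 F163895) (tt N5597 (iv4 F323810)) (tt N9610 (iv5 F23701)) (tt N16009 D25155) (tt N7627 F39523))
theorem Q7837 : ∀ i, i < 7837 → P i := stepQ 7836 Q7836 (allL N7836 (tt N3731 (iv1 D11944)) (tt N7628 F19702) (tt N7627 F39519) (tt N16010 D25156) (tt N5566 (iv4 F324979)) (tt N9611 F23702) (tt N7617 (iv6 F23703)) (tt N7626 F39520))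
theorem Q7838 : ∀ i, i < 7838 → P i := stepQ 7837 Q7837 (allL N7837 (tt N7627 (iv1 F19706)) (tt N7626 F19707) (tt N7628 F19703) (tt N16003 (iv3 F39559)) (tt N16008 (iv4 F39573)) (tt N9308 (iv5 F23092)) (tt N7620 F19704) (tt N3731 (iv7 D11945)))
theorem Q7839 : ∀ i, i < 7839 → P i := stepQ 7838 Q7838 (allL N7838 (tt N16011 D25158) (tt N16012 D25159) (tt N16013 D25160) (tt N3732 (iv3 D11946)) (tt N16014 D25161) (tt N7891 (iv5 F19839)) (tt N5616 (iv6 F323051)) (tt N5633 F321431))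
theorem Q7840 : ∀ i, i < 7840 → P i := stepQ 7839 Q7839 (allL N7839 (tt N11926 (iv1 F325087)) (tt N15991 (iv0 F47802)) (tt N7630 F19709) (tt N5616 F324190) (tt N4276 F19710) (tt N5590 (iv5 F324266)) (tt N3732 (iv6 D11947)) (tt N5589 (iv7 F325086)))
theorem Q7841 : ∀ i, i < 7841 → P i := stepQ 7840 Q7840 (allL N7840 (tt N16015 D25167) (tt N16016 D25168) (tt N16017 D25169) (tt N3733 (iv3 D11948)) (tt N16018 D25170) (tt N7860 (iv5 F19752)) (tt N11838 (iv6 F323905)) (tt N7629 F19711))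
theorem Q7842 : ∀ i, i < 7842 → P i := stepQ 7841 Q7841 (allL N7841 (tt N5597 F324222) (tt N5566 (iv0 F324978)) (tt N5599 F324223) (tt N11838 F324224) (tt N4278 F19713) (tt N5576 F324225) (tt N3733 (iv6 D11949)) (tt N5575 F324226))
theorem Q7843 : ∀ i, i < 7843 → P i := stepQ 7842 Q7842 (allL N7842 (tt N15619 (iv1 F38701)) (tt N3734 (iv0 D11950)) (tt N15621 (iv2 F170426)) (tt N16019 D25177) (tt N16020 D25178) (tt N16021 D25179) (tt N16022 D25180) (tt N15620 F170425))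
theorem Q7844 : ∀ i, i < 7844 → P i := stepQ 7843 Q7843 (allL N7843 (tt N3734 (iv1 D11951)) (tt N15619 F38700) (tt N15620 F170423) (tt N16023 D25182) (tt N16024 D25183) (tt N16025 D25184) (tt N16026 D25185) (tt N15621 (iv7 F170427)))
theorem Q7845 : ∀ i, i < 7845 → P i := stepQ 7844 Q7844 (allL N7844 (tt N15621 (iv1 F38703)) (tt N15620 F38702) (tt N3734 (iv2 D11952)) (tt N7633 F19714) (tt N15903 (iv4 F39263)) (tt N15608 (iv5 F38690)) (tt N7633 F19715) (tt N15619 (iv7 F38699)))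
theorem Q7846 : ∀ i, i < 7846 → P i := stepQ 7845 Q7845 (allL N7845 (tt N3735 (iv1 F19716)) (tt N3735 (iv0 D11953)) (tt N7638 (iv2 F49021)) (tt N16027 D25187) (tt N16028 D25188) (tt N16029 D25189) (tt N16030 D25190) (tt N7638 (iv7 F49022)))
theorem Q7847 : ∀ i, i < 7847 → P i := stepQ 7846 Q7846 (allL N7846 (tt N4267 F19721) (tt N7185 (iv0 F19720)) (tt N9983 (iv2 F24266)) (tt N3736 (iv3 D11954)) (tt N7363 F19719) (tt N16031 D25191) (tt N7846 F19717) (tt N7461 F19718))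
theorem Q7848 : ∀ i, i < 7848 → P i := stepQ 7847 Q7847 (allL N7847 (tt N7767 F19725) (tt N7151 (iv0 F19726)) (tt N7644 F19722) (tt N8160 (iv3 F20378)) (tt N3736 (iv4 D11955)) (tt N16032 D25192) (tt N7847 F19723) (tt N7462 F19724))
theorem Q7849 : ∀ i, i < 7849 → P i := stepQ 7848 Q7848 (allL N7848 (tt N8961 F22341) (tt N4275 F22342) (tt N7671 F19727) (tt N16031 (iv3 F39634)) (tt N16033 D25193) (tt N3736 (iv5 D11956)) (tt N16034 D25194) (tt N7463 F19728))
theorem Q7850 : ∀ i, i < 7850 → P i := stepQ 7849 Q7849 (allL N7849 (tt N7675 (iv1 F19732)) (tt N7674 F19734) (tt N3738 F19729) (tt N7647 F19730) (tt N16035 D25195) (tt N3737 (iv5 D11957)) (tt N16036 D25196) (tt N7672 F19731))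
theorem Q7851 : ∀ i, i < 7851 → P i := stepQ 7850 Q7850 (allL N7850 (tt N7476 (iv1 F23856)) (tt N15701 (iv0 F38846)) (tt N3739 F19735) (tt N7648 F19736) (tt N7790 F19737) (tt N8995 F22422) (tt N3737 (iv6 D11958)) (tt N16037 D25197))
theorem Q7852 : ∀ i, i < 7852 → P i := stepQ 7851 Q7851 (allL N7851 (tt N7672 (iv1 F19738)) (tt N3738 (iv0 D11959)) (tt N7675 F22579) (tt N16038 D25198) (tt N16039 D25199) (tt N7685 (iv5 F22576)) (tt N16040 D25200) (tt N7674 (iv7 F22581)))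
theorem Q7853 : ∀ i, i < 7853 → P i := stepQ 7852 Q7852 (allL N7852 (tt N3738 (iv1 D11960)) (tt N7672 F19739) (tt N7674 (iv2 F22583)) (tt N9985 F38834) (tt N16041 D25201) (tt N7686 (iv5 F22584)) (tt N16042 D25202) (tt N7675 F22582))
theorem Q7854 : ∀ i, i < 7854 → P i := stepQ 7853 Q7853 (allL N7853 (tt N16043 D25203) (tt N16044 D25204) (tt N16035 (iv2 F39654)) (tt N16045 D25205) (tt N3738 (iv4 D11961)) (tt N16046 D25206) (tt N16047 D25207) (tt N7676 F19740))
theorem Q7855 : ∀ i, i < 7855 → P i := stepQ 7854 Q7854 (allL N7854 (tt N16048 D25208) (tt N16049 D25209) (tt N16036 (iv2 F39658)) (tt N3742 F19741) (tt N16047 (iv4 F39695)) (tt N9452 (iv5 F23358)) (tt N3738 (iv6 D11962)) (tt N16050 D25210))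
theorem Q7856 : ∀ i, i < 7856 → P i := stepQ 7855 Q7855 (allL N7855 (tt N16037 (iv1 F39666)) (tt N3739 (iv0 D11963)) (tt N7476 (iv2 F23864)) (tt N16051 D25211) (tt N16052 D25212) (tt N9216 (iv5 F23861)) (tt N7466 F23863) (tt N15701 (iv7 F38845)))
theorem Q7857 : ∀ i, i < 7857 → P i := stepQ 7856 Q7856 (allL N7856 (tt N3739 (iv1 D11964)) (tt N16037 F39665) (tt N15701 (iv2 F38844)) (tt N16053 D25213) (tt N16054 D25214) (tt N9217 F23870) (tt N15684 (iv6 F38817)) (tt N7476 F23866))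
theorem Q7858 : ∀ i, i < 7858 → P i := stepQ 7857 Q7857 (allL N7857 (tt N15701 F38848) (tt N7476 (iv0 F38151)) (tt N16037 (iv2 F39660)) (tt N3744 F19742) (tt N7797 F19743) (tt N4446 F19744) (tt N7680 F19745) (tt N3739 (iv7 D11965)))
theorem Q7859 : ∀ i, i < 7859 → P i := stepQ 7858 Q7858 (allL N7858 (tt N4265 (iv1 F22211)) (tt N4269 F22212) (tt N16055 D25215) (tt N3740 (iv3 D11966)) (tt N16056 D25216) (tt N7667 F19746) (tt N16057 D25217) (tt N7656 F19747))
theorem Q7860 : ∀ i, i < 7860 → P i := stepQ 7859 Q7859 (allL N7859 (tt N3761 F19750) (tt N7684 F19751) (tt N7661 F19748) (tt N16057 (iv3 F39718)) (tt N15526 (iv4 F38606)) (tt N7434 F19749) (tt N3740 (iv6 D11967)) (tt N7683 (iv7 F19851)))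
theorem Q7861 : ∀ i, i < 7861 → P i := stepQ 7860 Q7860 (allL N7860 (tt N16058 D25218) (tt N11870 F320726) (tt N11848 (iv2 F321415)) (tt N3741 (iv3 D11968)) (tt N16045 (iv4 F39692)) (tt N7840 F19752) (tt N11721 (iv6 F322488)) (tt N7681 F19753))
theorem Q7862 : ∀ i, i < 7862 → P i := stepQ 7861 Q7861 (allL N7861 (tt N8644 (iv1 F324958)) (tt N8643 (iv0 F324960)) (tt N7663 F19754) (tt N11721 F323904) (tt N3742 F19755) (tt N5565 (iv5 F324963)) (tt N3741 (iv6 D11969)) (tt N8627 (iv7 F324844)))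
theorem Q7863 : ∀ i, i < 7863 → P i := stepQ 7862 Q7862 (allL N7862 (tt N7666 (iv1 F19759)) (tt N3742 (iv0 D11970)) (tt N7664 (iv2 F45355)) (tt N16059 D25227) (tt N15531 F79865) (tt N9231 F23002) (tt N7664 (iv6 F23003)) (tt N7665 F45354))
theorem Q7864 : ∀ i, i < 7864 → P i := stepQ 7863 Q7863 (allL N7863 (tt N3742 (iv1 D11971)) (tt N7666 F19756) (tt N7665 F45353) (tt N16060 D25230) (tt N15532 F79869) (tt N9230 (iv5 F23001)) (tt N16061 D25232) (tt N7664 (iv7 F45356)))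
theorem Q7865 : ∀ i, i < 7865 → P i := stepQ 7864 Q7864 (allL N7864 (tt N7665 (iv1 F19760)) (tt N7664 F19761) (tt N7666 F19757) (tt N16050 (iv3 F39696)) (tt N8627 F324969) (tt N9458 (iv5 F23372)) (tt N7684 F19758) (tt N3742 (iv7 D11972)))
theorem Q7866 : ∀ i, i < 7866 → P i := stepQ 7865 Q7865 (allL N7865 (tt N4266 F22227) (tt N16062 D25233) (tt N16063 D25234) (tt N3743 (iv3 D11973)) (tt N7865 F19762) (tt N9194 F22959) (tt N4934 F19763) (tt N7486 F19764))
theorem Q7867 : ∀ i, i < 7867 → P i := stepQ 7866 Q7866 (allL N7866 (tt N3752 F19768) (tt N4285 F19769) (tt N7391 F19765) (tt N9994 (iv3 F24285)) (tt N3745 (iv4 D11974)) (tt N7357 F19767) (tt N7955 (iv6 F19990)) (tt N7146 F19766))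
theorem Q7868 : ∀ i, i < 7868 → P i := stepQ 7867 Q7867 (allL N7867 (tt N4606 F19773) (tt N9949 (iv0 F24216)) (tt N15461 F38520) (tt N3746 (iv3 D11975)) (tt N9994 (iv4 F24287)) (tt N7544 F19770) (tt N4769 F19771) (tt N3895 F19772))
theorem Q7869 : ∀ i, i < 7869 → P i := stepQ 7868 Q7868 (allL N7868 (tt N7687 (iv1 F19775)) (tt N3747 (iv0 D11976)) (tt N7686 F22593) (tt N16064 D25235) (tt N16065 D25236) (tt N7674 (iv5 F22592)) (tt N9014 (iv6 F22632)) (tt N7685 F22594))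
theorem Q7870 : ∀ i, i < 7870 → P i := stepQ 7869 Q7869 (allL N7869 (tt N7686 (iv1 F19780)) (tt N7685 F19778) (tt N3747 (iv2 D11978)) (tt N7669 F19776) (tt N8971 (iv4 F22360)) (tt N8915 (iv5 F22241)) (tt N16066 D25237) (tt N7687 F19777))
theorem Q7871 : ∀ i, i < 7871 → P i := stepQ 7870 Q7870 (allL N7870 (tt N4334 F22625) (tt N15709 (iv0 F38864)) (tt N16066 (iv2 F39765)) (tt N3748 F19781) (tt N4711 (iv4 F22553)) (tt N15275 F38156) (tt N3747 (iv6 D11979)) (tt N4531 F19783))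
theorem Q7872 : ∀ i, i < 7872 → P i := stepQ 7871 Q7871 (allL N7871 (tt N4283 (iv1 F19785)) (tt N3750 (iv0 D11980)) (tt N7357 (iv2 F19786)) (tt N9774 F24007) (tt N10259 (iv4 F24586)) (tt N7391 F19784) (tt N16067 D25238) (tt N7356 (iv7 F19787)))
theorem Q7873 : ∀ i, i < 7873 → P i := stepQ 7872 Q7872 (allL N7872 (tt N3750 (iv1 D11981)) (tt N4283 F19788) (tt N7356 (iv2 F19791)) (tt N8146 F20338) (tt N10260 (iv4 F24589)) (tt N7146 F19790) (tt N16068 D25239) (tt N7357 F19789))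
theorem Q7874 : ∀ i, i < 7874 → P i := stepQ 7873 Q7873 (allL N7873 (tt N15151 (iv1 F37923)) (tt N15148 (iv0 F37914)) (tt N7367 F19792) (tt N16069 D25240) (tt N3750 (iv4 D11982)) (tt N14947 (iv5 F37507)) (tt N16070 D25241) (tt N7358 F19793))
theorem Q7875 : ∀ i, i < 7875 → P i := stepQ 7874 Q7874 (allL N7874 (tt N16071 D25242) (tt N16072 D25243) (tt N7368 F19794) (tt N8133 (iv3 F20324)) (tt N16070 (iv4 F39778)) (tt N16073 D25244) (tt N3750 (iv6 D11983)) (tt N16074 D25245))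
theorem Q7876 : ∀ i, i < 7876 → P i := stepQ 7875 Q7875 (allL N7875 (tt N7371 (iv1 F19799)) (tt N3751 (iv0 D11984)) (tt N7369 (iv2 F19797)) (tt N16075 D25246) (tt N7236 F19796) (tt N7147 F19795) (tt N8937 F22267) (tt N7284 F19798))
theorem Q7877 : ∀ i, i < 7877 → P i := stepQ 7876 Q7876 (allL N7876 (tt N3802 F19802) (tt N3799 F19803) (tt N7370 F19800) (tt N7812 F19801) (tt N16076 D25247) (tt N3751 (iv5 D11985)) (tt N16073 (iv6 F39782)) (tt N14690 (iv7 F36888)))
theorem Q7878 : ∀ i, i < 7878 → P i := stepQ 7877 Q7877 (allL N7877 (tt N7284 (iv1 F19807)) (tt N7369 F19808) (tt N7371 F19804) (tt N8134 (iv3 F20325)) (tt N3755 F19805) (tt N14690 (iv5 F36889)) (tt N7362 F19806) (tt N3751 (iv7 D11986)))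
theorem Q7879 : ∀ i, i < 7879 → P i := stepQ 7878 Q7878 (allL N7878 (tt N7250 F19810) (tt N4353 F19811) (tt N4872 F19809) (tt N16077 D25248) (tt N3754 (iv4 D11987)) (tt N16078 D25249) (tt N7905 (iv6 F19873)) (tt N9068 (iv7 F22701)))
theorem Q7880 : ∀ i, i < 7880 → P i := stepQ 7879 Q7879 (allL N7879 (tt N7712 (iv1 F19817)) (tt N4331 (iv0 F19816)) (tt N7645 F19812) (tt N3926 F19813) (tt N3756 (iv4 D11988)) (tt N16079 D25250) (tt N7879 F19814) (tt N4416 F19815))
theorem Q7881 : ∀ i, i < 7881 → P i := stepQ 7880 Q7880 (allL N7880 (tt N4277 (iv1 F19820)) (tt N8955 F22324) (tt N7646 F19818) (tt N9924 (iv3 F24174)) (tt N16080 D25251) (tt N3756 (iv5 D11989)) (tt N16081 D25252) (tt N7417 F19819))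
theorem Q7882 : ∀ i, i < 7882 → P i := stepQ 7881 Q7881 (allL N7881 (tt N7650 (iv1 F19825)) (tt N7649 F19826) (tt N3758 F19822) (tt N7672 F19823) (tt N16082 D25253) (tt N3757 (iv5 D11990)) (tt N16083 D25254) (tt N7647 F19824))
theorem Q7883 : ∀ i, i < 7883 → P i := stepQ 7882 Q7882 (allL N7882 (tt N15658 F38770) (tt N7425 F37081) (tt N3759 F19827) (tt N7673 F19828) (tt N8119 (iv4 F20283)) (tt N14772 (iv5 F37104)) (tt N3757 (iv6 D11991)) (tt N16084 D25255))
theorem Q7884 : ∀ i, i < 7884 → P i := stepQ 7883 Q7883 (allL N7883 (tt N7647 (iv1 F19829)) (tt N3758 (iv0 D11992)) (tt N7650 F20280) (tt N16085 D25256) (tt N16086 D25257) (tt N7668 F20310) (tt N16087 D25258) (tt N7649 F20278))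
theorem Q7885 : ∀ i, i < 7885 → P i := stepQ 7884 Q7884 (allL N7884 (tt N3758 (iv1 D11993)) (tt N7647 F19830) (tt N7649 (iv2 F20276)) (tt N16088 D25259) (tt N16089 D25260) (tt N7190 F19831) (tt N16090 D25261) (tt N7650 (iv7 F20279)))
theorem Q7886 : ∀ i, i < 7886 → P i := stepQ 7885 Q7885 (allL N7885 (tt N16091 D25262) (tt N16092 D25263) (tt N16082 (iv2 F39814)) (tt N16093 D25264) (tt N3758 (iv4 D11994)) (tt N16094 D25265) (tt N16095 D25266) (tt N7651 F19832))
theorem Q7887 : ∀ i, i < 7887 → P i := stepQ 7886 Q7886 (allL N7886 (tt N16096 D25267) (tt N16042 (iv0 F39684)) (tt N16083 (iv2 F39818)) (tt N3761 F19833) (tt N16095 (iv4 F39865)) (tt N16097 D25268) (tt N3758 (iv6 D11995)) (tt N16098 D25269))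
theorem Q7888 : ∀ i, i < 7888 → P i := stepQ 7887 Q7887 (allL N7887 (tt N16084 (iv1 F39827)) (tt N3759 (iv0 D11996)) (tt N15658 (iv2 F38765)) (tt N16099 D25270) (tt N16100 D25271) (tt N7191 (iv5 F37093)) (tt N15640 F38742) (tt N7425 F37094))
theorem Q7889 : ∀ i, i < 7889 → P i := stepQ 7888 Q7888 (allL N7888 (tt N3759 (iv1 D11997)) (tt N16084 F39826) (tt N7425 (iv2 F24294)) (tt N9579 (iv3 F24290)) (tt N16101 D25272) (tt N7192 F24295) (tt N7418 F24291) (tt N15658 (iv7 F38767)))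
theorem Q7890 : ∀ i, i < 7890 → P i := stepQ 7889 Q7889 (allL N7889 (tt N14763 F37073) (tt N14762 (iv0 F37068)) (tt N14772 F37105) (tt N3762 F19834) (tt N16102 D25273) (tt N3759 (iv5 D11998)) (tt N16097 (iv6 F39867)) (tt N4861 (iv7 F19835)))
theorem Q7891 : ∀ i, i < 7891 → P i := stepQ 7890 Q7890 (allL N7890 (tt N7425 F37080) (tt N15658 (iv0 F38768)) (tt N16084 (iv2 F39821)) (tt N3763 F19836) (tt N8134 (iv4 F20326)) (tt N4861 F19837) (tt N7655 F19838) (tt N3759 (iv7 D11999)))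
theorem Q7892 : ∀ i, i < 7892 → P i := stepQ 7891 Q7891 (allL N7891 (tt N11899 F323036) (tt N11702 F323037) (tt N11879 F323038) (tt N3760 (iv3 D12000)) (tt N16093 (iv4 F39862)) (tt N7838 F19839) (tt N8653 (iv6 F324444)) (tt N7662 F19840))
theorem Q7893 : ∀ i, i < 7893 → P i := stepQ 7892 Q7892 (allL N7892 (tt N15970 (iv1 F39462)) (tt N15940 (iv0 F39352)) (tt N7682 F19841) (tt N8653 (iv3 F324443)) (tt N3761 F19842) (tt N8640 (iv5 F324690)) (tt N3760 (iv6 D12001)) (tt N8639 (iv7 F324815)))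
theorem Q7894 : ∀ i, i < 7894 → P i := stepQ 7893 Q7893 (allL N7893 (tt N7684 (iv1 F19847)) (tt N3761 (iv0 D12002)) (tt N7683 F19850) (tt N16103 D25280) (tt N15556 (iv4 F38856)) (tt N15310 (iv5 F38213)) (tt N10284 (iv6 F24614)) (tt N7661 F19849))
theorem Q7895 : ∀ i, i < 7895 → P i := stepQ 7894 Q7894 (allL N7894 (tt N16104 D25281) (tt N16105 D25282) (tt N4860 F19843) (tt N16097 (iv3 F39866)) (tt N9963 (iv4 F24234)) (tt N3761 (iv5 D12003)) (tt N3762 F19844) (tt N16106 D25283))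
theorem Q7896 : ∀ i, i < 7896 → P i := stepQ 7895 Q7895 (allL N7895 (tt N7661 (iv1 F19848)) (tt N7683 F19852) (tt N7684 F19845) (tt N16098 (iv3 F39868)) (tt N8639 (iv4 F324814)) (tt N16106 (iv5 F39909)) (tt N7666 F19846) (tt N3761 (iv7 D12004)))
theorem Q7897 : ∀ i, i < 7897 → P i := stepQ 7896 Q7896 (allL N7896 (tt N7669 (iv1 F19853)) (tt N3764 (iv0 D12005)) (tt N7190 (iv2 F20275)) (tt N9019 (iv3 F22645)) (tt N16107 D25284) (tt N7649 F20273) (tt N7181 F20274) (tt N7668 (iv7 F20308)))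
theorem Q7898 : ∀ i, i < 7898 → P i := stepQ 7897 Q7897 (allL N7897 (tt N3764 (iv1 D12006)) (tt N7669 F19859) (tt N7668 F20309) (tt N16108 D25285) (tt N16109 D25286) (tt N7650 F20281) (tt N10193 F24497) (tt N7190 F20277))
theorem Q7899 : ∀ i, i < 7899 → P i := stepQ 7898 Q7898 (allL N7898 (tt N7190 (iv1 F20307)) (tt N7668 F19858) (tt N3764 (iv2 D12007)) (tt N7687 F19854) (tt N4693 F19855) (tt N8921 (iv5 F22246)) (tt N4523 F19856) (tt N7669 F19857))
theorem Q7900 : ∀ i, i < 7900 → P i := stepQ 7899 Q7899 (allL N7899 (tt N15242 (iv1 F54268)) (tt N16110 D25288) (tt N16111 D25289) (tt N3765 (iv3 D12008)) (tt N16077 (iv4 F39801)) (tt N10308 (iv5 F24635)) (tt N8975 (iv6 F22374)) (tt N4879 F19861))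
theorem Q7901 : ∀ i, i < 7901 → P i := stepQ 7900 Q7900 (allL N7900 (tt N9399 (iv1 F23238)) (tt N11143 F27059) (tt N7481 F19862) (tt N7720 F19863) (tt N16112 D25290) (tt N3766 (iv5 D12009)) (tt N16113 D25291) (tt N7913 (iv7 F19885)))
theorem Q7902 : ∀ i, i < 7902 → P i := stepQ 7901 Q7901 (allL N7901 (tt N7916 (iv1 F19893)) (tt N3767 (iv0 D12010)) (tt N7489 (iv2 F19865)) (tt N7721 F19866) (tt N16114 D25292) (tt N7727 F19864) (tt N16115 D25293) (tt N7726 F19867))
theorem Q7903 : ∀ i, i < 7903 → P i := stepQ 7902 Q7902 (allL N7902 (tt N16116 D25294) (tt N16117 D25295) (tt N7915 (iv2 F19889)) (tt N16118 D25296) (tt N3767 (iv4 D12011)) (tt N16119 D25297) (tt N9180 (iv6 F22853)) (tt N16120 D25298))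
theorem Q7904 : ∀ i, i < 7904 → P i := stepQ 7903 Q7903 (allL N7903 (tt N7726 (iv1 F19869)) (tt N7489 F19870) (tt N7916 (iv2 F19890)) (tt N9640 (iv3 F23751)) (tt N16120 (iv4 F39952)) (tt N3768 F19868) (tt N16121 D25299) (tt N3767 (iv7 D12012)))
theorem Q7905 : ∀ i, i < 7905 → P i := stepQ 7904 Q7904 (allL N7904 (tt N9498 (iv1 F23458)) (tt N9497 F23455) (tt N4459 F19871) (tt N9415 (iv3 F23268)) (tt N16122 D25300) (tt N3769 (iv5 D12013)) (tt N16123 D25301) (tt N7917 (iv7 F19896)))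
theorem Q7906 : ∀ i, i < 7906 → P i := stepQ 7905 Q7905 (allL N7905 (tt N9506 (iv1 F23481)) (tt N9505 F23478) (tt N4462 F19872) (tt N16124 D25302) (tt N3770 (iv4 D12014)) (tt N16125 D25303) (tt N7878 F19873) (tt N7919 (iv7 F19905)))
theorem Q7907 : ∀ i, i < 7907 → P i := stepQ 7906 Q7906 (allL N7906 (tt N9528 (iv1 F23546)) (tt N3851 F19876) (tt N4483 F19874) (tt N9540 (iv3 F23579)) (tt N3771 (iv4 D12015)) (tt N16126 D25304) (tt N11808 (iv6 F28416)) (tt N7643 F19875))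
theorem Q7908 : ∀ i, i < 7908 → P i := stepQ 7907 Q7907 (allL N7907 (tt N7924 (iv1 F19919)) (tt N3772 (iv0 D12016)) (tt N7920 F19907) (tt N16127 D25305) (tt N7231 F19877) (tt N16128 D25306) (tt N16129 D25307) (tt N7921 (iv7 F19911)))
theorem Q7909 : ∀ i, i < 7909 → P i := stepQ 7908 Q7908 (allL N7908 (tt N16130 D25308) (tt N16131 D25309) (tt N16132 D25310) (tt N3772 (iv3 D12017)) (tt N4004 F19878) (tt N16133 D25311) (tt N3842 F19879) (tt N16134 D25312))
theorem Q7910 : ∀ i, i < 7910 → P i := stepQ 7909 Q7909 (allL N7909 (tt N16135 D25313) (tt N14975 (iv0 F37556)) (tt N7923 (iv2 F19915)) (tt N16133 (iv3 F39973)) (tt N16136 D25314) (tt N3772 (iv5 D12018)) (tt N16137 D25315) (tt N16138 D25316))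
theorem Q7911 : ∀ i, i < 7911 → P i := stepQ 7910 Q7910 (allL N7910 (tt N7921 (iv1 F19910)) (tt N7920 F19909) (tt N7924 (iv2 F19916)) (tt N16134 (iv3 F39974)) (tt N3773 F19880) (tt N16138 (iv5 F39979)) (tt N9107 (iv6 F22754)) (tt N3772 (iv7 D12019)))
theorem Q7912 : ∀ i, i < 7912 → P i := stepQ 7911 Q7911 (allL N7911 (tt N16139 D25317) (tt N16140 D25318) (tt N15813 (iv2 F39083)) (tt N3776 F19881) (tt N16141 D25319) (tt N3774 (iv5 D12020)) (tt N9181 (iv6 F22855)) (tt N16142 D25320))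
theorem Q7913 : ∀ i, i < 7913 → P i := stepQ 7912 Q7912 (allL N7912 (tt N9585 F23689) (tt N7422 (iv0 F19940)) (tt N15271 F38142) (tt N3777 F19882) (tt N7931 (iv4 F19933)) (tt N16142 (iv5 F39987)) (tt N7912 F19883) (tt N3774 (iv7 D12021)))
theorem Q7914 : ∀ i, i < 7914 → P i := stepQ 7913 Q7913 (allL N7913 (tt N15160 (iv1 F37941)) (tt N14987 (iv0 F37575)) (tt N5305 F19884) (tt N8872 (iv3 F22141)) (tt N16143 D25321) (tt N3775 (iv5 D12022)) (tt N16144 D25322) (tt N7900 F19885))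
theorem Q7915 : ∀ i, i < 7915 → P i := stepQ 7914 Q7914 (allL N7914 (tt N14710 (iv1 F36951)) (tt N3810 (iv0 F19888)) (tt N5306 F19886) (tt N8873 (iv3 F22144)) (tt N4310 F19887) (tt N9391 (iv5 F23227)) (tt N3775 (iv6 D12023)) (tt N9059 (iv7 F22686)))
theorem Q7916 : ∀ i, i < 7916 → P i := stepQ 7915 Q7915 (allL N7915 (tt N16145 D25323) (tt N15100 (iv0 F37854)) (tt N7902 F19889) (tt N16146 D25324) (tt N3776 (iv4 D12024)) (tt N16147 D25325) (tt N9182 (iv6 F22857)) (tt N16148 D25326))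
theorem Q7917 : ∀ i, i < 7917 → P i := stepQ 7916 Q7916 (allL N7916 (tt N7389 (iv1 F19892)) (tt N7901 F19893) (tt N7903 F19890) (tt N16142 (iv3 F39986)) (tt N16148 (iv4 F39999)) (tt N3777 F19891) (tt N16149 D25327) (tt N3776 (iv7 D12025)))
theorem Q7918 : ∀ i, i < 7918 → P i := stepQ 7917 Q7917 (allL N7917 (tt N9285 (iv1 F23052)) (tt N9284 F23051) (tt N4559 F19894) (tt N4694 F19895) (tt N16150 D25328) (tt N3778 (iv5 D12026)) (tt N16151 D25329) (tt N7904 F19896))
theorem Q7919 : ∀ i, i < 7919 → P i := stepQ 7918 Q7918 (allL N7918 (tt N14693 (iv1 F36900)) (tt N3800 (iv0 F19901)) (tt N4560 F19897) (tt N4695 F19898) (tt N3780 F19899) (tt N15000 (iv5 F37615)) (tt N3778 (iv6 D12027)) (tt N7641 F19900))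
theorem Q7920 : ∀ i, i < 7920 → P i := stepQ 7919 Q7919 (allL N7919 (tt N9292 (iv1 F23067)) (tt N9291 F23066) (tt N4563 F19903) (tt N11419 (iv3 F27759)) (tt N3779 (iv4 D12028)) (tt N16152 D25330) (tt N5655 F19904) (tt N7905 F19905))
theorem Q7921 : ∀ i, i < 7921 → P i := stepQ 7920 Q7920 (allL N7920 (tt N7910 (iv1 F19909)) (tt N3781 (iv0 D12029)) (tt N7907 (iv2 F19907)) (tt N15004 (iv3 F37630)) (tt N4311 F19906) (tt N16153 D25331) (tt N16154 D25332) (tt N7395 (iv7 F19908)))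
theorem Q7922 : ∀ i, i < 7922 → P i := stepQ 7921 Q7921 (allL N7921 (tt N3781 (iv1 D12030)) (tt N7910 F19910) (tt N7395 (iv2 F19913)) (tt N16155 D25333) (tt N4312 F19912) (tt N16156 D25334) (tt N15005 (iv6 F37635)) (tt N7907 F19911))
theorem Q7923 : ∀ i, i < 7923 → P i := stepQ 7922 Q7922 (allL N7922 (tt N14036 (iv1 F55475)) (tt N16157 D25336) (tt N16158 D25337) (tt N3781 (iv3 D12031)) (tt N13551 (iv4 F65513)) (tt N16159 D25338) (tt N7167 F19914) (tt N16160 D25339))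
theorem Q7924 : ∀ i, i < 7924 → P i := stepQ 7923 Q7923 (allL N7923 (tt N16161 D25340) (tt N16162 D25341) (tt N7909 F19915) (tt N16159 (iv3 F40033)) (tt N16163 D25342) (tt N3781 (iv5 D12032)) (tt N16164 D25343) (tt N16165 D25344))
theorem Q7925 : ∀ i, i < 7925 → P i := stepQ 7924 Q7924 (allL N7924 (tt N7395 (iv1 F19918)) (tt N7907 F19919) (tt N7910 F19916) (tt N16160 (iv3 F40034)) (tt N3782 F19917) (tt N16165 (iv5 F40051)) (tt N8056 (iv6 F20177)) (tt N3781 (iv7 D12033)))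
theorem Q7926 : ∀ i, i < 7926 → P i := stepQ 7925 Q7925 (allL N7925 (tt N9732 (iv1 F37486)) (tt N9844 (iv0 F37484)) (tt N7932 (iv2 F19942)) (tt N4595 F19920) (tt N16166 D25345) (tt N3783 (iv5 D12034)) (tt N3784 F19921) (tt N9805 (iv7 F24036)))
theorem Q7927 : ∀ i, i < 7927 → P i := stepQ 7926 Q7926 (allL N7926 (tt N7935 (iv1 F19952)) (tt N3784 (iv0 D12035)) (tt N7933 F19945) (tt N9720 F23905) (tt N16116 (iv4 F39948)) (tt N7362 F19922) (tt N16167 D25346) (tt N7361 (iv7 F19923)))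
theorem Q7928 : ∀ i, i < 7928 → P i := stepQ 7927 Q7927 (allL N7927 (tt N3784 (iv1 D12036)) (tt N7935 F19951) (tt N7361 F19925) (tt N15509 (iv3 F38589)) (tt N16117 (iv4 F39950)) (tt N4284 (iv5 F19924)) (tt N16168 D25347) (tt N7933 (iv7 F19946)))
theorem Q7929 : ∀ i, i < 7929 → P i := stepQ 7928 Q7928 (allL N7928 (tt N15306 (iv1 F38207)) (tt N15781 (iv0 F39051)) (tt N7934 (iv2 F19948)) (tt N16169 D25348) (tt N3784 (iv4 D12037)) (tt N16170 D25349) (tt N16166 (iv6 F40054)) (tt N16171 D25350))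
theorem Q7930 : ∀ i, i < 7930 → P i := stepQ 7929 Q7929 (allL N7929 (tt N7361 (iv1 F19928)) (tt N7933 F19947) (tt N7935 (iv2 F19949)) (tt N7742 F19926) (tt N16171 (iv4 F40059)) (tt N3785 F19927) (tt N16172 D25351) (tt N3784 (iv7 D12038)))
theorem Q7931 : ∀ i, i < 7931 → P i := stepQ 7930 Q7930 (allL N7930 (tt N11075 F26096) (tt N9788 (iv0 F24020)) (tt N7744 F19929) (tt N3788 F19930) (tt N16173 D25352) (tt N3786 (iv5 D12039)) (tt N9747 (iv6 F23948)) (tt N16174 D25353))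
theorem Q7932 : ∀ i, i < 7932 → P i := stepQ 7931 Q7931 (allL N7931 (tt N5271 (iv1 F19938)) (tt N5267 (iv0 F19939)) (tt N7745 F19931) (tt N3789 F19932) (tt N7912 F19933) (tt N16174 (iv5 F40068)) (tt N7931 F19934) (tt N3786 (iv7 D12040)))
theorem Q7933 : ∀ i, i < 7933 → P i := stepQ 7932 Q7932 (allL N7932 (tt N16175 D25354) (tt N4728 (iv0 F19944)) (tt N7925 F19942) (tt N9747 (iv3 F23947)) (tt N16176 D25355) (tt N3787 (iv5 D12041)) (tt N3788 F19943) (tt N10138 (iv7 F24418)))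
theorem Q7934 : ∀ i, i < 7934 → P i := stepQ 7933 Q7933 (allL N7933 (tt N7929 (iv1 F19947)) (tt N3788 (iv0 D12042)) (tt N7926 (iv2 F19945)) (tt N15363 (iv3 F38321)) (tt N16145 (iv4 F39991)) (tt N8938 (iv5 F22271)) (tt N16177 D25356) (tt N7927 F19946))
theorem Q7935 : ∀ i, i < 7935 → P i := stepQ 7934 Q7934 (allL N7934 (tt N16114 (iv1 F39945)) (tt N15161 (iv0 F37942)) (tt N7928 F19948) (tt N16178 D25357) (tt N3788 (iv4 D12043)) (tt N16179 D25358) (tt N16176 (iv6 F40076)) (tt N16180 D25359))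
theorem Q7936 : ∀ i, i < 7936 → P i := stepQ 7935 Q7935 (allL N7935 (tt N7927 (iv1 F19951)) (tt N7926 F19952) (tt N7929 F19949) (tt N16174 (iv3 F40067)) (tt N16180 (iv4 F40082)) (tt N3789 F19950) (tt N16181 D25360) (tt N3788 (iv7 D12044)))
theorem Q7937 : ∀ i, i < 7937 → P i := stepQ 7936 Q7936 (allL N7936 (tt N9761 (iv1 F38594)) (tt N15509 (iv0 F38591)) (tt N7518 F19953) (tt N7273 F19954) (tt N16182 D25361) (tt N3790 (iv5 D12045)) (tt N7271 F19955) (tt N16183 D25362))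
theorem Q7938 : ∀ i, i < 7938 → P i := stepQ 7937 Q7937 (allL N7937 (tt N7517 (iv1 F19959)) (tt N4458 F19960) (tt N7519 F19956) (tt N7274 F19957) (tt N15729 (iv4 F38913)) (tt N16183 (iv5 F40092)) (tt N7937 F19958) (tt N3790 (iv7 D12046)))
theorem Q7939 : ∀ i, i < 7939 → P i := stepQ 7938 Q7938 (allL N7938 (tt N15393 (iv1 F38534)) (tt N15467 F38532) (tt N3794 F19961) (tt N4685 F19962) (tt N16184 D25363) (tt N3791 (iv5 D12047)) (tt N11056 (iv6 F25999)) (tt N15428 (iv7 F38458)))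
theorem Q7940 : ∀ i, i < 7940 → P i := stepQ 7939 Q7939 (allL N7939 (tt N14696 F37381) (tt N7778 (iv0 F23805)) (tt N11056 (iv2 F25997)) (tt N3797 F19963) (tt N16185 D25364) (tt N3792 (iv5 D12050)) (tt N3794 F19964) (tt N15913 (iv7 F39276)))
theorem Q7941 : ∀ i, i < 7941 → P i := stepQ 7940 Q7940 (allL N7940 (tt N7645 F19971) (tt N4416 (iv0 F19972)) (tt N4331 F19968) (tt N7704 F19969) (tt N3793 (iv4 D12052)) (tt N16186 D25365) (tt N16187 D25366) (tt N7712 F19970))
theorem Q7942 : ∀ i, i < 7942 → P i := stepQ 7941 Q7941 (allL N7941 (tt N15434 (iv1 F38477)) (tt N15433 F38474) (tt N15384 (iv2 F38376)) (tt N8888 (iv3 F22203)) (tt N16188 D25367) (tt N3793 (iv5 D12053)) (tt N16189 D25368) (tt N15429 (iv7 F38463)))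
theorem Q7943 : ∀ i, i < 7943 → P i := stepQ 7942 Q7942 (allL N7942 (tt N15362 F38315) (tt N16190 D25369) (tt N15385 (iv2 F38380)) (tt N8889 (iv3 F22205)) (tt N16187 (iv4 F40105)) (tt N16191 D25370) (tt N3793 (iv6 D12054)) (tt N16192 D25371))
theorem Q7944 : ∀ i, i < 7944 → P i := stepQ 7943 Q7943 (allL N7943 (tt N15428 (iv1 F38459)) (tt N3794 (iv0 D12055)) (tt N15393 (iv2 F38407)) (tt N14684 F38408) (tt N16193 D25372) (tt N15108 (iv5 F38409)) (tt N16194 D25373) (tt N15467 (iv7 F38531)))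
theorem Q7945 : ∀ i, i < 7945 → P i := stepQ 7944 Q7944 (allL N7944 (tt N16195 D25374) (tt N8922 (iv0 F22249)) (tt N16184 (iv2 F40095)) (tt N16196 D25375) (tt N3794 (iv4 D12057)) (tt N16197 D25376) (tt N16185 (iv6 F40097)) (tt N16198 D25377))
theorem Q7946 : ∀ i, i < 7946 → P i := stepQ 7945 Q7945 (allL N7945 (tt N15467 (iv1 F38533)) (tt N15393 F38535) (tt N15428 (iv2 F38456)) (tt N3807 F19973) (tt N16198 (iv4 F40124)) (tt N3795 F19974) (tt N16199 D25378) (tt N3794 (iv7 D12058)))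
theorem Q7947 : ∀ i, i < 7947 → P i := stepQ 7946 Q7946 (allL N7946 (tt N15404 (iv1 F38432)) (tt N9813 F24052) (tt N8898 F22568) (tt N15429 (iv3 F38462)) (tt N16200 D25379) (tt N3796 (iv5 D12067)) (tt N16201 D25380) (tt N8888 (iv7 F22569)))
theorem Q7948 : ∀ i, i < 7948 → P i := stepQ 7947 Q7947 (allL N7947 (tt N16202 D25381) (tt N7346 F37786) (tt N8899 (iv2 F22567)) (tt N15430 (iv3 F38466)) (tt N8881 F22566) (tt N16203 D25382) (tt N3796 (iv6 D12068)) (tt N16204 D25383))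
theorem Q7949 : ∀ i, i < 7949 → P i := stepQ 7948 Q7948 (allL N7948 (tt N3797 (iv1 D12070)) (tt N14687 F36875) (tt N14685 (iv2 F36857)) (tt N15467 (iv3 F38529)) (tt N16205 D25384) (tt N9192 (iv5 F22954)) (tt N16206 D25385) (tt N14684 (iv7 F36862)))
theorem Q7950 : ∀ i, i < 7950 → P i := stepQ 7949 Q7949 (allL N7949 (tt N8904 F36869) (tt N8907 F22570) (tt N14686 (iv2 F36870)) (tt N16207 D25386) (tt N3797 (iv4 D12071)) (tt N16208 D25387) (tt N3806 F19977) (tt N16209 D25388))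
theorem Q7951 : ∀ i, i < 7951 → P i := stepQ 7950 Q7950 (allL N7950 (tt N14685 (iv1 F36855)) (tt N14684 F36864) (tt N14687 (iv2 F36872)) (tt N15913 (iv3 F39275)) (tt N16209 (iv4 F40154)) (tt N3798 F19978) (tt N16210 D25389) (tt N3797 (iv7 D12072)))
theorem Q7952 : ∀ i, i < 7952 → P i := stepQ 7951 Q7951 (allL N7951 (tt N3799 (iv1 D12073)) (tt N3802 F19979) (tt N14690 F36890) (tt N15433 F38475) (tt N16211 D25390) (tt N7371 F19981) (tt N16212 D25391) (tt N7370 F19980))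
theorem Q7953 : ∀ i, i < 7953 → P i := stepQ 7952 Q7952 (allL N7952 (tt N10269 (iv1 F24604)) (tt N16213 D25392) (tt N14691 (iv2 F36892)) (tt N16214 D25393) (tt N3799 (iv4 D12074)) (tt N16215 D25394) (tt N16216 D25395) (tt N14694 (iv7 F36908)))
theorem Q7954 : ∀ i, i < 7954 → P i := stepQ 7953 Q7953 (allL N7953 (tt N16217 D25396) (tt N16218 D25397) (tt N14692 (iv2 F36894)) (tt N7763 F19982) (tt N16216 (iv4 F40170)) (tt N15032 (iv5 F37705)) (tt N3799 (iv6 D12075)) (tt N16219 D25398))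
theorem Q7955 : ∀ i, i < 7955 → P i := stepQ 7954 Q7954 (allL N7954 (tt N3800 (iv1 D12076)) (tt N14693 F36899) (tt N7641 F19986) (tt N16190 F40112) (tt N3814 F19984) (tt N15001 (iv5 F37622)) (tt N4285 (iv6 F19985)) (tt N4560 F19983))
theorem Q7956 : ∀ i, i < 7956 → P i := stepQ 7955 Q7955 (allL N7955 (tt N7641 (iv1 F19991)) (tt N4560 F19992) (tt N14693 (iv2 F36895)) (tt N7766 F19987) (tt N4357 F19988) (tt N7335 F19989) (tt N7866 F19990) (tt N3800 (iv7 D12077)))
theorem Q7957 : ∀ i, i < 7957 → P i := stepQ 7956 Q7956 (allL N7956 (tt N15541 F38623) (tt N16220 D25399) (tt N7768 F19994) (tt N3802 F19995) (tt N16221 D25400) (tt N3801 (iv5 D12078)) (tt N16222 D25401) (tt N14688 (iv7 F36878)))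
theorem Q7958 : ∀ i, i < 7958 → P i := stepQ 7957 Q7957 (allL N7957 (tt N9830 F24081) (tt N11066 F26080) (tt N7769 F19996) (tt N3803 F19997) (tt N7983 (iv4 F20030)) (tt N9783 (iv5 F24002)) (tt N3801 (iv6 D12079)) (tt N15162 (iv7 F37944)))
theorem Q7959 : ∀ i, i < 7959 → P i := stepQ 7958 Q7958 (allL N7958 (tt N16213 (iv1 F40162)) (tt N10269 (iv0 F24603)) (tt N14694 (iv2 F36907)) (tt N16223 D25402) (tt N3802 (iv4 D12080)) (tt N16224 D25403) (tt N16225 D25404) (tt N14691 (iv7 F36893)))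
theorem Q7960 : ∀ i, i < 7960 → P i := stepQ 7959 Q7959 (allL N7959 (tt N16226 D25405) (tt N16227 D25406) (tt N14695 (iv2 F36909)) (tt N16222 (iv3 F40181)) (tt N16225 (iv4 F40185)) (tt N15091 (iv5 F37843)) (tt N3802 (iv6 D12081)) (tt N16228 D25407))
theorem Q7961 : ∀ i, i < 7961 → P i := stepQ 7960 Q7960 (allL N7960 (tt N8953 (iv1 F22316)) (tt N7248 F19998) (tt N8949 F22307) (tt N16229 D25408) (tt N3804 (iv4 D12082)) (tt N16230 D25409) (tt N16231 D25410) (tt N8950 (iv7 F22309)))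
theorem Q7962 : ∀ i, i < 7962 → P i := stepQ 7961 Q7961 (allL N7961 (tt N16232 D25411) (tt N16233 D25412) (tt N14697 (iv2 F36911)) (tt N7777 F19999) (tt N16231 (iv4 F40191)) (tt N16234 D25413) (tt N3804 (iv6 D12083)) (tt N16235 D25414))
theorem Q7963 : ∀ i, i < 7963 → P i := stepQ 7962 Q7962 (allL N7962 (tt N11056 F26000) (tt N15913 (iv0 F39277)) (tt N7778 F20000) (tt N3805 (iv3 D12084)) (tt N16236 D25415) (tt N9687 F23820) (tt N16237 D25416) (tt N14696 (iv7 F36910)))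
theorem Q7964 : ∀ i, i < 7964 → P i := stepQ 7963 Q7963 (allL N7963 (tt N7248 F20001) (tt N8953 F22315) (tt N8950 F22311) (tt N16238 D25417) (tt N3805 (iv4 D12085)) (tt N16239 D25418) (tt N16240 D25419) (tt N8949 F22308))
theorem Q7965 : ∀ i, i < 7965 → P i := stepQ 7964 Q7964 (allL N7964 (tt N16241 D25420) (tt N16242 D25421) (tt N14698 (iv2 F36912)) (tt N16237 (iv3 F40200)) (tt N16240 (iv4 F40202)) (tt N14955 (iv5 F37523)) (tt N3805 (iv6 D12086)) (tt N16243 D25422))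
theorem Q7966 : ∀ i, i < 7966 → P i := stepQ 7965 Q7965 (allL N7965 (tt N14703 (iv1 F36928)) (tt N3806 (iv0 D12087)) (tt N14699 F36914) (tt N16244 D25423) (tt N4296 F20002) (tt N16245 D25424) (tt N16246 D25425) (tt N14700 (iv7 F36918)))
theorem Q7967 : ∀ i, i < 7967 → P i := stepQ 7966 Q7966 (allL N7966 (tt N3806 (iv1 D12088)) (tt N14703 F36927) (tt N14700 F36920) (tt N16247 D25426) (tt N4297 F20003) (tt N16248 D25427) (tt N16249 D25428) (tt N14699 F36915))
theorem Q7968 : ∀ i, i < 7968 → P i := stepQ 7967 Q7967 (allL N7967 (tt N16250 D25429) (tt N16251 D25430) (tt N16252 D25431) (tt N3806 (iv3 D12089)) (tt N16196 (iv4 F40122)) (tt N16253 D25432) (tt N16207 (iv6 F40153)) (tt N16254 D25433))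
theorem Q7969 : ∀ i, i < 7969 → P i := stepQ 7968 Q7968 (allL N7968 (tt N16255 D25434) (tt N16256 D25435) (tt N14702 (iv2 F36921)) (tt N16253 (iv3 F40207)) (tt N14730 (iv4 F36998)) (tt N3806 (iv5 D12090)) (tt N16257 D25436) (tt N14728 F36994))
theorem Q7970 : ∀ i, i < 7970 → P i := stepQ 7969 Q7969 (allL N7969 (tt N14700 (iv1 F36917)) (tt N14699 F36916) (tt N14703 (iv2 F36924)) (tt N16254 (iv3 F40208)) (tt N3807 F20004) (tt N14728 (iv5 F36993)) (tt N16258 D25437) (tt N3806 (iv7 D12091)))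
theorem Q7971 : ∀ i, i < 7971 → P i := stepQ 7970 Q7970 (allL N7970 (tt N16259 D25438) (tt N16260 D25439) (tt N14704 (iv2 F36929)) (tt N16199 (iv3 F40126)) (tt N16258 (iv4 F40215)) (tt N7970 F20005) (tt N3807 (iv6 D12092)) (tt N16210 (iv7 F40156)))
theorem Q7972 : ∀ i, i < 7972 → P i := stepQ 7971 Q7971 (allL N7971 (tt N15689 (iv1 F38829)) (tt N16261 D25440) (tt N15047 (iv2 F37737)) (tt N3809 F20006) (tt N16262 D25441) (tt N3808 (iv5 D12093)) (tt N16263 D25442) (tt N4789 F20007))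
theorem Q7973 : ∀ i, i < 7973 → P i := stepQ 7972 Q7972 (allL N7972 (tt N15279 (iv1 F40227)) (tt N16264 D25444) (tt N15048 (iv2 F37742)) (tt N3810 F20008) (tt N3887 F20009) (tt N14991 (iv5 F37588)) (tt N3808 (iv6 D12094)) (tt N16265 D25445))
theorem Q7974 : ∀ i, i < 7974 → P i := stepQ 7973 Q7973 (allL N7973 (tt N16076 (iv1 F39800)) (tt N16211 (iv0 F40158)) (tt N14708 (iv2 F36942)) (tt N16266 D25446) (tt N3809 (iv4 D12095)) (tt N16255 (iv5 F40209)) (tt N16267 D25447) (tt N9066 (iv7 F22697)))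
theorem Q7975 : ∀ i, i < 7975 → P i := stepQ 7974 Q7974 (allL N7974 (tt N16268 D25448) (tt N15674 F164084) (tt N14709 (iv2 F36944)) (tt N16263 (iv3 F40223)) (tt N16267 (iv4 F40235)) (tt N14993 (iv5 F37596)) (tt N3809 (iv6 D12096)) (tt N16269 D25450))
theorem Q7976 : ∀ i, i < 7976 → P i := stepQ 7975 Q7975 (allL N7975 (tt N9059 F22688) (tt N5306 (iv0 F20013)) (tt N14710 (iv2 F36946)) (tt N16265 (iv3 F40228)) (tt N3815 F20010) (tt N4518 F20011) (tt N7392 F20012) (tt N3810 (iv7 D12097)))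
theorem Q7977 : ∀ i, i < 7977 → P i := stepQ 7976 Q7976 (allL N7976 (tt N4353 F20016) (tt N7250 F20017) (tt N9068 (iv2 F22699)) (tt N16270 D25451) (tt N3811 (iv4 D12098)) (tt N16271 D25452) (tt N5073 F20014) (tt N4872 F20015))
theorem Q7978 : ∀ i, i < 7978 → P i := stepQ 7977 Q7977 (allL N7977 (tt N3812 (iv1 D12099)) (tt N3819 F20018) (tt N9055 (iv2 F22674)) (tt N5453 F27038) (tt N4899 F20019) (tt N16272 D25453) (tt N5451 (iv6 F26352)) (tt N9054 (iv7 F22671)))
theorem Q7979 : ∀ i, i < 7979 → P i := stepQ 7978 Q7978 (allL N7978 (tt N16273 D25454) (tt N16274 D25455) (tt N16275 D25456) (tt N3812 (iv3 D12100)) (tt N7201 F20021) (tt N16276 D25457) (tt N16277 D25458) (tt N9069 (iv7 F22705)))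
theorem Q7980 : ∀ i, i < 7980 → P i := stepQ 7979 Q7979 (allL N7979 (tt N14912 (iv1 F37415)) (tt N7239 F20022) (tt N14712 (iv2 F36953)) (tt N16276 (iv3 F40247)) (tt N16256 (iv4 F40214)) (tt N3812 (iv5 D12101)) (tt N16278 D25459) (tt N9070 (iv7 F22707)))
theorem Q7981 : ∀ i, i < 7981 → P i := stepQ 7980 Q7980 (allL N7980 (tt N16279 D25460) (tt N16280 D25461) (tt N14713 (iv2 F36956)) (tt N16277 (iv3 F40248)) (tt N3813 F20023) (tt N16281 D25462) (tt N3812 (iv6 D12102)) (tt N15019 (iv7 F37673)))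
theorem Q7982 : ∀ i, i < 7982 → P i := stepQ 7981 Q7981 (allL N7981 (tt N3813 (iv1 D12103)) (tt N7692 F20024) (tt N9109 (iv2 F22761)) (tt N3925 F20027) (tt N16282 D25463) (tt N3847 (iv5 F20026)) (tt N11045 (iv6 F25935)) (tt N4891 F20025))
theorem Q7983 : ∀ i, i < 7983 → P i := stepQ 7982 Q7982 (allL N7982 (tt N16283 D25464) (tt N15642 (iv0 F40160)) (tt N15861 (iv2 F39201)) (tt N3817 F20028) (tt N16284 D25465) (tt N3816 (iv5 D12104)) (tt N16285 D25466) (tt N14706 (iv7 F36937)))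
theorem Q7984 : ∀ i, i < 7984 → P i := stepQ 7983 Q7983 (allL N7983 (tt N15700 F39412) (tt N15198 (iv0 F38023)) (tt N15862 (iv2 F39203)) (tt N3818 F20029) (tt N7957 F20030) (tt N10256 (iv5 F24581)) (tt N3816 (iv6 D12105)) (tt N15631 (iv7 F38718)))
theorem Q7985 : ∀ i, i < 7985 → P i := stepQ 7984 Q7984 (allL N7984 (tt N16211 (iv1 F40159)) (tt N16076 (iv0 F39799)) (tt N9066 (iv2 F22696)) (tt N16286 D25467) (tt N3817 (iv4 D12106)) (tt N16256 (iv5 F40213)) (tt N16287 D25468) (tt N14708 (iv7 F36943)))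
theorem Q7986 : ∀ i, i < 7986 → P i := stepQ 7985 Q7985 (allL N7985 (tt N15706 (iv1 F45884)) (tt N16288 D25470) (tt N9067 (iv2 F22698)) (tt N16285 (iv3 F40265)) (tt N16287 (iv4 F40266)) (tt N10258 (iv5 F24585)) (tt N3817 (iv6 D12107)) (tt N16289 D25471))
theorem Q7987 : ∀ i, i < 7987 → P i := stepQ 7986 Q7986 (allL N7986 (tt N16290 D25472) (tt N16291 D25473) (tt N16292 D25474) (tt N3819 (iv3 D12108)) (tt N14902 (iv4 F37384)) (tt N16293 D25475) (tt N15016 (iv6 F37665)) (tt N14711 (iv7 F36952)))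
theorem Q7988 : ∀ i, i < 7988 → P i := stepQ 7987 Q7987 (allL N7987 (tt N7239 F20031) (tt N14912 F37414) (tt N9070 (iv2 F22706)) (tt N16293 (iv3 F40271)) (tt N16255 (iv4 F40210)) (tt N3819 (iv5 D12109)) (tt N16294 D25476) (tt N14712 (iv7 F36954)))
theorem Q7989 : ∀ i, i < 7989 → P i := stepQ 7988 Q7988 (allL N7988 (tt N16295 D25477) (tt N16296 D25478) (tt N16297 D25479) (tt N3820 (iv3 D12110)) (tt N3945 F20032) (tt N16298 D25480) (tt N16299 D25481) (tt N4960 F20033))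
theorem Q7990 : ∀ i, i < 7990 → P i := stepQ 7989 Q7989 (allL N7989 (tt N16300 D25482) (tt N16301 D25483) (tt N14715 (iv2 F36960)) (tt N16298 (iv3 F40279)) (tt N16248 (iv4 F40205)) (tt N3820 (iv5 D12111)) (tt N16302 D25484) (tt N9076 (iv7 F22714)))
theorem Q7991 : ∀ i, i < 7991 → P i := stepQ 7990 Q7990 (allL N7990 (tt N16303 D25485) (tt N7238 (iv0 F26921)) (tt N14716 (iv2 F36962)) (tt N16299 (iv3 F40282)) (tt N3821 F20034) (tt N16304 D25486) (tt N3820 (iv6 D12112)) (tt N16305 D25487))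
theorem Q7992 : ∀ i, i < 7992 → P i := stepQ 7991 Q7991 (allL N7991 (tt N11448 F27814) (tt N3821 (iv0 D12113)) (tt N4935 (iv2 F20036)) (tt N4367 (iv3 F20037)) (tt N16306 D25488) (tt N11507 (iv5 F27903)) (tt N3848 F20035) (tt N11507 (iv7 F27904)))
theorem Q7993 : ∀ i, i < 7993 → P i := stepQ 7992 Q7992 (allL N7992 (tt N3821 (iv1 D12114)) (tt N11448 (iv0 F27813)) (tt N11507 (iv2 F27901)) (tt N3938 F20041) (tt N16307 D25489) (tt N4935 (iv5 F20039)) (tt N5050 (iv6 F20040)) (tt N4935 F20038))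
theorem Q7994 : ∀ i, i < 7994 → P i := stepQ 7993 Q7993 (allL N7993 (tt N11507 F27906) (tt N4935 (iv0 F20044)) (tt N11448 (iv2 F27809)) (tt N5486 F20042) (tt N16305 (iv4 F40300)) (tt N4997 F20043) (tt N9078 (iv6 F22719)) (tt N3821 (iv7 D12115)))
theorem Q7995 : ∀ i, i < 7995 → P i := stepQ 7994 Q7994 (allL N7994 (tt N16308 D25490) (tt N16309 D25491) (tt N13229 (iv2 F31818)) (tt N3822 (iv3 D12116)) (tt N8001 (iv4 F20054)) (tt N16310 D25492) (tt N6520 F27049) (tt N14714 (iv7 F36959)))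
theorem Q7996 : ∀ i, i < 7996 → P i := stepQ 7995 Q7995 (allL N7995 (tt N16301 (iv1 F40289)) (tt N16300 F40286) (tt N9076 (iv2 F22713)) (tt N16310 (iv3 F40311)) (tt N16245 (iv4 F40203)) (tt N3822 (iv5 D12117)) (tt N16311 D25493) (tt N14715 (iv7 F36961)))
theorem Q7997 : ∀ i, i < 7997 → P i := stepQ 7996 Q7996 (allL N7996 (tt N16312 D25494) (tt N16129 F39970) (tt N9077 (iv2 F22715)) (tt N6520 (iv3 F27046)) (tt N3823 F20045) (tt N6519 F27050) (tt N3822 (iv6 D12118)) (tt N13211 (iv7 F31790)))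
theorem Q7998 : ∀ i, i < 7998 → P i := stepQ 7997 Q7997 (allL N7997 (tt N9078 (iv1 F22721)) (tt N3823 (iv0 D12119)) (tt N5656 (iv2 F20048)) (tt N3943 F20049) (tt N16313 D25495) (tt N3840 F20047) (tt N4564 F20046) (tt N4484 F20050))
theorem Q7999 : ∀ i, i < 7999 → P i := stepQ 7998 Q7998 (allL N7998 (tt N4484 (iv1 F20051)) (tt N5656 F20052) (tt N9078 (iv2 F22717)) (tt N14904 (iv3 F37394)) (tt N13211 F31791) (tt N8103 (iv5 F20228)) (tt N11448 (iv6 F27811)) (tt N3823 (iv7 D12120)))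
theorem Q8000 : ∀ i, i < 8000 → P i := stepQ 7999 Q7999 (allL N7999 (tt N16314 D25496) (tt N10197 (iv0 F24512)) (tt N14718 (iv2 F36966)) (tt N10345 (iv3 F24699)) (tt N16239 (iv4 F40201)) (tt N3824 (iv5 D12121)) (tt N16315 D25497) (tt N14720 (iv7 F36972)))
theorem Q8001 : ∀ i, i < 8001 → P i := stepQ 8000 Q8000 (allL N8000 (tt N16306 F40305) (tt N16307 (iv0 F40309)) (tt N14719 (iv2 F36968)) (tt N10346 (iv3 F24700)) (tt N4366 F20053) (tt N16316 D25498) (tt N3824 (iv6 D12122)) (tt N16317 D25499))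
theorem Q8002 : ∀ i, i < 8002 → P i := stepQ 8001 Q8001 (allL N8001 (tt N16318 D25500) (tt N16319 D25501) (tt N13238 (iv2 F31834)) (tt N3825 (iv3 D12123)) (tt N7994 F20054) (tt N16320 D25502) (tt N6532 (iv6 F27048)) (tt N14717 (iv7 F36965)))
theorem Q8003 : ∀ i, i < 8003 → P i := stepQ 8002 Q8002 (allL N8002 (tt N10197 (iv1 F24513)) (tt N16314 F40327) (tt N14720 (iv2 F36971)) (tt N16320 (iv3 F40332)) (tt N16230 (iv4 F40190)) (tt N3825 (iv5 D12124)) (tt N16321 D25503) (tt N14718 (iv7 F36967)))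
theorem Q8004 : ∀ i, i < 8004 → P i := stepQ 8003 Q8003 (allL N8003 (tt N16313 (iv1 F40324)) (tt N11808 (iv0 F28418)) (tt N14721 (iv2 F36973)) (tt N6532 F27045) (tt N7251 F20055) (tt N6531 (iv5 F27047)) (tt N3825 (iv6 D12125)) (tt N13243 (iv7 F31842)))
theorem Q8005 : ∀ i, i < 8005 → P i := stepQ 8004 Q8004 (allL N8004 (tt N16322 D25504) (tt N3826 (iv0 D12126)) (tt N16323 D25505) (tt N16324 D25506) (tt N16325 D25507) (tt N16326 D25508) (tt N16327 D25509) (tt N16328 D25510))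
theorem Q8006 : ∀ i, i < 8006 → P i := stepQ 8005 Q8005 (allL N8005 (tt N3826 (iv1 D12127)) (tt N16322 F40339) (tt N16328 (iv2 F40343)) (tt N16329 D25511) (tt N16330 D25512) (tt N16331 D25513) (tt N16332 D25514) (tt N16323 F40341))
theorem Q8007 : ∀ i, i < 8007 → P i := stepQ 8006 Q8006 (allL N8006 (tt N16323 (iv1 F54327)) (tt N16328 (iv0 F54330)) (tt N3826 (iv2 D12128)) (tt N14723 (iv3 F36978)) (tt N3953 F20056) (tt N16333 D25517) (tt N3857 F20057) (tt N16322 (iv7 F40338)))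
theorem Q8008 : ∀ i, i < 8008 → P i := stepQ 8007 Q8007 (allL N8007 (tt N16334 D25518) (tt N16335 D25519) (tt N16333 (iv2 F40348)) (tt N3827 F20058) (tt N16336 D25520) (tt N3826 (iv5 D12129)) (tt N16337 D25521) (tt N16338 D25522))
theorem Q8009 : ∀ i, i < 8009 → P i := stepQ 8008 Q8008 (allL N8008 (tt N16328 (iv1 F54331)) (tt N16323 (iv0 F54326)) (tt N16322 F40336) (tt N3828 F20059) (tt N3955 F20060) (tt N16338 (iv5 F40352)) (tt N16339 D25523) (tt N3826 (iv7 D12130)))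
theorem Q8010 : ∀ i, i < 8010 → P i := stepQ 8009 Q8009 (allL N8009 (tt N14730 (iv1 F37001)) (tt N3827 (iv0 D12131)) (tt N14726 F36985) (tt N16340 D25524) (tt N16224 (iv4 F40182)) (tt N4353 F20061) (tt N16341 D25525) (tt N14727 (iv7 F36989)))
theorem Q8011 : ∀ i, i < 8011 → P i := stepQ 8010 Q8010 (allL N8010 (tt N3827 (iv1 D12132)) (tt N14730 F37000) (tt N14727 F36991) (tt N16342 D25526) (tt N16215 (iv4 F40167)) (tt N7250 F20062) (tt N16343 D25527) (tt N14726 F36986))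
theorem Q8012 : ∀ i, i < 8012 → P i := stepQ 8011 Q8011 (allL N8011 (tt N16256 (iv1 F40212)) (tt N16255 F40211) (tt N14728 (iv2 F36992)) (tt N16344 D25528) (tt N3827 (iv4 D12133)) (tt N14703 (iv5 F36926)) (tt N16345 D25529) (tt N14702 F36923))
theorem Q8013 : ∀ i, i < 8013 → P i := stepQ 8012 Q8012 (allL N8012 (tt N16346 D25530) (tt N16347 D25531) (tt N14729 (iv2 F36995)) (tt N16337 (iv3 F40349)) (tt N16345 (iv4 F40359)) (tt N3862 F20063) (tt N3827 (iv6 D12134)) (tt N16348 D25532))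
theorem Q8014 : ∀ i, i < 8014 → P i := stepQ 8013 Q8013 (allL N8013 (tt N14727 (iv1 F36988)) (tt N14726 F36987) (tt N14730 (iv2 F36997)) (tt N16338 (iv3 F40351)) (tt N14702 (iv4 F36922)) (tt N3828 F20064) (tt N16349 D25533) (tt N3827 (iv7 D12135)))
theorem Q8015 : ∀ i, i < 8015 → P i := stepQ 8014 Q8014 (allL N8014 (tt N11365 (iv1 F27617)) (tt N11364 (iv0 F27616)) (tt N11367 (iv2 F27622)) (tt N16339 (iv3 F40354)) (tt N3829 F20065) (tt N16350 D25534) (tt N3828 (iv6 D12136)) (tt N3864 F20066))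
theorem Q8016 : ∀ i, i < 8016 → P i := stepQ 8015 Q8015 (allL N8015 (tt N16351 D25535) (tt N16352 D25536) (tt N16353 D25537) (tt N3830 (iv3 D12137)) (tt N8015 F20067) (tt N16354 D25538) (tt N16355 D25539) (tt N5457 F20068))
theorem Q8017 : ∀ i, i < 8017 → P i := stepQ 8016 Q8016 (allL N8016 (tt N7168 F20072) (tt N4382 F20073) (tt N5452 F20069) (tt N16354 (iv3 F40371)) (tt N5458 F20071) (tt N3830 (iv5 D12138)) (tt N16356 D25540) (tt N5458 F20070))
theorem Q8018 : ∀ i, i < 8018 → P i := stepQ 8017 Q8017 (allL N8017 (tt N11447 (iv1 F27820)) (tt N11449 (iv0 F27819)) (tt N5453 F20074) (tt N16355 (iv3 F40373)) (tt N4114 F20075) (tt N16357 D25541) (tt N3830 (iv6 D12139)) (tt N15030 (iv7 F37701)))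
theorem Q8019 : ∀ i, i < 8019 → P i := stepQ 8018 Q8018 (allL N8018 (tt N5654 F26341) (tt N3839 F26342) (tt N5652 F26343) (tt N3831 (iv3 D12140)) (tt N4118 F26344) (tt N16358 D25542) (tt N7298 F20077) (tt N5451 F20078))
theorem Q8020 : ∀ i, i < 8020 → P i := stepQ 8019 Q8019 (allL N8019 (tt N4382 F20082) (tt N7168 F20083) (tt N5458 F20079) (tt N16358 (iv3 F40380)) (tt N5452 F20080) (tt N3831 (iv5 D12141)) (tt N16359 D25543) (tt N5452 F20081))
theorem Q8021 : ∀ i, i < 8021 → P i := stepQ 8020 Q8020 (allL N8020 (tt N5648 (iv1 F20084)) (tt N3832 (iv0 D12142)) (tt N5647 (iv2 F27261)) (tt N16360 D25544) (tt N10528 F27262) (tt N10814 (iv5 F28356)) (tt N16361 D25545) (tt N5646 F27263))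
theorem Q8022 : ∀ i, i < 8022 → P i := stepQ 8021 Q8021 (allL N8021 (tt N3832 (iv1 D12143)) (tt N5648 F20088) (tt N5646 F27260) (tt N16362 D25546) (tt N8315 (iv4 F20822)) (tt N10815 (iv5 F26864)) (tt N16363 D25547) (tt N5647 (iv7 F27258)))
theorem Q8023 : ∀ i, i < 8023 → P i := stepQ 8022 Q8022 (allL N8022 (tt N5647 (iv1 F20089)) (tt N5646 F20087) (tt N3832 (iv2 D12144)) (tt N13399 (iv3 F32463)) (tt N4079 F20085) (tt N16364 D25548) (tt N13397 F32460) (tt N5648 F20086))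
theorem Q8024 : ∀ i, i < 8024 → P i := stepQ 8023 Q8023 (allL N8023 (tt N16365 D25549) (tt N16366 D25550) (tt N16364 (iv2 F40398)) (tt N3833 F20090) (tt N16367 D25551) (tt N3832 (iv5 D12145)) (tt N16368 D25552) (tt N5649 F20091))
theorem Q8025 : ∀ i, i < 8025 → P i := stepQ 8024 Q8024 (allL N8024 (tt N16369 D25553) (tt N16370 D25554) (tt N13397 (iv2 F32456)) (tt N3834 F20092) (tt N4080 F20093) (tt N13396 F32455) (tt N3832 (iv6 D12146)) (tt N16371 D25555))
theorem Q8026 : ∀ i, i < 8026 → P i := stepQ 8025 Q8025 (allL N8025 (tt N16372 D25556) (tt N16373 D25557) (tt N14734 (iv2 F37015)) (tt N16368 (iv3 F40412)) (tt N8089 (iv4 F20211)) (tt N16374 D25558) (tt N3833 (iv6 D12147)) (tt N16375 D25559))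
theorem Q8027 : ∀ i, i < 8027 → P i := stepQ 8026 Q8026 (allL N8026 (tt N11506 (iv1 F27899)) (tt N3834 (iv0 D12148)) (tt N5472 (iv2 F20151)) (tt N16376 D25560) (tt N5448 F20150) (tt N13428 (iv5 F32550)) (tt N16279 (iv6 F40251)) (tt N5474 (iv7 F20152)))
theorem Q8028 : ∀ i, i < 8028 → P i := stepQ 8027 Q8027 (allL N8027 (tt N3834 (iv1 D12149)) (tt N11506 (iv0 F27898)) (tt N5474 F20153) (tt N5472 (iv3 F26935)) (tt N5449 F20094) (tt N13427 (iv5 F32544)) (tt N16377 D25561) (tt N5472 (iv7 F20146)))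
theorem Q8029 : ∀ i, i < 8029 → P i := stepQ 8028 Q8028 (allL N8028 (tt N13372 (iv1 F32391)) (tt N13371 F32386) (tt N6375 F26937) (tt N13396 (iv3 F32451)) (tt N13721 (iv4 F33514)) (tt N3834 (iv5 D12150)) (tt N16374 (iv6 F40428)) (tt N13373 (iv7 F32389)))
theorem Q8030 : ∀ i, i < 8030 → P i := stepQ 8029 Q8029 (allL N8029 (tt N5474 (iv1 F20119)) (tt N5472 (iv0 F20098)) (tt N11506 (iv2 F27894)) (tt N16371 (iv3 F40423)) (tt N3836 F20096) (tt N13373 (iv5 F32388)) (tt N5654 F20097) (tt N3834 (iv7 D12151)))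
theorem Q8031 : ∀ i, i < 8031 → P i := stepQ 8030 Q8030 (allL N8030 (tt N9177 (iv1 F22848)) (tt N7408 (iv0 F20102)) (tt N8550 (iv2 F21327)) (tt N3973 F20099) (tt N16378 D25562) (tt N3835 (iv5 D12152)) (tt N3847 F20101) (tt N5050 F20100))
theorem Q8032 : ∀ i, i < 8032 → P i := stepQ 8031 Q8031 (allL N8031 (tt N8100 F20224) (tt N8102 F23476) (tt N8551 (iv2 F21333)) (tt N3974 F20103) (tt N11436 (iv4 F27790)) (tt N11045 (iv5 F25934)) (tt N3835 (iv6 D12153)) (tt N11045 (iv7 F25936)))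
theorem Q8033 : ∀ i, i < 8033 → P i := stepQ 8032 Q8032 (allL N8032 (tt N13399 F32466) (tt N3837 (iv0 D12154)) (tt N14732 F37011) (tt N5492 F20104) (tt N16379 D25563) (tt N16380 D25564) (tt N16381 D25565) (tt N14731 F37004))
theorem Q8034 : ∀ i, i < 8034 → P i := stepQ 8033 Q8033 (allL N8033 (tt N3837 (iv1 D12155)) (tt N13399 F32467) (tt N14731 (iv2 F37005)) (tt N16382 D25566) (tt N16360 (iv4 F40387)) (tt N16383 D25567) (tt N16384 D25568) (tt N14732 (iv7 F37007)))
theorem Q8035 : ∀ i, i < 8035 → P i := stepQ 8034 Q8034 (allL N8034 (tt N14732 (iv1 F37006)) (tt N14731 F37003) (tt N3837 (iv2 D12156)) (tt N5648 F20105) (tt N14916 (iv4 F37423)) (tt N16385 D25569) (tt N16386 D25570) (tt N13399 F32465))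
theorem Q8036 : ∀ i, i < 8036 → P i := stepQ 8035 Q8035 (allL N8035 (tt N16387 D25571) (tt N16388 D25572) (tt N16385 (iv2 F40450)) (tt N3838 F20106) (tt N16389 D25573) (tt N3837 (iv5 D12157)) (tt N16390 D25574) (tt N14733 (iv7 F37014)))
theorem Q8037 : ∀ i, i < 8037 → P i := stepQ 8036 Q8036 (allL N8036 (tt N16379 F40443) (tt N16360 (iv0 F40386)) (tt N16386 (iv2 F40452)) (tt N3839 F20107) (tt N14917 (iv4 F37429)) (tt N16391 D25575) (tt N3837 (iv6 D12158)) (tt N13377 (iv7 F32407)))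
theorem Q8038 : ∀ i, i < 8038 → P i := stepQ 8037 Q8037 (allL N8037 (tt N16392 D25576) (tt N16393 D25577) (tt N5651 F20108) (tt N16390 (iv3 F40457)) (tt N5467 F20109) (tt N16394 D25578) (tt N3838 (iv6 D12159)) (tt N16395 D25579))
theorem Q8039 : ∀ i, i < 8039 → P i := stepQ 8038 Q8038 (allL N8038 (tt N3839 (iv1 D12161)) (tt N5654 F20114) (tt N5451 (iv2 F26351)) (tt N16353 (iv3 F40366)) (tt N4119 (iv4 F20117)) (tt N16396 D25580) (tt N9055 (iv6 F22675)) (tt N5652 F20115))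
theorem Q8040 : ∀ i, i < 8040 → P i := stepQ 8039 Q8039 (allL N8039 (tt N7244 F27057) (tt N16397 D25581) (tt N5653 F20154) (tt N16391 (iv3 F40458)) (tt N16398 D25582) (tt N3839 (iv5 D12162)) (tt N16394 (iv6 F40461)) (tt N16399 D25583))
theorem Q8041 : ∀ i, i < 8041 → P i := stepQ 8040 Q8040 (allL N8040 (tt N5451 (iv1 F26350)) (tt N5652 F20158) (tt N5654 F20155) (tt N13377 (iv3 F32406)) (tt N3841 F20156) (tt N16399 (iv5 F40476)) (tt N11506 (iv6 F27896)) (tt N3839 (iv7 D12163)))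
theorem Q8042 : ∀ i, i < 8042 → P i := stepQ 8041 Q8041 (allL N8041 (tt N8606 (iv1 F21481)) (tt N7257 (iv0 F20162)) (tt N5655 F20159) (tt N5657 F26887) (tt N3840 (iv4 D12164)) (tt N16400 D25584) (tt N4563 F20160) (tt N5073 F20161))
theorem Q8043 : ∀ i, i < 8043 → P i := stepQ 8042 Q8042 (allL N8042 (tt N5153 (iv1 F20163)) (tt N3842 (iv0 D12165)) (tt N5157 (iv2 F25567)) (tt N16401 D25585) (tt N10642 F25569) (tt N16365 (iv5 F40404)) (tt N16402 D25586) (tt N5156 (iv7 F25568)))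
theorem Q8044 : ∀ i, i < 8044 → P i := stepQ 8043 Q8043 (allL N8043 (tt N3842 (iv1 D12166)) (tt N5153 F20167) (tt N5156 F25565) (tt N14838 (iv3 F37227)) (tt N8335 (iv4 F20904)) (tt N16366 (iv5 F40409)) (tt N16296 (iv6 F40416)) (tt N5157 F25566))
theorem Q8045 : ∀ i, i < 8045 → P i := stepQ 8044 Q8044 (allL N8044 (tt N5157 (iv1 F20168)) (tt N5156 F20166) (tt N3842 (iv2 D12167)) (tt N14737 (iv3 F37028)) (tt N4002 F20164) (tt N16403 D25587) (tt N16132 (iv6 F39972)) (tt N5153 F20165))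
theorem Q8046 : ∀ i, i < 8046 → P i := stepQ 8045 Q8045 (allL N8045 (tt N11770 (iv1 F28346)) (tt N11773 (iv0 F28354)) (tt N16403 (iv2 F40487)) (tt N3843 F20169) (tt N16404 D25588) (tt N3842 (iv5 D12168)) (tt N16405 D25589) (tt N5158 F20170))
theorem Q8047 : ∀ i, i < 8047 → P i := stepQ 8046 Q8046 (allL N8046 (tt N16406 D25590) (tt N16407 D25591) (tt N14739 (iv2 F37035)) (tt N16405 (iv3 F40492)) (tt N8067 (iv4 F20190)) (tt N16137 (iv5 F39978)) (tt N3843 (iv6 D12169)) (tt N16408 D25592))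
theorem Q8048 : ∀ i, i < 8048 → P i := stepQ 8047 Q8047 (allL N8047 (tt N14737 (iv1 F37031)) (tt N3844 (iv0 D12170)) (tt N14736 F37025) (tt N5126 F20171) (tt N16409 D25593) (tt N16387 (iv5 F52200)) (tt N16308 (iv6 F41342)) (tt N14735 F37021))
theorem Q8049 : ∀ i, i < 8049 → P i := stepQ 8048 Q8048 (allL N8048 (tt N3844 (iv1 D12171)) (tt N14737 F37032) (tt N14735 (iv2 F37027)) (tt N16410 D25596) (tt N16401 (iv4 F40484)) (tt N16388 (iv5 F76672)) (tt N16411 D25598) (tt N14736 F37026))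
theorem Q8050 : ∀ i, i < 8050 → P i := stepQ 8049 Q8049 (allL N8049 (tt N14736 F37024) (tt N14735 F37020) (tt N3844 (iv2 D12172)) (tt N5153 F20172) (tt N8064 (iv4 F20186)) (tt N16412 D25599) (tt N16413 D25600) (tt N14737 (iv7 F37030)))
theorem Q8051 : ∀ i, i < 8051 → P i := stepQ 8050 Q8050 (allL N8050 (tt N16414 D25601) (tt N16415 D25602) (tt N16412 (iv2 F40503)) (tt N3845 F20173) (tt N16416 D25603) (tt N3844 (iv5 D12173)) (tt N16417 D25604) (tt N14738 (iv7 F37034)))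
theorem Q8052 : ∀ i, i < 8052 → P i := stepQ 8051 Q8051 (allL N8051 (tt N16418 D25605) (tt N16419 D25606) (tt N16413 (iv2 F40505)) (tt N3846 F20174) (tt N8066 (iv4 F20189)) (tt N16420 D25607) (tt N3844 (iv6 D12174)) (tt N16421 D25608))
theorem Q8053 : ∀ i, i < 8053 → P i := stepQ 8052 Q8052 (allL N8052 (tt N16422 D25609) (tt N16423 D25610) (tt N9103 (iv2 F22741)) (tt N16417 (iv3 F40508)) (tt N8059 (iv4 F20182)) (tt N16424 D25611) (tt N3845 (iv6 D12175)) (tt N16425 D25612))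
theorem Q8054 : ∀ i, i < 8054 → P i := stepQ 8053 Q8053 (allL N8053 (tt N9107 (iv1 F22756)) (tt N3846 (iv0 D12176)) (tt N9104 F22743) (tt N5442 F27055) (tt N5093 F20175) (tt N16426 D25613) (tt N5440 (iv6 F27056)) (tt N9105 (iv7 F22748)))
theorem Q8055 : ∀ i, i < 8055 → P i := stepQ 8054 Q8054 (allL N8054 (tt N3846 (iv1 D12177)) (tt N9107 F22755) (tt N9105 (iv2 F22750)) (tt N16427 D25614) (tt N5352 (iv4 F22745)) (tt N16428 D25615) (tt N16303 (iv6 F40295)) (tt N9104 F22744))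
theorem Q8056 : ∀ i, i < 8056 → P i := stepQ 8055 Q8055 (allL N8055 (tt N16429 D25616) (tt N16430 D25617) (tt N9106 (iv2 F22751)) (tt N16420 (iv3 F40509)) (tt N16431 D25618) (tt N3846 (iv5 D12178)) (tt N16424 (iv6 F40512)) (tt N16432 D25619))
theorem Q8057 : ∀ i, i < 8057 → P i := stepQ 8056 Q8056 (allL N8056 (tt N9105 (iv1 F22747)) (tt N9104 (iv0 F22746)) (tt N9107 (iv2 F22752)) (tt N16421 (iv3 F40510)) (tt N3849 F20176) (tt N16432 (iv5 F40517)) (tt N7924 F20177) (tt N3846 (iv7 D12179)))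
theorem Q8058 : ∀ i, i < 8058 → P i := stepQ 8057 Q8057 (allL N8057 (tt N11221 (iv1 F27331)) (tt N3854 (iv0 F20179)) (tt N9108 (iv2 F22757)) (tt N16433 D25620) (tt N3847 (iv4 D12180)) (tt N16434 D25621) (tt N16378 (iv6 F40437)) (tt N5118 F20178))
theorem Q8059 : ∀ i, i < 8059 → P i := stepQ 8058 Q8058 (allL N8058 (tt N3854 F20181) (tt N11221 F27330) (tt N5118 F20180) (tt N16435 D25622) (tt N3848 (iv4 D12181)) (tt N16436 D25623) (tt N16306 (iv6 F40304)) (tt N9108 (iv7 F22758)))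
theorem Q8060 : ∀ i, i < 8060 → P i := stepQ 8059 Q8059 (allL N8059 (tt N16437 D25624) (tt N16438 D25625) (tt N14743 (iv2 F37043)) (tt N10758 (iv3 F25473)) (tt N8052 F20182) (tt N16439 D25626) (tt N3850 (iv6 D12182)) (tt N16440 D25627))
theorem Q8061 : ∀ i, i < 8061 → P i := stepQ 8060 Q8060 (allL N8060 (tt N16125 (iv1 F39964)) (tt N9508 (iv0 F23488)) (tt N14744 (iv2 F37045)) (tt N10761 (iv3 F25474)) (tt N16441 D25628) (tt N3851 (iv5 D12183)) (tt N16439 (iv6 F40526)) (tt N16442 D25629))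
theorem Q8062 : ∀ i, i < 8062 → P i := stepQ 8061 Q8061 (allL N8061 (tt N7643 (iv1 F20184)) (tt N4483 F20185) (tt N9528 F23549) (tt N10762 (iv3 F25475)) (tt N4313 F20183) (tt N16442 (iv5 F40531)) (tt N11221 (iv6 F27329)) (tt N3851 (iv7 D12184)))
theorem Q8063 : ∀ i, i < 8063 → P i := stepQ 8062 Q8062 (allL N8062 (tt N10742 (iv1 F25391)) (tt N3852 (iv0 D12185)) (tt N14741 (iv2 F83408)) (tt N16443 D25631) (tt N16444 D25632) (tt N16445 D25633) (tt N16318 (iv6 F55130)) (tt N14740 (iv7 F83409)))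
theorem Q8064 : ∀ i, i < 8064 → P i := stepQ 8063 Q8063 (allL N8063 (tt N3852 (iv1 D12186)) (tt N10742 F25390) (tt N14740 F83414) (tt N16446 D25636) (tt N16447 D25637) (tt N16448 D25638) (tt N16449 D25639) (tt N14741 F83415))
theorem Q8065 : ∀ i, i < 8065 → P i := stepQ 8064 Q8064 (allL N8064 (tt N14741 (iv1 F37038)) (tt N14740 F37037) (tt N3852 (iv2 D12187)) (tt N8381 (iv3 F21001)) (tt N8049 F20186) (tt N16450 D25640) (tt N16451 D25641) (tt N10742 (iv7 F25389)))
theorem Q8066 : ∀ i, i < 8066 → P i := stepQ 8065 Q8065 (allL N8065 (tt N16452 D25642) (tt N16453 D25643) (tt N16450 (iv2 F40539)) (tt N3853 F20187) (tt N16454 D25644) (tt N3852 (iv5 D12188)) (tt N16455 D25645) (tt N14742 (iv7 F37040)))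
theorem Q8067 : ∀ i, i < 8067 → P i := stepQ 8066 Q8066 (allL N8066 (tt N16456 D25646) (tt N16457 D25647) (tt N16451 (iv2 F40540)) (tt N3854 F20188) (tt N8051 F20189) (tt N16458 D25648) (tt N3852 (iv6 D12189)) (tt N16459 D25649))
theorem Q8068 : ∀ i, i < 8068 → P i := stepQ 8067 Q8067 (allL N8067 (tt N16460 D25650) (tt N16461 D25651) (tt N11219 (iv2 F27325)) (tt N16455 (iv3 F40543)) (tt N8046 F20190) (tt N16462 D25652) (tt N3853 (iv6 D12190)) (tt N16463 D25653))
theorem Q8069 : ∀ i, i < 8069 → P i := stepQ 8068 Q8068 (allL N8068 (tt N16464 D25654) (tt N16465 D25655) (tt N11220 (iv2 F27326)) (tt N16458 (iv3 F40544)) (tt N16466 D25656) (tt N3854 (iv5 D12191)) (tt N16462 (iv6 F40547)) (tt N16467 D25657))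
theorem Q8070 : ∀ i, i < 8070 → P i := stepQ 8069 Q8069 (allL N8069 (tt N5118 (iv1 F20192)) (tt N9108 (iv0 F22759)) (tt N11221 (iv2 F27327)) (tt N16459 (iv3 F40545)) (tt N7261 F20191) (tt N16467 (iv5 F40551)) (tt N9528 F23550) (tt N3854 (iv7 D12192)))
theorem Q8071 : ∀ i, i < 8071 → P i := stepQ 8070 Q8070 (allL N8070 (tt N3856 (iv1 F20196)) (tt N3855 (iv0 D12193)) (tt N3859 (iv2 F20193)) (tt N11362 (iv3 F27605)) (tt N4017 F20194) (tt N16468 D25658) (tt N16469 D25659) (tt N3857 F20195))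
theorem Q8072 : ∀ i, i < 8072 → P i := stepQ 8071 Q8071 (allL N8071 (tt N3859 F37261) (tt N3857 F37262) (tt N3855 (iv2 D12194)) (tt N16470 D25660) (tt N4388 F37263) (tt N16471 D25661) (tt N16472 D25662) (tt N3856 (iv7 F20197)))
theorem Q8073 : ∀ i, i < 8073 → P i := stepQ 8072 Q8072 (allL N8072 (tt N16446 (iv1 F42424)) (tt N16473 D25664) (tt N14921 (iv2 F37443)) (tt N3855 (iv3 D12195)) (tt N14920 (iv4 F37442)) (tt N16474 D25665) (tt N16475 D25666) (tt N14925 (iv7 F37451)))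
theorem Q8074 : ∀ i, i < 8074 → P i := stepQ 8073 Q8073 (allL N8073 (tt N16476 D25667) (tt N5078 (iv0 F20198)) (tt N4388 F37264) (tt N16477 D25668) (tt N3855 (iv4 D12196)) (tt N16478 D25669) (tt N16479 D25670) (tt N16480 D25671))
theorem Q8075 : ∀ i, i < 8075 → P i := stepQ 8074 Q8074 (allL N8074 (tt N16481 D25672) (tt N10474 F40568) (tt N16471 (iv2 F40565)) (tt N16474 (iv3 F40572)) (tt N16482 D25673) (tt N3855 (iv5 D12197)) (tt N16483 D25674) (tt N16484 D25675))
theorem Q8076 : ∀ i, i < 8076 → P i := stepQ 8075 Q8075 (allL N8075 (tt N16485 D25676) (tt N9529 (iv0 F54282)) (tt N16472 (iv2 F40569)) (tt N16475 (iv3 F40573)) (tt N16479 (iv4 F40588)) (tt N16486 D25678) (tt N3855 (iv6 D12198)) (tt N16487 D25679))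
theorem Q8077 : ∀ i, i < 8077 → P i := stepQ 8076 Q8076 (allL N8076 (tt N3857 F37265) (tt N3859 F37266) (tt N3856 F20199) (tt N14925 (iv3 F37452)) (tt N16480 (iv4 F40591)) (tt N16484 (iv5 F40597)) (tt N16488 D25680) (tt N3855 (iv7 D12199)))
theorem Q8078 : ∀ i, i < 8078 → P i := stepQ 8077 Q8077 (allL N8077 (tt N5147 F37279) (tt N5150 F37280) (tt N14846 (iv2 F37290)) (tt N3856 (iv3 D12200)) (tt N14845 (iv4 F37289)) (tt N16489 D25681) (tt N16490 D25682) (tt N16470 (iv7 F40562)))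
theorem Q8079 : ∀ i, i < 8079 → P i := stepQ 8078 Q8078 (allL N8078 (tt N5078 F25291) (tt N16476 F40578) (tt N16480 (iv2 F40589)) (tt N4392 F37249) (tt N3856 (iv4 D12201)) (tt N16491 D25683) (tt N16492 D25684) (tt N4388 F37250))
theorem Q8080 : ∀ i, i < 8080 → P i := stepQ 8079 Q8079 (allL N8079 (tt N10474 F26967) (tt N16481 F40598) (tt N16484 (iv2 F40596)) (tt N16489 (iv3 F40601)) (tt N16493 D25685) (tt N3856 (iv5 D12202)) (tt N16494 D25686) (tt N16471 (iv7 F40566)))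
theorem Q8081 : ∀ i, i < 8081 → P i := stepQ 8080 Q8080 (allL N8080 (tt N16433 (iv1 F50901)) (tt N16495 D25688) (tt N16488 (iv2 F40600)) (tt N16490 (iv3 F40602)) (tt N16492 (iv4 F40608)) (tt N16496 D25689) (tt N3856 (iv6 D12203)) (tt N16497 D25690))
theorem Q8082 : ∀ i, i < 8082 → P i := stepQ 8081 Q8081 (allL N8081 (tt N16498 D25691) (tt N16499 D25692) (tt N3858 F20204) (tt N14751 (iv3 F37054)) (tt N16500 D25693) (tt N3857 (iv5 D12206)) (tt N16501 D25694) (tt N16468 (iv7 F40553)))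
theorem Q8083 : ∀ i, i < 8083 → P i := stepQ 8082 Q8082 (allL N8082 (tt N16468 (iv1 F40555)) (tt N3858 (iv0 D12207)) (tt N16498 (iv2 F42885)) (tt N16502 D25696) (tt N16503 D25697) (tt N8479 F40556) (tt N16504 D25698) (tt N16499 (iv7 F42880)))
theorem Q8084 : ∀ i, i < 8084 → P i := stepQ 8083 Q8083 (allL N8083 (tt N3858 (iv1 D12208)) (tt N16468 F40554) (tt N16499 (iv2 F42879)) (tt N16505 D25700) (tt N16506 D25701) (tt N8480 (iv5 F27035)) (tt N16507 D25702) (tt N16498 (iv7 F42886)))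
theorem Q8085 : ∀ i, i < 8085 → P i := stepQ 8084 Q8084 (allL N8084 (tt N16508 D25703) (tt N16509 D25704) (tt N16500 (iv2 F40613)) (tt N16510 D25705) (tt N3858 (iv4 D12209)) (tt N16511 D25706) (tt N16512 D25707) (tt N16513 D25708))
theorem Q8086 : ∀ i, i < 8086 → P i := stepQ 8085 Q8085 (allL N8085 (tt N16514 D25709) (tt N16515 D25710) (tt N16501 (iv2 F40615)) (tt N3862 F20205) (tt N16512 (iv4 F40626)) (tt N16337 (iv5 F40350)) (tt N3858 (iv6 D12210)) (tt N16516 D25711))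
theorem Q8087 : ∀ i, i < 8087 → P i := stepQ 8086 Q8086 (allL N8086 (tt N16499 (iv1 F40611)) (tt N16498 F40609) (tt N16468 (iv2 F40552)) (tt N3863 F20206) (tt N16513 (iv4 F40628)) (tt N3859 F20207) (tt N16517 D25712) (tt N3858 (iv7 D12211)))
theorem Q8088 : ∀ i, i < 8088 → P i := stepQ 8087 Q8087 (allL N8087 (tt N16518 D25713) (tt N16490 (iv0 F50918)) (tt N16469 (iv2 F40557)) (tt N3864 F20208) (tt N4033 F20209) (tt N16519 D25715) (tt N3859 (iv6 D12212)) (tt N16339 (iv7 F40356)))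
theorem Q8089 : ∀ i, i < 8089 → P i := stepQ 8088 Q8088 (allL N8088 (tt N16445 (iv1 F41850)) (tt N16448 (iv0 F76681)) (tt N16520 D25718) (tt N3860 (iv3 D12213)) (tt N16521 D25719) (tt N7256 F20210) (tt N16522 D25720) (tt N11391 (iv7 F27686)))
theorem Q8090 : ∀ i, i < 8090 → P i := stepQ 8089 Q8089 (allL N8089 (tt N16523 D25721) (tt N16524 D25722) (tt N8604 (iv2 F21477)) (tt N16522 (iv3 F40636)) (tt N8025 F20211) (tt N16525 D25723) (tt N3860 (iv6 D12214)) (tt N16526 D25724))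
theorem Q8091 : ∀ i, i < 8091 → P i := stepQ 8090 Q8090 (allL N8090 (tt N16527 D25725) (tt N16528 D25726) (tt N16529 D25727) (tt N3861 (iv3 D12215)) (tt N16510 (iv4 F40621)) (tt N5426 F20212) (tt N16530 D25728) (tt N7175 F20213))
theorem Q8092 : ∀ i, i < 8092 → P i := stepQ 8091 Q8091 (allL N8091 (tt N16531 D25729) (tt N16532 D25730) (tt N8095 (iv2 F20215)) (tt N16530 (iv3 F40654)) (tt N3862 F20214) (tt N16533 D25731) (tt N3861 (iv6 D12216)) (tt N16534 D25732))
theorem Q8093 : ∀ i, i < 8093 → P i := stepQ 8092 Q8092 (allL N8092 (tt N14758 (iv1 F37060)) (tt N3862 (iv0 D12217)) (tt N14756 F161773) (tt N16535 D25734) (tt N16536 D25735) (tt N16537 D25736) (tt N16538 D25737) (tt N14757 (iv7 F161781)))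
theorem Q8094 : ∀ i, i < 8094 → P i := stepQ 8093 Q8093 (allL N8093 (tt N3862 (iv1 D12218)) (tt N14758 F37059) (tt N14757 (iv2 F161780)) (tt N16539 D25739) (tt N16540 D25740) (tt N16541 D25741) (tt N16542 D25742) (tt N14756 F161779))
theorem Q8095 : ∀ i, i < 8095 → P i := stepQ 8094 Q8094 (allL N8094 (tt N14757 (iv1 F37056)) (tt N14756 F37058) (tt N14758 (iv2 F37057)) (tt N16516 (iv3 F40629)) (tt N16534 (iv4 F40656)) (tt N16348 (iv5 F40360)) (tt N16543 D25743) (tt N3862 (iv7 D12219)))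
theorem Q8096 : ∀ i, i < 8096 → P i := stepQ 8095 Q8095 (allL N8095 (tt N16544 D25744) (tt N16545 D25745) (tt N8091 F20215) (tt N16517 (iv3 F40630)) (tt N7176 F20216) (tt N16546 D25746) (tt N3863 (iv6 D12220)) (tt N16543 (iv7 F40662)))
theorem Q8097 : ∀ i, i < 8097 → P i := stepQ 8096 Q8096 (allL N8096 (tt N11367 (iv1 F27626)) (tt N3864 (iv0 D12221)) (tt N11364 F27613) (tt N11024 (iv3 F25902)) (tt N4409 F20217) (tt N16547 D25747) (tt N7291 (iv6 F20218)) (tt N11365 (iv7 F27618)))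
theorem Q8098 : ∀ i, i < 8098 → P i := stepQ 8097 Q8097 (allL N8097 (tt N3864 (iv1 D12222)) (tt N11367 F27625) (tt N11365 (iv2 F27620)) (tt N16548 D25748) (tt N7270 (iv4 F20219)) (tt N16549 D25749) (tt N16550 D25750) (tt N11364 F27615))
theorem Q8099 : ∀ i, i < 8099 → P i := stepQ 8098 Q8098 (allL N8098 (tt N16551 D25751) (tt N16552 D25752) (tt N11366 (iv2 F27621)) (tt N16519 (iv3 F40633)) (tt N16553 D25753) (tt N3864 (iv5 D12223)) (tt N16546 (iv6 F40668)) (tt N16350 (iv7 F40361)))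
theorem Q8100 : ∀ i, i < 8100 → P i := stepQ 8099 Q8099 (allL N8099 (tt N14913 (iv1 F37420)) (tt N5442 (iv0 F20221)) (tt N11368 (iv2 F27627)) (tt N16554 D25754) (tt N3865 (iv4 D12224)) (tt N16555 D25755) (tt N7409 F20220) (tt N9175 (iv7 F22837)))
theorem Q8101 : ∀ i, i < 8101 → P i := stepQ 8100 Q8100 (allL N8100 (tt N16556 D25756) (tt N8031 (iv0 F20224)) (tt N9504 (iv2 F23471)) (tt N5436 F20222) (tt N16557 D25757) (tt N3865 (iv5 D12225)) (tt N4460 F20223) (tt N9176 (iv7 F22841)))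
theorem Q8102 : ∀ i, i < 8102 → P i := stepQ 8101 Q8101 (allL N8101 (tt N5442 F20225) (tt N14913 (iv0 F37419)) (tt N9175 (iv2 F22836)) (tt N16558 D25758) (tt N3866 (iv4 D12226)) (tt N16559 D25759) (tt N7242 (iv6 F26999)) (tt N11368 (iv7 F27629)))
theorem Q8103 : ∀ i, i < 8103 → P i := stepQ 8102 Q8102 (allL N8102 (tt N8031 (iv1 F23476)) (tt N16556 F40680) (tt N9176 (iv2 F22839)) (tt N11401 (iv3 F27713)) (tt N16560 D25760) (tt N3866 (iv5 D12227)) (tt N5477 F20226) (tt N9504 (iv7 F23473)))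
theorem Q8104 : ∀ i, i < 8104 → P i := stepQ 8103 Q8103 (allL N8103 (tt N5050 F20229) (tt N8550 F21332) (tt N9177 (iv2 F22843)) (tt N10608 (iv3 F27000)) (tt N7242 F26997) (tt N7998 F20228) (tt N3866 (iv6 D12228)) (tt N7408 F20227))
theorem Q8105 : ∀ i, i < 8105 → P i := stepQ 8104 Q8104 (allL N8104 (tt N4690 F20231) (tt N3867 (iv0 D12229)) (tt N4688 (iv2 F22904)) (tt N4599 F20233) (tt N7469 F20230) (tt N16561 D25761) (tt N15109 (iv6 F38134)) (tt N4607 (iv7 F22919)))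
theorem Q8106 : ∀ i, i < 8106 → P i := stepQ 8105 Q8105 (allL N8105 (tt N3867 (iv1 D12230)) (tt N4690 F20234) (tt N4607 (iv2 F22917)) (tt N7332 F22523) (tt N9634 (iv4 F23747)) (tt N16562 D25762) (tt N15508 F38586) (tt N4688 F22905))
theorem Q8107 : ∀ i, i < 8107 → P i := stepQ 8106 Q8106 (allL N8106 (tt N16563 D25763) (tt N16191 (iv0 F40116)) (tt N4689 F20235) (tt N3869 F20236) (tt N16564 D25764) (tt N3867 (iv5 D12231)) (tt N4655 F20237) (tt N16565 D25765))
theorem Q8108 : ∀ i, i < 8108 → P i := stepQ 8107 Q8107 (allL N8107 (tt N4607 (iv1 F22916)) (tt N4688 (iv0 F20243)) (tt N4690 F20238) (tt N3870 F20239) (tt N4674 F20240) (tt N16565 (iv5 F40699)) (tt N8107 F20241) (tt N3867 (iv7 D12232)))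
theorem Q8109 : ∀ i, i < 8109 → P i := stepQ 8108 Q8108 (allL N8108 (tt N9511 (iv1 F23492)) (tt N9510 F23491) (tt N4463 F20244) (tt N4660 F22537) (tt N16566 D25766) (tt N3868 (iv5 D12233)) (tt N16567 D25767) (tt N8113 (iv7 F20255)))
theorem Q8110 : ∀ i, i < 8110 → P i := stepQ 8109 Q8109 (allL N8109 (tt N3881 F22282) (tt N8940 F22278) (tt N4307 F20245) (tt N4661 (iv3 F22488)) (tt N9754 (iv4 F23960)) (tt N7830 (iv5 F20246)) (tt N3868 (iv6 D12234)) (tt N8941 (iv7 F22286)))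
theorem Q8111 : ∀ i, i < 8111 → P i := stepQ 8110 Q8110 (allL N8110 (tt N8117 (iv1 F20269)) (tt N3869 (iv0 D12235)) (tt N4615 (iv2 F20251)) (tt N4662 F22543) (tt N16568 D25768) (tt N15503 (iv5 F38567)) (tt N16569 D25769) (tt N8115 F20260))
theorem Q8112 : ∀ i, i < 8112 → P i := stepQ 8111 Q8111 (allL N8111 (tt N16570 D25770) (tt N16571 D25771) (tt N8116 (iv2 F20263)) (tt N16572 D25772) (tt N3869 (iv4 D12236)) (tt N16573 D25773) (tt N4663 F20252) (tt N16574 D25774))
theorem Q8113 : ∀ i, i < 8113 → P i := stepQ 8112 Q8112 (allL N8112 (tt N8115 (iv1 F20257)) (tt N4615 F20261) (tt N8117 (iv2 F20265)) (tt N16565 (iv3 F40698)) (tt N16574 (iv4 F40718)) (tt N3870 F20253) (tt N16575 D25775) (tt N3869 (iv7 D12237)))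
theorem Q8114 : ∀ i, i < 8114 → P i := stepQ 8113 Q8113 (allL N8113 (tt N9296 (iv1 F23072)) (tt N9295 F23071) (tt N4565 F20254) (tt N4667 (iv3 F22535)) (tt N16576 D25776) (tt N3871 (iv5 D12238)) (tt N16577 D25777) (tt N8108 F20255))
theorem Q8115 : ∀ i, i < 8115 → P i := stepQ 8114 Q8114 (allL N8114 (tt N15089 (iv1 F37837)) (tt N3879 F20319) (tt N4566 F20256) (tt N4668 (iv3 F22534)) (tt N15362 (iv4 F38314)) (tt N9755 (iv5 F23961)) (tt N3871 (iv6 D12239)) (tt N15088 (iv7 F37827)))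
theorem Q8116 : ∀ i, i < 8116 → P i := stepQ 8115 Q8115 (allL N8115 (tt N3872 (iv1 D12241)) (tt N8112 F20257) (tt N4647 F20259) (tt N4669 (iv3 F22531)) (tt N16578 D25778) (tt N7578 (iv5 F20258)) (tt N16579 D25779) (tt N8110 (iv7 F20260)))
theorem Q8117 : ∀ i, i < 8117 → P i := stepQ 8116 Q8116 (allL N8116 (tt N16580 D25780) (tt N16581 D25781) (tt N8111 F20263) (tt N16582 D25782) (tt N3872 (iv4 D12242)) (tt N16583 D25783) (tt N4670 F20264) (tt N16584 D25784))
theorem Q8118 : ∀ i, i < 8118 → P i := stepQ 8117 Q8117 (allL N8117 (tt N4647 (iv1 F20268)) (tt N8110 F20269) (tt N8112 F20265) (tt N7331 F20266) (tt N16584 (iv4 F40738)) (tt N3873 F20267) (tt N16585 D25785) (tt N3872 (iv7 D12243)))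
theorem Q8119 : ∀ i, i < 8119 → P i := stepQ 8118 Q8118 (allL N8118 (tt N15085 (iv1 F37817)) (tt N4770 F20272) (tt N3880 F20270) (tt N15102 (iv3 F37859)) (tt N16586 D25786) (tt N3874 (iv5 D12244)) (tt N16587 D25787) (tt N3878 F20271))
theorem Q8120 : ∀ i, i < 8120 → P i := stepQ 8119 Q8119 (allL N8119 (tt N8941 (iv1 F22287)) (tt N4307 F20330) (tt N3881 F20282) (tt N15103 (iv3 F37862)) (tt N7882 F20283) (tt N7582 F20284) (tt N3874 (iv6 D12245)) (tt N8940 (iv7 F22280)))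
theorem Q8121 : ∀ i, i < 8121 → P i := stepQ 8120 Q8120 (allL N8120 (tt N3875 (iv1 D12246)) (tt N3885 F20289) (tt N3883 F20292) (tt N15127 (iv3 F37888)) (tt N16588 D25788) (tt N4693 (iv5 F20291)) (tt N16589 D25789) (tt N3882 F20290))
theorem Q8122 : ∀ i, i < 8122 → P i := stepQ 8121 Q8121 (allL N8121 (tt N16590 D25790) (tt N16591 D25791) (tt N3884 F20293) (tt N16592 D25792) (tt N3875 (iv4 D12247)) (tt N16593 D25793) (tt N11062 (iv6 F26069)) (tt N16594 D25794))
theorem Q8123 : ∀ i, i < 8123 → P i := stepQ 8122 Q8122 (allL N8122 (tt N3883 (iv1 F20297)) (tt N3882 F20298) (tt N3885 F20294) (tt N4684 F20295) (tt N16594 (iv4 F40762)) (tt N3876 F20296) (tt N16595 D25795) (tt N3875 (iv7 D12248)))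
theorem Q8124 : ∀ i, i < 8124 → P i := stepQ 8123 Q8123 (allL N8123 (tt N15105 (iv1 F37866)) (tt N15104 F37865) (tt N7580 F20299) (tt N3878 F20300) (tt N16596 D25796) (tt N3877 (iv5 D12249)) (tt N16597 D25797) (tt N15102 (iv7 F37860)))
theorem Q8125 : ∀ i, i < 8125 → P i := stepQ 8124 Q8124 (allL N8124 (tt N9584 F39700) (tt N16598 D25798) (tt N7581 F20301) (tt N3879 F20302) (tt N7578 F20303) (tt N15364 F38316) (tt N3877 (iv6 D12250)) (tt N16599 D25799))
theorem Q8126 : ∀ i, i < 8126 → P i := stepQ 8125 Q8125 (allL N8125 (tt N3880 (iv1 F20305)) (tt N3878 (iv0 D12251)) (tt N4770 (iv2 F20311)) (tt N4707 (iv3 F22551)) (tt N16600 D25800) (tt N7810 F20304) (tt N16601 D25801) (tt N15085 (iv7 F37818)))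
theorem Q8127 : ∀ i, i < 8127 → P i := stepQ 8126 Q8126 (allL N8126 (tt N3878 (iv1 D12252)) (tt N3880 F20312) (tt N15085 F37819) (tt N3888 (iv3 F20315)) (tt N16602 D25802) (tt N7817 F20314) (tt N16603 D25803) (tt N4770 F20313))
theorem Q8128 : ∀ i, i < 8128 → P i := stepQ 8127 Q8127 (allL N8127 (tt N16604 D25804) (tt N16605 D25805) (tt N15086 (iv2 F37821)) (tt N16606 D25806) (tt N3878 (iv4 D12253)) (tt N16607 D25807) (tt N16608 D25808) (tt N16586 (iv7 F40747)))
theorem Q8129 : ∀ i, i < 8129 → P i := stepQ 8128 Q8128 (allL N8128 (tt N16609 D25809) (tt N16610 D25810) (tt N15087 (iv2 F37823)) (tt N16597 (iv3 F40773)) (tt N16608 (iv4 F40794)) (tt N16611 D25811) (tt N3878 (iv6 D12254)) (tt N16612 D25812))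
theorem Q8130 : ∀ i, i < 8130 → P i := stepQ 8129 Q8129 (allL N8129 (tt N3879 (iv1 D12256)) (tt N15089 F37836) (tt N15088 (iv2 F37829)) (tt N3891 F20317) (tt N16190 F40111) (tt N9756 F23967) (tt N4288 (iv6 F20316)) (tt N4566 F20318))
theorem Q8131 : ∀ i, i < 8131 → P i := stepQ 8130 Q8130 (allL N8130 (tt N4673 F20322) (tt N4699 (iv0 F20323)) (tt N4697 F20321) (tt N15364 (iv3 F38317)) (tt N16613 D25813) (tt N3879 (iv5 D12257)) (tt N16611 (iv6 F40796)) (tt N4696 F22284))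
theorem Q8132 : ∀ i, i < 8132 → P i := stepQ 8131 Q8131 (allL N8131 (tt N15088 (iv1 F37826)) (tt N4566 (iv0 F23496)) (tt N15089 (iv2 F37831)) (tt N16599 (iv3 F40779)) (tt N15641 (iv4 F38746)) (tt N4696 (iv5 F22283)) (tt N8940 F22281) (tt N3879 (iv7 D12258)))
theorem Q8133 : ∀ i, i < 8133 → P i := stepQ 8132 Q8132 (allL N8132 (tt N16605 (iv1 F40792)) (tt N16604 F40791) (tt N16586 (iv2 F40746)) (tt N16614 D25814) (tt N3880 (iv4 D12259)) (tt N16615 D25815) (tt N16616 D25816) (tt N15086 (iv7 F37822)))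
theorem Q8134 : ∀ i, i < 8134 → P i := stepQ 8133 Q8133 (allL N8133 (tt N16617 D25817) (tt N16618 D25818) (tt N16587 (iv2 F40748)) (tt N7874 F20324) (tt N16616 (iv4 F40800)) (tt N15955 (iv5 F39428)) (tt N3880 (iv6 D12260)) (tt N16619 D25819))
theorem Q8135 : ∀ i, i < 8135 → P i := stepQ 8134 Q8134 (allL N8134 (tt N4307 F20329) (tt N8941 F22288) (tt N8940 F22277) (tt N7877 F20325) (tt N7890 F20326) (tt N7583 F20327) (tt N15089 (iv6 F37835)) (tt N3881 (iv7 D12262)))
theorem Q8136 : ∀ i, i < 8136 → P i := stepQ 8135 Q8135 (allL N8135 (tt N15101 (iv1 F37891)) (tt N9747 F37503) (tt N14946 (iv2 F37499)) (tt N3882 (iv3 D12263)) (tt N16620 D25820) (tt N15963 (iv5 F39440)) (tt N16621 D25821) (tt N15127 (iv7 F37890)))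
theorem Q8137 : ∀ i, i < 8137 → P i := stepQ 8136 Q8136 (allL N8136 (tt N16622 D25822) (tt N16623 D25823) (tt N15119 (iv2 F37881)) (tt N16624 D25824) (tt N3882 (iv4 D12264)) (tt N16625 D25825) (tt N16626 D25826) (tt N16588 (iv7 F40752)))
theorem Q8138 : ∀ i, i < 8138 → P i := stepQ 8137 Q8137 (allL N8137 (tt N16627 D25827) (tt N16628 D25828) (tt N15120 (iv2 F37883)) (tt N16621 (iv3 F40810)) (tt N16626 (iv4 F40815)) (tt N16629 D25829) (tt N3882 (iv6 D12265)) (tt N16630 D25830))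
theorem Q8139 : ∀ i, i < 8139 → P i := stepQ 8138 Q8138 (allL N8138 (tt N16623 (iv1 F40813)) (tt N16622 F40812) (tt N16588 (iv2 F40751)) (tt N16631 D25831) (tt N3883 (iv4 D12266)) (tt N16632 D25832) (tt N16633 D25833) (tt N15119 (iv7 F37882)))
theorem Q8140 : ∀ i, i < 8140 → P i := stepQ 8139 Q8139 (allL N8139 (tt N16634 D25834) (tt N16635 D25835) (tt N16589 (iv2 F40753)) (tt N14950 (iv3 F37517)) (tt N16633 (iv4 F40818)) (tt N16636 D25836) (tt N3883 (iv6 D12267)) (tt N16637 D25837))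
theorem Q8141 : ∀ i, i < 8141 → P i := stepQ 8140 Q8140 (allL N8140 (tt N16594 (iv1 F40766)) (tt N3884 (iv0 D12268)) (tt N16590 (iv2 F40829)) (tt N16638 D25839) (tt N16639 D25840) (tt N16640 D25841) (tt N16641 D25842) (tt N16591 F40827))
theorem Q8142 : ∀ i, i < 8142 → P i := stepQ 8141 Q8141 (allL N8141 (tt N3884 (iv1 D12269)) (tt N16594 F40764) (tt N16591 (iv2 F40828)) (tt N16642 D25843) (tt N16643 D25844) (tt N16644 D25845) (tt N16645 D25846) (tt N16590 (iv7 F40830)))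
theorem Q8143 : ∀ i, i < 8143 → P i := stepQ 8142 Q8142 (allL N8142 (tt N16646 D25847) (tt N16647 D25848) (tt N16648 D25849) (tt N3884 (iv3 D12270)) (tt N3906 F20331) (tt N16649 D25850) (tt N11083 (iv6 F26106)) (tt N16650 D25851))
theorem Q8144 : ∀ i, i < 8144 → P i := stepQ 8143 Q8143 (allL N8143 (tt N16651 D25852) (tt N16652 D25853) (tt N16593 (iv2 F40760)) (tt N16649 (iv3 F40839)) (tt N16653 D25854) (tt N3884 (iv5 D12271)) (tt N16654 D25855) (tt N16655 D25856))
theorem Q8145 : ∀ i, i < 8145 → P i := stepQ 8144 Q8144 (allL N8144 (tt N16591 (iv1 F40755)) (tt N16590 F40763) (tt N16594 (iv2 F40761)) (tt N16650 (iv3 F40840)) (tt N3885 F20332) (tt N16655 (iv5 F40842)) (tt N16656 D25857) (tt N3884 (iv7 D12272)))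
theorem Q8146 : ∀ i, i < 8146 → P i := stepQ 8145 Q8145 (allL N8145 (tt N16657 D25858) (tt N16658 D25859) (tt N16595 (iv2 F40767)) (tt N3909 F20333) (tt N16656 (iv4 F40843)) (tt N8145 F20334) (tt N3885 (iv6 D12273)) (tt N11086 (iv7 F26110)))
theorem Q8147 : ∀ i, i < 8147 → P i := stepQ 8146 Q8146 (allL N8146 (tt N4786 (iv1 F20336)) (tt N3886 (iv0 D12274)) (tt N4792 (iv2 F20337)) (tt N7872 (iv3 F20338)) (tt N16659 D25860) (tt N7755 F20335) (tt N16660 D25861) (tt N4791 (iv7 F20339)))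
theorem Q8148 : ∀ i, i < 8148 → P i := stepQ 8147 Q8147 (allL N8147 (tt N3886 (iv1 D12275)) (tt N4786 F20341) (tt N4791 (iv2 F20343)) (tt N9784 F24011) (tt N16661 D25862) (tt N7775 (iv5 F20344)) (tt N16662 D25863) (tt N4792 F20342))
theorem Q8149 : ∀ i, i < 8149 → P i := stepQ 8148 Q8148 (allL N8148 (tt N16663 D25864) (tt N16664 D25865) (tt N15049 (iv2 F37745)) (tt N16665 D25866) (tt N3886 (iv4 D12276)) (tt N16666 D25867) (tt N16667 D25868) (tt N4793 F20345))
theorem Q8150 : ∀ i, i < 8150 → P i := stepQ 8149 Q8149 (allL N8149 (tt N16668 D25869) (tt N16669 D25870) (tt N15050 (iv2 F37749)) (tt N3890 F20346) (tt N16667 (iv4 F40868)) (tt N11114 (iv5 F26185)) (tt N3886 (iv6 D12277)) (tt N16670 D25871))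
theorem Q8151 : ∀ i, i < 8151 → P i := stepQ 8150 Q8150 (allL N8150 (tt N15051 (iv1 F37756)) (tt N3887 (iv0 D12278)) (tt N4640 (iv2 F20349)) (tt N7290 F20347) (tt N4744 F20348) (tt N9876 (iv5 F24117)) (tt N4627 (iv6 F20350)) (tt N10007 (iv7 F24308)))
theorem Q8152 : ∀ i, i < 8152 → P i := stepQ 8151 Q8151 (allL N8151 (tt N3887 (iv1 D12279)) (tt N15051 F37755) (tt N10007 (iv2 F24305)) (tt N9787 F24017) (tt N15375 (iv4 F38349)) (tt N9877 F24123) (tt N9981 (iv6 F24258)) (tt N4640 F20351))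
theorem Q8153 : ∀ i, i < 8153 → P i := stepQ 8152 Q8152 (allL N8152 (tt N10007 F24310) (tt N4640 (iv0 F23756)) (tt N15051 (iv2 F37751)) (tt N3892 F20352) (tt N16265 (iv4 F40229)) (tt N4747 F20353) (tt N4798 F20354) (tt N3887 (iv7 D12280)))
theorem Q8154 : ∀ i, i < 8154 → P i := stepQ 8153 Q8153 (allL N8153 (tt N3915 F20357) (tt N3929 F20358) (tt N4773 F20355) (tt N16671 D25872) (tt N3888 (iv4 D12281)) (tt N10090 (iv5 F24379)) (tt N16672 D25873) (tt N4771 F20356))
theorem Q8155 : ∀ i, i < 8155 → P i := stepQ 8154 Q8154 (allL N8154 (tt N4746 F20361) (tt N11104 F26164) (tt N4774 F20359) (tt N16603 (iv3 F40789)) (tt N16672 (iv4 F40873)) (tt N4616 F20360) (tt N3888 (iv6 D12282)) (tt N11103 (iv7 F26160)))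
theorem Q8156 : ∀ i, i < 8156 → P i := stepQ 8155 Q8155 (allL N8155 (tt N16673 D25874) (tt N16674 D25875) (tt N16675 D25876) (tt N3889 (iv3 D12283)) (tt N16665 (iv4 F40865)) (tt N16676 D25877) (tt N10716 (iv6 F318759)) (tt N4799 F20362))
theorem Q8157 : ∀ i, i < 8157 → P i := stepQ 8156 Q8156 (allL N8156 (tt N7211 F20366) (tt N7199 F20367) (tt N4778 F20363) (tt N16676 (iv3 F40881)) (tt N3957 F20365) (tt N3889 (iv5 D12284)) (tt N5041 F311594) (tt N4800 F20364))
theorem Q8158 : ∀ i, i < 8158 → P i := stepQ 8157 Q8157 (allL N8157 (tt N4782 (iv1 F20374)) (tt N3890 (iv0 D12286)) (tt N4780 F48953) (tt N16677 D25885) (tt N4015 F316222) (tt N8158 F20371) (tt N11092 (iv6 F26126)) (tt N4781 F48954))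
theorem Q8159 : ∀ i, i < 8159 → P i := stepQ 8158 Q8158 (allL N8158 (tt N3890 (iv1 D12287)) (tt N4782 F20370) (tt N4781 F48951) (tt N16610 F111208) (tt N5172 F317409) (tt N8157 (iv5 F20371)) (tt N16678 D25890) (tt N4780 (iv7 F48952)))
theorem Q8160 : ∀ i, i < 8160 → P i := stepQ 8159 Q8159 (allL N8159 (tt N4781 (iv1 F20375)) (tt N4780 F20376) (tt N4782 F20372) (tt N16670 (iv3 F40869)) (tt N8351 (iv4 F316346)) (tt N11119 (iv5 F26198)) (tt N4805 F20373) (tt N3890 (iv7 D12288)))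
theorem Q8161 : ∀ i, i < 8161 → P i := stepQ 8160 Q8160 (allL N8160 (tt N7713 F20381) (tt N7709 (iv0 F20382)) (tt N4759 F20377) (tt N7847 F20378) (tt N3893 (iv4 D12289)) (tt N16679 D25891) (tt N8160 F20379) (tt N4597 F20380))
theorem Q8162 : ∀ i, i < 8162 → P i := stepQ 8161 Q8161 (allL N8161 (tt N3901 F20385) (tt N4807 F20388) (tt N4760 F20383) (tt N15101 (iv3 F37855)) (tt N16680 D25892) (tt N3893 (iv5 D12290)) (tt N16681 D25893) (tt N4598 F20384))
theorem Q8163 : ∀ i, i < 8163 → P i := stepQ 8162 Q8162 (allL N8162 (tt N4761 (iv1 F20390)) (tt N3894 (iv0 D12291)) (tt N4764 (iv2 F20389)) (tt N16682 D25894) (tt N16683 D25895) (tt N10035 (iv5 F24337)) (tt N16684 D25896) (tt N4763 F20391))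
theorem Q8164 : ∀ i, i < 8164 → P i := stepQ 8163 Q8163 (allL N8163 (tt N16685 D25897) (tt N16686 D25898) (tt N15867 (iv2 F39216)) (tt N16687 D25899) (tt N3894 (iv4 D12292)) (tt N16688 D25900) (tt N16689 D25901) (tt N4765 F20392))
theorem Q8165 : ∀ i, i < 8165 → P i := stepQ 8164 Q8164 (allL N8164 (tt N16690 D25902) (tt N16691 D25903) (tt N15868 (iv2 F39220)) (tt N3897 F20393) (tt N16689 (iv4 F40933)) (tt N15934 (iv5 F39335)) (tt N3894 (iv6 D12293)) (tt N16692 D25904))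
theorem Q8166 : ∀ i, i < 8166 → P i := stepQ 8165 Q8165 (allL N8165 (tt N16693 D25905) (tt N16694 D25906) (tt N16695 D25907) (tt N3896 (iv3 D12295)) (tt N16687 (iv4 F40930)) (tt N16696 D25908) (tt N16697 D25909) (tt N4777 F20394))
theorem Q8167 : ∀ i, i < 8167 → P i := stepQ 8166 Q8166 (allL N8166 (tt N7199 F20398) (tt N7211 F20399) (tt N4800 F20395) (tt N16696 (iv3 F40946)) (tt N3956 F20396) (tt N3896 (iv5 D12296)) (tt N16698 D25910) (tt N4778 F20397))
theorem Q8168 : ∀ i, i < 8168 → P i := stepQ 8167 Q8167 (allL N8167 (tt N10277 (iv1 F48930)) (tt N10280 (iv0 F48927)) (tt N4801 F20400) (tt N16697 (iv3 F40948)) (tt N3897 F20401) (tt N16699 D25913) (tt N3896 (iv6 D12297)) (tt N10715 (iv7 F313980)))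
theorem Q8169 : ∀ i, i < 8169 → P i := stepQ 8168 Q8168 (allL N8168 (tt N4805 (iv1 F20404)) (tt N3897 (iv0 D12298)) (tt N4802 F20408) (tt N16617 (iv3 F83901)) (tt N16700 D25916) (tt N7829 (iv5 F20407)) (tt N16701 D25917) (tt N4803 F20406))
theorem Q8170 : ∀ i, i < 8170 → P i := stepQ 8169 Q8169 (allL N8169 (tt N4803 (iv1 F20405)) (tt N4802 F20411) (tt N4805 F20402) (tt N16692 (iv3 F40937)) (tt N10715 F316109) (tt N15938 (iv5 F39343)) (tt N4782 F20403) (tt N3897 (iv7 D12299)))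
theorem Q8171 : ∀ i, i < 8171 → P i := stepQ 8170 Q8170 (allL N8170 (tt N16702 D25918) (tt N16703 D25919) (tt N15052 (iv2 F37757)) (tt N16704 D25920) (tt N3898 (iv4 D12300)) (tt N16705 D25921) (tt N16706 D25922) (tt N4820 F20412))
theorem Q8172 : ∀ i, i < 8172 → P i := stepQ 8171 Q8171 (allL N8171 (tt N16707 D25923) (tt N16708 D25924) (tt N15054 (iv2 F37766)) (tt N3900 F20413) (tt N16706 (iv4 F40978)) (tt N16709 D25925) (tt N3898 (iv6 D12301)) (tt N16710 D25926))
theorem Q8173 : ∀ i, i < 8173 → P i := stepQ 8172 Q8172 (allL N8172 (tt N16711 D25927) (tt N16712 D25928) (tt N16713 D25929) (tt N3899 (iv3 D12302)) (tt N16704 (iv4 F40975)) (tt N16714 D25930) (tt N16715 D25931) (tt N4822 F20414))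
theorem Q8174 : ∀ i, i < 8174 → P i := stepQ 8173 Q8173 (allL N8173 (tt N9965 (iv1 F24237)) (tt N9962 (iv0 F24232)) (tt N4813 F20415) (tt N16714 (iv3 F40989)) (tt N3949 F20417) (tt N3899 (iv5 D12303)) (tt N16716 D25932) (tt N4823 F20416))
theorem Q8175 : ∀ i, i < 8175 → P i := stepQ 8174 Q8174 (allL N8174 (tt N16717 D25933) (tt N16718 D25934) (tt N4814 F20418) (tt N16715 (iv3 F40991)) (tt N3900 F20419) (tt N16719 D25935) (tt N3899 (iv6 D12304)) (tt N16720 D25936))
theorem Q8176 : ∀ i, i < 8176 → P i := stepQ 8175 Q8175 (allL N8175 (tt N4818 (iv1 F20426)) (tt N3900 (iv0 D12305)) (tt N4815 (iv2 F49058)) (tt N16721 D25938) (tt N10442 F317408) (tt N16722 D25940) (tt N11118 F26196) (tt N4816 F49057))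
theorem Q8177 : ∀ i, i < 8177 → P i := stepQ 8176 Q8176 (allL N8176 (tt N3900 (iv1 D12306)) (tt N4818 F20420) (tt N4816 F49056) (tt N16628 F102018) (tt N16723 D25943) (tt N16724 D25944) (tt N16725 D25945) (tt N4815 (iv7 F49059)))
theorem Q8178 : ∀ i, i < 8178 → P i := stepQ 8177 Q8177 (allL N8177 (tt N4568 F20423) (tt N9329 F23123) (tt N4817 F20421) (tt N16709 (iv3 F40979)) (tt N16726 D25946) (tt N3900 (iv5 D12307)) (tt N4549 F20422) (tt N9327 (iv7 F23516)))
theorem Q8179 : ∀ i, i < 8179 → P i := stepQ 8178 Q8178 (allL N8178 (tt N4816 (iv1 F20427)) (tt N4815 F20428) (tt N4818 F20424) (tt N16710 (iv3 F40981)) (tt N16720 (iv4 F40997)) (tt N9327 (iv5 F23515)) (tt N4827 F20425) (tt N3900 (iv7 D12308)))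
theorem Q8180 : ∀ i, i < 8180 → P i := stepQ 8179 Q8179 (allL N8179 (tt N4598 (iv1 F20433)) (tt N4760 F20432) (tt N3901 (iv2 D12309)) (tt N4819 F20429) (tt N15762 (iv4 F39015)) (tt N7513 F20430) (tt N16727 D25947) (tt N4807 F20431))
theorem Q8181 : ∀ i, i < 8181 → P i := stepQ 8180 Q8180 (allL N8180 (tt N15738 (iv1 F38949)) (tt N15765 F39021) (tt N15762 F39016) (tt N16728 D25948) (tt N3901 (iv4 D12310)) (tt N16729 D25949) (tt N16730 D25950) (tt N4808 F20434))
theorem Q8182 : ∀ i, i < 8182 → P i := stepQ 8181 Q8181 (allL N8181 (tt N16731 D25951) (tt N16732 D25952) (tt N16727 (iv2 F41008)) (tt N3903 F20435) (tt N16730 (iv4 F41014)) (tt N11088 (iv5 F26113)) (tt N3901 (iv6 D12311)) (tt N16733 D25953))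
theorem Q8183 : ∀ i, i < 8183 → P i := stepQ 8182 Q8182 (allL N8182 (tt N16734 D25954) (tt N16735 D25955) (tt N16736 D25956) (tt N3902 (iv3 D12312)) (tt N16728 (iv4 F41011)) (tt N16737 D25957) (tt N16738 D25958) (tt N4812 F20436))
theorem Q8184 : ∀ i, i < 8184 → P i := stepQ 8183 Q8183 (allL N8183 (tt N9962 (iv1 F24233)) (tt N9965 (iv0 F24236)) (tt N4823 F20437) (tt N16737 (iv3 F41023)) (tt N3946 F20438) (tt N3902 (iv5 D12313)) (tt N10573 (iv6 F315189)) (tt N4813 F20439))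
theorem Q8185 : ∀ i, i < 8185 → P i := stepQ 8184 Q8184 (allL N8184 (tt N12516 (iv1 F315191)) (tt N16739 D25961) (tt N4824 F20440) (tt N16738 (iv3 F41025)) (tt N3903 F20441) (tt N5105 (iv5 F315192)) (tt N3902 (iv6 D12314)) (tt N11979 (iv7 F315195)))
theorem Q8186 : ∀ i, i < 8186 → P i := stepQ 8185 Q8185 (allL N8185 (tt N4827 (iv1 F20445)) (tt N3903 (iv0 D12315)) (tt N4825 F49011) (tt N16634 F161284) (tt N16740 D25966) (tt N4825 F26134) (tt N16741 D25967) (tt N4826 (iv7 F49014)))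
theorem Q8187 : ∀ i, i < 8187 → P i := stepQ 8186 Q8186 (allL N8186 (tt N3903 (iv1 D12316)) (tt N4827 F20442) (tt N4826 (iv2 F49013)) (tt N16742 D25969) (tt N16743 D25970) (tt N4826 F23518) (tt N11110 (iv6 F26175)) (tt N4825 F49012))
theorem Q8188 : ∀ i, i < 8188 → P i := stepQ 8187 Q8187 (allL N8187 (tt N4826 (iv1 F20446)) (tt N4825 F20447) (tt N4827 F20443) (tt N16733 (iv3 F41015)) (tt N11979 F317297) (tt N11094 (iv5 F26130)) (tt N4818 F20444) (tt N3903 (iv7 D12317)))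
theorem Q8189 : ∀ i, i < 8189 → P i := stepQ 8188 Q8188 (allL N8188 (tt N16744 D25971) (tt N16745 D25972) (tt N16746 D25973) (tt N3904 (iv3 D12318)) (tt N15135 (iv4 F37901)) (tt N16747 D25974) (tt N16748 D25975) (tt N4831 F20448))
theorem Q8190 : ∀ i, i < 8190 → P i := stepQ 8189 Q8189 (allL N8189 (tt N9959 (iv1 F24229)) (tt N9953 (iv0 F24223)) (tt N4829 F20449) (tt N16747 (iv3 F41051)) (tt N3941 F20451) (tt N3904 (iv5 D12319)) (tt N16749 D25976) (tt N4832 F20450))
theorem Q8191 : ∀ i, i < 8191 → P i := stepQ 8190 Q8190 (allL N8190 (tt N10442 (iv1 F315660)) (tt N16723 (iv0 F46731)) (tt N4830 F20452) (tt N16748 (iv3 F41053)) (tt N4344 F20453) (tt N16750 D25979) (tt N3904 (iv6 D12320)) (tt N16751 D25980))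
theorem Q8192 : ∀ i, i < 8192 → P i := stepQ 8191 Q8191 (allL N8191 (tt N16752 D25981) (tt N16753 D25982) (tt N16754 D25983) (tt N3905 (iv3 D12321)) (tt N16755 D25984) (tt N16756 D25985) (tt N16757 D25986) (tt N4828 F20454))
theorem Q8193 : ∀ i, i < 8193 → P i := stepQ 8192 Q8192 (allL N8192 (tt N9953 (iv1 F24224)) (tt N9959 (iv0 F24228)) (tt N4832 F20455) (tt N16756 (iv3 F41072)) (tt N3936 F20456) (tt N3905 (iv5 D12322)) (tt N16758 D25987) (tt N4829 F20457))
theorem Q8194 : ∀ i, i < 8194 → P i := stepQ 8193 Q8193 (allL N8193 (tt N16740 (iv1 F53803)) (tt N16743 (iv0 F53800)) (tt N4833 F20458) (tt N16757 (iv3 F41074)) (tt N4346 F20459) (tt N8394 (iv5 F316223)) (tt N3905 (iv6 D12323)) (tt N10844 (iv7 F316845)))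
theorem Q8195 : ∀ i, i < 8195 → P i := stepQ 8194 Q8194 (allL N8194 (tt N16759 D25992) (tt N3906 (iv0 D12324)) (tt N16760 D25993) (tt N16761 D25994) (tt N16762 D25995) (tt N16763 D25996) (tt N16764 D25997) (tt N16765 D25998))
theorem Q8196 : ∀ i, i < 8196 → P i := stepQ 8195 Q8195 (allL N8195 (tt N3906 (iv1 D12325)) (tt N16759 F41089) (tt N16765 (iv2 F41091)) (tt N16766 D25999) (tt N16767 D26000) (tt N16768 D26001) (tt N16769 D26002) (tt N16760 F41090))
theorem Q8197 : ∀ i, i < 8197 → P i := stepQ 8196 Q8196 (allL N8196 (tt N16760 (iv1 F181460)) (tt N16765 F181455) (tt N3906 (iv2 D12326)) (tt N4836 F20460) (tt N16648 (iv4 F40838)) (tt N16770 D26005) (tt N11127 (iv6 F26217)) (tt N16759 (iv7 F41088)))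
theorem Q8198 : ∀ i, i < 8198 → P i := stepQ 8197 Q8197 (allL N8197 (tt N16771 D26006) (tt N16772 D26007) (tt N16770 (iv2 F41094)) (tt N3907 F20461) (tt N16773 D26008) (tt N3906 (iv5 D12327)) (tt N16774 D26009) (tt N4987 (iv7 F20462)))
theorem Q8199 : ∀ i, i < 8199 → P i := stepQ 8198 Q8198 (allL N8198 (tt N16765 F181456) (tt N16760 (iv0 F181459)) (tt N16759 F41085) (tt N3908 F20463) (tt N16650 (iv4 F40841)) (tt N4987 F20464) (tt N16775 D26010) (tt N3906 (iv7 D12328)))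
theorem Q8200 : ∀ i, i < 8200 → P i := stepQ 8199 Q8199 (allL N8199 (tt N3958 (iv1 F20467)) (tt N3907 (iv0 D12329)) (tt N4839 (iv2 F20468)) (tt N16776 D26011) (tt N3932 F20466) (tt N3915 F20465) (tt N8309 F311233) (tt N4840 (iv7 F20469)))
theorem Q8201 : ∀ i, i < 8201 → P i := stepQ 8200 Q8200 (allL N8200 (tt N3907 (iv1 D12330)) (tt N3958 F20470) (tt N4840 (iv2 F20474)) (tt N16777 D26013) (tt N3922 F20473) (tt N3929 F20472) (tt N16778 D26014) (tt N4839 F20471))
theorem Q8202 : ∀ i, i < 8202 → P i := stepQ 8201 Q8201 (allL N8201 (tt N16779 D26015) (tt N16780 D26016) (tt N4841 F20475) (tt N16774 (iv3 F41103)) (tt N4992 F20476) (tt N11132 (iv5 F26231)) (tt N3907 (iv6 D12331)) (tt N16781 D26017))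
theorem Q8203 : ∀ i, i < 8203 → P i := stepQ 8202 Q8202 (allL N8202 (tt N16782 D26018) (tt N16783 D26019) (tt N4842 F20477) (tt N16775 (iv3 F41104)) (tt N3909 F20478) (tt N16784 D26020) (tt N3908 (iv6 D12332)) (tt N11133 (iv7 F26234)))
theorem Q8204 : ∀ i, i < 8204 → P i := stepQ 8203 Q8203 (allL N8203 (tt N4758 (iv1 F20479)) (tt N3909 (iv0 D12333)) (tt N4843 F39544) (tt N16785 D26021) (tt N16786 D26022) (tt N16787 D26023) (tt N16788 D26024) (tt N4844 F39545))
theorem Q8205 : ∀ i, i < 8205 → P i := stepQ 8204 Q8204 (allL N8204 (tt N3909 (iv1 D12334)) (tt N4758 F20480) (tt N4844 F39542) (tt N16789 D26025) (tt N16790 D26026) (tt N16791 D26027) (tt N15992 (iv6 F39505)) (tt N4843 F39543))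
theorem Q8206 : ∀ i, i < 8206 → P i := stepQ 8205 Q8205 (allL N8205 (tt N4333 (iv1 F22562)) (tt N4337 F22561) (tt N16792 D26028) (tt N3914 (iv3 D12337)) (tt N16793 D26029) (tt N7680 F20486) (tt N16794 D26030) (tt N4858 F20487))
theorem Q8207 : ∀ i, i < 8207 → P i := stepQ 8206 Q8206 (allL N8206 (tt N7488 F20490) (tt N11149 F27070) (tt N4863 F20488) (tt N16794 (iv3 F41147)) (tt N9966 (iv4 F24238)) (tt N4448 F20489) (tt N3914 (iv6 D12338)) (tt N11148 (iv7 F27067)))
theorem Q8208 : ∀ i, i < 8208 → P i := stepQ 8207 Q8207 (allL N8207 (tt N16795 D26031) (tt N16796 D26032) (tt N16797 D26033) (tt N3915 (iv3 D12339)) (tt N15153 (iv4 F37926)) (tt N16776 (iv5 F41105)) (tt N16798 D26034) (tt N4911 F20491))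
theorem Q8209 : ∀ i, i < 8209 → P i := stepQ 8208 Q8208 (allL N8208 (tt N4015 F316014) (tt N5172 F316015) (tt N4865 F20492) (tt N16798 (iv3 F41155)) (tt N3916 F20493) (tt N8219 F316016) (tt N3915 (iv6 D12340)) (tt N5171 F316017))
theorem Q8210 : ∀ i, i < 8210 → P i := stepQ 8209 Q8209 (allL N8209 (tt N4869 (iv1 F20498)) (tt N3916 (iv0 D12341)) (tt N4866 (iv2 F49813)) (tt N16799 D26040) (tt N3996 F316221) (tt N8210 F20495) (tt N11138 (iv6 F26240)) (tt N4867 F49812))
theorem Q8211 : ∀ i, i < 8211 → P i := stepQ 8210 Q8210 (allL N8210 (tt N3916 (iv1 D12342)) (tt N4869 F20494) (tt N4867 (iv2 F49808)) (tt N16800 D26043) (tt N5115 F318177) (tt N8209 (iv5 F20495)) (tt N16801 D26045) (tt N4866 (iv7 F49814)))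
theorem Q8212 : ∀ i, i < 8212 → P i := stepQ 8211 Q8211 (allL N8211 (tt N4867 (iv1 F20499)) (tt N4866 F20500) (tt N4869 F20496) (tt N15158 (iv3 F37932)) (tt N5171 F316188) (tt N10726 (iv5 F317165)) (tt N4916 F20497) (tt N3916 (iv7 D12343)))
theorem Q8213 : ∀ i, i < 8213 → P i := stepQ 8212 Q8212 (allL N8212 (tt N11168 (iv1 F50810)) (tt N16802 D26047) (tt N16803 D26048) (tt N3918 (iv3 D12344)) (tt N4877 F20501) (tt N10356 (iv5 F24708)) (tt N4556 F20502) (tt N4875 F20503))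
theorem Q8214 : ∀ i, i < 8214 → P i := stepQ 8213 Q8213 (allL N8213 (tt N16804 D26049) (tt N11215 (iv0 F27311)) (tt N5662 F26726) (tt N3919 (iv3 D12345)) (tt N16270 (iv4 F40237)) (tt N10354 (iv5 F24705)) (tt N4077 F26473) (tt N4873 F20505))
theorem Q8215 : ∀ i, i < 8215 → P i := stepQ 8214 Q8214 (allL N8214 (tt N16805 D26050) (tt N16806 D26051) (tt N16807 D26052) (tt N3920 (iv3 D12346)) (tt N4875 F20506) (tt N10306 (iv5 F24632)) (tt N5062 F26489) (tt N4877 F20508))
theorem Q8216 : ∀ i, i < 8216 → P i := stepQ 8215 Q8215 (allL N8215 (tt N16808 D26053) (tt N16809 D26054) (tt N11218 (iv2 F27320)) (tt N3922 F20515) (tt N16810 D26055) (tt N3921 (iv5 D12350)) (tt N16811 D26056) (tt N4920 F20516))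
theorem Q8217 : ∀ i, i < 8217 → P i := stepQ 8216 Q8216 (allL N8216 (tt N16812 D26057) (tt N16813 D26058) (tt N4886 F20518) (tt N16811 (iv3 F41201)) (tt N16778 (iv4 F41112)) (tt N16717 F314554) (tt N3922 (iv6 D12352)) (tt N16814 D26060))
theorem Q8218 : ∀ i, i < 8218 → P i := stepQ 8217 Q8217 (allL N8217 (tt N3923 (iv1 D12353)) (tt N4890 F20519) (tt N4888 (iv2 F20522)) (tt N16815 D26061) (tt N4360 F20521) (tt N8351 (iv5 F20943)) (tt N11047 (iv6 F25945)) (tt N4887 F20520))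
theorem Q8219 : ∀ i, i < 8219 → P i := stepQ 8218 Q8218 (allL N8218 (tt N5110 F20524) (tt N5112 F20525) (tt N4889 F20523) (tt N11050 (iv3 F26697)) (tt N10191 (iv4 F315184)) (tt N3923 (iv5 D12354)) (tt N16717 F312703) (tt N11154 (iv7 F27082)))
theorem Q8220 : ∀ i, i < 8220 → P i := stepQ 8219 Q8219 (allL N8219 (tt N7452 F20531) (tt N7202 F20532) (tt N4892 F20528) (tt N16816 D26063) (tt N3924 (iv4 D12355)) (tt N8208 (iv5 F316016)) (tt N3970 F20529) (tt N4893 F20530))
theorem Q8221 : ∀ i, i < 8221 → P i := stepQ 8220 Q8220 (allL N8220 (tt N7202 F20535) (tt N7452 F20536) (tt N4893 F20533) (tt N16817 D26064) (tt N3925 (iv4 D12356)) (tt N8398 (iv5 F21037)) (tt N11046 (iv6 F25940)) (tt N4892 F20534))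
theorem Q8222 : ∀ i, i < 8222 → P i := stepQ 8221 Q8221 (allL N8221 (tt N4345 (iv1 F20539)) (tt N7728 F20540) (tt N4847 F20537) (tt N16079 (iv3 F39807)) (tt N16818 D26065) (tt N3926 (iv5 D12357)) (tt N16819 D26066) (tt N4417 F20538))
theorem Q8223 : ∀ i, i < 8223 → P i := stepQ 8222 Q8222 (allL N8222 (tt N4848 (iv1 F20541)) (tt N3927 (iv0 D12358)) (tt N4851 (iv2 F22183)) (tt N15409 F40858) (tt N16820 D26067) (tt N10319 (iv5 F24646)) (tt N16821 D26068) (tt N4850 F22182))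
theorem Q8224 : ∀ i, i < 8224 → P i := stepQ 8223 Q8223 (allL N8223 (tt N3927 (iv1 D12359)) (tt N4848 F20542) (tt N4850 F22180) (tt N16822 D26069) (tt N16823 D26070) (tt N4270 F20543) (tt N16824 D26071) (tt N4851 (iv7 F22181)))
theorem Q8225 : ∀ i, i < 8225 → P i := stepQ 8224 Q8224 (allL N8224 (tt N16825 D26072) (tt N16826 D26073) (tt N15164 (iv2 F37947)) (tt N16827 D26074) (tt N3927 (iv4 D12360)) (tt N16828 D26075) (tt N16829 D26076) (tt N4852 F20544))
theorem Q8226 : ∀ i, i < 8226 → P i := stepQ 8225 Q8225 (allL N8225 (tt N16830 D26077) (tt N16831 D26078) (tt N15165 (iv2 F37951)) (tt N3930 F20545) (tt N16829 (iv4 F41250)) (tt N15660 (iv5 F38773)) (tt N3927 (iv6 D12361)) (tt N16832 D26079))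
theorem Q8227 : ∀ i, i < 8227 → P i := stepQ 8226 Q8226 (allL N8226 (tt N15166 (iv1 F37958)) (tt N3928 (iv0 D12362)) (tt N10166 (iv2 F24465)) (tt N15442 F39234) (tt N9812 F36867) (tt N4271 F22196) (tt N10143 F24426) (tt N4425 F22939))
theorem Q8228 : ∀ i, i < 8228 → P i := stepQ 8227 Q8227 (allL N8227 (tt N3928 (iv1 D12363)) (tt N15166 F37957) (tt N4425 F23668) (tt N16101 (iv3 F39883)) (tt N9576 F23669) (tt N4272 F23670) (tt N4418 F23671) (tt N10166 (iv7 F24466)))
theorem Q8229 : ∀ i, i < 8229 → P i := stepQ 8228 Q8228 (allL N8228 (tt N16833 D26080) (tt N16834 D26081) (tt N16835 D26082) (tt N3929 (iv3 D12364)) (tt N16827 (iv4 F41247)) (tt N16777 (iv5 F41109)) (tt N16836 D26083) (tt N4864 F20546))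
theorem Q8230 : ∀ i, i < 8230 → P i := stepQ 8229 Q8229 (allL N8229 (tt N16700 (iv1 F46775)) (tt N15585 (iv0 F46772)) (tt N4912 F20547) (tt N16836 (iv3 F41261)) (tt N3930 F20548) (tt N16837 D26086) (tt N3929 (iv6 D12365)) (tt N16838 D26087))
theorem Q8231 : ∀ i, i < 8231 → P i := stepQ 8230 Q8230 (allL N8230 (tt N4916 (iv1 F20555)) (tt N3930 (iv0 D12366)) (tt N4913 F20558) (tt N16839 D26088) (tt N10015 (iv4 F47798)) (tt N8960 (iv5 F22329)) (tt N16840 D26090) (tt N4914 F20557))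
theorem Q8232 : ∀ i, i < 8232 → P i := stepQ 8231 Q8231 (allL N8231 (tt N3930 (iv1 D12367)) (tt N4916 F20549) (tt N4914 F20552) (tt N16841 D26091) (tt N10016 (iv4 F47794)) (tt N4276 (iv5 F20551)) (tt N7482 (iv6 F20550)) (tt N4913 (iv7 F20559)))
theorem Q8233 : ∀ i, i < 8233 → P i := stepQ 8232 Q8232 (allL N8232 (tt N4914 (iv1 F20556)) (tt N4913 F20560) (tt N4916 F20553) (tt N16832 (iv3 F41253)) (tt N16838 (iv4 F41265)) (tt N15665 (iv5 F38780)) (tt N4869 F20554) (tt N3930 (iv7 D12368)))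
theorem Q8234 : ∀ i, i < 8234 → P i := stepQ 8233 Q8233 (allL N8233 (tt N4883 (iv1 F20561)) (tt N3931 (iv0 D12369)) (tt N4882 F50451) (tt N16842 D26094) (tt N11461 (iv4 F50411)) (tt N10302 (iv5 F50412)) (tt N3976 (iv6 F50413)) (tt N4881 F50452))
theorem Q8235 : ∀ i, i < 8235 → P i := stepQ 8234 Q8234 (allL N8234 (tt N3931 (iv1 D12370)) (tt N4883 F20566) (tt N4881 F50454) (tt N16843 D26099) (tt N16844 D26100) (tt N10303 (iv5 F50419)) (tt N11151 (iv6 F50433)) (tt N4882 F50455))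
theorem Q8236 : ∀ i, i < 8236 → P i := stepQ 8235 Q8235 (allL N8235 (tt N4882 (iv1 F20567)) (tt N4881 F20565) (tt N3931 (iv2 D12371)) (tt N4919 F20562) (tt N8235 F20563) (tt N16845 D26103) (tt N9310 F26629) (tt N4883 F20564))
theorem Q8237 : ∀ i, i < 8237 → P i := stepQ 8236 Q8236 (allL N8236 (tt N16846 D26104) (tt N16847 D26105) (tt N16845 (iv2 F41286)) (tt N3932 F20568) (tt N16483 (iv4 F313561)) (tt N3931 (iv5 D12372)) (tt N16482 F311232) (tt N4884 F20569))
theorem Q8238 : ∀ i, i < 8238 → P i := stepQ 8237 Q8237 (allL N8237 (tt N10692 (iv1 F308799)) (tt N16848 D26109) (tt N4921 F20570) (tt N16482 (iv3 F309097)) (tt N8309 (iv4 F309098)) (tt N10622 (iv5 F309100)) (tt N3932 (iv6 D12373)) (tt N10605 (iv7 F308797)))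
theorem Q8239 : ∀ i, i < 8239 → P i := stepQ 8238 Q8238 (allL N8238 (tt N4933 F26555) (tt N3935 (iv0 D12378)) (tt N4930 F26556) (tt N16849 D26111) (tt N4367 F26557) (tt N16808 (iv5 F41191)) (tt N3995 F26558) (tt N4931 F26559))
theorem Q8240 : ∀ i, i < 8240 → P i := stepQ 8239 Q8239 (allL N8239 (tt N3935 (iv1 D12379)) (tt N4933 F26560) (tt N4931 F26561) (tt N16850 D26112) (tt N4368 F26562) (tt N16809 (iv5 F41197)) (tt N3984 F26563) (tt N4930 F26564))
theorem Q8241 : ∀ i, i < 8241 → P i := stepQ 8240 Q8240 (allL N8240 (tt N5484 F26567) (tt N10287 (iv0 F26635)) (tt N4932 F26569) (tt N3936 F20591) (tt N16851 D26113) (tt N3935 (iv5 D12381)) (tt N16852 D26114) (tt N4939 F20592))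
theorem Q8242 : ∀ i, i < 8242 → P i := stepQ 8241 Q8241 (allL N8241 (tt N16853 D26115) (tt N16854 D26116) (tt N4929 F20594) (tt N16852 (iv3 F41311)) (tt N16758 (iv4 F41076)) (tt N16852 (iv5 F41312)) (tt N3936 (iv6 D12383)) (tt N16855 D26117))
theorem Q8243 : ∀ i, i < 8243 → P i := stepQ 8242 Q8242 (allL N8242 (tt N4956 F20614) (tt N3947 (iv0 F20621)) (tt N4936 F20611) (tt N10394 (iv3 F26807)) (tt N3937 (iv4 D12388)) (tt N16856 D26118) (tt N3999 F20612) (tt N4937 F20613))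
theorem Q8244 : ∀ i, i < 8244 → P i := stepQ 8243 Q8243 (allL N8243 (tt N3947 F20619) (tt N4956 F20620) (tt N4937 F20616) (tt N4957 (iv3 F26969)) (tt N3938 (iv4 D12389)) (tt N16857 D26119) (tt N5053 F20617) (tt N4936 F20618))
theorem Q8245 : ∀ i, i < 8245 → P i := stepQ 8244 Q8244 (allL N8244 (tt N4925 (iv1 F20622)) (tt N3940 (iv0 D12390)) (tt N4924 F41347) (tt N16858 D26121) (tt N10404 (iv4 F24765)) (tt N16846 (iv5 F50426)) (tt N3988 F41331) (tt N4923 F41348))
theorem Q8246 : ∀ i, i < 8246 → P i := stepQ 8245 Q8245 (allL N8245 (tt N3940 (iv1 D12391)) (tt N4925 F20627) (tt N4923 F41354) (tt N16859 D26123) (tt N10334 (iv4 F24693)) (tt N16847 (iv5 F50429)) (tt N16860 D26125) (tt N4924 F41355))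
theorem Q8247 : ∀ i, i < 8247 → P i := stepQ 8246 Q8246 (allL N8246 (tt N4924 (iv1 F20628)) (tt N4923 F20626) (tt N3940 (iv2 D12392)) (tt N4933 F26585) (tt N8246 F20624) (tt N16861 D26126) (tt N16862 D26127) (tt N4925 F20625))
theorem Q8248 : ∀ i, i < 8248 → P i := stepQ 8247 Q8247 (allL N8247 (tt N10221 F50471) (tt N10225 F50472) (tt N16861 (iv2 F41383)) (tt N3941 F20629) (tt N16863 D26129) (tt N3940 (iv5 D12393)) (tt N16864 D26130) (tt N4926 F20630))
theorem Q8249 : ∀ i, i < 8249 → P i := stepQ 8248 Q8248 (allL N8248 (tt N16865 D26131) (tt N16865 F41400) (tt N16862 (iv2 F41390)) (tt N3942 F20631) (tt N8248 F20632) (tt N16866 D26132) (tt N3940 (iv6 D12394)) (tt N16862 (iv7 F41393)))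
theorem Q8250 : ∀ i, i < 8250 → P i := stepQ 8249 Q8249 (allL N8249 (tt N16867 D26133) (tt N16868 D26134) (tt N4941 F20633) (tt N16864 (iv3 F41398)) (tt N16749 (iv4 F41055)) (tt N16869 D26135) (tt N3941 (iv6 D12395)) (tt N16870 D26136))
theorem Q8251 : ∀ i, i < 8251 → P i := stepQ 8250 Q8250 (allL N8250 (tt N5512 F20635) (tt N5508 F20636) (tt N4943 F20634) (tt N16866 (iv3 F41402)) (tt N10692 F26906) (tt N3942 (iv5 D12396)) (tt N16869 (iv6 F41406)) (tt N10578 (iv7 F24970)))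
theorem Q8252 : ∀ i, i < 8252 → P i := stepQ 8251 Q8251 (allL N8251 (tt N4493 (iv1 F20640)) (tt N4942 F20641) (tt N4940 F26549) (tt N16862 (iv3 F41391)) (tt N3944 F20638) (tt N10578 (iv5 F24971)) (tt N4933 F20639) (tt N3942 (iv7 D12397)))
theorem Q8253 : ∀ i, i < 8253 → P i := stepQ 8252 Q8252 (allL N8252 (tt N4965 (iv1 F20650)) (tt N3950 F20649) (tt N4945 F20645) (tt N16871 D26137) (tt N3943 (iv4 D12398)) (tt N5500 F20648) (tt N4572 F20646) (tt N4487 F20647))
theorem Q8254 : ∀ i, i < 8254 → P i := stepQ 8253 Q8253 (allL N8253 (tt N4959 (iv1 F20651)) (tt N3945 (iv0 D12399)) (tt N4958 F26975) (tt N4936 F26958) (tt N16872 D26138) (tt N16873 D26139) (tt N5119 F26959) (tt N4957 F26976))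
theorem Q8255 : ∀ i, i < 8255 → P i := stepQ 8254 Q8254 (allL N8254 (tt N3945 (iv1 D12400)) (tt N4959 F20655) (tt N4957 F26970) (tt N10395 F26956) (tt N16874 D26140) (tt N16875 D26141) (tt N4001 F26957) (tt N4958 F26971))
theorem Q8256 : ∀ i, i < 8256 → P i := stepQ 8255 Q8255 (allL N8255 (tt N4958 (iv1 F20656)) (tt N4957 F20654) (tt N3945 (iv2 D12401)) (tt N4948 F20652) (tt N16297 (iv4 F40273)) (tt N16876 D26142) (tt N3951 F26905) (tt N4959 F20653))
theorem Q8257 : ∀ i, i < 8257 → P i := stepQ 8256 Q8256 (allL N8256 (tt N10487 F26928) (tt N16877 D26143) (tt N16876 (iv2 F41433)) (tt N3946 F20657) (tt N16878 D26144) (tt N3945 (iv5 D12402)) (tt N16879 D26145) (tt N4961 F20658))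
theorem Q8258 : ∀ i, i < 8258 → P i := stepQ 8257 Q8257 (allL N8257 (tt N3955 F26924) (tt N3953 F26925) (tt N3951 F26901) (tt N3947 F20659) (tt N16299 (iv4 F40283)) (tt N16880 D26146) (tt N3945 (iv6 D12403)) (tt N3952 F26902))
theorem Q8259 : ∀ i, i < 8259 → P i := stepQ 8258 Q8258 (allL N8258 (tt N16881 D26147) (tt N16882 D26148) (tt N4954 F20660) (tt N16879 (iv3 F41448)) (tt N10573 (iv4 F315188)) (tt N16883 D26149) (tt N3946 (iv6 D12404)) (tt N16884 D26150))
theorem Q8260 : ∀ i, i < 8260 → P i := stepQ 8259 Q8259 (allL N8259 (tt N5348 F20662) (tt N10494 F24866) (tt N4955 F20661) (tt N16880 (iv3 F41450)) (tt N16885 D26151) (tt N3947 (iv5 D12405)) (tt N16883 (iv6 F41456)) (tt N10492 (iv7 F24861)))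
theorem Q8261 : ∀ i, i < 8261 → P i := stepQ 8260 Q8260 (allL N8260 (tt N4937 (iv1 F20666)) (tt N4936 F20667) (tt N4956 F20663) (tt N3952 F26897) (tt N5486 F20664) (tt N10492 (iv5 F24859)) (tt N4965 F20665) (tt N3947 (iv7 D12406)))
theorem Q8262 : ∀ i, i < 8262 → P i := stepQ 8261 Q8261 (allL N8261 (tt N4948 (iv1 F20668)) (tt N3948 (iv0 D12407)) (tt N4947 F41356) (tt N10300 F24624) (tt N16886 D26152) (tt N16887 D26153) (tt N4008 F41357) (tt N4946 F41358))
theorem Q8263 : ∀ i, i < 8263 → P i := stepQ 8262 Q8262 (allL N8262 (tt N3948 (iv1 D12408)) (tt N4948 F20672) (tt N4946 F41359) (tt N16888 D26154) (tt N16889 D26155) (tt N16890 D26156) (tt N16891 D26157) (tt N4947 F41360))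
theorem Q8264 : ∀ i, i < 8264 → P i := stepQ 8263 Q8263 (allL N8263 (tt N4947 (iv1 F20673)) (tt N4946 F20671) (tt N3948 (iv2 D12409)) (tt N4959 F20669) (tt N16892 D26158) (tt N16893 D26159) (tt N16894 D26160) (tt N4948 F20670))
theorem Q8265 : ∀ i, i < 8265 → P i := stepQ 8264 Q8264 (allL N8264 (tt N16895 D26161) (tt N16896 D26162) (tt N16892 (iv2 F41481)) (tt N7160 F20674) (tt N3948 (iv4 D12410)) (tt N16897 D26163) (tt N16898 D26164) (tt N4949 F20675))
theorem Q8266 : ∀ i, i < 8266 → P i := stepQ 8265 Q8265 (allL N8265 (tt N16899 D26165) (tt N16900 D26166) (tt N16893 (iv2 F41487)) (tt N3949 F20676) (tt N16901 D26167) (tt N3948 (iv5 D12411)) (tt N16902 D26168) (tt N4950 F20677))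
theorem Q8267 : ∀ i, i < 8267 → P i := stepQ 8266 Q8266 (allL N8266 (tt N16903 D26169) (tt N16904 D26170) (tt N16894 (iv2 F41492)) (tt N3950 F20678) (tt N16898 (iv4 F41510)) (tt N16905 D26171) (tt N3948 (iv6 D12412)) (tt N16906 D26172))
theorem Q8268 : ∀ i, i < 8268 → P i := stepQ 8267 Q8267 (allL N8267 (tt N16907 D26173) (tt N16908 D26174) (tt N4963 F20679) (tt N16902 (iv3 F41515)) (tt N16716 (iv4 F40993)) (tt N16909 D26175) (tt N3949 (iv6 D12413)) (tt N16910 D26176))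
theorem Q8269 : ∀ i, i < 8269 → P i := stepQ 8268 Q8268 (allL N8268 (tt N8312 (iv1 F20812)) (tt N8309 (iv0 F20802)) (tt N4964 F20680) (tt N16905 (iv3 F41517)) (tt N16911 D26177) (tt N3950 (iv5 D12414)) (tt N16909 (iv6 F41522)) (tt N10600 (iv7 F24991)))
theorem Q8270 : ∀ i, i < 8270 → P i := stepQ 8269 Q8269 (allL N8269 (tt N4487 (iv1 F20684)) (tt N4945 F20685) (tt N4965 F20681) (tt N16906 (iv3 F41518)) (tt N5668 F20682) (tt N10600 (iv5 F24992)) (tt N4956 F20683) (tt N3950 (iv7 D12415)))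
theorem Q8271 : ∀ i, i < 8271 → P i := stepQ 8270 Q8270 (allL N8270 (tt N3952 (iv1 F20689)) (tt N3951 (iv0 D12416)) (tt N3955 (iv2 F20686)) (tt N4966 F20687) (tt N16322 (iv4 F40337)) (tt N16912 D26178) (tt N5164 F26873) (tt N3953 F20688))
theorem Q8272 : ∀ i, i < 8272 → P i := stepQ 8271 Q8271 (allL N8271 (tt N16888 (iv1 F41545)) (tt N16913 D26180) (tt N4951 F26903) (tt N3951 (iv3 D12418)) (tt N16914 D26181) (tt N16915 D26182) (tt N4948 F26904) (tt N16916 D26183))
theorem Q8273 : ∀ i, i < 8273 → P i := stepQ 8272 Q8272 (allL N8272 (tt N16917 D26184) (tt N16918 D26185) (tt N16299 (iv2 F40281)) (tt N16919 D26186) (tt N3951 (iv4 D12419)) (tt N16920 D26187) (tt N16297 F40278) (tt N16921 D26188))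
theorem Q8274 : ∀ i, i < 8274 → P i := stepQ 8273 Q8273 (allL N8273 (tt N11799 F28388) (tt N10201 F28389) (tt N16880 (iv2 F41449)) (tt N16915 (iv3 F41555)) (tt N16922 D26189) (tt N3951 (iv5 D12420)) (tt N16923 D26190) (tt N16924 D26191))
theorem Q8275 : ∀ i, i < 8275 → P i := stepQ 8274 Q8274 (allL N8274 (tt N3953 F26926) (tt N3955 F26927) (tt N3952 F20691) (tt N16916 (iv3 F41557)) (tt N16921 (iv4 F41566)) (tt N16924 (iv5 F41571)) (tt N16925 D26192) (tt N3951 (iv7 D12422)))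
theorem Q8276 : ∀ i, i < 8276 → P i := stepQ 8275 Q8275 (allL N8275 (tt N16918 (iv1 F41564)) (tt N16917 (iv0 F41563)) (tt N16921 (iv2 F41565)) (tt N16305 (iv3 F40299)) (tt N3952 (iv4 D12424)) (tt N16926 D26193) (tt N16927 D26194) (tt N16299 F40284))
theorem Q8277 : ∀ i, i < 8277 → P i := stepQ 8276 Q8276 (allL N8276 (tt N10201 (iv1 F41453)) (tt N11799 F41572) (tt N16924 (iv2 F41570)) (tt N10492 F26898) (tt N16928 D26195) (tt N3952 (iv5 D12425)) (tt N16929 D26196) (tt N16880 (iv7 F41451)))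
theorem Q8278 : ∀ i, i < 8278 → P i := stepQ 8277 Q8277 (allL N8277 (tt N16871 F41415) (tt N16930 D26197) (tt N16925 (iv2 F41574)) (tt N4965 F26899) (tt N16927 (iv4 F41581)) (tt N16931 D26198) (tt N3952 (iv6 D12426)) (tt N4962 F26900))
theorem Q8279 : ∀ i, i < 8279 → P i := stepQ 8278 Q8278 (allL N8278 (tt N16932 D26199) (tt N16933 D26200) (tt N3954 F20694) (tt N4976 F20695) (tt N16934 D26201) (tt N3953 (iv5 D12429)) (tt N16935 D26202) (tt N16912 (iv7 F41533)))
theorem Q8280 : ∀ i, i < 8280 → P i := stepQ 8279 Q8279 (allL N8279 (tt N16912 (iv1 F41538)) (tt N3954 (iv0 D12430)) (tt N16932 (iv2 F41592)) (tt N16936 D26203) (tt N16937 D26204) (tt N16804 (iv5 F41539)) (tt N16938 D26205) (tt N16933 (iv7 F41596)))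
theorem Q8281 : ∀ i, i < 8281 → P i := stepQ 8280 Q8280 (allL N8280 (tt N3954 (iv1 D12431)) (tt N16912 F41534) (tt N16933 (iv2 F41598)) (tt N11216 (iv3 F41536)) (tt N16939 D26206) (tt N11215 F41535) (tt N16940 D26207) (tt N16932 (iv7 F41594)))
theorem Q8282 : ∀ i, i < 8282 → P i := stepQ 8281 Q8281 (allL N8281 (tt N16941 D26208) (tt N16942 D26209) (tt N16934 (iv2 F41599)) (tt N16943 D26210) (tt N3954 (iv4 D12432)) (tt N16944 D26211) (tt N16945 D26212) (tt N16946 D26213))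
theorem Q8283 : ∀ i, i < 8283 → P i := stepQ 8282 Q8282 (allL N8282 (tt N16947 D26214) (tt N16948 D26215) (tt N16935 (iv2 F41600)) (tt N3959 F20696) (tt N16945 (iv4 F41605)) (tt N4032 F20697) (tt N3954 (iv6 D12433)) (tt N16949 D26216))
theorem Q8284 : ∀ i, i < 8284 → P i := stepQ 8283 Q8283 (allL N8283 (tt N16933 (iv1 F41595)) (tt N16932 F41590) (tt N16912 (iv2 F41531)) (tt N3960 F20698) (tt N16946 (iv4 F41607)) (tt N3955 F20699) (tt N16950 D26217) (tt N3954 (iv7 D12434)))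
theorem Q8285 : ∀ i, i < 8285 → P i := stepQ 8284 Q8284 (allL N8284 (tt N5155 F27014) (tt N5166 F27015) (tt N5164 F26870) (tt N3961 F20700) (tt N16339 (iv4 F40355)) (tt N16951 D26218) (tt N3955 (iv6 D12435)) (tt N4033 F20701))
theorem Q8286 : ∀ i, i < 8286 → P i := stepQ 8285 Q8285 (allL N8285 (tt N16873 F41424) (tt N16875 F41432) (tt N16952 D26219) (tt N3956 (iv3 D12436)) (tt N16953 D26220) (tt N7201 F20702) (tt N16954 D26221) (tt N4985 F20703))
theorem Q8287 : ∀ i, i < 8287 → P i := stepQ 8286 Q8286 (allL N8286 (tt N16955 D26222) (tt N16956 D26223) (tt N4984 F20704) (tt N16954 (iv3 F41620)) (tt N16698 (iv4 F40950)) (tt N10055 F316525) (tt N3956 (iv6 D12437)) (tt N16957 D26225))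
theorem Q8288 : ∀ i, i < 8288 → P i := stepQ 8287 Q8287 (allL N8287 (tt N16887 (iv1 F50512)) (tt N16890 (iv0 F50513)) (tt N16958 D26228) (tt N3957 (iv3 D12438)) (tt N16959 D26229) (tt N7204 F20705) (tt N16960 D26230) (tt N4983 F20706))
theorem Q8289 : ∀ i, i < 8289 → P i := stepQ 8288 Q8288 (allL N8288 (tt N16911 (iv1 F309356)) (tt N16961 D26232) (tt N4986 F20707) (tt N16960 (iv3 F41637)) (tt N5041 (iv4 F309369)) (tt N11159 (iv5 F27089)) (tt N3957 (iv6 D12439)) (tt N11516 (iv7 F309353)))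
theorem Q8290 : ∀ i, i < 8290 → P i := stepQ 8289 Q8289 (allL N8289 (tt N16962 D26234) (tt N16963 D26235) (tt N16964 D26236) (tt N3958 (iv3 D12440)) (tt N16943 (iv4 F41603)) (tt N4838 F20708) (tt N16965 D26237) (tt N4837 F20709))
theorem Q8291 : ∀ i, i < 8291 → P i := stepQ 8290 Q8290 (allL N8290 (tt N16966 D26238) (tt N16967 D26239) (tt N4988 F20710) (tt N16965 (iv3 F41651)) (tt N3959 F20711) (tt N16968 D26240) (tt N3958 (iv6 D12441)) (tt N16969 D26241))
theorem Q8292 : ∀ i, i < 8292 → P i := stepQ 8291 Q8291 (allL N8291 (tt N4991 (iv1 F20715)) (tt N3959 (iv0 D12442)) (tt N4989 F51254) (tt N16970 D26243) (tt N16971 D26244) (tt N16972 D26245) (tt N16973 D26246) (tt N4990 F51255))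
theorem Q8293 : ∀ i, i < 8293 → P i := stepQ 8292 Q8292 (allL N8292 (tt N3959 (iv1 D12443)) (tt N4991 F20712) (tt N4990 (iv2 F51249)) (tt N16974 D26248) (tt N16975 D26249) (tt N16976 D26250) (tt N16977 D26251) (tt N4989 (iv7 F51253)))
theorem Q8294 : ∀ i, i < 8294 → P i := stepQ 8293 Q8293 (allL N8293 (tt N4990 (iv1 F20716)) (tt N4989 F20717) (tt N4991 F20713) (tt N16949 (iv3 F41608)) (tt N16969 (iv4 F41656)) (tt N4040 F20714) (tt N16978 D26252) (tt N3959 (iv7 D12444)))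
theorem Q8295 : ∀ i, i < 8295 → P i := stepQ 8294 Q8294 (allL N8294 (tt N16979 D26253) (tt N16980 D26254) (tt N4992 F20718) (tt N16950 (iv3 F41610)) (tt N4841 F20719) (tt N16981 D26255) (tt N3960 (iv6 D12445)) (tt N16978 (iv7 F41681)))
theorem Q8296 : ∀ i, i < 8296 → P i := stepQ 8295 Q8295 (allL N8295 (tt N5249 (iv1 F20722)) (tt N5248 F20723) (tt N4993 F20720) (tt N16951 (iv3 F41612)) (tt N11041 (iv4 F25923)) (tt N3961 (iv5 D12446)) (tt N16981 (iv6 F41687)) (tt N4043 F20721))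
theorem Q8297 : ∀ i, i < 8297 → P i := stepQ 8296 Q8296 (allL N8296 (tt N8474 F21173) (tt N5092 F26370) (tt N8296 F20756) (tt N11394 (iv3 F27697)) (tt N5096 F26286) (tt N10680 (iv5 F26306)) (tt N3964 (iv6 D12458)) (tt N10680 F26371))
theorem Q8298 : ∀ i, i < 8298 → P i := stepQ 8297 Q8297 (allL N8297 (tt N5065 (iv1 F20764)) (tt N5064 F20765) (tt N3966 F20761) (tt N5028 F20762) (tt N16982 D26256) (tt N3965 (iv5 D12469)) (tt N16983 D26257) (tt N3980 F26414))
theorem Q8299 : ∀ i, i < 8299 → P i := stepQ 8298 Q8298 (allL N8298 (tt N3980 F26416) (tt N3966 (iv0 D12471)) (tt N5065 F26440) (tt N16984 D26258) (tt N11159 F310757) (tt N3983 F26441) (tt N11116 F310758) (tt N5064 F26442))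
theorem Q8300 : ∀ i, i < 8300 → P i := stepQ 8299 Q8299 (allL N8299 (tt N3966 (iv1 D12472)) (tt N3980 F26417) (tt N5064 F26444) (tt N16985 D26260) (tt N11801 (iv4 F28392)) (tt N3984 F26445) (tt N16986 D26261) (tt N5065 F26446))
theorem Q8301 : ∀ i, i < 8301 → P i := stepQ 8300 Q8300 (allL N8300 (tt N10295 (iv1 F308908)) (tt N16987 D26263) (tt N16982 (iv2 F41689)) (tt N4227 F20770) (tt N3966 (iv4 D12473)) (tt N5047 F26418) (tt N16988 D26264) (tt N5066 F20771))
theorem Q8302 : ∀ i, i < 8302 → P i := stepQ 8301 Q8301 (allL N8301 (tt N16989 D26265) (tt N16990 D26266) (tt N16983 (iv2 F41694)) (tt N3968 F20772) (tt N16988 (iv4 F41716)) (tt N16991 D26267) (tt N3966 (iv6 D12474)) (tt N16992 D26268))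
theorem Q8303 : ∀ i, i < 8303 → P i := stepQ 8302 Q8302 (allL N8302 (tt N5046 F26337) (tt N5045 F26338) (tt N5048 F26339) (tt N3969 F20773) (tt N16993 D26269) (tt N3967 (iv5 D12477)) (tt N16991 (iv6 F41719)) (tt N3969 F26340))
theorem Q8304 : ∀ i, i < 8304 → P i := stepQ 8303 Q8303 (allL N8303 (tt N16994 D26270) (tt N10076 (iv0 F313315)) (tt N5038 F20777) (tt N16991 (iv3 F41718)) (tt N16853 F312982) (tt N3968 (iv5 D12481)) (tt N3969 F20778) (tt N16995 D26273))
theorem Q8305 : ∀ i, i < 8305 → P i := stepQ 8304 Q8304 (allL N8304 (tt N5037 (iv1 F20783)) (tt N5036 F20784) (tt N5039 F20779) (tt N16992 (iv3 F41720)) (tt N4232 F20780) (tt N16995 (iv5 F41768)) (tt N5070 F20781) (tt N3968 (iv7 D12482)))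
theorem Q8306 : ∀ i, i < 8306 → P i := stepQ 8305 Q8305 (allL N8305 (tt N5048 (iv1 F20788)) (tt N3969 (iv0 D12483)) (tt N5045 (iv2 F20786)) (tt N16996 D26274) (tt N11501 (iv4 F27878)) (tt N4942 F20785) (tt N16997 D26275) (tt N5046 (iv7 F20787)))
theorem Q8307 : ∀ i, i < 8307 → P i := stepQ 8306 Q8306 (allL N8306 (tt N3969 (iv1 D12484)) (tt N5048 F20789) (tt N5046 (iv2 F20792)) (tt N16998 D26276) (tt N11012 F308637) (tt N4493 F20791) (tt N11011 (iv6 F310740)) (tt N5045 F20790))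
theorem Q8308 : ∀ i, i < 8308 → P i := stepQ 8307 Q8307 (allL N8307 (tt N16999 D26278) (tt N17000 D26279) (tt N5047 F20793) (tt N17001 D26280) (tt N3969 (iv4 D12485)) (tt N16982 (iv5 F41690)) (tt N16853 (iv6 F311511)) (tt N16993 (iv7 F41724)))
theorem Q8309 : ∀ i, i < 8309 → P i := stepQ 8308 Q8308 (allL N8308 (tt N11191 (iv1 F54081)) (tt N11190 (iv0 F54085)) (tt N11193 (iv2 F54075)) (tt N3970 (iv3 D12487)) (tt N5040 F20798) (tt N17002 D26284) (tt N16816 (iv6 F41217)) (tt N5054 F20799))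
theorem Q8310 : ∀ i, i < 8310 → P i := stepQ 8309 Q8309 (allL N8309 (tt N8268 F20802) (tt N10388 F24732) (tt N5052 F20800) (tt N17002 (iv3 F41842)) (tt N8237 F309098) (tt N3970 (iv5 D12488)) (tt N8199 (iv6 F311233)) (tt N5055 F20801))
theorem Q8311 : ∀ i, i < 8311 → P i := stepQ 8310 Q8310 (allL N8310 (tt N7496 F20807) (tt N4024 (iv0 F26394)) (tt N5053 F20803) (tt N5177 F26372) (tt N3971 (iv4 D12489)) (tt N5663 F20806) (tt N4937 F20804) (tt N5057 F20805))
theorem Q8312 : ∀ i, i < 8312 → P i := stepQ 8311 Q8311 (allL N8311 (tt N8495 F27042) (tt N4080 F27043) (tt N17003 D26287) (tt N3972 (iv3 D12490)) (tt N11434 (iv4 F27786)) (tt N17004 D26288) (tt N17005 D26289) (tt N5051 F20809))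
theorem Q8313 : ∀ i, i < 8313 → P i := stepQ 8312 Q8312 (allL N8312 (tt N10388 (iv1 F24733)) (tt N8268 F20812) (tt N5055 F20810) (tt N17004 (iv3 F41856)) (tt N10296 F309101) (tt N3972 (iv5 D12491)) (tt N17006 D26291) (tt N5052 F20811))
theorem Q8314 : ∀ i, i < 8314 → P i := stepQ 8313 Q8313 (allL N8313 (tt N9313 F23107) (tt N11214 (iv0 F27306)) (tt N5056 F20813) (tt N17005 (iv3 F41858)) (tt N3974 F20814) (tt N11026 (iv5 F25904)) (tt N3972 (iv6 D12492)) (tt N11046 (iv7 F25941)))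
theorem Q8315 : ∀ i, i < 8315 → P i := stepQ 8314 Q8314 (allL N8314 (tt N4024 (iv1 F26395)) (tt N7496 F20819) (tt N5057 F20815) (tt N4000 F26330) (tt N3973 (iv4 D12493)) (tt N5664 (iv5 F20820)) (tt N3998 F20816) (tt N5053 F20817))
theorem Q8316 : ∀ i, i < 8316 → P i := stepQ 8315 Q8315 (allL N8315 (tt N11451 F28349) (tt N17007 D26292) (tt N11769 (iv2 F28338)) (tt N3975 (iv3 D12495)) (tt N8021 F20822) (tt N10652 (iv5 F27214)) (tt N17008 D26293) (tt N5021 F27232))
theorem Q8317 : ∀ i, i < 8317 → P i := stepQ 8316 Q8316 (allL N8316 (tt N11192 (iv1 F27282)) (tt N5337 (iv0 F25752)) (tt N5025 F27233) (tt N8615 (iv3 F27037)) (tt N3975 (iv4 D12496)) (tt N17009 D26294) (tt N17010 D26295) (tt N5022 F27234))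
theorem Q8318 : ∀ i, i < 8318 → P i := stepQ 8317 Q8317 (allL N8317 (tt N9310 F50456) (tt N4895 (iv0 F50484)) (tt N5027 F27235) (tt N17008 (iv3 F41871)) (tt N17010 (iv4 F41879)) (tt N9375 F26968) (tt N3975 (iv6 D12498)) (tt N11151 (iv7 F50434)))
theorem Q8319 : ∀ i, i < 8319 → P i := stepQ 8318 Q8318 (allL N8318 (tt N17011 D26299) (tt N11051 (iv0 F26876)) (tt N17012 D26300) (tt N3976 (iv3 D12500)) (tt N11464 (iv4 F27853)) (tt N10655 F27264) (tt N16842 (iv6 F50408)) (tt N5024 F27228))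
theorem Q8320 : ∀ i, i < 8320 → P i := stepQ 8319 Q8319 (allL N8319 (tt N5031 (iv1 F20827)) (tt N5030 F20828) (tt N3978 F20824) (tt N3980 F26468) (tt N17013 D26305) (tt N3977 (iv5 D12503)) (tt N17014 D26306) (tt N5028 F20826))
theorem Q8321 : ∀ i, i < 8321 → P i := stepQ 8320 Q8320 (allL N8320 (tt N5028 (iv1 F20832)) (tt N3978 (iv0 D12505)) (tt N5031 F27193) (tt N17015 D26307) (tt N13018 (iv4 F31384)) (tt N3988 F27194) (tt N17016 D26308) (tt N5030 F27195))
theorem Q8322 : ∀ i, i < 8322 → P i := stepQ 8321 Q8321 (allL N8321 (tt N3978 (iv1 D12506)) (tt N5028 F20833) (tt N5030 F27196) (tt N17017 D26309) (tt N14343 (iv4 F35290)) (tt N3989 F27197) (tt N17018 D26310) (tt N5031 F27198))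
theorem Q8323 : ∀ i, i < 8323 → P i := stepQ 8322 Q8322 (allL N8322 (tt N17019 D26311) (tt N12752 (iv0 F30820)) (tt N17013 (iv2 F41909)) (tt N4220 F20834) (tt N3978 (iv4 D12507)) (tt N12799 (iv5 F30929)) (tt N17020 D26312) (tt N5032 F20835))
theorem Q8324 : ∀ i, i < 8324 → P i := stepQ 8323 Q8323 (allL N8323 (tt N17021 D26313) (tt N17022 D26314) (tt N17014 (iv2 F41914)) (tt N3979 F20836) (tt N17020 (iv4 F41929)) (tt N17014 (iv5 F41916)) (tt N3978 (iv6 D12508)) (tt N17023 D26315))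
theorem Q8325 : ∀ i, i < 8325 → P i := stepQ 8324 Q8324 (allL N8324 (tt N17024 D26316) (tt N17025 D26317) (tt N5067 F26470) (tt N17014 (iv3 F41915)) (tt N17026 D26318) (tt N3979 (iv5 D12515)) (tt N3980 F20843) (tt N17027 D26319))
theorem Q8326 : ∀ i, i < 8326 → P i := stepQ 8325 Q8325 (allL N8325 (tt N5069 (iv1 F20848)) (tt N5068 F20849) (tt N5070 F20844) (tt N17023 (iv3 F41930)) (tt N4225 F20845) (tt N17027 (iv5 F41938)) (tt N5039 F20846) (tt N3979 (iv7 D12516)))
theorem Q8327 : ∀ i, i < 8327 → P i := stepQ 8326 Q8326 (allL N8326 (tt N16987 (iv1 F41710)) (tt N10295 F311021) (tt N5066 F26469) (tt N17028 D26320) (tt N3980 (iv4 D12519)) (tt N16993 (iv5 F41723)) (tt N17026 (iv6 F41936)) (tt N16982 (iv7 F41691)))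
theorem Q8328 : ∀ i, i < 8328 → P i := stepQ 8327 Q8327 (allL N8327 (tt N8424 (iv1 F26462)) (tt N15319 (iv0 F38234)) (tt N5072 F20864) (tt N5658 (iv3 F26758)) (tt N10691 F26752) (tt N3981 (iv5 D12522)) (tt N17029 D26321) (tt N5074 F20865))
theorem Q8329 : ∀ i, i < 8329 → P i := stepQ 8328 Q8328 (allL N8328 (tt N5338 F26485) (tt N5334 F26486) (tt N5659 F26724) (tt N3982 (iv3 D12523)) (tt N5062 F26487) (tt N10858 F26488) (tt N4875 F20867) (tt N5071 F20868))
theorem Q8330 : ∀ i, i < 8330 → P i := stepQ 8329 Q8329 (allL N8329 (tt N15319 (iv1 F38235)) (tt N8424 (iv0 F26461)) (tt N5074 F20869) (tt N10858 F26744) (tt N10690 (iv4 F26745)) (tt N3982 (iv5 D12524)) (tt N17030 D26322) (tt N5072 F20870))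
theorem Q8331 : ∀ i, i < 8331 → P i := stepQ 8330 Q8330 (allL N8330 (tt N4393 F25452) (tt N16477 (iv0 F40581)) (tt N10750 F25416) (tt N3983 (iv3 D12531)) (tt N8385 F21015) (tt N16984 (iv5 F41697)) (tt N5109 F26439) (tt N5097 F25417))
theorem Q8332 : ∀ i, i < 8332 → P i := stepQ 8331 Q8331 (allL N8331 (tt N4389 F25426) (tt N4394 F25427) (tt N10865 (iv2 F25651)) (tt N3984 (iv3 D12536)) (tt N5177 F20886) (tt N16985 (iv5 F41701)) (tt N16850 (iv6 F41304)) (tt N5098 F25428))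
theorem Q8333 : ∀ i, i < 8333 → P i := stepQ 8332 Q8332 (allL N8332 (tt N5101 (iv1 F20891)) (tt N5100 F20892) (tt N3986 F20888) (tt N5080 F20889) (tt N13851 (iv4 F33970)) (tt N3985 (iv5 D12540)) (tt N17031 D26323) (tt N5099 F20890))
theorem Q8334 : ∀ i, i < 8334 → P i := stepQ 8333 Q8333 (allL N8333 (tt N17032 D26324) (tt N17033 D26325) (tt N17031 (iv2 F41976)) (tt N3987 F20895) (tt N13852 (iv4 F33980)) (tt N9553 (iv5 F23611)) (tt N3986 (iv6 D12543)) (tt N17034 D26326))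
theorem Q8335 : ∀ i, i < 8335 → P i := stepQ 8334 Q8334 (allL N8334 (tt N5090 (iv1 F20901)) (tt N5089 F20902) (tt N5091 F20897) (tt N17034 (iv3 F41980)) (tt N4180 F20898) (tt N9562 (iv5 F23626)) (tt N5108 F20899) (tt N3987 (iv7 D12546)))
theorem Q8336 : ∀ i, i < 8336 → P i := stepQ 8335 Q8335 (allL N8335 (tt N11371 F27641) (tt N14845 F37288) (tt N10809 F25554) (tt N3988 (iv3 D12548)) (tt N8043 F20904) (tt N17015 (iv5 F41917)) (tt N16858 F41330) (tt N5075 F25555))
theorem Q8337 : ∀ i, i < 8337 → P i := stepQ 8336 Q8336 (allL N8336 (tt N16480 (iv1 F40593)) (tt N4388 F25469) (tt N16476 F40575) (tt N3989 (iv3 D12552)) (tt N8409 (iv4 F21066)) (tt N17017 (iv5 F41920)) (tt N17035 D26327) (tt N5078 F25561))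
theorem Q8338 : ∀ i, i < 8338 → P i := stepQ 8337 Q8337 (allL N8337 (tt N5251 F27200) (tt N3992 F27201) (tt N5077 F25564) (tt N17035 (iv3 F41982)) (tt N10729 (iv4 F25370)) (tt N17036 D26328) (tt N3989 (iv6 D12554)) (tt N16860 (iv7 F41380)))
theorem Q8339 : ∀ i, i < 8339 → P i := stepQ 8338 Q8338 (allL N8338 (tt N5082 (iv1 F20909)) (tt N5081 F20910) (tt N3991 F20906) (tt N5099 F20907) (tt N17037 D26329) (tt N3990 (iv5 D12555)) (tt N17038 D26330) (tt N5080 F20908))
theorem Q8340 : ∀ i, i < 8340 → P i := stepQ 8339 Q8339 (allL N8339 (tt N5077 F27208) (tt N16860 F41381) (tt N3992 F20911) (tt N4047 F26507) (tt N8339 F20913) (tt N17039 D26331) (tt N3990 (iv6 D12556)) (tt N5251 F26508))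
theorem Q8341 : ∀ i, i < 8341 → P i := stepQ 8340 Q8340 (allL N8340 (tt N17040 D26332) (tt N14290 (iv0 F35182)) (tt N17037 (iv2 F41984)) (tt N4173 F20916) (tt N3991 (iv4 D12559)) (tt N12749 (iv5 F30807)) (tt N17041 D26333) (tt N5083 F20917))
theorem Q8342 : ∀ i, i < 8342 → P i := stepQ 8341 Q8341 (allL N8341 (tt N17042 D26334) (tt N17043 D26335) (tt N17038 (iv2 F41988)) (tt N3993 F20920) (tt N17041 (iv4 F41999)) (tt N17044 D26336) (tt N3991 (iv6 D12560)) (tt N17045 D26337))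
theorem Q8343 : ∀ i, i < 8343 → P i := stepQ 8342 Q8342 (allL N8342 (tt N3992 (iv1 D12562)) (tt N5251 F26940) (tt N16860 (iv2 F41379)) (tt N17046 D26338) (tt N10898 (iv4 F51000)) (tt N17047 D26340) (tt N4923 F41364) (tt N5077 F27202))
theorem Q8344 : ∀ i, i < 8344 → P i := stepQ 8343 Q8343 (allL N8343 (tt N17048 D26341) (tt N17049 D26342) (tt N17039 (iv2 F41990)) (tt N3996 F20921) (tt N17050 D26343) (tt N3992 (iv5 D12563)) (tt N17044 (iv6 F42001)) (tt N17051 D26344))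
theorem Q8345 : ∀ i, i < 8345 → P i := stepQ 8344 Q8344 (allL N8344 (tt N16860 (iv1 F41382)) (tt N5077 F27207) (tt N5251 F26799) (tt N3997 F20922) (tt N8344 F20923) (tt N17051 (iv5 F42012)) (tt N4501 F20924) (tt N3992 (iv7 D12564)))
theorem Q8346 : ∀ i, i < 8346 → P i := stepQ 8345 Q8345 (allL N8345 (tt N17052 D26345) (tt N9884 F313993) (tt N5107 F20926) (tt N17044 (iv3 F42000)) (tt N11138 F313994) (tt N3993 (iv5 D12567)) (tt N3996 F20927) (tt N17053 D26348))
theorem Q8347 : ∀ i, i < 8347 → P i := stepQ 8346 Q8346 (allL N8346 (tt N5106 (iv1 F20932)) (tt N5105 F20933) (tt N5108 F20928) (tt N17045 (iv3 F42002)) (tt N4177 F20929) (tt N17053 (iv5 F42025)) (tt N5091 F20930) (tt N3993 (iv7 D12568)))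
theorem Q8348 : ∀ i, i < 8348 → P i := stepQ 8347 Q8347 (allL N8347 (tt N17054 D26349) (tt N4396 F50831) (tt N17055 D26351) (tt N3994 (iv3 D12569)) (tt N5116 F20934) (tt N17056 D26352) (tt N5098 F26512) (tt N5111 F20935))
theorem Q8349 : ∀ i, i < 8349 → P i := stepQ 8348 Q8348 (allL N8348 (tt N11154 (iv1 F27084)) (tt N4889 F20938) (tt N5110 F20936) (tt N17056 (iv3 F42036)) (tt N4752 (iv4 F313685)) (tt N3994 (iv5 D12570)) (tt N4751 F312646) (tt N5112 F20937))
theorem Q8350 : ∀ i, i < 8350 → P i := stepQ 8349 Q8349 (allL N8349 (tt N11370 (iv1 F50829)) (tt N14856 (iv0 F50892)) (tt N14854 (iv2 F50895)) (tt N3995 (iv3 D12571)) (tt N16435 (iv4 F40523)) (tt N17057 D26358) (tt N16849 (iv6 F41301)) (tt N5109 F20939))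
theorem Q8351 : ∀ i, i < 8351 → P i := stepQ 8350 Q8350 (allL N8350 (tt N4889 F20942) (tt N11154 (iv0 F27083)) (tt N5112 F20940) (tt N17057 (iv3 F42049)) (tt N11119 (iv4 F315182)) (tt N3995 (iv5 D12572)) (tt N17058 D26360) (tt N5110 F20941))
theorem Q8352 : ∀ i, i < 8352 → P i := stepQ 8351 Q8351 (allL N8351 (tt N5115 (iv1 F20946)) (tt N3996 (iv0 D12573)) (tt N5113 (iv2 F20944)) (tt N17059 D26361) (tt N8159 F316346) (tt N8217 F20943) (tt N10018 F316347) (tt N5114 (iv7 F20945)))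
theorem Q8353 : ∀ i, i < 8353 → P i := stepQ 8352 Q8352 (allL N8352 (tt N5114 (iv1 F20954)) (tt N5113 F20955) (tt N5115 F20952) (tt N17051 (iv3 F42011)) (tt N4867 (iv4 F317411)) (tt N3997 F20953) (tt N17060 D26368) (tt N3996 (iv7 D12576)))
theorem Q8354 : ∀ i, i < 8354 → P i := stepQ 8353 Q8353 (allL N8353 (tt N17061 D26369) (tt N4027 F26890) (tt N5152 F26801) (tt N3998 (iv3 D12577)) (tt N16433 (iv4 F40519)) (tt N17062 D26370) (tt N4000 F26802) (tt N5119 F20956))
theorem Q8355 : ∀ i, i < 8355 → P i := stepQ 8354 Q8354 (allL N8354 (tt N11164 (iv1 F27096)) (tt N9064 (iv0 F22690)) (tt N5117 F20957) (tt N17062 (iv3 F42078)) (tt N7435 (iv4 F315113)) (tt N3998 (iv5 D12578)) (tt N5294 F312717) (tt N5120 F20958))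
theorem Q8356 : ∀ i, i < 8356 → P i := stepQ 8355 Q8355 (allL N8355 (tt N5193 F50782) (tt N5204 (iv0 F50786)) (tt N5202 F50794) (tt N3999 (iv3 D12579)) (tt N5111 F20959) (tt N17063 D26374) (tt N10394 (iv6 F26808)) (tt N5116 F20960))
theorem Q8357 : ∀ i, i < 8357 → P i := stepQ 8356 Q8356 (allL N8356 (tt N9064 (iv1 F22691)) (tt N11164 (iv0 F27095)) (tt N5120 F20961) (tt N17063 (iv3 F42094)) (tt N10192 (iv4 F315186)) (tt N3999 (iv5 D12580)) (tt N17064 D26376) (tt N5117 F20962))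
theorem Q8358 : ∀ i, i < 8358 → P i := stepQ 8357 Q8357 (allL N8357 (tt N14846 F37293) (tt N16470 (iv0 F40563)) (tt N5150 (iv2 F25461)) (tt N16378 (iv3 F40436)) (tt N4000 (iv4 D12583)) (tt N17065 D26377) (tt N16433 (iv6 F40520)) (tt N5147 F25458))
theorem Q8359 : ∀ i, i < 8359 → P i := stepQ 8358 Q8358 (allL N8358 (tt N5230 F26948) (tt N4034 F26949) (tt N5151 (iv2 F25460)) (tt N5664 F26950) (tt N17066 D26378) (tt N4000 (iv5 D12584)) (tt N17067 D26379) (tt N5148 F25459))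
theorem Q8360 : ∀ i, i < 8360 → P i := stepQ 8359 Q8359 (allL N8359 (tt N16470 F40564) (tt N14846 (iv0 F37292)) (tt N5147 (iv2 F25455)) (tt N8384 (iv3 F21012)) (tt N4001 (iv4 D12588)) (tt N17068 D26380) (tt N16874 (iv6 F41427)) (tt N5150 (iv7 F25445)))
theorem Q8361 : ∀ i, i < 8361 → P i := stepQ 8360 Q8360 (allL N8360 (tt N4034 F26953) (tt N5230 F26954) (tt N5148 (iv2 F25456)) (tt N10866 (iv3 F25663)) (tt N17069 D26381) (tt N4001 (iv5 D12589)) (tt N17070 D26382) (tt N5151 (iv7 F25446)))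
theorem Q8362 : ∀ i, i < 8362 → P i := stepQ 8361 Q8361 (allL N8361 (tt N5161 (iv1 F20969)) (tt N5160 F20970) (tt N4003 F20966) (tt N5129 F20967) (tt N17071 D26383) (tt N4002 (iv5 D12591)) (tt N17072 D26384) (tt N5154 F20968))
theorem Q8363 : ∀ i, i < 8363 → P i := stepQ 8362 Q8362 (allL N8362 (tt N17073 D26385) (tt N9534 F27012) (tt N4004 F20971) (tt N5130 F20972) (tt N16132 (iv4 F39971)) (tt N17074 D26386) (tt N4002 (iv6 D12592)) (tt N17075 D26387))
theorem Q8364 : ∀ i, i < 8364 → P i := stepQ 8363 Q8363 (allL N8363 (tt N17076 D26388) (tt N12196 (iv0 F29484)) (tt N17071 (iv2 F42113)) (tt N4162 F20975) (tt N4003 (iv4 D12595)) (tt N17077 D26389) (tt N17078 D26390) (tt N5162 F20976))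
theorem Q8365 : ∀ i, i < 8365 → P i := stepQ 8364 Q8364 (allL N8364 (tt N17079 D26391) (tt N17080 D26392) (tt N17072 (iv2 F42117)) (tt N4005 F20977) (tt N17078 (iv4 F42141)) (tt N17081 D26393) (tt N4003 (iv6 D12596)) (tt N17082 D26394))
theorem Q8366 : ∀ i, i < 8366 → P i := stepQ 8365 Q8365 (allL N8365 (tt N17075 (iv1 F42132)) (tt N4004 (iv0 D12597)) (tt N17073 F42119) (tt N4572 F26988) (tt N17083 D26395) (tt N17084 D26396) (tt N16871 (iv6 F41413)) (tt N9534 F26989))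
theorem Q8367 : ∀ i, i < 8367 → P i := stepQ 8366 Q8366 (allL N8366 (tt N4004 (iv1 D12598)) (tt N17075 F42131) (tt N9534 (iv2 F42122)) (tt N10873 F53976) (tt N17085 D26398) (tt N17086 D26399) (tt N9532 (iv6 F42123)) (tt N17073 F42121))
theorem Q8368 : ∀ i, i < 8368 → P i := stepQ 8367 Q8367 (allL N8367 (tt N17087 D26400) (tt N17088 D26401) (tt N17074 (iv2 F42125)) (tt N4006 F20978) (tt N17089 D26402) (tt N4004 (iv5 D12599)) (tt N17081 (iv6 F42143)) (tt N17090 D26403))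
theorem Q8369 : ∀ i, i < 8369 → P i := stepQ 8368 Q8368 (allL N8368 (tt N9534 F27011) (tt N17073 F42124) (tt N17075 (iv2 F42128)) (tt N4007 F20979) (tt N16134 (iv4 F39975)) (tt N17090 (iv5 F42157)) (tt N5166 F20980) (tt N4004 (iv7 D12600)))
theorem Q8370 : ∀ i, i < 8370 → P i := stepQ 8369 Q8369 (allL N8369 (tt N4152 F297002) (tt N4005 (iv0 D12601)) (tt N5142 F42175) (tt N12600 (iv3 F298776)) (tt N4178 (iv4 F42177)) (tt N11830 (iv5 F298779)) (tt N17091 D26408) (tt N5143 F42176))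
theorem Q8371 : ∀ i, i < 8371 → P i := stepQ 8370 Q8370 (allL N8370 (tt N4005 (iv1 D12602)) (tt N4152 (iv0 F296877)) (tt N5143 (iv2 F42173)) (tt N17092 D26410) (tt N4179 F42172) (tt N11829 (iv5 F298212)) (tt N17093 D26413) (tt N5142 (iv7 F42174)))
theorem Q8372 : ∀ i, i < 8372 → P i := stepQ 8371 Q8371 (allL N8371 (tt N14040 (iv1 F298684)) (tt N17094 D26415) (tt N5144 F20982) (tt N17081 (iv3 F42142)) (tt N5746 (iv4 F299921)) (tt N4005 (iv5 D12603)) (tt N4006 F20983) (tt N17095 D26417))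
theorem Q8373 : ∀ i, i < 8373 → P i := stepQ 8372 Q8372 (allL N8372 (tt N5143 (iv1 F20988)) (tt N5142 F20989) (tt N4152 F297003) (tt N17082 (iv3 F42144)) (tt N4151 F297004) (tt N17095 (iv5 F42166)) (tt N5170 F20986) (tt N4005 (iv7 D12604)))
theorem Q8374 : ∀ i, i < 8374 → P i := stepQ 8373 Q8373 (allL N8373 (tt N9244 (iv1 F23016)) (tt N9228 (iv0 F22998)) (tt N5145 F20990) (tt N17096 D26418) (tt N4006 (iv4 D12605)) (tt N4621 F20991) (tt N5746 F302750) (tt N4620 (iv7 F20992)))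
theorem Q8375 : ∀ i, i < 8375 → P i := stepQ 8374 Q8374 (allL N8374 (tt N4481 (iv1 F20996)) (tt N4474 F20997) (tt N5146 F20993) (tt N17090 (iv3 F42156)) (tt N4620 F20994) (tt N4007 F20995) (tt N17097 D26419) (tt N4006 (iv7 D12606)))
theorem Q8376 : ∀ i, i < 8376 → P i := stepQ 8375 Q8375 (allL N8375 (tt N14839 F37278) (tt N14924 (iv0 F37449)) (tt N5126 F25533) (tt N10648 (iv3 F25158)) (tt N4008 (iv4 D12608)) (tt N17098 D26420) (tt N16886 (iv6 F41465)) (tt N5122 F25534))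
theorem Q8377 : ∀ i, i < 8377 → P i := stepQ 8376 Q8376 (allL N8376 (tt N5223 F27274) (tt N4036 F27275) (tt N5127 F25536) (tt N10649 (iv3 F25162)) (tt N17099 D26421) (tt N4008 (iv5 D12609)) (tt N17100 D26422) (tt N5123 F25537))
theorem Q8378 : ∀ i, i < 8378 → P i := stepQ 8377 Q8377 (allL N8377 (tt N17101 D26423) (tt N4019 F25572) (tt N10644 (iv2 F25151)) (tt N4009 (iv3 D12612)) (tt N14837 (iv4 F37220)) (tt N17102 D26424) (tt N17103 D26425) (tt N5125 F25544))
theorem Q8379 : ∀ i, i < 8379 → P i := stepQ 8378 Q8378 (allL N8378 (tt N14924 (iv1 F37450)) (tt N14839 (iv0 F37277)) (tt N5122 F25545) (tt N14735 (iv3 F37019)) (tt N4009 (iv4 D12613)) (tt N17104 D26426) (tt N17105 D26427) (tt N5126 F25546))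
theorem Q8380 : ∀ i, i < 8380 → P i := stepQ 8379 Q8379 (allL N8379 (tt N4036 F27276) (tt N5223 F27277) (tt N5123 F25547) (tt N17102 (iv3 F42222)) (tt N17106 D26428) (tt N4009 (iv5 D12614)) (tt N17107 D26429) (tt N5127 F25548))
theorem Q8381 : ∀ i, i < 8381 → P i := stepQ 8380 Q8380 (allL N8380 (tt N5245 F43611) (tt N17108 D26431) (tt N5124 F25549) (tt N17103 (iv3 F42227)) (tt N17105 (iv4 F42235)) (tt N17109 D26432) (tt N4009 (iv6 D12615)) (tt N16891 (iv7 F41478)))
theorem Q8382 : ∀ i, i < 8382 → P i := stepQ 8381 Q8381 (allL N8381 (tt N5132 F21003) (tt N5131 F21004) (tt N4011 F21000) (tt N8064 F21001) (tt N4010 (iv4 D12616)) (tt N17110 D26433) (tt N17111 D26434) (tt N5128 F21002))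
theorem Q8383 : ∀ i, i < 8383 → P i := stepQ 8382 Q8382 (allL N8382 (tt N5136 (iv1 F21008)) (tt N5135 F21009) (tt N4012 F21005) (tt N5154 F21006) (tt N17112 D26435) (tt N4010 (iv5 D12617)) (tt N17113 D26436) (tt N5129 F21007))
theorem Q8384 : ∀ i, i < 8384 → P i := stepQ 8383 Q8383 (allL N8383 (tt N17103 F42228) (tt N17114 D26437) (tt N4013 F21010) (tt N5155 F21011) (tt N17111 (iv4 F42249)) (tt N17115 D26438) (tt N4010 (iv6 D12618)) (tt N17116 D26439))
theorem Q8385 : ∀ i, i < 8385 → P i := stepQ 8384 Q8384 (allL N8384 (tt N5128 (iv1 F21013)) (tt N4011 (iv0 D12619)) (tt N5132 (iv2 F25448)) (tt N8359 F21012) (tt N9131 (iv4 F22796)) (tt N17117 D26440) (tt N16895 F41497) (tt N5131 F25447))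
theorem Q8386 : ∀ i, i < 8386 → P i := stepQ 8385 Q8385 (allL N8385 (tt N4011 (iv1 D12620)) (tt N5128 F21014) (tt N5131 F25424) (tt N17118 D26441) (tt N8330 (iv4 F21015)) (tt N17119 D26442) (tt N10710 (iv6 F26994)) (tt N5132 F25425))
theorem Q8387 : ∀ i, i < 8387 → P i := stepQ 8386 Q8386 (allL N8386 (tt N11416 (iv1 F27844)) (tt N11418 F27842) (tt N17110 (iv2 F42242)) (tt N5350 F21016) (tt N17120 D26443) (tt N4011 (iv5 D12621)) (tt N17121 D26444) (tt N5133 F21017))
theorem Q8388 : ∀ i, i < 8388 → P i := stepQ 8387 Q8387 (allL N8387 (tt N17122 D26445) (tt N17123 D26446) (tt N17111 (iv2 F42247)) (tt N5351 F21018) (tt N4013 F21019) (tt N17124 D26447) (tt N4011 (iv6 D12622)) (tt N17125 D26448))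
theorem Q8389 : ∀ i, i < 8389 → P i := stepQ 8388 Q8388 (allL N8388 (tt N17126 D26449) (tt N17127 D26450) (tt N17112 (iv2 F42251)) (tt N4152 F21022) (tt N4012 (iv4 D12625)) (tt N17128 D26451) (tt N17129 D26452) (tt N5137 F21023))
theorem Q8390 : ∀ i, i < 8390 → P i := stepQ 8389 Q8389 (allL N8389 (tt N17130 D26453) (tt N17131 D26454) (tt N17113 (iv2 F42255)) (tt N4014 F21024) (tt N17129 (iv4 F42311)) (tt N17132 D26455) (tt N4012 (iv6 D12626)) (tt N17129 (iv7 F301111)))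
theorem Q8391 : ∀ i, i < 8391 → P i := stepQ 8390 Q8390 (allL N8390 (tt N17116 (iv1 F42269)) (tt N4013 (iv0 D12627)) (tt N17103 (iv2 F42226)) (tt N10646 F27210) (tt N17133 D26457) (tt N17134 D26458) (tt N10644 (iv6 F27211)) (tt N17114 (iv7 F42258)))
theorem Q8392 : ∀ i, i < 8392 → P i := stepQ 8391 Q8391 (allL N8391 (tt N4013 (iv1 D12628)) (tt N17116 F42268) (tt N17114 F42261) (tt N16891 (iv3 F42230)) (tt N17135 D26459) (tt N17136 D26460) (tt N16888 (iv6 F42231)) (tt N17103 F42229))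
theorem Q8393 : ∀ i, i < 8393 → P i := stepQ 8392 Q8392 (allL N8392 (tt N17137 D26461) (tt N17138 D26462) (tt N17115 (iv2 F42263)) (tt N4015 F21025) (tt N17139 D26463) (tt N4013 (iv5 D12629)) (tt N17132 (iv6 F42313)) (tt N17140 D26464))
theorem Q8394 : ∀ i, i < 8394 → P i := stepQ 8393 Q8393 (allL N8393 (tt N17114 (iv1 F42257)) (tt N17103 F42262) (tt N17116 (iv2 F42265)) (tt N4016 F21026) (tt N17125 (iv4 F42298)) (tt N17140 (iv5 F42319)) (tt N5141 F21027) (tt N4013 (iv7 D12630)))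
theorem Q8395 : ∀ i, i < 8395 → P i := stepQ 8394 Q8394 (allL N8394 (tt N5170 (iv1 F21034)) (tt N4014 (iv0 D12631)) (tt N5167 F30383) (tt N17141 D26465) (tt N4175 F30384) (tt N8193 F316223) (tt N17142 D26467) (tt N5168 F30385))
theorem Q8396 : ∀ i, i < 8396 → P i := stepQ 8395 Q8395 (allL N8395 (tt N4014 (iv1 D12632)) (tt N5170 F21028) (tt N5168 F30386) (tt N17143 D26468) (tt N4176 F30387) (tt N10102 F316224) (tt N17144 D26470) (tt N5167 F30388))
theorem Q8397 : ∀ i, i < 8397 → P i := stepQ 8396 Q8396 (allL N8396 (tt N17145 D26471) (tt N11137 F311331) (tt N5169 F21029) (tt N17132 (iv3 F42312)) (tt N11092 (iv4 F313732)) (tt N4014 (iv5 D12633)) (tt N4015 F21030) (tt N17146 D26474))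
theorem Q8398 : ∀ i, i < 8398 → P i := stepQ 8397 Q8397 (allL N8397 (tt N5168 (iv1 F21035)) (tt N5167 F21036) (tt N5170 F21031) (tt N17129 (iv3 F301110)) (tt N4153 F298462) (tt N17146 (iv5 F42353)) (tt N4152 F298463) (tt N4014 (iv7 D12634)))
theorem Q8399 : ∀ i, i < 8399 → P i := stepQ 8398 Q8398 (allL N8398 (tt N5172 (iv1 F21040)) (tt N4015 (iv0 D12635)) (tt N5171 (iv2 F21038)) (tt N17147 D26475) (tt N4869 (iv4 F317412)) (tt N8220 F21037) (tt N16838 F316110) (tt N4865 (iv7 F316458)))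
theorem Q8400 : ∀ i, i < 8400 → P i := stepQ 8399 Q8399 (allL N8399 (tt N4865 (iv1 F316456)) (tt N5171 F21049) (tt N5172 F21046) (tt N17140 (iv3 F42318)) (tt N4781 (iv4 F318405)) (tt N4016 F21047) (tt N17148 D26480) (tt N4015 (iv7 D12638)))
theorem Q8401 : ∀ i, i < 8401 → P i := stepQ 8400 Q8400 (allL N8400 (tt N5166 F27016) (tt N5155 F27017) (tt N4033 F21050) (tt N5173 F21051) (tt N16469 (iv4 F40558)) (tt N17149 D26481) (tt N4017 (iv6 D12639)) (tt N5164 F26869))
theorem Q8402 : ∀ i, i < 8402 → P i := stepQ 8401 Q8401 (allL N8401 (tt N16410 (iv1 F40502)) (tt N10648 F26616) (tt N4020 F21055) (tt N7241 F26617) (tt N4018 (iv4 D12643)) (tt N17150 D26482) (tt N15225 (iv6 F38059)) (tt N4025 F21056))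
theorem Q8403 : ∀ i, i < 8403 → P i := stepQ 8402 Q8402 (allL N8402 (tt N4058 F27127) (tt N5407 F27128) (tt N4021 F21057) (tt N10635 (iv3 F26889)) (tt N17151 D26483) (tt N4018 (iv5 D12644)) (tt N17152 D26484) (tt N4026 F21058))
theorem Q8404 : ∀ i, i < 8404 → P i := stepQ 8403 Q8403 (allL N8403 (tt N4019 (iv1 D12647)) (tt N17101 F42218) (tt N5125 (iv2 F25374)) (tt N5194 (iv3 F21062)) (tt N14838 F37225) (tt N17153 D26485) (tt N16913 F41543) (tt N10644 F25571))
theorem Q8405 : ∀ i, i < 8405 → P i := stepQ 8404 Q8404 (allL N8404 (tt N10644 F26664) (tt N5125 F26665) (tt N4019 (iv2 D12648)) (tt N7496 F26667) (tt N7172 F26666) (tt N17154 D26486) (tt N7495 (iv6 F26668)) (tt N17101 (iv7 F42219)))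
theorem Q8406 : ∀ i, i < 8406 → P i := stepQ 8405 Q8405 (allL N8405 (tt N5426 F21060) (tt N7174 (iv0 F21061)) (tt N7172 F26663) (tt N17155 D26487) (tt N4019 (iv4 D12649)) (tt N17156 D26488) (tt N17157 D26489) (tt N7173 (iv7 F26662)))
theorem Q8407 : ∀ i, i < 8407 → P i := stepQ 8406 Q8406 (allL N8406 (tt N11473 (iv1 F43645)) (tt N17158 D26491) (tt N17154 (iv2 F42380)) (tt N4021 F21063) (tt N17159 D26492) (tt N4019 (iv5 D12650)) (tt N17160 D26493) (tt N17161 D26494))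
theorem Q8408 : ∀ i, i < 8408 → P i := stepQ 8407 Q8407 (allL N8407 (tt N15229 (iv1 F38071)) (tt N15228 F38067) (tt N7495 F26669) (tt N4022 F21064) (tt N17157 (iv4 F42388)) (tt N17162 D26495) (tt N4019 (iv6 D12651)) (tt N15230 (iv7 F38070)))
theorem Q8409 : ∀ i, i < 8409 → P i := stepQ 8408 Q8408 (allL N8408 (tt N5125 F26645) (tt N10644 F26646) (tt N17101 F42217) (tt N4023 F21065) (tt N7173 F26647) (tt N17161 (iv5 F42396)) (tt N17108 (iv6 F43615)) (tt N4019 (iv7 D12652)))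
theorem Q8410 : ∀ i, i < 8410 → P i := stepQ 8409 Q8409 (allL N8409 (tt N4025 F21068) (tt N4020 (iv0 D12653)) (tt N16410 (iv2 F40499)) (tt N5122 (iv3 F21067)) (tt N8336 F21066) (tt N17163 D26497) (tt N17164 D26498) (tt N10648 F25532))
theorem Q8411 : ∀ i, i < 8411 → P i := stepQ 8410 Q8410 (allL N8410 (tt N4020 (iv1 D12654)) (tt N4025 F21069) (tt N10648 (iv2 F25531)) (tt N14736 (iv3 F37023)) (tt N9115 F25530) (tt N17165 D26499) (tt N16918 (iv6 F42848)) (tt N16410 (iv7 F40500)))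
theorem Q8412 : ∀ i, i < 8412 → P i := stepQ 8411 Q8411 (allL N8411 (tt N16401 F40485) (tt N16409 (iv0 F40495)) (tt N17166 D26501) (tt N4020 (iv3 D12655)) (tt N17155 (iv4 F42382)) (tt N17167 D26502) (tt N17168 D26503) (tt N17169 D26504))
theorem Q8413 : ∀ i, i < 8413 → P i := stepQ 8412 Q8412 (allL N8412 (tt N17170 D26505) (tt N17171 D26506) (tt N17150 (iv2 F42369)) (tt N17167 (iv3 F42416)) (tt N17172 D26507) (tt N4020 (iv5 D12656)) (tt N17173 D26508) (tt N17174 D26509))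
theorem Q8414 : ∀ i, i < 8414 → P i := stepQ 8413 Q8413 (allL N8413 (tt N17175 D26510) (tt N17176 D26511) (tt N15225 F38061) (tt N17168 (iv3 F42418)) (tt N4022 F21070) (tt N17177 D26512) (tt N4020 (iv6 D12657)) (tt N17178 D26513))
theorem Q8415 : ∀ i, i < 8415 → P i := stepQ 8414 Q8414 (allL N8414 (tt N10648 F26648) (tt N16410 F40501) (tt N4025 F21071) (tt N17169 (iv3 F42420)) (tt N4023 F21072) (tt N17174 (iv5 F42429)) (tt N17179 D26514) (tt N4020 (iv7 D12658)))
theorem Q8416 : ∀ i, i < 8416 → P i := stepQ 8415 Q8415 (allL N8415 (tt N4026 (iv1 F21076)) (tt N4021 (iv0 D12659)) (tt N4058 F26962) (tt N5186 F26963) (tt N17180 D26515) (tt N4057 F26964) (tt N17181 D26516) (tt N5407 F26965))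
theorem Q8417 : ∀ i, i < 8417 → P i := stepQ 8416 Q8416 (allL N8416 (tt N17182 D26517) (tt N17183 D26518) (tt N17151 (iv2 F42372)) (tt N17184 D26519) (tt N4021 (iv4 D12661)) (tt N17185 D26520) (tt N17186 D26521) (tt N17187 D26522))
theorem Q8418 : ∀ i, i < 8418 → P i := stepQ 8417 Q8417 (allL N8417 (tt N17188 D26523) (tt N17092 (iv0 F85920)) (tt N17152 (iv2 F42374)) (tt N17160 (iv3 F42394)) (tt N17186 (iv4 F42462)) (tt N17189 D26525) (tt N4021 (iv6 D12662)) (tt N17190 D26526))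
theorem Q8419 : ∀ i, i < 8419 → P i := stepQ 8418 Q8418 (allL N8418 (tt N5407 F27125) (tt N4058 F27126) (tt N4026 F21074) (tt N17161 (iv3 F42395)) (tt N17187 (iv4 F42465)) (tt N4023 F21075) (tt N17191 D26527) (tt N4021 (iv7 D12663)))
theorem Q8420 : ∀ i, i < 8420 → P i := stepQ 8419 Q8419 (allL N8419 (tt N7497 (iv1 F26676)) (tt N4022 (iv0 D12664)) (tt N4485 F26677) (tt N5190 F53984) (tt N16485 (iv4 F54280)) (tt N17192 D26529) (tt N16930 (iv6 F41587)) (tt N9532 F26679))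
theorem Q8421 : ∀ i, i < 8421 → P i := stepQ 8420 Q8420 (allL N8420 (tt N17193 D26530) (tt N9522 (iv0 F27036)) (tt N15226 (iv2 F38062)) (tt N17162 (iv3 F42398)) (tt N17194 D26531) (tt N4022 (iv5 D12666)) (tt N17189 (iv6 F42467)) (tt N17195 D26532))
theorem Q8422 : ∀ i, i < 8422 → P i := stepQ 8421 Q8421 (allL N8421 (tt N9532 F26990) (tt N4485 F26991) (tt N7497 F26672) (tt N15230 (iv3 F38068)) (tt N17178 (iv4 F42436)) (tt N17195 (iv5 F42476)) (tt N17061 F42075) (tt N4022 (iv7 D12667)))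
theorem Q8423 : ∀ i, i < 8423 → P i := stepQ 8422 Q8422 (allL N8422 (tt N5152 F26805) (tt N5119 F26795) (tt N4027 F21077) (tt N17108 (iv3 F43613)) (tt N17179 (iv4 F42440)) (tt N17196 D26533) (tt N4023 (iv6 D12668)) (tt N17061 (iv7 F42074)))
theorem Q8424 : ∀ i, i < 8424 → P i := stepQ 8423 Q8423 (allL N8423 (tt N5053 F26455) (tt N5057 F26456) (tt N4024 (iv2 D12671)) (tt N17101 (iv3 F42215)) (tt N5439 F26457) (tt N10634 F26458) (tt N4042 F26459) (tt N7496 F26460))
theorem Q8425 : ∀ i, i < 8425 → P i := stepQ 8424 Q8424 (allL N8424 (tt N8329 F26461) (tt N8327 F26462) (tt N10634 F26463) (tt N4026 F21081) (tt N17197 D26534) (tt N4024 (iv5 D12673)) (tt N17198 D26535) (tt N10635 F26464))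
theorem Q8426 : ∀ i, i < 8426 → P i := stepQ 8425 Q8425 (allL N8425 (tt N7243 (iv1 F21084)) (tt N5440 (iv0 F21083)) (tt N7242 (iv2 F26998)) (tt N4025 (iv3 D12675)) (tt N9177 F26787) (tt N17199 D26536) (tt N9175 (iv6 F26788)) (tt N7241 (iv7 F26786)))
theorem Q8427 : ∀ i, i < 8427 → P i := stepQ 8426 Q8426 (allL N8426 (tt N17171 (iv1 F42425)) (tt N17170 F42430) (tt N17174 (iv2 F42428)) (tt N17199 (iv3 F42486)) (tt N17200 D26537) (tt N4025 (iv5 D12676)) (tt N17201 D26538) (tt N17150 (iv7 F42371)))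
theorem Q8428 : ∀ i, i < 8428 → P i := stepQ 8427 Q8427 (allL N8427 (tt N16402 F42432) (tt N17202 D26539) (tt N17179 (iv2 F42439)) (tt N9175 F26610) (tt N4027 F21085) (tt N17203 D26540) (tt N4025 (iv6 D12677)) (tt N16554 (iv7 F40674)))
theorem Q8429 : ∀ i, i < 8429 → P i := stepQ 8428 Q8428 (allL N8428 (tt N17183 (iv1 F42450)) (tt N17182 F42449) (tt N17187 (iv2 F42463)) (tt N17204 D26541) (tt N4026 (iv4 D12678)) (tt N17205 D26542) (tt N17206 D26543) (tt N17151 (iv7 F42373)))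
theorem Q8430 : ∀ i, i < 8430 → P i := stepQ 8429 Q8429 (allL N8429 (tt N17141 F113935) (tt N17207 D26545) (tt N17191 (iv2 F42468)) (tt N17198 (iv3 F42483)) (tt N17206 (iv4 F42498)) (tt N17208 D26546) (tt N4026 (iv6 D12679)) (tt N17209 D26547))
theorem Q8431 : ∀ i, i < 8431 → P i := stepQ 8430 Q8430 (allL N8430 (tt N4027 (iv1 D12681)) (tt N17061 F42073) (tt N5119 F26891) (tt N5202 F50795) (tt N16495 (iv4 F50904)) (tt N17210 D26549) (tt N4958 F26981) (tt N5152 F26892))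
theorem Q8432 : ∀ i, i < 8432 → P i := stepQ 8431 Q8431 (allL N8431 (tt N17147 (iv1 F51648)) (tt N17211 D26551) (tt N17196 (iv2 F42478)) (tt N5247 F26611) (tt N17212 D26552) (tt N4027 (iv5 D12682)) (tt N17208 (iv6 F42500)) (tt N17213 D26553))
theorem Q8433 : ∀ i, i < 8433 → P i := stepQ 8432 Q8432 (allL N8432 (tt N5119 F26794) (tt N5152 F26806) (tt N17061 F42072) (tt N4041 F26612) (tt N16554 (iv4 F40672)) (tt N17213 (iv5 F42507)) (tt N7497 F26613) (tt N4027 (iv7 D12683)))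
theorem Q8434 : ∀ i, i < 8434 → P i := stepQ 8433 Q8433 (allL N8433 (tt N5915 (iv1 F21092)) (tt N5914 F21093) (tt N4031 F21090) (tt N17214 D26554) (tt N4028 (iv4 D12694)) (tt N17215 D26555) (tt N17216 D26556) (tt N5916 F21091))
theorem Q8435 : ∀ i, i < 8435 → P i := stepQ 8434 Q8434 (allL N8434 (tt N17217 D26557) (tt N17218 D26558) (tt N4032 F21094) (tt N5206 F21095) (tt N17216 (iv4 F42521)) (tt N16935 (iv5 F41602)) (tt N4028 (iv6 D12695)) (tt N17219 D26559))
theorem Q8436 : ∀ i, i < 8436 → P i := stepQ 8435 Q8435 (allL N8435 (tt N17102 (iv1 F42225)) (tt N17153 (iv0 F42378)) (tt N17220 D26560) (tt N4029 (iv3 D12697)) (tt N12621 F30271) (tt N8493 F27028) (tt N17221 D26561) (tt N5984 (iv7 F27029)))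
theorem Q8437 : ∀ i, i < 8437 → P i := stepQ 8436 Q8436 (allL N8436 (tt N17222 D26562) (tt N17223 D26563) (tt N5987 (iv2 F27031)) (tt N11932 F28720) (tt N4029 (iv4 D12698)) (tt N11931 (iv5 F28721)) (tt N17224 D26564) (tt N5985 (iv7 F27030)))
theorem Q8438 : ∀ i, i < 8438 → P i := stepQ 8437 Q8437 (allL N8437 (tt N17225 D26565) (tt N17226 D26566) (tt N5988 (iv2 F27032)) (tt N17221 (iv3 F42535)) (tt N17224 (iv4 F42545)) (tt N17227 D26567) (tt N4029 (iv6 D12700)) (tt N17228 D26568))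
theorem Q8439 : ∀ i, i < 8439 → P i := stepQ 8438 Q8438 (allL N8438 (tt N17223 (iv1 F42541)) (tt N17222 F42537) (tt N5985 (iv2 F27034)) (tt N17229 D26569) (tt N4030 (iv4 D12703)) (tt N17230 D26570) (tt N17231 D26571) (tt N5987 F27033))
theorem Q8440 : ∀ i, i < 8440 → P i := stepQ 8439 Q8439 (allL N8439 (tt N17232 D26572) (tt N17233 D26573) (tt N5986 F27021) (tt N5235 F27022) (tt N17231 (iv4 F42559)) (tt N5232 F27023) (tt N4030 (iv6 D12705)) (tt N17234 D26574))
theorem Q8441 : ∀ i, i < 8441 → P i := stepQ 8440 Q8440 (allL N8440 (tt N5916 (iv1 F21098)) (tt N4031 (iv0 D12706)) (tt N5915 F42868) (tt N17235 D26576) (tt N17236 D26577) (tt N17237 D26578) (tt N17238 D26579) (tt N5914 F42869))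
theorem Q8442 : ∀ i, i < 8442 → P i := stepQ 8441 Q8441 (allL N8441 (tt N4031 (iv1 D12707)) (tt N5916 F21099) (tt N5914 (iv2 F42866)) (tt N17239 D26581) (tt N17240 D26582) (tt N17241 D26583) (tt N17242 D26584) (tt N5915 (iv7 F42867)))
theorem Q8443 : ∀ i, i < 8443 → P i := stepQ 8442 Q8442 (allL N8442 (tt N17243 D26585) (tt N17244 D26586) (tt N17215 (iv2 F42515)) (tt N5923 F21100) (tt N17245 D26587) (tt N4031 (iv5 D12708)) (tt N17246 D26588) (tt N5917 F21101))
theorem Q8444 : ∀ i, i < 8444 → P i := stepQ 8443 Q8443 (allL N8443 (tt N17247 D26589) (tt N17248 D26590) (tt N17216 (iv2 F42520)) (tt N5928 F21102) (tt N4032 F21103) (tt N17249 D26591) (tt N4031 (iv6 D12709)) (tt N17250 D26592))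
theorem Q8445 : ∀ i, i < 8445 → P i := stepQ 8444 Q8444 (allL N8444 (tt N17219 (iv1 F42528)) (tt N4032 (iv0 D12710)) (tt N17217 (iv2 F162712)) (tt N17251 D26594) (tt N17252 D26595) (tt N17253 D26596) (tt N17254 D26597) (tt N17218 F162711))
theorem Q8446 : ∀ i, i < 8446 → P i := stepQ 8445 Q8445 (allL N8445 (tt N4032 (iv1 D12711)) (tt N17219 F42527) (tt N17218 F162705) (tt N17255 D26599) (tt N17256 D26600) (tt N17257 D26601) (tt N17258 D26602) (tt N17217 (iv7 F162713)))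
theorem Q8447 : ∀ i, i < 8447 → P i := stepQ 8446 Q8446 (allL N8446 (tt N17218 (iv1 F42522)) (tt N17217 F42526) (tt N17219 (iv2 F42523)) (tt N4040 F21104) (tt N17250 (iv4 F42590)) (tt N16949 (iv5 F41609)) (tt N5993 F21105) (tt N4032 (iv7 D12712)))
theorem Q8448 : ∀ i, i < 8448 → P i := stepQ 8447 Q8447 (allL N8447 (tt N5164 F26865) (tt N4033 (iv0 D12713)) (tt N5166 F26866) (tt N17116 (iv3 F42266)) (tt N17259 D26603) (tt N17260 D26604) (tt N17075 (iv6 F42130)) (tt N5155 F26867))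
theorem Q8449 : ∀ i, i < 8449 → P i := stepQ 8448 Q8448 (allL N8448 (tt N17261 D26605) (tt N17262 D26606) (tt N17149 (iv2 F42365)) (tt N4043 F21106) (tt N17263 D26607) (tt N4033 (iv5 D12715)) (tt N5992 F21107) (tt N16951 (iv7 F41613)))
theorem Q8450 : ∀ i, i < 8450 → P i := stepQ 8449 Q8449 (allL N8449 (tt N5151 F27121) (tt N5148 (iv0 F27122)) (tt N4034 (iv2 D12718)) (tt N5223 F21109) (tt N17264 D26608) (tt N4079 F21110) (tt N17265 D26609) (tt N5230 F21111))
theorem Q8451 : ∀ i, i < 8451 → P i := stepQ 8450 Q8450 (allL N8450 (tt N17266 D26610) (tt N17267 D26611) (tt N17264 (iv2 F42607)) (tt N4138 F21115) (tt N4034 (iv4 D12719)) (tt N17268 D26612) (tt N17269 D26613) (tt N5231 F21116))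
theorem Q8452 : ∀ i, i < 8452 → P i := stepQ 8451 Q8451 (allL N8451 (tt N17270 D26614) (tt N17271 D26615) (tt N17265 (iv2 F42611)) (tt N4035 F21117) (tt N17269 (iv4 F42628)) (tt N17272 D26616) (tt N4034 (iv6 D12720)) (tt N17273 D26617))
theorem Q8453 : ∀ i, i < 8453 → P i := stepQ 8452 Q8452 (allL N8452 (tt N5229 (iv1 F21124)) (tt N4035 (iv0 D12721)) (tt N5226 (iv2 F42639)) (tt N17274 D26619) (tt N4229 F42637) (tt N17275 D26621) (tt N5691 F299532) (tt N5227 F42638))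
theorem Q8454 : ∀ i, i < 8454 → P i := stepQ 8453 Q8453 (allL N8453 (tt N4035 (iv1 D12722)) (tt N5229 F21118) (tt N5227 F42640) (tt N17226 F131602) (tt N4230 F42641) (tt N17276 D26624) (tt N12496 F42642) (tt N5226 F42643))
theorem Q8455 : ∀ i, i < 8455 → P i := stepQ 8454 Q8454 (allL N8454 (tt N17277 D26625) (tt N16758 (iv0 F313298)) (tt N5228 F21119) (tt N17272 (iv3 F42629)) (tt N16881 F312991) (tt N4035 (iv5 D12723)) (tt N4081 F21120) (tt N17278 D26628))
theorem Q8456 : ∀ i, i < 8456 → P i := stepQ 8455 Q8455 (allL N8455 (tt N5227 (iv1 F21125)) (tt N5226 F21126) (tt N5229 F21121) (tt N17273 (iv3 F42631)) (tt N4146 F21122) (tt N17278 (iv5 F42661)) (tt N5236 F21123) (tt N4035 (iv7 D12724)))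
theorem Q8457 : ∀ i, i < 8457 → P i := stepQ 8456 Q8456 (allL N8456 (tt N5127 (iv1 F30293)) (tt N5123 F30290) (tt N4036 (iv2 D12727)) (tt N5230 F21128) (tt N17279 D26629) (tt N4123 F21129) (tt N17280 D26630) (tt N5223 F21130))
theorem Q8458 : ∀ i, i < 8458 → P i := stepQ 8457 Q8457 (allL N8457 (tt N17281 D26631) (tt N17282 D26632) (tt N17279 (iv2 F42668)) (tt N4097 F21134) (tt N4036 (iv4 D12728)) (tt N17283 D26633) (tt N17284 D26634) (tt N5224 F21135))
theorem Q8459 : ∀ i, i < 8459 → P i := stepQ 8458 Q8458 (allL N8458 (tt N17285 D26635) (tt N17286 D26636) (tt N17280 (iv2 F42672)) (tt N4037 F21136) (tt N17284 (iv4 F42685)) (tt N17287 D26637) (tt N4036 (iv6 D12729)) (tt N17288 D26638))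
theorem Q8460 : ∀ i, i < 8460 → P i := stepQ 8459 Q8459 (allL N8459 (tt N5236 (iv1 F21143)) (tt N4037 (iv0 D12730)) (tt N5233 F42341) (tt N17232 (iv3 F53224)) (tt N4222 F30354) (tt N17289 D26640) (tt N12061 F30355) (tt N5234 (iv7 F42345)))
theorem Q8461 : ∀ i, i < 8461 → P i := stepQ 8460 Q8460 (allL N8460 (tt N4037 (iv1 D12731)) (tt N5236 F21137) (tt N5234 (iv2 F42344)) (tt N17290 D26641) (tt N4223 F30358) (tt N17291 D26642) (tt N17292 D26643) (tt N5233 F42343))
theorem Q8462 : ∀ i, i < 8462 → P i := stepQ 8461 Q8461 (allL N8461 (tt N17293 D26644) (tt N17294 D26645) (tt N5235 F21138) (tt N17287 (iv3 F42687)) (tt N17295 D26646) (tt N4037 (iv5 D12732)) (tt N4125 F21139) (tt N17296 D26647))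
theorem Q8463 : ∀ i, i < 8463 → P i := stepQ 8462 Q8462 (allL N8462 (tt N5234 (iv1 F21144)) (tt N5233 F21145) (tt N5236 F21140) (tt N17288 (iv3 F42689)) (tt N4106 F21141) (tt N17296 (iv5 F42707)) (tt N5229 F21142) (tt N4037 (iv7 D12733)))
theorem Q8464 : ∀ i, i < 8464 → P i := stepQ 8463 Q8463 (allL N8463 (tt N17297 D26653) (tt N17070 F130735) (tt N17298 D26655) (tt N4038 (iv3 D12735)) (tt N17299 D26656) (tt N17300 D26657) (tt N17301 D26658) (tt N5241 (iv7 F53053)))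
theorem Q8465 : ∀ i, i < 8465 → P i := stepQ 8464 Q8464 (allL N8464 (tt N17302 D26660) (tt N17303 D26661) (tt N5239 (iv2 F53050)) (tt N17300 (iv3 F42720)) (tt N10591 (iv4 F312976)) (tt N4038 (iv5 D12737)) (tt N10590 F310736) (tt N5243 (iv7 F53055)))
theorem Q8466 : ∀ i, i < 8466 → P i := stepQ 8465 Q8465 (allL N8465 (tt N17292 (iv1 F42737)) (tt N17304 D26666) (tt N5240 (iv2 F53046)) (tt N17301 (iv3 F42721)) (tt N12664 (iv4 F41670)) (tt N11186 F27132) (tt N4038 (iv6 D12738)) (tt N17305 D26667))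
theorem Q8467 : ∀ i, i < 8467 → P i := stepQ 8466 Q8466 (allL N8466 (tt N17100 F232278) (tt N17306 D26670) (tt N17307 D26671) (tt N4039 (iv3 D12740)) (tt N5225 F301352) (tt N17308 D26673) (tt N5224 F301353) (tt N5237 F53056))
theorem Q8468 : ∀ i, i < 8468 → P i := stepQ 8467 Q8467 (allL N8467 (tt N17303 (iv1 F42726)) (tt N17302 F42729) (tt N5243 F53059) (tt N17308 (iv3 F42739)) (tt N17309 D26675) (tt N4039 (iv5 D12742)) (tt N17310 D26676) (tt N5239 F53060))
theorem Q8469 : ∀ i, i < 8469 → P i := stepQ 8468 Q8468 (allL N8468 (tt N10607 (iv1 F24999)) (tt N17311 D26680) (tt N5246 F21150) (tt N17213 (iv3 F42506)) (tt N17312 D26681) (tt N4041 (iv5 D12745)) (tt N17313 D26682) (tt N5247 F21151))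
theorem Q8470 : ∀ i, i < 8470 → P i := stepQ 8469 Q8469 (allL N8469 (tt N5124 F27203) (tt N16891 F41479) (tt N17108 (iv2 F43612)) (tt N4042 (iv3 D12746)) (tt N17314 D26683) (tt N17315 D26684) (tt N17101 F42220) (tt N5245 F21152))
theorem Q8471 : ∀ i, i < 8471 → P i := stepQ 8470 Q8470 (allL N8470 (tt N17311 (iv1 F42750)) (tt N10607 (iv0 F24998)) (tt N5247 F21153) (tt N17315 (iv3 F42764)) (tt N17316 D26685) (tt N4042 (iv5 D12747)) (tt N17317 D26686) (tt N5246 F21154))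
theorem Q8472 : ∀ i, i < 8472 → P i := stepQ 8471 Q8471 (allL N8471 (tt N4993 (iv1 F21160)) (tt N4043 (iv0 D12749)) (tt N5248 F23108) (tt N17318 D26687) (tt N17319 D26688) (tt N9313 (iv5 F23106)) (tt N17320 D26689) (tt N5249 F23109))
theorem Q8473 : ∀ i, i < 8473 → P i := stepQ 8472 Q8472 (allL N8472 (tt N4043 (iv1 D12750)) (tt N4993 F21161) (tt N5249 (iv2 F23110)) (tt N17321 D26690) (tt N17322 D26691) (tt N11214 (iv5 F27307)) (tt N17323 D26692) (tt N5248 (iv7 F23111)))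
theorem Q8474 : ∀ i, i < 8474 → P i := stepQ 8473 Q8473 (allL N8473 (tt N17324 D26693) (tt N17325 D26694) (tt N5250 F21162) (tt N17326 D26695) (tt N4043 (iv4 D12751)) (tt N10470 (iv5 F24833)) (tt N6002 F21163) (tt N11041 (iv7 F25922)))
theorem Q8475 : ∀ i, i < 8475 → P i := stepQ 8474 Q8474 (allL N8474 (tt N10680 F26368) (tt N8296 (iv0 F21173)) (tt N8474 F21169) (tt N4046 F21170) (tt N5312 (iv4 F26695)) (tt N4044 (iv5 D12753)) (tt N4468 F21171) (tt N5092 F26369))
theorem Q8476 : ∀ i, i < 8476 → P i := stepQ 8475 Q8475 (allL N8475 (tt N10585 (iv1 F24977)) (tt N17327 D26696) (tt N5252 F21176) (tt N5115 F26522) (tt N17328 D26697) (tt N4045 (iv5 D12755)) (tt N17329 D26698) (tt N5104 F26523))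
theorem Q8477 : ∀ i, i < 8477 → P i := stepQ 8476 Q8476 (allL N8476 (tt N10241 F24537) (tt N5513 F21181) (tt N5254 F21178) (tt N5314 F26691) (tt N4046 (iv4 D12756)) (tt N9170 (iv5 F22828)) (tt N4469 F21179) (tt N5255 F21180))
theorem Q8478 : ∀ i, i < 8478 → P i := stepQ 8477 Q8477 (allL N8477 (tt N17327 (iv1 F42792)) (tt N10585 (iv0 F24976)) (tt N5104 F26509) (tt N17039 (iv3 F41991)) (tt N17330 D26699) (tt N4047 (iv5 D12758)) (tt N17331 D26700) (tt N5252 F21186))
theorem Q8479 : ∀ i, i < 8479 → P i := stepQ 8478 Q8478 (allL N8478 (tt N5513 (iv1 F21194)) (tt N10241 (iv0 F24536)) (tt N5255 F21191) (tt N10227 (iv3 F26689)) (tt N4048 (iv4 D12760)) (tt N9171 F22829) (tt N5349 F21192) (tt N5254 F21193))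
theorem Q8480 : ∀ i, i < 8480 → P i := stepQ 8479 Q8479 (allL N8479 (tt N10473 (iv1 F24837)) (tt N4050 (iv0 D12761)) (tt N10472 (iv2 F42883)) (tt N17332 D26702) (tt N10535 (iv4 F24927)) (tt N8082 (iv5 F40556)) (tt N17333 D26703) (tt N10471 (iv7 F42878)))
theorem Q8481 : ∀ i, i < 8481 → P i := stepQ 8480 Q8480 (allL N8480 (tt N4050 (iv1 D12762)) (tt N10473 F24839) (tt N10471 (iv2 F42877)) (tt N11791 F41868) (tt N10495 (iv4 F24871)) (tt N8083 F27035) (tt N11791 (iv6 F50917)) (tt N10472 (iv7 F42884)))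
theorem Q8482 : ∀ i, i < 8482 → P i := stepQ 8481 Q8481 (allL N8481 (tt N10472 (iv1 F24838)) (tt N10471 F24834) (tt N4050 (iv2 D12763)) (tt N10515 (iv3 F24894)) (tt N4057 F21195) (tt N16481 (iv5 F40594)) (tt N15716 (iv6 F38880)) (tt N10473 (iv7 F24836)))
theorem Q8483 : ∀ i, i < 8483 → P i := stepQ 8482 Q8482 (allL N8482 (tt N16484 (iv1 F40599)) (tt N16471 (iv0 F40567)) (tt N16481 F40595) (tt N4051 F21196) (tt N17334 D26706) (tt N4050 (iv5 D12764)) (tt N17335 D26707) (tt N10474 (iv7 F24841)))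
theorem Q8484 : ∀ i, i < 8484 → P i := stepQ 8483 Q8483 (allL N8483 (tt N17336 D26708) (tt N17337 D26709) (tt N11767 (iv2 F28336)) (tt N17335 (iv3 F42813)) (tt N11412 (iv4 F27744)) (tt N15720 (iv5 F38888)) (tt N4051 (iv6 D12765)) (tt N17338 D26710))
theorem Q8485 : ∀ i, i < 8485 → P i := stepQ 8484 Q8484 (allL N8484 (tt N4498 F26598) (tt N4497 F26599) (tt N4501 F26600) (tt N4052 (iv3 D12768)) (tt N8484 F21200) (tt N15335 (iv5 F38254)) (tt N5251 F21201) (tt N4499 F26601))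
theorem Q8486 : ∀ i, i < 8486 → P i := stepQ 8485 Q8485 (allL N8485 (tt N17339 D26711) (tt N4053 (iv0 D12769)) (tt N9489 (iv2 F26829)) (tt N17340 D26712) (tt N17341 D26713) (tt N17342 D26714) (tt N10198 (iv6 F27314)) (tt N17343 D26715))
theorem Q8487 : ∀ i, i < 8487 → P i := stepQ 8486 Q8486 (allL N8486 (tt N4053 (iv1 D12770)) (tt N17339 F42818) (tt N17343 (iv2 F42823)) (tt N4471 F26822) (tt N17344 D26716) (tt N17345 D26717) (tt N17346 D26718) (tt N9489 F26823))
theorem Q8488 : ∀ i, i < 8488 → P i := stepQ 8487 Q8487 (allL N8487 (tt N9489 F41537) (tt N17343 F42824) (tt N4053 (iv2 D12771)) (tt N5322 F21203) (tt N15716 (iv4 F38879)) (tt N17088 F42153) (tt N4057 F21204) (tt N17339 (iv7 F42817)))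
theorem Q8489 : ∀ i, i < 8489 → P i := stepQ 8488 Q8488 (allL N8488 (tt N17074 F42127) (tt N17090 F42158) (tt N17088 (iv2 F42154)) (tt N4054 F21205) (tt N17347 D26719) (tt N4053 (iv5 D12772)) (tt N17348 D26720) (tt N17087 F42152))
theorem Q8490 : ∀ i, i < 8490 → P i := stepQ 8489 Q8489 (allL N8489 (tt N17343 (iv1 F42825)) (tt N9489 (iv0 F26716)) (tt N17339 F42815) (tt N4055 F21206) (tt N15718 (iv4 F38883)) (tt N17087 (iv5 F42151)) (tt N10488 (iv6 F24857)) (tt N4053 (iv7 D12773)))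
theorem Q8491 : ∀ i, i < 8491 → P i := stepQ 8490 Q8490 (allL N8490 (tt N9552 (iv1 F26541)) (tt N9921 F24167) (tt N5327 F21207) (tt N17349 D26721) (tt N4054 (iv4 D12774)) (tt N5297 F21208) (tt N17350 D26722) (tt N5296 (iv7 F21209)))
theorem Q8492 : ∀ i, i < 8492 → P i := stepQ 8491 Q8491 (allL N8491 (tt N17351 D26723) (tt N11014 (iv0 F25895)) (tt N5328 F21210) (tt N17348 (iv3 F42832)) (tt N17350 (iv4 F42837)) (tt N4059 F21211) (tt N4054 (iv6 D12775)) (tt N17352 D26724))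
theorem Q8493 : ∀ i, i < 8493 → P i := stepQ 8492 Q8492 (allL N8492 (tt N5326 (iv1 F21215)) (tt N5325 F21216) (tt N5329 F21212) (tt N17087 (iv3 F42150)) (tt N5296 F21213) (tt N4055 F21214) (tt N17353 D26725) (tt N4054 (iv7 D12776)))
theorem Q8494 : ∀ i, i < 8494 → P i := stepQ 8493 Q8493 (allL N8493 (tt N8611 (iv1 F27251)) (tt N8615 F26784) (tt N8617 F26782) (tt N4056 (iv3 D12778)) (tt N11408 F27726) (tt N8435 (iv5 F27028)) (tt N11485 (iv6 F27867)) (tt N8614 (iv7 F26775)))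
theorem Q8495 : ∀ i, i < 8495 → P i := stepQ 8494 Q8494 (allL N8494 (tt N11464 (iv1 F27856)) (tt N11778 F28364) (tt N10484 F26781) (tt N13183 (iv3 F31855)) (tt N4056 (iv4 D12779)) (tt N17354 D26726) (tt N13181 F31854) (tt N10483 (iv7 F26776)))
theorem Q8496 : ∀ i, i < 8496 → P i := stepQ 8495 Q8495 (allL N8495 (tt N8542 (iv1 F26779)) (tt N8311 (iv0 F27042)) (tt N8544 F26778) (tt N11485 (iv3 F27866)) (tt N13181 (iv4 F31853)) (tt N17355 D26727) (tt N4056 (iv6 D12781)) (tt N8541 (iv7 F26777)))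
theorem Q8497 : ∀ i, i < 8497 → P i := stepQ 8496 Q8496 (allL N8496 (tt N17356 D26728) (tt N17357 D26729) (tt N17180 (iv2 F42442)) (tt N5400 F21226) (tt N4058 (iv4 D12790)) (tt N17358 D26730) (tt N17359 D26731) (tt N5397 F21227))
theorem Q8498 : ∀ i, i < 8498 → P i := stepQ 8497 Q8497 (allL N8497 (tt N17360 D26732) (tt N17361 D26733) (tt N17181 (iv2 F42446)) (tt N4059 F21228) (tt N17359 (iv4 F42948)) (tt N17348 (iv5 F42833)) (tt N4058 (iv6 D12791)) (tt N17362 D26734))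
theorem Q8499 : ∀ i, i < 8499 → P i := stepQ 8498 Q8498 (allL N8498 (tt N5345 (iv1 F21233)) (tt N4059 (iv0 D12792)) (tt N5343 (iv2 F51291)) (tt N17363 D26736) (tt N5758 F28962) (tt N17364 D26737) (tt N17365 D26738) (tt N5344 F51290))
theorem Q8500 : ∀ i, i < 8500 → P i := stepQ 8499 Q8499 (allL N8499 (tt N4059 (iv1 D12793)) (tt N5345 F21229) (tt N5344 F51287) (tt N17366 D26740) (tt N5759 F42953) (tt N17367 D26741) (tt N17368 D26742) (tt N5343 (iv7 F51292)))
theorem Q8501 : ∀ i, i < 8501 → P i := stepQ 8500 Q8500 (allL N8500 (tt N5344 (iv1 F21234)) (tt N5343 F21235) (tt N5345 F21230) (tt N17362 (iv3 F42949)) (tt N5421 F21231) (tt N17352 (iv5 F42839)) (tt N5412 F21232) (tt N4059 (iv7 D12794)))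
theorem Q8502 : ∀ i, i < 8502 → P i := stepQ 8501 Q8501 (allL N8501 (tt N4063 (iv1 F21239)) (tt N4060 (iv0 D12795)) (tt N4131 (iv2 F21238)) (tt N5558 F21237) (tt N4131 F21236) (tt N11918 (iv5 F28685)) (tt N17369 D26743) (tt N5567 F21240))
theorem Q8503 : ∀ i, i < 8503 → P i := stepQ 8502 Q8502 (allL N8502 (tt N8703 (iv1 F21836)) (tt N5580 F21242) (tt N11520 (iv2 F27952)) (tt N6696 F21241) (tt N4206 F21243) (tt N4060 (iv5 D12796)) (tt N17370 D26744) (tt N11518 (iv7 F27944)))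
theorem Q8504 : ∀ i, i < 8504 → P i := stepQ 8503 Q8503 (allL N8503 (tt N17371 D26745) (tt N5594 F28316) (tt N11521 (iv2 F27957)) (tt N12724 (iv3 F30740)) (tt N4061 F21244) (tt N17372 D26746) (tt N4060 (iv6 D12797)) (tt N11750 (iv7 F28306)))
theorem Q8505 : ∀ i, i < 8505 → P i := stepQ 8504 Q8504 (allL N8504 (tt N11525 F27974) (tt N4218 (iv0 F21245)) (tt N11522 (iv2 F27960)) (tt N13133 (iv3 F31631)) (tt N17373 D26747) (tt N4061 (iv5 D12798)) (tt N8740 (iv6 F21926)) (tt N11534 (iv7 F27994)))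
theorem Q8506 : ∀ i, i < 8506 → P i := stepQ 8505 Q8505 (allL N8505 (tt N5562 F21641) (tt N8642 F21642) (tt N11261 (iv2 F27450)) (tt N4064 F21246) (tt N11260 (iv4 F27447)) (tt N11756 F296492) (tt N4062 (iv6 D12799)) (tt N8781 (iv7 F21980)))
theorem Q8507 : ∀ i, i < 8507 → P i := stepQ 8506 Q8506 (allL N8506 (tt N5580 F21841) (tt N8703 (iv0 F21834)) (tt N11518 (iv2 F27942)) (tt N5531 F21247) (tt N4207 F21248) (tt N4063 (iv5 D12800)) (tt N17374 D26749) (tt N11520 (iv7 F27954)))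
theorem Q8508 : ∀ i, i < 8508 → P i := stepQ 8507 Q8507 (allL N8507 (tt N8622 F21835) (tt N8704 (iv0 F21840)) (tt N8779 (iv2 F21975)) (tt N5532 F21249) (tt N4064 F21250) (tt N17375 D26750) (tt N4063 (iv6 D12801)) (tt N8782 (iv7 F21981)))
theorem Q8509 : ∀ i, i < 8509 → P i := stepQ 8508 Q8508 (allL N8508 (tt N8595 F21449) (tt N11751 (iv0 F28319)) (tt N8780 (iv2 F21978)) (tt N11756 F296588) (tt N17376 D26751) (tt N4064 (iv5 D12802)) (tt N8748 (iv6 F21935)) (tt N8783 (iv7 F21983)))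
theorem Q8510 : ∀ i, i < 8510 → P i := stepQ 8509 Q8509 (allL N8509 (tt N8715 (iv1 F21880)) (tt N8706 (iv0 F21847)) (tt N4068 F21251) (tt N17377 D26752) (tt N4065 (iv4 D12803)) (tt N17378 D26753) (tt N17379 D26754) (tt N11523 (iv7 F27965)))
theorem Q8511 : ∀ i, i < 8511 → P i := stepQ 8510 Q8510 (allL N8510 (tt N17380 D26755) (tt N17381 D26756) (tt N4069 F21252) (tt N5389 F21253) (tt N17379 (iv4 F42984)) (tt N4199 F21254) (tt N4065 (iv6 D12804)) (tt N17382 D26757))
theorem Q8512 : ∀ i, i < 8512 → P i := stepQ 8511 Q8511 (allL N8511 (tt N11919 (iv1 F28693)) (tt N17383 D26758) (tt N4194 F21255) (tt N17384 D26759) (tt N4066 (iv4 D12805)) (tt N17385 D26760) (tt N5824 F296928) (tt N4189 F21256))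
theorem Q8513 : ∀ i, i < 8513 → P i := stepQ 8512 Q8512 (allL N8512 (tt N17383 (iv1 F42992)) (tt N11919 (iv0 F28692)) (tt N4189 F21263) (tt N17386 D26767) (tt N4067 (iv4 D12808)) (tt N17387 D26768) (tt N17388 D26769) (tt N4194 F21264))
theorem Q8514 : ∀ i, i < 8514 → P i := stepQ 8513 Q8513 (allL N8513 (tt N5809 F121145) (tt N17389 D26771) (tt N4190 F21265) (tt N4177 (iv3 F298196)) (tt N17388 (iv4 F43019)) (tt N8513 F21266) (tt N4067 (iv6 D12809)) (tt N4174 F297706))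
theorem Q8515 : ∀ i, i < 8515 → P i := stepQ 8514 Q8514 (allL N8514 (tt N11523 (iv1 F27967)) (tt N4068 (iv0 D12810)) (tt N8715 (iv2 F21877)) (tt N17390 D26773) (tt N8708 F21854) (tt N17391 D26774) (tt N12582 F296031) (tt N8706 (iv7 F21855)))
theorem Q8516 : ∀ i, i < 8516 → P i := stepQ 8515 Q8515 (allL N8515 (tt N4068 (iv1 D12811)) (tt N11523 (iv0 F27966)) (tt N8706 (iv2 F21846)) (tt N17392 D26776) (tt N8700 (iv4 F21820)) (tt N17393 D26777) (tt N17394 D26778) (tt N8715 (iv7 F21878)))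
theorem Q8517 : ∀ i, i < 8517 → P i := stepQ 8516 Q8516 (allL N8516 (tt N13027 (iv1 F299056)) (tt N17395 D26780) (tt N17396 D26781) (tt N4068 (iv3 D12812)) (tt N4070 F21267) (tt N17397 D26782) (tt N17398 D26783) (tt N5340 F21268))
theorem Q8518 : ∀ i, i < 8518 → P i := stepQ 8517 Q8517 (allL N8517 (tt N8751 (iv1 F21938)) (tt N8754 (iv0 F21941)) (tt N17378 (iv2 F42981)) (tt N17397 (iv3 F43069)) (tt N17399 D26784) (tt N4068 (iv5 D12813)) (tt N17400 D26785) (tt N11526 (iv7 F27976)))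
theorem Q8519 : ∀ i, i < 8519 → P i := stepQ 8518 Q8518 (allL N8518 (tt N17401 D26786) (tt N17402 D26787) (tt N17379 (iv2 F42983)) (tt N17398 (iv3 F43071)) (tt N4069 F21269) (tt N17403 D26788) (tt N4068 (iv6 D12814)) (tt N17404 D26789))
theorem Q8520 : ∀ i, i < 8520 → P i := stepQ 8519 Q8519 (allL N8519 (tt N17382 (iv1 F42991)) (tt N4069 (iv0 D12815)) (tt N17380 F115435) (tt N17405 D26791) (tt N17406 D26792) (tt N17407 D26793) (tt N17408 D26794) (tt N17381 F115436))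
theorem Q8521 : ∀ i, i < 8521 → P i := stepQ 8520 Q8520 (allL N8520 (tt N4069 (iv1 D12816)) (tt N17382 F42990) (tt N17381 (iv2 F115429)) (tt N5419 F299500) (tt N17409 D26797) (tt N5417 F299501) (tt N11536 F299502) (tt N17380 (iv7 F115430)))
theorem Q8522 : ∀ i, i < 8522 → P i := stepQ 8521 Q8521 (allL N8521 (tt N17381 (iv1 F42985)) (tt N17380 F42989) (tt N17382 (iv2 F42986)) (tt N4074 F21270) (tt N17404 (iv4 F43078)) (tt N4214 F21271) (tt N11531 (iv6 F27982)) (tt N4069 (iv7 D12817)))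
theorem Q8523 : ∀ i, i < 8523 → P i := stepQ 8522 Q8522 (allL N8522 (tt N5175 (iv1 F25748)) (tt N5189 F25745) (tt N4070 (iv2 D12820)) (tt N5407 F21273) (tt N17396 (iv4 F43040)) (tt N5331 F21274) (tt N17410 D26800) (tt N5186 (iv7 F25726)))
theorem Q8524 : ∀ i, i < 8524 → P i := stepQ 8523 Q8523 (allL N8523 (tt N17411 D26801) (tt N17412 D26802) (tt N17410 (iv2 F43081)) (tt N4071 F21279) (tt N17398 (iv4 F43072)) (tt N17413 D26803) (tt N4070 (iv6 D12821)) (tt N17414 D26804))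
theorem Q8525 : ∀ i, i < 8525 → P i := stepQ 8524 Q8524 (allL N8524 (tt N5412 (iv1 F21286)) (tt N4071 (iv0 D12822)) (tt N5409 (iv2 F51245)) (tt N17415 D26806) (tt N5752 F29955) (tt N17416 D26807) (tt N16976 (iv6 F41665)) (tt N5410 F51244))
theorem Q8526 : ∀ i, i < 8526 → P i := stepQ 8525 Q8525 (allL N8525 (tt N4071 (iv1 D12823)) (tt N5412 F21280) (tt N5410 F51241) (tt N17417 D26809) (tt N5753 F29959) (tt N17418 D26810) (tt N17419 D26811) (tt N5409 (iv7 F51246)))
theorem Q8527 : ∀ i, i < 8527 → P i := stepQ 8526 Q8526 (allL N8526 (tt N17420 D26812) (tt N12451 (iv0 F29952)) (tt N5411 F21281) (tt N17413 (iv3 F43083)) (tt N17421 D26813) (tt N4071 (iv5 D12824)) (tt N5348 F21282) (tt N17422 D26814))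
theorem Q8528 : ∀ i, i < 8528 → P i := stepQ 8527 Q8527 (allL N8527 (tt N5410 (iv1 F21287)) (tt N5409 F21288) (tt N5412 F21283) (tt N17414 (iv3 F43085)) (tt N4074 F21284) (tt N17422 (iv5 F43101)) (tt N5345 F21285) (tt N4071 (iv7 D12825)))
theorem Q8529 : ∀ i, i < 8529 → P i := stepQ 8528 Q8528 (allL N8528 (tt N17423 D26821) (tt N5829 F117201) (tt N17407 (iv2 F298606)) (tt N4072 (iv3 D12827)) (tt N17424 D26824) (tt N17380 (iv5 F297358)) (tt N17425 D26826) (tt N5417 (iv7 F43160)))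
theorem Q8530 : ∀ i, i < 8530 → P i := stepQ 8529 Q8529 (allL N8529 (tt N10508 F30448) (tt N5088 F30449) (tt N5414 F43147) (tt N17426 D26828) (tt N4072 (iv4 D12828)) (tt N17427 D26829) (tt N17428 D26830) (tt N5418 (iv7 F43162)))
theorem Q8531 : ∀ i, i < 8531 → P i := stepQ 8530 Q8530 (allL N8530 (tt N12497 F30014) (tt N5840 (iv0 F29270)) (tt N5415 F43141) (tt N17380 F299504) (tt N17429 D26832) (tt N4072 (iv5 D12829)) (tt N17430 D26833) (tt N5419 F43142))
theorem Q8532 : ∀ i, i < 8532 → P i := stepQ 8531 Q8531 (allL N8531 (tt N5814 F29271) (tt N17431 D26834) (tt N5416 F43148) (tt N17425 (iv3 F43115)) (tt N17428 (iv4 F43118)) (tt N6035 F21290) (tt N4072 (iv6 D12830)) (tt N17432 D26835))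
theorem Q8533 : ∀ i, i < 8533 → P i := stepQ 8532 Q8532 (allL N8532 (tt N5798 F116631) (tt N13846 (iv0 F116652)) (tt N13845 F116705) (tt N4073 (iv3 D12832)) (tt N17433 D26839) (tt N15332 F309140) (tt N17434 D26841) (tt N5413 F43151))
theorem Q8534 : ∀ i, i < 8534 → P i := stepQ 8533 Q8533 (allL N8533 (tt N5088 F30439) (tt N10508 F30440) (tt N5418 (iv2 F43161)) (tt N17435 D26842) (tt N4073 (iv4 D12833)) (tt N17436 D26843) (tt N17437 D26844) (tt N5414 F43152))
theorem Q8535 : ∀ i, i < 8535 → P i := stepQ 8534 Q8534 (allL N8534 (tt N5840 F30016) (tt N12497 F30017) (tt N5419 F43143) (tt N15332 F309138) (tt N15337 F309139) (tt N4073 (iv5 D12834)) (tt N5422 F21292) (tt N5415 F43144))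
theorem Q8536 : ∀ i, i < 8536 → P i := stepQ 8535 Q8535 (allL N8535 (tt N12373 F30018) (tt N5839 F30019) (tt N5420 F43157) (tt N17434 (iv3 F43232)) (tt N17437 (iv4 F43237)) (tt N17438 D26846) (tt N4073 (iv6 D12835)) (tt N17439 D26847))
theorem Q8537 : ∀ i, i < 8537 → P i := stepQ 8536 Q8536 (allL N8536 (tt N5456 F21463) (tt N4114 F21464) (tt N5454 F21294) (tt N4075 (iv3 D12836)) (tt N10477 (iv4 F24844)) (tt N9075 (iv5 F22712)) (tt N11380 (iv6 F27660)) (tt N5455 F21293))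
theorem Q8538 : ∀ i, i < 8538 → P i := stepQ 8537 Q8537 (allL N8537 (tt N17440 D26848) (tt N17441 D26849) (tt N5660 (iv2 F26711)) (tt N5073 F26471) (tt N4077 (iv4 D12839)) (tt N17442 D26850) (tt N16270 (iv6 F40238)) (tt N5657 (iv7 F26885)))
theorem Q8539 : ∀ i, i < 8539 → P i := stepQ 8538 Q8538 (allL N8538 (tt N5334 (iv1 F26767)) (tt N5338 F26739) (tt N5071 F26736) (tt N4078 (iv3 D12843)) (tt N11804 (iv4 F28401)) (tt N10824 (iv5 F26861)) (tt N9333 F26737) (tt N5659 F26722))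
theorem Q8540 : ∀ i, i < 8540 → P i := stepQ 8539 Q8539 (allL N8539 (tt N17441 (iv1 F43258)) (tt N17440 F43255) (tt N5657 F26886) (tt N8599 (iv3 F21465)) (tt N4078 (iv4 D12844)) (tt N17443 D26851) (tt N17444 D26852) (tt N5660 F26713))
theorem Q8541 : ∀ i, i < 8541 → P i := stepQ 8540 Q8540 (allL N8540 (tt N7448 F26730) (tt N9316 F26731) (tt N4570 F26732) (tt N9333 F26733) (tt N17444 (iv4 F43272)) (tt N17445 D26853) (tt N4078 (iv6 D12846)) (tt N9317 F26734))
theorem Q8542 : ∀ i, i < 8542 → P i := stepQ 8541 Q8541 (allL N8541 (tt N17003 (iv1 F41854)) (tt N5051 F27054) (tt N4080 F21299) (tt N5495 F21300) (tt N13397 F32459) (tt N17446 D26854) (tt N4079 (iv6 D12847)) (tt N8495 F26777))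
theorem Q8543 : ∀ i, i < 8543 → P i := stepQ 8542 Q8542 (allL N8542 (tt N4080 (iv1 D12849)) (tt N8495 F26779) (tt N5051 F27044) (tt N11193 (iv3 F54076)) (tt N17447 D26855) (tt N17448 D26856) (tt N17449 D26857) (tt N17003 (iv7 F41853)))
theorem Q8544 : ∀ i, i < 8544 → P i := stepQ 8543 Q8543 (allL N8543 (tt N17450 D26858) (tt N17451 D26859) (tt N17446 (iv2 F43277)) (tt N4081 F21301) (tt N17452 D26860) (tt N4080 (iv5 D12850)) (tt N17272 (iv6 F42630)) (tt N17453 D26861))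
theorem Q8545 : ∀ i, i < 8545 → P i := stepQ 8544 Q8544 (allL N8544 (tt N5051 F27053) (tt N17003 F41855) (tt N8495 (iv2 F26778)) (tt N4082 F21302) (tt N16371 (iv4 F40424)) (tt N17453 (iv5 F43296)) (tt N5001 F26622) (tt N4080 (iv7 D12851)))
theorem Q8546 : ∀ i, i < 8546 → P i := stepQ 8545 Q8545 (allL N8545 (tt N5503 (iv1 F21307)) (tt N4081 (iv0 D12852)) (tt N5500 (iv2 F21305)) (tt N17454 D26862) (tt N16999 (iv4 F41821)) (tt N4945 F21304) (tt N17455 D26863) (tt N5501 (iv7 F21306)))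
theorem Q8547 : ∀ i, i < 8547 → P i := stepQ 8546 Q8546 (allL N8546 (tt N4081 (iv1 D12853)) (tt N5503 F21308) (tt N5501 (iv2 F21311)) (tt N17450 (iv3 F43287)) (tt N17000 (iv4 F41829)) (tt N4487 F21310) (tt N17456 D26864) (tt N5500 F21309))
theorem Q8548 : ∀ i, i < 8548 → P i := stepQ 8547 Q8547 (allL N8547 (tt N10587 (iv1 F24978)) (tt N10590 (iv0 F24980)) (tt N5502 F21312) (tt N17457 D26865) (tt N4081 (iv4 D12854)) (tt N17458 D26866) (tt N16881 (iv6 F310759)) (tt N17459 D26867))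
theorem Q8549 : ∀ i, i < 8549 → P i := stepQ 8548 Q8548 (allL N8548 (tt N5501 (iv1 F21315)) (tt N5500 F21316) (tt N5503 F21313) (tt N17453 (iv3 F43295)) (tt N17459 (iv4 F43311)) (tt N4082 F21314) (tt N17460 D26868) (tt N4081 (iv7 D12855)))
theorem Q8550 : ∀ i, i < 8550 → P i := stepQ 8549 Q8549 (allL N8549 (tt N5447 F21325) (tt N5471 (iv0 F21326)) (tt N5469 F21323) (tt N10581 (iv3 F24973)) (tt N4085 (iv4 D12857)) (tt N13241 F31838) (tt N17461 D26869) (tt N5468 F21324))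
theorem Q8551 : ∀ i, i < 8551 → P i := stepQ 8550 Q8550 (allL N8550 (tt N8103 (iv1 F21332)) (tt N7442 (iv0 F21331)) (tt N8030 F21327) (tt N4086 F21328) (tt N17118 (iv4 F42276)) (tt N4085 (iv5 D12858)) (tt N4384 F21330) (tt N5505 F21329))
theorem Q8552 : ∀ i, i < 8552 → P i := stepQ 8551 Q8551 (allL N8551 (tt N9504 F23474) (tt N9176 F23475) (tt N8031 F21333) (tt N4087 F21334) (tt N17461 (iv4 F43319)) (tt N16556 (iv5 F40677)) (tt N4085 (iv6 D12859)) (tt N16556 (iv7 F40681)))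
theorem Q8553 : ∀ i, i < 8553 → P i := stepQ 8552 Q8552 (allL N8552 (tt N4412 F21337) (tt N4410 (iv0 F21338)) (tt N5514 F21335) (tt N16556 (iv3 F40676)) (tt N10241 (iv4 F24534)) (tt N4087 (iv5 D12860)) (tt N5354 F21336) (tt N4087 F21339))
theorem Q8554 : ∀ i, i < 8554 → P i := stepQ 8553 Q8553 (allL N8553 (tt N5618 F27422) (tt N4108 F27423) (tt N5535 F21340) (tt N11521 (iv3 F27958)) (tt N11249 (iv4 F27415)) (tt N11892 (iv5 F28600)) (tt N4088 (iv6 D12861)) (tt N5617 (iv7 F21419)))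
theorem Q8555 : ∀ i, i < 8555 → P i := stepQ 8554 Q8554 (allL N8554 (tt N5691 (iv1 F21343)) (tt N5690 F21344) (tt N4097 F21341) (tt N17462 D26870) (tt N4093 (iv4 D12862)) (tt N17463 D26871) (tt N17305 (iv6 F298694)) (tt N5244 F296979))
theorem Q8556 : ∀ i, i < 8556 → P i := stepQ 8555 Q8555 (allL N8555 (tt N11970 (iv1 F300059)) (tt N5612 F298431) (tt N4098 F21345) (tt N5572 F21346) (tt N17305 (iv4 F298693)) (tt N11888 F298432) (tt N4093 (iv6 D12863)) (tt N12664 (iv7 F299080)))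
theorem Q8557 : ∀ i, i < 8557 → P i := stepQ 8556 Q8556 (allL N8556 (tt N4094 (iv1 D12864)) (tt N4102 F21347) (tt N4100 (iv2 F21349)) (tt N6143 (iv3 F21350)) (tt N17464 D26877) (tt N5700 (iv5 F21352)) (tt N8556 F21351) (tt N4099 F21348))
theorem Q8558 : ∀ i, i < 8558 → P i := stepQ 8557 Q8557 (allL N8557 (tt N5683 F21356) (tt N8657 (iv0 F21602)) (tt N4101 F21354) (tt N5575 F21355) (tt N17465 D26878) (tt N4094 (iv5 D12865)) (tt N11888 (iv6 F297193)) (tt N11838 (iv7 F28501)))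
theorem Q8559 : ∀ i, i < 8559 → P i := stepQ 8558 Q8558 (allL N8558 (tt N4100 (iv1 F21361)) (tt N4099 F21362) (tt N4102 F21357) (tt N5576 F21358) (tt N5576 F21359) (tt N11838 (iv5 F28498)) (tt N5685 F21360) (tt N4094 (iv7 D12866)))
theorem Q8560 : ∀ i, i < 8560 → P i := stepQ 8559 Q8559 (allL N8559 (tt N8743 (iv1 F21932)) (tt N17466 D26879) (tt N5689 F21363) (tt N17467 D26880) (tt N4095 (iv4 D12867)) (tt N9386 (iv5 F296885)) (tt N5704 (iv6 F296886)) (tt N5686 F21364))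
theorem Q8561 : ∀ i, i < 8561 → P i := stepQ 8560 Q8560 (allL N8560 (tt N17466 (iv1 F43346)) (tt N8743 (iv0 F21931)) (tt N5686 F21367) (tt N17468 D26887) (tt N4096 (iv4 D12869)) (tt N9385 (iv5 F298237)) (tt N12493 (iv6 F298239)) (tt N5689 F21368))
theorem Q8562 : ∀ i, i < 8562 → P i := stepQ 8561 Q8561 (allL N8561 (tt N6102 (iv1 F297789)) (tt N6099 (iv0 F297785)) (tt N5687 F21369) (tt N6801 F21370) (tt N12493 (iv4 F298238)) (tt N5777 F21371) (tt N4096 (iv6 D12870)) (tt N5709 (iv7 F298241)))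
theorem Q8563 : ∀ i, i < 8563 → P i := stepQ 8562 Q8562 (allL N8562 (tt N5244 (iv1 F296882)) (tt N4097 (iv0 D12871)) (tt N5691 F21634) (tt N17469 D26893) (tt N5731 F21372) (tt N17094 (iv5 F298199)) (tt N5226 (iv6 F298200)) (tt N5690 (iv7 F21633)))
theorem Q8564 : ∀ i, i < 8564 → P i := stepQ 8563 Q8563 (allL N8563 (tt N4097 (iv1 D12872)) (tt N5244 F296973) (tt N5690 (iv2 F21632)) (tt N13946 (iv3 F34394)) (tt N5735 (iv4 F21375)) (tt N14040 (iv5 F34559)) (tt N12495 (iv6 F298687)) (tt N5691 F21635))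
theorem Q8565 : ∀ i, i < 8565 → P i := stepQ 8564 Q8564 (allL N8564 (tt N10783 F298468) (tt N10786 (iv0 F300699)) (tt N17463 (iv2 F43322)) (tt N17283 (iv3 F42682)) (tt N17470 D26897) (tt N4097 (iv5 D12873)) (tt N17471 D26898) (tt N5692 F21376))
theorem Q8566 : ∀ i, i < 8566 → P i := stepQ 8565 Q8565 (allL N8565 (tt N17304 (iv1 F301122)) (tt N17292 (iv0 F301123)) (tt N17305 (iv2 F298692)) (tt N17284 (iv3 F42684)) (tt N4098 F21377) (tt N11185 (iv5 F301124)) (tt N4097 (iv6 D12874)) (tt N5240 (iv7 F301126)))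
theorem Q8567 : ∀ i, i < 8567 → P i := stepQ 8566 Q8566 (allL N8566 (tt N12664 (iv1 F299078)) (tt N4098 (iv0 D12875)) (tt N11970 (iv2 F300060)) (tt N17472 D26904) (tt N17473 D26905) (tt N17474 D26906) (tt N8660 F298447) (tt N5612 F298448))
theorem Q8568 : ∀ i, i < 8568 → P i := stepQ 8567 Q8567 (allL N8567 (tt N4098 (iv1 D12876)) (tt N12664 (iv0 F299077)) (tt N5612 F298469) (tt N12936 F118781) (tt N10632 (iv4 F301127)) (tt N17475 D26911) (tt N4104 F298470) (tt N11970 (iv7 F300061)))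
theorem Q8569 : ∀ i, i < 8569 → P i := stepQ 8568 Q8568 (allL N8568 (tt N11890 (iv1 F297466)) (tt N5546 F296840) (tt N11888 (iv2 F297192)) (tt N4105 F21378) (tt N17476 D26915) (tt N4098 (iv5 D12877)) (tt N4101 F21379) (tt N11889 (iv7 F297476)))
theorem Q8570 : ∀ i, i < 8570 → P i := stepQ 8569 Q8569 (allL N8569 (tt N5612 F298471) (tt N11970 (iv0 F300058)) (tt N12664 (iv2 F299079)) (tt N4106 F21380) (tt N5240 (iv4 F301125)) (tt N11889 F298472) (tt N5238 F298473) (tt N4098 (iv7 D12878)))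
theorem Q8571 : ∀ i, i < 8571 → P i := stepQ 8570 Q8570 (allL N8570 (tt N15600 F324210) (tt N11247 (iv0 F27430)) (tt N11228 F27361) (tt N12668 (iv3 F30575)) (tt N4099 (iv4 D12879)) (tt N15673 (iv5 F325363)) (tt N5778 F21382) (tt N17464 (iv7 F43342)))
theorem Q8572 : ∀ i, i < 8572 → P i := stepQ 8571 Q8571 (allL N8571 (tt N5684 F21385) (tt N5702 (iv0 F21386)) (tt N5621 (iv2 F296033)) (tt N13339 F295989) (tt N17477 D26919) (tt N4099 (iv5 D12880)) (tt N4107 (iv6 F296012)) (tt N5700 F21384))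
theorem Q8573 : ∀ i, i < 8573 → P i := stepQ 8572 Q8572 (allL N8572 (tt N11247 (iv1 F27431)) (tt N15600 F324211) (tt N17464 (iv2 F43339)) (tt N11225 F27348) (tt N4100 (iv4 D12881)) (tt N15675 (iv5 F325362)) (tt N8572 F21387) (tt N11228 (iv7 F27359)))
theorem Q8574 : ∀ i, i < 8574 → P i := stepQ 8573 Q8573 (allL N8573 (tt N5702 (iv1 F21391)) (tt N5684 (iv0 F21390)) (tt N5700 F21388) (tt N12941 (iv3 F31222)) (tt N17478 D26922) (tt N4100 (iv5 D12882)) (tt N17479 D26923) (tt N5621 F296266))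
theorem Q8575 : ∀ i, i < 8575 → P i := stepQ 8574 Q8574 (allL N8574 (tt N17480 D26924) (tt N17481 D26925) (tt N17465 (iv2 F43345)) (tt N17482 D26926) (tt N4101 (iv4 D12883)) (tt N9426 (iv5 F318815)) (tt N17476 (iv6 F43402)) (tt N17483 D26928))
theorem Q8576 : ∀ i, i < 8576 → P i := stepQ 8575 Q8575 (allL N8575 (tt N8657 F21603) (tt N5683 (iv0 F21394)) (tt N11838 F28499) (tt N4111 F21392) (tt N17483 (iv4 F43422)) (tt N4102 F21393) (tt N16017 F323943) (tt N4101 (iv7 D12884)))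
theorem Q8577 : ∀ i, i < 8577 → P i := stepQ 8576 Q8576 (allL N8576 (tt N12604 (iv1 F118790)) (tt N12588 F118774) (tt N12602 F118818) (tt N4103 (iv3 D12886)) (tt N17484 D26933) (tt N17485 D26934) (tt N11976 F28833) (tt N5609 F28803))
theorem Q8578 : ∀ i, i < 8578 → P i := stepQ 8577 Q8577 (allL N8577 (tt N17486 D26935) (tt N17487 D26936) (tt N5607 F28806) (tt N17485 (iv3 F43432)) (tt N17488 D26937) (tt N4103 (iv5 D12888)) (tt N11982 (iv6 F28840)) (tt N5611 F28807))
theorem Q8579 : ∀ i, i < 8579 → P i := stepQ 8578 Q8578 (allL N8578 (tt N12561 F121249) (tt N17489 D26939) (tt N17490 D26940) (tt N4104 (iv3 D12890)) (tt N17491 D26941) (tt N17492 D26942) (tt N12936 (iv6 F297255)) (tt N5605 F28814))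
theorem Q8580 : ∀ i, i < 8580 → P i := stepQ 8579 Q8579 (allL N8579 (tt N17487 (iv1 F43437)) (tt N17486 F43436) (tt N5611 F28817) (tt N17492 (iv3 F43449)) (tt N17493 D26944) (tt N4104 (iv5 D12892)) (tt N15670 F322494) (tt N5607 F28818))
theorem Q8581 : ∀ i, i < 8581 → P i := stepQ 8580 Q8580 (allL N8580 (tt N5616 (iv1 F21402)) (tt N4105 (iv0 D12894)) (tt N5613 F30498) (tt N17494 D26948) (tt N12374 (iv4 F41956)) (tt N11990 F298890) (tt N8648 F21576) (tt N5614 F30500))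
theorem Q8582 : ∀ i, i < 8582 → P i := stepQ 8581 Q8581 (allL N8581 (tt N4105 (iv1 D12895)) (tt N5616 F21397) (tt N5614 F30496) (tt N13977 F298048) (tt N12375 (iv4 F41952)) (tt N5682 F298049) (tt N5683 F298050) (tt N5613 F30497))
theorem Q8583 : ∀ i, i < 8583 → P i := stepQ 8582 Q8582 (allL N8582 (tt N17495 D26951) (tt N17496 D26952) (tt N5615 F21398) (tt N17497 D26953) (tt N4105 (iv4 D12896)) (tt N17498 D26954) (tt N4110 F21399) (tt N17499 D26955))
theorem Q8584 : ∀ i, i < 8584 → P i := stepQ 8583 Q8583 (allL N8583 (tt N5614 (iv1 F21403)) (tt N5613 F21404) (tt N5616 F21400) (tt N11889 F298891) (tt N17499 (iv4 F43486)) (tt N4106 F21401) (tt N16013 F321905) (tt N4105 (iv7 D12897)))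
theorem Q8585 : ∀ i, i < 8585 → P i := stepQ 8584 Q8584 (allL N8584 (tt N5370 F21408) (tt N8861 (iv0 F22113)) (tt N5620 F21405) (tt N17500 D26957) (tt N4107 (iv4 D12898)) (tt N5620 F21407) (tt N17477 F296232) (tt N5625 F21406))
theorem Q8586 : ∀ i, i < 8586 → P i := stepQ 8585 Q8585 (allL N8585 (tt N4108 (iv1 D12901)) (tt N5618 F21417) (tt N5617 F27420) (tt N13639 (iv3 F33405)) (tt N11253 F27418) (tt N11893 F28606) (tt N5719 F27421) (tt N5535 (iv7 F27419)))
theorem Q8587 : ∀ i, i < 8587 → P i := stepQ 8586 Q8586 (allL N8586 (tt N5535 (iv1 F21418)) (tt N5617 F21416) (tt N4108 (iv2 D12902)) (tt N5623 F21412) (tt N8586 F21413) (tt N17501 D26962) (tt N8586 F21414) (tt N5618 F21415))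
theorem Q8588 : ∀ i, i < 8588 → P i := stepQ 8587 Q8587 (allL N8587 (tt N11567 (iv1 F28266)) (tt N11568 (iv0 F28048)) (tt N17501 (iv2 F43506)) (tt N4109 F21421) (tt N17502 D26963) (tt N4108 (iv5 D12903)) (tt N17503 D26964) (tt N5619 F21422))
theorem Q8589 : ∀ i, i < 8589 → P i := stepQ 8588 Q8588 (allL N8588 (tt N8861 (iv1 F22114)) (tt N5370 F21426) (tt N5625 F21423) (tt N17504 D26965) (tt N4109 (iv4 D12904)) (tt N5625 F21424) (tt N17505 D26966) (tt N5620 F21425))
theorem Q8590 : ∀ i, i < 8590 → P i := stepQ 8589 Q8589 (allL N8589 (tt N17506 D26967) (tt N17507 D26968) (tt N5626 F21427) (tt N17503 (iv3 F43512)) (tt N17505 (iv4 F43517)) (tt N8589 F21428) (tt N4109 (iv6 D12905)) (tt N17479 (iv7 F297208)))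
theorem Q8591 : ∀ i, i < 8591 → P i := stepQ 8590 Q8590 (allL N8590 (tt N17508 D26970) (tt N17509 D26971) (tt N17510 D26972) (tt N4110 (iv3 D12906)) (tt N17482 (iv4 F43421)) (tt N15652 F324577) (tt N17497 (iv6 F43483)) (tt N12554 (iv7 F30127)))
theorem Q8592 : ∀ i, i < 8592 → P i := stepQ 8591 Q8591 (allL N8591 (tt N5638 F21432) (tt N5643 F21433) (tt N5631 F21429) (tt N15652 (iv3 F323129)) (tt N4148 F21430) (tt N4110 (iv5 D12907)) (tt N15650 F321472) (tt N4147 F21431))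
theorem Q8593 : ∀ i, i < 8593 → P i := stepQ 8592 Q8592 (allL N8592 (tt N16012 F321428) (tt N16011 F321429) (tt N5633 F21434) (tt N16017 (iv3 F322502)) (tt N12555 (iv4 F30129)) (tt N5724 F21435) (tt N4111 (iv6 D12908)) (tt N16013 F321430))
theorem Q8594 : ∀ i, i < 8594 → P i := stepQ 8593 Q8593 (allL N8593 (tt N4112 (iv1 D12909)) (tt N5636 F21440) (tt N5635 (iv2 F21437)) (tt N11995 F296120) (tt N11659 (iv4 F28313)) (tt N8784 F21985) (tt N4217 (iv6 F21438)) (tt N5518 F21436))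
theorem Q8595 : ∀ i, i < 8595 → P i := stepQ 8594 Q8594 (allL N8594 (tt N5518 (iv1 F21446)) (tt N5635 F21445) (tt N4112 (iv2 D12910)) (tt N5641 F21441) (tt N8594 F21442) (tt N17511 D26978) (tt N8594 F21443) (tt N5636 F21444))
theorem Q8596 : ∀ i, i < 8596 → P i := stepQ 8595 Q8595 (allL N8595 (tt N11533 (iv1 F27990)) (tt N8508 (iv0 F21449)) (tt N17511 (iv2 F43539)) (tt N4113 F21447) (tt N17512 D26979) (tt N4112 (iv5 D12911)) (tt N17513 D26980) (tt N5637 F21448))
theorem Q8597 : ∀ i, i < 8597 → P i := stepQ 8596 Q8596 (allL N8596 (tt N5631 F21453) (tt N4147 F21454) (tt N5643 F21450) (tt N17514 D26981) (tt N4113 (iv4 D12912)) (tt N5643 F21451) (tt N17515 D26982) (tt N5638 F21452))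
theorem Q8598 : ∀ i, i < 8598 → P i := stepQ 8597 Q8597 (allL N8597 (tt N17516 D26983) (tt N17517 D26984) (tt N5644 F21455) (tt N17513 (iv3 F43545)) (tt N17515 (iv4 F43550)) (tt N8597 F21456) (tt N4113 (iv6 D12913)) (tt N17518 D26985))
theorem Q8599 : ∀ i, i < 8599 → P i := stepQ 8598 Q8598 (allL N8598 (tt N4114 (iv1 D12915)) (tt N5456 F21458) (tt N5455 F21460) (tt N4998 F21461) (tt N10478 F24845) (tt N7237 (iv5 F21459)) (tt N9289 (iv6 F23059)) (tt N5454 (iv7 F21462)))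
theorem Q8600 : ∀ i, i < 8600 → P i := stepQ 8599 Q8599 (allL N8599 (tt N5464 (iv1 F21466)) (tt N4115 (iv0 D12916)) (tt N5463 (iv2 F26709)) (tt N8539 F21465) (tt N10609 F26714) (tt N10755 (iv5 F35196)) (tt N17519 D26986) (tt N5462 (iv7 F26712)))
theorem Q8601 : ∀ i, i < 8601 → P i := stepQ 8600 Q8600 (allL N8600 (tt N4115 (iv1 D12917)) (tt N5464 (iv0 F21468)) (tt N5462 F26710) (tt N5670 (iv3 F26701)) (tt N5672 (iv4 F26415)) (tt N10756 (iv5 F35191)) (tt N10216 F26707) (tt N5463 F26708))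
theorem Q8602 : ∀ i, i < 8602 → P i := stepQ 8601 Q8601 (allL N8601 (tt N5463 (iv1 F21472)) (tt N5462 F21471) (tt N4115 (iv2 D12918)) (tt N14916 (iv3 F37422)) (tt N4123 F21469) (tt N17520 D26987) (tt N10518 (iv6 F26660)) (tt N5464 F21470))
theorem Q8603 : ∀ i, i < 8603 → P i := stepQ 8602 Q8602 (allL N8602 (tt N17117 (iv1 F42274)) (tt N17119 (iv0 F42283)) (tt N17520 (iv2 F43568)) (tt N4116 F21473) (tt N17521 D26988) (tt N4115 (iv5 D12919)) (tt N17522 D26989) (tt N5465 F21474))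
theorem Q8604 : ∀ i, i < 8604 → P i := stepQ 8603 Q8603 (allL N8603 (tt N10515 F26702) (tt N5459 F26704) (tt N10518 (iv2 F26659)) (tt N4117 F21475) (tt N4124 F21476) (tt N16527 (iv5 F40641)) (tt N4115 (iv6 D12920)) (tt N10517 F27041))
theorem Q8605 : ∀ i, i < 8605 → P i := stepQ 8604 Q8604 (allL N8604 (tt N17523 D26990) (tt N17524 D26991) (tt N8089 F21477) (tt N17522 (iv3 F43575)) (tt N14734 (iv4 F37017)) (tt N17525 D26992) (tt N4116 (iv6 D12921)) (tt N17526 D26993))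
theorem Q8606 : ∀ i, i < 8606 → P i := stepQ 8605 Q8605 (allL N8605 (tt N17527 D26994) (tt N17528 D26995) (tt N14918 (iv2 F37431)) (tt N16527 (iv3 F40639)) (tt N13862 (iv4 F34024)) (tt N4117 (iv5 D12922)) (tt N17525 (iv6 F43578)) (tt N17529 D26996))
theorem Q8607 : ∀ i, i < 8607 → P i := stepQ 8606 Q8606 (allL N8606 (tt N5670 (iv1 F21480)) (tt N8041 F21481) (tt N10638 (iv2 F25138)) (tt N10517 (iv3 F27039)) (tt N4120 F21478) (tt N17529 (iv5 F43590)) (tt N5471 F21479) (tt N4117 (iv7 D12923)))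
theorem Q8608 : ∀ i, i < 8608 → P i := stepQ 8607 Q8607 (allL N8607 (tt N14904 (iv1 F37399)) (tt N7205 (iv0 F21484)) (tt N14903 F37388) (tt N4938 F21482) (tt N16312 (iv4 F40316)) (tt N4118 (iv5 D12924)) (tt N7311 F21483) (tt N8974 (iv7 F22372)))
theorem Q8609 : ∀ i, i < 8609 → P i := stepQ 8608 Q8608 (allL N8608 (tt N7205 F21487) (tt N14904 F37398) (tt N8974 (iv2 F22369)) (tt N8608 F21485) (tt N16129 (iv4 F39968)) (tt N4119 (iv5 D12925)) (tt N7231 F21486) (tt N14903 (iv7 F37391)))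
theorem Q8610 : ∀ i, i < 8610 → P i := stepQ 8609 Q8609 (allL N8609 (tt N17530 D26997) (tt N17531 D26998) (tt N5492 F27246) (tt N10537 (iv3 F24928)) (tt N4121 (iv4 D12927)) (tt N17532 D26999) (tt N17533 D27000) (tt N5488 (iv7 F27252)))
theorem Q8611 : ∀ i, i < 8611 → P i := stepQ 8610 Q8610 (allL N8610 (tt N11156 F50542) (tt N7450 (iv0 F50543)) (tt N5494 F27248) (tt N10541 (iv3 F24934)) (tt N17533 (iv4 F43605)) (tt N17534 D27003) (tt N4121 (iv6 D12929)) (tt N11155 (iv7 F50504)))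
theorem Q8612 : ∀ i, i < 8612 → P i := stepQ 8611 Q8611 (allL N8611 (tt N4124 F27250) (tt N8493 F27251) (tt N10532 (iv2 F24917)) (tt N4122 (iv3 D12931)) (tt N17535 D27005) (tt N10765 (iv5 F35190)) (tt N9061 F50533) (tt N5491 F27240))
theorem Q8613 : ∀ i, i < 8613 → P i := stepQ 8612 Q8612 (allL N8612 (tt N17531 (iv1 F43596)) (tt N17530 F43593) (tt N5488 F27255) (tt N14731 (iv3 F37002)) (tt N4122 (iv4 D12932)) (tt N17536 D27007) (tt N17537 D27008) (tt N5492 F27241))
theorem Q8614 : ∀ i, i < 8614 → P i := stepQ 8613 Q8613 (allL N8613 (tt N11212 (iv1 F50525)) (tt N17538 D27010) (tt N5490 (iv2 F27256)) (tt N9061 F50531) (tt N17537 (iv4 F43631)) (tt N17539 D27011) (tt N4122 (iv6 D12934)) (tt N17540 D27012))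
theorem Q8615 : ∀ i, i < 8615 → P i := stepQ 8614 Q8614 (allL N8614 (tt N5491 (iv1 F27244)) (tt N10532 F26649) (tt N4124 F21490) (tt N5000 F26650) (tt N10518 F26651) (tt N5984 F26652) (tt N4123 (iv6 D12935)) (tt N8493 F26775))
theorem Q8616 : ∀ i, i < 8616 → P i := stepQ 8615 Q8615 (allL N8615 (tt N8493 (iv1 F26784)) (tt N4124 (iv0 D12936)) (tt N5491 F27245) (tt N8316 F27037) (tt N16362 (iv4 F40390)) (tt N17541 D27013) (tt N17542 D27014) (tt N10532 (iv7 F27249)))
theorem Q8617 : ∀ i, i < 8617 → P i := stepQ 8616 Q8616 (allL N8616 (tt N17153 F42379) (tt N17102 (iv0 F42224)) (tt N5984 (iv2 F26658)) (tt N4125 F21492) (tt N12620 (iv4 F30275)) (tt N4124 (iv5 D12938)) (tt N17287 (iv6 F42688)) (tt N17220 (iv7 F42532)))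
theorem Q8618 : ∀ i, i < 8618 → P i := stepQ 8617 Q8617 (allL N8617 (tt N10532 (iv1 F26661)) (tt N5491 F27243) (tt N8493 (iv2 F26782)) (tt N4126 F21493) (tt N10517 F27040) (tt N17220 (iv5 F42531)) (tt N5499 F21494) (tt N4124 (iv7 D12939)))
theorem Q8619 : ∀ i, i < 8619 → P i := stepQ 8618 Q8618 (allL N8618 (tt N5666 (iv1 F21498)) (tt N4125 (iv0 D12940)) (tt N5663 (iv2 F21496)) (tt N5148 F26435) (tt N16987 (iv4 F41713)) (tt N5053 F21495) (tt N17543 D27015) (tt N5664 (iv7 F21497)))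
theorem Q8620 : ∀ i, i < 8620 → P i := stepQ 8619 Q8619 (allL N8619 (tt N4125 (iv1 D12941)) (tt N5666 F21499) (tt N5664 (iv2 F21502)) (tt N10864 F26951) (tt N10295 F309460) (tt N5057 F21501) (tt N9915 (iv6 F311147)) (tt N5663 F21500))
theorem Q8621 : ∀ i, i < 8621 → P i := stepQ 8620 Q8620 (allL N8620 (tt N10618 (iv1 F26492)) (tt N10448 (iv0 F309629)) (tt N5665 F21503) (tt N17544 D27017) (tt N4125 (iv4 D12942)) (tt N17459 (iv5 F43312)) (tt N17295 (iv6 F42705)) (tt N17458 (iv7 F43307)))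
theorem Q8622 : ∀ i, i < 8622 → P i := stepQ 8621 Q8621 (allL N8621 (tt N5664 (iv1 F21506)) (tt N5663 F21507) (tt N5666 F21504) (tt N17220 (iv3 F42529)) (tt N17458 (iv4 F43306)) (tt N4126 F21505) (tt N17545 D27018) (tt N4125 (iv7 D12943)))
theorem Q8623 : ∀ i, i < 8623 → P i := stepQ 8622 Q8622 (allL N8622 (tt N11532 F27987) (tt N8507 (iv0 F21835)) (tt N17369 (iv2 F42959)) (tt N4133 F21512) (tt N17369 (iv4 F42961)) (tt N17546 D27020) (tt N4131 (iv6 D12945)) (tt N8641 (iv7 F21562)))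
theorem Q8624 : ∀ i, i < 8624 → P i := stepQ 8623 Q8623 (allL N8623 (tt N8781 (iv1 F27456)) (tt N11261 (iv0 F27453)) (tt N5562 F21513) (tt N5368 F21514) (tt N4133 F21515) (tt N17547 D27021) (tt N4132 (iv6 D12946)) (tt N8642 (iv7 F21565)))
theorem Q8625 : ∀ i, i < 8625 → P i := stepQ 8624 Q8624 (allL N8624 (tt N5599 F21518) (tt N5575 (iv0 F21519)) (tt N5566 F21516) (tt N17546 (iv3 F43657)) (tt N7627 F324962) (tt N4133 (iv5 D12947)) (tt N11926 (iv6 F28703)) (tt N5597 F21517))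
theorem Q8626 : ∀ i, i < 8626 → P i := stepQ 8625 Q8625 (allL N8625 (tt N5584 F21522) (tt N5583 F21523) (tt N4138 F21520) (tt N17548 D27023) (tt N4134 (iv4 D12948)) (tt N17470 (iv5 F43394)) (tt N17549 D27024) (tt N5571 F21521))
theorem Q8627 : ∀ i, i < 8627 → P i := stepQ 8626 Q8626 (allL N8626 (tt N5579 F297157) (tt N17550 D27026) (tt N4139 F21524) (tt N5242 F297158) (tt N17549 (iv4 F43666)) (tt N15705 (iv5 F323520)) (tt N4134 (iv6 D12949)) (tt N12662 (iv7 F299023)))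
theorem Q8628 : ∀ i, i < 8628 → P i := stepQ 8627 Q8627 (allL N8627 (tt N5596 (iv1 F21674)) (tt N5593 F21528) (tt N4141 F21526) (tt N5684 F21527) (tt N7864 (iv4 F324969)) (tt N4135 (iv5 D12950)) (tt N15705 F324843) (tt N7861 F324844))
theorem Q8629 : ∀ i, i < 8629 → P i := stepQ 8628 Q8628 (allL N8628 (tt N12586 F30210) (tt N12605 F30253) (tt N5815 (iv2 F21536)) (tt N4136 (iv3 D12951)) (tt N8789 F22000) (tt N4156 F21534) (tt N17551 D27030) (tt N5577 F21535))
theorem Q8630 : ∀ i, i < 8630 → P i := stepQ 8629 Q8629 (allL N8629 (tt N12147 (iv1 F29398)) (tt N12214 (iv0 F29508)) (tt N5581 F21538) (tt N11285 (iv3 F27527)) (tt N4136 (iv4 D12952)) (tt N11284 F27525) (tt N17552 D27031) (tt N5578 F21539))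
theorem Q8631 : ∀ i, i < 8631 → P i := stepQ 8630 Q8630 (allL N8630 (tt N12659 F91193) (tt N12569 F91194) (tt N5582 F21540) (tt N17551 (iv3 F43679)) (tt N17552 (iv4 F43682)) (tt N5740 F21541) (tt N4136 (iv6 D12953)) (tt N12658 F91173))
theorem Q8632 : ∀ i, i < 8632 → P i := stepQ 8631 Q8631 (allL N8631 (tt N11518 (iv1 F27945)) (tt N11520 (iv0 F27955)) (tt N8703 (iv2 F21832)) (tt N4137 (iv3 D12954)) (tt N8733 (iv4 F21922)) (tt N4158 F21542) (tt N17553 D27035) (tt N5580 F21543))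
theorem Q8633 : ∀ i, i < 8633 → P i := stepQ 8632 Q8632 (allL N8632 (tt N12214 (iv1 F29509)) (tt N12147 (iv0 F29397)) (tt N5578 F21544) (tt N17554 D27036) (tt N4137 (iv4 D12955)) (tt N14041 (iv5 F34581)) (tt N17555 D27037) (tt N5581 F21545))
theorem Q8634 : ∀ i, i < 8634 → P i := stepQ 8633 Q8633 (allL N8633 (tt N12662 F125926) (tt N4139 (iv0 F298278)) (tt N5579 F21546) (tt N17553 (iv3 F43690)) (tt N17555 (iv4 F43693)) (tt N11666 (iv5 F28193)) (tt N4137 (iv6 D12956)) (tt N17550 (iv7 F299024)))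
theorem Q8635 : ∀ i, i < 8635 → P i := stepQ 8634 Q8634 (allL N8634 (tt N5571 (iv1 F21548)) (tt N4138 (iv0 D12957)) (tt N5584 (iv2 F21549)) (tt N17556 D27041) (tt N5770 F21547) (tt N17557 D27042) (tt N17558 D27043) (tt N5583 (iv7 F21550)))
theorem Q8636 : ∀ i, i < 8636 → P i := stepQ 8635 Q8635 (allL N8635 (tt N4138 (iv1 D12958)) (tt N5571 F21551) (tt N5583 (iv2 F21554)) (tt N17185 (iv3 F42459)) (tt N5771 (iv4 F21553)) (tt N17184 F42452) (tt N17559 D27044) (tt N5584 F21552))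
theorem Q8637 : ∀ i, i < 8637 → P i := stepQ 8636 Q8636 (allL N8636 (tt N11929 (iv1 F28713)) (tt N11932 (iv0 F28718)) (tt N17470 (iv2 F43393)) (tt N17268 (iv3 F42623)) (tt N17463 (iv4 F43323)) (tt N4138 (iv5 D12959)) (tt N17560 D27045) (tt N5585 F21555))
theorem Q8638 : ∀ i, i < 8638 → P i := stepQ 8637 Q8637 (allL N8637 (tt N17559 F297718) (tt N17561 D27047) (tt N17549 (iv2 F43665)) (tt N17269 (iv3 F42627)) (tt N4139 F21556) (tt N17562 D27048) (tt N4138 (iv6 D12960)) (tt N17563 D27049))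
theorem Q8639 : ∀ i, i < 8639 → P i := stepQ 8638 Q8638 (allL N8638 (tt N4139 (iv1 D12962)) (tt N12662 (iv0 F299021)) (tt N17550 F91535) (tt N17564 D27056) (tt N17565 D27057) (tt N17566 D27058) (tt N12658 (iv6 F298954)) (tt N5579 F297160))
theorem Q8640 : ∀ i, i < 8640 → P i := stepQ 8639 Q8639 (allL N8639 (tt N15524 F324811) (tt N15557 F324812) (tt N15705 F324813) (tt N4145 F21557) (tt N7895 F324814) (tt N4139 (iv5 D12963)) (tt N4141 F21558) (tt N7892 F324815))
theorem Q8641 : ∀ i, i < 8641 → P i := stepQ 8640 Q8640 (allL N8640 (tt N17550 (iv1 F43667)) (tt N5579 F297159) (tt N12662 (iv2 F299022)) (tt N4146 F21559) (tt N17563 (iv4 F43710)) (tt N7892 F324690) (tt N5590 F21560) (tt N4139 (iv7 D12964)))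
theorem Q8642 : ∀ i, i < 8642 → P i := stepQ 8641 Q8641 (allL N8641 (tt N8779 (iv1 F27388)) (tt N8782 (iv0 F27387)) (tt N8704 (iv2 F21837)) (tt N4140 (iv3 D12965)) (tt N8704 (iv4 F21839)) (tt N11665 (iv5 F28191)) (tt N4158 F21561) (tt N8622 F21562))
theorem Q8643 : ∀ i, i < 8643 → P i := stepQ 8642 Q8642 (allL N8642 (tt N8505 (iv1 F21642)) (tt N11598 F28090) (tt N5732 F21563) (tt N4167 F21566) (tt N4140 (iv4 D12966)) (tt N17567 D27064) (tt N4159 F21564) (tt N8623 F21565))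
theorem Q8644 : ∀ i, i < 8644 → P i := stepQ 8643 Q8643 (allL N8643 (tt N7861 F324960) (tt N4141 (iv0 D12967)) (tt N5596 (iv2 F21672)) (tt N17568 D27065) (tt N7806 F324961) (tt N5574 (iv5 F21677)) (tt N17569 D27067) (tt N5593 (iv7 F21673)))
theorem Q8645 : ∀ i, i < 8645 → P i := stepQ 8644 Q8644 (allL N8644 (tt N4141 (iv1 D12968)) (tt N7861 F324958) (tt N5593 F21700) (tt N17570 D27068) (tt N7805 F324959) (tt N5573 F21567) (tt N5593 (iv6 F296316)) (tt N5596 (iv7 F21699)))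
theorem Q8646 : ∀ i, i < 8646 → P i := stepQ 8645 Q8645 (allL N8645 (tt N17571 D27077) (tt N12563 (iv0 F120780)) (tt N6798 F296257) (tt N4143 (iv3 D12972)) (tt N12191 (iv4 F297184)) (tt N17572 D27081) (tt N5688 F296258) (tt N5706 F30516))
theorem Q8647 : ∀ i, i < 8647 → P i := stepQ 8646 Q8646 (allL N8646 (tt N17573 D27083) (tt N17574 D27084) (tt N5705 F30519) (tt N17572 (iv3 F43744)) (tt N17575 D27085) (tt N4143 (iv5 D12974)) (tt N5699 F297239) (tt N5708 F30520))
theorem Q8648 : ∀ i, i < 8648 → P i := stepQ 8647 Q8647 (allL N8647 (tt N12590 F118072) (tt N12613 (iv0 F118079)) (tt N12611 F118105) (tt N4144 (iv3 D12977)) (tt N17576 D27093) (tt N17577 D27094) (tt N13668 (iv6 F296859)) (tt N5703 F30504))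
theorem Q8649 : ∀ i, i < 8649 → P i := stepQ 8648 Q8648 (allL N8648 (tt N17574 (iv1 F43753)) (tt N17573 F43749) (tt N5708 F30501) (tt N17577 (iv3 F43779)) (tt N17578 D27096) (tt N4144 (iv5 D12979)) (tt N8580 (iv6 F21576)) (tt N5705 F30502))
theorem Q8650 : ∀ i, i < 8650 → P i := stepQ 8649 Q8649 (allL N8649 (tt N6099 F30508) (tt N6102 F30509) (tt N5709 F30510) (tt N13668 F298436) (tt N10571 (iv4 F41780)) (tt N11814 F298437) (tt N4144 (iv6 D12980)) (tt N5687 F298438))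
theorem Q8651 : ∀ i, i < 8651 → P i := stepQ 8650 Q8650 (allL N8650 (tt N5713 (iv1 F21582)) (tt N4145 (iv0 D12981)) (tt N5710 F28823) (tt N17579 D27098) (tt N12409 (iv4 F41786)) (tt N11972 (iv5 F28830)) (tt N15702 (iv6 F319440)) (tt N5711 F28824))
theorem Q8652 : ∀ i, i < 8652 → P i := stepQ 8651 Q8651 (allL N8651 (tt N4145 (iv1 D12982)) (tt N5713 F21577) (tt N5711 F28800) (tt N17580 D27100) (tt N12410 (iv4 F41782)) (tt N8661 (iv5 F21625)) (tt N17474 (iv6 F300113)) (tt N5710 F28801))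
theorem Q8653 : ∀ i, i < 8653 → P i := stepQ 8652 Q8652 (allL N8652 (tt N17581 D27102) (tt N17582 D27103) (tt N5712 F21578) (tt N17583 D27104) (tt N4145 (iv4 D12983)) (tt N17584 D27105) (tt N4147 F21579) (tt N17585 D27106))
theorem Q8654 : ∀ i, i < 8654 → P i := stepQ 8653 Q8653 (allL N8653 (tt N5711 (iv1 F21583)) (tt N5710 F21584) (tt N5713 F21580) (tt N7892 F324443) (tt N17585 (iv4 F43814)) (tt N4146 F21581) (tt N7891 F324444) (tt N4145 (iv7 D12984)))
theorem Q8655 : ∀ i, i < 8655 → P i := stepQ 8654 Q8654 (allL N8654 (tt N17586 D27108) (tt N17587 D27109) (tt N17588 D27110) (tt N4147 (iv3 D12985)) (tt N15655 (iv4 F325690)) (tt N12554 (iv5 F30126)) (tt N17583 (iv6 F43811)) (tt N15652 F324578))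
theorem Q8656 : ∀ i, i < 8656 → P i := stepQ 8655 Q8655 (allL N8655 (tt N5898 (iv1 F21593)) (tt N5872 F21590) (tt N5771 F21587) (tt N6160 F21588) (tt N5583 F21591) (tt N4149 (iv5 D12987)) (tt N17589 D27112) (tt N5770 F21589))
theorem Q8657 : ∀ i, i < 8657 → P i := stepQ 8656 Q8656 (allL N8656 (tt N11260 F27449) (tt N5943 (iv0 F21598)) (tt N5698 F21594) (tt N6161 F21595) (tt N4150 F21596) (tt N16007 (iv5 F324955)) (tt N4149 (iv6 D12988)) (tt N5695 F21597))
theorem Q8658 : ∀ i, i < 8658 → P i := stepQ 8657 Q8657 (allL N8657 (tt N8557 F21602) (tt N8575 (iv0 F21603)) (tt N5699 F21599) (tt N6713 F21600) (tt N17590 D27114) (tt N4150 (iv5 D12989)) (tt N5705 (iv6 F296334)) (tt N5696 F21601))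
theorem Q8659 : ∀ i, i < 8659 → P i := stepQ 8658 Q8658 (allL N8658 (tt N17094 F298460) (tt N14040 (iv0 F34561)) (tt N17095 (iv2 F298700)) (tt N17128 (iv3 F42308)) (tt N17591 D27124) (tt N4152 (iv5 D12994)) (tt N17592 D27125) (tt N5144 F298461))
theorem Q8660 : ∀ i, i < 8660 → P i := stepQ 8659 Q8659 (allL N8659 (tt N12581 F118880) (tt N6789 F118881) (tt N12580 (iv2 F118851)) (tt N4154 (iv3 D13000)) (tt N12042 (iv4 F296561)) (tt N17593 D27144) (tt N17594 D27145) (tt N5765 F28792))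
theorem Q8661 : ∀ i, i < 8661 → P i := stepQ 8660 Q8660 (allL N8660 (tt N11692 (iv1 F28238)) (tt N6103 (iv0 F30380)) (tt N5763 (iv2 F28787)) (tt N17593 (iv3 F43876)) (tt N17595 D27146) (tt N4154 (iv5 D13002)) (tt N8566 (iv6 F298447)) (tt N5767 (iv7 F28790)))
theorem Q8662 : ∀ i, i < 8662 → P i := stepQ 8661 Q8661 (allL N8661 (tt N11576 F30428) (tt N17596 D27147) (tt N5764 F28795) (tt N17594 (iv3 F43878)) (tt N10702 (iv4 F41746)) (tt N8651 F21625) (tt N4154 (iv6 D13003)) (tt N11869 F28796))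
theorem Q8663 : ∀ i, i < 8663 → P i := stepQ 8662 Q8662 (allL N8662 (tt N6814 F296660) (tt N6784 F296661) (tt N6813 F296662) (tt N4155 (iv3 D13005)) (tt N12129 (iv4 F297042)) (tt N11684 F28224) (tt N17597 D27152) (tt N5761 F28809))
theorem Q8664 : ∀ i, i < 8664 → P i := stepQ 8663 Q8663 (allL N8663 (tt N17598 D27153) (tt N11593 (iv0 F28593)) (tt N5768 (iv2 F28825)) (tt N17597 (iv3 F43895)) (tt N10704 F41757) (tt N11691 (iv5 F28235)) (tt N4155 (iv6 D13007)) (tt N17599 D27154))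
theorem Q8665 : ∀ i, i < 8665 → P i := stepQ 8664 Q8664 (allL N8664 (tt N12666 (iv1 F30560)) (tt N4203 F21630) (tt N5735 F21627) (tt N5844 F21628) (tt N5690 F21631) (tt N4157 (iv5 D13008)) (tt N6017 (iv6 F296217)) (tt N5731 F21629))
theorem Q8666 : ∀ i, i < 8666 → P i := stepQ 8665 Q8665 (allL N8665 (tt N4203 F21639) (tt N12666 (iv0 F30559)) (tt N5731 F21636) (tt N4166 F21637) (tt N5691 F21640) (tt N4159 (iv5 D13009)) (tt N4229 (iv6 F297366)) (tt N5735 F21638))
theorem Q8667 : ∀ i, i < 8667 → P i := stepQ 8666 Q8666 (allL N8666 (tt N5745 F21645) (tt N5744 F21646) (tt N4162 F21643) (tt N17078 (iv3 F297973)) (tt N4160 (iv4 D13010)) (tt N17591 (iv5 F43860)) (tt N4162 (iv6 F297341)) (tt N5736 F21644))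
theorem Q8668 : ∀ i, i < 8668 → P i := stepQ 8667 Q8667 (allL N8667 (tt N5736 (iv1 F21653)) (tt N4162 (iv0 D13013)) (tt N5745 (iv2 F21654)) (tt N17600 D27164) (tt N5864 F21652) (tt N11639 (iv5 F28155)) (tt N17601 D27165) (tt N5744 (iv7 F21655)))
theorem Q8669 : ∀ i, i < 8669 → P i := stepQ 8668 Q8668 (allL N8668 (tt N4162 (iv1 D13014)) (tt N5736 F21656) (tt N5744 F21659) (tt N12420 (iv3 F29912)) (tt N5796 (iv4 F21658)) (tt N11640 (iv5 F28156)) (tt N17602 D27166) (tt N5745 F21657))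
theorem Q8670 : ∀ i, i < 8670 → P i := stepQ 8669 Q8669 (allL N8669 (tt N17557 (iv1 F43705)) (tt N17184 (iv0 F42451)) (tt N17591 (iv2 F43859)) (tt N17077 (iv3 F42136)) (tt N17095 F299528) (tt N4162 (iv5 D13015)) (tt N17603 D27167) (tt N5746 F21660))
theorem Q8671 : ∀ i, i < 8671 → P i := stepQ 8670 Q8670 (allL N8670 (tt N8709 F21860) (tt N4193 F21861) (tt N8716 (iv2 F21884)) (tt N4164 (iv3 D13024)) (tt N8716 F21882) (tt N5836 (iv5 F295840)) (tt N11618 (iv6 F28119)) (tt N8670 F21711))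
theorem Q8672 : ∀ i, i < 8672 → P i := stepQ 8671 Q8671 (allL N8671 (tt N12605 (iv1 F30252)) (tt N12586 F30211) (tt N5577 F21734) (tt N8703 (iv3 F21833)) (tt N8788 (iv4 F21993)) (tt N4165 (iv5 D13042)) (tt N17604 D27225) (tt N5815 F21735))
theorem Q8673 : ∀ i, i < 8673 → P i := stepQ 8672 Q8672 (allL N8672 (tt N7030 (iv1 F27386)) (tt N11595 F28079) (tt N5729 F21737) (tt N8704 (iv3 F21838)) (tt N4167 F21738) (tt N17605 D27226) (tt N4165 (iv6 D13043)) (tt N11238 (iv7 F27385)))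
theorem Q8674 : ∀ i, i < 8674 → P i := stepQ 8673 Q8673 (allL N8673 (tt N12606 (iv1 F30258)) (tt N12930 (iv0 F31194)) (tt N5820 F21739) (tt N6215 F21741) (tt N4166 (iv4 D13044)) (tt N12976 (iv5 F31279)) (tt N17606 D27227) (tt N5816 F21740))
theorem Q8675 : ∀ i, i < 8675 → P i := stepQ 8674 Q8674 (allL N8674 (tt N17607 D27228) (tt N4205 (iv0 F297325)) (tt N5821 F21742) (tt N4229 (iv3 F297365)) (tt N17606 (iv4 F44038)) (tt N17608 D27230) (tt N4166 (iv6 D13045)) (tt N5977 (iv7 F297368)))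
theorem Q8676 : ∀ i, i < 8676 → P i := stepQ 8675 Q8675 (allL N8675 (tt N12570 F30158) (tt N6042 (iv0 F21744)) (tt N5823 F21743) (tt N17567 (iv3 F43718)) (tt N17609 D27232) (tt N4167 (iv5 D13046)) (tt N17608 (iv6 F44041)) (tt N11239 (iv7 F27390)))
theorem Q8677 : ∀ i, i < 8677 → P i := stepQ 8676 Q8676 (allL N8676 (tt N5886 F21748) (tt N5875 F21749) (tt N5844 F21745) (tt N4169 F21746) (tt N17610 D27233) (tt N4168 (iv5 D13047)) (tt N12302 (iv6 F296138)) (tt N5818 F21747))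
theorem Q8678 : ∀ i, i < 8678 → P i := stepQ 8677 Q8677 (allL N8677 (tt N12930 (iv1 F31195)) (tt N12606 (iv0 F30257)) (tt N5816 F21750) (tt N17611 D27235) (tt N4169 (iv4 D13048)) (tt N13944 (iv5 F34389)) (tt N17612 D27236) (tt N5820 F21751))
theorem Q8679 : ∀ i, i < 8679 → P i := stepQ 8678 Q8678 (allL N8678 (tt N4241 (iv1 F117177)) (tt N6019 F117172) (tt N5817 F21752) (tt N12302 F296238) (tt N17612 (iv4 F44058)) (tt N5829 F21753) (tt N4169 (iv6 D13049)) (tt N6018 (iv7 F117174)))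
theorem Q8680 : ∀ i, i < 8680 → P i := stepQ 8679 Q8679 (allL N8679 (tt N5831 F21757) (tt N5830 F21758) (tt N4173 F21754) (tt N17613 D27240) (tt N4170 (iv4 D13050)) (tt N6821 F21756) (tt N17614 D27241) (tt N5824 F21755))
theorem Q8681 : ∀ i, i < 8681 → P i := stepQ 8680 Q8680 (allL N8680 (tt N17389 (iv1 F297363)) (tt N5809 (iv0 F298609)) (tt N4174 F21759) (tt N5795 F21760) (tt N17614 (iv4 F44070)) (tt N8680 F21761) (tt N4170 (iv6 D13051)) (tt N4190 F296929))
theorem Q8682 : ∀ i, i < 8682 → P i := stepQ 8681 Q8681 (allL N8681 (tt N12582 (iv1 F30196)) (tt N6803 F21765) (tt N5828 F21762) (tt N6889 F21766) (tt N4171 (iv4 D13052)) (tt N6888 F21764) (tt N17615 D27245) (tt N5825 F21763))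
theorem Q8683 : ∀ i, i < 8683 → P i := stepQ 8682 Q8682 (allL N8682 (tt N17407 (iv1 F298605)) (tt N5417 (iv0 F117239)) (tt N5829 F21767) (tt N5840 (iv3 F298211)) (tt N17615 (iv4 F44081)) (tt N5817 F21768) (tt N4171 (iv6 D13053)) (tt N17423 F117188))
theorem Q8684 : ∀ i, i < 8684 → P i := stepQ 8683 Q8683 (allL N8683 (tt N5845 (iv1 F21772)) (tt N5390 F21773) (tt N5838 F295970) (tt N4172 (iv3 D13054)) (tt N17616 D27249) (tt N5365 F21770) (tt N17617 D27250) (tt N5827 F21771))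
theorem Q8685 : ∀ i, i < 8685 → P i := stepQ 8684 Q8684 (allL N8684 (tt N6803 F21776) (tt N12582 (iv0 F30195)) (tt N5825 F21774) (tt N17618 D27251) (tt N4172 (iv4 D13055)) (tt N12845 (iv5 F30984)) (tt N17619 D27252) (tt N5828 F21775))
theorem Q8686 : ∀ i, i < 8686 → P i := stepQ 8685 Q8685 (allL N8685 (tt N11536 F117290) (tt N17620 D27254) (tt N5826 F21777) (tt N17617 (iv3 F44094)) (tt N17619 (iv4 F44099)) (tt N17621 D27255) (tt N4172 (iv6 D13056)) (tt N17622 D27256))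
theorem Q8687 : ∀ i, i < 8687 → P i := stepQ 8686 Q8686 (allL N8686 (tt N5824 (iv1 F21779)) (tt N4173 (iv0 D13057)) (tt N5831 (iv2 F21778)) (tt N14218 (iv3 F35062)) (tt N11234 (iv4 F27377)) (tt N12387 (iv5 F29814)) (tt N17623 D27257) (tt N5830 F21780))
theorem Q8688 : ∀ i, i < 8688 → P i := stepQ 8687 Q8687 (allL N8687 (tt N6822 (iv1 F21784)) (tt N6288 (iv0 F21783)) (tt N6821 F21781) (tt N12749 F30808) (tt N12078 (iv4 F29168)) (tt N4173 (iv5 D13058)) (tt N17624 D27258) (tt N5832 F21782))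
theorem Q8689 : ∀ i, i < 8689 → P i := stepQ 8688 Q8688 (allL N8688 (tt N17625 D27259) (tt N17626 D27260) (tt N17614 (iv2 F44069)) (tt N17041 (iv3 F41998)) (tt N4174 F21785) (tt N17627 D27261) (tt N4173 (iv6 D13059)) (tt N17388 (iv7 F299878)))
theorem Q8690 : ∀ i, i < 8690 → P i := stepQ 8689 Q8689 (allL N8689 (tt N4190 F297710) (tt N4174 (iv0 D13060)) (tt N17389 F297711) (tt N4176 (iv3 F298683)) (tt N17628 D27265) (tt N12363 (iv5 F299881)) (tt N17629 D27267) (tt N5809 (iv7 F298611)))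
theorem Q8691 : ∀ i, i < 8691 → P i := stepQ 8690 Q8690 (allL N8690 (tt N4174 (iv1 D13061)) (tt N4190 F297044) (tt N5809 (iv2 F298610)) (tt N5862 F297045) (tt N17630 D27270) (tt N12509 F117160) (tt N17631 D27272) (tt N17389 (iv7 F297364)))
theorem Q8692 : ∀ i, i < 8692 → P i := stepQ 8691 Q8691 (allL N8691 (tt N5847 F296298) (tt N5394 F117761) (tt N5862 F117762) (tt N4175 (iv3 D13064)) (tt N17632 D27276) (tt N12315 F117763) (tt N17633 D27277) (tt N5812 F29858))
theorem Q8693 : ∀ i, i < 8693 → P i := stepQ 8692 Q8692 (allL N8692 (tt N11540 F29832) (tt N17430 (iv0 F43136)) (tt N5811 F29863) (tt N17633 (iv3 F44121)) (tt N17142 (iv4 F42324)) (tt N8816 F22044) (tt N4175 (iv6 D13066)) (tt N12405 F29864))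
theorem Q8694 : ∀ i, i < 8694 → P i := stepQ 8693 Q8693 (allL N8693 (tt N17432 (iv1 F43220)) (tt N5416 F29709) (tt N5814 F29848) (tt N17629 F301336) (tt N17144 (iv4 F42329)) (tt N12366 (iv5 F29707)) (tt N4176 (iv6 D13070)) (tt N17431 (iv7 F43213)))
theorem Q8695 : ∀ i, i < 8695 → P i := stepQ 8694 Q8694 (allL N8694 (tt N5420 F29760) (tt N17439 F43252) (tt N5839 F29752) (tt N5826 (iv3 F298206)) (tt N17091 (iv4 F42178)) (tt N8801 F22016) (tt N4178 (iv6 D13075)) (tt N12373 F29753))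
theorem Q8696 : ∀ i, i < 8696 → P i := stepQ 8695 Q8695 (allL N8695 (tt N5390 F295971) (tt N5845 F295972) (tt N5827 F295973) (tt N4179 (iv3 D13077)) (tt N17634 D27295) (tt N5375 F295974) (tt N17635 D27297) (tt N5838 F29739))
theorem Q8697 : ∀ i, i < 8697 → P i := stepQ 8696 Q8696 (allL N8696 (tt N5415 F29710) (tt N5419 F29711) (tt N5840 F29737) (tt N17635 (iv3 F44155)) (tt N17093 F42201) (tt N6017 F21794) (tt N4179 (iv6 D13080)) (tt N12497 (iv7 F30013)))
theorem Q8698 : ∀ i, i < 8698 → P i := stepQ 8697 Q8697 (allL N8697 (tt N4207 F21810) (tt N4206 F21811) (tt N4211 F21808) (tt N17636 D27308) (tt N4181 (iv4 D13086)) (tt N8763 (iv5 F21956)) (tt N17637 D27309) (tt N4198 F21809))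
theorem Q8699 : ∀ i, i < 8699 → P i := stepQ 8698 Q8698 (allL N8698 (tt N5975 (iv1 F297328)) (tt N5968 (iv0 F296488)) (tt N4215 F21812) (tt N5842 F21813) (tt N17637 (iv4 F44184)) (tt N17638 D27312) (tt N4181 (iv6 D13087)) (tt N5973 (iv7 F297330)))
theorem Q8700 : ∀ i, i < 8700 → P i := stepQ 8699 Q8699 (allL N8699 (tt N11522 F27963) (tt N11534 F27993) (tt N4218 F21814) (tt N5843 F21815) (tt N17639 D27314) (tt N4182 (iv5 D13088)) (tt N17638 (iv6 F44188)) (tt N11525 (iv7 F27972)))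
theorem Q8701 : ∀ i, i < 8701 → P i := stepQ 8700 Q8700 (allL N8700 (tt N5568 (iv1 F21844)) (tt N11918 F28688) (tt N4187 F21816) (tt N5538 F21817) (tt N8515 F21820) (tt N4184 (iv5 D13089)) (tt N13967 (iv6 F296620)) (tt N4192 F21818))
theorem Q8702 : ∀ i, i < 8702 → P i := stepQ 8701 Q8701 (allL N8701 (tt N5553 F21828) (tt N11950 (iv0 F28749)) (tt N6163 F21826) (tt N17640 D27317) (tt N4185 (iv4 D13091)) (tt N14320 (iv5 F35264)) (tt N17641 D27318) (tt N6178 F21827))
theorem Q8703 : ∀ i, i < 8703 → P i := stepQ 8702 Q8702 (allL N8702 (tt N5807 (iv1 F296456)) (tt N5806 (iv0 F296457)) (tt N5808 (iv2 F296441)) (tt N4190 F21830) (tt N17641 (iv4 F44206)) (tt N8702 F21831) (tt N4185 (iv6 D13092)) (tt N5795 (iv7 F296198)))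
theorem Q8704 : ∀ i, i < 8704 → P i := stepQ 8703 Q8703 (allL N8703 (tt N8506 F21834) (tt N8502 F21836) (tt N8631 F21832) (tt N8671 F21833) (tt N17642 D27322) (tt N4186 (iv5 D13093)) (tt N17643 D27323) (tt N11625 (iv7 F28140)))
theorem Q8705 : ∀ i, i < 8705 → P i := stepQ 8704 Q8704 (allL N8704 (tt N8507 F21840) (tt N11532 (iv0 F27986)) (tt N8641 F21837) (tt N8672 F21838) (tt N8641 F21839) (tt N17644 D27324) (tt N4186 (iv6 D13094)) (tt N17369 (iv7 F42962)))
theorem Q8706 : ∀ i, i < 8706 → P i := stepQ 8705 Q8705 (allL N8705 (tt N4192 (iv1 F21845)) (tt N4187 (iv0 D13095)) (tt N5568 (iv2 F21842)) (tt N11234 (iv3 F27373)) (tt N17383 (iv4 F42994)) (tt N5567 F21843) (tt N17645 D27325) (tt N11918 (iv7 F28686)))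
theorem Q8707 : ∀ i, i < 8707 → P i := stepQ 8706 Q8706 (allL N8706 (tt N8509 F21847) (tt N5521 F21848) (tt N8515 F21846) (tt N17646 D27326) (tt N4187 (iv4 D13096)) (tt N8761 (iv5 F21952)) (tt N17647 D27327) (tt N8514 F21855))
theorem Q8708 : ∀ i, i < 8708 → P i := stepQ 8707 Q8707 (allL N8707 (tt N13966 (iv1 F297084)) (tt N11935 (iv0 F297082)) (tt N13967 (iv2 F296619)) (tt N11973 F296241) (tt N17647 (iv4 F44226)) (tt N8707 F21849) (tt N4187 (iv6 D13097)) (tt N13936 F296242))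
theorem Q8709 : ∀ i, i < 8709 → P i := stepQ 8708 Q8708 (allL N8708 (tt N11918 (iv1 F28687)) (tt N5568 (iv0 F21853)) (tt N4192 F21850) (tt N6069 F295920) (tt N8514 (iv4 F21854)) (tt N4188 F21852) (tt N6066 F295921) (tt N4187 (iv7 D13098)))
theorem Q8710 : ∀ i, i < 8710 → P i := stepQ 8709 Q8709 (allL N8709 (tt N8716 (iv1 F21881)) (tt N8670 (iv0 F21860)) (tt N4193 F21856) (tt N6070 F295685) (tt N4191 F21858) (tt N6067 (iv5 F295721)) (tt N4188 (iv6 D13099)) (tt N8709 F21859))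
theorem Q8711 : ∀ i, i < 8711 → P i := stepQ 8710 Q8710 (allL N8710 (tt N4194 (iv1 F21863)) (tt N4189 (iv0 D13100)) (tt N17383 F42995) (tt N17648 D27333) (tt N5568 F21862) (tt N17649 D27334) (tt N17650 D27335) (tt N11919 (iv7 F28691)))
theorem Q8712 : ∀ i, i < 8712 → P i := stepQ 8711 Q8711 (allL N8711 (tt N4189 (iv1 D13101)) (tt N4194 F21864) (tt N11919 (iv2 F28690)) (tt N17651 D27336) (tt N11918 F28689) (tt N17652 D27337) (tt N17653 D27338) (tt N17383 (iv7 F42993)))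
theorem Q8713 : ∀ i, i < 8713 → P i := stepQ 8712 Q8712 (allL N8712 (tt N17654 D27339) (tt N17655 D27340) (tt N17656 D27341) (tt N4189 (iv3 D13102)) (tt N17640 (iv4 F44202)) (tt N17657 D27342) (tt N17658 D27343) (tt N17384 (iv7 F42997)))
theorem Q8714 : ∀ i, i < 8714 → P i := stepQ 8713 Q8713 (allL N8713 (tt N17659 D27344) (tt N17660 D27345) (tt N17387 (iv2 F43016)) (tt N17657 (iv3 F44242)) (tt N8762 F21955) (tt N4189 (iv5 D13103)) (tt N17661 D27346) (tt N17385 (iv7 F42999)))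
theorem Q8715 : ∀ i, i < 8715 → P i := stepQ 8714 Q8714 (allL N8714 (tt N17626 F297707) (tt N17625 F297708) (tt N17388 (iv2 F43018)) (tt N17658 (iv3 F44244)) (tt N4190 F21865) (tt N17662 D27349) (tt N4189 (iv6 D13104)) (tt N17614 F297709))
theorem Q8716 : ∀ i, i < 8716 → P i := stepQ 8715 Q8715 (allL N8715 (tt N5521 F21879) (tt N8509 F21880) (tt N8514 F21877) (tt N17663 D27370) (tt N4192 (iv4 D13112)) (tt N8762 (iv5 F21954)) (tt N12080 F296127) (tt N8515 F21878))
theorem Q8717 : ∀ i, i < 8717 → P i := stepQ 8716 Q8716 (allL N8716 (tt N4193 (iv1 D13114)) (tt N8709 F21881) (tt N8670 F21884) (tt N5833 (iv3 F21883)) (tt N8670 (iv4 F21882)) (tt N5833 (iv5 F295839)) (tt N17371 (iv6 F42972)) (tt N8716 F21885))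
theorem Q8718 : ∀ i, i < 8718 → P i := stepQ 8717 Q8717 (allL N8717 (tt N17664 D27378) (tt N17665 D27379) (tt N17666 D27380) (tt N4194 (iv3 D13116)) (tt N5084 F299034) (tt N17667 D27381) (tt N5083 F299035) (tt N17386 (iv7 F43015)))
theorem Q8719 : ∀ i, i < 8719 → P i := stepQ 8718 Q8718 (allL N8718 (tt N17660 (iv1 F44247)) (tt N17659 F44246) (tt N17385 (iv2 F42998)) (tt N17667 (iv3 F44275)) (tt N8761 F21953) (tt N4194 (iv5 D13117)) (tt N17668 D27383) (tt N17387 (iv7 F43017)))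
theorem Q8720 : ∀ i, i < 8720 → P i := stepQ 8719 Q8719 (allL N8719 (tt N5731 (iv1 F21897)) (tt N5735 F21898) (tt N12666 (iv2 F30556)) (tt N4196 (iv3 D13125)) (tt N11821 (iv4 F28457)) (tt N5516 F21895) (tt N17669 D27408) (tt N4203 F21896))
theorem Q8721 : ∀ i, i < 8721 → P i := stepQ 8720 Q8720 (allL N8720 (tt N17642 (iv1 F44218)) (tt N11626 (iv0 F28146)) (tt N4201 F21899) (tt N17670 D27409) (tt N4196 (iv4 D13126)) (tt N17671 D27410) (tt N17672 D27411) (tt N4204 F21900))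
theorem Q8722 : ∀ i, i < 8722 → P i := stepQ 8721 Q8721 (allL N8721 (tt N5958 F121065) (tt N17673 D27413) (tt N4202 F21901) (tt N17669 (iv3 F44297)) (tt N17672 (iv4 F44304)) (tt N17674 D27414) (tt N4196 (iv6 D13127)) (tt N17675 D27415))
theorem Q8723 : ∀ i, i < 8723 → P i := stepQ 8722 Q8722 (allL N8722 (tt N11626 (iv1 F28147)) (tt N17642 (iv0 F44217)) (tt N4204 F21902) (tt N17676 D27416) (tt N4197 (iv4 D13128)) (tt N17677 D27417) (tt N17678 D27418) (tt N4201 F21903))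
theorem Q8724 : ∀ i, i < 8724 → P i := stepQ 8723 Q8723 (allL N8723 (tt N5821 F296994) (tt N5977 F120601) (tt N4205 F21904) (tt N12672 (iv3 F30580)) (tt N17678 (iv4 F44321)) (tt N17679 D27421) (tt N4197 (iv6 D13129)) (tt N17607 (iv7 F297318)))
theorem Q8725 : ∀ i, i < 8725 → P i := stepQ 8724 Q8724 (allL N8724 (tt N4211 (iv1 F21905)) (tt N4198 (iv0 D13130)) (tt N4206 F27949) (tt N17680 D27423) (tt N11520 (iv4 F27956)) (tt N17681 D27424) (tt N17682 D27425) (tt N4207 F27950))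
theorem Q8726 : ∀ i, i < 8726 → P i := stepQ 8725 Q8725 (allL N8725 (tt N4198 (iv1 D13131)) (tt N4211 F21906) (tt N4207 F27947) (tt N17683 D27426) (tt N11518 (iv4 F27946)) (tt N17684 D27427) (tt N17685 D27428) (tt N4206 F27948))
theorem Q8727 : ∀ i, i < 8727 → P i := stepQ 8726 Q8726 (allL N8726 (tt N17686 D27429) (tt N17687 D27430) (tt N17688 D27431) (tt N4198 (iv3 D13132)) (tt N5880 F21907) (tt N17689 D27432) (tt N17690 D27433) (tt N17636 (iv7 F44182)))
theorem Q8728 : ∀ i, i < 8728 → P i := stepQ 8727 Q8727 (allL N8727 (tt N17393 (iv1 F43036)) (tt N17391 (iv0 F43030)) (tt N4209 F21908) (tt N17689 (iv3 F44349)) (tt N8765 (iv4 F21962)) (tt N4198 (iv5 D13133)) (tt N17691 D27434) (tt N8763 (iv7 F21959)))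
theorem Q8729 : ∀ i, i < 8729 → P i := stepQ 8728 Q8728 (allL N8728 (tt N17692 D27435) (tt N17693 D27436) (tt N4210 F21909) (tt N17690 (iv3 F44350)) (tt N4199 F21910) (tt N17694 D27437) (tt N4198 (iv6 D13134)) (tt N17695 D27438))
theorem Q8730 : ∀ i, i < 8730 → P i := stepQ 8729 Q8729 (allL N8729 (tt N4199 (iv1 D13136)) (tt N4214 F21911) (tt N4213 (iv2 F44529)) (tt N12477 F297699) (tt N17696 D27445) (tt N8773 (iv5 F21968)) (tt N17697 D27446) (tt N4212 (iv7 F44533)))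
theorem Q8731 : ∀ i, i < 8731 → P i := stepQ 8730 Q8730 (allL N8730 (tt N4213 (iv1 F21915)) (tt N4212 F21916) (tt N4214 F21912) (tt N5885 F21913) (tt N17695 (iv4 F44356)) (tt N17382 (iv5 F42988)) (tt N5973 F297754) (tt N4199 (iv7 D13137)))
theorem Q8732 : ∀ i, i < 8732 → P i := stepQ 8731 Q8731 (allL N8731 (tt N6086 F21919) (tt N6073 F21920) (tt N6081 F21917) (tt N17698 D27447) (tt N4200 (iv4 D13138)) (tt N14611 (iv5 F36435)) (tt N17699 D27448) (tt N6082 F21918))
theorem Q8733 : ∀ i, i < 8733 → P i := stepQ 8732 Q8732 (allL N8732 (tt N17700 D27449) (tt N17701 D27450) (tt N12667 (iv2 F30572)) (tt N4202 F21921) (tt N17699 (iv4 F44367)) (tt N17702 D27451) (tt N4200 (iv6 D13139)) (tt N17703 D27452))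
theorem Q8734 : ∀ i, i < 8734 → P i := stepQ 8733 Q8733 (allL N8733 (tt N4204 (iv1 F21923)) (tt N4201 (iv0 D13140)) (tt N17642 (iv2 F44215)) (tt N17704 D27453) (tt N8631 F21922) (tt N17659 (iv5 F44245)) (tt N17705 D27454) (tt N11626 (iv7 F28145)))
theorem Q8735 : ∀ i, i < 8735 → P i := stepQ 8734 Q8734 (allL N8734 (tt N4201 (iv1 D13141)) (tt N4204 F21924) (tt N11626 (iv2 F28144)) (tt N17706 D27455) (tt N11625 F28143) (tt N17660 (iv5 F44248)) (tt N17707 D27456) (tt N17642 (iv7 F44216)))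
theorem Q8736 : ∀ i, i < 8736 → P i := stepQ 8735 Q8735 (allL N8735 (tt N17708 D27457) (tt N17709 D27458) (tt N17710 D27459) (tt N4201 (iv3 D13142)) (tt N17698 (iv4 F44363)) (tt N17711 D27460) (tt N17712 D27461) (tt N17676 (iv7 F44315)))
theorem Q8737 : ∀ i, i < 8737 → P i := stepQ 8736 Q8736 (allL N8736 (tt N17713 D27462) (tt N17714 D27463) (tt N17671 (iv2 F44299)) (tt N17711 (iv3 F44378)) (tt N8754 (iv4 F21940)) (tt N4201 (iv5 D13143)) (tt N17715 D27464) (tt N17677 (iv7 F44317)))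
theorem Q8738 : ∀ i, i < 8738 → P i := stepQ 8737 Q8737 (allL N8737 (tt N17716 D27465) (tt N17717 D27466) (tt N17672 (iv2 F44303)) (tt N17712 (iv3 F44380)) (tt N4202 F21925) (tt N17718 D27467) (tt N4201 (iv6 D13144)) (tt N17719 D27468))
theorem Q8739 : ∀ i, i < 8739 → P i := stepQ 8738 Q8738 (allL N8738 (tt N17675 (iv1 F44313)) (tt N4202 (iv0 D13145)) (tt N5958 F121073) (tt N5894 (iv3 F121078)) (tt N17720 D27471) (tt N17721 D27472) (tt N17722 D27473) (tt N17673 (iv7 F91084)))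
theorem Q8740 : ∀ i, i < 8740 → P i := stepQ 8739 Q8739 (allL N8739 (tt N4202 (iv1 D13146)) (tt N17675 F44312) (tt N17673 F91092) (tt N4223 (iv3 F121075)) (tt N17723 D27476) (tt N17724 D27477) (tt N17725 D27478) (tt N5958 F121066))
theorem Q8741 : ∀ i, i < 8741 → P i := stepQ 8740 Q8740 (allL N8740 (tt N17726 D27479) (tt N12083 (iv0 F297482)) (tt N17674 (iv2 F44307)) (tt N17702 (iv3 F44368)) (tt N17727 D27481) (tt N4202 (iv5 D13147)) (tt N8504 F21926) (tt N17728 D27482))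
theorem Q8742 : ∀ i, i < 8742 → P i := stepQ 8741 Q8741 (allL N8741 (tt N17673 (iv1 F44306)) (tt N5958 (iv0 F121064)) (tt N17675 (iv2 F44309)) (tt N17703 (iv3 F44370)) (tt N17719 (iv4 F44391)) (tt N17728 (iv5 F44397)) (tt N17607 F297721) (tt N4202 (iv7 D13148)))
theorem Q8743 : ∀ i, i < 8743 → P i := stepQ 8742 Q8742 (allL N8742 (tt N5735 (iv1 F21930)) (tt N5731 F21929) (tt N4203 (iv2 D13149)) (tt N6355 F21927) (tt N11822 (iv4 F28461)) (tt N5384 F21928) (tt N4249 (iv6 F296466)) (tt N12666 (iv7 F30558)))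
theorem Q8744 : ∀ i, i < 8744 → P i := stepQ 8743 Q8743 (allL N8743 (tt N8560 F21931) (tt N8559 F21932) (tt N11822 F28462) (tt N17729 D27484) (tt N4203 (iv4 D13150)) (tt N17730 D27485) (tt N4405 (iv6 F298475)) (tt N11821 F28459))
theorem Q8745 : ∀ i, i < 8745 → P i := stepQ 8744 Q8744 (allL N8744 (tt N17731 D27491) (tt N17732 D27492) (tt N17733 D27493) (tt N4204 (iv3 D13152)) (tt N17729 (iv4 F44400)) (tt N17734 D27494) (tt N17735 D27495) (tt N17670 (iv7 F44298)))
theorem Q8746 : ∀ i, i < 8746 → P i := stepQ 8745 Q8745 (allL N8745 (tt N17714 (iv1 F44386)) (tt N17713 F44383) (tt N17677 (iv2 F44316)) (tt N17734 (iv3 F44407)) (tt N8751 (iv4 F21937)) (tt N4204 (iv5 D13153)) (tt N17736 D27496) (tt N17671 (iv7 F44300)))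
theorem Q8747 : ∀ i, i < 8747 → P i := stepQ 8746 Q8746 (allL N8746 (tt N17737 D27497) (tt N17738 D27498) (tt N17678 (iv2 F44320)) (tt N17735 (iv3 F44408)) (tt N4205 F21934) (tt N17739 D27499) (tt N4204 (iv6 D13154)) (tt N17740 D27500))
theorem Q8748 : ∀ i, i < 8748 → P i := stepQ 8747 Q8747 (allL N8747 (tt N4205 (iv1 D13156)) (tt N17607 (iv0 F297316)) (tt N5977 F120584) (tt N5905 (iv3 F120608)) (tt N17741 D27508) (tt N17742 D27509) (tt N6018 (iv6 F297062)) (tt N5821 F296995))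
theorem Q8749 : ∀ i, i < 8749 → P i := stepQ 8748 Q8748 (allL N8748 (tt N17743 D27511) (tt N17744 D27512) (tt N17679 (iv2 F44323)) (tt N6033 F297993) (tt N17745 D27513) (tt N4205 (iv5 D13157)) (tt N8508 F21935) (tt N17746 D27514))
theorem Q8750 : ∀ i, i < 8750 → P i := stepQ 8749 Q8749 (allL N8749 (tt N5977 F120602) (tt N5821 F296993) (tt N17607 (iv2 F297317)) (tt N4248 (iv3 F298689)) (tt N17740 (iv4 F44409)) (tt N17746 (iv5 F44415)) (tt N17675 (iv6 F44310)) (tt N4205 (iv7 D13158)))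
theorem Q8751 : ∀ i, i < 8751 → P i := stepQ 8750 Q8750 (allL N8750 (tt N17747 D27515) (tt N17748 D27516) (tt N17749 D27517) (tt N4206 (iv3 D13160)) (tt N17750 D27518) (tt N17751 D27519) (tt N17752 D27520) (tt N17683 (iv7 F44337)))
theorem Q8752 : ∀ i, i < 8752 → P i := stepQ 8751 Q8751 (allL N8751 (tt N17399 (iv1 F43077)) (tt N8517 F21938) (tt N17681 (iv2 F44331)) (tt N17751 (iv3 F44417)) (tt N8745 F21937) (tt N4206 (iv5 D13161)) (tt N17753 D27521) (tt N17684 (iv7 F44340)))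
theorem Q8753 : ∀ i, i < 8753 → P i := stepQ 8752 Q8752 (allL N8752 (tt N17720 (iv1 F121192)) (tt N17723 (iv0 F121193)) (tt N17682 (iv2 F44336)) (tt N17752 (iv3 F44418)) (tt N17370 (iv4 F42966)) (tt N17754 D27524) (tt N4206 (iv6 D13162)) (tt N17755 D27525))
theorem Q8754 : ∀ i, i < 8754 → P i := stepQ 8753 Q8753 (allL N8753 (tt N17756 D27526) (tt N17757 D27527) (tt N17758 D27528) (tt N4207 (iv3 D13164)) (tt N17759 D27529) (tt N17760 D27530) (tt N17761 D27531) (tt N17680 (iv7 F44330)))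
theorem Q8755 : ∀ i, i < 8755 → P i := stepQ 8754 Q8754 (allL N8754 (tt N8517 F21941) (tt N17399 (iv0 F43076)) (tt N17684 (iv2 F44338)) (tt N17760 (iv3 F44421)) (tt N8736 F21940) (tt N4207 (iv5 D13165)) (tt N17762 D27532) (tt N17681 (iv7 F44332)))
theorem Q8756 : ∀ i, i < 8756 → P i := stepQ 8755 Q8755 (allL N8755 (tt N17606 (iv1 F297367)) (tt N17741 (iv0 F120819)) (tt N17685 (iv2 F44343)) (tt N17761 (iv3 F44422)) (tt N17374 (iv4 F42977)) (tt N17763 D27535) (tt N4207 (iv6 D13166)) (tt N17764 D27536))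
theorem Q8757 : ∀ i, i < 8757 → P i := stepQ 8756 Q8756 (allL N8756 (tt N5205 (iv1 F21942)) (tt N4208 (iv0 D13167)) (tt N5214 F42922) (tt N17765 D27537) (tt N17766 D27538) (tt N17767 D27539) (tt N17768 D27540) (tt N5213 F42923))
theorem Q8758 : ∀ i, i < 8758 → P i := stepQ 8757 Q8757 (allL N8757 (tt N4208 (iv1 D13168)) (tt N5205 F21946) (tt N5213 F42919) (tt N17769 D27541) (tt N14859 (iv4 F37311)) (tt N17770 D27542) (tt N17771 D27543) (tt N5214 F42920))
theorem Q8759 : ∀ i, i < 8759 → P i := stepQ 8758 Q8758 (allL N8758 (tt N5214 (iv1 F21947)) (tt N5213 F21945) (tt N4208 (iv2 D13169)) (tt N17688 (iv3 F44345)) (tt N4235 F21943) (tt N17772 D27544) (tt N17773 D27545) (tt N5205 F21944))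
theorem Q8760 : ∀ i, i < 8760 → P i := stepQ 8759 Q8759 (allL N8759 (tt N17774 D27546) (tt N17775 D27547) (tt N17772 (iv2 F44438)) (tt N4209 F21948) (tt N17776 D27548) (tt N4208 (iv5 D13170)) (tt N17777 D27549) (tt N5215 F21949))
theorem Q8761 : ∀ i, i < 8761 → P i := stepQ 8760 Q8760 (allL N8760 (tt N17778 D27550) (tt N17779 D27551) (tt N17773 (iv2 F44443)) (tt N4210 F21950) (tt N4236 F21951) (tt N17780 D27552) (tt N4208 (iv6 D13171)) (tt N17781 D27553))
theorem Q8762 : ∀ i, i < 8762 → P i := stepQ 8761 Q8761 (allL N8761 (tt N8763 (iv1 F21958)) (tt N4209 (iv0 D13172)) (tt N17393 (iv2 F43032)) (tt N17782 D27554) (tt N8718 (iv4 F21953)) (tt N8706 F21952) (tt N17783 D27555) (tt N17391 (iv7 F43028)))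
theorem Q8763 : ∀ i, i < 8763 → P i := stepQ 8762 Q8762 (allL N8762 (tt N4209 (iv1 D13173)) (tt N8763 (iv0 F21957)) (tt N17391 (iv2 F43027)) (tt N17784 D27556) (tt N8713 (iv4 F21955)) (tt N8715 F21954) (tt N17785 D27557) (tt N17393 (iv7 F43034)))
theorem Q8764 : ∀ i, i < 8764 → P i := stepQ 8763 Q8763 (allL N8763 (tt N8762 F21957) (tt N8761 F21958) (tt N8765 (iv2 F21960)) (tt N17786 D27558) (tt N4209 (iv4 D13174)) (tt N8697 F21956) (tt N17787 D27559) (tt N8727 F21959))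
theorem Q8765 : ∀ i, i < 8765 → P i := stepQ 8764 Q8764 (allL N8764 (tt N17788 D27560) (tt N17789 D27561) (tt N17691 (iv2 F44352)) (tt N17777 (iv3 F44456)) (tt N17787 (iv4 F44467)) (tt N17790 D27562) (tt N4209 (iv6 D13175)) (tt N17791 D27563))
theorem Q8766 : ∀ i, i < 8766 → P i := stepQ 8765 Q8765 (allL N8765 (tt N17391 (iv1 F43031)) (tt N17393 (iv0 F43035)) (tt N8763 F21960) (tt N5215 F21961) (tt N8727 F21962) (tt N4211 F21963) (tt N17792 D27564) (tt N4209 (iv7 D13176)))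
theorem Q8767 : ∀ i, i < 8767 → P i := stepQ 8766 Q8766 (allL N8766 (tt N17695 (iv1 F44359)) (tt N4210 (iv0 D13177)) (tt N17692 (iv2 F90419)) (tt N17793 D27566) (tt N17794 D27567) (tt N17795 D27568) (tt N17796 D27569) (tt N17693 (iv7 F90420)))
theorem Q8768 : ∀ i, i < 8768 → P i := stepQ 8767 Q8767 (allL N8767 (tt N4210 (iv1 D13178)) (tt N17695 F44358) (tt N17693 F90421) (tt N17797 D27571) (tt N17798 D27572) (tt N17799 D27573) (tt N17800 D27574) (tt N17692 F90422))
theorem Q8769 : ∀ i, i < 8769 → P i := stepQ 8768 Q8768 (allL N8768 (tt N17801 D27575) (tt N17802 D27576) (tt N17694 (iv2 F44354)) (tt N17780 (iv3 F44457)) (tt N17803 D27577) (tt N4210 (iv5 D13179)) (tt N17790 (iv6 F44468)) (tt N17804 D27578))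
theorem Q8770 : ∀ i, i < 8770 → P i := stepQ 8769 Q8769 (allL N8769 (tt N17693 (iv1 F44353)) (tt N17692 F44357) (tt N17695 (iv2 F44355)) (tt N17781 (iv3 F44458)) (tt N4214 F21964) (tt N17804 (iv5 F44474)) (tt N17805 D27579) (tt N4210 (iv7 D13180)))
theorem Q8771 : ∀ i, i < 8771 → P i := stepQ 8770 Q8770 (allL N8770 (tt N17806 D27580) (tt N17807 D27581) (tt N17637 (iv2 F44183)) (tt N5216 F21965) (tt N4215 F21966) (tt N17808 D27582) (tt N4211 (iv6 D13181)) (tt N17805 (iv7 F44477)))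
theorem Q8772 : ∀ i, i < 8772 → P i := stepQ 8771 Q8771 (allL N8771 (tt N12481 (iv1 F296453)) (tt N12480 F296095) (tt N6008 (iv2 F296450)) (tt N4212 (iv3 D13183)) (tt N17809 D27592) (tt N8847 (iv5 F296286)) (tt N6005 (iv6 F296475)) (tt N12477 (iv7 F296452)))
theorem Q8773 : ∀ i, i < 8773 → P i := stepQ 8772 Q8772 (allL N8772 (tt N17810 D27596) (tt N17707 F91146) (tt N12508 (iv2 F300013)) (tt N17811 D27598) (tt N4212 (iv4 D13184)) (tt N17812 D27599) (tt N17813 D27600) (tt N17696 (iv7 F44532)))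
theorem Q8774 : ∀ i, i < 8774 → P i := stepQ 8773 Q8773 (allL N8773 (tt N6018 F297757) (tt N5817 F297758) (tt N4241 F297759) (tt N6005 F297760) (tt N17813 (iv4 F44496)) (tt N8729 F21968) (tt N4212 (iv6 D13186)) (tt N6019 F297761))
theorem Q8775 : ∀ i, i < 8775 → P i := stepQ 8774 Q8774 (allL N8774 (tt N17707 F91147) (tt N17810 F44499) (tt N17696 (iv2 F44531)) (tt N17814 D27617) (tt N4213 (iv4 D13189)) (tt N17815 D27618) (tt N17816 D27619) (tt N12508 (iv7 F300014)))
theorem Q8776 : ∀ i, i < 8776 → P i := stepQ 8775 Q8775 (allL N8775 (tt N12053 F121110) (tt N17722 (iv0 F44549)) (tt N17697 (iv2 F44528)) (tt N6028 F301367) (tt N17816 (iv4 F44517)) (tt N6022 (iv5 F301522)) (tt N4213 (iv6 D13191)) (tt N6022 (iv7 F301523)))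
theorem Q8777 : ∀ i, i < 8777 → P i := stepQ 8776 Q8776 (allL N8776 (tt N5968 F297774) (tt N5975 F297775) (tt N5973 F297776) (tt N4247 F21971) (tt N17805 (iv4 F44476)) (tt N17817 D27624) (tt N4214 (iv6 D13192)) (tt N4215 F21972))
theorem Q8778 : ∀ i, i < 8778 → P i := stepQ 8777 Q8777 (allL N8777 (tt N5973 F297763) (tt N4215 (iv0 D13193)) (tt N5975 F297764) (tt N17818 D27626) (tt N17819 D27627) (tt N17820 D27628) (tt N17821 D27629) (tt N5968 F297765))
theorem Q8779 : ∀ i, i < 8779 → P i := stepQ 8778 Q8778 (allL N8778 (tt N17822 D27635) (tt N17823 D27636) (tt N17638 (iv2 F44186)) (tt N4250 F21973) (tt N17824 D27637) (tt N4215 (iv5 D13195)) (tt N4218 F21974) (tt N17817 (iv7 F44552)))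
theorem Q8780 : ∀ i, i < 8780 → P i := stepQ 8779 Q8779 (allL N8779 (tt N17369 F42963) (tt N8641 F27388) (tt N8507 F21975) (tt N6631 F21976) (tt N4216 (iv4 D13196)) (tt N17825 D27638) (tt N5515 F21977) (tt N11532 (iv7 F27985)))
theorem Q8781 : ∀ i, i < 8781 → P i := stepQ 8780 Q8780 (allL N8780 (tt N17511 F43543) (tt N5637 (iv0 F21979)) (tt N8508 F21978) (tt N12673 (iv3 F30582)) (tt N17826 D27639) (tt N4216 (iv5 D13197)) (tt N17679 (iv6 F44324)) (tt N11533 (iv7 F27989)))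
theorem Q8782 : ∀ i, i < 8782 → P i := stepQ 8781 Q8781 (allL N8781 (tt N5732 (iv1 F27455)) (tt N8623 F27456) (tt N11598 F28089) (tt N4217 (iv3 D13198)) (tt N11835 (iv4 F28486)) (tt N13354 F296401) (tt N11995 F296402) (tt N8505 F21980))
theorem Q8783 : ∀ i, i < 8783 → P i := stepQ 8782 Q8782 (allL N8782 (tt N8641 F27387) (tt N17369 F42964) (tt N11532 (iv2 F27983)) (tt N5541 F21982) (tt N4217 (iv4 D13199)) (tt N17827 D27641) (tt N11659 (iv6 F28314)) (tt N8507 F21981))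
theorem Q8784 : ∀ i, i < 8784 → P i := stepQ 8783 Q8783 (allL N8783 (tt N5637 F21984) (tt N17511 (iv0 F43542)) (tt N11533 (iv2 F27988)) (tt N13354 F296417) (tt N17828 D27642) (tt N4217 (iv5 D13200)) (tt N17829 D27643) (tt N8508 F21983))
theorem Q8785 : ∀ i, i < 8785 → P i := stepQ 8784 Q8784 (allL N8784 (tt N4218 (iv1 D13201)) (tt N11525 (iv0 F27973)) (tt N11534 F27992) (tt N17830 D27644) (tt N17831 D27645) (tt N8593 (iv5 F21985)) (tt N17832 D27646) (tt N11522 (iv7 F27961)))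
theorem Q8786 : ∀ i, i < 8786 → P i := stepQ 8785 Q8785 (allL N8785 (tt N17833 D27647) (tt N17834 D27648) (tt N17639 (iv2 F44195)) (tt N17835 D27649) (tt N4218 (iv4 D13202)) (tt N17836 D27650) (tt N17824 (iv6 F44555)) (tt N11535 (iv7 F27995)))
theorem Q8787 : ∀ i, i < 8787 → P i := stepQ 8786 Q8786 (allL N8786 (tt N5970 F21989) (tt N5969 F21990) (tt N4220 F21986) (tt N17837 D27651) (tt N4219 (iv4 D13203)) (tt N6898 F21988) (tt N17838 D27652) (tt N5967 F21987))
theorem Q8788 : ∀ i, i < 8788 → P i := stepQ 8787 Q8787 (allL N8787 (tt N17839 D27653) (tt N17725 (iv0 F297563)) (tt N4221 F21991) (tt N5949 F21992) (tt N17838 (iv4 F44577)) (tt N17840 D27655) (tt N4219 (iv6 D13204)) (tt N17821 (iv7 F297565)))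
theorem Q8789 : ∀ i, i < 8789 → P i := stepQ 8788 Q8788 (allL N8788 (tt N5967 (iv1 F21994)) (tt N4220 (iv0 D13205)) (tt N5970 (iv2 F21995)) (tt N17841 D27657) (tt N8671 F21993) (tt N6822 (iv5 F21997)) (tt N17737 (iv6 F297069)) (tt N5969 (iv7 F21996)))
theorem Q8790 : ∀ i, i < 8790 → P i := stepQ 8789 Q8789 (allL N8789 (tt N4220 (iv1 D13206)) (tt N5967 F21998) (tt N5969 F22001) (tt N6289 (iv3 F22002)) (tt N8628 (iv4 F22000)) (tt N6288 (iv5 F22003)) (tt N17842 D27659) (tt N5970 F21999))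
theorem Q8791 : ∀ i, i < 8791 → P i := stepQ 8790 Q8790 (allL N8790 (tt N6899 (iv1 F22007)) (tt N6862 F22006) (tt N6898 F22004) (tt N12799 (iv3 F30930)) (tt N12381 (iv4 F29797)) (tt N4220 (iv5 D13207)) (tt N17843 D27660) (tt N5971 F22005))
theorem Q8792 : ∀ i, i < 8792 → P i := stepQ 8791 Q8791 (allL N8791 (tt N17844 D27661) (tt N17845 D27662) (tt N17838 (iv2 F44576)) (tt N17020 (iv3 F41928)) (tt N4221 F22008) (tt N17846 D27663) (tt N4220 (iv6 D13208)) (tt N17847 D27664))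
theorem Q8793 : ∀ i, i < 8793 → P i := stepQ 8792 Q8792 (allL N8792 (tt N17821 F298938) (tt N4221 (iv0 D13209)) (tt N17839 F117386) (tt N12056 F298939) (tt N17848 D27667) (tt N17849 D27668) (tt N12053 (iv6 F301284)) (tt N17725 F298940))
theorem Q8794 : ∀ i, i < 8794 → P i := stepQ 8793 Q8793 (allL N8793 (tt N4221 (iv1 D13210)) (tt N17821 F298941) (tt N17725 F298942) (tt N17850 D27671) (tt N17851 D27672) (tt N17852 D27673) (tt N17673 (iv6 F299934)) (tt N17839 F117392))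
theorem Q8795 : ∀ i, i < 8795 → P i := stepQ 8794 Q8794 (allL N8794 (tt N17853 D27675) (tt N17854 D27676) (tt N17840 (iv2 F44580)) (tt N4224 F22009) (tt N17855 D27677) (tt N4221 (iv5 D13211)) (tt N6058 F22010) (tt N17856 D27678))
theorem Q8796 : ∀ i, i < 8796 → P i := stepQ 8795 Q8795 (allL N8795 (tt N17725 F298943) (tt N17839 F44586) (tt N17821 F298944) (tt N4225 F22011) (tt N17847 (iv4 F44603)) (tt N17856 (iv5 F44610)) (tt N5975 F22012) (tt N4221 (iv7 D13212)))
theorem Q8797 : ∀ i, i < 8797 → P i := stepQ 8796 Q8796 (allL N8796 (tt N5897 (iv1 F117668)) (tt N5874 (iv0 F117667)) (tt N5894 F117665) (tt N4222 (iv3 D13214)) (tt N17857 D27682) (tt N17858 D27683) (tt N12059 F29145) (tt N5895 F117666))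
theorem Q8798 : ∀ i, i < 8798 → P i := stepQ 8797 Q8797 (allL N8797 (tt N17438 F43246) (tt N17859 D27684) (tt N5959 F29870) (tt N17858 (iv3 F44618)) (tt N17860 D27685) (tt N4222 (iv5 D13216)) (tt N12062 (iv6 F29149)) (tt N5961 F29871))
theorem Q8799 : ∀ i, i < 8799 → P i := stepQ 8798 Q8798 (allL N8798 (tt N17859 (iv1 F44620)) (tt N17438 F43247) (tt N5961 F29877) (tt N17724 F121097) (tt N17861 D27692) (tt N4223 (iv5 D13220)) (tt N17862 D27693) (tt N5959 F29878))
theorem Q8800 : ∀ i, i < 8800 → P i := stepQ 8799 Q8799 (allL N8799 (tt N17669 F299753) (tt N6032 F29879) (tt N5962 F29880) (tt N17725 F121098) (tt N17292 (iv4 F42698)) (tt N17863 D27695) (tt N4223 (iv6 D13221)) (tt N12056 (iv7 F29140)))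
theorem Q8801 : ∀ i, i < 8801 → P i := stepQ 8800 Q8800 (allL N8800 (tt N5966 (iv1 F22021)) (tt N4224 (iv0 D13222)) (tt N5963 F29756) (tt N17864 D27696) (tt N17495 (iv4 F43476)) (tt N11348 (iv5 F27592)) (tt N8814 F22042) (tt N5964 F29757))
theorem Q8802 : ∀ i, i < 8802 → P i := stepQ 8801 Q8801 (allL N8801 (tt N4224 (iv1 D13223)) (tt N5966 F22015) (tt N5964 F29755) (tt N12083 F298780) (tt N17496 (iv4 F43472)) (tt N8694 (iv5 F22016)) (tt N17547 F298781) (tt N5963 (iv7 F29754)))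
theorem Q8803 : ∀ i, i < 8803 → P i := stepQ 8802 Q8802 (allL N8802 (tt N11705 (iv1 F41958)) (tt N11708 F41762) (tt N5965 F22017) (tt N17865 D27699) (tt N4224 (iv4 D13224)) (tt N17866 D27700) (tt N6059 F22018) (tt N17867 D27701))
theorem Q8804 : ∀ i, i < 8804 → P i := stepQ 8803 Q8803 (allL N8803 (tt N5964 (iv1 F22022)) (tt N5963 F22023) (tt N5966 F22019) (tt N17856 (iv3 F44609)) (tt N17867 (iv4 F44704)) (tt N4225 F22020) (tt N12553 (iv6 F30124)) (tt N4224 (iv7 D13225)))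
theorem Q8805 : ∀ i, i < 8805 → P i := stepQ 8804 Q8804 (allL N8804 (tt N5951 F22027) (tt N5950 F22028) (tt N4227 F22024) (tt N17868 D27702) (tt N4226 (iv4 D13226)) (tt N7050 F22025) (tt N17869 D27703) (tt N5948 F22026))
theorem Q8806 : ∀ i, i < 8806 → P i := stepQ 8805 Q8805 (allL N8805 (tt N13827 F296100) (tt N17870 D27705) (tt N4228 F22029) (tt N5968 F22030) (tt N17869 (iv4 F44711)) (tt N17871 D27706) (tt N4226 (iv6 D13227)) (tt N17818 (iv7 F296483)))
theorem Q8807 : ∀ i, i < 8807 → P i := stepQ 8806 Q8806 (allL N8806 (tt N12033 (iv1 F29096)) (tt N12036 (iv0 F29099)) (tt N7050 F22031) (tt N5047 F26944) (tt N7041 F22032) (tt N4227 (iv5 D13228)) (tt N17872 D27708) (tt N5952 F22033))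
theorem Q8808 : ∀ i, i < 8808 → P i := stepQ 8807 Q8807 (allL N8807 (tt N17873 D27709) (tt N17874 D27710) (tt N17869 (iv2 F44710)) (tt N16988 (iv3 F41715)) (tt N4228 F22034) (tt N17875 D27711) (tt N4227 (iv6 D13229)) (tt N17876 D27712))
theorem Q8809 : ∀ i, i < 8809 → P i := stepQ 8808 Q8808 (allL N8808 (tt N17818 (iv1 F296480)) (tt N4228 (iv0 D13230)) (tt N13827 F296097) (tt N17589 (iv3 F296117)) (tt N17877 D27715) (tt N17878 D27716) (tt N6160 F296098) (tt N17870 F116956))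
theorem Q8810 : ∀ i, i < 8810 → P i := stepQ 8809 Q8809 (allL N8809 (tt N4228 (iv1 D13231)) (tt N17818 (iv0 F296479)) (tt N17870 F116950) (tt N13833 (iv3 F296468)) (tt N17879 D27720) (tt N17880 D27721) (tt N12481 F116825) (tt N13827 F296101))
theorem Q8811 : ∀ i, i < 8811 → P i := stepQ 8810 Q8810 (allL N8810 (tt N17881 D27723) (tt N17882 D27724) (tt N17871 (iv2 F44713)) (tt N4231 F22035) (tt N17883 D27725) (tt N4228 (iv5 D13232)) (tt N6037 F22036) (tt N17884 D27726))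
theorem Q8812 : ∀ i, i < 8812 → P i := stepQ 8811 Q8811 (allL N8811 (tt N17870 (iv1 F44712)) (tt N13827 F296099) (tt N17818 (iv2 F296481)) (tt N4232 F22037) (tt N17876 (iv4 F44725)) (tt N17884 (iv5 F44731)) (tt N5957 F22038) (tt N4228 (iv7 D13233)))
theorem Q8813 : ∀ i, i < 8813 → P i := stepQ 8812 Q8812 (allL N8812 (tt N17885 D27733) (tt N17886 D27734) (tt N5976 F29770) (tt N17608 F297550) (tt N17887 D27735) (tt N4229 (iv5 D13237)) (tt N17567 F297551) (tt N5978 (iv7 F29786)))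
theorem Q8814 : ∀ i, i < 8814 → P i := stepQ 8813 Q8813 (allL N8813 (tt N5877 (iv1 F117932)) (tt N5907 (iv0 F117933)) (tt N5905 (iv2 F117925)) (tt N4230 (iv3 D13240)) (tt N17888 D27741) (tt N17889 D27742) (tt N12303 F117901) (tt N5904 (iv7 F117935)))
theorem Q8815 : ∀ i, i < 8815 → P i := stepQ 8814 Q8814 (allL N8814 (tt N17886 (iv1 F44747)) (tt N17885 F44744) (tt N5978 (iv2 F29761)) (tt N17889 (iv3 F44774)) (tt N17890 D27743) (tt N4230 (iv5 D13242)) (tt N8800 (iv6 F22042)) (tt N5976 F29768))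
theorem Q8816 : ∀ i, i < 8816 → P i := stepQ 8815 Q8815 (allL N8815 (tt N5983 (iv1 F22049)) (tt N4231 (iv0 D13244)) (tt N5980 F29889) (tt N17743 F121125) (tt N17581 (iv4 F43805)) (tt N12057 F29890) (tt N17891 D27745) (tt N5981 F29891))
theorem Q8817 : ∀ i, i < 8817 → P i := stepQ 8816 Q8816 (allL N8816 (tt N4231 (iv1 D13245)) (tt N5983 F22043) (tt N5981 F29888) (tt N17892 D27746) (tt N17582 (iv4 F43801)) (tt N8692 (iv5 F22044)) (tt N17893 D27747) (tt N5980 (iv7 F29886)))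
theorem Q8818 : ∀ i, i < 8818 → P i := stepQ 8817 Q8817 (allL N8817 (tt N11868 (iv1 F41788)) (tt N11872 F30468) (tt N5982 F22045) (tt N17894 D27748) (tt N4231 (iv4 D13246)) (tt N17895 D27749) (tt N6038 F22046) (tt N17896 D27750))
theorem Q8819 : ∀ i, i < 8819 → P i := stepQ 8818 Q8818 (allL N8818 (tt N5981 (iv1 F22050)) (tt N5980 F22051) (tt N5983 F22047) (tt N17884 (iv3 F44730)) (tt N17896 (iv4 F44794)) (tt N4232 F22048) (tt N17897 D27751) (tt N4231 (iv7 D13247)))
theorem Q8820 : ∀ i, i < 8820 → P i := stepQ 8819 Q8819 (allL N8819 (tt N10866 (iv1 F25665)) (tt N10864 (iv0 F25648)) (tt N11195 (iv2 F50739)) (tt N4233 (iv3 D13249)) (tt N9154 F22810) (tt N5338 F25823) (tt N17898 D27753) (tt N5207 F27178))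
theorem Q8821 : ∀ i, i < 8821 → P i := stepQ 8820 Q8820 (allL N8820 (tt N17899 D27754) (tt N17900 D27755) (tt N5211 F27179) (tt N17901 D27756) (tt N4233 (iv4 D13250)) (tt N17902 D27757) (tt N17903 D27758) (tt N5208 F27180))
theorem Q8822 : ∀ i, i < 8822 → P i := stepQ 8821 Q8821 (allL N8821 (tt N17904 D27759) (tt N17290 F190515) (tt N5212 F27181) (tt N17898 (iv3 F44807)) (tt N17903 (iv4 F44819)) (tt N17898 (iv5 F51016)) (tt N4233 (iv6 D13252)) (tt N17905 D27762))
theorem Q8823 : ∀ i, i < 8823 → P i := stepQ 8822 Q8822 (allL N8822 (tt N10645 F26846) (tt N10649 F26847) (tt N17906 D27763) (tt N4234 (iv3 D13254)) (tt N17907 D27764) (tt N10531 (iv5 F26845)) (tt N17908 D27765) (tt N5210 F27156))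
theorem Q8824 : ∀ i, i < 8824 → P i := stepQ 8823 Q8823 (allL N8823 (tt N17900 (iv1 F44812)) (tt N17899 F44809) (tt N5208 F27171) (tt N17909 D27766) (tt N4234 (iv4 D13255)) (tt N17910 D27767) (tt N17911 D27768) (tt N5211 F27172))
theorem Q8825 : ∀ i, i < 8825 → P i := stepQ 8824 Q8824 (allL N8824 (tt N17274 F190379) (tt N17912 D27770) (tt N5209 F27173) (tt N17908 (iv3 F44846)) (tt N17911 (iv4 F44851)) (tt N17913 D27771) (tt N4234 (iv6 D13257)) (tt N17914 D27772))
theorem Q8826 : ∀ i, i < 8826 → P i := stepQ 8825 Q8825 (allL N8825 (tt N17915 D27773) (tt N17916 D27774) (tt N4236 F22054) (tt N5989 F22055) (tt N17773 (iv4 F44444)) (tt N17917 D27775) (tt N4235 (iv6 D13258)) (tt N17918 D27776))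
theorem Q8827 : ∀ i, i < 8827 → P i := stepQ 8826 Q8826 (allL N8826 (tt N17918 (iv1 F44868)) (tt N4236 (iv0 D13259)) (tt N17915 (iv2 F190847)) (tt N17919 D27778) (tt N17920 D27779) (tt N17921 D27780) (tt N17922 D27781) (tt N17916 F190846))
theorem Q8828 : ∀ i, i < 8828 → P i := stepQ 8827 Q8827 (allL N8827 (tt N4236 (iv1 D13260)) (tt N17918 F44867) (tt N17916 F190840) (tt N17923 D27783) (tt N17924 D27784) (tt N17925 D27785) (tt N17926 D27786) (tt N17915 (iv7 F190848)))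
theorem Q8829 : ∀ i, i < 8829 → P i := stepQ 8828 Q8828 (allL N8828 (tt N17927 D27787) (tt N17928 D27788) (tt N17917 (iv2 F44860)) (tt N4239 F22056) (tt N17929 D27789) (tt N4236 (iv5 D13261)) (tt N5222 F22057) (tt N17930 D27790))
theorem Q8830 : ∀ i, i < 8830 → P i := stepQ 8829 Q8829 (allL N8829 (tt N17916 (iv1 F44859)) (tt N17915 F44866) (tt N17918 (iv2 F44863)) (tt N4240 F22058) (tt N17781 (iv4 F44459)) (tt N17930 (iv5 F44873)) (tt N5219 F22059) (tt N4236 (iv7 D13262)))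
theorem Q8831 : ∀ i, i < 8831 → P i := stepQ 8830 Q8830 (allL N8830 (tt N17931 D27791) (tt N17107 (iv0 F232340)) (tt N17932 D27793) (tt N4237 (iv3 D13264)) (tt N17933 D27794) (tt N17934 D27795) (tt N17933 (iv6 F302835)) (tt N5997 F30414))
theorem Q8832 : ∀ i, i < 8832 → P i := stepQ 8831 Q8831 (allL N8831 (tt N17935 D27797) (tt N17936 D27798) (tt N5995 F30415) (tt N17934 (iv3 F44881)) (tt N17937 D27799) (tt N4237 (iv5 D13266)) (tt N17938 D27800) (tt N5998 F30416))
theorem Q8833 : ∀ i, i < 8833 → P i := stepQ 8832 Q8832 (allL N8832 (tt N12496 (iv1 F30010)) (tt N12495 (iv0 F29997)) (tt N5996 F30392) (tt N17933 (iv3 F302834)) (tt N6102 F29957) (tt N11324 F27563) (tt N4237 (iv6 D13267)) (tt N12661 F300056))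
theorem Q8834 : ∀ i, i < 8834 → P i := stepQ 8833 Q8833 (allL N8833 (tt N17067 F199856) (tt N17939 D27803) (tt N17940 D27804) (tt N4238 (iv3 D13269)) (tt N17941 D27805) (tt N17942 D27806) (tt N17943 D27807) (tt N5994 F30405))
theorem Q8835 : ∀ i, i < 8835 → P i := stepQ 8834 Q8834 (allL N8834 (tt N17936 (iv1 F44889)) (tt N17935 F44885) (tt N5998 F30406) (tt N17942 (iv3 F44908)) (tt N17944 D27808) (tt N4238 (iv5 D13271)) (tt N17945 D27809) (tt N5995 F30407))
theorem Q8836 : ∀ i, i < 8836 → P i := stepQ 8835 Q8835 (allL N8835 (tt N12055 F30408) (tt N12061 F30409) (tt N5999 F30410) (tt N17943 (iv3 F44910)) (tt N11968 F30411) (tt N16740 (iv5 F313836)) (tt N4238 (iv6 D13272)) (tt N17946 D27811))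
theorem Q8837 : ∀ i, i < 8837 → P i := stepQ 8836 Q8836 (allL N8836 (tt N6003 (iv1 F22067)) (tt N4239 (iv0 D13273)) (tt N6000 F51300) (tt N17947 D27813) (tt N17948 D27814) (tt N17949 D27815) (tt N17950 D27816) (tt N6001 F51301))
theorem Q8838 : ∀ i, i < 8838 → P i := stepQ 8837 Q8837 (allL N8837 (tt N4239 (iv1 D13274)) (tt N6003 F22062) (tt N6001 (iv2 F51298)) (tt N17951 D27818) (tt N17952 D27819) (tt N17365 (iv5 F42955)) (tt N17953 D27820) (tt N6000 (iv7 F51299)))
theorem Q8839 : ∀ i, i < 8839 → P i := stepQ 8838 Q8838 (allL N8838 (tt N17954 D27821) (tt N17955 D27822) (tt N6002 F22063) (tt N17956 D27823) (tt N4239 (iv4 D13275)) (tt N17957 D27824) (tt N5250 F22064) (tt N17958 D27825))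
theorem Q8840 : ∀ i, i < 8840 → P i := stepQ 8839 Q8839 (allL N8839 (tt N6001 (iv1 F22068)) (tt N6000 F22069) (tt N6003 F22065) (tt N17930 (iv3 F44872)) (tt N17958 (iv4 F44934)) (tt N4240 F22066) (tt N17959 D27826) (tt N4239 (iv7 D13276)))
theorem Q8841 : ∀ i, i < 8841 → P i := stepQ 8840 Q8840 (allL N8840 (tt N6019 (iv1 F22070)) (tt N4241 (iv0 D13277)) (tt N6018 (iv2 F61275)) (tt N5979 F298936) (tt N17960 D27829) (tt N17423 F91447) (tt N5977 F298937) (tt N5817 (iv7 F117176)))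
theorem Q8842 : ∀ i, i < 8842 → P i := stepQ 8841 Q8841 (allL N8841 (tt N17961 D27839) (tt N17842 (iv0 F91429)) (tt N17813 (iv2 F300019)) (tt N17962 D27841) (tt N4241 (iv4 D13280)) (tt N17963 D27842) (tt N12508 (iv6 F30038)) (tt N6020 F22076))
theorem Q8843 : ∀ i, i < 8843 → P i := stepQ 8842 Q8842 (allL N8842 (tt N4245 (iv1 F22079)) (tt N4242 (iv0 D13282)) (tt N6009 F30432) (tt N17964 D27846) (tt N6054 F30433) (tt N17965 D27847) (tt N4406 F30434) (tt N4407 F30435))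
theorem Q8844 : ∀ i, i < 8844 → P i := stepQ 8843 Q8843 (allL N8843 (tt N17966 D27848) (tt N17018 F155111) (tt N17967 D27850) (tt N4242 (iv3 D13284)) (tt N17962 (iv4 F44954)) (tt N17968 D27851) (tt N12518 (iv6 F30065)) (tt N6023 F22081))
theorem Q8845 : ∀ i, i < 8845 → P i := stepQ 8844 Q8844 (allL N8844 (tt N17969 D27852) (tt N17970 D27853) (tt N6011 F22082) (tt N17968 (iv3 F44973)) (tt N17971 D27854) (tt N4242 (iv5 D13285)) (tt N17972 D27855) (tt N6024 F22083))
theorem Q8846 : ∀ i, i < 8846 → P i := stepQ 8845 Q8845 (allL N8845 (tt N12493 (iv1 F29992)) (tt N10571 (iv0 F41777)) (tt N6015 F22084) (tt N17973 D27856) (tt N4243 (iv4 D13286)) (tt N17974 D27857) (tt N12517 (iv6 F30063)) (tt N6026 F22085))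
theorem Q8847 : ∀ i, i < 8847 → P i := stepQ 8846 Q8846 (allL N8846 (tt N4244 (iv1 D13288)) (tt N6005 F22090) (tt N6004 (iv2 F61088)) (tt N12481 (iv3 F296454)) (tt N17975 D27865) (tt N13846 F116696) (tt N13833 (iv6 F116742)) (tt N5793 F116697))
theorem Q8848 : ∀ i, i < 8848 → P i := stepQ 8847 Q8847 (allL N8847 (tt N5793 F116722) (tt N6004 F22089) (tt N4244 (iv2 D13289)) (tt N6019 F22087) (tt N17976 D27868) (tt N8771 F296286) (tt N17977 D27869) (tt N6005 F22088))
theorem Q8849 : ∀ i, i < 8849 → P i := stepQ 8848 Q8848 (allL N8848 (tt N13771 (iv1 F59767)) (tt N15327 F310456) (tt N17976 (iv2 F44991)) (tt N10249 F310457) (tt N4244 (iv4 D13290)) (tt N11141 F310458) (tt N17978 D27874) (tt N6006 F22092))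
theorem Q8850 : ∀ i, i < 8850 → P i := stepQ 8849 Q8849 (allL N8849 (tt N12047 F116826) (tt N12050 F116827) (tt N17977 (iv2 F44995)) (tt N4246 F22093) (tt N17978 (iv4 F45002)) (tt N12483 (iv5 F29981)) (tt N4244 (iv6 D13291)) (tt N12483 (iv7 F29982)))
theorem Q8851 : ∀ i, i < 8851 → P i := stepQ 8850 Q8850 (allL N8850 (tt N11116 F311263) (tt N11108 F311264) (tt N17979 D27879) (tt N4245 (iv3 D13292)) (tt N10249 F311265) (tt N9881 F311266) (tt N17980 D27881) (tt N6010 F22094))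
theorem Q8852 : ∀ i, i < 8852 → P i := stepQ 8851 Q8851 (allL N8851 (tt N17970 (iv1 F44979)) (tt N17969 F44976) (tt N6024 F22095) (tt N9881 F311455) (tt N17981 D27882) (tt N4245 (iv5 D13293)) (tt N17982 D27883) (tt N6011 F22096))
theorem Q8853 : ∀ i, i < 8853 → P i := stepQ 8852 Q8852 (allL N8852 (tt N17595 (iv1 F43884)) (tt N11687 F41735) (tt N6025 F22097) (tt N17980 (iv3 F45011)) (tt N4246 F22098) (tt N10077 (iv5 F317304)) (tt N4245 (iv6 D13294)) (tt N12500 (iv7 F30027)))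
theorem Q8854 : ∀ i, i < 8854 → P i := stepQ 8853 Q8853 (allL N8853 (tt N6035 F22101) (tt N6034 F22102) (tt N6029 F22099) (tt N17817 (iv3 F44551)) (tt N17983 D27885) (tt N4247 (iv5 D13295)) (tt N11544 (iv6 F28010)) (tt N4250 F22100))
theorem Q8855 : ∀ i, i < 8855 → P i := stepQ 8854 Q8854 (allL N8854 (tt N12062 (iv1 F29150)) (tt N17984 D27892) (tt N6031 F44663) (tt N17746 F299792) (tt N17985 D27893) (tt N4248 (iv5 D13299)) (tt N17986 D27894) (tt N6033 F44664))
theorem Q8856 : ∀ i, i < 8856 → P i := stepQ 8855 Q8855 (allL N8855 (tt N5962 F29882) (tt N12056 (iv0 F29127)) (tt N6032 F44665) (tt N17675 F299687) (tt N14873 (iv4 F37329)) (tt N11358 F27598) (tt N4248 (iv6 D13300)) (tt N17669 F299688))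
theorem Q8857 : ∀ i, i < 8857 → P i := stepQ 8856 Q8856 (allL N8856 (tt N5788 (iv1 F126005)) (tt N13833 (iv0 F126004)) (tt N12672 (iv2 F296446)) (tt N4249 (iv3 D13302)) (tt N17987 D27898) (tt N17988 D27899) (tt N6355 F296093) (tt N6030 F44652))
theorem Q8858 : ∀ i, i < 8858 → P i := stepQ 8857 Q8857 (allL N8857 (tt N17984 (iv1 F45032)) (tt N12062 (iv0 F29151)) (tt N6033 F44653) (tt N17988 (iv3 F45048)) (tt N17989 D27901) (tt N4249 (iv5 D13304)) (tt N13353 (iv6 F32275)) (tt N6031 F44654))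
theorem Q8859 : ∀ i, i < 8859 → P i := stepQ 8858 Q8858 (allL N8858 (tt N6029 (iv1 F22105)) (tt N4250 (iv0 D13306)) (tt N6034 F43194) (tt N17990 D27902) (tt N17991 D27903) (tt N17432 (iv5 F43217)) (tt N17992 D27904) (tt N6035 F43195))
theorem Q8860 : ∀ i, i < 8860 → P i := stepQ 8859 Q8859 (allL N8859 (tt N4250 (iv1 D13307)) (tt N6029 F22106) (tt N6035 F43153) (tt N17993 D27905) (tt N17994 D27906) (tt N5416 (iv5 F22107)) (tt N17886 (iv6 F44751)) (tt N6034 F43154))
theorem Q8861 : ∀ i, i < 8861 → P i := stepQ 8860 Q8860 (allL N8860 (tt N17995 D27907) (tt N17996 D27908) (tt N6036 F22108) (tt N17997 D27909) (tt N4250 (iv4 D13308)) (tt N17998 D27910) (tt N4253 F22109) (tt N17983 (iv7 F45019)))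
theorem Q8862 : ∀ i, i < 8862 → P i := stepQ 8861 Q8861 (allL N8861 (tt N8584 F22113) (tt N8588 F22114) (tt N6040 F22110) (tt N17999 D27911) (tt N4251 (iv4 D13309)) (tt N6059 F22112) (tt N18000 D27912) (tt N6038 F22111))
theorem Q8863 : ∀ i, i < 8863 → P i := stepQ 8862 Q8862 (allL N8862 (tt N17862 F44641) (tt N18001 D27913) (tt N6041 F22115) (tt N14678 (iv3 F36810)) (tt N18000 (iv4 F45074)) (tt N8865 (iv5 F22125)) (tt N4251 (iv6 D13310)) (tt N17897 (iv7 F44799)))
theorem Q8864 : ∀ i, i < 8864 → P i := stepQ 8863 Q8863 (allL N8863 (tt N5790 F22118) (tt N12575 (iv0 F30176)) (tt N13834 F33928) (tt N4252 (iv3 D13311)) (tt N18002 D27914) (tt N5362 F22116) (tt N8928 F321456) (tt N5361 F22117))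
theorem Q8865 : ∀ i, i < 8865 → P i := stepQ 8864 Q8864 (allL N8864 (tt N5628 F22122) (tt N5548 F22123) (tt N6043 F22119) (tt N18003 D27916) (tt N4252 (iv4 D13312)) (tt N5370 F22120) (tt N18004 D27917) (tt N5363 F22121))
theorem Q8866 : ∀ i, i < 8866 → P i := stepQ 8865 Q8865 (allL N8865 (tt N18005 D27918) (tt N18006 D27919) (tt N6044 F22124) (tt N8928 (iv3 F319470)) (tt N18004 (iv4 F45087)) (tt N8862 F22125) (tt N4252 (iv6 D13313)) (tt N12379 (iv7 F29794)))
theorem Q8867 : ∀ i, i < 8867 → P i := stepQ 8866 Q8866 (allL N8866 (tt N18007 D27920) (tt N18008 D27921) (tt N18009 D27922) (tt N4253 (iv3 D13314)) (tt N17835 (iv4 F44572)) (tt N11360 (iv5 F27600)) (tt N17997 (iv6 F45069)) (tt N11545 (iv7 F28015)))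
theorem Q8868 : ∀ i, i < 8868 → P i := stepQ 8867 Q8867 (allL N8867 (tt N7185 F22130) (tt N4267 (iv0 F22129)) (tt N7461 F22126) (tt N4631 F22127) (tt N4687 F22128) (tt N18010 D27923) (tt N4254 (iv6 D13315)) (tt N9983 (iv7 F24269)))
theorem Q8869 : ∀ i, i < 8869 → P i := stepQ 8868 Q8868 (allL N8868 (tt N9412 F23252) (tt N4255 (iv0 D13316)) (tt N7469 (iv2 F22903)) (tt N9188 (iv3 F22947)) (tt N4688 F22131) (tt N18011 D27924) (tt N18012 D27925) (tt N9634 (iv7 F23748)))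
theorem Q8870 : ∀ i, i < 8870 → P i := stepQ 8869 Q8869 (allL N8869 (tt N4255 (iv1 D13317)) (tt N9412 (iv0 F23251)) (tt N9634 (iv2 F23746)) (tt N7466 F22133) (tt N4607 (iv4 F22918)) (tt N18013 D27926) (tt N16051 (iv6 F39698)) (tt N7469 (iv7 F22901)))
theorem Q8871 : ∀ i, i < 8871 → P i := stepQ 8870 Q8870 (allL N8870 (tt N18014 D27927) (tt N18015 D27928) (tt N14759 (iv2 F37061)) (tt N4257 F22134) (tt N18016 D27929) (tt N4255 (iv5 D13318)) (tt N7689 F22135) (tt N18017 D27930))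
theorem Q8872 : ∀ i, i < 8872 → P i := stepQ 8871 Q8871 (allL N8871 (tt N9634 F23750) (tt N7469 (iv0 F22139)) (tt N9412 (iv2 F23248)) (tt N4258 F22136) (tt N4439 F22137) (tt N18017 (iv5 F45113)) (tt N8871 F22138) (tt N4255 (iv7 D13319)))
theorem Q8873 : ∀ i, i < 8873 → P i := stepQ 8872 Q8872 (allL N8872 (tt N10165 (iv1 F24464)) (tt N10162 F24455) (tt N7485 F22140) (tt N7913 F22141) (tt N18018 D27931) (tt N4256 (iv5 D13320)) (tt N18019 D27932) (tt N7720 F22142))
theorem Q8874 : ∀ i, i < 8874 → P i := stepQ 8873 Q8873 (allL N8873 (tt N16062 F39751) (tt N4266 F22228) (tt N7486 F22143) (tt N7914 F22144) (tt N8873 F22145) (tt N9193 (iv5 F22955)) (tt N4256 (iv6 D13321)) (tt N16063 (iv7 F39755)))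
theorem Q8875 : ∀ i, i < 8875 → P i := stepQ 8874 Q8874 (allL N8874 (tt N4257 (iv1 D13323)) (tt N7723 F22146) (tt N4856 F22148) (tt N7726 F22149) (tt N15080 (iv4 F37810)) (tt N4849 (iv5 F22147)) (tt N18020 D27933) (tt N7721 (iv7 F22150)))
theorem Q8876 : ∀ i, i < 8876 → P i := stepQ 8875 Q8875 (allL N8875 (tt N18021 D27934) (tt N18022 D27935) (tt N7722 F22153) (tt N18023 D27936) (tt N4257 (iv4 D13324)) (tt N18024 D27937) (tt N7690 F22154) (tt N18025 D27938))
theorem Q8877 : ∀ i, i < 8877 → P i := stepQ 8876 Q8876 (allL N8876 (tt N4856 (iv1 F22157)) (tt N7721 F22158) (tt N7723 F22155) (tt N18017 (iv3 F45112)) (tt N18025 (iv4 F45133)) (tt N4258 F22156) (tt N18026 D27939) (tt N4257 (iv7 D13325)))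
theorem Q8878 : ∀ i, i < 8878 → P i := stepQ 8877 Q8877 (allL N8877 (tt N9983 F24271) (tt N7461 (iv0 F22162)) (tt N7185 F22159) (tt N4259 (iv3 D13326)) (tt N7180 F22160) (tt N18027 D27940) (tt N18028 D27941) (tt N4267 F22161))
theorem Q8879 : ∀ i, i < 8879 → P i := stepQ 8878 Q8878 (allL N8878 (tt N7656 F22165) (tt N16055 F39716) (tt N4265 F22163) (tt N18027 (iv3 F45142)) (tt N18029 D27942) (tt N4259 (iv5 D13327)) (tt N18030 D27943) (tt N4269 F22164))
theorem Q8880 : ∀ i, i < 8880 → P i := stepQ 8879 Q8879 (allL N8879 (tt N7486 F22169) (tt N16063 F39757) (tt N4266 F22166) (tt N18028 (iv3 F45146)) (tt N7539 F22167) (tt N4431 F22168) (tt N4259 (iv6 D13328)) (tt N16062 (iv7 F39746)))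
theorem Q8881 : ∀ i, i < 8881 → P i := stepQ 8880 Q8880 (allL N8880 (tt N16055 (iv1 F39715)) (tt N7656 F22177) (tt N4269 F22175) (tt N15752 (iv3 F39001)) (tt N18031 D27944) (tt N4260 (iv5 D13330)) (tt N18032 D27945) (tt N4265 F22176))
theorem Q8882 : ∀ i, i < 8882 → P i := stepQ 8881 Q8881 (allL N8881 (tt N10320 (iv1 F24654)) (tt N5300 (iv0 F24470)) (tt N4270 F22178) (tt N15753 (iv3 F39004)) (tt N7947 (iv4 F22566)) (tt N4850 (iv5 F22179)) (tt N4260 (iv6 D13331)) (tt N10319 (iv7 F24649)))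
theorem Q8883 : ∀ i, i < 8883 → P i := stepQ 8882 Q8882 (allL N8882 (tt N4274 (iv1 F22193)) (tt N4261 (iv0 D13332)) (tt N4271 F22940) (tt N18033 D27946) (tt N18034 D27947) (tt N10166 F24468) (tt N18035 D27948) (tt N4272 F22941))
theorem Q8884 : ∀ i, i < 8884 → P i := stepQ 8883 Q8883 (allL N8883 (tt N4261 (iv1 D13333)) (tt N4274 F22184) (tt N4272 F22937) (tt N15898 (iv3 F39252)) (tt N18036 D27949) (tt N4425 (iv5 F22185)) (tt N18037 D27950) (tt N4271 F22938))
theorem Q8885 : ∀ i, i < 8885 → P i := stepQ 8884 Q8884 (allL N8884 (tt N15453 F38504) (tt N16205 (iv0 F40151)) (tt N4273 F22188) (tt N18038 D27951) (tt N4261 (iv4 D13334)) (tt N18039 D27952) (tt N7248 F22189) (tt N18040 D27953))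
theorem Q8886 : ∀ i, i < 8886 → P i := stepQ 8885 Q8885 (allL N8885 (tt N4272 (iv1 F22194)) (tt N4271 F22195) (tt N4274 F22190) (tt N7249 F22191) (tt N18040 (iv4 F45177)) (tt N4262 F22192) (tt N18041 D27954) (tt N4261 (iv7 D13335)))
theorem Q8887 : ∀ i, i < 8887 → P i := stepQ 8886 Q8886 (allL N8886 (tt N16088 F39846) (tt N18042 D27955) (tt N15744 (iv2 F38974)) (tt N4265 F22197) (tt N18043 D27956) (tt N4263 (iv5 D13336)) (tt N18044 D27957) (tt N15752 (iv7 F39002)))
theorem Q8888 : ∀ i, i < 8888 → P i := stepQ 8887 Q8887 (allL N8887 (tt N9944 (iv1 F38293)) (tt N9947 (iv0 F38292)) (tt N15745 (iv2 F38977)) (tt N4266 F22198) (tt N15736 (iv4 F38942)) (tt N15348 F38290) (tt N4263 (iv6 D13337)) (tt N18045 D27958))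
theorem Q8889 : ∀ i, i < 8889 → P i := stepQ 8888 Q8888 (allL N8888 (tt N18046 D27959) (tt N15920 F39304) (tt N7538 F22202) (tt N7941 F22203) (tt N18047 D27960) (tt N4264 (iv5 D13339)) (tt N18048 D27961) (tt N7946 F22569))
theorem Q8890 : ∀ i, i < 8890 → P i := stepQ 8889 Q8889 (allL N8889 (tt N7349 F26089) (tt N15931 F39322) (tt N7539 F22204) (tt N7942 F22205) (tt N4266 F22206) (tt N15038 F37713) (tt N4264 (iv6 D13340)) (tt N18049 D27962))
theorem Q8891 : ∀ i, i < 8891 → P i := stepQ 8890 Q8890 (allL N8890 (tt N4269 (iv1 F22208)) (tt N4265 (iv0 D13341)) (tt N7656 (iv2 F22209)) (tt N7401 (iv3 F22210)) (tt N18050 D27963) (tt N7397 F22207) (tt N18051 D27964) (tt N16055 (iv7 F39714)))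
theorem Q8892 : ∀ i, i < 8892 → P i := stepQ 8891 Q8891 (allL N8891 (tt N18052 D27965) (tt N18053 D27966) (tt N18029 (iv2 F45150)) (tt N18054 D27967) (tt N4265 (iv4 D13342)) (tt N18055 D27968) (tt N18056 D27969) (tt N18031 (iv7 F45155)))
theorem Q8893 : ∀ i, i < 8893 → P i := stepQ 8892 Q8892 (allL N8892 (tt N18057 D27970) (tt N16060 F164057) (tt N18030 (iv2 F45152)) (tt N18044 (iv3 F45190)) (tt N18056 (iv4 F45223)) (tt N18058 D27972) (tt N4265 (iv6 D13343)) (tt N18059 D27973))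
theorem Q8894 : ∀ i, i < 8894 → P i := stepQ 8893 Q8893 (allL N8893 (tt N4420 F22214) (tt N4433 F22216) (tt N4431 F22213) (tt N15348 (iv3 F38291)) (tt N18060 D27974) (tt N4266 (iv5 D13346)) (tt N18058 (iv6 F45225)) (tt N4430 (iv7 F22869)))
theorem Q8895 : ∀ i, i < 8895 → P i := stepQ 8894 Q8894 (allL N8894 (tt N16063 (iv1 F39756)) (tt N7486 (iv0 F22973)) (tt N16062 (iv2 F39749)) (tt N18045 (iv3 F45191)) (tt N18049 (iv4 F45207)) (tt N4430 F22870) (tt N10319 (iv6 F24645)) (tt N4266 (iv7 D13347)))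
theorem Q8896 : ∀ i, i < 8896 → P i := stepQ 8895 Q8895 (allL N8895 (tt N7461 (iv1 F22219)) (tt N9983 (iv0 F24270)) (tt N4267 (iv2 D13348)) (tt N9015 (iv3 F22636)) (tt N7181 F22217) (tt N18061 D27975) (tt N16107 (iv6 F39915)) (tt N7185 F22218))
theorem Q8897 : ∀ i, i < 8897 → P i := stepQ 8896 Q8896 (allL N8896 (tt N18062 D27976) (tt N16038 F39675) (tt N18061 (iv2 F45229)) (tt N4269 F22220) (tt N18063 D27977) (tt N4267 (iv5 D13349)) (tt N18064 D27978) (tt N18027 (iv7 F45143)))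
theorem Q8898 : ∀ i, i < 8898 → P i := stepQ 8897 Q8897 (allL N8897 (tt N18065 D27979) (tt N15270 (iv0 F38720)) (tt N16107 (iv2 F39914)) (tt N4270 F22221) (tt N7190 F22222) (tt N16822 (iv5 F41230)) (tt N4267 (iv6 D13350)) (tt N16109 (iv7 F39926)))
theorem Q8899 : ∀ i, i < 8899 → P i := stepQ 8898 Q8898 (allL N8898 (tt N15920 (iv1 F39305)) (tt N18046 F45198) (tt N7946 (iv2 F22568)) (tt N7532 F22229) (tt N18066 D27980) (tt N4268 (iv5 D13351)) (tt N18067 D27981) (tt N7538 F22230))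
theorem Q8900 : ∀ i, i < 8900 → P i := stepQ 8899 Q8899 (allL N8899 (tt N15066 F37789) (tt N14942 (iv0 F37482)) (tt N7947 F22567) (tt N7533 F22231) (tt N4270 F22232) (tt N9809 F24047) (tt N4268 (iv6 D13352)) (tt N15065 F37784))
theorem Q8901 : ∀ i, i < 8901 → P i := stepQ 8900 Q8900 (allL N8900 (tt N18053 (iv1 F45220)) (tt N18052 F45219) (tt N18031 (iv2 F45154)) (tt N18068 D27982) (tt N4269 (iv4 D13353)) (tt N18069 D27983) (tt N18070 D27984) (tt N18029 (iv7 F45151)))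
theorem Q8902 : ∀ i, i < 8902 → P i := stepQ 8901 Q8901 (allL N8901 (tt N16103 (iv1 F50047)) (tt N18071 D27986) (tt N18032 (iv2 F45156)) (tt N18064 (iv3 F45238)) (tt N18070 (iv4 F45252)) (tt N16824 (iv5 F41238)) (tt N4269 (iv6 D13354)) (tt N18072 D27987))
theorem Q8903 : ∀ i, i < 8903 → P i := stepQ 8902 Q8902 (allL N8902 (tt N5300 (iv1 F24471)) (tt N10320 F24655) (tt N10319 F24647) (tt N16109 (iv3 F39925)) (tt N15065 (iv4 F37783)) (tt N4851 F22233) (tt N16062 F39748) (tt N4270 (iv7 D13355)))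
theorem Q8904 : ∀ i, i < 8904 → P i := stepQ 8903 Q8903 (allL N8903 (tt N9924 F39232) (tt N9567 (iv0 F39166)) (tt N15894 (iv2 F39259)) (tt N4271 (iv3 D13357)) (tt N15841 (iv4 F39164)) (tt N15442 (iv5 F39233)) (tt N18073 D27988) (tt N15898 F39254))
theorem Q8905 : ∀ i, i < 8905 → P i := stepQ 8904 Q8904 (allL N8904 (tt N18074 D27989) (tt N7949 (iv0 F36869)) (tt N18034 (iv2 F45160)) (tt N18075 D27990) (tt N4271 (iv4 D13358)) (tt N18076 D27991) (tt N18077 D27992) (tt N18036 (iv7 F45168)))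
theorem Q8906 : ∀ i, i < 8906 → P i := stepQ 8905 Q8905 (allL N8905 (tt N18078 D27993) (tt N18079 D27994) (tt N18035 (iv2 F45165)) (tt N18073 (iv3 F45258)) (tt N18077 (iv4 F45263)) (tt N15170 F37967) (tt N4271 (iv6 D13359)) (tt N18080 D27995))
theorem Q8907 : ∀ i, i < 8907 → P i := stepQ 8906 Q8906 (allL N8906 (tt N18010 (iv1 F45094)) (tt N16031 (iv0 F39888)) (tt N18081 D27996) (tt N4272 (iv3 D13361)) (tt N18082 D27997) (tt N16101 F39887) (tt N18083 D27998) (tt N18033 (iv7 F45159)))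
theorem Q8908 : ∀ i, i < 8908 → P i := stepQ 8907 Q8907 (allL N8907 (tt N7949 (iv1 F22570)) (tt N18074 F45261) (tt N18036 (iv2 F45167)) (tt N18084 D27999) (tt N4272 (iv4 D13362)) (tt N18085 D28000) (tt N18086 D28001) (tt N18034 (iv7 F45161)))
theorem Q8909 : ∀ i, i < 8909 → P i := stepQ 8908 Q8908 (allL N8908 (tt N18087 D28002) (tt N18088 D28003) (tt N18037 (iv2 F45171)) (tt N18083 (iv3 F45269)) (tt N18086 (iv4 F45270)) (tt N18089 D28004) (tt N4272 (iv6 D13364)) (tt N18090 D28005))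
theorem Q8910 : ∀ i, i < 8910 → P i := stepQ 8909 Q8909 (allL N8909 (tt N18040 (iv1 F45179)) (tt N4273 (iv0 D13365)) (tt N15453 (iv2 F38501)) (tt N18091 D28006) (tt N14684 (iv4 F36868)) (tt N18092 D28007) (tt N18093 D28008) (tt N16205 (iv7 F40150)))
theorem Q8911 : ∀ i, i < 8911 → P i := stepQ 8910 Q8910 (allL N8910 (tt N4273 (iv1 D13366)) (tt N18040 F45178) (tt N16205 (iv2 F40149)) (tt N18094 D28009) (tt N14685 (iv4 F36860)) (tt N18095 D28010) (tt N18096 D28011) (tt N15453 (iv7 F38502)))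
theorem Q8912 : ∀ i, i < 8912 → P i := stepQ 8911 Q8911 (allL N8911 (tt N18097 D28012) (tt N18098 D28013) (tt N18099 D28014) (tt N4273 (iv3 D13367)) (tt N4279 F22237) (tt N18100 D28015) (tt N8951 (iv6 F22313)) (tt N18101 D28016))
theorem Q8913 : ∀ i, i < 8913 → P i := stepQ 8912 Q8912 (allL N8912 (tt N18102 D28017) (tt N18103 D28018) (tt N18039 (iv2 F45175)) (tt N18100 (iv3 F45276)) (tt N18104 D28019) (tt N4273 (iv5 D13368)) (tt N18105 D28020) (tt N18106 D28021))
theorem Q8914 : ∀ i, i < 8914 → P i := stepQ 8913 Q8913 (allL N8913 (tt N16205 (iv1 F40152)) (tt N15453 (iv0 F38503)) (tt N18040 (iv2 F45176)) (tt N18101 (iv3 F45277)) (tt N4274 F22238) (tt N18106 (iv5 F45289)) (tt N18107 D28022) (tt N4273 (iv7 D13369)))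
theorem Q8915 : ∀ i, i < 8915 → P i := stepQ 8914 Q8914 (allL N8914 (tt N18108 D28023) (tt N18109 D28024) (tt N18041 (iv2 F45180)) (tt N4282 F22239) (tt N18107 (iv4 F45290)) (tt N8914 F22240) (tt N4274 (iv6 D13370)) (tt N8954 (iv7 F22319)))
theorem Q8916 : ∀ i, i < 8916 → P i := stepQ 8915 Q8915 (allL N8915 (tt N7671 (iv1 F22243)) (tt N7463 F22242) (tt N4275 (iv2 D13373)) (tt N8955 (iv3 F22320)) (tt N18110 D28025) (tt N7869 F22241) (tt N18111 D28026) (tt N8961 (iv7 F22336)))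
theorem Q8917 : ∀ i, i < 8917 → P i := stepQ 8916 Q8916 (allL N8916 (tt N18112 D28027) (tt N18113 D28028) (tt N18110 (iv2 F45293)) (tt N16014 (iv3 F39596)) (tt N4275 (iv4 D13374)) (tt N18114 D28029) (tt N18115 D28030) (tt N8962 (iv7 F22347)))
theorem Q8918 : ∀ i, i < 8918 → P i := stepQ 8917 Q8917 (allL N8917 (tt N18116 D28031) (tt N18117 D28032) (tt N18111 (iv2 F45295)) (tt N4276 F22244) (tt N18115 (iv4 F45301)) (tt N16841 (iv5 F41276)) (tt N4275 (iv6 D13375)) (tt N18118 D28033))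
theorem Q8919 : ∀ i, i < 8919 → P i := stepQ 8918 Q8918 (allL N8918 (tt N8960 (iv1 F22333)) (tt N4276 (iv0 D13376)) (tt N8958 F45459) (tt N18119 D28035) (tt N15578 (iv4 F46780)) (tt N18120 D28037) (tt N8965 F23033) (tt N8959 F45460))
theorem Q8920 : ∀ i, i < 8920 → P i := stepQ 8919 Q8919 (allL N8919 (tt N4276 (iv1 D13377)) (tt N8960 F22332) (tt N8959 (iv2 F45457)) (tt N18079 F100164) (tt N15579 (iv4 F46777)) (tt N18121 D28041) (tt N18122 D28042) (tt N8958 (iv7 F45458)))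
theorem Q8921 : ∀ i, i < 8921 → P i := stepQ 8920 Q8920 (allL N8920 (tt N8959 (iv1 F22327)) (tt N8958 F22331) (tt N8960 (iv2 F22328)) (tt N18118 (iv3 F45302)) (tt N5589 (iv4 F325085)) (tt N4913 F22245) (tt N5598 F323875) (tt N4276 (iv7 D13378)))
theorem Q8922 : ∀ i, i < 8922 → P i := stepQ 8921 Q8921 (allL N8921 (tt N7417 (iv1 F22248)) (tt N7646 F22247) (tt N4277 (iv2 D13379)) (tt N8961 (iv3 F22334)) (tt N18123 D28043) (tt N7898 F22246) (tt N18124 D28044) (tt N8955 (iv7 F22322)))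
theorem Q8923 : ∀ i, i < 8923 → P i := stepQ 8922 Q8922 (allL N8922 (tt N7944 F22249) (tt N18125 D28045) (tt N18123 (iv2 F45308)) (tt N16018 (iv3 F39613)) (tt N4277 (iv4 D13380)) (tt N18126 D28046) (tt N18127 D28047) (tt N8956 (iv7 F22325)))
theorem Q8924 : ∀ i, i < 8924 → P i := stepQ 8923 Q8923 (allL N8923 (tt N18128 D28048) (tt N18129 D28049) (tt N18124 (iv2 F45312)) (tt N4278 F22250) (tt N18127 (iv4 F45320)) (tt N9419 (iv5 F23274)) (tt N4277 (iv6 D13381)) (tt N18130 D28050))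
theorem Q8925 : ∀ i, i < 8925 → P i := stepQ 8924 Q8924 (allL N8924 (tt N5598 F324221) (tt N4278 (iv0 D13382)) (tt N8964 (iv2 F45464)) (tt N18087 F168022) (tt N11841 (iv4 F325392)) (tt N9456 (iv5 F23365)) (tt N18131 D28054) (tt N8965 (iv7 F45462)))
theorem Q8926 : ∀ i, i < 8926 → P i := stepQ 8925 Q8925 (allL N8925 (tt N4278 (iv1 D13383)) (tt N5598 F324195) (tt N8965 (iv2 F45461)) (tt N18132 D28056) (tt N11837 (iv4 F325384)) (tt N9457 F23368) (tt N8958 (iv6 F23369)) (tt N8964 (iv7 F45465)))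
theorem Q8927 : ∀ i, i < 8927 → P i := stepQ 8926 Q8926 (allL N8926 (tt N8965 (iv1 F22349)) (tt N8964 F22352) (tt N5598 F323876) (tt N18130 (iv3 F45321)) (tt N5575 F323877) (tt N9429 (iv5 F23303)) (tt N8960 (iv6 F22330)) (tt N4278 (iv7 D13384)))
theorem Q8928 : ∀ i, i < 8928 → P i := stepQ 8927 Q8927 (allL N8927 (tt N18133 D28058) (tt N4279 (iv0 D13385)) (tt N18134 D28059) (tt N18135 D28060) (tt N18136 D28061) (tt N18137 D28062) (tt N18138 D28063) (tt N18139 D28064))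
theorem Q8929 : ∀ i, i < 8929 → P i := stepQ 8928 Q8928 (allL N8928 (tt N4279 (iv1 D13386)) (tt N18133 F45328) (tt N18139 (iv2 F45330)) (tt N8865 F319470) (tt N18140 D28066) (tt N14678 (iv5 F321455)) (tt N8863 (iv6 F321456)) (tt N18134 F45329))
theorem Q8930 : ∀ i, i < 8930 → P i := stepQ 8929 Q8929 (allL N8929 (tt N18134 F169958) (tt N18139 (iv0 F169960)) (tt N4279 (iv2 D13387)) (tt N8968 (iv3 F22355)) (tt N18099 (iv4 F45275)) (tt N18141 D28071) (tt N8968 (iv6 F22356)) (tt N18133 (iv7 F45327)))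
theorem Q8931 : ∀ i, i < 8931 → P i := stepQ 8930 Q8930 (allL N8930 (tt N18142 D28072) (tt N18143 D28073) (tt N18141 (iv2 F45333)) (tt N4280 F22251) (tt N18144 D28074) (tt N4279 (iv5 D13388)) (tt N18145 D28075) (tt N4304 (iv7 F22252)))
theorem Q8932 : ∀ i, i < 8932 → P i := stepQ 8931 Q8931 (allL N8931 (tt N18139 (iv1 F169961)) (tt N18134 F169957) (tt N18133 F45325) (tt N4281 F22253) (tt N18101 (iv4 F45278)) (tt N4304 F22254) (tt N18146 D28076) (tt N4279 (iv7 D13389)))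
theorem Q8933 : ∀ i, i < 8933 → P i := stepQ 8932 Q8932 (allL N8932 (tt N16028 (iv1 F80378)) (tt N16028 (iv0 F80377)) (tt N8933 (iv2 F22256)) (tt N18145 (iv3 F45342)) (tt N4305 F22255) (tt N8933 (iv5 F22258)) (tt N4280 (iv6 D13390)) (tt N8933 (iv7 F22259)))
theorem Q8934 : ∀ i, i < 8934 → P i := stepQ 8933 Q8933 (allL N8933 (tt N15628 F80379) (tt N15628 F80380) (tt N8932 F22256) (tt N18146 (iv3 F45343)) (tt N4282 F22257) (tt N8932 F22258) (tt N4281 (iv6 D13391)) (tt N8932 F22259))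
theorem Q8935 : ∀ i, i < 8935 → P i := stepQ 8934 Q8934 (allL N8934 (tt N4282 (iv1 F22260)) (tt N4282 (iv0 D13392)) (tt N8969 (iv2 F78668)) (tt N18147 D28080) (tt N15625 F80227) (tt N18148 D28082) (tt N18149 D28083) (tt N8969 (iv7 F78669)))
theorem Q8936 : ∀ i, i < 8936 → P i := stepQ 8935 Q8935 (allL N8935 (tt N15148 (iv1 F37915)) (tt N15151 (iv0 F37922)) (tt N7358 F22261) (tt N18150 D28084) (tt N4283 (iv4 D13393)) (tt N14949 (iv5 F37512)) (tt N18151 D28085) (tt N7367 F22262))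
theorem Q8937 : ∀ i, i < 8937 → P i := stepQ 8936 Q8936 (allL N8936 (tt N18152 D28086) (tt N18153 D28087) (tt N7359 F22263) (tt N15507 (iv3 F38583)) (tt N18151 (iv4 F45370)) (tt N16168 (iv5 F40057)) (tt N4283 (iv6 D13394)) (tt N18154 D28088))
theorem Q8938 : ∀ i, i < 8938 → P i := stepQ 8937 Q8937 (allL N8937 (tt N4284 (iv1 D13395)) (tt N7362 F22264) (tt N7360 F22268) (tt N9777 F23982) (tt N7280 F22266) (tt N9285 (iv5 F23053)) (tt N7875 (iv6 F22267)) (tt N7316 F22265))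
theorem Q8939 : ∀ i, i < 8939 → P i := stepQ 8938 Q8938 (allL N8938 (tt N7360 (iv1 F22273)) (tt N7316 F22274) (tt N7362 F22269) (tt N15510 (iv3 F38595)) (tt N4287 F22270) (tt N7933 F22271) (tt N7371 F22272) (tt N4284 (iv7 D13396)))
theorem Q8940 : ∀ i, i < 8940 → P i := stepQ 8939 Q8939 (allL N8939 (tt N18155 D28089) (tt N7554 (iv0 F38287)) (tt N15963 (iv2 F39438)) (tt N4285 (iv3 D13397)) (tt N4288 F22275) (tt N14946 (iv5 F37500)) (tt N16190 F40113) (tt N7737 F22276))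
theorem Q8941 : ∀ i, i < 8941 → P i := stepQ 8940 Q8940 (allL N8940 (tt N8109 (iv1 F22278)) (tt N4288 (iv0 D13398)) (tt N8134 (iv2 F22277)) (tt N18156 D28090) (tt N16084 (iv4 F39823)) (tt N7811 F22279) (tt N8131 (iv6 F22281)) (tt N8119 F22280))
theorem Q8942 : ∀ i, i < 8942 → P i := stepQ 8941 Q8941 (allL N8941 (tt N8134 (iv1 F22288)) (tt N8119 F22287) (tt N4288 (iv2 D13399)) (tt N8971 (iv3 F22359)) (tt N15963 (iv4 F39439)) (tt N7612 F22285) (tt N15088 F37828) (tt N8109 F22286))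
theorem Q8943 : ∀ i, i < 8943 → P i := stepQ 8942 Q8942 (allL N8942 (tt N7237 (iv1 F26923)) (tt N9075 (iv0 F26922)) (tt N9074 (iv2 F26791)) (tt N4290 (iv3 D13403)) (tt N7238 F22293) (tt N9073 (iv5 F26388)) (tt N4291 F22294) (tt N9073 (iv7 F26389)))
theorem Q8944 : ∀ i, i < 8944 → P i := stepQ 8943 Q8943 (allL N8943 (tt N4291 (iv1 D13405)) (tt N5475 (iv0 F26281)) (tt N10608 F27001) (tt N5439 (iv3 F26430)) (tt N18157 D28091) (tt N11805 (iv5 F28405)) (tt N5437 (iv6 F27005)) (tt N7314 F27004))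
theorem Q8945 : ∀ i, i < 8945 → P i := stepQ 8944 Q8944 (allL N8944 (tt N7314 (iv1 F26280)) (tt N10608 F25001) (tt N4291 (iv2 D13406)) (tt N8944 F22295) (tt N7243 F22296) (tt N5448 (iv5 F26789)) (tt N9074 F26790) (tt N5475 (iv7 F26283)))
theorem Q8946 : ∀ i, i < 8946 → P i := stepQ 8945 Q8945 (allL N8945 (tt N15679 F38810) (tt N9631 F24599) (tt N15479 (iv2 F38544)) (tt N4296 (iv3 D13412)) (tt N15398 (iv4 F38418)) (tt N10267 (iv5 F24597)) (tt N18158 D28092) (tt N14896 (iv7 F37367)))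
theorem Q8947 : ∀ i, i < 8947 → P i := stepQ 8946 Q8946 (allL N8946 (tt N18159 D28093) (tt N18160 D28094) (tt N14895 (iv2 F37365)) (tt N18158 (iv3 F45396)) (tt N16246 (iv4 F40204)) (tt N18161 D28095) (tt N4296 (iv6 D13413)) (tt N18162 D28096))
theorem Q8948 : ∀ i, i < 8948 → P i := stepQ 8947 Q8947 (allL N8947 (tt N15261 F38110) (tt N15634 F38731) (tt N18163 D28097) (tt N4297 (iv3 D13414)) (tt N18164 D28098) (tt N10268 (iv5 F24601)) (tt N18165 D28099) (tt N14894 (iv7 F37364)))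
theorem Q8949 : ∀ i, i < 8949 → P i := stepQ 8948 Q8948 (allL N8948 (tt N18166 D28100) (tt N18167 D28101) (tt N14897 (iv2 F37371)) (tt N18165 (iv3 F45405)) (tt N16249 (iv4 F40206)) (tt N14984 (iv5 F37569)) (tt N4297 (iv6 D13415)) (tt N18168 D28102))
theorem Q8950 : ∀ i, i < 8950 → P i := stepQ 8949 Q8949 (allL N8949 (tt N14900 (iv1 F37380)) (tt N4298 (iv0 D13416)) (tt N7960 (iv2 F22307)) (tt N18169 D28103) (tt N7147 F22306) (tt N18170 D28104) (tt N18171 D28105) (tt N7963 (iv7 F22308)))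
theorem Q8951 : ∀ i, i < 8951 → P i := stepQ 8950 Q8950 (allL N8950 (tt N4298 (iv1 D13417)) (tt N14900 F37379) (tt N7963 (iv2 F22311)) (tt N18172 D28106) (tt N7148 F22310) (tt N18173 D28107) (tt N18174 D28108) (tt N7960 F22309))
theorem Q8952 : ∀ i, i < 8952 → P i := stepQ 8951 Q8951 (allL N8951 (tt N18175 D28109) (tt N18176 D28110) (tt N18177 D28111) (tt N4298 (iv3 D13418)) (tt N4304 F22312) (tt N18178 D28112) (tt N8911 F22313) (tt N18144 (iv7 F45341)))
theorem Q8953 : ∀ i, i < 8953 → P i := stepQ 8952 Q8952 (allL N8952 (tt N18179 D28113) (tt N18180 D28114) (tt N14899 (iv2 F37373)) (tt N18178 (iv3 F45420)) (tt N14912 (iv4 F37412)) (tt N4298 (iv5 D13419)) (tt N18181 D28115) (tt N14910 F37408))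
theorem Q8954 : ∀ i, i < 8954 → P i := stepQ 8953 Q8953 (allL N8953 (tt N7963 (iv1 F22315)) (tt N7960 F22316) (tt N14900 (iv2 F37376)) (tt N18144 (iv3 F45340)) (tt N4299 F22314) (tt N14910 (iv5 F37407)) (tt N18182 D28116) (tt N4298 (iv7 D13420)))
theorem Q8955 : ∀ i, i < 8955 → P i := stepQ 8954 Q8954 (allL N8954 (tt N18183 D28117) (tt N18184 D28118) (tt N14901 (iv2 F37382)) (tt N4305 F22317) (tt N18182 (iv4 F45432)) (tt N8954 F22318) (tt N4299 (iv6 D13421)) (tt N8914 F22319))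
theorem Q8956 : ∀ i, i < 8956 → P i := stepQ 8955 Q8955 (allL N8955 (tt N7880 (iv1 F22324)) (tt N7416 F22323) (tt N4300 (iv2 D13422)) (tt N8915 F22320) (tt N16195 (iv4 F40120)) (tt N7669 F22321) (tt N18185 D28119) (tt N8921 F22322))
theorem Q8957 : ∀ i, i < 8957 → P i := stepQ 8956 Q8956 (allL N8956 (tt N16198 F40125) (tt N16184 (iv0 F40096)) (tt N16195 F40121) (tt N15607 (iv3 F38683)) (tt N4300 (iv4 D13423)) (tt N18186 D28120) (tt N18187 D28121) (tt N8922 F22325))
theorem Q8958 : ∀ i, i < 8958 → P i := stepQ 8957 Q8957 (allL N8957 (tt N18188 D28122) (tt N18189 D28123) (tt N18185 (iv2 F45436)) (tt N4301 F22326) (tt N18187 (iv4 F45439)) (tt N10279 (iv5 F24609)) (tt N4300 (iv6 D13424)) (tt N18190 D28124))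
theorem Q8959 : ∀ i, i < 8959 → P i := stepQ 8958 Q8958 (allL N8958 (tt N8920 (iv1 F22331)) (tt N4301 (iv0 D13425)) (tt N8918 (iv2 F45459)) (tt N18191 D28126) (tt N15985 (iv4 F47645)) (tt N18192 D28128) (tt N8925 F23369) (tt N8919 F45458))
theorem Q8960 : ∀ i, i < 8960 → P i := stepQ 8959 Q8959 (allL N8959 (tt N4301 (iv1 D13426)) (tt N8920 F22327) (tt N8919 F45457) (tt N18160 F168078) (tt N15986 (iv4 F47642)) (tt N18193 D28132) (tt N18194 D28133) (tt N8918 (iv7 F45460)))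
theorem Q8961 : ∀ i, i < 8961 → P i := stepQ 8960 Q8960 (allL N8960 (tt N8919 (iv1 F22332)) (tt N8918 F22333) (tt N8920 F22328) (tt N18190 (iv3 F45440)) (tt N11616 (iv4 F323870)) (tt N8230 F22329) (tt N8926 F22330) (tt N4301 (iv7 D13427)))
theorem Q8962 : ∀ i, i < 8962 → P i := stepQ 8961 Q8961 (allL N8961 (tt N7464 (iv1 F22340)) (tt N7848 (iv0 F22341)) (tt N4302 (iv2 D13428)) (tt N8921 F22334) (tt N18195 D28134) (tt N7687 F22335) (tt N18196 D28135) (tt N8915 F22336))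
theorem Q8963 : ∀ i, i < 8963 → P i := stepQ 8962 Q8962 (allL N8962 (tt N16185 (iv1 F40098)) (tt N18197 D28136) (tt N18195 (iv2 F45487)) (tt N11746 F322544) (tt N4302 (iv4 D13429)) (tt N18198 D28137) (tt N11744 (iv6 F324027)) (tt N8916 F22347))
theorem Q8964 : ∀ i, i < 8964 → P i := stepQ 8963 Q8963 (allL N8963 (tt N18199 D28139) (tt N18200 D28140) (tt N18196 (iv2 F45491)) (tt N4303 F22348) (tt N11744 (iv4 F324026)) (tt N9219 (iv5 F22981)) (tt N4302 (iv6 D13430)) (tt N11667 (iv7 F324973)))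
theorem Q8965 : ∀ i, i < 8965 → P i := stepQ 8964 Q8964 (allL N8964 (tt N8926 (iv1 F22352)) (tt N4303 (iv0 D13431)) (tt N8924 F45464) (tt N18166 F100174) (tt N16007 (iv4 F79883)) (tt N9264 (iv5 F23307)) (tt N18201 D28144) (tt N8925 F45465))
theorem Q8966 : ∀ i, i < 8966 → P i := stepQ 8965 Q8965 (allL N8965 (tt N4303 (iv1 D13432)) (tt N8926 F22349) (tt N8925 F45461) (tt N18202 D28145) (tt N11817 (iv4 F324953)) (tt N9265 F23032) (tt N8918 (iv6 F23033)) (tt N8924 F45462))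
theorem Q8967 : ∀ i, i < 8967 → P i := stepQ 8966 Q8966 (allL N8966 (tt N18141 (iv1 F45337)) (tt N4304 (iv0 D13434)) (tt N18143 F173273) (tt N18203 D28148) (tt N18204 D28149) (tt N18205 D28150) (tt N18206 D28151) (tt N18142 (iv7 F173279)))
theorem Q8968 : ∀ i, i < 8968 → P i := stepQ 8967 Q8967 (allL N8967 (tt N4304 (iv1 D13435)) (tt N18141 F45336) (tt N18142 (iv2 F173278)) (tt N18207 D28153) (tt N18208 D28154) (tt N18209 D28155) (tt N13336 (iv6 F325249)) (tt N18143 F173277))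
theorem Q8969 : ∀ i, i < 8969 → P i := stepQ 8968 Q8968 (allL N8968 (tt N18143 (iv1 F45339)) (tt N18142 F45338) (tt N4304 (iv2 D13436)) (tt N8929 F22355) (tt N18177 (iv4 F45418)) (tt N18133 (iv5 F45326)) (tt N8929 F22356) (tt N18141 (iv7 F45335)))
theorem Q8970 : ∀ i, i < 8970 → P i := stepQ 8969 Q8969 (allL N8969 (tt N4305 (iv1 F22357)) (tt N4305 (iv0 D13437)) (tt N8934 F78668) (tt N18210 D28158) (tt N15626 (iv4 F80223)) (tt N18211 D28160) (tt N18212 D28161) (tt N8934 F78669))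
theorem Q8971 : ∀ i, i < 8971 → P i := stepQ 8970 Q8970 (allL N8970 (tt N4661 (iv1 F22486)) (tt N4306 (iv0 D13438)) (tt N4723 (iv2 F22545)) (tt N9819 (iv3 F24059)) (tt N18213 D28162) (tt N7601 F22591) (tt N4713 (iv6 F22546)) (tt N4680 F22544))
theorem Q8972 : ∀ i, i < 8972 → P i := stepQ 8971 Q8971 (allL N8971 (tt N4723 (iv1 F22473)) (tt N4680 (iv0 F22470)) (tt N4306 (iv2 D13440)) (tt N8941 F22359) (tt N7869 F22360) (tt N7822 F22361) (tt N9710 (iv6 F23875)) (tt N4661 (iv7 F22491)))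
theorem Q8973 : ∀ i, i < 8973 → P i := stepQ 8972 Q8972 (allL N8972 (tt N9288 (iv1 F23056)) (tt N9290 (iv0 F23063)) (tt N14876 (iv2 F37333)) (tt N7300 F27010) (tt N4308 (iv4 D13441)) (tt N16161 (iv5 F40035)) (tt N9054 (iv6 F22670)) (tt N7298 (iv7 F26407)))
theorem Q8974 : ∀ i, i < 8974 → P i := stepQ 8973 Q8973 (allL N8973 (tt N9290 (iv1 F23064)) (tt N9288 (iv0 F23055)) (tt N7298 (iv2 F26405)) (tt N15022 (iv3 F37675)) (tt N4309 (iv4 D13442)) (tt N16162 (iv5 F40042)) (tt N5652 F22368) (tt N14876 (iv7 F37335)))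
theorem Q8975 : ∀ i, i < 8975 → P i := stepQ 8974 Q8974 (allL N8974 (tt N7251 F22373) (tt N11805 (iv0 F28408)) (tt N8608 F22369) (tt N4510 F22370) (tt N16154 (iv4 F40015)) (tt N5059 F26353) (tt N4311 (iv6 D13443)) (tt N8607 F22372))
theorem Q8976 : ∀ i, i < 8976 → P i := stepQ 8975 Q8975 (allL N8975 (tt N15325 (iv1 F50885)) (tt N18214 D28164) (tt N18215 D28165) (tt N4314 (iv3 D13444)) (tt N16124 (iv4 F39959)) (tt N9554 (iv5 F23614)) (tt N7899 F22374) (tt N8978 (iv7 F22381)))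
theorem Q8977 : ∀ i, i < 8977 → P i := stepQ 8976 Q8976 (allL N8976 (tt N15323 F42819) (tt N15326 (iv0 F50879)) (tt N18216 D28167) (tt N4315 (iv3 D13445)) (tt N4480 F22375) (tt N9556 (iv5 F23617)) (tt N5667 F22376) (tt N8977 (iv7 F22379)))
theorem Q8978 : ∀ i, i < 8978 → P i := stepQ 8977 Q8977 (allL N8977 (tt N18217 D28168) (tt N15239 (iv0 F45548)) (tt N18218 D28170) (tt N4316 (iv3 D13446)) (tt N4556 F22377) (tt N9379 (iv5 F23175)) (tt N4877 F22378) (tt N8976 F22379))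
theorem Q8979 : ∀ i, i < 8979 → P i := stepQ 8978 Q8978 (allL N8978 (tt N18219 D28171) (tt N18220 D28172) (tt N18221 D28173) (tt N4317 (iv3 D13447)) (tt N11419 (iv4 F27760)) (tt N9381 (iv5 F23176)) (tt N5060 F26480) (tt N8975 F22381))
theorem Q8980 : ∀ i, i < 8980 → P i := stepQ 8979 Q8979 (allL N8979 (tt N15729 (iv1 F38916)) (tt N4318 (iv0 D13448)) (tt N7423 F22885) (tt N4418 (iv3 F22383)) (tt N7418 F22382) (tt N18222 D28174) (tt N16101 (iv6 F39884)) (tt N4426 F22886))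
theorem Q8981 : ∀ i, i < 8981 → P i := stepQ 8980 Q8980 (allL N8980 (tt N4318 (iv1 D13449)) (tt N15729 F38915) (tt N4426 F22894) (tt N7520 (iv3 F22385)) (tt N7419 (iv4 F22384)) (tt N18223 D28175) (tt N15656 (iv6 F38760)) (tt N7423 (iv7 F22893)))
theorem Q8982 : ∀ i, i < 8982 → P i := stepQ 8981 Q8981 (allL N8981 (tt N18224 D28176) (tt N18225 D28177) (tt N15728 (iv2 F38908)) (tt N4321 F22386) (tt N18226 D28178) (tt N4318 (iv5 D13450)) (tt N8991 (iv6 F22411)) (tt N18227 D28179))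
theorem Q8983 : ∀ i, i < 8983 → P i := stepQ 8982 Q8982 (allL N8982 (tt N4426 (iv1 F22390)) (tt N7423 (iv0 F22391)) (tt N15729 (iv2 F38911)) (tt N4322 F22387) (tt N7519 F22388) (tt N18227 (iv5 F45571)) (tt N8982 F22389) (tt N4318 (iv7 D13451)))
theorem Q8984 : ∀ i, i < 8984 → P i := stepQ 8983 Q8983 (allL N8983 (tt N8992 (iv1 F22417)) (tt N4319 (iv0 D13452)) (tt N7301 (iv2 F22393)) (tt N7697 F22392) (tt N4653 F22510) (tt N18228 D28180) (tt N18229 D28181) (tt N8990 (iv7 F22405)))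
theorem Q8985 : ∀ i, i < 8985 → P i := stepQ 8984 Q8984 (allL N8984 (tt N18230 D28182) (tt N9403 (iv0 F36941)) (tt N8991 (iv2 F22409)) (tt N7521 F22394) (tt N18231 D28183) (tt N4319 (iv5 D13453)) (tt N15728 (iv6 F38910)) (tt N18232 D28184))
theorem Q8986 : ∀ i, i < 8986 → P i := stepQ 8985 Q8985 (allL N8985 (tt N8990 (iv1 F22404)) (tt N7301 (iv0 F22398)) (tt N8992 (iv2 F22412)) (tt N7522 F22395) (tt N4322 F22396) (tt N18232 (iv5 F45587)) (tt N8985 F22397) (tt N4319 (iv7 D13454)))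
theorem Q8987 : ∀ i, i < 8987 → P i := stepQ 8986 Q8986 (allL N8986 (tt N9431 (iv1 F23310)) (tt N9430 F23309) (tt N4434 F22401) (tt N9414 (iv3 F23259)) (tt N18233 D28185) (tt N4320 (iv5 D13455)) (tt N18234 D28186) (tt N8993 (iv7 F22419)))
theorem Q8988 : ∀ i, i < 8988 → P i := stepQ 8987 Q8987 (allL N8987 (tt N8997 (iv1 F22431)) (tt N4321 (iv0 D13456)) (tt N4446 (iv2 F22402)) (tt N9442 (iv3 F23337)) (tt N18235 D28187) (tt N16037 (iv5 F39663)) (tt N18236 D28188) (tt N8995 F22424))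
theorem Q8989 : ∀ i, i < 8989 → P i := stepQ 8988 Q8988 (allL N8988 (tt N18237 D28189) (tt N18238 D28190) (tt N8996 (iv2 F22427)) (tt N18239 D28191) (tt N4321 (iv4 D13457)) (tt N18240 D28192) (tt N14760 (iv6 F37062)) (tt N18241 D28193))
theorem Q8990 : ∀ i, i < 8990 → P i := stepQ 8989 Q8989 (allL N8989 (tt N8995 (iv1 F22421)) (tt N4446 F22425) (tt N8997 (iv2 F22428)) (tt N18227 (iv3 F45570)) (tt N18241 (iv4 F45596)) (tt N4322 F22403) (tt N18242 D28194) (tt N4321 (iv7 D13458)))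
theorem Q8991 : ∀ i, i < 8991 → P i := stepQ 8990 Q8990 (allL N8990 (tt N4323 (iv1 D13459)) (tt N8985 F22404) (tt N4515 F22408) (tt N7701 (iv3 F22406)) (tt N4638 (iv4 F22407)) (tt N18243 D28195) (tt N18244 D28196) (tt N8983 F22405))
theorem Q8992 : ∀ i, i < 8992 → P i := stepQ 8991 Q8991 (allL N8991 (tt N14988 (iv1 F37580)) (tt N18245 D28197) (tt N8984 F22409) (tt N7178 F22410) (tt N18246 D28198) (tt N4323 (iv5 D13460)) (tt N8981 F22411) (tt N18247 D28199))
theorem Q8993 : ∀ i, i < 8993 → P i := stepQ 8992 Q8992 (allL N8992 (tt N4515 (iv1 F22416)) (tt N8983 F22417) (tt N8985 F22412) (tt N4522 F22413) (tt N4326 F22414) (tt N18247 (iv5 F45617)) (tt N8992 F22415) (tt N4323 (iv7 D13461)))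
theorem Q8994 : ∀ i, i < 8994 → P i := stepQ 8993 Q8993 (allL N8993 (tt N9217 (iv1 F22979)) (tt N9216 F22978) (tt N4530 F22418) (tt N9234 (iv3 F23008)) (tt N18248 D28200) (tt N4324 (iv5 D13462)) (tt N18249 D28201) (tt N8986 F22419))
theorem Q8995 : ∀ i, i < 8995 → P i := stepQ 8994 Q8994 (allL N8994 (tt N15709 F38866) (tt N4334 F22628) (tt N4531 F22420) (tt N9235 (iv3 F23010)) (tt N4668 (iv4 F22525)) (tt N15274 (iv5 F38149)) (tt N4324 (iv6 D13463)) (tt N16066 (iv7 F39768)))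
theorem Q8996 : ∀ i, i < 8996 → P i := stepQ 8995 Q8995 (allL N8995 (tt N4325 (iv1 D13465)) (tt N8989 F22421) (tt N4538 F22423) (tt N9258 (iv3 F23025)) (tt N18250 D28202) (tt N7850 (iv5 F22422)) (tt N18251 D28203) (tt N8987 (iv7 F22424)))
theorem Q8997 : ∀ i, i < 8997 → P i := stepQ 8996 Q8996 (allL N8996 (tt N18252 D28204) (tt N18253 D28205) (tt N8988 F22427) (tt N18254 D28206) (tt N4325 (iv4 D13466)) (tt N18255 D28207) (tt N14761 (iv6 F37064)) (tt N18256 D28208))
theorem Q8998 : ∀ i, i < 8998 → P i := stepQ 8997 Q8997 (allL N8997 (tt N4538 (iv1 F22430)) (tt N8987 F22431) (tt N8989 F22428) (tt N15727 (iv3 F38906)) (tt N18256 (iv4 F45638)) (tt N4326 F22429) (tt N18257 D28209) (tt N4325 (iv7 D13467)))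
theorem Q8999 : ∀ i, i < 8999 → P i := stepQ 8998 Q8998 (allL N8998 (tt N4858 F22435) (tt N16792 F41143) (tt N4333 F22432) (tt N7710 F22433) (tt N18258 D28210) (tt N4327 (iv5 D13468)) (tt N18259 D28211) (tt N4337 F22434))
theorem Q9000 : ∀ i, i < 9000 → P i := stepQ 8999 Q8999 (allL N8999 (tt N4531 F37102) (tt N16066 (iv0 F39769)) (tt N4334 F22598) (tt N7711 F22599) (tt N14769 (iv4 F37101)) (tt N7478 F22600) (tt N4327 (iv6 D13469)) (tt N15709 (iv7 F38863)))
theorem Q9001 : ∀ i, i < 9001 → P i := stepQ 9000 Q9000 (allL N9000 (tt N16792 (iv1 F41142)) (tt N4858 (iv0 F22603)) (tt N4337 F22601) (tt N15431 (iv3 F38468)) (tt N18260 D28212) (tt N4328 (iv5 D13470)) (tt N18261 D28213) (tt N4333 F22602))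
theorem Q9002 : ∀ i, i < 9002 → P i := stepQ 9001 Q9001 (allL N9001 (tt N4342 (iv1 F22611)) (tt N4329 (iv0 D13471)) (tt N4339 F22932) (tt N7716 F38957) (tt N18262 D28214) (tt N15684 (iv5 F38816)) (tt N18263 D28215) (tt N4340 F22933))
theorem Q9003 : ∀ i, i < 9003 → P i := stepQ 9002 Q9002 (allL N9002 (tt N4329 (iv1 D13472)) (tt N4342 F22604) (tt N4340 F22929) (tt N16643 (iv3 F40835)) (tt N18264 D28216) (tt N7472 (iv5 F22605)) (tt N18265 D28217) (tt N4339 F22930))
theorem Q9004 : ∀ i, i < 9004 → P i := stepQ 9003 Q9003 (allL N9003 (tt N9829 F24080) (tt N18266 D28218) (tt N4341 F22608) (tt N18267 D28219) (tt N4329 (iv4 D13473)) (tt N18268 D28220) (tt N15195 (iv6 F38014)) (tt N18269 D28221))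
theorem Q9005 : ∀ i, i < 9005 → P i := stepQ 9004 Q9004 (allL N9004 (tt N4340 (iv1 F22612)) (tt N4339 F22613) (tt N4342 F22609) (tt N14767 (iv3 F37085)) (tt N18269 (iv4 F45669)) (tt N4330 F22610) (tt N18270 D28222) (tt N4329 (iv7 D13474)))
theorem Q9006 : ∀ i, i < 9006 → P i := stepQ 9005 Q9005 (allL N9005 (tt N16822 F41233) (tt N18271 D28223) (tt N16186 (iv2 F40099)) (tt N4333 F22615) (tt N18272 D28224) (tt N4331 (iv5 D13475)) (tt N18273 D28225) (tt N15431 (iv7 F38469)))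
theorem Q9007 : ∀ i, i < 9007 → P i := stepQ 9006 Q9006 (allL N9006 (tt N9198 F37937) (tt N18274 D28226) (tt N16187 (iv2 F40103)) (tt N4334 F22616) (tt N15385 (iv4 F38382)) (tt N18015 F45105) (tt N4331 (iv6 D13476)) (tt N18275 D28227))
theorem Q9008 : ∀ i, i < 9008 → P i := stepQ 9007 Q9007 (allL N9007 (tt N4336 (iv1 F22620)) (tt N4332 (iv0 D13477)) (tt N4901 (iv2 F22619)) (tt N7706 F22618) (tt N4700 F22617) (tt N18276 D28228) (tt N9007 F22622) (tt N7688 F22621))
theorem Q9009 : ∀ i, i < 9009 → P i := stepQ 9008 Q9008 (allL N9008 (tt N18277 D28229) (tt N15150 F38722) (tt N14768 (iv2 F37095)) (tt N15386 (iv3 F38388)) (tt N18278 D28230) (tt N4332 (iv5 D13478)) (tt N18279 D28231) (tt N15438 (iv7 F38487)))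
theorem Q9010 : ∀ i, i < 9010 → P i := stepQ 9009 Q9009 (allL N9009 (tt N18244 F45604) (tt N15159 (iv0 F37936)) (tt N14769 (iv2 F37099)) (tt N15387 (iv3 F38393)) (tt N4334 F22623) (tt N18280 D28232) (tt N4332 (iv6 D13479)) (tt N18281 D28233))
theorem Q9011 : ∀ i, i < 9011 → P i := stepQ 9010 Q9010 (allL N9010 (tt N4337 (iv1 F22627)) (tt N4333 (iv0 D13480)) (tt N4858 (iv2 F22626)) (tt N14772 (iv3 F37108)) (tt N18282 D28234) (tt N7673 F22624) (tt N18283 D28235) (tt N16792 (iv7 F41141)))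
theorem Q9012 : ∀ i, i < 9012 → P i := stepQ 9011 Q9011 (allL N9011 (tt N18284 D28236) (tt N18285 D28237) (tt N18258 (iv2 F45643)) (tt N18286 D28238) (tt N4333 (iv4 D13481)) (tt N18287 D28239) (tt N18288 D28240) (tt N18260 (iv7 F45649)))
theorem Q9013 : ∀ i, i < 9013 → P i := stepQ 9012 Q9012 (allL N9012 (tt N18289 D28241) (tt N16800 F101929) (tt N18259 (iv2 F45645)) (tt N18273 (iv3 F45680)) (tt N18288 (iv4 F45727)) (tt N18290 D28243) (tt N4333 (iv6 D13482)) (tt N18291 D28244))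
theorem Q9014 : ∀ i, i < 9014 → P i := stepQ 9013 Q9013 (allL N9013 (tt N7467 F22630) (tt N7480 F22631) (tt N7478 F22629) (tt N18015 (iv3 F45106)) (tt N18292 D28245) (tt N4334 (iv5 D13483)) (tt N18290 (iv6 F45729)) (tt N7477 F22634))
theorem Q9015 : ∀ i, i < 9015 → P i := stepQ 9014 Q9014 (allL N9014 (tt N16066 F39770) (tt N4531 F23858) (tt N15709 (iv2 F38862)) (tt N18275 (iv3 F45685)) (tt N18281 (iv4 F45713)) (tt N7477 (iv5 F22633)) (tt N7868 F22632) (tt N4334 (iv7 D13484)))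
theorem Q9016 : ∀ i, i < 9016 → P i := stepQ 9015 Q9015 (allL N9015 (tt N4597 F22638) (tt N4759 (iv0 F22639)) (tt N7713 F22635) (tt N8895 F22636) (tt N4335 (iv4 D13485)) (tt N18293 D28246) (tt N18294 D28247) (tt N7709 F22637))
theorem Q9017 : ∀ i, i < 9017 → P i := stepQ 9016 Q9016 (allL N9016 (tt N18295 D28248) (tt N9991 F38939) (tt N7714 F22640) (tt N4337 F22641) (tt N18296 D28249) (tt N4335 (iv5 D13486)) (tt N18297 D28250) (tt N7710 F22642))
theorem Q9018 : ∀ i, i < 9018 → P i := stepQ 9017 Q9017 (allL N9017 (tt N18298 D28251) (tt N9390 F38831) (tt N7715 F22643) (tt N4338 F22644) (tt N18294 (iv4 F45740)) (tt N15689 (iv5 F38827)) (tt N4335 (iv6 D13487)) (tt N15708 (iv7 F38860)))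
theorem Q9019 : ∀ i, i < 9019 → P i := stepQ 9018 Q9018 (allL N9018 (tt N15150 (iv1 F38721)) (tt N18277 F45700) (tt N15438 (iv2 F38485)) (tt N14763 (iv3 F37071)) (tt N18299 D28252) (tt N4336 (iv5 D13488)) (tt N18300 D28253) (tt N14768 (iv7 F37097)))
theorem Q9020 : ∀ i, i < 9020 → P i := stepQ 9019 Q9019 (allL N9019 (tt N15173 F39646) (tt N18229 F45580) (tt N15439 (iv2 F38489)) (tt N7896 F22645) (tt N4338 F22646) (tt N15642 (iv5 F38750)) (tt N4336 (iv6 D13489)) (tt N15677 (iv7 F38802)))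
theorem Q9021 : ∀ i, i < 9021 → P i := stepQ 9020 Q9020 (allL N9020 (tt N18285 (iv1 F45725)) (tt N18284 F45724) (tt N18260 (iv2 F45648)) (tt N18301 D28254) (tt N4337 (iv4 D13490)) (tt N18302 D28255) (tt N18303 D28256) (tt N18258 (iv7 F45644)))
theorem Q9022 : ∀ i, i < 9022 → P i := stepQ 9021 Q9021 (allL N9021 (tt N16839 (iv1 F85100)) (tt N18304 D28258) (tt N18261 (iv2 F45650)) (tt N18297 (iv3 F45752)) (tt N18303 (iv4 F45763)) (tt N15691 (iv5 F38835)) (tt N4337 (iv6 D13491)) (tt N18305 D28259))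
theorem Q9023 : ∀ i, i < 9023 → P i := stepQ 9022 Q9022 (allL N9022 (tt N16079 (iv1 F39929)) (tt N15189 F39930) (tt N16639 F40825) (tt N4339 (iv3 D13493)) (tt N16590 (iv4 F40765)) (tt N15699 (iv5 F38840)) (tt N18306 D28260) (tt N16643 (iv7 F40833)))
theorem Q9024 : ∀ i, i < 9024 → P i := stepQ 9023 Q9023 (allL N9023 (tt N18307 D28261) (tt N14940 F39413) (tt N18262 (iv2 F45653)) (tt N18308 D28262) (tt N4339 (iv4 D13494)) (tt N18309 D28263) (tt N18310 D28264) (tt N18264 (iv7 F45658)))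
theorem Q9025 : ∀ i, i < 9025 → P i := stepQ 9024 Q9024 (allL N9024 (tt N18311 D28265) (tt N18312 D28266) (tt N18263 (iv2 F45655)) (tt N18306 (iv3 F45767)) (tt N18310 (iv4 F45771)) (tt N18313 D28267) (tt N4339 (iv6 D13495)) (tt N18314 D28268))
theorem Q9026 : ∀ i, i < 9026 → P i := stepQ 9025 Q9025 (allL N9025 (tt N7705 F23744) (tt N7719 F23745) (tt N7717 (iv2 F24278)) (tt N4340 (iv3 D13497)) (tt N18315 D28269) (tt N9633 F23743) (tt N18316 D28270) (tt N7716 (iv7 F38956)))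
theorem Q9027 : ∀ i, i < 9027 → P i := stepQ 9026 Q9026 (allL N9026 (tt N14940 (iv1 F37474)) (tt N18307 F45769) (tt N18264 (iv2 F45657)) (tt N18317 D28271) (tt N4340 (iv4 D13498)) (tt N18318 D28272) (tt N18319 D28273) (tt N18262 (iv7 F45654)))
theorem Q9028 : ∀ i, i < 9028 → P i := stepQ 9027 Q9027 (allL N9027 (tt N18320 D28274) (tt N18321 D28275) (tt N18265 (iv2 F45659)) (tt N18316 (iv3 F45778)) (tt N18319 (iv4 F45780)) (tt N18322 D28276) (tt N4340 (iv6 D13500)) (tt N18323 D28277))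
theorem Q9029 : ∀ i, i < 9029 → P i := stepQ 9028 Q9028 (allL N9028 (tt N18269 (iv1 F45672)) (tt N4341 (iv0 D13501)) (tt N9829 (iv2 F26050)) (tt N18324 D28278) (tt N9828 F26051) (tt N18325 D28279) (tt N18326 D28280) (tt N18266 (iv7 F45662)))
theorem Q9030 : ∀ i, i < 9030 → P i := stepQ 9029 Q9029 (allL N9029 (tt N4341 (iv1 D13502)) (tt N18269 F45671) (tt N18266 F45664) (tt N18327 D28281) (tt N9736 (iv4 F23935)) (tt N18328 D28282) (tt N18329 D28283) (tt N9829 (iv7 F26043)))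
theorem Q9031 : ∀ i, i < 9031 → P i := stepQ 9030 Q9030 (allL N9030 (tt N18330 D28284) (tt N18331 D28285) (tt N18332 D28286) (tt N4341 (iv3 D13503)) (tt N4347 F22650) (tt N18333 D28287) (tt N12469 F315104) (tt N18334 D28288))
theorem Q9032 : ∀ i, i < 9032 → P i := stepQ 9031 Q9031 (allL N9031 (tt N18335 D28289) (tt N18336 D28290) (tt N18268 (iv2 F45665)) (tt N18333 (iv3 F45786)) (tt N18337 D28291) (tt N4341 (iv5 D13504)) (tt N18338 D28292) (tt N18339 D28293))
theorem Q9033 : ∀ i, i < 9033 → P i := stepQ 9032 Q9032 (allL N9032 (tt N18266 (iv1 F45661)) (tt N9829 (iv0 F24075)) (tt N18269 (iv2 F45668)) (tt N18334 (iv3 F45787)) (tt N4342 F22651) (tt N18339 (iv5 F45802)) (tt N18340 D28294) (tt N4341 (iv7 D13505)))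
theorem Q9034 : ∀ i, i < 9034 → P i := stepQ 9033 Q9033 (allL N9033 (tt N18341 D28295) (tt N18342 D28296) (tt N18270 (iv2 F45673)) (tt N4350 F22652) (tt N18340 (iv4 F45803)) (tt N9033 F22653) (tt N4342 (iv6 D13506)) (tt N15217 (iv7 F38037)))
theorem Q9035 : ∀ i, i < 9035 → P i := stepQ 9034 Q9034 (allL N9034 (tt N18343 D28297) (tt N18344 D28298) (tt N7730 F22654) (tt N4344 F22655) (tt N15136 (iv4 F37903)) (tt N18345 D28299) (tt N4343 (iv6 D13507)) (tt N18346 D28300))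
theorem Q9036 : ∀ i, i < 9036 → P i := stepQ 9035 Q9035 (allL N9035 (tt N14796 (iv1 F37143)) (tt N4344 (iv0 D13508)) (tt N14794 (iv2 F76941)) (tt N18347 D28302) (tt N10050 (iv4 F46741)) (tt N18348 D28304) (tt N10242 (iv6 F317321)) (tt N14795 F76940))
theorem Q9037 : ∀ i, i < 9037 → P i := stepQ 9036 Q9036 (allL N9036 (tt N4344 (iv1 D13509)) (tt N14796 F37142) (tt N14795 F76937) (tt N18312 (iv3 F101867)) (tt N10051 (iv4 F46539)) (tt N18349 D28308) (tt N18350 D28309) (tt N14794 (iv7 F76942)))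
theorem Q9038 : ∀ i, i < 9038 → P i := stepQ 9037 Q9037 (allL N9037 (tt N4533 F22657) (tt N9248 F23019) (tt N9224 (iv2 F22990)) (tt N18345 (iv3 F45806)) (tt N18351 D28310) (tt N4344 (iv5 D13510)) (tt N4527 F22656) (tt N9246 (iv7 F23331)))
theorem Q9039 : ∀ i, i < 9039 → P i := stepQ 9038 Q9038 (allL N9038 (tt N14795 (iv1 F37136)) (tt N14794 F37141) (tt N14796 (iv2 F37137)) (tt N18346 (iv3 F45809)) (tt N16751 (iv4 F41059)) (tt N9246 F23332) (tt N14799 (iv6 F37148)) (tt N4344 (iv7 D13511)))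
theorem Q9040 : ∀ i, i < 9040 → P i := stepQ 9039 Q9039 (allL N9039 (tt N4417 (iv1 F22662)) (tt N4847 F22661) (tt N4345 (iv2 D13512)) (tt N7404 F22658) (tt N18352 D28311) (tt N7403 F22659) (tt N18353 D28312) (tt N7728 F22660))
theorem Q9041 : ∀ i, i < 9041 → P i := stepQ 9040 Q9040 (allL N9040 (tt N16176 (iv1 F40078)) (tt N18354 D28313) (tt N18352 (iv2 F45818)) (tt N16755 (iv3 F41070)) (tt N4345 (iv4 D13513)) (tt N18355 D28314) (tt N18356 D28315) (tt N14792 (iv7 F37134)))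
theorem Q9042 : ∀ i, i < 9042 → P i := stepQ 9041 Q9041 (allL N9041 (tt N18357 D28316) (tt N18358 D28317) (tt N18353 (iv2 F45821)) (tt N4346 F22663) (tt N18356 (iv4 F45827)) (tt N11135 (iv5 F26238)) (tt N4345 (iv6 D13514)) (tt N18359 D28318))
theorem Q9043 : ∀ i, i < 9043 → P i := stepQ 9042 Q9042 (allL N9042 (tt N14799 (iv1 F37152)) (tt N4346 (iv0 D13515)) (tt N14797 (iv2 F78651)) (tt N18320 F166115) (tt N10077 F53697) (tt N14797 F37151) (tt N18360 D28322) (tt N14798 (iv7 F78652)))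
theorem Q9044 : ∀ i, i < 9044 → P i := stepQ 9043 Q9043 (allL N9043 (tt N4346 (iv1 D13516)) (tt N14799 F37150) (tt N14798 F78655) (tt N18361 D28324) (tt N10078 F53663) (tt N14798 (iv5 F37145)) (tt N15219 (iv6 F38039)) (tt N14797 F78656))
theorem Q9045 : ∀ i, i < 9045 → P i := stepQ 9044 Q9044 (allL N9044 (tt N14798 (iv1 F37144)) (tt N14797 F37149) (tt N14799 (iv2 F37146)) (tt N18359 (iv3 F45828)) (tt N10844 (iv4 F316843)) (tt N11140 (iv5 F26242)) (tt N14796 (iv6 F37140)) (tt N4346 (iv7 D13517)))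
theorem Q9046 : ∀ i, i < 9046 → P i := stepQ 9045 Q9045 (allL N9045 (tt N18362 D28326) (tt N4347 (iv0 D13518)) (tt N18363 D28327) (tt N18364 D28328) (tt N18365 D28329) (tt N18366 D28330) (tt N18367 D28331) (tt N18368 D28332))
theorem Q9047 : ∀ i, i < 9047 → P i := stepQ 9046 Q9046 (allL N9046 (tt N4347 (iv1 D13519)) (tt N18362 F45837) (tt N18368 (iv2 F45839)) (tt N18369 D28333) (tt N18370 D28334) (tt N18371 D28335) (tt N18372 D28336) (tt N18363 F45838))
theorem Q9048 : ∀ i, i < 9048 → P i := stepQ 9047 Q9047 (allL N9047 (tt N18363 F102766) (tt N18368 (iv0 F102767)) (tt N4347 (iv2 D13520)) (tt N14802 (iv3 F37153)) (tt N18332 (iv4 F45785)) (tt N18373 D28339) (tt N12655 F314594) (tt N18362 (iv7 F45836)))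
theorem Q9049 : ∀ i, i < 9049 → P i := stepQ 9048 Q9048 (allL N9048 (tt N10584 (iv1 F316523)) (tt N10014 (iv0 F317309)) (tt N18373 (iv2 F45842)) (tt N4348 F22664) (tt N16812 (iv4 F316392)) (tt N4347 (iv5 D13521)) (tt N18374 D28343) (tt N14829 (iv7 F37190)))
theorem Q9050 : ∀ i, i < 9050 → P i := stepQ 9049 Q9049 (allL N9049 (tt N18368 (iv1 F102768)) (tt N18363 F102765) (tt N18362 F45835) (tt N4349 F22665) (tt N18334 (iv4 F45788)) (tt N14829 (iv5 F37189)) (tt N18375 D28344) (tt N4347 (iv7 D13522)))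
theorem Q9051 : ∀ i, i < 9051 → P i := stepQ 9050 Q9050 (allL N9050 (tt N18376 D28345) (tt N18377 D28346) (tt N14804 (iv2 F37156)) (tt N18374 (iv3 F45843)) (tt N14834 (iv4 F37202)) (tt N15223 (iv5 F38055)) (tt N4348 (iv6 D13523)) (tt N18378 D28347))
theorem Q9052 : ∀ i, i < 9052 → P i := stepQ 9051 Q9051 (allL N9051 (tt N10130 F94129) (tt N10134 (iv0 F94130)) (tt N10041 (iv2 F24346)) (tt N18375 (iv3 F45844)) (tt N4350 F22666) (tt N18379 D28350) (tt N4349 (iv6 D13524)) (tt N15224 (iv7 F38057)))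
theorem Q9053 : ∀ i, i < 9053 → P i := stepQ 9052 Q9052 (allL N9052 (tt N7494 (iv1 F22667)) (tt N4350 (iv0 D13525)) (tt N14805 F45485) (tt N18380 D28351) (tt N16782 (iv4 F94145)) (tt N18381 D28353) (tt N18382 D28354) (tt N14806 F45483))
theorem Q9054 : ∀ i, i < 9054 → P i := stepQ 9053 Q9053 (allL N9053 (tt N4350 (iv1 D13526)) (tt N7494 F22668) (tt N14806 (iv2 F45482)) (tt N18383 D28355) (tt N16783 F94151) (tt N18384 D28357) (tt N18193 (iv6 F45448)) (tt N14805 (iv7 F45484)))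
theorem Q9055 : ∀ i, i < 9055 → P i := stepQ 9054 Q9054 (allL N9054 (tt N4364 F22672) (tt N7154 F22673) (tt N7405 F22669) (tt N11398 (iv3 F27701)) (tt N4351 (iv4 D13527)) (tt N16301 (iv5 F40291)) (tt N8972 F22670) (tt N7977 F22671))
theorem Q9056 : ∀ i, i < 9056 → P i := stepQ 9055 Q9055 (allL N9055 (tt N7154 F22677) (tt N4364 F22678) (tt N7977 F22674) (tt N18385 D28358) (tt N4352 (iv4 D13528)) (tt N16300 (iv5 F40285)) (tt N8038 F22675) (tt N7405 F22676))
theorem Q9057 : ∀ i, i < 9057 → P i := stepQ 9056 Q9056 (allL N9056 (tt N18386 D28359) (tt N11411 (iv0 F27742)) (tt N18387 D28360) (tt N4353 (iv3 D13529)) (tt N4358 F22679) (tt N16340 (iv5 F40357)) (tt N18388 D28361) (tt N14808 (iv7 F37164)))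
theorem Q9058 : ∀ i, i < 9058 → P i := stepQ 9057 Q9057 (allL N9057 (tt N11433 F27785) (tt N16282 (iv0 F40258)) (tt N14878 (iv2 F37339)) (tt N18388 (iv3 F45856)) (tt N4354 F22680) (tt N18389 D28362) (tt N4353 (iv6 D13530)) (tt N14969 (iv7 F37548)))
theorem Q9059 : ∀ i, i < 9059 → P i := stepQ 9058 Q9058 (allL N9058 (tt N4354 (iv1 D13531)) (tt N7321 F22681) (tt N10681 (iv2 F25247)) (tt N9058 F22683) (tt N18390 D28363) (tt N7260 (iv5 F22682)) (tt N11446 (iv6 F27802)) (tt N11222 (iv7 F27334)))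
theorem Q9060 : ∀ i, i < 9060 → P i := stepQ 9059 Q9059 (allL N9059 (tt N7153 F22687) (tt N7975 (iv0 F22688)) (tt N7393 F22684) (tt N16063 (iv3 F39752)) (tt N4356 (iv4 D13532)) (tt N14982 (iv5 F37564)) (tt N7279 F22685) (tt N7914 F22686))
theorem Q9061 : ∀ i, i < 9061 → P i := stepQ 9060 Q9060 (allL N9060 (tt N14811 (iv1 F37170)) (tt N4358 (iv0 D13533)) (tt N14810 (iv2 F50551)) (tt N16844 F41285) (tt N18391 D28365) (tt N16899 (iv5 F50546)) (tt N18392 D28367) (tt N14809 (iv7 F50530)))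
theorem Q9062 : ∀ i, i < 9062 → P i := stepQ 9061 Q9061 (allL N9061 (tt N4358 (iv1 D13534)) (tt N14811 F37172) (tt N14809 (iv2 F50529)) (tt N8613 (iv3 F50531)) (tt N18393 D28370) (tt N16900 (iv5 F50532)) (tt N8611 (iv6 F50533)) (tt N14810 (iv7 F50555)))
theorem Q9063 : ∀ i, i < 9063 → P i := stepQ 9062 Q9062 (allL N9062 (tt N14810 (iv1 F37171)) (tt N14809 F37166) (tt N4358 (iv2 D13535)) (tt N10486 (iv3 F26916)) (tt N18387 (iv4 F45855)) (tt N10437 (iv5 F24819)) (tt N18394 D28373) (tt N14811 (iv7 F37169)))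
theorem Q9064 : ∀ i, i < 9064 → P i := stepQ 9063 Q9063 (allL N9063 (tt N11489 (iv1 F55632)) (tt N18395 D28375) (tt N18394 (iv2 F45866)) (tt N4359 F22689) (tt N18388 (iv4 F45857)) (tt N18396 D28376) (tt N4358 (iv6 D13536)) (tt N15235 (iv7 F38088)))
theorem Q9065 : ∀ i, i < 9065 → P i := stepQ 9064 Q9064 (allL N9064 (tt N8354 F22690) (tt N8356 F22691) (tt N10722 F25353) (tt N18396 (iv3 F45867)) (tt N11118 (iv4 F315181)) (tt N4359 (iv5 D13537)) (tt N10442 (iv6 F24821)) (tt N10721 F25350))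
theorem Q9066 : ∀ i, i < 9066 → P i := stepQ 9065 Q9065 (allL N9065 (tt N7152 (iv1 F22694)) (tt N4361 (iv0 D13538)) (tt N7659 (iv2 F22693)) (tt N16055 (iv3 F39712)) (tt N16213 (iv4 F40164)) (tt N7402 F22692) (tt N18071 F45253) (tt N7401 F22695))
theorem Q9067 : ∀ i, i < 9067 → P i := stepQ 9066 Q9066 (allL N9066 (tt N18397 D28378) (tt N15118 (iv0 F37879)) (tt N7984 F22696) (tt N18398 D28379) (tt N4361 (iv4 D13539)) (tt N18399 D28380) (tt N18400 D28381) (tt N7973 F22697))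
theorem Q9068 : ∀ i, i < 9068 → P i := stepQ 9067 Q9067 (allL N9067 (tt N18401 D28382) (tt N16057 (iv0 F39720)) (tt N7985 F22698) (tt N9988 (iv3 F24273)) (tt N18400 (iv4 F45881)) (tt N15149 (iv5 F37917)) (tt N4361 (iv6 D13540)) (tt N18402 D28383))
theorem Q9069 : ∀ i, i < 9069 → P i := stepQ 9068 Q9068 (allL N9068 (tt N7233 F22702) (tt N7203 F22703) (tt N7976 F22699) (tt N10216 (iv3 F24520)) (tt N4363 (iv4 D13541)) (tt N16314 (iv5 F40325)) (tt N5670 F22700) (tt N7878 F22701))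
theorem Q9070 : ∀ i, i < 9070 → P i := stepQ 9069 Q9069 (allL N9069 (tt N18403 D28384) (tt N18404 D28385) (tt N18405 D28386) (tt N4364 (iv3 D13542)) (tt N4365 F22704) (tt N18406 D28387) (tt N14970 (iv6 F37551)) (tt N7978 F22705))
theorem Q9071 : ∀ i, i < 9071 → P i := stepQ 9070 Q9070 (allL N9070 (tt N7253 F22708) (tt N14885 F37355) (tt N7987 F22706) (tt N18406 (iv3 F45898)) (tt N18407 D28388) (tt N4364 (iv5 D13543)) (tt N18408 D28389) (tt N7979 F22707))
theorem Q9072 : ∀ i, i < 9072 → P i := stepQ 9071 Q9071 (allL N9071 (tt N4365 (iv1 D13545)) (tt N10486 F26920) (tt N10488 F26919) (tt N18409 D28390) (tt N18410 D28391) (tt N16877 F41446) (tt N17339 (iv6 F42814)) (tt N10485 F26914))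
theorem Q9073 : ∀ i, i < 9073 → P i := stepQ 9072 Q9072 (allL N9072 (tt N10485 (iv1 F26896)) (tt N10488 F26895) (tt N4365 (iv2 D13546)) (tt N14811 (iv3 F37167)) (tt N18405 (iv4 F45894)) (tt N10444 (iv5 F24822)) (tt N9521 (iv6 F26828)) (tt N10486 (iv7 F26917)))
theorem Q9074 : ∀ i, i < 9074 → P i := stepQ 9073 Q9073 (allL N9073 (tt N11400 F27711) (tt N4366 (iv0 D13547)) (tt N11223 (iv2 F27338)) (tt N4897 F26387) (tt N14882 (iv4 F37350)) (tt N8942 F26388) (tt N5095 F22709) (tt N8942 F26389))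
theorem Q9075 : ∀ i, i < 9075 → P i := stepQ 9074 Q9074 (allL N9074 (tt N4366 (iv1 D13548)) (tt N11400 (iv0 F27710)) (tt N8942 F26791) (tt N9074 F26792) (tt N14880 (iv4 F37346)) (tt N11223 (iv5 F27340)) (tt N8944 (iv6 F26790)) (tt N11223 (iv7 F27341)))
theorem Q9076 : ∀ i, i < 9076 → P i := stepQ 9075 Q9075 (allL N9075 (tt N8942 F26922) (tt N11223 (iv0 F27342)) (tt N11400 (iv2 F27708)) (tt N4369 F22711) (tt N16317 (iv4 F40330)) (tt N8536 F22712) (tt N11805 (iv6 F28406)) (tt N4366 (iv7 D13549)))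
theorem Q9077 : ∀ i, i < 9077 → P i := stepQ 9076 Q9076 (allL N9076 (tt N15177 (iv1 F37982)) (tt N16272 (iv0 F40244)) (tt N7995 F22713) (tt N10375 (iv3 F24724)) (tt N18411 D28392) (tt N4370 (iv5 D13550)) (tt N18412 D28393) (tt N7989 F22714))
theorem Q9078 : ∀ i, i < 9078 → P i := stepQ 9077 Q9077 (allL N9077 (tt N18413 D28394) (tt N16154 F40019) (tt N7996 F22715) (tt N10376 (iv3 F24725)) (tt N4371 F22716) (tt N13429 (iv5 F32554)) (tt N4370 (iv6 D13551)) (tt N18414 D28395))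
theorem Q9079 : ∀ i, i < 9079 → P i := stepQ 9078 Q9078 (allL N9078 (tt N5671 (iv1 F22720)) (tt N7997 F22721) (tt N7998 F22717) (tt N4372 F22718) (tt N18414 (iv4 F45924)) (tt N9177 (iv5 F22845)) (tt N7993 F22719) (tt N4371 (iv7 D13552)))
theorem Q9080 : ∀ i, i < 9080 → P i := stepQ 9079 Q9079 (allL N9079 (tt N4374 (iv1 F22725)) (tt N4373 (iv0 D13553)) (tt N4377 (iv2 F22722)) (tt N14812 (iv3 F37174)) (tt N4966 F22723) (tt N18415 D28396) (tt N18416 D28397) (tt N4375 F22724))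
theorem Q9081 : ∀ i, i < 9081 → P i := stepQ 9080 Q9080 (allL N9080 (tt N4377 (iv1 F54300)) (tt N4375 (iv0 F54301)) (tt N4373 (iv2 D13554)) (tt N14817 F54299) (tt N14814 (iv4 F54303)) (tt N18417 D28402) (tt N14814 (iv6 F54304)) (tt N4374 (iv7 F22726)))
theorem Q9082 : ∀ i, i < 9082 → P i := stepQ 9081 Q9081 (allL N9081 (tt N16859 F41376) (tt N18418 D28404) (tt N16325 (iv2 F54329)) (tt N4373 (iv3 D13555)) (tt N16323 (iv4 F54328)) (tt N18419 D28406) (tt N18420 D28407) (tt N16330 (iv7 F54311)))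
theorem Q9083 : ∀ i, i < 9083 → P i := stepQ 9082 Q9082 (allL N9082 (tt N18421 D28409) (tt N16850 (iv0 F41306)) (tt N14814 (iv2 F54302)) (tt N18420 (iv3 F50771)) (tt N4373 (iv4 D13556)) (tt N18422 D28411) (tt N4373 F50767) (tt N18423 D28413))
theorem Q9084 : ∀ i, i < 9084 → P i := stepQ 9083 Q9083 (allL N9083 (tt N18424 D28414) (tt N10211 F50766) (tt N18417 (iv2 F45945)) (tt N18419 (iv3 F45948)) (tt N18425 D28416) (tt N4373 (iv5 D13557)) (tt N18426 D28417) (tt N18427 D28418))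
theorem Q9085 : ∀ i, i < 9085 → P i := stepQ 9084 Q9084 (allL N9084 (tt N4375 F54308) (tt N4377 F54309) (tt N4374 F22727) (tt N16330 (iv3 F54310)) (tt N18423 (iv4 F45957)) (tt N18427 (iv5 F45961)) (tt N18428 D28423) (tt N4373 (iv7 D13559)))
theorem Q9086 : ∀ i, i < 9086 → P i := stepQ 9085 Q9085 (allL N9085 (tt N18429 D28424) (tt N16849 (iv0 F45944)) (tt N18430 D28425) (tt N4374 (iv3 D13560)) (tt N18431 D28426) (tt N18432 D28427) (tt N18433 D28428) (tt N14817 (iv7 F54298)))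
theorem Q9087 : ∀ i, i < 9087 → P i := stepQ 9086 Q9086 (allL N9086 (tt N16850 (iv1 F45943)) (tt N18421 F45958) (tt N18423 (iv2 F45956)) (tt N14818 (iv3 F54296)) (tt N4374 (iv4 D13561)) (tt N18434 D28429) (tt N18435 D28430) (tt N14814 (iv7 F54305)))
theorem Q9088 : ∀ i, i < 9088 → P i := stepQ 9087 Q9087 (allL N9087 (tt N10211 (iv1 F50761)) (tt N18424 F45962) (tt N18427 (iv2 F45960)) (tt N18432 (iv3 F45969)) (tt N18436 D28431) (tt N4374 (iv5 D13562)) (tt N18437 D28432) (tt N18417 (iv7 F45946)))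
theorem Q9089 : ∀ i, i < 9089 → P i := stepQ 9088 Q9088 (allL N9088 (tt N11806 (iv1 F54166)) (tt N18438 D28434) (tt N18428 (iv2 F45963)) (tt N18433 (iv3 F45970)) (tt N18435 (iv4 F45971)) (tt N18439 D28435) (tt N4374 (iv6 D13563)) (tt N18435 (iv7 F51007)))
theorem Q9090 : ∀ i, i < 9090 → P i := stepQ 9089 Q9089 (allL N9089 (tt N18440 D28445) (tt N18441 D28446) (tt N4376 F22730) (tt N14823 (iv3 F37184)) (tt N18442 D28447) (tt N4375 (iv5 D13566)) (tt N18443 D28448) (tt N18415 (iv7 F45930)))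
theorem Q9091 : ∀ i, i < 9091 → P i := stepQ 9090 Q9090 (allL N9090 (tt N18415 (iv1 F45932)) (tt N4376 (iv0 D13567)) (tt N18440 (iv2 F55523)) (tt N18444 D28450) (tt N18445 D28451) (tt N16805 (iv5 F50824)) (tt N18446 D28453) (tt N18441 (iv7 F55526)))
theorem Q9092 : ∀ i, i < 9092 → P i := stepQ 9091 Q9091 (allL N9091 (tt N4376 (iv1 D13568)) (tt N18415 F45931) (tt N18441 (iv2 F55525)) (tt N18447 D28455) (tt N13651 (iv4 F314107)) (tt N16806 (iv5 F50886)) (tt N12039 F312042) (tt N18440 (iv7 F55524)))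
theorem Q9093 : ∀ i, i < 9093 → P i := stepQ 9092 Q9092 (allL N9092 (tt N18448 D28459) (tt N13728 F314850) (tt N18442 (iv2 F45979)) (tt N18449 D28461) (tt N4376 (iv4 D13569)) (tt N18450 D28462) (tt N18451 D28463) (tt N18452 D28464))
theorem Q9094 : ∀ i, i < 9094 → P i := stepQ 9093 Q9093 (allL N9093 (tt N18453 D28465) (tt N18454 D28466) (tt N18443 (iv2 F45980)) (tt N4379 F22731) (tt N18451 (iv4 F45986)) (tt N4401 F22732) (tt N4376 (iv6 D13570)) (tt N18455 D28467))
theorem Q9095 : ∀ i, i < 9095 → P i := stepQ 9094 Q9094 (allL N9094 (tt N18441 (iv1 F45977)) (tt N18440 F45976) (tt N18415 (iv2 F45929)) (tt N4380 F22733) (tt N18452 (iv4 F45987)) (tt N4377 F22734) (tt N18456 D28468) (tt N4376 (iv7 D13571)))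
theorem Q9096 : ∀ i, i < 9096 → P i := stepQ 9095 Q9095 (allL N9095 (tt N18457 D28469) (tt N18458 D28470) (tt N18416 (iv2 F45933)) (tt N4381 F22735) (tt N4982 F22736) (tt N18459 D28471) (tt N4377 (iv6 D13572)) (tt N4403 F22737))
theorem Q9097 : ∀ i, i < 9097 → P i := stepQ 9096 Q9096 (allL N9096 (tt N18460 D28472) (tt N18461 D28473) (tt N18462 D28474) (tt N4378 (iv3 D13573)) (tt N18449 (iv4 F45985)) (tt N10040 (iv5 F24344)) (tt N18463 D28475) (tt N14803 (iv7 F37155)))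
theorem Q9098 : ∀ i, i < 9098 → P i := stepQ 9097 Q9097 (allL N9097 (tt N10459 (iv1 F51204)) (tt N10463 F28981) (tt N14830 (iv2 F37191)) (tt N18463 (iv3 F45999)) (tt N4379 F22738) (tt N18464 D28477) (tt N4378 (iv6 D13574)) (tt N18465 D28478))
theorem Q9099 : ∀ i, i < 9099 → P i := stepQ 9098 Q9098 (allL N9098 (tt N14833 (iv1 F37200)) (tt N4379 (iv0 D13575)) (tt N14831 (iv2 F43201)) (tt N18466 D28479) (tt N16966 (iv4 F43130)) (tt N18467 D28480) (tt N18468 D28481) (tt N14832 F43200))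
theorem Q9100 : ∀ i, i < 9100 → P i := stepQ 9099 Q9099 (allL N9099 (tt N4379 (iv1 D13576)) (tt N14833 F37199) (tt N14832 F43197) (tt N18469 D28482) (tt N16967 F43127) (tt N17428 (iv5 F43119)) (tt N18470 D28483) (tt N14831 (iv7 F43199)))
theorem Q9101 : ∀ i, i < 9101 → P i := stepQ 9100 Q9100 (allL N9100 (tt N14832 (iv1 F37193)) (tt N14831 F37198) (tt N14833 (iv2 F37196)) (tt N18455 (iv3 F45988)) (tt N18465 (iv4 F46000)) (tt N4406 F22739) (tt N18471 D28484) (tt N4379 (iv7 D13577)))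
theorem Q9102 : ∀ i, i < 9102 → P i := stepQ 9101 Q9101 (allL N9101 (tt N18472 D28485) (tt N18473 D28486) (tt N14834 (iv2 F37201)) (tt N18456 (iv3 F45990)) (tt N14804 (iv4 F37157)) (tt N18474 D28487) (tt N4380 (iv6 D13578)) (tt N18471 (iv7 F46006)))
theorem Q9103 : ∀ i, i < 9103 → P i := stepQ 9102 Q9102 (allL N9102 (tt N11050 (iv1 F25976)) (tt N11049 (iv0 F25953)) (tt N11379 (iv2 F27654)) (tt N18459 (iv3 F45997)) (tt N18475 D28488) (tt N4381 (iv5 D13579)) (tt N18474 (iv6 F46007)) (tt N4408 F22740))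
theorem Q9104 : ∀ i, i < 9104 → P i := stepQ 9103 Q9103 (allL N9103 (tt N18476 D28489) (tt N18477 D28490) (tt N8052 F22741) (tt N10817 (iv3 F25580)) (tt N14743 (iv4 F37044)) (tt N18478 D28491) (tt N4382 (iv6 D13580)) (tt N18479 D28492))
theorem Q9105 : ∀ i, i < 9105 → P i := stepQ 9104 Q9104 (allL N9104 (tt N8056 F22746) (tt N4383 (iv0 D13581)) (tt N8053 (iv2 F22743)) (tt N18480 D28493) (tt N7260 F22742) (tt N18481 D28494) (tt N11382 (iv6 F27667)) (tt N8054 (iv7 F22744)))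
theorem Q9106 : ∀ i, i < 9106 → P i := stepQ 9105 Q9105 (allL N9105 (tt N4383 (iv1 D13582)) (tt N8056 F22747) (tt N8054 F22750) (tt N11386 (iv3 F27675)) (tt N5095 (iv4 F22749)) (tt N18482 D28495) (tt N14882 (iv6 F37351)) (tt N8053 F22748))
theorem Q9107 : ∀ i, i < 9107 → P i := stepQ 9106 Q9106 (allL N9106 (tt N18483 D28496) (tt N18484 D28497) (tt N8055 F22751) (tt N10820 (iv3 F25581)) (tt N18485 D28498) (tt N4383 (iv5 D13583)) (tt N18478 (iv6 F46014)) (tt N18486 D28499))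
theorem Q9108 : ∀ i, i < 9108 → P i := stepQ 9107 Q9107 (allL N9107 (tt N8054 (iv1 F22755)) (tt N8053 F22756) (tt N8056 F22752) (tt N10821 (iv3 F25582)) (tt N4385 F22753) (tt N18486 (iv5 F46040)) (tt N7910 F22754) (tt N4383 (iv7 D13584)))
theorem Q9109 : ∀ i, i < 9109 → P i := stepQ 9108 Q9108 (allL N9108 (tt N8069 F22759) (tt N5351 (iv0 F22760)) (tt N8057 F22757) (tt N10710 (iv3 F25326)) (tt N4384 (iv4 D13585)) (tt N18487 D28500) (tt N17118 (iv6 F42277)) (tt N8058 F22758))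
theorem Q9110 : ∀ i, i < 9110 → P i := stepQ 9109 Q9109 (allL N9109 (tt N7155 F22764) (tt N7410 (iv0 F22765)) (tt N7981 F22761) (tt N5354 F22762) (tt N18488 D28501) (tt N4384 (iv5 D13586)) (tt N16556 (iv6 F40678)) (tt N5506 F22763))
theorem Q9111 : ∀ i, i < 9111 → P i := stepQ 9110 Q9110 (allL N9110 (tt N4399 (iv1 F22769)) (tt N4398 F22770) (tt N4402 F22766) (tt N6095 F22767) (tt N18489 D28502) (tt N4386 (iv5 D13587)) (tt N18490 D28503) (tt N4397 F22768))
theorem Q9112 : ∀ i, i < 9112 → P i := stepQ 9111 Q9111 (allL N9111 (tt N18458 (iv1 F45993)) (tt N18457 F45992) (tt N4403 F22771) (tt N11373 (iv3 F27649)) (tt N5173 F22772) (tt N18491 D28504) (tt N4386 (iv6 D13588)) (tt N18416 (iv7 F45935)))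
theorem Q9113 : ∀ i, i < 9113 → P i := stepQ 9112 Q9112 (allL N9112 (tt N10750 F37253) (tt N5097 F37254) (tt N16477 (iv2 F40579)) (tt N4387 (iv3 D13591)) (tt N14839 (iv4 F37275)) (tt N18492 D28505) (tt N18493 D28506) (tt N4393 F22775))
theorem Q9114 : ∀ i, i < 9114 → P i := stepQ 9113 Q9113 (allL N9113 (tt N5085 F37255) (tt N10500 F37256) (tt N4390 F22778) (tt N18492 (iv3 F46058)) (tt N18494 D28507) (tt N4387 (iv5 D13593)) (tt N18495 D28508) (tt N4395 F22779))
theorem Q9115 : ∀ i, i < 9115 → P i := stepQ 9114 Q9114 (allL N9114 (tt N4491 F54029) (tt N9545 F54030) (tt N4391 F22780) (tt N18493 (iv3 F46060)) (tt N14836 F37257) (tt N18496 D28511) (tt N4387 (iv6 D13594)) (tt N9544 (iv7 F54055)))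
theorem Q9116 : ∀ i, i < 9116 → P i := stepQ 9115 Q9115 (allL N9115 (tt N4388 (iv1 D13596)) (tt N16480 F40592) (tt N5078 F25526) (tt N10809 (iv3 F25525)) (tt N8410 (iv4 F25530)) (tt N18497 D28513) (tt N18418 (iv6 F50396)) (tt N16476 (iv7 F40577)))
theorem Q9117 : ∀ i, i < 9117 → P i := stepQ 9116 Q9116 (allL N9116 (tt N10538 (iv1 F42433)) (tt N18498 D28515) (tt N16478 (iv2 F40584)) (tt N4390 F22781) (tt N17357 F42857) (tt N4388 (iv5 D13598)) (tt N18499 D28516) (tt N16491 (iv7 F40604)))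
theorem Q9118 : ∀ i, i < 9118 → P i := stepQ 9117 Q9117 (allL N9117 (tt N18500 D28517) (tt N18501 D28518) (tt N16479 (iv2 F40587)) (tt N4391 F22782) (tt N16472 (iv4 F40570)) (tt N18502 D28519) (tt N4388 (iv6 D13599)) (tt N18503 D28520))
theorem Q9119 : ∀ i, i < 9119 → P i := stepQ 9118 Q9118 (allL N9118 (tt N4394 (iv1 F22790)) (tt N4389 (iv0 D13601)) (tt N5098 F25408) (tt N10750 (iv3 F25407)) (tt N5149 F22784) (tt N18504 D28521) (tt N17055 (iv6 F42031)) (tt N10865 (iv7 F25653)))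
theorem Q9120 : ∀ i, i < 9120 → P i := stepQ 9119 Q9119 (allL N9119 (tt N5075 F22786) (tt N10809 F25529) (tt N11371 (iv2 F27639)) (tt N4389 (iv3 D13603)) (tt N16470 (iv4 F40561)) (tt N18505 D28522) (tt N18506 D28523) (tt N14845 (iv7 F37286)))
theorem Q9121 : ∀ i, i < 9121 → P i := stepQ 9120 Q9120 (allL N9120 (tt N18507 D28524) (tt N10614 (iv0 F26705)) (tt N14835 (iv2 F37267)) (tt N18505 (iv3 F46089)) (tt N13027 F301836) (tt N4389 (iv5 D13604)) (tt N13026 F301837) (tt N18508 D28526))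
theorem Q9122 : ∀ i, i < 9122 → P i := stepQ 9121 Q9121 (allL N9121 (tt N18509 D28527) (tt N9547 (iv0 F54066)) (tt N14836 (iv2 F37258)) (tt N18506 (iv3 F46091)) (tt N4391 F22787) (tt N15330 (iv5 F50859)) (tt N4389 (iv6 D13605)) (tt N18510 D28530))
theorem Q9123 : ∀ i, i < 9123 → P i := stepQ 9122 Q9122 (allL N9122 (tt N10865 F37240) (tt N5098 F37241) (tt N4394 F22788) (tt N14845 (iv3 F37285)) (tt N4392 F22789) (tt N18508 (iv5 F46097)) (tt N18457 (iv6 F50871)) (tt N4389 (iv7 D13606)))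
theorem Q9124 : ∀ i, i < 9124 → P i := stepQ 9123 Q9123 (allL N9123 (tt N4395 (iv1 F22794)) (tt N4390 (iv0 D13607)) (tt N5085 F25729) (tt N10516 F25730) (tt N18511 D28532) (tt N5258 F25731) (tt N18512 D28533) (tt N10500 F25732))
theorem Q9125 : ∀ i, i < 9125 → P i := stepQ 9124 Q9124 (allL N9124 (tt N18513 D28534) (tt N18514 D28535) (tt N18494 (iv2 F46061)) (tt N18515 D28536) (tt N4390 (iv4 D13609)) (tt N18516 D28537) (tt N18517 D28538) (tt N18518 D28539))
theorem Q9126 : ∀ i, i < 9126 → P i := stepQ 9125 Q9125 (allL N9125 (tt N18519 D28540) (tt N11992 F299516) (tt N18495 (iv2 F46063)) (tt N18499 (iv3 F46082)) (tt N18517 (iv4 F46111)) (tt N18520 D28542) (tt N4390 (iv6 D13610)) (tt N18521 D28543))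
theorem Q9127 : ∀ i, i < 9127 → P i := stepQ 9126 Q9126 (allL N9126 (tt N10500 F37251) (tt N5085 F37252) (tt N4395 F22792) (tt N16491 (iv3 F40603)) (tt N18518 (iv4 F46113)) (tt N4392 F22793) (tt N18522 D28544) (tt N4390 (iv7 D13611)))
theorem Q9128 : ∀ i, i < 9128 → P i := stepQ 9127 Q9127 (allL N9127 (tt N9544 (iv1 F54005)) (tt N4391 (iv0 D13612)) (tt N4491 (iv2 F54002)) (tt N9539 (iv3 F54016)) (tt N5190 F50976) (tt N18523 D28548) (tt N18438 (iv6 F54185)) (tt N9545 (iv7 F54000)))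
theorem Q9129 : ∀ i, i < 9129 → P i := stepQ 9128 Q9128 (allL N9128 (tt N18524 D28555) (tt N9556 (iv0 F50878)) (tt N18496 (iv2 F46065)) (tt N18502 (iv3 F46083)) (tt N18525 D28557) (tt N4391 (iv5 D13614)) (tt N18520 (iv6 F46114)) (tt N18526 D28558))
theorem Q9130 : ∀ i, i < 9130 → P i := stepQ 9129 Q9129 (allL N9129 (tt N9545 F54032) (tt N4491 F54033) (tt N9544 (iv2 F54054)) (tt N18503 (iv3 F46084)) (tt N18510 (iv4 F46099)) (tt N18526 (iv5 F46118)) (tt N17054 (iv6 F50834)) (tt N4391 (iv7 D13615)))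
theorem Q9131 : ∀ i, i < 9131 → P i := stepQ 9130 Q9130 (allL N9130 (tt N17055 F50861) (tt N5111 (iv0 F50862)) (tt N4396 F22795) (tt N16492 (iv3 F40607)) (tt N18457 (iv4 F50870)) (tt N18527 D28562) (tt N4392 (iv6 D13616)) (tt N17054 (iv7 F50835)))
theorem Q9132 : ∀ i, i < 9132 → P i := stepQ 9131 Q9131 (allL N9131 (tt N16477 F40582) (tt N4393 (iv0 D13617)) (tt N5097 F25450) (tt N10865 (iv3 F25652)) (tt N8384 F22796) (tt N18528 D28563) (tt N18429 (iv6 F45966)) (tt N10750 (iv7 F25449)))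
theorem Q9133 : ∀ i, i < 9133 → P i := stepQ 9132 Q9132 (allL N9132 (tt N5097 F37259) (tt N10750 F37260) (tt N4393 (iv2 D13619)) (tt N16480 (iv3 F40590)) (tt N14924 F37448) (tt N18529 D28564) (tt N11375 (iv6 F51728)) (tt N16477 (iv7 F40583)))
theorem Q9134 : ∀ i, i < 9134 → P i := stepQ 9133 Q9133 (allL N9133 (tt N5126 (iv1 F25379)) (tt N5122 (iv0 F22797)) (tt N14924 (iv2 F37446)) (tt N11369 (iv3 F27632)) (tt N4393 (iv4 D13620)) (tt N18530 D28566) (tt N18531 D28567) (tt N14839 (iv7 F37276)))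
theorem Q9135 : ∀ i, i < 9135 → P i := stepQ 9134 Q9134 (allL N9134 (tt N18532 D28568) (tt N10610 (iv0 F46145)) (tt N18529 (iv2 F46130)) (tt N4395 F22798) (tt N18533 D28569) (tt N4393 (iv5 D13621)) (tt N18534 D28570) (tt N18492 (iv7 F46059)))
theorem Q9136 : ∀ i, i < 9136 → P i := stepQ 9135 Q9135 (allL N9135 (tt N11373 (iv1 F50933)) (tt N11377 (iv0 F50934)) (tt N11375 (iv2 F51727)) (tt N4396 F22799) (tt N18531 (iv4 F46146)) (tt N18535 D28573) (tt N4393 (iv6 D13622)) (tt N11374 (iv7 F50865)))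
theorem Q9137 : ∀ i, i < 9137 → P i := stepQ 9136 Q9136 (allL N9136 (tt N10614 F25750) (tt N18507 F46094) (tt N18508 (iv2 F46095)) (tt N10520 (iv3 F43047)) (tt N17395 F43045) (tt N4394 (iv5 D13623)) (tt N18536 D28575) (tt N14835 F37268))
theorem Q9138 : ∀ i, i < 9138 → P i := stepQ 9137 Q9137 (allL N9137 (tt N4403 (iv1 F50825)) (tt N18416 (iv0 F50826)) (tt N18457 (iv2 F50869)) (tt N11370 (iv3 F27636)) (tt N4396 F22800) (tt N18537 D28578) (tt N4394 (iv6 D13624)) (tt N18458 (iv7 F50868)))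
theorem Q9139 : ∀ i, i < 9139 → P i := stepQ 9138 Q9138 (allL N9138 (tt N18514 (iv1 F46108)) (tt N18513 F46107) (tt N18518 (iv2 F46112)) (tt N18538 D28580) (tt N4395 (iv4 D13625)) (tt N18539 D28581) (tt N18540 D28582) (tt N18494 (iv7 F46062)))
theorem Q9140 : ∀ i, i < 9140 → P i := stepQ 9139 Q9139 (allL N9139 (tt N11965 F188329) (tt N18541 D28584) (tt N18522 (iv2 F46115)) (tt N18534 (iv3 F46152)) (tt N18540 (iv4 F46157)) (tt N18542 D28585) (tt N4395 (iv6 D13626)) (tt N18543 D28586))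
theorem Q9141 : ∀ i, i < 9141 → P i := stepQ 9140 Q9140 (allL N9140 (tt N4396 (iv1 D13628)) (tt N17054 (iv0 F50832)) (tt N5111 (iv2 F50837)) (tt N14854 (iv3 F50896)) (tt N5202 (iv4 F50839)) (tt N18544 D28595) (tt N18421 (iv6 F50840)) (tt N17055 (iv7 F50836)))
theorem Q9142 : ∀ i, i < 9142 → P i := stepQ 9141 Q9141 (allL N9141 (tt N17059 (iv1 F54115)) (tt N18545 D28598) (tt N18527 (iv2 F46125)) (tt N18535 (iv3 F46153)) (tt N18546 D28599) (tt N4396 (iv5 D13629)) (tt N18542 (iv6 F46158)) (tt N18547 D28600))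
theorem Q9143 : ∀ i, i < 9143 → P i := stepQ 9142 Q9142 (allL N9142 (tt N5111 (iv1 F50863)) (tt N17055 F50860) (tt N17054 (iv2 F50833)) (tt N11374 (iv3 F50864)) (tt N18458 (iv4 F50867)) (tt N18547 (iv5 F46161)) (tt N9544 F54043) (tt N4396 (iv7 D13630)))
theorem Q9144 : ∀ i, i < 9144 → P i := stepQ 9143 Q9143 (allL N9143 (tt N4402 (iv1 F22803)) (tt N4397 (iv0 D13639)) (tt N4398 F42891) (tt N18548 D28601) (tt N18549 D28602) (tt N5009 F25820) (tt N18550 D28603) (tt N4399 F42892))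
theorem Q9145 : ∀ i, i < 9145 → P i := stepQ 9144 Q9144 (allL N9144 (tt N4397 (iv1 D13640)) (tt N4402 F22804) (tt N4399 F42895) (tt N17240 (iv3 F42573)) (tt N18551 D28604) (tt N5008 F25825) (tt N18552 D28605) (tt N4398 F42896))
theorem Q9146 : ∀ i, i < 9146 → P i := stepQ 9145 Q9145 (allL N9145 (tt N10921 (iv1 F25826)) (tt N18553 D28606) (tt N4400 F22805) (tt N18554 D28607) (tt N4397 (iv4 D13641)) (tt N17776 (iv5 F44455)) (tt N18555 D28608) (tt N18489 (iv7 F46052)))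
theorem Q9147 : ∀ i, i < 9147 → P i := stepQ 9146 Q9146 (allL N9146 (tt N18556 D28609) (tt N18557 D28610) (tt N4401 F22806) (tt N14858 (iv3 F37305)) (tt N18555 (iv4 F46175)) (tt N18443 (iv5 F45981)) (tt N4397 (iv6 D13642)) (tt N18558 D28611))
theorem Q9148 : ∀ i, i < 9148 → P i := stepQ 9147 Q9147 (allL N9147 (tt N17017 (iv1 F42538)) (tt N18497 (iv0 F46072)) (tt N17236 F42887) (tt N4398 (iv3 D13644)) (tt N5915 F22808) (tt N11051 (iv5 F25981)) (tt N18559 D28612) (tt N17240 (iv7 F42897)))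
theorem Q9149 : ∀ i, i < 9149 → P i := stepQ 9148 Q9148 (allL N9148 (tt N18560 D28613) (tt N18561 D28614) (tt N18549 (iv2 F46164)) (tt N18562 D28615) (tt N4398 (iv4 D13645)) (tt N18563 D28616) (tt N18564 D28617) (tt N18551 (iv7 F46168)))
theorem Q9150 : ∀ i, i < 9150 → P i := stepQ 9149 Q9149 (allL N9149 (tt N18565 D28618) (tt N11862 (iv0 F188426)) (tt N18550 (iv2 F46166)) (tt N18559 (iv3 F46181)) (tt N18564 (iv4 F46189)) (tt N18566 D28620) (tt N4398 (iv6 D13647)) (tt N18567 D28621))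
theorem Q9151 : ∀ i, i < 9151 → P i := stepQ 9150 Q9150 (allL N9150 (tt N18528 (iv1 F46127)) (tt N16984 F46129) (tt N18568 D28622) (tt N4399 (iv3 D13649)) (tt N18569 D28623) (tt N11054 (iv5 F25993)) (tt N18570 D28624) (tt N18548 (iv7 F46163)))
theorem Q9152 : ∀ i, i < 9152 → P i := stepQ 9151 Q9151 (allL N9151 (tt N18561 (iv1 F46185)) (tt N18560 F46184) (tt N18551 (iv2 F46167)) (tt N18571 D28625) (tt N4399 (iv4 D13650)) (tt N18572 D28626) (tt N18573 D28627) (tt N18549 (iv7 F46165)))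
theorem Q9153 : ∀ i, i < 9153 → P i := stepQ 9152 Q9152 (allL N9152 (tt N11685 (iv1 F189892)) (tt N18574 D28629) (tt N18552 (iv2 F46169)) (tt N18570 (iv3 F46195)) (tt N18573 (iv4 F46197)) (tt N18575 D28630) (tt N4399 (iv6 D13652)) (tt N18576 D28631))
theorem Q9154 : ∀ i, i < 9154 → P i := stepQ 9153 Q9153 (allL N9153 (tt N18489 (iv1 F46054)) (tt N4400 (iv0 D13653)) (tt N10921 (iv2 F27185)) (tt N18577 D28632) (tt N10920 F27186) (tt N18578 D28633) (tt N18579 D28634) (tt N18553 (iv7 F46171)))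
theorem Q9155 : ∀ i, i < 9155 → P i := stepQ 9154 Q9154 (allL N9154 (tt N4400 (iv1 D13654)) (tt N18489 (iv0 F46053)) (tt N18553 F46173) (tt N18580 D28635) (tt N8819 (iv4 F22810)) (tt N18581 D28636) (tt N18582 D28637) (tt N10921 (iv7 F27182)))
theorem Q9156 : ∀ i, i < 9156 → P i := stepQ 9155 Q9155 (allL N9155 (tt N18583 D28638) (tt N18584 D28639) (tt N17776 (iv2 F44453)) (tt N11671 (iv3 F28200)) (tt N17772 (iv4 F44440)) (tt N4400 (iv5 D13655)) (tt N18585 D28640) (tt N18586 D28641))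
theorem Q9157 : ∀ i, i < 9157 → P i := stepQ 9156 Q9156 (allL N9156 (tt N18587 D28642) (tt N18588 D28643) (tt N18555 (iv2 F46174)) (tt N11672 (iv3 F28201)) (tt N4401 F22811) (tt N18589 D28644) (tt N4400 (iv6 D13656)) (tt N18590 D28645))
theorem Q9158 : ∀ i, i < 9158 → P i := stepQ 9157 Q9157 (allL N9157 (tt N18553 (iv1 F46170)) (tt N10921 (iv0 F25783)) (tt N18489 (iv2 F46050)) (tt N6050 F22812) (tt N4402 F22813) (tt N18586 (iv5 F46211)) (tt N18591 D28646) (tt N4400 (iv7 D13657)))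
theorem Q9159 : ∀ i, i < 9159 → P i := stepQ 9158 Q9158 (allL N9158 (tt N18558 (iv1 F46180)) (tt N4401 (iv0 D13658)) (tt N18556 F185342) (tt N18592 D28648) (tt N18593 D28649) (tt N18594 D28650) (tt N18595 D28651) (tt N18557 (iv7 F185350)))
theorem Q9160 : ∀ i, i < 9160 → P i := stepQ 9159 Q9159 (allL N9159 (tt N4401 (iv1 D13659)) (tt N18558 F46179) (tt N18557 (iv2 F185349)) (tt N18596 D28653) (tt N18597 D28654) (tt N18598 D28655) (tt N18599 D28656) (tt N18556 F185348))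
theorem Q9161 : ∀ i, i < 9161 → P i := stepQ 9160 Q9160 (allL N9160 (tt N18557 (iv1 F46176)) (tt N18556 F46178) (tt N18558 (iv2 F46177)) (tt N4406 F22814) (tt N18590 (iv4 F46212)) (tt N18455 (iv5 F45989)) (tt N17964 (iv6 F44960)) (tt N4401 (iv7 D13660)))
theorem Q9162 : ∀ i, i < 9162 → P i := stepQ 9161 Q9161 (allL N9161 (tt N18600 D28657) (tt N18601 D28658) (tt N18490 (iv2 F46055)) (tt N4407 F22815) (tt N18591 (iv4 F46214)) (tt N18602 D28659) (tt N4402 (iv6 D13661)) (tt N17964 (iv7 F44961)))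
theorem Q9163 : ∀ i, i < 9163 → P i := stepQ 9162 Q9162 (allL N9162 (tt N18416 F45937) (tt N4403 (iv0 D13662)) (tt N18458 (iv2 F50866)) (tt N18603 D28661) (tt N17054 F42093) (tt N18604 D28662) (tt N18510 (iv6 F50842)) (tt N18457 (iv7 F50872)))
theorem Q9164 : ∀ i, i < 9164 → P i := stepQ 9163 Q9163 (allL N9163 (tt N18605 D28669) (tt N18606 D28670) (tt N18491 (iv2 F46057)) (tt N4408 F22816) (tt N18607 D28671) (tt N4403 (iv5 D13664)) (tt N18602 (iv6 F46218)) (tt N18459 (iv7 F45998)))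
theorem Q9165 : ∀ i, i < 9165 → P i := stepQ 9164 Q9164 (allL N9164 (tt N18608 D28672) (tt N16986 (iv0 F110501)) (tt N18609 D28674) (tt N4404 (iv3 D13666)) (tt N18610 D28675) (tt N18611 D28676) (tt N18612 D28677) (tt N14874 (iv7 F44681)))
theorem Q9166 : ∀ i, i < 9166 → P i := stepQ 9165 Q9165 (allL N9165 (tt N18613 D28678) (tt N18614 D28679) (tt N14872 F44680) (tt N18611 (iv3 F46222)) (tt N17456 (iv4 F311512)) (tt N4404 (iv5 D13668)) (tt N17000 F309304) (tt N14875 (iv7 F44682)))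
theorem Q9167 : ∀ i, i < 9167 → P i := stepQ 9166 Q9166 (allL N9166 (tt N11700 (iv1 F46232)) (tt N18615 D28683) (tt N14873 F44673) (tt N18612 (iv3 F46223)) (tt N6032 F43122) (tt N15257 F38104) (tt N4404 (iv6 D13669)) (tt N18616 D28684))
theorem Q9168 : ∀ i, i < 9168 → P i := stepQ 9167 Q9167 (allL N9167 (tt N17016 F184572) (tt N18617 D28686) (tt N18618 D28687) (tt N4405 (iv3 D13671)) (tt N17735 (iv4 F301625)) (tt N18619 D28689) (tt N17729 F301128) (tt N14871 F44678))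
theorem Q9169 : ∀ i, i < 9169 → P i := stepQ 9168 Q9168 (allL N9168 (tt N18614 (iv1 F46228)) (tt N18613 F46225) (tt N14875 F44683) (tt N18619 (iv3 F46237)) (tt N18620 D28691) (tt N4405 (iv5 D13673)) (tt N18621 D28692) (tt N14872 F44679))
theorem Q9170 : ∀ i, i < 9170 → P i := stepQ 9169 Q9169 (allL N9169 (tt N7436 F312256) (tt N18622 D28698) (tt N6097 F22826) (tt N18602 (iv3 F46217)) (tt N18623 D28699) (tt N4407 (iv5 D13678)) (tt N4408 F22827) (tt N17965 (iv7 F44963)))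
theorem Q9171 : ∀ i, i < 9171 → P i := stepQ 9170 Q9170 (allL N9170 (tt N11379 (iv1 F27657)) (tt N4408 (iv0 D13679)) (tt N11049 (iv2 F25951)) (tt N11154 (iv3 F27081)) (tt N17324 (iv4 F42783)) (tt N8476 F22828) (tt N18624 D28700) (tt N11050 (iv7 F25974)))
theorem Q9172 : ∀ i, i < 9172 → P i := stepQ 9171 Q9171 (allL N9171 (tt N4408 (iv1 D13680)) (tt N11379 F27656) (tt N11050 (iv2 F25973)) (tt N18625 D28701) (tt N17325 (iv4 F42789)) (tt N8478 (iv5 F22829)) (tt N18626 D28702) (tt N11049 (iv7 F25952)))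
theorem Q9173 : ∀ i, i < 9173 → P i := stepQ 9172 Q9172 (allL N9172 (tt N11033 (iv1 F25918)) (tt N11036 (iv0 F25920)) (tt N11378 (iv2 F27653)) (tt N18627 D28703) (tt N4408 (iv4 D13681)) (tt N18628 D28704) (tt N18623 (iv6 F46265)) (tt N18475 (iv7 F46008)))
theorem Q9174 : ∀ i, i < 9174 → P i := stepQ 9173 Q9173 (allL N9173 (tt N18629 D28705) (tt N5476 (iv0 F22832)) (tt N11387 (iv2 F27680)) (tt N4410 F22830) (tt N18630 D28706) (tt N4409 (iv5 D13682)) (tt N7292 F22831) (tt N11380 (iv7 F27659)))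
theorem Q9175 : ∀ i, i < 9175 → P i := stepQ 9174 Q9174 (allL N9174 (tt N11046 F25943) (tt N5056 F22835) (tt N9313 (iv2 F23103)) (tt N18631 D28707) (tt N4410 (iv4 D13683)) (tt N5248 F22834) (tt N4554 F22833) (tt N11214 (iv7 F27305)))
theorem Q9176 : ∀ i, i < 9176 → P i := stepQ 9175 Q9175 (allL N9175 (tt N7269 F22838) (tt N11386 F27678) (tt N8101 F22836) (tt N8427 (iv3 F26610)) (tt N4411 (iv4 D13684)) (tt N18632 D28708) (tt N8425 F26788) (tt N8099 F22837))
theorem Q9177 : ∀ i, i < 9177 → P i := stepQ 9176 Q9176 (allL N9176 (tt N8551 (iv1 F23475)) (tt N11045 F25937) (tt N8102 F22839) (tt N4412 F22840) (tt N18633 D28709) (tt N4411 (iv5 D13685)) (tt N4997 F22842) (tt N8100 F22841))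
theorem Q9178 : ∀ i, i < 9178 → P i := stepQ 9177 Q9177 (allL N9177 (tt N5505 (iv1 F22847)) (tt N8030 F22848) (tt N8103 F22843) (tt N4413 F22844) (tt N8425 (iv4 F26787)) (tt N9078 F22845) (tt N4411 (iv6 D13686)) (tt N7442 F22846))
theorem Q9179 : ∀ i, i < 9179 → P i := stepQ 9178 Q9178 (allL N9178 (tt N5056 (iv1 F23112)) (tt N11046 (iv0 F25942)) (tt N11214 (iv2 F27303)) (tt N18634 D28710) (tt N4412 (iv4 D13687)) (tt N5249 F22850) (tt N5004 F22849) (tt N9313 (iv7 F23105)))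
theorem Q9180 : ∀ i, i < 9180 → P i := stepQ 9179 Q9179 (allL N9179 (tt N18635 D28711) (tt N18636 D28712) (tt N15343 (iv2 F38276)) (tt N4415 F22851) (tt N16703 F40972) (tt N4414 (iv5 D13688)) (tt N4634 F22852) (tt N10137 (iv7 F24415)))
theorem Q9181 : ∀ i, i < 9181 → P i := stepQ 9180 Q9180 (allL N9180 (tt N18637 D28713) (tt N18638 D28714) (tt N9182 (iv2 F22856)) (tt N18639 D28715) (tt N4415 (iv4 D13689)) (tt N18640 D28716) (tt N7902 F22853) (tt N10139 (iv7 F24419)))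
theorem Q9182 : ∀ i, i < 9182 → P i := stepQ 9181 Q9181 (allL N9181 (tt N16639 (iv1 F40823)) (tt N16643 (iv0 F40837)) (tt N15189 (iv2 F38000)) (tt N4417 F22854) (tt N18641 D28717) (tt N4416 (iv5 D13690)) (tt N7911 F22855) (tt N16079 (iv7 F39808)))
theorem Q9183 : ∀ i, i < 9183 → P i := stepQ 9182 Q9182 (allL N9182 (tt N18642 D28718) (tt N9845 (iv0 F24101)) (tt N9180 F22856) (tt N18643 D28719) (tt N4417 (iv4 D13691)) (tt N18644 D28720) (tt N7915 F22857) (tt N16818 (iv7 F41221)))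
theorem Q9184 : ∀ i, i < 9184 → P i := stepQ 9183 Q9183 (allL N9183 (tt N9420 F23278) (tt N18645 D28721) (tt N4424 (iv2 F22935)) (tt N18222 (iv3 F45552)) (tt N18646 D28722) (tt N4418 (iv5 D13693)) (tt N18089 (iv6 F45272)) (tt N4428 (iv7 F22934)))
theorem Q9185 : ∀ i, i < 9185 → P i := stepQ 9184 Q9184 (allL N9184 (tt N18645 (iv1 F46326)) (tt N9420 F23279) (tt N4428 (iv2 F22943)) (tt N15346 (iv3 F38288)) (tt N18647 D28723) (tt N4419 (iv5 D13695)) (tt N18648 D28724) (tt N4424 F22942))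
theorem Q9186 : ∀ i, i < 9186 → P i := stepQ 9185 Q9185 (allL N9185 (tt N4433 (iv1 F22865)) (tt N4420 (iv0 D13697)) (tt N4430 F22868) (tt N18224 F45558) (tt N18649 D28725) (tt N16062 F39750) (tt N18650 D28726) (tt N4431 F22867))
theorem Q9187 : ∀ i, i < 9187 → P i := stepQ 9186 Q9186 (allL N9186 (tt N18651 D28727) (tt N18652 D28728) (tt N4432 F22860) (tt N18653 D28729) (tt N4420 (iv4 D13698)) (tt N18654 D28730) (tt N7307 F22861) (tt N18655 D28731))
theorem Q9188 : ∀ i, i < 9188 → P i := stepQ 9187 Q9187 (allL N9187 (tt N4431 (iv1 F22866)) (tt N4430 F22871) (tt N4433 F22862) (tt N7308 F22863) (tt N18655 (iv4 F46354)) (tt N4421 F22864) (tt N18656 D28732) (tt N4420 (iv7 D13699)))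
theorem Q9189 : ∀ i, i < 9189 → P i := stepQ 9188 Q9188 (allL N9188 (tt N4635 F22949) (tt N4625 (iv0 F22950)) (tt N4632 F22946) (tt N8868 F22947) (tt N4422 (iv4 D13703)) (tt N18657 D28733) (tt N9990 (iv6 F24276)) (tt N4633 F22948))
theorem Q9190 : ∀ i, i < 9190 → P i := stepQ 9189 Q9189 (allL N9189 (tt N18658 D28734) (tt N18659 D28735) (tt N15344 (iv2 F38281)) (tt N4424 F22951) (tt N18660 D28736) (tt N4422 (iv5 D13704)) (tt N18661 D28737) (tt N15346 (iv7 F38289)))
theorem Q9191 : ∀ i, i < 9191 → P i := stepQ 9190 Q9190 (allL N9190 (tt N14777 (iv1 F39262)) (tt N15444 F39261) (tt N15345 (iv2 F38283)) (tt N4425 F22952) (tt N9990 F24275) (tt N15898 F39253) (tt N4422 (iv6 D13705)) (tt N15442 F39236))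
theorem Q9192 : ∀ i, i < 9192 → P i := stepQ 9191 Q9191 (allL N9191 (tt N15072 F37801) (tt N18662 D28738) (tt N9575 (iv2 F23662)) (tt N9748 (iv3 F23950)) (tt N18663 D28739) (tt N4423 (iv5 D13706)) (tt N18664 D28740) (tt N15037 (iv7 F37711)))
theorem Q9193 : ∀ i, i < 9193 → P i := stepQ 9192 Q9192 (allL N9192 (tt N9807 F24044) (tt N9814 F24055) (tt N9576 (iv2 F23665)) (tt N9749 (iv3 F23951)) (tt N4425 F22953) (tt N7948 F22954) (tt N4423 (iv6 D13707)) (tt N9812 F36866))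
theorem Q9194 : ∀ i, i < 9194 → P i := stepQ 9193 Q9193 (allL N9193 (tt N4428 (iv1 F22956)) (tt N4424 (iv0 D13708)) (tt N9420 (iv2 F23275)) (tt N9391 F23230) (tt N18665 D28741) (tt N8873 F22955) (tt N18666 D28742) (tt N18645 (iv7 F46327)))
theorem Q9195 : ∀ i, i < 9195 → P i := stepQ 9194 Q9194 (allL N9194 (tt N4424 (iv1 D13709)) (tt N4428 F22958) (tt N18645 (iv2 F46329)) (tt N4436 F22960) (tt N18667 D28743) (tt N7865 (iv5 F22959)) (tt N18668 D28744) (tt N9420 (iv7 F23277)))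
theorem Q9196 : ∀ i, i < 9196 → P i := stepQ 9195 Q9195 (allL N9195 (tt N18669 D28745) (tt N18670 D28746) (tt N18646 (iv2 F46331)) (tt N18671 D28747) (tt N4424 (iv4 D13710)) (tt N18672 D28748) (tt N18673 D28749) (tt N18647 (iv7 F46334)))
theorem Q9197 : ∀ i, i < 9197 → P i := stepQ 9196 Q9196 (allL N9196 (tt N18674 D28750) (tt N18675 D28751) (tt N18089 (iv2 F45271)) (tt N18661 (iv3 F46369)) (tt N18673 (iv4 F46382)) (tt N18037 (iv5 F45172)) (tt N4424 (iv6 D13711)) (tt N18676 D28752))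
theorem Q9198 : ∀ i, i < 9198 → P i := stepQ 9197 Q9197 (allL N9197 (tt N18677 D28753) (tt N18678 D28754) (tt N18223 (iv2 F45554)) (tt N4428 F22961) (tt N18679 D28755) (tt N4426 (iv5 D13712)) (tt N18680 D28756) (tt N18222 (iv7 F45553)))
theorem Q9199 : ∀ i, i < 9199 → P i := stepQ 9198 Q9198 (allL N9198 (tt N18681 D28757) (tt N9006 (iv0 F37937)) (tt N15656 (iv2 F38758)) (tt N4429 F22962) (tt N7428 F22963) (tt N18682 D28758) (tt N4426 (iv6 D13713)) (tt N10163 (iv7 F24456)))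
theorem Q9200 : ∀ i, i < 9200 → P i := stepQ 9199 Q9199 (allL N9199 (tt N18662 (iv1 F46370)) (tt N15072 (iv0 F37800)) (tt N15037 (iv2 F37710)) (tt N9571 (iv3 F23649)) (tt N18683 D28759) (tt N4427 (iv5 D13714)) (tt N18684 D28760) (tt N9575 (iv7 F23664)))
theorem Q9201 : ∀ i, i < 9201 → P i := stepQ 9200 Q9200 (allL N9200 (tt N15075 (iv1 F37805)) (tt N9782 (iv0 F24001)) (tt N10161 (iv2 F24451)) (tt N4767 (iv3 F22966)) (tt N4429 F22965) (tt N18685 D28761) (tt N4427 (iv6 D13715)) (tt N10164 (iv7 F24458)))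
theorem Q9202 : ∀ i, i < 9202 → P i := stepQ 9201 Q9201 (allL N9201 (tt N18670 (iv1 F46381)) (tt N18669 F46380) (tt N18647 (iv2 F46333)) (tt N18686 D28762) (tt N4428 (iv4 D13716)) (tt N18687 D28763) (tt N18688 D28764) (tt N18646 (iv7 F46332)))
theorem Q9203 : ∀ i, i < 9203 → P i := stepQ 9202 Q9202 (allL N9202 (tt N18689 D28765) (tt N15788 (iv0 F39060)) (tt N18648 (iv2 F46335)) (tt N18680 (iv3 F46387)) (tt N18688 (iv4 F46403)) (tt N18690 D28766) (tt N4428 (iv6 D13717)) (tt N18691 D28767))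
theorem Q9204 : ∀ i, i < 9204 → P i := stepQ 9203 Q9203 (allL N9203 (tt N7485 (iv1 F22971)) (tt N7720 (iv0 F22970)) (tt N10162 (iv2 F24453)) (tt N18682 (iv3 F46394)) (tt N18692 D28768) (tt N4429 (iv5 D13719)) (tt N18690 (iv6 F46404)) (tt N10165 (iv7 F24462)))
theorem Q9205 : ∀ i, i < 9205 → P i := stepQ 9204 Q9204 (allL N9204 (tt N15350 F38986) (tt N7521 F38987) (tt N15347 F38296) (tt N4430 (iv3 D13721)) (tt N18693 D28769) (tt N18045 (iv5 F45192)) (tt N18694 D28770) (tt N15348 F38294))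
theorem Q9206 : ∀ i, i < 9206 → P i := stepQ 9205 Q9205 (allL N9205 (tt N18695 D28771) (tt N15039 (iv0 F45212)) (tt N18649 (iv2 F46337)) (tt N18696 D28772) (tt N4430 (iv4 D13722)) (tt N18697 D28773) (tt N18698 D28774) (tt N18060 (iv7 F45227)))
theorem Q9207 : ∀ i, i < 9207 → P i := stepQ 9206 Q9206 (allL N9206 (tt N18699 D28775) (tt N18700 D28776) (tt N18650 (iv2 F46340)) (tt N18694 (iv3 F46413)) (tt N18698 (iv4 F46417)) (tt N16821 (iv5 F41228)) (tt N4430 (iv6 D13723)) (tt N18701 D28777))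
theorem Q9208 : ∀ i, i < 9208 → P i := stepQ 9207 Q9207 (allL N9207 (tt N15728 F45149) (tt N18227 F45572) (tt N18225 (iv2 F45565)) (tt N4431 (iv3 D13724)) (tt N16581 F40732) (tt N18028 F45148) (tt N18702 D28778) (tt N18224 (iv7 F45559)))
theorem Q9209 : ∀ i, i < 9209 → P i := stepQ 9208 Q9208 (allL N9208 (tt N15039 (iv1 F37720)) (tt N18695 F46415) (tt N18060 (iv2 F45226)) (tt N18703 D28779) (tt N4431 (iv4 D13725)) (tt N18704 D28780) (tt N18705 D28781) (tt N18649 (iv7 F46338)))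
theorem Q9210 : ∀ i, i < 9210 → P i := stepQ 9209 Q9209 (allL N9209 (tt N18706 D28782) (tt N18707 D28783) (tt N18058 (iv2 F45224)) (tt N18702 (iv3 F46418)) (tt N18705 (iv4 F46419)) (tt N18030 (iv5 F45153)) (tt N4431 (iv6 D13726)) (tt N18708 D28784))
theorem Q9211 : ∀ i, i < 9211 → P i := stepQ 9210 Q9210 (allL N9210 (tt N18655 (iv1 F46356)) (tt N4432 (iv0 D13727)) (tt N18651 F46343) (tt N18709 D28785) (tt N9702 F40733) (tt N18710 D28786) (tt N18711 D28787) (tt N18652 (iv7 F46347)))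
theorem Q9212 : ∀ i, i < 9212 → P i := stepQ 9211 Q9211 (allL N9211 (tt N4432 (iv1 D13728)) (tt N18655 F46355) (tt N18652 F46349) (tt N18712 D28788) (tt N9703 (iv4 F23843)) (tt N18713 D28789) (tt N18714 D28790) (tt N18651 F46344))
theorem Q9213 : ∀ i, i < 9213 → P i := stepQ 9212 Q9212 (allL N9212 (tt N18715 D28791) (tt N18716 D28792) (tt N18717 D28793) (tt N4432 (iv3 D13729)) (tt N4454 F22974) (tt N18718 D28794) (tt N9408 (iv6 F23243)) (tt N18719 D28795))
theorem Q9214 : ∀ i, i < 9214 → P i := stepQ 9213 Q9213 (allL N9213 (tt N18720 D28796) (tt N18721 D28797) (tt N18654 (iv2 F46352)) (tt N18718 (iv3 F46423)) (tt N18722 D28798) (tt N4432 (iv5 D13730)) (tt N18723 D28799) (tt N18724 D28800))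
theorem Q9215 : ∀ i, i < 9215 → P i := stepQ 9214 Q9214 (allL N9214 (tt N18652 (iv1 F46346)) (tt N18651 F46345) (tt N18655 (iv2 F46353)) (tt N18719 (iv3 F46424)) (tt N4433 F22975) (tt N18724 (iv5 F46436)) (tt N18725 D28801) (tt N4432 (iv7 D13731)))
theorem Q9216 : ∀ i, i < 9216 → P i := stepQ 9215 Q9215 (allL N9215 (tt N18726 D28802) (tt N18727 D28803) (tt N18656 (iv2 F46357)) (tt N4457 F22976) (tt N18725 (iv4 F46437)) (tt N9215 F22977) (tt N4433 (iv6 D13732)) (tt N9411 (iv7 F23247)))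
theorem Q9217 : ∀ i, i < 9217 → P i := stepQ 9216 Q9216 (allL N9216 (tt N8993 (iv1 F22978)) (tt N4434 (iv0 D13733)) (tt N9431 F23865) (tt N18678 F46386) (tt N18728 D28804) (tt N7855 F23861) (tt N18729 D28805) (tt N9430 (iv7 F23867)))
theorem Q9218 : ∀ i, i < 9218 → P i := stepQ 9217 Q9217 (allL N9217 (tt N4434 (iv1 D13734)) (tt N8993 F22979) (tt N9430 (iv2 F23869)) (tt N18730 D28806) (tt N18731 D28807) (tt N7856 (iv5 F23870)) (tt N18732 D28808) (tt N9431 F23868))
theorem Q9219 : ∀ i, i < 9219 → P i := stepQ 9218 Q9218 (allL N9218 (tt N18733 D28809) (tt N18734 D28810) (tt N18233 (iv2 F45588)) (tt N18735 D28811) (tt N4434 (iv4 D13735)) (tt N18736 D28812) (tt N18737 D28813) (tt N9432 (iv7 F23312)))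
theorem Q9220 : ∀ i, i < 9220 → P i := stepQ 9219 Q9219 (allL N9219 (tt N18738 D28814) (tt N18739 D28815) (tt N18234 (iv2 F45589)) (tt N4438 F22980) (tt N18737 (iv4 F46449)) (tt N8963 F22981) (tt N4434 (iv6 D13736)) (tt N18740 D28816))
theorem Q9221 : ∀ i, i < 9221 → P i := stepQ 9220 Q9220 (allL N9220 (tt N7303 (iv1 F22984)) (tt N7302 (iv0 F22983)) (tt N9391 F23229) (tt N4435 (iv3 D13737)) (tt N18741 D28817) (tt N5306 F22982) (tt N18742 D28818) (tt N9392 (iv7 F23232)))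
theorem Q9222 : ∀ i, i < 9222 → P i := stepQ 9221 Q9221 (allL N9221 (tt N4477 F22985) (tt N4466 F22986) (tt N9421 (iv2 F23280)) (tt N18743 D28819) (tt N4435 (iv4 D13738)) (tt N18744 D28820) (tt N18745 D28821) (tt N9423 (iv7 F23287)))
theorem Q9223 : ∀ i, i < 9223 → P i := stepQ 9222 Q9222 (allL N9222 (tt N18746 D28822) (tt N18747 D28823) (tt N9422 (iv2 F23284)) (tt N18742 (iv3 F46454)) (tt N18745 (iv4 F46459)) (tt N5308 F22987) (tt N4435 (iv6 D13739)) (tt N18748 D28824))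
theorem Q9224 : ∀ i, i < 9224 → P i := stepQ 9223 Q9223 (allL N9223 (tt N4466 F22988) (tt N4477 F22989) (tt N9423 (iv2 F23286)) (tt N18749 D28825) (tt N4436 (iv4 D13740)) (tt N18750 D28826) (tt N18751 D28827) (tt N9421 (iv7 F23281)))
theorem Q9225 : ∀ i, i < 9225 → P i := stepQ 9224 Q9224 (allL N9224 (tt N4444 F22992) (tt N9440 F23328) (tt N9037 F22990) (tt N18668 (iv3 F46377)) (tt N18751 (iv4 F46467)) (tt N7196 F22991) (tt N4436 (iv6 D13741)) (tt N9438 (iv7 F23329)))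
theorem Q9226 : ∀ i, i < 9226 → P i := stepQ 9225 Q9225 (allL N9225 (tt N4443 (iv1 F22994)) (tt N4437 (iv0 D13742)) (tt N9300 (iv2 F23077)) (tt N18752 D28828) (tt N4548 F22993) (tt N18753 D28829) (tt N18754 D28830) (tt N9303 (iv7 F23085)))
theorem Q9227 : ∀ i, i < 9227 → P i := stepQ 9226 Q9226 (allL N9226 (tt N4437 (iv1 D13743)) (tt N4443 F22995) (tt N9303 (iv2 F23084)) (tt N18755 D28831) (tt N4549 F22996) (tt N18756 D28832) (tt N16726 (iv6 F41007)) (tt N9300 (iv7 F23078)))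
theorem Q9228 : ∀ i, i < 9228 → P i := stepQ 9227 Q9227 (allL N9227 (tt N18757 D28833) (tt N18758 D28834) (tt N18759 D28835) (tt N4437 (iv3 D13744)) (tt N18735 (iv4 F46448)) (tt N18760 D28836) (tt N18761 D28837) (tt N9435 (iv7 F23315)))
theorem Q9229 : ∀ i, i < 9229 → P i := stepQ 9228 Q9228 (allL N9228 (tt N8373 F22998) (tt N4650 F22999) (tt N9425 (iv2 F23291)) (tt N18760 (iv3 F46477)) (tt N4503 F22997) (tt N4437 (iv5 D13745)) (tt N18762 D28838) (tt N9436 (iv7 F23318)))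
theorem Q9230 : ∀ i, i < 9230 → P i := stepQ 9229 Q9229 (allL N9229 (tt N18763 D28839) (tt N18764 D28840) (tt N9426 (iv2 F23296)) (tt N18761 (iv3 F46478)) (tt N4438 F23000) (tt N17465 F318093) (tt N4437 (iv6 D13746)) (tt N18765 D28842))
theorem Q9231 : ∀ i, i < 9231 → P i := stepQ 9230 Q9230 (allL N9230 (tt N9429 (iv1 F23308)) (tt N4438 (iv0 D13747)) (tt N9427 F45361) (tt N18766 D28843) (tt N18767 D28844) (tt N7863 F23001) (tt N9427 (iv6 F23298)) (tt N9428 F45359))
theorem Q9232 : ∀ i, i < 9232 → P i := stepQ 9231 Q9231 (allL N9231 (tt N4438 (iv1 D13748)) (tt N9429 F23306) (tt N9428 (iv2 F45360)) (tt N18675 F164087) (tt N18768 D28846) (tt N7862 (iv5 F23002)) (tt N18769 D28847) (tt N9427 (iv7 F45362)))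
theorem Q9233 : ∀ i, i < 9233 → P i := stepQ 9232 Q9232 (allL N9232 (tt N9428 (iv1 F23300)) (tt N9427 F23305) (tt N9429 (iv2 F23302)) (tt N18740 (iv3 F46450)) (tt N18765 (iv4 F46480)) (tt N5598 (iv5 F323634)) (tt N9440 (iv6 F23326)) (tt N4438 (iv7 D13749)))
theorem Q9234 : ∀ i, i < 9234 → P i := stepQ 9233 Q9233 (allL N9233 (tt N4449 F23006) (tt N9442 F23340) (tt N9413 (iv2 F23253)) (tt N15350 (iv3 F38297)) (tt N18770 D28848) (tt N4439 (iv5 D13750)) (tt N18771 D28849) (tt N7179 F23005))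
theorem Q9235 : ∀ i, i < 9235 → P i := stepQ 9234 Q9234 (allL N9234 (tt N9417 (iv1 F23271)) (tt N9416 F23270) (tt N4441 F23007) (tt N8993 F23008) (tt N18772 D28850) (tt N4440 (iv5 D13751)) (tt N18773 D28851) (tt N9414 (iv7 F23260)))
theorem Q9236 : ∀ i, i < 9236 → P i := stepQ 9235 Q9235 (allL N9235 (tt N10193 F24500) (tt N7187 (iv0 F24501)) (tt N4442 F23009) (tt N8994 F23010) (tt N7586 F23011) (tt N15201 (iv5 F38025)) (tt N4440 (iv6 D13752)) (tt N10194 (iv7 F24504)))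
theorem Q9237 : ∀ i, i < 9237 → P i := stepQ 9236 Q9236 (allL N9236 (tt N9414 (iv1 F23266)) (tt N4441 (iv0 D13753)) (tt N9417 F23901) (tt N18774 D28852) (tt N18775 D28853) (tt N15640 (iv5 F38743)) (tt N18776 D28854) (tt N9416 F23899))
theorem Q9238 : ∀ i, i < 9238 → P i := stepQ 9237 Q9237 (allL N9237 (tt N4441 (iv1 D13754)) (tt N9414 F23261) (tt N9416 (iv2 F23897)) (tt N18658 F46366) (tt N18777 D28855) (tt N7428 F23262) (tt N18778 D28856) (tt N9417 (iv7 F23900)))
theorem Q9239 : ∀ i, i < 9239 → P i := stepQ 9238 Q9238 (allL N9238 (tt N18779 D28857) (tt N18780 D28858) (tt N18772 (iv2 F46486)) (tt N18781 D28859) (tt N4441 (iv4 D13755)) (tt N18782 D28860) (tt N18783 D28861) (tt N9418 (iv7 F23272)))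
theorem Q9240 : ∀ i, i < 9240 → P i := stepQ 9239 Q9239 (allL N9239 (tt N18784 D28862) (tt N18732 (iv0 F46445)) (tt N18773 (iv2 F46487)) (tt N4444 F23012) (tt N18783 (iv4 F46497)) (tt N18785 D28863) (tt N4441 (iv6 D13756)) (tt N18786 D28864))
theorem Q9241 : ∀ i, i < 9241 → P i := stepQ 9240 Q9240 (allL N9240 (tt N10194 (iv1 F24505)) (tt N4442 (iv0 D13757)) (tt N10193 (iv2 F24498)) (tt N18787 D28865) (tt N18788 D28866) (tt N7429 (iv5 F23265)) (tt N7668 F23263) (tt N7187 (iv7 F23264)))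
theorem Q9242 : ∀ i, i < 9242 → P i := stepQ 9241 Q9241 (allL N9241 (tt N4442 (iv1 D13758)) (tt N10194 F24506) (tt N7187 (iv2 F24313)) (tt N7542 (iv3 F24311)) (tt N18028 (iv4 F45147)) (tt N7430 F24314) (tt N7180 F24312) (tt N10193 (iv7 F24499)))
theorem Q9243 : ∀ i, i < 9243 → P i := stepQ 9242 Q9242 (allL N9242 (tt N15193 (iv1 F38008)) (tt N15192 (iv0 F38005)) (tt N15201 F38026) (tt N4445 F23013) (tt N18789 D28867) (tt N4442 (iv5 D13759)) (tt N18785 (iv6 F46499)) (tt N10195 (iv7 F24508)))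
theorem Q9244 : ∀ i, i < 9244 → P i := stepQ 9243 Q9243 (allL N9243 (tt N18790 D28868) (tt N18791 D28869) (tt N18792 D28870) (tt N4443 (iv3 D13760)) (tt N18781 (iv4 F46496)) (tt N18793 D28871) (tt N18794 D28872) (tt N9424 (iv7 F23290)))
theorem Q9245 : ∀ i, i < 9245 → P i := stepQ 9244 Q9244 (allL N9244 (tt N4650 F23015) (tt N8373 F23016) (tt N9436 (iv2 F23316)) (tt N18793 (iv3 F46512)) (tt N4502 F23014) (tt N4443 (iv5 D13761)) (tt N18795 D28873) (tt N9425 (iv7 F23292)))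
theorem Q9246 : ∀ i, i < 9246 → P i := stepQ 9245 Q9245 (allL N9245 (tt N18796 D28874) (tt N16726 (iv0 F46476)) (tt N9437 (iv2 F23321)) (tt N18794 (iv3 F46513)) (tt N4444 F23017) (tt N18797 D28875) (tt N4443 (iv6 D13762)) (tt N18798 D28876))
theorem Q9247 : ∀ i, i < 9247 → P i := stepQ 9246 Q9246 (allL N9246 (tt N9440 (iv1 F23333)) (tt N4444 (iv0 D13763)) (tt N9438 (iv2 F23330)) (tt N18689 (iv3 F80787)) (tt N18799 D28878) (tt N9038 (iv5 F23332)) (tt N18748 (iv6 F46462)) (tt N9037 F23331))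
theorem Q9248 : ∀ i, i < 9248 → P i := stepQ 9247 Q9247 (allL N9247 (tt N18800 D28879) (tt N18801 D28880) (tt N9439 (iv2 F23323)) (tt N18785 (iv3 F46498)) (tt N18802 D28881) (tt N4444 (iv5 D13764)) (tt N4445 F23018) (tt N16840 (iv7 F41275)))
theorem Q9249 : ∀ i, i < 9249 → P i := stepQ 9248 Q9248 (allL N9248 (tt N9037 (iv1 F23019)) (tt N9438 F23327) (tt N9440 (iv2 F23325)) (tt N18786 (iv3 F46500)) (tt N18798 (iv4 F46515)) (tt N16840 (iv5 F41274)) (tt N9429 (iv6 F23304)) (tt N4444 (iv7 D13765)))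
theorem Q9250 : ∀ i, i < 9250 → P i := stepQ 9249 Q9249 (allL N9249 (tt N5285 F23020) (tt N5280 F23021) (tt N9441 (iv2 F23334)) (tt N6011 (iv3 F311551)) (tt N4445 (iv4 D13766)) (tt N6010 F309324) (tt N18802 (iv6 F46522)) (tt N9881 (iv7 F24130)))
theorem Q9251 : ∀ i, i < 9251 → P i := stepQ 9250 Q9250 (allL N9250 (tt N18803 D28884) (tt N9684 (iv0 F23812)) (tt N18235 (iv2 F45591)) (tt N18804 D28885) (tt N4446 (iv4 D13767)) (tt N18805 D28886) (tt N18806 D28887) (tt N9451 (iv7 F23356)))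
theorem Q9252 : ∀ i, i < 9252 → P i := stepQ 9251 Q9251 (allL N9251 (tt N18807 D28888) (tt N18808 D28889) (tt N18236 (iv2 F45593)) (tt N4448 F23022) (tt N18806 (iv4 F46530)) (tt N16794 (iv5 F41148)) (tt N4446 (iv6 D13768)) (tt N18809 D28890))
theorem Q9253 : ∀ i, i < 9253 → P i := stepQ 9252 Q9252 (allL N9252 (tt N18810 D28891) (tt N18811 D28892) (tt N18812 D28893) (tt N4447 (iv3 D13769)) (tt N18804 (iv4 F46529)) (tt N18813 D28894) (tt N18814 D28895) (tt N9453 (iv7 F23359)))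
theorem Q9254 : ∀ i, i < 9254 → P i := stepQ 9253 Q9253 (allL N9253 (tt N18815 D28896) (tt N18816 D28897) (tt N9446 (iv2 F23344)) (tt N18813 (iv3 F46532)) (tt N4495 F23023) (tt N4447 (iv5 D13770)) (tt N18817 D28898) (tt N9454 (iv7 F23362)))
theorem Q9255 : ∀ i, i < 9255 → P i := stepQ 9254 Q9254 (allL N9254 (tt N18818 D28899) (tt N18819 D28900) (tt N9447 (iv2 F23347)) (tt N18814 (iv3 F46533)) (tt N4448 F23024) (tt N18820 D28901) (tt N4447 (iv6 D13771)) (tt N18821 D28902))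
theorem Q9256 : ∀ i, i < 9256 → P i := stepQ 9255 Q9255 (allL N9255 (tt N9450 (iv1 F23355)) (tt N4448 (iv0 D13772)) (tt N9448 (iv2 F45469)) (tt N18822 D28903) (tt N18823 D28904) (tt N18824 D28905) (tt N9457 (iv6 F23370)) (tt N9449 (iv7 F45471)))
theorem Q9257 : ∀ i, i < 9257 → P i := stepQ 9256 Q9256 (allL N9256 (tt N4448 (iv1 D13773)) (tt N9450 F23354) (tt N9449 F45472) (tt N18700 F168083) (tt N18825 D28907) (tt N18826 D28908) (tt N18827 D28909) (tt N9448 F45470))
theorem Q9258 : ∀ i, i < 9258 → P i := stepQ 9257 Q9257 (allL N9257 (tt N9449 (iv1 F23350)) (tt N9448 F23353) (tt N9450 (iv2 F23351)) (tt N18809 (iv3 F46531)) (tt N18821 (iv4 F46548)) (tt N11148 (iv5 F27065)) (tt N9458 (iv6 F23373)) (tt N4448 (iv7 D13774)))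
theorem Q9259 : ∀ i, i < 9259 → P i := stepQ 9258 Q9258 (allL N9258 (tt N7179 F23027) (tt N9413 (iv0 F23255)) (tt N4449 (iv2 D13775)) (tt N8995 F23025) (tt N18828 D28910) (tt N7648 F23026) (tt N18829 D28911) (tt N9442 (iv7 F23338)))
theorem Q9260 : ∀ i, i < 9260 → P i := stepQ 9259 Q9259 (allL N9259 (tt N9751 (iv1 F23953)) (tt N18830 D28912) (tt N18828 (iv2 F46554)) (tt N18831 D28913) (tt N4449 (iv4 D13776)) (tt N18832 D28914) (tt N18833 D28915) (tt N9443 (iv7 F23341)))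
theorem Q9261 : ∀ i, i < 9261 → P i := stepQ 9260 Q9260 (allL N9260 (tt N18834 D28916) (tt N18835 D28917) (tt N18829 (iv2 F46556)) (tt N4451 F23028) (tt N18833 (iv4 F46562)) (tt N7652 F23029) (tt N4449 (iv6 D13777)) (tt N18836 D28918))
theorem Q9262 : ∀ i, i < 9262 → P i := stepQ 9261 Q9261 (allL N9261 (tt N18837 D28919) (tt N18838 D28920) (tt N18839 D28921) (tt N4450 (iv3 D13778)) (tt N18831 (iv4 F46561)) (tt N18840 D28922) (tt N18841 D28923) (tt N9445 (iv7 F23343)))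
theorem Q9263 : ∀ i, i < 9263 → P i := stepQ 9262 Q9262 (allL N9262 (tt N18816 (iv1 F46542)) (tt N18815 F46537) (tt N9454 (iv2 F23360)) (tt N18840 (iv3 F46565)) (tt N4492 F23030) (tt N4450 (iv5 D13779)) (tt N18842 D28924) (tt N9446 (iv7 F23345)))
theorem Q9264 : ∀ i, i < 9264 → P i := stepQ 9263 Q9263 (allL N9263 (tt N18843 D28925) (tt N18844 D28926) (tt N9455 (iv2 F23363)) (tt N18841 (iv3 F46566)) (tt N4451 F23031) (tt N11820 F321726) (tt N4450 (iv6 D13780)) (tt N18845 D28928))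
theorem Q9265 : ∀ i, i < 9265 → P i := stepQ 9264 Q9264 (allL N9264 (tt N9458 F23375) (tt N4451 (iv0 D13781)) (tt N9456 F45467) (tt N18706 F100187) (tt N18846 D28930) (tt N8964 F23307) (tt N18847 D28931) (tt N9457 (iv7 F45466)))
theorem Q9266 : ∀ i, i < 9266 → P i := stepQ 9265 Q9265 (allL N9265 (tt N4451 (iv1 D13782)) (tt N9458 F23374) (tt N9457 (iv2 F45468)) (tt N18848 D28932) (tt N18849 D28933) (tt N8965 (iv5 F23032)) (tt N9448 (iv6 F23349)) (tt N9456 (iv7 F45463)))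
theorem Q9267 : ∀ i, i < 9267 → P i := stepQ 9266 Q9266 (allL N9266 (tt N9457 (iv1 F23367)) (tt N9456 (iv0 F23366)) (tt N9458 (iv2 F23371)) (tt N18836 (iv3 F46563)) (tt N18845 (iv4 F46568)) (tt N7666 F23034) (tt N9450 (iv6 F23352)) (tt N4451 (iv7 D13783)))
theorem Q9268 : ∀ i, i < 9268 → P i := stepQ 9267 Q9267 (allL N9267 (tt N11296 (iv1 F314217)) (tt N18850 D28935) (tt N18851 D28936) (tt N4452 (iv3 D13784)) (tt N18852 D28937) (tt N18853 D28938) (tt N18854 D28939) (tt N9462 (iv7 F23382)))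
theorem Q9269 : ∀ i, i < 9269 → P i := stepQ 9268 Q9268 (allL N9268 (tt N18855 D28940) (tt N18856 D28941) (tt N9460 (iv2 F23377)) (tt N18853 (iv3 F46572)) (tt N4489 F23035) (tt N4452 (iv5 D13785)) (tt N18857 D28942) (tt N9463 (iv7 F23385)))
theorem Q9270 : ∀ i, i < 9270 → P i := stepQ 9269 Q9269 (allL N9269 (tt N18823 (iv1 F53622)) (tt N18825 (iv0 F53623)) (tt N9461 (iv2 F23380)) (tt N18854 (iv3 F46573)) (tt N4616 F23036) (tt N18858 D28945) (tt N4452 (iv6 D13786)) (tt N18859 D28946))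
theorem Q9271 : ∀ i, i < 9271 → P i := stepQ 9270 Q9270 (allL N9270 (tt N18860 D28947) (tt N18861 D28948) (tt N18862 D28949) (tt N4453 (iv3 D13787)) (tt N18863 D28950) (tt N18864 D28951) (tt N18865 D28952) (tt N9459 (iv7 F23376)))
theorem Q9272 : ∀ i, i < 9272 → P i := stepQ 9271 Q9271 (allL N9271 (tt N18856 (iv1 F46580)) (tt N18855 F46577) (tt N9463 (iv2 F23383)) (tt N18864 (iv3 F46588)) (tt N4486 F23037) (tt N4453 (iv5 D13788)) (tt N18866 D28953) (tt N9460 (iv7 F23378)))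
theorem Q9273 : ∀ i, i < 9273 → P i := stepQ 9272 Q9272 (allL N9272 (tt N18846 (iv1 F79886)) (tt N18849 (iv0 F79887)) (tt N9464 (iv2 F23386)) (tt N18865 (iv3 F46589)) (tt N4618 F23038) (tt N18867 D28956) (tt N4453 (iv6 D13789)) (tt N18868 D28957))
theorem Q9274 : ∀ i, i < 9274 → P i := stepQ 9273 Q9273 (allL N9273 (tt N18869 D28958) (tt N4454 (iv0 D13790)) (tt N18870 D28959) (tt N18871 D28960) (tt N18872 D28961) (tt N18873 D28962) (tt N18874 D28963) (tt N18875 D28964))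
theorem Q9275 : ∀ i, i < 9275 → P i := stepQ 9274 Q9274 (allL N9274 (tt N4454 (iv1 D13791)) (tt N18869 F46594) (tt N18875 (iv2 F46596)) (tt N18876 D28965) (tt N18877 D28966) (tt N18878 D28967) (tt N18879 D28968) (tt N18870 F46595))
theorem Q9276 : ∀ i, i < 9276 → P i := stepQ 9275 Q9275 (allL N9275 (tt N18870 (iv1 F208361)) (tt N18875 F208358) (tt N4454 (iv2 D13792)) (tt N9467 (iv3 F23388)) (tt N18717 (iv4 F46422)) (tt N18880 D28971) (tt N9467 (iv6 F23389)) (tt N18869 (iv7 F46593)))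
theorem Q9277 : ∀ i, i < 9277 → P i := stepQ 9276 Q9276 (allL N9276 (tt N18881 D28972) (tt N18882 D28973) (tt N18880 (iv2 F46599)) (tt N4455 F23039) (tt N18883 D28974) (tt N4454 (iv5 D13793)) (tt N18884 D28975) (tt N9558 (iv7 F23621)))
theorem Q9278 : ∀ i, i < 9278 → P i := stepQ 9277 Q9277 (allL N9277 (tt N18875 F208359) (tt N18870 (iv0 F208360)) (tt N18869 F46592) (tt N4456 F23040) (tt N18719 (iv4 F46425)) (tt N9558 (iv5 F23620)) (tt N18885 D28976) (tt N4454 (iv7 D13794)))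
theorem Q9279 : ∀ i, i < 9279 → P i := stepQ 9278 Q9278 (allL N9278 (tt N4504 (iv1 F23043)) (tt N4455 (iv0 D13795)) (tt N9470 F23397) (tt N11295 (iv3 F309590)) (tt N4481 F23042) (tt N4466 F23041) (tt N18886 D28978) (tt N9471 (iv7 F23400)))
theorem Q9280 : ∀ i, i < 9280 → P i := stepQ 9279 Q9279 (allL N9279 (tt N4455 (iv1 D13796)) (tt N4504 F23044) (tt N9471 F23403) (tt N18887 D28979) (tt N4474 F23046) (tt N4477 F23045) (tt N18888 D28980) (tt N9470 F23398))
theorem Q9281 : ∀ i, i < 9281 → P i := stepQ 9280 Q9280 (allL N9280 (tt N18889 D28981) (tt N18890 D28982) (tt N9472 (iv2 F23404)) (tt N18884 (iv3 F46602)) (tt N9563 (iv4 F23631)) (tt N9472 (iv5 F23406)) (tt N4455 (iv6 D13797)) (tt N18891 D28983))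
theorem Q9282 : ∀ i, i < 9282 → P i := stepQ 9281 Q9281 (allL N9281 (tt N18892 D28984) (tt N18892 F46608) (tt N9473 (iv2 F23407)) (tt N18885 (iv3 F46603)) (tt N4457 F23047) (tt N18893 D28985) (tt N4456 (iv6 D13798)) (tt N9473 (iv7 F23409)))
theorem Q9283 : ∀ i, i < 9283 → P i := stepQ 9282 Q9282 (allL N9282 (tt N4457 (iv1 F23048)) (tt N4457 (iv0 D13799)) (tt N9474 (iv2 F76957)) (tt N18894 D28987) (tt N18895 D28988) (tt N18896 D28989) (tt N18349 (iv6 F45816)) (tt N9474 (iv7 F76958)))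
theorem Q9284 : ∀ i, i < 9284 → P i := stepQ 9283 Q9283 (allL N9283 (tt N18897 D28990) (tt N18898 D28991) (tt N9753 (iv2 F23956)) (tt N4459 F23049) (tt N18899 D28992) (tt N4458 (iv5 D13800)) (tt N18900 D28993) (tt N9495 (iv7 F23451)))
theorem Q9285 : ∀ i, i < 9285 → P i := stepQ 9284 Q9284 (allL N9284 (tt N7917 (iv1 F23051)) (tt N4459 (iv0 D13801)) (tt N9498 F23461) (tt N9876 F24120) (tt N18901 D28994) (tt N7290 F23050) (tt N18902 D28995) (tt N9497 F23457))
theorem Q9286 : ∀ i, i < 9286 → P i := stepQ 9285 Q9285 (allL N9285 (tt N4459 (iv1 D13802)) (tt N7917 F23052) (tt N9497 F23456) (tt N18903 D28996) (tt N18904 D28997) (tt N8937 F23053) (tt N18905 D28998) (tt N9498 (iv7 F23459)))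
theorem Q9287 : ∀ i, i < 9287 → P i := stepQ 9286 Q9286 (allL N9286 (tt N18906 D28999) (tt N18907 D29000) (tt N16122 (iv2 F39956)) (tt N18908 D29001) (tt N4459 (iv4 D13803)) (tt N18909 D29002) (tt N18910 D29003) (tt N9499 (iv7 F23462)))
theorem Q9288 : ∀ i, i < 9288 → P i := stepQ 9287 Q9287 (allL N9287 (tt N18911 D29004) (tt N18912 D29005) (tt N16123 (iv2 F39957)) (tt N18900 (iv3 F46618)) (tt N18910 (iv4 F46637)) (tt N7377 F23054) (tt N4459 (iv6 D13804)) (tt N18913 D29006))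
theorem Q9289 : ∀ i, i < 9289 → P i := stepQ 9288 Q9288 (allL N9288 (tt N8973 F23055) (tt N8972 F23056) (tt N9503 (iv2 F23468)) (tt N17344 (iv3 F42826)) (tt N4460 (iv4 D13805)) (tt N18914 D29007) (tt N16557 (iv6 F40682)) (tt N9502 (iv7 F23466)))
theorem Q9290 : ∀ i, i < 9290 → P i := stepQ 9289 Q9289 (allL N9289 (tt N7230 (iv1 F23061)) (tt N4508 F23062) (tt N7394 F23057) (tt N4461 (iv3 D13806)) (tt N9292 (iv4 F23068)) (tt N7280 F23058) (tt N8598 F23059) (tt N7318 F23060))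
theorem Q9291 : ∀ i, i < 9291 → P i := stepQ 9290 Q9290 (allL N9290 (tt N8972 F23063) (tt N8973 F23064) (tt N9502 (iv2 F23465)) (tt N18915 D29008) (tt N4461 (iv4 D13807)) (tt N18916 D29009) (tt N10482 (iv6 F24850)) (tt N9503 (iv7 F23469)))
theorem Q9292 : ∀ i, i < 9292 → P i := stepQ 9291 Q9291 (allL N9291 (tt N7919 (iv1 F23066)) (tt N4462 (iv0 D13808)) (tt N9506 F23484) (tt N18917 D29010) (tt N7292 F23065) (tt N18918 D29011) (tt N18630 (iv6 F46281)) (tt N9505 F23480))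
theorem Q9293 : ∀ i, i < 9293 → P i := stepQ 9292 Q9292 (allL N9292 (tt N4462 (iv1 D13809)) (tt N7919 F23067) (tt N9505 F23479) (tt N18919 D29012) (tt N9289 F23068) (tt N18920 D29013) (tt N10478 (iv6 F24846)) (tt N9506 (iv7 F23482)))
theorem Q9294 : ∀ i, i < 9294 → P i := stepQ 9293 Q9293 (allL N9293 (tt N18921 D29014) (tt N18922 D29015) (tt N18923 D29016) (tt N4462 (iv3 D13810)) (tt N4473 F23069) (tt N18924 D29017) (tt N10196 (iv6 F24511)) (tt N9507 (iv7 F23486)))
theorem Q9295 : ∀ i, i < 9295 → P i := stepQ 9294 Q9294 (allL N9294 (tt N16442 (iv1 F40533)) (tt N14744 (iv0 F37046)) (tt N16125 (iv2 F39963)) (tt N18924 (iv3 F46657)) (tt N18925 D29018) (tt N4462 (iv5 D13811)) (tt N18926 D29019) (tt N9508 (iv7 F23487)))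
theorem Q9296 : ∀ i, i < 9296 → P i := stepQ 9295 Q9295 (allL N9295 (tt N8113 (iv1 F23071)) (tt N4463 (iv0 D13812)) (tt N9511 F23494) (tt N18927 D29020) (tt N18928 D29021) (tt N7586 F23070) (tt N18929 D29022) (tt N9510 (iv7 F23498)))
theorem Q9297 : ∀ i, i < 9297 → P i := stepQ 9296 Q9296 (allL N9296 (tt N4463 (iv1 D13813)) (tt N8113 F23072) (tt N9510 F23497) (tt N14953 F37522) (tt N18930 D29023) (tt N7587 (iv5 F23073)) (tt N18931 D29024) (tt N9511 F23495))
theorem Q9298 : ∀ i, i < 9298 → P i := stepQ 9297 Q9297 (allL N9297 (tt N18932 D29025) (tt N18933 D29026) (tt N16566 (iv2 F40710)) (tt N18934 D29027) (tt N4463 (iv4 D13814)) (tt N18935 D29028) (tt N18936 D29029) (tt N9512 (iv7 F23499)))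
theorem Q9299 : ∀ i, i < 9299 → P i := stepQ 9298 Q9298 (allL N9298 (tt N18937 D29030) (tt N18938 D29031) (tt N16567 (iv2 F40711)) (tt N4467 F23074) (tt N18936 (iv4 F46673)) (tt N7832 F23075) (tt N4463 (iv6 D13815)) (tt N18939 D29032))
theorem Q9300 : ∀ i, i < 9300 → P i := stepQ 9299 Q9299 (allL N9299 (tt N9626 (iv1 F23727)) (tt N9625 (iv0 F23722)) (tt N9641 F23754) (tt N4464 (iv3 D13816)) (tt N18940 D29033) (tt N5284 F23076) (tt N18941 D29034) (tt N9481 (iv7 F23421)))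
theorem Q9301 : ∀ i, i < 9301 → P i := stepQ 9300 Q9300 (allL N9300 (tt N4532 F23079) (tt N4528 F23080) (tt N9225 F23077) (tt N18942 D29035) (tt N4464 (iv4 D13817)) (tt N18816 (iv5 F46544)) (tt N18943 D29036) (tt N9226 F23078))
theorem Q9302 : ∀ i, i < 9302 → P i := stepQ 9301 Q9301 (allL N9301 (tt N18944 D29037) (tt N18945 D29038) (tt N9480 (iv2 F23418)) (tt N18941 (iv3 F46677)) (tt N18943 (iv4 F46681)) (tt N5286 F23081) (tt N4464 (iv6 D13818)) (tt N18946 D29039))
theorem Q9303 : ∀ i, i < 9303 → P i := stepQ 9302 Q9302 (allL N9302 (tt N4605 F23083) (tt N4609 F23647) (tt N18947 D29040) (tt N4465 (iv3 D13819)) (tt N18948 D29041) (tt N7547 F23082) (tt N10038 (iv6 F24342)) (tt N9479 (iv7 F23417)))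
theorem Q9304 : ∀ i, i < 9304 → P i := stepQ 9303 Q9303 (allL N9303 (tt N4528 F23086) (tt N4532 F23087) (tt N9226 F23084) (tt N18949 D29042) (tt N4465 (iv4 D13820)) (tt N18815 (iv5 F46534)) (tt N10060 (iv6 F24365)) (tt N9225 F23085))
theorem Q9305 : ∀ i, i < 9305 → P i := stepQ 9304 Q9304 (allL N9304 (tt N18950 D29043) (tt N18951 D29044) (tt N18952 D29045) (tt N4466 (iv3 D13821)) (tt N18934 (iv4 F46672)) (tt N11295 F311788) (tt N18953 D29046) (tt N9515 (iv7 F23503)))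
theorem Q9306 : ∀ i, i < 9306 → P i := stepQ 9305 Q9305 (allL N9305 (tt N18767 (iv1 F79875)) (tt N18768 (iv0 F79876)) (tt N9483 (iv2 F23424)) (tt N18953 (iv3 F46690)) (tt N4467 F23088) (tt N18954 D29049) (tt N4466 (iv6 D13822)) (tt N18955 D29050))
theorem Q9307 : ∀ i, i < 9307 → P i := stepQ 9306 Q9306 (allL N9306 (tt N9486 (iv1 F23435)) (tt N4467 (iv0 D13823)) (tt N9484 F39387) (tt N18956 D29051) (tt N18957 D29052) (tt N7595 F23089) (tt N9484 (iv6 F23426)) (tt N9485 F39385))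
theorem Q9308 : ∀ i, i < 9308 → P i := stepQ 9307 Q9307 (allL N9307 (tt N4467 (iv1 D13824)) (tt N9486 F23434) (tt N9485 (iv2 F39386)) (tt N18958 D29053) (tt N18959 D29054) (tt N7594 (iv5 F23090)) (tt N18960 D29055) (tt N9484 (iv7 F39388)))
theorem Q9309 : ∀ i, i < 9309 → P i := stepQ 9308 Q9308 (allL N9308 (tt N9485 (iv1 F23428)) (tt N9484 F23433) (tt N9486 (iv2 F23430)) (tt N18939 (iv3 F46674)) (tt N18955 (iv4 F46691)) (tt N7837 F23092) (tt N9519 (iv6 F23509)) (tt N4467 (iv7 D13825)))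
theorem Q9310 : ∀ i, i < 9310 → P i := stepQ 9309 Q9309 (allL N9309 (tt N4582 F23096) (tt N4585 F23097) (tt N9355 F23156) (tt N5313 F26715) (tt N18750 (iv4 F46463)) (tt N4469 (iv5 D13828)) (tt N18961 D29056) (tt N9354 F23152))
theorem Q9311 : ∀ i, i < 9311 → P i := stepQ 9310 Q9310 (allL N9310 (tt N10222 F50485) (tt N8317 (iv0 F50456)) (tt N5310 F26686) (tt N4470 (iv3 D13829)) (tt N9310 F23098) (tt N18962 D29057) (tt N8235 (iv6 F26629)) (tt N9487 (iv7 F23437)))
theorem Q9312 : ∀ i, i < 9312 → P i := stepQ 9311 Q9311 (allL N9311 (tt N4585 F23099) (tt N4582 F23100) (tt N9354 F23151) (tt N18962 (iv3 F46697)) (tt N18744 (iv4 F46456)) (tt N4470 (iv5 D13830)) (tt N18963 D29058) (tt N9355 (iv7 F23154)))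
theorem Q9313 : ∀ i, i < 9313 → P i := stepQ 9312 Q9312 (allL N9312 (tt N4574 F23101) (tt N4579 F23102) (tt N9344 F23140) (tt N17345 (iv3 F42827)) (tt N18815 (iv4 F46535)) (tt N4471 (iv5 D13832)) (tt N18964 D29059) (tt N9343 F23136))
theorem Q9314 : ∀ i, i < 9314 → P i := stepQ 9313 Q9313 (allL N9313 (tt N10247 F24545) (tt N8313 (iv0 F23107)) (tt N9174 F23103) (tt N17346 (iv3 F42829)) (tt N5436 F23104) (tt N8471 F23106) (tt N4471 (iv6 D13833)) (tt N9178 F23105))
theorem Q9315 : ∀ i, i < 9315 → P i := stepQ 9314 Q9314 (allL N9314 (tt N18392 (iv1 F50548)) (tt N11474 (iv0 F47451)) (tt N17340 (iv2 F42820)) (tt N4472 (iv3 D13834)) (tt N15180 (iv4 F37986)) (tt N18965 D29062) (tt N10490 (iv6 F24858)) (tt N9488 (iv7 F23439)))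
theorem Q9316 : ∀ i, i < 9316 → P i := stepQ 9315 Q9315 (allL N9315 (tt N4579 F23113) (tt N4574 F23114) (tt N9343 F23135) (tt N18965 (iv3 F46699)) (tt N18816 (iv4 F46545)) (tt N4472 (iv5 D13835)) (tt N18966 D29063) (tt N9344 (iv7 F23138)))
theorem Q9317 : ∀ i, i < 9317 → P i := stepQ 9316 Q9316 (allL N9316 (tt N8540 (iv1 F26731)) (tt N4473 (iv0 D13836)) (tt N5317 (iv2 F26720)) (tt N11479 (iv3 F50507)) (tt N18967 D29064) (tt N18968 D29065) (tt N18969 D29066) (tt N9521 (iv7 F26826)))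
theorem Q9318 : ∀ i, i < 9318 → P i := stepQ 9317 Q9317 (allL N9317 (tt N5317 (iv1 F26825)) (tt N9521 F23522) (tt N4473 (iv2 D13838)) (tt N9492 (iv3 F23442)) (tt N18923 (iv4 F46654)) (tt N17193 (iv5 F42472)) (tt N10200 (iv6 F24514)) (tt N8540 (iv7 F26734)))
theorem Q9319 : ∀ i, i < 9319 → P i := stepQ 9318 Q9318 (allL N9318 (tt N17195 F42477) (tt N15226 (iv0 F38065)) (tt N17193 F42473) (tt N4474 F23115) (tt N18970 D29067) (tt N4473 (iv5 D13839)) (tt N18971 D29068) (tt N9522 (iv7 F23529)))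
theorem Q9320 : ∀ i, i < 9320 → P i := stepQ 9319 Q9319 (allL N9319 (tt N18972 D29069) (tt N18973 D29070) (tt N9494 (iv2 F23449)) (tt N18971 (iv3 F46708)) (tt N18888 (iv4 F46607)) (tt N10202 (iv5 F24516)) (tt N4474 (iv6 D13840)) (tt N18974 D29071))
theorem Q9321 : ∀ i, i < 9321 → P i := stepQ 9320 Q9320 (allL N9320 (tt N4660 (iv1 F23116)) (tt N4475 (iv0 D13841)) (tt N9476 (iv2 F26010)) (tt N18975 D29072) (tt N18976 D29073) (tt N9839 (iv5 F24095)) (tt N9842 (iv6 F24099)) (tt N9475 (iv7 F26007)))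
theorem Q9322 : ∀ i, i < 9322 → P i := stepQ 9321 Q9321 (allL N9321 (tt N4475 (iv1 D13842)) (tt N4660 F23117) (tt N9475 (iv2 F26033)) (tt N18977 D29074) (tt N18978 D29075) (tt N5273 F23118) (tt N18979 D29076) (tt N9476 F26032))
theorem Q9323 : ∀ i, i < 9323 → P i := stepQ 9322 Q9322 (allL N9322 (tt N18980 D29077) (tt N18981 D29078) (tt N9706 (iv2 F23848)) (tt N18982 D29079) (tt N4475 (iv4 D13843)) (tt N18983 D29080) (tt N18984 D29081) (tt N9477 (iv7 F23413)))
theorem Q9324 : ∀ i, i < 9324 → P i := stepQ 9323 Q9323 (allL N9323 (tt N18985 D29082) (tt N18931 (iv0 F46669)) (tt N9707 (iv2 F23850)) (tt N4478 F23119) (tt N18984 (iv4 F46723)) (tt N18986 D29083) (tt N4475 (iv6 D13844)) (tt N18987 D29084))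
theorem Q9325 : ∀ i, i < 9325 → P i := stepQ 9324 Q9324 (allL N9324 (tt N11060 F26063) (tt N11059 (iv0 F26060)) (tt N9709 (iv2 F23871)) (tt N4479 F23120) (tt N18988 D29085) (tt N4476 (iv5 D13846)) (tt N18986 (iv6 F46725)) (tt N9803 (iv7 F24032)))
theorem Q9326 : ∀ i, i < 9326 → P i := stepQ 9325 Q9325 (allL N9325 (tt N18989 D29086) (tt N18990 D29087) (tt N18991 D29088) (tt N4477 (iv3 D13847)) (tt N18982 (iv4 F46722)) (tt N18887 (iv5 F46606)) (tt N18992 D29089) (tt N9482 (iv7 F23423)))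
theorem Q9327 : ∀ i, i < 9327 → P i := stepQ 9326 Q9326 (allL N9326 (tt N18799 (iv1 F47159)) (tt N18751 (iv0 F46468)) (tt N9516 (iv2 F23504)) (tt N18992 (iv3 F46728)) (tt N4478 F23121) (tt N18370 F322005) (tt N4477 (iv6 D13848)) (tt N18993 D29092))
theorem Q9328 : ∀ i, i < 9328 → P i := stepQ 9327 Q9327 (allL N9327 (tt N9519 (iv1 F23517)) (tt N4478 (iv0 D13849)) (tt N9517 (iv2 F23514)) (tt N18994 D29093) (tt N18995 D29094) (tt N8178 F23515) (tt N18946 (iv6 F46684)) (tt N8177 F23516))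
theorem Q9329 : ∀ i, i < 9329 → P i := stepQ 9328 Q9328 (allL N9328 (tt N18996 D29095) (tt N18997 D29096) (tt N9518 (iv2 F23506)) (tt N18986 (iv3 F46724)) (tt N18998 D29097) (tt N4478 (iv5 D13850)) (tt N4479 F23122) (tt N16701 (iv7 F40965)))
theorem Q9330 : ∀ i, i < 9330 → P i := stepQ 9329 Q9329 (allL N9329 (tt N8177 (iv1 F23123)) (tt N9517 F23510) (tt N9519 (iv2 F23508)) (tt N18987 (iv3 F46726)) (tt N18993 (iv4 F46729)) (tt N16701 (iv5 F40964)) (tt N9486 (iv6 F23432)) (tt N4478 (iv7 D13851)))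
theorem Q9331 : ∀ i, i < 9331 → P i := stepQ 9330 Q9330 (allL N9330 (tt N7487 F23124) (tt N7483 F23125) (tt N9520 (iv2 F23519)) (tt N18999 D29098) (tt N4479 (iv4 D13852)) (tt N19000 D29099) (tt N18998 (iv6 F46746)) (tt N9974 (iv7 F24248)))
theorem Q9332 : ∀ i, i < 9332 → P i := stepQ 9331 Q9331 (allL N9331 (tt N9492 (iv1 F23444)) (tt N4480 (iv0 D13853)) (tt N9491 F49984) (tt N5320 F26721) (tt N11166 (iv4 F49988)) (tt N12013 F310619) (tt N19001 D29102) (tt N9490 (iv7 F49991)))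
theorem Q9333 : ∀ i, i < 9333 → P i := stepQ 9332 Q9332 (allL N9332 (tt N4480 (iv1 D13854)) (tt N9492 F23446) (tt N9490 (iv2 F49990)) (tt N19002 D29104) (tt N11169 (iv4 F49995)) (tt N12475 F308560) (tt N19003 D29106) (tt N9491 F49985))
theorem Q9334 : ∀ i, i < 9334 → P i := stepQ 9333 Q9333 (allL N9333 (tt N9491 (iv1 F23445)) (tt N9490 F23441) (tt N4480 (iv2 D13855)) (tt N8540 (iv3 F26733)) (tt N18216 (iv4 F45529)) (tt N19004 D29107) (tt N8538 (iv6 F26737)) (tt N9492 (iv7 F23443)))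
theorem Q9335 : ∀ i, i < 9335 → P i := stepQ 9334 Q9334 (allL N9334 (tt N5191 F50971) (tt N19005 D29109) (tt N19004 (iv2 F46758)) (tt N4481 F23126) (tt N19006 D29110) (tt N4480 (iv5 D13856)) (tt N19007 D29111) (tt N9493 (iv7 F23448)))
theorem Q9336 : ∀ i, i < 9336 → P i := stepQ 9335 Q9335 (allL N9335 (tt N19008 D29112) (tt N19009 D29113) (tt N9523 (iv2 F23530)) (tt N19007 (iv3 F46760)) (tt N18886 (iv4 F46605)) (tt N10637 (iv5 F25134)) (tt N4481 (iv6 D13857)) (tt N19010 D29114))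
theorem Q9337 : ∀ i, i < 9337 → P i := stepQ 9336 Q9336 (allL N9336 (tt N10863 (iv1 F53965)) (tt N5184 F53958) (tt N10861 (iv2 F53970)) (tt N4482 (iv3 D13858)) (tt N11141 (iv4 F26244)) (tt N19011 D29118) (tt N10333 (iv6 F24687)) (tt N9349 F23143))
theorem Q9338 : ∀ i, i < 9338 → P i := stepQ 9337 Q9337 (allL N9337 (tt N5316 F23127) (tt N5318 F23128) (tt N9524 (iv2 F23531)) (tt N19011 (iv3 F46768)) (tt N19012 D29119) (tt N4482 (iv5 D13859)) (tt N19013 D29120) (tt N9351 (iv7 F23144)))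
theorem Q9339 : ∀ i, i < 9339 → P i := stepQ 9338 Q9338 (allL N9338 (tt N16487 (iv1 F54270)) (tt N16472 (iv0 F54059)) (tt N16485 (iv2 F54278)) (tt N4483 (iv3 D13860)) (tt N4485 F23129) (tt N19014 D29123) (tt N19015 D29124) (tt N9529 (iv7 F23552)))
theorem Q9340 : ∀ i, i < 9340 → P i := stepQ 9339 Q9339 (allL N9339 (tt N19016 D29125) (tt N19017 D29126) (tt N16126 (iv2 F39965)) (tt N19014 (iv3 F46784)) (tt N19018 D29127) (tt N4483 (iv5 D13861)) (tt N19019 D29128) (tt N9530 (iv7 F23553)))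
theorem Q9341 : ∀ i, i < 9341 → P i := stepQ 9340 Q9340 (allL N9340 (tt N14721 (iv1 F36976)) (tt N13243 F31844) (tt N11808 (iv2 F28415)) (tt N19015 (iv3 F46785)) (tt N4484 F23130) (tt N11438 F27792) (tt N4483 (iv6 D13862)) (tt N16313 (iv7 F40322)))
theorem Q9342 : ∀ i, i < 9342 → P i := stepQ 9341 Q9341 (allL N9341 (tt N19020 D29129) (tt N11161 F46799) (tt N17192 (iv2 F42470)) (tt N4486 F23131) (tt N19021 D29130) (tt N4485 (iv5 D13866)) (tt N19022 D29131) (tt N9533 (iv7 F23565)))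
theorem Q9343 : ∀ i, i < 9343 → P i := stepQ 9342 Q9342 (allL N9342 (tt N16925 (iv1 F41578)) (tt N4962 F26909) (tt N16930 F41586) (tt N4487 F23132) (tt N19015 (iv4 F46786)) (tt N17450 (iv5 F43288)) (tt N4485 (iv6 D13867)) (tt N16871 (iv7 F41414)))
theorem Q9344 : ∀ i, i < 9344 → P i := stepQ 9343 Q9343 (allL N9343 (tt N4489 (iv1 F23134)) (tt N4486 (iv0 D13868)) (tt N9315 (iv2 F23135)) (tt N19023 D29132) (tt N18753 (iv4 F46469)) (tt N4555 F23133) (tt N19024 D29133) (tt N9312 (iv7 F23136)))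
theorem Q9345 : ∀ i, i < 9345 → P i := stepQ 9344 Q9344 (allL N9344 (tt N4486 (iv1 D13869)) (tt N4489 F23137) (tt N9312 (iv2 F23140)) (tt N19025 D29134) (tt N18756 (iv4 F46473)) (tt N4554 F23139) (tt N19026 D29135) (tt N9315 F23138))
theorem Q9346 : ∀ i, i < 9346 → P i := stepQ 9345 Q9345 (allL N9345 (tt N19027 D29136) (tt N16968 F313949) (tt N9527 (iv2 F23545)) (tt N19022 (iv3 F46800)) (tt N18866 (iv4 F46590)) (tt N17456 (iv5 F43304)) (tt N4486 (iv6 D13870)) (tt N19028 D29138))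
theorem Q9347 : ∀ i, i < 9347 → P i := stepQ 9346 Q9346 (allL N9346 (tt N4488 (iv1 D13872)) (tt N5190 (iv0 F53963)) (tt N5192 (iv2 F53964)) (tt N19029 D29144) (tt N10863 (iv4 F53966)) (tt N19005 (iv5 F53967)) (tt N5204 (iv6 F53968)) (tt N5176 F53987))
theorem Q9348 : ∀ i, i < 9348 → P i := stepQ 9347 Q9347 (allL N9347 (tt N5176 F53978) (tt N5192 (iv0 F53985)) (tt N4488 (iv2 D13873)) (tt N9532 (iv3 F23559)) (tt N9545 (iv4 F23587)) (tt N19030 D29147) (tt N10873 F53979) (tt N5190 F53980))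
theorem Q9349 : ∀ i, i < 9349 → P i := stepQ 9348 Q9348 (allL N9348 (tt N17975 F309744) (tt N13826 F309745) (tt N19030 (iv2 F46814)) (tt N4489 F23141) (tt N12636 (iv4 F310628)) (tt N4488 (iv5 D13874)) (tt N12634 F309746) (tt N9525 (iv7 F23542)))
theorem Q9350 : ∀ i, i < 9350 → P i := stepQ 9349 Q9349 (allL N9349 (tt N5179 (iv1 F53981)) (tt N10875 F53974) (tt N10873 F53975) (tt N4490 F23142) (tt N9547 (iv4 F23595)) (tt N19031 D29153) (tt N4488 (iv6 D13875)) (tt N9336 (iv7 F23143)))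
theorem Q9351 : ∀ i, i < 9351 → P i := stepQ 9350 Q9350 (allL N9350 (tt N19032 D29154) (tt N19033 D29155) (tt N9535 (iv2 F23568)) (tt N12634 F308937) (tt N18857 (iv4 F46585)) (tt N19034 D29156) (tt N4489 (iv6 D13876)) (tt N19035 D29157))
theorem Q9352 : ∀ i, i < 9352 → P i := stepQ 9351 Q9351 (allL N9351 (tt N7451 F23145) (tt N7449 F23146) (tt N9536 (iv2 F23569)) (tt N19031 (iv3 F46818)) (tt N19036 D29158) (tt N4490 (iv5 D13877)) (tt N19034 (iv6 F46820)) (tt N9337 F23144))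
theorem Q9353 : ∀ i, i < 9353 → P i := stepQ 9352 Q9352 (allL N9352 (tt N19037 D29171) (tt N19038 D29172) (tt N18523 (iv2 F54019)) (tt N4492 F23147) (tt N19039 D29173) (tt N4491 (iv5 D13881)) (tt N19040 D29174) (tt N9546 (iv7 F23593)))
theorem Q9354 : ∀ i, i < 9354 → P i := stepQ 9353 Q9353 (allL N9353 (tt N18428 (iv1 F54175)) (tt N18435 (iv0 F54171)) (tt N18438 (iv2 F54182)) (tt N4493 F23148) (tt N9526 (iv4 F23544)) (tt N16998 (iv5 F41816)) (tt N4491 (iv6 D13882)) (tt N11806 (iv7 F28412)))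
theorem Q9355 : ∀ i, i < 9355 → P i := stepQ 9354 Q9354 (allL N9354 (tt N4495 (iv1 F23150)) (tt N4492 (iv0 D13883)) (tt N9311 (iv2 F23151)) (tt N4922 F26582) (tt N18856 (iv4 F46583)) (tt N4553 F23149) (tt N19041 D29177) (tt N9309 (iv7 F23152)))
theorem Q9356 : ∀ i, i < 9356 → P i := stepQ 9355 Q9355 (allL N9355 (tt N4492 (iv1 D13884)) (tt N4495 F23153) (tt N9309 (iv2 F23156)) (tt N19042 D29178) (tt N18855 (iv4 F46575)) (tt N4552 F23155) (tt N19043 D29179) (tt N9311 F23154))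
theorem Q9357 : ∀ i, i < 9357 → P i := stepQ 9356 Q9356 (allL N9356 (tt N19044 D29180) (tt N18464 (iv0 F315380)) (tt N9543 (iv2 F23584)) (tt N19040 (iv3 F46832)) (tt N18842 (iv4 F46567)) (tt N11011 F312984) (tt N4492 (iv6 D13885)) (tt N19045 D29182))
theorem Q9358 : ∀ i, i < 9358 → P i := stepQ 9357 Q9357 (allL N9357 (tt N4494 (iv1 D13887)) (tt N9539 F23578) (tt N9537 F54225) (tt N19046 D29188) (tt N19047 D29189) (tt N19048 D29190) (tt N14856 (iv6 F54220)) (tt N9538 (iv7 F54233)))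
theorem Q9359 : ∀ i, i < 9359 → P i := stepQ 9358 Q9358 (allL N9358 (tt N9538 (iv1 F23577)) (tt N9537 F23573) (tt N4494 (iv2 D13888)) (tt N9545 (iv3 F23586)) (tt N19049 D29192) (tt N19050 D29193) (tt N19051 D29194) (tt N9539 (iv7 F23575)))
theorem Q9360 : ∀ i, i < 9360 → P i := stepQ 9359 Q9359 (allL N9359 (tt N14747 F37052) (tt N19052 D29195) (tt N19049 (iv2 F46842)) (tt N7643 F23157) (tt N4494 (iv4 D13889)) (tt N19053 D29196) (tt N10760 (iv6 F26992)) (tt N9540 (iv7 F23580)))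
theorem Q9361 : ∀ i, i < 9361 → P i := stepQ 9360 Q9360 (allL N9360 (tt N19054 D29197) (tt N19055 D29198) (tt N19050 (iv2 F46847)) (tt N4495 F23158) (tt N19056 D29199) (tt N4494 (iv5 D13890)) (tt N19057 D29200) (tt N9541 (iv7 F23582)))
theorem Q9362 : ∀ i, i < 9362 → P i := stepQ 9361 Q9361 (allL N9361 (tt N18493 (iv1 F54047)) (tt N19058 D29201) (tt N19051 (iv2 F46848)) (tt N4496 F23159) (tt N10760 F26985) (tt N19059 D29202) (tt N4494 (iv6 D13891)) (tt N9550 (iv7 F26910)))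
theorem Q9363 : ∀ i, i < 9363 → P i := stepQ 9362 Q9362 (allL N9362 (tt N19060 D29203) (tt N19061 D29204) (tt N9548 (iv2 F23596)) (tt N19057 (iv3 F46853)) (tt N18817 (iv4 F46547)) (tt N19062 D29205) (tt N4495 (iv6 D13892)) (tt N19063 D29206))
theorem Q9364 : ∀ i, i < 9364 → P i := stepQ 9363 Q9363 (allL N9363 (tt N4896 F23160) (tt N4922 F23161) (tt N9549 (iv2 F23597)) (tt N19059 (iv3 F46855)) (tt N12487 (iv4 F309003)) (tt N4496 (iv5 D13893)) (tt N19062 (iv6 F46856)) (tt N9551 (iv7 F26685)))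
theorem Q9365 : ∀ i, i < 9365 → P i := stepQ 9364 Q9364 (allL N9364 (tt N4501 (iv1 F50568)) (tt N4499 (iv0 F50569)) (tt N4497 (iv2 D13895)) (tt N18500 (iv3 F54056)) (tt N10771 (iv4 F50573)) (tt N19064 D29212) (tt N16865 F50567) (tt N4498 (iv7 F23166)))
theorem Q9366 : ∀ i, i < 9366 → P i := stepQ 9365 Q9365 (allL N9365 (tt N19046 (iv1 F77207)) (tt N18506 (iv0 F54067)) (tt N19065 D29216) (tt N4497 (iv3 D13896)) (tt N19066 D29217) (tt N19067 D29218) (tt N19068 D29219) (tt N19069 D29220))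
theorem Q9367 : ∀ i, i < 9367 → P i := stepQ 9366 Q9366 (allL N9366 (tt N19070 D29221) (tt N10853 F53959) (tt N10771 (iv2 F50572)) (tt N15318 (iv3 F38229)) (tt N4497 (iv4 D13897)) (tt N19071 D29223) (tt N19072 D29224) (tt N19073 D29225))
theorem Q9368 : ∀ i, i < 9368 → P i := stepQ 9367 Q9367 (allL N9367 (tt N11152 (iv1 F50440)) (tt N19042 (iv0 F50437)) (tt N19064 (iv2 F46866)) (tt N19067 (iv3 F46871)) (tt N19074 D29228) (tt N4497 (iv5 D13898)) (tt N19075 D29229) (tt N19076 D29230))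
theorem Q9369 : ∀ i, i < 9369 → P i := stepQ 9368 Q9368 (allL N9368 (tt N16862 (iv1 F46891)) (tt N16862 (iv0 F46890)) (tt N16865 (iv2 F50565)) (tt N19068 (iv3 F46872)) (tt N19072 (iv4 F46880)) (tt N19077 D29233) (tt N4497 (iv6 D13899)) (tt N16865 (iv7 F50566)))
theorem Q9370 : ∀ i, i < 9370 → P i := stepQ 9369 Q9369 (allL N9369 (tt N4499 F50575) (tt N4501 F50576) (tt N4498 F23167) (tt N19069 (iv3 F46873)) (tt N19073 (iv4 F46882)) (tt N19076 (iv5 F46885)) (tt N4498 F46896) (tt N4497 (iv7 D13900)))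
theorem Q9371 : ∀ i, i < 9371 → P i := stepQ 9370 Q9370 (allL N9370 (tt N16479 (iv1 F54275)) (tt N18503 (iv0 F54050)) (tt N18501 (iv2 F83535)) (tt N4498 (iv3 D13901)) (tt N19078 D29237) (tt N19079 D29238) (tt N19069 F46897) (tt N18500 (iv7 F54058)))
theorem Q9372 : ∀ i, i < 9372 → P i := stepQ 9371 Q9371 (allL N9371 (tt N10853 F53960) (tt N19070 (iv0 F46877)) (tt N19073 (iv2 F46881)) (tt N10747 (iv3 F25398)) (tt N4498 (iv4 D13902)) (tt N19080 D29239) (tt N19073 F46898) (tt N10771 (iv7 F50574)))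
theorem Q9373 : ∀ i, i < 9373 → P i := stepQ 9372 Q9372 (allL N9372 (tt N19042 (iv1 F50438)) (tt N11152 (iv0 F50439)) (tt N19076 (iv2 F46884)) (tt N19079 (iv3 F46902)) (tt N19081 D29240) (tt N4498 (iv5 D13903)) (tt N19082 D29241) (tt N19064 (iv7 F46867)))
theorem Q9374 : ∀ i, i < 9374 → P i := stepQ 9373 Q9373 (allL N9373 (tt N19083 D29250) (tt N10544 (iv0 F27199)) (tt N4500 F23170) (tt N5304 F26597) (tt N19084 D29251) (tt N4499 (iv5 D13907)) (tt N19085 D29252) (tt N15335 (iv7 F38255)))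
theorem Q9375 : ∀ i, i < 9375 → P i := stepQ 9374 Q9374 (allL N9374 (tt N15335 (iv1 F38257)) (tt N4500 (iv0 D13908)) (tt N19083 F46909) (tt N19086 D29253) (tt N19087 D29254) (tt N10222 F50482) (tt N19088 D29255) (tt N10544 F38258))
theorem Q9376 : ∀ i, i < 9376 → P i := stepQ 9375 Q9375 (allL N9375 (tt N4500 (iv1 D13909)) (tt N15335 F38256) (tt N10544 (iv2 F27257)) (tt N19089 D29256) (tt N19090 D29257) (tt N8317 (iv5 F26968)) (tt N19091 D29258) (tt N19083 (iv7 F46911)))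
theorem Q9377 : ∀ i, i < 9377 → P i := stepQ 9376 Q9376 (allL N9376 (tt N19092 D29259) (tt N19093 D29260) (tt N19084 (iv2 F46914)) (tt N19094 D29261) (tt N4500 (iv4 D13910)) (tt N19095 D29262) (tt N19096 D29263) (tt N19097 D29264))
theorem Q9378 : ∀ i, i < 9378 → P i := stepQ 9377 Q9377 (allL N9377 (tt N19098 D29265) (tt N19099 D29266) (tt N19085 (iv2 F46915)) (tt N4505 F23171) (tt N19096 (iv4 F46921)) (tt N5084 F23172) (tt N4500 (iv6 D13911)) (tt N19100 D29267))
theorem Q9379 : ∀ i, i < 9379 → P i := stepQ 9378 Q9378 (allL N9378 (tt N10544 (iv1 F27206)) (tt N19083 F46910) (tt N15335 (iv2 F38253)) (tt N4506 F23173) (tt N19097 (iv4 F46922)) (tt N4501 F23174) (tt N19101 D29268) (tt N4500 (iv7 D13912)))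
theorem Q9380 : ∀ i, i < 9380 → P i := stepQ 9379 Q9379 (allL N9379 (tt N18526 (iv1 F50844)) (tt N18496 (iv0 F50846)) (tt N18524 (iv2 F50874)) (tt N4502 (iv3 D13913)) (tt N19102 D29272) (tt N8977 F23175) (tt N19103 D29273) (tt N9556 (iv7 F23618)))
theorem Q9381 : ∀ i, i < 9381 → P i := stepQ 9380 Q9380 (allL N9380 (tt N19104 D29274) (tt N19105 D29275) (tt N9555 (iv2 F23616)) (tt N19103 (iv3 F46927)) (tt N18795 (iv4 F46514)) (tt N10212 (iv5 F24519)) (tt N4502 (iv6 D13914)) (tt N19106 D29276))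
theorem Q9382 : ∀ i, i < 9382 → P i := stepQ 9381 Q9381 (allL N9381 (tt N14844 (iv1 F50932)) (tt N19048 (iv0 F54216)) (tt N19107 D29279) (tt N4503 (iv3 D13915)) (tt N19108 D29280) (tt N8978 F23176) (tt N19109 D29281) (tt N9554 (iv7 F23615)))
theorem Q9383 : ∀ i, i < 9383 → P i := stepQ 9382 Q9382 (allL N9382 (tt N19110 D29282) (tt N19111 D29283) (tt N9557 (iv2 F23619)) (tt N19109 (iv3 F46929)) (tt N18762 (iv4 F46479)) (tt N10612 (iv5 F26484)) (tt N4503 (iv6 D13916)) (tt N19112 D29284))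
theorem Q9384 : ∀ i, i < 9384 → P i := stepQ 9383 Q9383 (allL N9383 (tt N19113 D29285) (tt N19114 D29286) (tt N19115 D29287) (tt N4504 (iv3 D13917)) (tt N19094 (iv4 F46920)) (tt N9469 (iv5 F23393)) (tt N19116 D29288) (tt N9468 F23391))
theorem Q9385 : ∀ i, i < 9385 → P i := stepQ 9384 Q9384 (allL N9384 (tt N14041 F299176) (tt N11284 F299177) (tt N9559 (iv2 F23622)) (tt N19116 (iv3 F46930)) (tt N4505 F23177) (tt N11274 F299178) (tt N4504 (iv6 D13918)) (tt N12137 (iv7 F299891)))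
theorem Q9386 : ∀ i, i < 9386 → P i := stepQ 9385 Q9385 (allL N9385 (tt N9562 (iv1 F23629)) (tt N4505 (iv0 D13919)) (tt N9560 (iv2 F41800)) (tt N19117 D29293) (tt N11634 (iv4 F298466)) (tt N8560 F298237) (tt N19118 D29295) (tt N9561 F41799))
theorem Q9387 : ∀ i, i < 9387 → P i := stepQ 9386 Q9386 (allL N9386 (tt N4505 (iv1 D13920)) (tt N9562 F23628) (tt N9561 F41797) (tt N19119 D29296) (tt N11637 (iv4 F298480)) (tt N8559 F296885) (tt N19120 D29298) (tt N9560 (iv7 F41798)))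
theorem Q9388 : ∀ i, i < 9388 → P i := stepQ 9387 Q9387 (allL N9387 (tt N9561 (iv1 F23624)) (tt N9560 F23627) (tt N9562 (iv2 F23625)) (tt N19100 (iv3 F46923)) (tt N12137 F300275) (tt N5091 F23178) (tt N19121 D29299) (tt N4505 (iv7 D13921)))
theorem Q9389 : ∀ i, i < 9389 → P i := stepQ 9388 Q9388 (allL N9388 (tt N19122 D29300) (tt N19123 D29301) (tt N9563 (iv2 F23630)) (tt N19101 (iv3 F46925)) (tt N9472 (iv4 F23405)) (tt N17060 (iv5 F42071)) (tt N4506 (iv6 D13922)) (tt N19121 (iv7 F46936)))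
theorem Q9390 : ∀ i, i < 9390 → P i := stepQ 9389 Q9389 (allL N9389 (tt N19124 D29302) (tt N19125 D29303) (tt N15723 (iv2 F38898)) (tt N4513 F23224) (tt N19126 D29304) (tt N4512 (iv5 D13944)) (tt N19127 D29305) (tt N11095 (iv7 F26137)))
theorem Q9391 : ∀ i, i < 9391 → P i := stepQ 9390 Q9390 (allL N9390 (tt N9017 (iv1 F38831)) (tt N15756 F39010) (tt N15724 (iv2 F38899)) (tt N4514 F23225) (tt N4739 F23226) (tt N14896 (iv5 F37366)) (tt N4512 (iv6 D13945)) (tt N10267 (iv7 F24598)))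
theorem Q9392 : ∀ i, i < 9392 → P i := stepQ 9391 Q9391 (allL N9391 (tt N4516 (iv1 F23228)) (tt N4513 (iv0 D13946)) (tt N9220 (iv2 F23229)) (tt N9193 (iv3 F23230)) (tt N19128 D29306) (tt N7914 F23227) (tt N19129 D29307) (tt N14982 (iv7 F37563)))
theorem Q9393 : ∀ i, i < 9393 → P i := stepQ 9392 Q9392 (allL N9392 (tt N4513 (iv1 D13947)) (tt N4516 F23231) (tt N14982 F37565) (tt N4527 F23234) (tt N19130 D29308) (tt N7393 (iv5 F23233)) (tt N18345 (iv6 F45807)) (tt N9220 F23232))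
theorem Q9394 : ∀ i, i < 9394 → P i := stepQ 9393 Q9393 (allL N9393 (tt N19131 D29309) (tt N19132 D29310) (tt N14983 (iv2 F37566)) (tt N19133 D29311) (tt N4513 (iv4 D13948)) (tt N19134 D29312) (tt N19135 D29313) (tt N14985 (iv7 F37571)))
theorem Q9395 : ∀ i, i < 9395 → P i := stepQ 9394 Q9394 (allL N9394 (tt N19136 D29314) (tt N19137 D29315) (tt N14984 (iv2 F37568)) (tt N19127 (iv3 F46944)) (tt N19135 (iv4 F46962)) (tt N14897 (iv5 F37372)) (tt N4513 (iv6 D13949)) (tt N19138 D29316))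
theorem Q9396 : ∀ i, i < 9396 → P i := stepQ 9395 Q9395 (allL N9395 (tt N19139 D29317) (tt N19140 D29318) (tt N18243 (iv2 F45598)) (tt N4516 F23235) (tt N19141 D29319) (tt N4515 (iv5 D13950)) (tt N19142 D29320) (tt N14981 (iv7 F37561)))
theorem Q9397 : ∀ i, i < 9397 → P i := stepQ 9396 Q9396 (allL N9396 (tt N18281 F45717) (tt N14769 (iv0 F38727)) (tt N18244 (iv2 F45601)) (tt N4517 F23236) (tt N9681 (iv4 F23810)) (tt N19143 D29321) (tt N4515 (iv6 D13951)) (tt N15159 (iv7 F37935)))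
theorem Q9398 : ∀ i, i < 9398 → P i := stepQ 9397 Q9397 (allL N9397 (tt N19132 (iv1 F46957)) (tt N19131 F46956) (tt N14985 (iv2 F37570)) (tt N19144 D29322) (tt N4516 (iv4 D13952)) (tt N19145 D29323) (tt N19146 D29324) (tt N14983 (iv7 F37567)))
theorem Q9399 : ∀ i, i < 9399 → P i := stepQ 9398 Q9398 (allL N9398 (tt N19147 D29325) (tt N19148 D29326) (tt N14986 (iv2 F37572)) (tt N19142 (iv3 F46972)) (tt N19146 (iv4 F46978)) (tt N19149 D29327) (tt N4516 (iv6 D13953)) (tt N19150 D29328))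
theorem Q9400 : ∀ i, i < 9400 → P i := stepQ 9399 Q9399 (allL N9399 (tt N5305 F23237) (tt N7900 F23238) (tt N14987 (iv2 F37573)) (tt N19143 (iv3 F46973)) (tt N19151 D29329) (tt N4517 (iv5 D13954)) (tt N19149 (iv6 F46983)) (tt N15160 (iv7 F37939)))
theorem Q9401 : ∀ i, i < 9401 → P i := stepQ 9400 Q9400 (allL N9400 (tt N15727 (iv1 F38926)) (tt N7702 F38927) (tt N15725 F38903) (tt N4518 (iv3 D13955)) (tt N19152 D29330) (tt N16265 (iv5 F40230)) (tt N19153 D29331) (tt N14991 (iv7 F37589)))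
theorem Q9402 : ∀ i, i < 9402 → P i := stepQ 9401 Q9401 (allL N9401 (tt N15035 (iv1 F37708)) (tt N7337 F23239) (tt N14989 (iv2 F37584)) (tt N19154 D29332) (tt N4518 (iv4 D13956)) (tt N19155 D29333) (tt N19156 D29334) (tt N14992 (iv7 F37593)))
theorem Q9403 : ∀ i, i < 9403 → P i := stepQ 9402 Q9402 (allL N9402 (tt N19157 D29335) (tt N19158 D29336) (tt N14990 (iv2 F37587)) (tt N19153 (iv3 F46994)) (tt N19156 (iv4 F46996)) (tt N10255 (iv5 F24580)) (tt N4518 (iv6 D13957)) (tt N19159 D29337))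
theorem Q9404 : ∀ i, i < 9404 → P i := stepQ 9403 Q9403 (allL N9403 (tt N8984 F36941) (tt N18247 F45618) (tt N18245 F45607) (tt N4519 (iv3 D13958)) (tt N9714 (iv4 F23882)) (tt N14707 F36940) (tt N19160 D29338) (tt N14988 (iv7 F37577)))
theorem Q9405 : ∀ i, i < 9405 → P i := stepQ 9404 Q9404 (allL N9404 (tt N7337 F23240) (tt N15035 F37707) (tt N14992 (iv2 F37592)) (tt N19161 D29339) (tt N4519 (iv4 D13959)) (tt N19162 D29340) (tt N19163 D29341) (tt N14989 (iv7 F37585)))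
theorem Q9406 : ∀ i, i < 9406 → P i := stepQ 9405 Q9405 (allL N9405 (tt N19164 D29342) (tt N19165 D29343) (tt N14993 (iv2 F37595)) (tt N19160 (iv3 F46997)) (tt N19163 (iv4 F46999)) (tt N14709 (iv5 F36945)) (tt N4519 (iv6 D13960)) (tt N19166 D29344))
theorem Q9407 : ∀ i, i < 9407 → P i := stepQ 9406 Q9406 (allL N9406 (tt N14998 (iv1 F37612)) (tt N4520 (iv0 D13961)) (tt N14994 F37598) (tt N19167 D29345) (tt N7328 (iv4 F36901)) (tt N19168 D29346) (tt N19169 D29347) (tt N14995 (iv7 F37602)))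
theorem Q9408 : ∀ i, i < 9408 → P i := stepQ 9407 Q9407 (allL N9407 (tt N4520 (iv1 D13962)) (tt N14998 F37611) (tt N14995 F37604) (tt N19170 D29348) (tt N7329 F23241) (tt N19171 D29349) (tt N19172 D29350) (tt N14994 F37599))
theorem Q9409 : ∀ i, i < 9409 → P i := stepQ 9408 Q9408 (allL N9408 (tt N19173 D29351) (tt N19174 D29352) (tt N19175 D29353) (tt N4520 (iv3 D13963)) (tt N4543 F23242) (tt N19176 D29354) (tt N9212 F23243) (tt N19177 D29355))
theorem Q9410 : ∀ i, i < 9410 → P i := stepQ 9409 Q9409 (allL N9409 (tt N19178 D29356) (tt N19179 D29357) (tt N14997 (iv2 F37605)) (tt N19176 (iv3 F47006)) (tt N15029 (iv4 F37695)) (tt N4520 (iv5 D13964)) (tt N19180 D29358) (tt N15027 F37691))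
theorem Q9411 : ∀ i, i < 9411 → P i := stepQ 9410 Q9410 (allL N9410 (tt N14995 (iv1 F37601)) (tt N14994 F37600) (tt N14998 (iv2 F37608)) (tt N19177 (iv3 F47007)) (tt N4521 F23244) (tt N15027 (iv5 F37690)) (tt N19181 D29359) (tt N4520 (iv7 D13965)))
theorem Q9412 : ∀ i, i < 9412 → P i := stepQ 9411 Q9411 (allL N9411 (tt N19182 D29360) (tt N19183 D29361) (tt N14999 (iv2 F37613)) (tt N4546 F23245) (tt N19181 (iv4 F47016)) (tt N9411 F23246) (tt N4521 (iv6 D13966)) (tt N9215 F23247))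
theorem Q9413 : ∀ i, i < 9413 → P i := stepQ 9412 Q9412 (allL N9412 (tt N8869 F23251) (tt N8868 (iv0 F23252)) (tt N8871 F23248) (tt N9577 (iv3 F23673)) (tt N4522 (iv4 D13967)) (tt N19184 D29362) (tt N9412 F23249) (tt N7177 F23250))
theorem Q9414 : ∀ i, i < 9414 → P i := stepQ 9413 Q9413 (allL N9413 (tt N9258 F23255) (tt N4535 F23256) (tt N9233 F23253) (tt N18247 (iv3 F45616)) (tt N19185 D29363) (tt N4522 (iv5 D13968)) (tt N19186 D29364) (tt N7178 F23254))
theorem Q9415 : ∀ i, i < 9415 → P i := stepQ 9414 Q9414 (allL N9414 (tt N9237 (iv1 F23261)) (tt N9236 F23266) (tt N4525 F23258) (tt N8986 F23259) (tt N19187 D29365) (tt N4523 (iv5 D13969)) (tt N19188 D29366) (tt N9234 F23260))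
theorem Q9416 : ∀ i, i < 9416 → P i := stepQ 9415 Q9415 (allL N9415 (tt N9514 F23502) (tt N19189 D29367) (tt N4692 F23267) (tt N7904 F23268) (tt N19190 D29368) (tt N4524 (iv5 D13970)) (tt N16636 (iv6 F40821)) (tt N4694 F23269))
theorem Q9417 : ∀ i, i < 9417 → P i := stepQ 9416 Q9416 (allL N9416 (tt N9234 (iv1 F23270)) (tt N4525 (iv0 D13971)) (tt N9237 F23897) (tt N19140 (iv3 F46969)) (tt N19191 D29369) (tt N7653 (iv5 F23894)) (tt N19192 D29370) (tt N9236 (iv7 F23899)))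
theorem Q9418 : ∀ i, i < 9418 → P i := stepQ 9417 Q9417 (allL N9417 (tt N4525 (iv1 D13972)) (tt N9234 F23271) (tt N9236 (iv2 F23901)) (tt N19193 D29371) (tt N19194 D29372) (tt N7654 (iv5 F23902)) (tt N19195 D29373) (tt N9237 F23900))
theorem Q9419 : ∀ i, i < 9419 → P i := stepQ 9418 Q9418 (allL N9418 (tt N19196 D29374) (tt N19197 D29375) (tt N19187 (iv2 F47029)) (tt N19198 D29376) (tt N4525 (iv4 D13973)) (tt N19199 D29377) (tt N19200 D29378) (tt N9238 F23272))
theorem Q9420 : ∀ i, i < 9420 → P i := stepQ 9419 Q9419 (allL N9419 (tt N19201 D29379) (tt N19202 D29380) (tt N19188 (iv2 F47033)) (tt N4529 F23273) (tt N19200 (iv4 F47060)) (tt N8923 F23274) (tt N4525 (iv6 D13974)) (tt N19203 D29381))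
theorem Q9421 : ∀ i, i < 9421 → P i := stepQ 9420 Q9420 (allL N9420 (tt N9184 (iv1 F23279)) (tt N9183 (iv0 F23278)) (tt N9193 F23275) (tt N4526 (iv3 D13975)) (tt N19204 D29382) (tt N7486 F23276) (tt N19205 D29383) (tt N9194 F23277))
theorem Q9422 : ∀ i, i < 9422 → P i := stepQ 9421 Q9421 (allL N9421 (tt N4567 F23282) (tt N4550 F23283) (tt N9221 F23280) (tt N19206 D29384) (tt N4526 (iv4 D13976)) (tt N18856 (iv5 F46582)) (tt N19207 D29385) (tt N9223 F23281))
theorem Q9423 : ∀ i, i < 9423 → P i := stepQ 9422 Q9422 (allL N9422 (tt N19208 D29386) (tt N19209 D29387) (tt N9222 F23284) (tt N19205 (iv3 F47067)) (tt N19207 (iv4 F47071)) (tt N7488 F23285) (tt N4526 (iv6 D13977)) (tt N19210 D29388))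
theorem Q9424 : ∀ i, i < 9424 → P i := stepQ 9423 Q9423 (allL N9423 (tt N4550 F23288) (tt N4567 F23289) (tt N9223 F23286) (tt N19211 D29389) (tt N4527 (iv4 D13978)) (tt N18855 (iv5 F46574)) (tt N18351 (iv6 F45817)) (tt N9221 F23287))
theorem Q9425 : ∀ i, i < 9425 → P i := stepQ 9424 Q9424 (allL N9424 (tt N19212 D29390) (tt N19213 D29391) (tt N19214 D29392) (tt N4528 (iv3 D13979)) (tt N19198 (iv4 F47057)) (tt N19215 D29393) (tt N19216 D29394) (tt N9243 F23290))
theorem Q9426 : ∀ i, i < 9426 → P i := stepQ 9425 Q9425 (allL N9425 (tt N5145 F23294) (tt N4620 F23295) (tt N9228 F23291) (tt N19215 (iv3 F47086)) (tt N4590 F23293) (tt N4528 (iv5 D13980)) (tt N19217 D29395) (tt N9244 F23292))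
theorem Q9427 : ∀ i, i < 9427 → P i := stepQ 9426 Q9426 (allL N9426 (tt N18957 (iv1 F80100)) (tt N18959 (iv0 F80101)) (tt N9229 F23296) (tt N19216 (iv3 F47088)) (tt N4529 F23297) (tt N8574 F318815) (tt N4528 (iv6 D13981)) (tt N19218 D29399))
theorem Q9428 : ∀ i, i < 9428 → P i := stepQ 9427 Q9427 (allL N9427 (tt N9232 (iv1 F23305)) (tt N4529 (iv0 D13982)) (tt N9230 (iv2 F45361)) (tt N19219 D29400) (tt N19220 D29401) (tt N7665 F23299) (tt N9230 F23298) (tt N9231 F45362))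
theorem Q9429 : ∀ i, i < 9429 → P i := stepQ 9428 Q9428 (allL N9428 (tt N4529 (iv1 D13983)) (tt N9232 F23300) (tt N9231 F45360) (tt N19137 F164056) (tt N19221 D29403) (tt N7664 (iv5 F23301)) (tt N19222 D29404) (tt N9230 (iv7 F45359)))
theorem Q9430 : ∀ i, i < 9430 → P i := stepQ 9429 Q9429 (allL N9429 (tt N9231 (iv1 F23306)) (tt N9230 F23308) (tt N9232 F23302) (tt N19203 (iv3 F47061)) (tt N19218 (iv4 F47094)) (tt N8926 F23303) (tt N9248 F23304) (tt N4529 (iv7 D13984)))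
theorem Q9431 : ∀ i, i < 9431 → P i := stepQ 9430 Q9430 (allL N9430 (tt N8986 (iv1 F23309)) (tt N4530 (iv0 D13985)) (tt N9217 F23869) (tt N19223 D29405) (tt N19224 D29406) (tt N15701 (iv5 F38847)) (tt N18313 (iv6 F45772)) (tt N9216 F23867))
theorem Q9432 : ∀ i, i < 9432 → P i := stepQ 9431 Q9431 (allL N9431 (tt N4530 (iv1 D13986)) (tt N8986 F23310) (tt N9216 (iv2 F23865)) (tt N19124 F46939) (tt N19225 D29407) (tt N7476 F23311) (tt N19226 D29408) (tt N9217 (iv7 F23868)))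
theorem Q9433 : ∀ i, i < 9433 → P i := stepQ 9432 Q9432 (allL N9432 (tt N19227 D29409) (tt N19228 D29410) (tt N18248 (iv2 F45620)) (tt N19229 D29411) (tt N4530 (iv4 D13987)) (tt N19230 D29412) (tt N19231 D29413) (tt N9218 F23312))
theorem Q9434 : ∀ i, i < 9434 → P i := stepQ 9433 Q9433 (allL N9433 (tt N19232 D29414) (tt N19195 (iv0 F47054)) (tt N18249 (iv2 F45622)) (tt N4533 F23313) (tt N19231 (iv4 F47131)) (tt N19233 D29415) (tt N4530 (iv6 D13988)) (tt N19234 D29416))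
theorem Q9435 : ∀ i, i < 9435 → P i := stepQ 9434 Q9434 (allL N9434 (tt N15265 (iv1 F38120)) (tt N15264 (iv0 F38117)) (tt N15274 F38152) (tt N4534 F23314) (tt N19235 D29417) (tt N4531 (iv5 D13991)) (tt N19233 (iv6 F47133)) (tt N15275 (iv7 F38155)))
theorem Q9436 : ∀ i, i < 9436 → P i := stepQ 9435 Q9435 (allL N9435 (tt N19236 D29418) (tt N19237 D29419) (tt N19238 D29420) (tt N4532 (iv3 D13992)) (tt N19229 (iv4 F47128)) (tt N19239 D29421) (tt N19240 D29422) (tt N9227 F23315))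
theorem Q9437 : ∀ i, i < 9437 → P i := stepQ 9436 Q9436 (allL N9436 (tt N4620 F23319) (tt N5145 F23320) (tt N9244 F23316) (tt N19239 (iv3 F47143)) (tt N4589 F23317) (tt N4532 (iv5 D13993)) (tt N19241 D29423) (tt N9228 F23318))
theorem Q9438 : ∀ i, i < 9438 → P i := stepQ 9437 Q9437 (allL N9437 (tt N18995 (iv1 F46740)) (tt N10060 (iv0 F46536)) (tt N9245 F23321) (tt N19240 (iv3 F47145)) (tt N4533 F23322) (tt N18331 F323399) (tt N4532 (iv6 D13994)) (tt N19242 D29425))
theorem Q9439 : ∀ i, i < 9439 → P i := stepQ 9438 Q9438 (allL N9438 (tt N9248 (iv1 F23327)) (tt N4533 (iv0 D13995)) (tt N9246 F23330) (tt N19147 (iv3 F77801)) (tt N19243 D29427) (tt N14796 (iv5 F37139)) (tt N19210 (iv6 F47075)) (tt N9224 F23329))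
theorem Q9440 : ∀ i, i < 9440 → P i := stepQ 9439 Q9439 (allL N9439 (tt N19244 D29428) (tt N19245 D29429) (tt N9247 F23323) (tt N19233 (iv3 F47132)) (tt N19246 D29430) (tt N4533 (iv5 D13996)) (tt N4534 F23324) (tt N10278 (iv7 F24608)))
theorem Q9441 : ∀ i, i < 9441 → P i := stepQ 9440 Q9440 (allL N9440 (tt N9224 (iv1 F23328)) (tt N9246 F23333) (tt N9248 F23325) (tt N19234 (iv3 F47134)) (tt N19242 (iv4 F47150)) (tt N10278 (iv5 F24607)) (tt N9232 F23326) (tt N4533 (iv7 D13997)))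
theorem Q9442 : ∀ i, i < 9442 → P i := stepQ 9441 Q9441 (allL N9441 (tt N4745 F23335) (tt N4741 F23336) (tt N9249 F23334) (tt N19247 D29431) (tt N4534 (iv4 D13998)) (tt N12487 F309240) (tt N19246 (iv6 F47171)) (tt N11089 (iv7 F26115)))
theorem Q9443 : ∀ i, i < 9443 → P i := stepQ 9442 Q9442 (allL N9442 (tt N9233 (iv1 F23340)) (tt N7178 F23339) (tt N4535 (iv2 D13999)) (tt N8987 F23337) (tt N19248 D29432) (tt N15641 (iv5 F38747)) (tt N19249 D29433) (tt N9258 F23338))
theorem Q9444 : ∀ i, i < 9444 → P i := stepQ 9443 Q9443 (allL N9443 (tt N19250 D29434) (tt N16564 (iv0 F40696)) (tt N19248 (iv2 F47172)) (tt N19251 D29435) (tt N4535 (iv4 D14000)) (tt N19252 D29436) (tt N19253 D29437) (tt N9259 F23341))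
theorem Q9445 : ∀ i, i < 9445 → P i := stepQ 9444 Q9444 (allL N9444 (tt N19254 D29438) (tt N19255 D29439) (tt N19249 (iv2 F47176)) (tt N4537 F23342) (tt N19253 (iv4 F47185)) (tt N10177 (iv5 F24480)) (tt N4535 (iv6 D14001)) (tt N19256 D29440))
theorem Q9446 : ∀ i, i < 9446 → P i := stepQ 9445 Q9445 (allL N9445 (tt N19257 D29441) (tt N19258 D29442) (tt N19259 D29443) (tt N4536 (iv3 D14002)) (tt N19251 (iv4 F47182)) (tt N19260 D29444) (tt N19261 D29445) (tt N9261 F23343))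
theorem Q9447 : ∀ i, i < 9447 → P i := stepQ 9446 Q9446 (allL N9446 (tt N18756 (iv1 F46475)) (tt N18753 (iv0 F46470)) (tt N9253 F23344) (tt N19260 (iv3 F47194)) (tt N4585 F23346) (tt N4536 (iv5 D14003)) (tt N19262 D29446) (tt N9262 F23345))
theorem Q9448 : ∀ i, i < 9448 → P i := stepQ 9447 Q9447 (allL N9447 (tt N19263 D29447) (tt N19264 D29448) (tt N9254 F23347) (tt N19261 (iv3 F47196)) (tt N4537 F23348) (tt N19265 D29449) (tt N4536 (iv6 D14004)) (tt N19266 D29450))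
theorem Q9449 : ∀ i, i < 9449 → P i := stepQ 9448 Q9448 (allL N9448 (tt N9257 (iv1 F23353)) (tt N4537 (iv0 D14005)) (tt N9255 F45469) (tt N19267 D29451) (tt N19268 D29452) (tt N19269 D29453) (tt N9265 F23349) (tt N9256 (iv7 F45470)))
theorem Q9450 : ∀ i, i < 9450 → P i := stepQ 9449 Q9449 (allL N9449 (tt N4537 (iv1 D14006)) (tt N9257 F23350) (tt N9256 (iv2 F45472)) (tt N19158 F100214) (tt N19270 D29455) (tt N18382 (iv5 F45848)) (tt N19271 D29456) (tt N9255 F45471))
theorem Q9451 : ∀ i, i < 9451 → P i := stepQ 9450 Q9450 (allL N9450 (tt N9256 (iv1 F23354)) (tt N9255 F23355) (tt N9257 F23351) (tt N19256 (iv3 F47186)) (tt N19266 (iv4 F47202)) (tt N10181 (iv5 F24486)) (tt N9266 F23352) (tt N4537 (iv7 D14007)))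
theorem Q9452 : ∀ i, i < 9452 → P i := stepQ 9451 Q9451 (allL N9451 (tt N9689 (iv1 F23824)) (tt N19272 D29457) (tt N18250 (iv2 F45623)) (tt N19273 D29458) (tt N4538 (iv4 D14008)) (tt N19274 D29459) (tt N19275 D29460) (tt N9250 F23356))
theorem Q9453 : ∀ i, i < 9453 → P i := stepQ 9452 Q9452 (allL N9452 (tt N19276 D29461) (tt N19277 D29462) (tt N18251 (iv2 F45626)) (tt N4540 F23357) (tt N19275 (iv4 F47235)) (tt N7854 F23358) (tt N4538 (iv6 D14009)) (tt N19278 D29463))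
theorem Q9454 : ∀ i, i < 9454 → P i := stepQ 9453 Q9453 (allL N9453 (tt N19279 D29464) (tt N19280 D29465) (tt N19281 D29466) (tt N4539 (iv3 D14010)) (tt N19273 (iv4 F47232)) (tt N19282 D29467) (tt N19283 D29468) (tt N9252 F23359))
theorem Q9455 : ∀ i, i < 9455 → P i := stepQ 9454 Q9454 (allL N9454 (tt N18753 (iv1 F46471)) (tt N18756 (iv0 F46474)) (tt N9262 F23360) (tt N19282 (iv3 F47245)) (tt N4582 F23361) (tt N4539 (iv5 D14011)) (tt N19284 D29469) (tt N9253 F23362))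
theorem Q9456 : ∀ i, i < 9456 → P i := stepQ 9455 Q9455 (allL N9455 (tt N19285 D29470) (tt N19286 D29471) (tt N9263 F23363) (tt N19283 (iv3 F47247)) (tt N4540 F23364) (tt N5701 F322108) (tt N4539 (iv6 D14012)) (tt N19287 D29473))
theorem Q9457 : ∀ i, i < 9457 → P i := stepQ 9456 Q9456 (allL N9456 (tt N9266 F23366) (tt N4540 (iv0 D14013)) (tt N9264 (iv2 F45467)) (tt N19164 F168030) (tt N19288 D29475) (tt N8924 F23365) (tt N19289 D29476) (tt N9265 F45463))
theorem Q9458 : ∀ i, i < 9458 → P i := stepQ 9457 Q9457 (allL N9457 (tt N4540 (iv1 D14014)) (tt N9266 F23367) (tt N9265 F45468) (tt N19290 D29477) (tt N19291 D29478) (tt N8925 (iv5 F23368)) (tt N9255 F23370) (tt N9264 F45466))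
theorem Q9459 : ∀ i, i < 9459 → P i := stepQ 9458 Q9458 (allL N9458 (tt N9265 (iv1 F23374)) (tt N9264 (iv0 F23375)) (tt N9266 F23371) (tt N19278 (iv3 F47236)) (tt N19287 (iv4 F47253)) (tt N7864 F23372) (tt N9257 F23373) (tt N4540 (iv7 D14015)))
theorem Q9460 : ∀ i, i < 9460 → P i := stepQ 9459 Q9459 (allL N9459 (tt N19292 D29479) (tt N19293 D29480) (tt N19294 D29481) (tt N4541 (iv3 D14016)) (tt N19295 D29482) (tt N19296 D29483) (tt N19297 D29484) (tt N9270 F23376))
theorem Q9461 : ∀ i, i < 9461 → P i := stepQ 9460 Q9460 (allL N9460 (tt N18750 (iv1 F46465)) (tt N18744 (iv0 F46457)) (tt N9268 F23377) (tt N19296 (iv3 F47281)) (tt N4579 F23379) (tt N4541 (iv5 D14017)) (tt N19298 D29485) (tt N9271 F23378))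
theorem Q9462 : ∀ i, i < 9462 → P i := stepQ 9461 Q9461 (allL N9461 (tt N19268 (iv1 F49208)) (tt N19270 (iv0 F49205)) (tt N9269 F23380) (tt N19297 (iv3 F47283)) (tt N4646 F23381) (tt N19299 D29488) (tt N4541 (iv6 D14018)) (tt N19300 D29489))
theorem Q9463 : ∀ i, i < 9463 → P i := stepQ 9462 Q9462 (allL N9462 (tt N19301 D29490) (tt N19302 D29491) (tt N19303 D29492) (tt N4542 (iv3 D14019)) (tt N19304 D29493) (tt N19305 D29494) (tt N19306 D29495) (tt N9267 F23382))
theorem Q9464 : ∀ i, i < 9464 → P i := stepQ 9463 Q9463 (allL N9463 (tt N18744 (iv1 F46458)) (tt N18750 (iv0 F46464)) (tt N9271 F23383) (tt N19305 (iv3 F47302)) (tt N4574 F23384) (tt N4542 (iv5 D14020)) (tt N19307 D29496) (tt N9268 F23385))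
theorem Q9465 : ∀ i, i < 9465 → P i := stepQ 9464 Q9464 (allL N9464 (tt N19288 (iv1 F79854)) (tt N19291 (iv0 F79872)) (tt N9272 F23386) (tt N19306 (iv3 F47304)) (tt N4648 F23387) (tt N19308 D29499) (tt N4542 (iv6 D14021)) (tt N19309 D29500))
theorem Q9466 : ∀ i, i < 9466 → P i := stepQ 9465 Q9465 (allL N9465 (tt N19310 D29501) (tt N4543 (iv0 D14022)) (tt N19311 D29502) (tt N19312 D29503) (tt N19313 D29504) (tt N19314 D29505) (tt N19315 D29506) (tt N19316 D29507))
theorem Q9467 : ∀ i, i < 9467 → P i := stepQ 9466 Q9466 (allL N9466 (tt N4543 (iv1 D14023)) (tt N19310 F47319) (tt N19316 (iv2 F47321)) (tt N19317 D29508) (tt N19318 D29509) (tt N19319 D29510) (tt N19320 D29511) (tt N19311 F47320))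
theorem Q9468 : ∀ i, i < 9468 → P i := stepQ 9467 Q9467 (allL N9467 (tt N19311 (iv1 F213157)) (tt N19316 F213152) (tt N4543 (iv2 D14024)) (tt N9275 F23388) (tt N19175 (iv4 F47004)) (tt N19321 D29514) (tt N9275 F23389) (tt N19310 (iv7 F47318)))
theorem Q9469 : ∀ i, i < 9469 → P i := stepQ 9468 Q9468 (allL N9468 (tt N19322 D29515) (tt N19323 D29516) (tt N19321 (iv2 F47324)) (tt N4544 F23390) (tt N19324 D29517) (tt N4543 (iv5 D14025)) (tt N19325 D29518) (tt N9383 (iv7 F23391)))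
theorem Q9470 : ∀ i, i < 9470 → P i := stepQ 9469 Q9469 (allL N9469 (tt N19316 F213153) (tt N19311 (iv0 F213156)) (tt N19310 F47315) (tt N4545 F23392) (tt N19177 (iv4 F47008)) (tt N9383 F23393) (tt N19326 D29519) (tt N4543 (iv7 D14026)))
theorem Q9471 : ∀ i, i < 9471 → P i := stepQ 9470 Q9470 (allL N9470 (tt N4591 (iv1 F23396)) (tt N4544 (iv0 D14027)) (tt N9278 (iv2 F23397)) (tt N19327 D29520) (tt N4571 F23395) (tt N4550 F23394) (tt N19328 D29521) (tt N9279 (iv7 F23398)))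
theorem Q9472 : ∀ i, i < 9472 → P i := stepQ 9471 Q9471 (allL N9471 (tt N4544 (iv1 D14028)) (tt N4591 F23399) (tt N9279 (iv2 F23403)) (tt N19329 D29522) (tt N4557 F23402) (tt N4567 F23401) (tt N19330 D29523) (tt N9278 F23400))
theorem Q9473 : ∀ i, i < 9473 → P i := stepQ 9472 Q9472 (allL N9472 (tt N19331 D29524) (tt N19332 D29525) (tt N9280 F23404) (tt N19325 (iv3 F47333)) (tt N9388 F23405) (tt N9280 F23406) (tt N4544 (iv6 D14029)) (tt N19333 D29526))
theorem Q9474 : ∀ i, i < 9474 → P i := stepQ 9473 Q9473 (allL N9473 (tt N19334 D29527) (tt N19334 F47353) (tt N9281 F23407) (tt N19326 (iv3 F47335)) (tt N4546 F23408) (tt N19335 D29528) (tt N4545 (iv6 D14030)) (tt N9281 F23409))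
theorem Q9475 : ∀ i, i < 9475 → P i := stepQ 9474 Q9474 (allL N9474 (tt N4546 (iv1 F23410)) (tt N4546 (iv0 D14031)) (tt N9282 F76957) (tt N19336 D29530) (tt N19337 D29531) (tt N19338 D29532) (tt N19339 D29533) (tt N9282 F76958))
theorem Q9476 : ∀ i, i < 9476 → P i := stepQ 9475 Q9475 (allL N9475 (tt N4667 (iv1 F23411)) (tt N4547 (iv0 D14032)) (tt N9321 F26033) (tt N19340 D29534) (tt N19341 D29535) (tt N7795 (iv5 F23860)) (tt N19342 D29536) (tt N9320 F26007))
theorem Q9477 : ∀ i, i < 9477 → P i := stepQ 9476 Q9476 (allL N9476 (tt N4547 (iv1 D14033)) (tt N4667 F23412) (tt N9320 F26010) (tt N18662 F46372) (tt N19343 D29537) (tt N7796 (iv5 F23932)) (tt N19344 D29538) (tt N9321 (iv7 F26032)))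
theorem Q9478 : ∀ i, i < 9478 → P i := stepQ 9477 Q9477 (allL N9477 (tt N19345 D29539) (tt N19346 D29540) (tt N9691 (iv2 F23830)) (tt N19347 D29541) (tt N4547 (iv4 D14034)) (tt N19348 D29542) (tt N19349 D29543) (tt N9322 F23413))
theorem Q9479 : ∀ i, i < 9479 → P i := stepQ 9478 Q9478 (allL N9478 (tt N19350 D29544) (tt N19351 D29545) (tt N9692 (iv2 F23831)) (tt N4551 F23414) (tt N19349 (iv4 F47393)) (tt N7623 F23415) (tt N4547 (iv6 D14035)) (tt N19352 D29546))
theorem Q9480 : ∀ i, i < 9480 → P i := stepQ 9479 Q9479 (allL N9479 (tt N9571 (iv1 F23651)) (tt N9570 (iv0 F23646)) (tt N9580 F23680) (tt N4548 (iv3 D14036)) (tt N19353 D29547) (tt N4744 F23416) (tt N19354 D29548) (tt N9302 F23417))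
theorem Q9481 : ∀ i, i < 9481 → P i := stepQ 9480 Q9480 (allL N9480 (tt N19355 D29549) (tt N19356 D29550) (tt N9301 F23418) (tt N19354 (iv3 F47399)) (tt N18754 (iv4 F46472)) (tt N4746 F23419) (tt N4548 (iv6 D14037)) (tt N19357 D29551))
theorem Q9482 : ∀ i, i < 9482 → P i := stepQ 9481 Q9481 (allL N9481 (tt N4636 F23422) (tt N4639 F23723) (tt N19358 D29552) (tt N4549 (iv3 D14038)) (tt N19359 D29553) (tt N7764 F23420) (tt N16709 (iv6 F40980)) (tt N9299 F23421))
theorem Q9483 : ∀ i, i < 9483 → P i := stepQ 9482 Q9482 (allL N9482 (tt N19360 D29554) (tt N19361 D29555) (tt N19362 D29556) (tt N4550 (iv3 D14039)) (tt N19347 (iv4 F47390)) (tt N19327 (iv5 F47337)) (tt N19363 D29557) (tt N9325 F23423))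
theorem Q9484 : ∀ i, i < 9484 → P i := stepQ 9483 Q9483 (allL N9483 (tt N19220 (iv1 F79856)) (tt N19221 (iv0 F79857)) (tt N9305 F23424) (tt N19363 (iv3 F47421)) (tt N4551 F23425) (tt N19364 D29560) (tt N4550 (iv6 D14040)) (tt N19365 D29561))
theorem Q9485 : ∀ i, i < 9485 → P i := stepQ 9484 Q9484 (allL N9484 (tt N9308 (iv1 F23433)) (tt N4551 (iv0 D14041)) (tt N9306 (iv2 F39387)) (tt N19366 D29562) (tt N18763 (iv4 F80087)) (tt N7806 F23427) (tt N9306 F23426) (tt N9307 F39388))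
theorem Q9486 : ∀ i, i < 9486 → P i := stepQ 9485 Q9485 (allL N9485 (tt N4551 (iv1 D14042)) (tt N9308 F23428) (tt N9307 F39386) (tt N19367 D29564) (tt N18764 (iv4 F80084)) (tt N7805 (iv5 F23429)) (tt N19368 D29566) (tt N9306 (iv7 F39385)))
theorem Q9487 : ∀ i, i < 9487 → P i := stepQ 9486 Q9486 (allL N9486 (tt N9307 (iv1 F23434)) (tt N9306 F23435) (tt N9308 F23430) (tt N19352 (iv3 F47394)) (tt N19365 (iv4 F47425)) (tt N7628 F23431) (tt N9329 F23432) (tt N4551 (iv7 D14043)))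
theorem Q9488 : ∀ i, i < 9488 → P i := stepQ 9487 Q9487 (allL N9487 (tt N5027 (iv1 F50436)) (tt N11151 F27073) (tt N4895 F26692) (tt N4552 (iv3 D14044)) (tt N9487 F23436) (tt N19042 (iv5 F46837)) (tt N11048 (iv6 F25950)) (tt N9310 F23437))
theorem Q9489 : ∀ i, i < 9489 → P i := stepQ 9488 Q9488 (allL N9488 (tt N17542 (iv1 F50492)) (tt N19369 D29568) (tt N19370 D29569) (tt N4554 (iv3 D14046)) (tt N18917 (iv4 F46643)) (tt N19025 (iv5 F46805)) (tt N18631 (iv6 F46285)) (tt N9314 F23439))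
theorem Q9490 : ∀ i, i < 9490 → P i := stepQ 9489 Q9489 (allL N9489 (tt N8489 F26716) (tt N8487 (iv0 F41537)) (tt N8485 F26829) (tt N4555 (iv3 D14047)) (tt N19371 D29570) (tt N19023 (iv5 F46801)) (tt N11215 (iv6 F27309)) (tt N8486 (iv7 F26823)))
theorem Q9491 : ∀ i, i < 9491 → P i := stepQ 9490 Q9490 (allL N9490 (tt N9333 (iv1 F23441)) (tt N4556 (iv0 D14048)) (tt N9332 F49990) (tt N11169 (iv3 F49994)) (tt N5321 F26821) (tt N17975 F310613) (tt N19372 D29573) (tt N9331 F49991))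
theorem Q9492 : ∀ i, i < 9492 → P i := stepQ 9491 Q9491 (allL N9491 (tt N4556 (iv1 D14049)) (tt N9333 F23445) (tt N9331 (iv2 F49984)) (tt N19373 D29575) (tt N5320 (iv4 F26717)) (tt N13826 F310651) (tt N11204 (iv6 F50815)) (tt N9332 (iv7 F49985)))
theorem Q9493 : ∀ i, i < 9493 → P i := stepQ 9492 Q9492 (allL N9492 (tt N9332 (iv1 F23446)) (tt N9331 F23444) (tt N4556 (iv2 D14050)) (tt N9317 F23442) (tt N18218 (iv4 F45534)) (tt N10889 (iv5 F50969)) (tt N16803 (iv6 F41174)) (tt N9333 F23443))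
theorem Q9494 : ∀ i, i < 9494 → P i := stepQ 9493 Q9493 (allL N9493 (tt N10891 (iv1 F50802)) (tt N10856 (iv0 F50799)) (tt N10889 (iv2 F50967)) (tt N4557 F23447) (tt N11588 (iv4 F309923)) (tt N4556 (iv5 D14051)) (tt N19374 D29582) (tt N9334 F23448))
theorem Q9495 : ∀ i, i < 9495 → P i := stepQ 9494 Q9494 (allL N9494 (tt N19375 D29583) (tt N19376 D29584) (tt N9319 F23449) (tt N19374 (iv3 F47471)) (tt N19330 (iv4 F47344)) (tt N10357 (iv5 F24711)) (tt N4557 (iv6 D14052)) (tt N19377 D29585))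
theorem Q9496 : ∀ i, i < 9496 → P i := stepQ 9495 Q9495 (allL N9495 (tt N19378 D29586) (tt N19379 D29587) (tt N15361 (iv2 F38309)) (tt N4559 F23450) (tt N19380 D29588) (tt N4558 (iv5 D14053)) (tt N19381 D29589) (tt N9283 F23451))
theorem Q9497 : ∀ i, i < 9497 → P i := stepQ 9496 Q9496 (allL N9496 (tt N16192 (iv1 F40709)) (tt N15385 (iv0 F38386)) (tt N15362 (iv2 F38312)) (tt N4560 F23452) (tt N4566 F23453) (tt N19382 D29590) (tt N4558 (iv6 D14054)) (tt N16190 (iv7 F40110)))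
theorem Q9498 : ∀ i, i < 9498 → P i := stepQ 9497 Q9497 (allL N9497 (tt N7904 (iv1 F23455)) (tt N4559 (iv0 D14055)) (tt N9285 (iv2 F23456)) (tt N11097 F26144) (tt N19383 D29591) (tt N7360 F23454) (tt N16234 (iv6 F40193)) (tt N9284 (iv7 F23457)))
theorem Q9499 : ∀ i, i < 9499 → P i := stepQ 9498 Q9498 (allL N9498 (tt N4559 (iv1 D14056)) (tt N7904 F23458) (tt N9284 (iv2 F23461)) (tt N19384 D29592) (tt N19385 D29593) (tt N7316 F23460) (tt N19386 D29594) (tt N9285 F23459))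
theorem Q9500 : ∀ i, i < 9500 → P i := stepQ 9499 Q9499 (allL N9499 (tt N19387 D29595) (tt N19151 (iv0 F46987)) (tt N16150 (iv2 F40005)) (tt N19388 D29596) (tt N4559 (iv4 D14057)) (tt N19389 D29597) (tt N19390 D29598) (tt N9286 F23462))
theorem Q9501 : ∀ i, i < 9501 → P i := stepQ 9500 Q9500 (allL N9500 (tt N19391 D29599) (tt N19392 D29600) (tt N16151 (iv2 F40007)) (tt N19381 (iv3 F47489)) (tt N19390 (iv4 F47523)) (tt N19393 D29601) (tt N4559 (iv6 D14058)) (tt N19394 D29602))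
theorem Q9502 : ∀ i, i < 9502 → P i := stepQ 9501 Q9501 (allL N9501 (tt N7289 F23463) (tt N7283 F23464) (tt N15000 F37617) (tt N19382 (iv3 F47491)) (tt N19395 D29603) (tt N4560 (iv5 D14059)) (tt N19393 (iv6 F47525)) (tt N15001 (iv7 F37621)))
theorem Q9503 : ∀ i, i < 9503 → P i := stepQ 9502 Q9502 (allL N9502 (tt N14876 (iv1 F37337)) (tt N7298 (iv0 F26403)) (tt N9290 F23465) (tt N19371 (iv3 F47455)) (tt N4561 (iv4 D14060)) (tt N19396 D29604) (tt N11449 (iv6 F27816)) (tt N9288 F23466))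
theorem Q9504 : ∀ i, i < 9504 → P i := stepQ 9503 Q9503 (allL N9503 (tt N7298 (iv1 F26404)) (tt N14876 (iv0 F37336)) (tt N9288 F23468) (tt N19397 D29605) (tt N4562 (iv4 D14061)) (tt N19398 D29606) (tt N19399 D29607) (tt N9290 F23469))
theorem Q9505 : ∀ i, i < 9505 → P i := stepQ 9504 Q9504 (allL N9504 (tt N11045 (iv1 F25938)) (tt N8551 (iv0 F23474)) (tt N8100 F23471) (tt N11387 (iv3 F27681)) (tt N19399 (iv4 F47541)) (tt N5428 F23472) (tt N4562 (iv6 D14062)) (tt N8102 F23473))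
theorem Q9506 : ∀ i, i < 9506 → P i := stepQ 9505 Q9505 (allL N9505 (tt N7905 (iv1 F23478)) (tt N4563 (iv0 D14063)) (tt N9292 (iv2 F23479)) (tt N15180 (iv3 F37985)) (tt N7394 F23477) (tt N19016 (iv5 F46787)) (tt N11402 (iv6 F27718)) (tt N9291 (iv7 F23480)))
theorem Q9507 : ∀ i, i < 9507 → P i := stepQ 9506 Q9506 (allL N9506 (tt N4563 (iv1 D14064)) (tt N7905 F23481) (tt N9291 (iv2 F23484)) (tt N19400 D29608) (tt N7318 F23483) (tt N19017 (iv5 F46793)) (tt N19401 D29609) (tt N9292 F23482))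
theorem Q9508 : ∀ i, i < 9508 → P i := stepQ 9507 Q9507 (allL N9507 (tt N19402 D29610) (tt N19403 D29611) (tt N17444 (iv2 F43271)) (tt N4563 (iv3 D14065)) (tt N4570 F23485) (tt N19404 D29612) (tt N5657 (iv6 F26888)) (tt N9293 F23486))
theorem Q9509 : ∀ i, i < 9509 → P i := stepQ 9508 Q9508 (allL N9508 (tt N8060 F23488) (tt N19405 D29613) (tt N16152 (iv2 F40009)) (tt N19404 (iv3 F47551)) (tt N19406 D29614) (tt N4563 (iv5 D14066)) (tt N19407 D29615) (tt N9294 F23487))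
theorem Q9510 : ∀ i, i < 9510 → P i := stepQ 9509 Q9509 (allL N9509 (tt N7291 F23489) (tt N7287 F23490) (tt N15006 F37640) (tt N17083 (iv3 F42146)) (tt N4564 (iv4 D14067)) (tt N19408 D29616) (tt N16313 (iv6 F40321)) (tt N9531 F23555))
theorem Q9511 : ∀ i, i < 9511 → P i := stepQ 9510 Q9510 (allL N9510 (tt N8108 (iv1 F23491)) (tt N4565 (iv0 D14068)) (tt N9296 (iv2 F23497)) (tt N19409 D29617) (tt N19410 D29618) (tt N15502 (iv5 F38564)) (tt N16629 (iv6 F40816)) (tt N9295 F23498))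
theorem Q9512 : ∀ i, i < 9512 → P i := stepQ 9511 Q9511 (allL N9511 (tt N4565 (iv1 D14069)) (tt N8108 F23492) (tt N9295 (iv2 F23494)) (tt N15000 F37618) (tt N19411 D29619) (tt N4695 F23493) (tt N19412 D29620) (tt N9296 (iv7 F23495)))
theorem Q9513 : ∀ i, i < 9513 → P i := stepQ 9512 Q9512 (allL N9512 (tt N19413 D29621) (tt N19414 D29622) (tt N16576 (iv2 F40721)) (tt N19415 D29623) (tt N4565 (iv4 D14070)) (tt N19416 D29624) (tt N19417 D29625) (tt N9297 F23499))
theorem Q9514 : ∀ i, i < 9514 → P i := stepQ 9513 Q9513 (allL N9513 (tt N19418 D29626) (tt N19344 (iv0 F47382)) (tt N16577 (iv2 F40723)) (tt N4568 F23500) (tt N19417 (iv4 F47586)) (tt N19419 D29627) (tt N4565 (iv6 D14071)) (tt N19420 D29628))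
theorem Q9515 : ∀ i, i < 9515 → P i := stepQ 9514 Q9514 (allL N9514 (tt N9719 (iv1 F23893)) (tt N9415 (iv0 F23502)) (tt N9755 F23963) (tt N4569 F23501) (tt N19421 D29629) (tt N4566 (iv5 D14072)) (tt N19419 (iv6 F47588)) (tt N9756 (iv7 F23966)))
theorem Q9516 : ∀ i, i < 9516 → P i := stepQ 9515 Q9515 (allL N9515 (tt N19422 D29630) (tt N19423 D29631) (tt N19424 D29632) (tt N4567 (iv3 D14073)) (tt N19415 (iv4 F47583)) (tt N19329 (iv5 F47341)) (tt N19425 D29633) (tt N9304 F23503))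
theorem Q9517 : ∀ i, i < 9517 → P i := stepQ 9516 Q9516 (allL N9516 (tt N19243 (iv1 F47162)) (tt N18351 (iv0 F46576)) (tt N9326 F23504) (tt N19425 (iv3 F47598)) (tt N4568 F23505) (tt N19426 D29634) (tt N4567 (iv6 D14074)) (tt N19427 D29635))
theorem Q9518 : ∀ i, i < 9518 → P i := stepQ 9517 Q9517 (allL N9517 (tt N9329 (iv1 F23510)) (tt N4568 (iv0 D14075)) (tt N9327 F23514) (tt N19428 D29636) (tt N18796 (iv4 F46738)) (tt N4818 (iv5 F23513)) (tt N19357 (iv6 F47406)) (tt N4817 F23512))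
theorem Q9519 : ∀ i, i < 9519 → P i := stepQ 9518 Q9518 (allL N9518 (tt N19429 D29637) (tt N19430 D29638) (tt N9328 F23506) (tt N19419 (iv3 F47587)) (tt N19431 D29639) (tt N4568 (iv5 D14076)) (tt N4569 F23507) (tt N10020 (iv7 F24320)))
theorem Q9520 : ∀ i, i < 9520 → P i := stepQ 9519 Q9519 (allL N9519 (tt N4817 (iv1 F23511)) (tt N9327 F23517) (tt N9329 F23508) (tt N19420 (iv3 F47589)) (tt N19427 (iv4 F47601)) (tt N10020 (iv5 F24319)) (tt N9308 F23509) (tt N4568 (iv7 D14077)))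
theorem Q9521 : ∀ i, i < 9521 → P i := stepQ 9520 Q9520 (allL N9520 (tt N5307 F23520) (tt N5301 F23521) (tt N9330 F23519) (tt N19432 D29640) (tt N4569 (iv4 D14078)) (tt N19036 (iv5 F46823)) (tt N19431 (iv6 F47619)) (tt N9880 (iv7 F24126)))
theorem Q9522 : ∀ i, i < 9522 → P i := stepQ 9521 Q9521 (allL N9521 (tt N9317 (iv1 F23522)) (tt N4570 (iv0 D14079)) (tt N7448 (iv2 F26827)) (tt N11156 (iv3 F27085)) (tt N19433 D29641) (tt N19020 (iv5 F46796)) (tt N9072 F26828) (tt N9316 F26826))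
theorem Q9523 : ∀ i, i < 9523 → P i := stepQ 9522 Q9522 (allL N9522 (tt N8420 F27036) (tt N11181 (iv0 F27119)) (tt N17445 (iv2 F43273)) (tt N4571 F23528) (tt N19434 D29642) (tt N4570 (iv5 D14082)) (tt N19435 D29643) (tt N9318 F23529))
theorem Q9524 : ∀ i, i < 9524 → P i := stepQ 9523 Q9523 (allL N9523 (tt N19436 D29644) (tt N19437 D29645) (tt N9335 F23530) (tt N19435 (iv3 F47624)) (tt N19328 (iv4 F47340)) (tt N17029 (iv5 F41973)) (tt N4571 (iv6 D14083)) (tt N19438 D29646))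
theorem Q9525 : ∀ i, i < 9525 → P i := stepQ 9524 Q9524 (allL N9524 (tt N7449 F23532) (tt N7451 F23533) (tt N9337 F23531) (tt N17084 (iv3 F42147)) (tt N12437 (iv4 F311251)) (tt N4572 (iv5 D14085)) (tt N19439 D29648) (tt N9536 (iv7 F23570)))
theorem Q9526 : ∀ i, i < 9526 → P i := stepQ 9525 Q9525 (allL N9525 (tt N12013 (iv1 F309653)) (tt N12475 F308559) (tt N10888 F54003) (tt N4574 F23541) (tt N12635 (iv4 F310643)) (tt N4573 (iv5 D14089)) (tt N19440 D29660) (tt N9348 F23542))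
theorem Q9527 : ∀ i, i < 9527 → P i := stepQ 9526 Q9526 (allL N9526 (tt N10403 (iv1 F54027)) (tt N10414 (iv0 F54024)) (tt N10412 F53999) (tt N4575 F23543) (tt N9353 F23544) (tt N11499 (iv5 F27876)) (tt N4573 (iv6 D14090)) (tt N10333 (iv7 F24688)))
theorem Q9528 : ∀ i, i < 9528 → P i := stepQ 9527 Q9527 (allL N9527 (tt N19441 D29663) (tt N10456 F313541) (tt N9345 F23545) (tt N19440 (iv3 F47663)) (tt N19307 (iv4 F47306)) (tt N11500 (iv5 F27877)) (tt N4574 (iv6 D14091)) (tt N19442 D29665))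
theorem Q9529 : ∀ i, i < 9529 → P i := stepQ 9528 Q9528 (allL N9528 (tt N4576 (iv1 D14092)) (tt N7906 F23546) (tt N8061 (iv2 F23549)) (tt N19443 D29666) (tt N7232 F23548) (tt N19405 (iv5 F47555)) (tt N8069 (iv6 F23550)) (tt N7171 F23547))
theorem Q9530 : ∀ i, i < 9530 → P i := stepQ 9529 Q9529 (allL N9529 (tt N8075 F54282) (tt N19444 D29668) (tt N19445 D29669) (tt N4576 (iv3 D14093)) (tt N4578 F23551) (tt N19446 D29670) (tt N19447 D29671) (tt N9338 F23552))
theorem Q9531 : ∀ i, i < 9531 → P i := stepQ 9530 Q9530 (allL N9530 (tt N18918 (iv1 F46648)) (tt N18920 (iv0 F46650)) (tt N15633 (iv2 F38728)) (tt N19446 (iv3 F47684)) (tt N19448 D29672) (tt N4576 (iv5 D14094)) (tt N19449 D29673) (tt N9339 F23553))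
theorem Q9532 : ∀ i, i < 9532 → P i := stepQ 9531 Q9531 (allL N9531 (tt N7313 (iv1 F23556)) (tt N7317 (iv0 F23557)) (tt N14958 F37532) (tt N19447 (iv3 F47687)) (tt N4577 F23554) (tt N19450 D29674) (tt N4576 (iv6 D14095)) (tt N9509 (iv7 F23555)))
theorem Q9533 : ∀ i, i < 9533 → P i := stepQ 9532 Q9532 (allL N9532 (tt N7443 (iv1 F26987)) (tt N8421 (iv0 F26990)) (tt N4578 (iv2 D14098)) (tt N9347 F23559) (tt N19445 (iv4 F47679)) (tt N19451 D29675) (tt N8366 F42123) (tt N8419 (iv7 F26679)))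
theorem Q9534 : ∀ i, i < 9534 → P i := stepQ 9533 Q9533 (allL N9533 (tt N18968 (iv1 F46703)) (tt N15233 (iv0 F38078)) (tt N19451 (iv2 F47695)) (tt N4579 F23564) (tt N19452 D29676) (tt N4578 (iv5 D14099)) (tt N19453 D29677) (tt N9341 F23565))
theorem Q9535 : ∀ i, i < 9535 → P i := stepQ 9534 Q9534 (allL N9534 (tt N8362 (iv1 F27012)) (tt N8368 (iv0 F27011)) (tt N8366 F42122) (tt N4580 F23566) (tt N19447 (iv4 F47688)) (tt N19454 D29678) (tt N4578 (iv6 D14100)) (tt N8365 (iv7 F26989)))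
theorem Q9536 : ∀ i, i < 9536 → P i := stepQ 9535 Q9535 (allL N9535 (tt N19455 D29679) (tt N17471 F303900) (tt N9350 F23568) (tt N19453 (iv3 F47701)) (tt N19298 (iv4 F47285)) (tt N19456 D29681) (tt N4579 (iv6 D14101)) (tt N19457 D29682))
theorem Q9537 : ∀ i, i < 9537 → P i := stepQ 9536 Q9536 (allL N9536 (tt N5318 F23571) (tt N5316 F23572) (tt N9351 F23569) (tt N19454 (iv3 F47703)) (tt N19000 (iv4 F46747)) (tt N4580 (iv5 D14102)) (tt N19456 (iv6 F47708)) (tt N9524 F23570))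
theorem Q9538 : ∀ i, i < 9538 → P i := stepQ 9537 Q9537 (allL N9537 (tt N9358 (iv1 F23573)) (tt N4581 (iv0 D14103)) (tt N9357 (iv2 F54225)) (tt N19458 D29684) (tt N19459 D29685) (tt N19460 D29686) (tt N10708 (iv6 F54230)) (tt N7217 (iv7 F54231)))
theorem Q9539 : ∀ i, i < 9539 → P i := stepQ 9538 Q9538 (allL N9538 (tt N4581 (iv1 D14104)) (tt N9358 F23577) (tt N7217 F54232) (tt N19461 D29689) (tt N19462 D29690) (tt N19463 D29691) (tt N5431 (iv6 F54238)) (tt N9357 F54233))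
theorem Q9540 : ∀ i, i < 9540 → P i := stepQ 9539 Q9539 (allL N9539 (tt N9357 (iv1 F23578)) (tt N7217 (iv0 F54044)) (tt N4581 (iv2 D14105)) (tt N9127 F54016) (tt N19464 D29693) (tt N19465 D29694) (tt N19466 D29695) (tt N9358 F23575))
theorem Q9541 : ∀ i, i < 9541 → P i := stepQ 9540 Q9540 (allL N9540 (tt N14963 F37542) (tt N17157 (iv0 F42389)) (tt N19464 (iv2 F47717)) (tt N7906 F23579) (tt N4581 (iv4 D14106)) (tt N19467 D29696) (tt N19468 D29697) (tt N9359 F23580))
theorem Q9542 : ∀ i, i < 9542 → P i := stepQ 9541 Q9541 (allL N9541 (tt N19469 D29698) (tt N19470 D29699) (tt N19465 (iv2 F47723)) (tt N4582 F23581) (tt N19471 D29700) (tt N4581 (iv5 D14107)) (tt N19472 D29701) (tt N9360 F23582))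
theorem Q9543 : ∀ i, i < 9543 → P i := stepQ 9542 Q9542 (allL N9542 (tt N19473 D29702) (tt N19474 D29703) (tt N19466 (iv2 F47728)) (tt N4583 F23583) (tt N19468 (iv4 F47733)) (tt N10589 (iv5 F24979)) (tt N4581 (iv6 D14108)) (tt N10332 (iv7 F24683)))
theorem Q9544 : ∀ i, i < 9544 → P i := stepQ 9543 Q9543 (allL N9543 (tt N19475 D29704) (tt N19476 D29705) (tt N9356 F23584) (tt N19472 (iv3 F47739)) (tt N19284 (iv4 F47249)) (tt N10591 (iv5 F24981)) (tt N4582 (iv6 D14109)) (tt N19477 D29706))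
theorem Q9545 : ∀ i, i < 9545 → P i := stepQ 9544 Q9544 (allL N9544 (tt N4584 (iv1 D14111)) (tt N9127 F54005) (tt N9129 F54054) (tt N19478 D29713) (tt N19458 (iv4 F47715)) (tt N19479 D29714) (tt N9142 (iv6 F54043)) (tt N9114 F54055))
theorem Q9546 : ∀ i, i < 9546 → P i := stepQ 9545 Q9545 (allL N9545 (tt N9114 (iv1 F54030)) (tt N9129 (iv0 F54032)) (tt N4584 (iv2 D14112)) (tt N9358 F23586) (tt N9347 F23587) (tt N19480 D29716) (tt N19481 D29717) (tt N9127 F54000))
theorem Q9547 : ∀ i, i < 9547 → P i := stepQ 9546 Q9546 (allL N9546 (tt N19482 D29718) (tt N19483 D29719) (tt N19480 (iv2 F47754)) (tt N4585 F23592) (tt N19484 D29720) (tt N4584 (iv5 D14113)) (tt N19485 D29721) (tt N9352 F23593))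
theorem Q9548 : ∀ i, i < 9548 → P i := stepQ 9547 Q9547 (allL N9547 (tt N9121 F54066) (tt N19458 (iv0 F47722)) (tt N19481 (iv2 F47759)) (tt N4586 F23594) (tt N9349 F23595) (tt N6006 (iv5 F309160)) (tt N4584 (iv6 D14114)) (tt N11141 (iv7 F26245)))
theorem Q9549 : ∀ i, i < 9549 → P i := stepQ 9548 Q9548 (allL N9548 (tt N19486 D29723) (tt N19487 D29724) (tt N9362 F23596) (tt N19485 (iv3 F47766)) (tt N19262 (iv4 F47198)) (tt N19488 D29725) (tt N4585 (iv6 D14115)) (tt N19489 D29726))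
theorem Q9550 : ∀ i, i < 9550 → P i := stepQ 9549 Q9549 (allL N9549 (tt N5313 F23598) (tt N5311 F23599) (tt N9363 F23597) (tt N6006 (iv3 F309159)) (tt N6010 (iv4 F309161)) (tt N4586 (iv5 D14116)) (tt N19488 (iv6 F47770)) (tt N10249 (iv7 F24550)))
theorem Q9551 : ∀ i, i < 9551 → P i := stepQ 9550 Q9550 (allL N9550 (tt N19478 F47752) (tt N19490 D29727) (tt N19491 D29728) (tt N4587 (iv3 D14119)) (tt N19492 D29729) (tt N19493 D29730) (tt N10332 (iv6 F26911)) (tt N9361 F26910))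
theorem Q9552 : ∀ i, i < 9552 → P i := stepQ 9551 Q9551 (allL N9551 (tt N5311 (iv1 F26684)) (tt N5313 (iv0 F26682)) (tt N10249 (iv2 F26683)) (tt N19493 (iv3 F47787)) (tt N17979 (iv4 F309158)) (tt N4587 (iv5 D14121)) (tt N19494 D29732) (tt N9363 F26685))
theorem Q9553 : ∀ i, i < 9553 → P i := stepQ 9552 Q9552 (allL N9552 (tt N4756 F26540) (tt N8490 F26541) (tt N11131 F26542) (tt N19495 D29733) (tt N4588 (iv4 D14133)) (tt N7487 F26543) (tt N19496 D29734) (tt N11130 F26544))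
theorem Q9554 : ∀ i, i < 9554 → P i := stepQ 9553 Q9553 (allL N9553 (tt N19497 D29735) (tt N12743 (iv0 F302710)) (tt N11142 F26912) (tt N4592 F23610) (tt N19496 (iv4 F47808)) (tt N8333 F23611) (tt N4588 (iv6 D14134)) (tt N19498 D29737))
theorem Q9555 : ∀ i, i < 9555 → P i := stepQ 9554 Q9554 (allL N9554 (tt N19460 (iv1 F54227)) (tt N19463 (iv0 F54234)) (tt N19499 D29740) (tt N4589 (iv3 D14136)) (tt N19500 D29741) (tt N8975 F23614) (tt N19501 D29742) (tt N9381 F23615))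
theorem Q9556 : ∀ i, i < 9556 → P i := stepQ 9555 Q9555 (allL N9555 (tt N19502 D29743) (tt N19503 D29744) (tt N9380 F23616) (tt N19501 (iv3 F47819)) (tt N19241 (iv4 F47147)) (tt N10309 (iv5 F24638)) (tt N4589 (iv6 D14137)) (tt N19504 D29745))
theorem Q9557 : ∀ i, i < 9557 → P i := stepQ 9556 Q9556 (allL N9556 (tt N9128 F50878) (tt N19479 (iv0 F54039)) (tt N19505 D29748) (tt N4590 (iv3 D14138)) (tt N19506 D29749) (tt N8976 F23617) (tt N19507 D29750) (tt N9379 F23618))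
theorem Q9558 : ∀ i, i < 9558 → P i := stepQ 9557 Q9557 (allL N9557 (tt N19508 D29751) (tt N19509 D29752) (tt N9382 F23619) (tt N19507 (iv3 F47834)) (tt N19217 (iv4 F47090)) (tt N10689 F26884) (tt N4590 (iv6 D14139)) (tt N19510 D29753))
theorem Q9559 : ∀ i, i < 9559 → P i := stepQ 9558 Q9558 (allL N9558 (tt N19511 D29754) (tt N19512 D29755) (tt N19513 D29756) (tt N4591 (iv3 D14140)) (tt N19495 (iv4 F47805)) (tt N9277 F23620) (tt N19514 D29757) (tt N9276 F23621))
theorem Q9560 : ∀ i, i < 9560 → P i := stepQ 9559 Q9559 (allL N9559 (tt N6841 F299892) (tt N11629 F299893) (tt N9384 F23622) (tt N19514 (iv3 F47848)) (tt N4592 F23623) (tt N11911 F299894) (tt N4591 (iv6 D14141)) (tt N19515 D29761))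
theorem Q9561 : ∀ i, i < 9561 → P i := stepQ 9560 Q9560 (allL N9560 (tt N9387 (iv1 F23627)) (tt N4592 (iv0 D14142)) (tt N9385 F41800) (tt N17159 (iv3 F301063)) (tt N17184 (iv4 F301065)) (tt N5686 F298433) (tt N19516 D29765) (tt N9386 F41798))
theorem Q9562 : ∀ i, i < 9562 → P i := stepQ 9561 Q9561 (allL N9561 (tt N4592 (iv1 D14143)) (tt N9387 F23624) (tt N9386 (iv2 F41797)) (tt N19517 D29766) (tt N17557 (iv4 F301062)) (tt N5689 F298464) (tt N19518 D29768) (tt N9385 (iv7 F41799)))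
theorem Q9563 : ∀ i, i < 9563 → P i := stepQ 9562 Q9562 (allL N9562 (tt N9386 (iv1 F23628)) (tt N9385 F23629) (tt N9387 F23625) (tt N19498 (iv3 F47809)) (tt N19515 (iv4 F47860)) (tt N8334 F23626) (tt N19519 D29769) (tt N4592 (iv7 D14144)))
theorem Q9564 : ∀ i, i < 9564 → P i := stepQ 9563 Q9563 (allL N9563 (tt N19520 D29770) (tt N19521 D29771) (tt N9388 F23630) (tt N11150 (iv3 F27072)) (tt N9280 F23631) (tt N10717 (iv5 F25346)) (tt N4593 (iv6 D14145)) (tt N19519 (iv7 F47882)))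
theorem Q9565 : ∀ i, i < 9565 → P i := stepQ 9564 Q9564 (allL N9564 (tt N15894 (iv1 F39250)) (tt N15898 F39260) (tt N9567 (iv2 F23636)) (tt N7417 F23632) (tt N19522 D29772) (tt N4594 (iv5 D14146)) (tt N9630 (iv6 F23739)) (tt N9924 (iv7 F24175)))
theorem Q9566 : ∀ i, i < 9566 → P i := stepQ 9565 Q9565 (allL N9565 (tt N15757 F39011) (tt N15760 (iv0 F39012)) (tt N9568 (iv2 F23637)) (tt N19523 D29773) (tt N4595 (iv4 D14147)) (tt N19524 D29774) (tt N7741 F23633) (tt N9925 (iv7 F24176)))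
theorem Q9567 : ∀ i, i < 9567 → P i := stepQ 9566 Q9566 (allL N9566 (tt N14946 F37504) (tt N15127 F37892) (tt N9747 (iv2 F23946)) (tt N4598 F23634) (tt N19525 D29775) (tt N4596 (iv5 D14148)) (tt N7744 F23635) (tt N15101 (iv7 F37856)))
theorem Q9568 : ∀ i, i < 9568 → P i := stepQ 9567 Q9567 (allL N9567 (tt N8903 F39166) (tt N19526 D29776) (tt N9564 F23636) (tt N15261 (iv3 F38109)) (tt N15876 F39238) (tt N4597 (iv5 D14149)) (tt N9631 (iv6 F23741)) (tt N16679 (iv7 F40900)))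
theorem Q9569 : ∀ i, i < 9569 → P i := stepQ 9568 Q9568 (allL N9568 (tt N19527 D29777) (tt N18315 (iv0 F45775)) (tt N9565 F23637) (tt N19528 D29778) (tt N4598 (iv4 D14150)) (tt N19529 D29779) (tt N7749 F23638) (tt N16680 (iv7 F40904)))
theorem Q9570 : ∀ i, i < 9570 → P i := stepQ 9569 Q9569 (allL N9569 (tt N7708 (iv1 F23643)) (tt N7696 (iv0 F23642)) (tt N4604 F23639) (tt N7470 F23640) (tt N4599 (iv4 D14151)) (tt N19530 D29780) (tt N15473 (iv6 F38541)) (tt N4608 F23641))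
theorem Q9571 : ∀ i, i < 9571 → P i := stepQ 9570 Q9570 (allL N9570 (tt N9479 F23646) (tt N18947 F46688) (tt N4605 F23644) (tt N16561 (iv3 F40689)) (tt N19531 D29781) (tt N4599 (iv5 D14152)) (tt N15476 (iv6 F38543)) (tt N4609 F23645))
theorem Q9572 : ∀ i, i < 9572 → P i := stepQ 9571 Q9571 (allL N9571 (tt N18947 (iv1 F46687)) (tt N9479 F23651) (tt N4609 F23648) (tt N9199 F23649) (tt N19532 D29782) (tt N4600 (iv5 D14153)) (tt N19533 D29783) (tt N4605 F23650))
theorem Q9573 : ∀ i, i < 9573 → P i := stepQ 9572 Q9572 (allL N9572 (tt N4614 (iv1 F23655)) (tt N4601 (iv0 D14154)) (tt N4611 F23658) (tt N16563 F40703) (tt N19534 D29784) (tt N15374 (iv5 F38342)) (tt N19535 D29785) (tt N4612 F23657))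
theorem Q9574 : ∀ i, i < 9574 → P i := stepQ 9573 Q9573 (allL N9573 (tt N19152 (iv1 F46991)) (tt N19536 D29786) (tt N4613 F23652) (tt N19537 D29787) (tt N4601 (iv4 D14155)) (tt N19538 D29788) (tt N9628 (iv6 F23732)) (tt N19539 D29789))
theorem Q9575 : ∀ i, i < 9575 → P i := stepQ 9574 Q9574 (allL N9574 (tt N4612 (iv1 F23656)) (tt N4611 F23661) (tt N4614 F23653) (tt N9629 (iv3 F23734)) (tt N19539 (iv4 F47926)) (tt N4602 F23654) (tt N19540 D29790) (tt N4601 (iv7 D14156)))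
theorem Q9576 : ∀ i, i < 9576 → P i := stepQ 9575 Q9575 (allL N9575 (tt N18977 (iv1 F46716)) (tt N19541 D29791) (tt N9191 F23662) (tt N4605 F23663) (tt N19542 D29792) (tt N4603 (iv5 D14157)) (tt N19543 D29793) (tt N9199 F23664))
theorem Q9577 : ∀ i, i < 9577 → P i := stepQ 9576 Q9576 (allL N9576 (tt N4717 F24053) (tt N19544 D29794) (tt N9192 F23665) (tt N4606 F23666) (tt N8227 (iv4 F23669)) (tt N14685 F36856) (tt N4603 (iv6 D14158)) (tt N15454 (iv7 F38507)))
theorem Q9578 : ∀ i, i < 9578 → P i := stepQ 9577 Q9577 (allL N9577 (tt N4608 (iv1 F23675)) (tt N4604 (iv0 D14159)) (tt N7708 (iv2 F23674)) (tt N9412 F23673) (tt N7699 F23672) (tt N19545 D29795) (tt N9577 F23677) (tt N7696 F23676))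
theorem Q9579 : ∀ i, i < 9579 → P i := stepQ 9578 Q9578 (allL N9578 (tt N19546 D29796) (tt N19547 D29797) (tt N19530 (iv2 F47905)) (tt N15192 (iv3 F38003)) (tt N19548 D29798) (tt N4604 (iv5 D14160)) (tt N19549 D29799) (tt N15204 (iv7 F38030)))
theorem Q9580 : ∀ i, i < 9580 → P i := stepQ 9579 Q9579 (allL N9579 (tt N18294 F45742) (tt N19550 D29800) (tt N15473 (iv2 F38539)) (tt N7888 F24290) (tt N4606 F23678) (tt N14783 (iv5 F37127)) (tt N4604 (iv6 D14161)) (tt N15462 (iv7 F38524)))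
theorem Q9581 : ∀ i, i < 9581 → P i := stepQ 9580 Q9580 (allL N9580 (tt N4609 (iv1 F23681)) (tt N4605 (iv0 D14162)) (tt N9479 (iv2 F23680)) (tt N9641 (iv3 F23757)) (tt N19551 D29801) (tt N7524 F23679) (tt N19552 D29802) (tt N18947 (iv7 F46686)))
theorem Q9582 : ∀ i, i < 9582 → P i := stepQ 9581 Q9581 (allL N9581 (tt N19553 D29803) (tt N19554 D29804) (tt N19531 (iv2 F47908)) (tt N19555 D29805) (tt N4605 (iv4 D14163)) (tt N19556 D29806) (tt N19557 D29807) (tt N19532 (iv7 F47911)))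
theorem Q9583 : ∀ i, i < 9583 → P i := stepQ 9582 Q9582 (allL N9582 (tt N19558 D29808) (tt N18958 (iv0 F164125)) (tt N15476 (iv2 F38542)) (tt N19543 (iv3 F47940)) (tt N19557 (iv4 F47969)) (tt N15397 (iv5 F38417)) (tt N4605 (iv6 D14164)) (tt N19559 D29810))
theorem Q9584 : ∀ i, i < 9584 → P i := stepQ 9583 Q9583 (allL N9583 (tt N19560 D29811) (tt N18927 F46664) (tt N16562 (iv2 F40691)) (tt N4609 F23683) (tt N19561 D29812) (tt N4607 (iv5 D14165)) (tt N19562 D29813) (tt N16561 (iv7 F40690)))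
theorem Q9585 : ∀ i, i < 9585 → P i := stepQ 9584 Q9584 (allL N9584 (tt N15510 F38984) (tt N8124 (iv0 F39700)) (tt N15508 F38585) (tt N4610 F23684) (tt N16051 (iv4 F39699)) (tt N19379 (iv5 F47484)) (tt N4607 (iv6 D14166)) (tt N9946 (iv7 F24208)))
theorem Q9586 : ∀ i, i < 9586 → P i := stepQ 9585 Q9585 (allL N9585 (tt N7743 F23688) (tt N7912 (iv0 F23689)) (tt N7474 F23685) (tt N4608 (iv3 D14167)) (tt N7466 F23686) (tt N19563 D29814) (tt N16052 (iv6 F39704)) (tt N7470 F23687))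
theorem Q9587 : ∀ i, i < 9587 → P i := stepQ 9586 Q9586 (allL N9586 (tt N19547 (iv1 F47954)) (tt N19546 F47953) (tt N15204 (iv2 F38028)) (tt N19563 (iv3 F47980)) (tt N19564 D29815) (tt N4608 (iv5 D14168)) (tt N19565 D29816) (tt N19530 (iv7 F47907)))
theorem Q9588 : ∀ i, i < 9588 → P i := stepQ 9587 Q9587 (allL N9587 (tt N18045 (iv1 F45194)) (tt N15745 F38983) (tt N9944 (iv2 F24193)) (tt N16052 (iv3 F39703)) (tt N4610 F23690) (tt N19566 D29817) (tt N4608 (iv6 D14169)) (tt N9947 (iv7 F24209)))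
theorem Q9589 : ∀ i, i < 9589 → P i := stepQ 9588 Q9588 (allL N9588 (tt N19554 (iv1 F47967)) (tt N19553 F47966) (tt N19532 (iv2 F47910)) (tt N19567 D29818) (tt N4609 (iv4 D14170)) (tt N19568 D29819) (tt N19569 D29820) (tt N19531 (iv7 F47909)))
theorem Q9590 : ∀ i, i < 9590 → P i := stepQ 9589 Q9589 (allL N9589 (tt N18994 (iv1 F95817)) (tt N19570 D29822) (tt N19533 (iv2 F47912)) (tt N19562 (iv3 F47978)) (tt N19569 (iv4 F47987)) (tt N19571 D29823) (tt N4609 (iv6 D14171)) (tt N19572 D29824))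
theorem Q9591 : ∀ i, i < 9591 → P i := stepQ 9590 Q9590 (allL N9590 (tt N4743 (iv1 F23692)) (tt N7512 (iv0 F23691)) (tt N9945 (iv2 F24197)) (tt N19379 F47486) (tt N19573 D29825) (tt N4610 (iv5 D14173)) (tt N19571 (iv6 F47991)) (tt N9948 (iv7 F24211)))
theorem Q9592 : ∀ i, i < 9592 → P i := stepQ 9591 Q9591 (allL N9591 (tt N9705 (iv1 F37716)) (tt N7333 F37717) (tt N9702 F23844) (tt N4611 (iv3 D14174)) (tt N18651 (iv4 F46342)) (tt N15071 (iv5 F37796)) (tt N19574 D29826) (tt N9703 F23842))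
theorem Q9593 : ∀ i, i < 9593 → P i := stepQ 9592 Q9592 (allL N9592 (tt N19575 D29827) (tt N15733 (iv0 F38930)) (tt N19534 (iv2 F47915)) (tt N19576 D29828) (tt N4611 (iv4 D14175)) (tt N19577 D29829) (tt N19578 D29830) (tt N15427 (iv7 F38455)))
theorem Q9594 : ∀ i, i < 9594 → P i := stepQ 9593 Q9593 (allL N9593 (tt N19579 D29831) (tt N19580 D29832) (tt N19535 (iv2 F47918)) (tt N19574 (iv3 F47993)) (tt N19578 (iv4 F47997)) (tt N16684 (iv5 F40921)) (tt N4611 (iv6 D14176)) (tt N19581 D29833))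
theorem Q9595 : ∀ i, i < 9595 → P i := stepQ 9594 Q9594 (allL N9594 (tt N4689 F38384) (tt N16565 F40701) (tt N16191 (iv2 F40114)) (tt N4612 (iv3 D14177)) (tt N19582 D29834) (tt N15385 F38385) (tt N19583 D29835) (tt N16563 (iv7 F40702)))
theorem Q9596 : ∀ i, i < 9596 → P i := stepQ 9595 Q9595 (allL N9595 (tt N15733 (iv1 F38931)) (tt N19575 F47995) (tt N15427 (iv2 F38454)) (tt N19584 D29836) (tt N4612 (iv4 D14178)) (tt N19585 D29837) (tt N19586 D29838) (tt N19534 (iv7 F47916)))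
theorem Q9597 : ∀ i, i < 9597 → P i := stepQ 9596 Q9596 (allL N9596 (tt N19587 D29839) (tt N19588 D29840) (tt N15425 (iv2 F38452)) (tt N19583 (iv3 F48000)) (tt N19586 (iv4 F48001)) (tt N15390 (iv5 F38401)) (tt N4612 (iv6 D14179)) (tt N19589 D29841))
theorem Q9598 : ∀ i, i < 9598 → P i := stepQ 9597 Q9597 (allL N9597 (tt N19539 (iv1 F47928)) (tt N4613 (iv0 D14180)) (tt N19152 (iv2 F46992)) (tt N19590 D29842) (tt N15725 F46993) (tt N19591 D29843) (tt N19592 D29844) (tt N19536 (iv7 F47921)))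
theorem Q9599 : ∀ i, i < 9599 → P i := stepQ 9598 Q9598 (allL N9598 (tt N4613 (iv1 D14181)) (tt N19539 F47927) (tt N19536 F47923) (tt N19593 D29845) (tt N14991 (iv4 F37590)) (tt N19594 D29846) (tt N19595 D29847) (tt N19152 (iv7 F46989)))
theorem Q9600 : ∀ i, i < 9600 → P i := stepQ 9599 Q9599 (allL N9599 (tt N19596 D29848) (tt N19597 D29849) (tt N19598 D29850) (tt N4613 (iv3 D14182)) (tt N4619 F23694) (tt N19599 D29851) (tt N9656 (iv6 F23763)) (tt N19600 D29852))
theorem Q9601 : ∀ i, i < 9601 → P i := stepQ 9600 Q9600 (allL N9600 (tt N19601 D29853) (tt N19602 D29854) (tt N19538 (iv2 F47924)) (tt N19599 (iv3 F48003)) (tt N19603 D29855) (tt N4613 (iv5 D14183)) (tt N19604 D29856) (tt N19605 D29857))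
theorem Q9602 : ∀ i, i < 9602 → P i := stepQ 9601 Q9601 (allL N9601 (tt N19536 (iv1 F47920)) (tt N19152 (iv0 F46990)) (tt N19539 (iv2 F47925)) (tt N19600 (iv3 F48004)) (tt N4614 F23695) (tt N19605 (iv5 F48009)) (tt N19606 D29858) (tt N4613 (iv7 D14184)))
theorem Q9603 : ∀ i, i < 9603 → P i := stepQ 9602 Q9602 (allL N9602 (tt N19607 D29859) (tt N19608 D29860) (tt N19540 (iv2 F47929)) (tt N4622 F23696) (tt N19606 (iv4 F48010)) (tt N9602 F23697) (tt N4614 (iv6 D14185)) (tt N9659 (iv7 F23767)))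
theorem Q9604 : ∀ i, i < 9604 → P i := stepQ 9603 Q9603 (allL N9603 (tt N19609 D29861) (tt N18226 (iv0 F45568)) (tt N16568 (iv2 F40714)) (tt N18852 (iv3 F46571)) (tt N4615 (iv4 D14186)) (tt N19610 D29862) (tt N19611 D29863) (tt N9665 (iv7 F23777)))
theorem Q9605 : ∀ i, i < 9605 → P i := stepQ 9604 Q9604 (allL N9604 (tt N19612 D29864) (tt N19613 D29865) (tt N16569 (iv2 F40715)) (tt N4616 F23698) (tt N19611 (iv4 F48012)) (tt N16603 (iv5 F40790)) (tt N4615 (iv6 D14187)) (tt N19614 D29866))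
theorem Q9606 : ∀ i, i < 9606 → P i := stepQ 9605 Q9605 (allL N9605 (tt N9664 (iv1 F23776)) (tt N4616 (iv0 D14188)) (tt N9662 (iv2 F39527)) (tt N19615 D29867) (tt N19263 (iv4 F49751)) (tt N19616 D29869) (tt N9668 (iv6 F23785)) (tt N9663 (iv7 F39529)))
theorem Q9607 : ∀ i, i < 9607 → P i := stepQ 9606 Q9606 (allL N9606 (tt N4616 (iv1 D14189)) (tt N9664 F23775) (tt N9663 F39530) (tt N19580 F168253) (tt N19264 (iv4 F49748)) (tt N10132 (iv5 F24410)) (tt N19617 D29872) (tt N9662 F39528))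
theorem Q9608 : ∀ i, i < 9608 → P i := stepQ 9607 Q9607 (allL N9607 (tt N9663 (iv1 F23771)) (tt N9662 F23774) (tt N9664 (iv2 F23772)) (tt N19614 (iv3 F48013)) (tt N18859 (iv4 F46586)) (tt N11103 (iv5 F26158)) (tt N9669 (iv6 F23788)) (tt N4616 (iv7 D14190)))
theorem Q9609 : ∀ i, i < 9609 → P i := stepQ 9608 Q9608 (allL N9608 (tt N18231 (iv1 F45585)) (tt N19618 D29873) (tt N9711 (iv2 F23878)) (tt N18863 (iv3 F46587)) (tt N4617 (iv4 D14191)) (tt N19619 D29874) (tt N19620 D29875) (tt N9660 (iv7 F23768)))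
theorem Q9610 : ∀ i, i < 9610 → P i := stepQ 9609 Q9609 (allL N9609 (tt N19621 D29876) (tt N19622 D29877) (tt N9712 (iv2 F23880)) (tt N4618 F23699) (tt N19620 (iv4 F48022)) (tt N7794 F23700) (tt N4617 (iv6 D14192)) (tt N19623 D29878))
theorem Q9611 : ∀ i, i < 9611 → P i := stepQ 9610 Q9610 (allL N9610 (tt N9669 F23790) (tt N4618 (iv0 D14193)) (tt N9667 F39525) (tt N19587 F163913) (tt N19285 (iv4 F80112)) (tt N7835 F23701) (tt N19624 D29881) (tt N9668 (iv7 F39524)))
theorem Q9612 : ∀ i, i < 9612 → P i := stepQ 9611 Q9611 (allL N9611 (tt N4618 (iv1 D14194)) (tt N9669 F23789) (tt N9668 (iv2 F39526)) (tt N19625 D29882) (tt N19286 (iv4 F80108)) (tt N7836 (iv5 F23702)) (tt N9662 (iv6 F23770)) (tt N9667 (iv7 F39521)))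
theorem Q9613 : ∀ i, i < 9613 → P i := stepQ 9612 Q9612 (allL N9612 (tt N9668 (iv1 F23782)) (tt N9667 (iv0 F23781)) (tt N9669 (iv2 F23786)) (tt N19623 (iv3 F48023)) (tt N18868 (iv4 F46591)) (tt N7807 F23704) (tt N9664 (iv6 F23773)) (tt N4618 (iv7 D14195)))
theorem Q9614 : ∀ i, i < 9614 → P i := stepQ 9613 Q9613 (allL N9613 (tt N19626 D29884) (tt N4619 (iv0 D14196)) (tt N19627 D29885) (tt N19628 D29886) (tt N19629 D29887) (tt N19630 D29888) (tt N19631 D29889) (tt N19632 D29890))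
theorem Q9615 : ∀ i, i < 9615 → P i := stepQ 9614 Q9614 (allL N9614 (tt N4619 (iv1 D14197)) (tt N19626 F48032) (tt N19632 (iv2 F48034)) (tt N19633 D29891) (tt N19634 D29892) (tt N19635 D29893) (tt N19636 D29894) (tt N19627 F48033))
theorem Q9616 : ∀ i, i < 9616 → P i := stepQ 9615 Q9615 (allL N9615 (tt N19627 F211575) (tt N19632 (iv0 F211577)) (tt N4619 (iv2 D14198)) (tt N9672 (iv3 F23791)) (tt N19598 (iv4 F48002)) (tt N19637 D29897) (tt N9672 (iv6 F23792)) (tt N19626 (iv7 F48031)))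
theorem Q9617 : ∀ i, i < 9617 → P i := stepQ 9616 Q9616 (allL N9616 (tt N19638 D29898) (tt N19639 D29899) (tt N19637 (iv2 F48037)) (tt N4620 F23705) (tt N19640 D29900) (tt N4619 (iv5 D14199)) (tt N19641 D29901) (tt N17096 (iv7 F42205)))
theorem Q9618 : ∀ i, i < 9618 → P i := stepQ 9617 Q9617 (allL N9617 (tt N19632 (iv1 F211578)) (tt N19627 F211574) (tt N19626 F48030) (tt N4621 F23706) (tt N19600 (iv4 F48005)) (tt N17096 (iv5 F42204)) (tt N19642 D29902) (tt N4619 (iv7 D14200)))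
theorem Q9619 : ∀ i, i < 9619 → P i := stepQ 9618 Q9618 (allL N9618 (tt N19643 D29903) (tt N19644 D29904) (tt N9675 (iv2 F23795)) (tt N19641 (iv3 F48038)) (tt N17097 (iv4 F42207)) (tt N9675 (iv5 F23796)) (tt N4620 (iv6 D14201)) (tt N17603 F304921))
theorem Q9620 : ∀ i, i < 9620 → P i := stepQ 9619 Q9619 (allL N9619 (tt N19337 F98503) (tt N19337 F98504) (tt N9676 (iv2 F23797)) (tt N19642 (iv3 F48039)) (tt N4622 F23707) (tt N5747 F303858) (tt N4621 (iv6 D14202)) (tt N9676 (iv7 F23799)))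
theorem Q9621 : ∀ i, i < 9621 → P i := stepQ 9620 Q9620 (allL N9620 (tt N4622 (iv1 F23708)) (tt N4622 (iv0 D14203)) (tt N9677 (iv2 F49069)) (tt N19645 D29909) (tt N18892 F98521) (tt N19646 D29911) (tt N16724 (iv6 F41005)) (tt N9677 (iv7 F49070)))
theorem Q9622 : ∀ i, i < 9622 → P i := stepQ 9621 Q9621 (allL N9621 (tt N9828 (iv1 F26044)) (tt N9736 F23994) (tt N7271 F23709) (tt N4624 F23710) (tt N19647 D29912) (tt N4623 (iv5 D14204)) (tt N7518 F23711) (tt N9772 (iv7 F23976)))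
theorem Q9623 : ∀ i, i < 9623 → P i := stepQ 9622 Q9622 (allL N9622 (tt N19648 D29913) (tt N19649 D29914) (tt N7343 F23712) (tt N19650 D29915) (tt N4624 (iv4 D14205)) (tt N19651 D29916) (tt N7526 F23713) (tt N9975 (iv7 F24251)))
theorem Q9624 : ∀ i, i < 9624 → P i := stepQ 9623 Q9623 (allL N9623 (tt N19652 D29917) (tt N15287 (iv0 F38168)) (tt N4634 F23714) (tt N15813 (iv3 F39084)) (tt N19653 D29918) (tt N4625 (iv5 D14206)) (tt N15343 (iv6 F38278)) (tt N19654 D29919))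
theorem Q9625 : ∀ i, i < 9625 → P i := stepQ 9624 Q9624 (allL N9624 (tt N4633 (iv1 F23718)) (tt N4632 F23719) (tt N4635 F23715) (tt N15271 (iv3 F38141)) (tt N4629 F23716) (tt N19654 (iv5 F48072)) (tt N9624 F23717) (tt N4625 (iv7 D14207)))
theorem Q9626 : ∀ i, i < 9626 → P i := stepQ 9625 Q9625 (allL N9625 (tt N9299 F23722) (tt N19358 F47413) (tt N4636 F23720) (tt N9678 (iv3 F23801)) (tt N19655 D29920) (tt N4626 (iv5 D14208)) (tt N15891 (iv6 F39248)) (tt N4639 F23721))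
theorem Q9627 : ∀ i, i < 9627 → P i := stepQ 9626 Q9626 (allL N9626 (tt N19358 (iv1 F47412)) (tt N9299 F23727) (tt N4639 F23724) (tt N7289 F23725) (tt N19656 D29921) (tt N4627 (iv5 D14209)) (tt N19657 D29922) (tt N4636 F23726))
theorem Q9628 : ∀ i, i < 9628 → P i := stepQ 9627 Q9627 (allL N9627 (tt N4644 (iv1 F23730)) (tt N4628 (iv0 D14210)) (tt N4641 (iv2 F23728)) (tt N9682 F36886) (tt N19658 D29923) (tt N15819 (iv5 F39100)) (tt N19659 D29924) (tt N4642 F23729))
theorem Q9629 : ∀ i, i < 9629 → P i := stepQ 9628 Q9628 (allL N9628 (tt N18693 F46410) (tt N19660 D29925) (tt N4643 F23731) (tt N19661 D29926) (tt N4628 (iv4 D14211)) (tt N19662 D29927) (tt N9573 F23732) (tt N19663 D29928))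
theorem Q9630 : ∀ i, i < 9630 → P i := stepQ 9629 Q9629 (allL N9629 (tt N4642 (iv1 F23736)) (tt N4641 F23737) (tt N4644 F23733) (tt N9574 F23734) (tt N19663 (iv4 F48095)) (tt N4629 F23735) (tt N19664 D29929) (tt N4628 (iv7 D14212)))
theorem Q9631 : ∀ i, i < 9631 → P i := stepQ 9630 Q9630 (allL N9630 (tt N15479 (iv1 F38545)) (tt N14896 F37370) (tt N9631 (iv2 F23740)) (tt N7464 F23738) (tt N19665 D29930) (tt N4630 (iv5 D14213)) (tt N9564 F23739) (tt N15679 (iv7 F38808)))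
theorem Q9632 : ∀ i, i < 9632 → P i := stepQ 9631 Q9631 (allL N9631 (tt N8945 (iv1 F24599)) (tt N19666 D29931) (tt N9630 F23740) (tt N18010 (iv3 F45092)) (tt N15457 F38515) (tt N4631 (iv5 D14214)) (tt N9567 F23741) (tt N9984 (iv7 F24272)))
theorem Q9633 : ∀ i, i < 9633 → P i := stepQ 9632 Q9632 (allL N9632 (tt N19667 D29932) (tt N19668 D29933) (tt N18657 (iv2 F46361)) (tt N15264 (iv3 F38115)) (tt N19669 D29934) (tt N4632 (iv5 D14215)) (tt N19670 D29935) (tt N15278 (iv7 F38160)))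
theorem Q9634 : ∀ i, i < 9634 → P i := stepQ 9633 Q9633 (allL N9633 (tt N9978 (iv1 F24283)) (tt N9992 F24282) (tt N9990 F24277) (tt N7679 (iv3 F26053)) (tt N15345 (iv4 F38285)) (tt N9025 (iv5 F23743)) (tt N4632 (iv6 D14216)) (tt N9989 (iv7 F38961)))
theorem Q9635 : ∀ i, i < 9635 → P i := stepQ 9634 Q9634 (allL N9634 (tt N7177 F23749) (tt N8871 (iv0 F23750)) (tt N8869 F23746) (tt N4633 (iv3 D14217)) (tt N8105 F23747) (tt N19671 D29936) (tt N19672 D29937) (tt N8868 F23748))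
theorem Q9636 : ∀ i, i < 9636 → P i := stepQ 9635 Q9635 (allL N9635 (tt N19668 (iv1 F48117)) (tt N19667 F48116) (tt N15278 (iv2 F38158)) (tt N19671 (iv3 F48124)) (tt N19673 D29938) (tt N4633 (iv5 D14218)) (tt N19674 D29939) (tt N18657 (iv7 F46363)))
theorem Q9637 : ∀ i, i < 9637 → P i := stepQ 9636 Q9636 (allL N9636 (tt N16265 (iv1 F40233)) (tt N15048 (iv0 F37744)) (tt N15279 (iv2 F38161)) (tt N19672 (iv3 F48128)) (tt N10160 F24450) (tt N19675 D29940) (tt N4633 (iv6 D14219)) (tt N16264 F40225))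
theorem Q9638 : ∀ i, i < 9638 → P i := stepQ 9637 Q9637 (allL N9637 (tt N19654 (iv1 F48074)) (tt N4634 (iv0 D14220)) (tt N19652 F48063) (tt N15266 F38367) (tt N15355 (iv4 F38366)) (tt N15749 (iv5 F38994)) (tt N19676 D29941) (tt N15287 (iv7 F38368)))
theorem Q9639 : ∀ i, i < 9639 → P i := stepQ 9638 Q9638 (allL N9638 (tt N4634 (iv1 D14221)) (tt N19654 F48073) (tt N15287 F38944) (tt N19677 D29942) (tt N15356 F38945) (tt N15736 (iv5 F38943)) (tt N19678 D29943) (tt N19652 (iv7 F48065)))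
theorem Q9640 : ∀ i, i < 9640 → P i := stepQ 9639 Q9639 (allL N9639 (tt N11105 F26167) (tt N15376 (iv0 F38355)) (tt N19653 (iv2 F48067)) (tt N19679 D29944) (tt N4634 (iv4 D14222)) (tt N19680 D29945) (tt N16703 (iv6 F40974)) (tt N19681 D29946))
theorem Q9641 : ∀ i, i < 9641 → P i := stepQ 9640 Q9640 (allL N9640 (tt N15287 (iv1 F38169)) (tt N19652 F48066) (tt N19654 (iv2 F48071)) (tt N7903 F23751) (tt N19681 (iv4 F48143)) (tt N4635 F23752) (tt N19682 D29947) (tt N4634 (iv7 D14223)))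
theorem Q9642 : ∀ i, i < 9642 → P i := stepQ 9641 Q9641 (allL N9641 (tt N4639 (iv1 F23755)) (tt N4636 (iv0 D14224)) (tt N9299 (iv2 F23754)) (tt N9580 F23757) (tt N19683 D29948) (tt N7747 F23753) (tt N19684 D29949) (tt N19358 (iv7 F47411)))
theorem Q9643 : ∀ i, i < 9643 → P i := stepQ 9642 Q9642 (allL N9642 (tt N19685 D29950) (tt N19686 D29951) (tt N19655 (iv2 F48075)) (tt N19687 D29952) (tt N4636 (iv4 D14225)) (tt N19688 D29953) (tt N19689 D29954) (tt N19656 (iv7 F48078)))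
theorem Q9644 : ∀ i, i < 9644 → P i := stepQ 9643 Q9643 (allL N9643 (tt N19690 D29955) (tt N19367 (iv0 F164106)) (tt N15891 (iv2 F39247)) (tt N15003 (iv3 F37627)) (tt N19689 (iv4 F48156)) (tt N15840 (iv5 F39163)) (tt N4636 (iv6 D14226)) (tt N19691 D29957))
theorem Q9645 : ∀ i, i < 9645 → P i := stepQ 9644 Q9644 (allL N9644 (tt N19692 D29958) (tt N19340 F47369) (tt N9680 (iv2 F23806)) (tt N4639 F23758) (tt N19693 D29959) (tt N4638 (iv5 D14227)) (tt N19694 D29960) (tt N9678 (iv7 F23802)))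
theorem Q9646 : ∀ i, i < 9646 → P i := stepQ 9645 Q9645 (allL N9645 (tt N9789 (iv1 F24024)) (tt N4702 F23984) (tt N9681 (iv2 F23808)) (tt N4640 F23759) (tt N18244 (iv4 F45603)) (tt N19695 D29961) (tt N4638 (iv6 D14228)) (tt N9787 (iv7 F24015)))
theorem Q9647 : ∀ i, i < 9647 → P i := stepQ 9646 Q9646 (allL N9646 (tt N19686 (iv1 F48154)) (tt N19685 F48153) (tt N19656 (iv2 F48077)) (tt N19696 D29962) (tt N4639 (iv4 D14229)) (tt N19697 D29963) (tt N19698 D29964) (tt N19655 (iv7 F48076)))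
theorem Q9648 : ∀ i, i < 9648 → P i := stepQ 9647 Q9647 (allL N9647 (tt N19428 (iv1 F95821)) (tt N19699 D29966) (tt N19657 (iv2 F48079)) (tt N19694 (iv3 F48163)) (tt N19698 (iv4 F48168)) (tt N19700 D29967) (tt N4639 (iv6 D14230)) (tt N19701 D29968))
theorem Q9649 : ∀ i, i < 9649 → P i := stepQ 9648 Q9648 (allL N9648 (tt N5283 F23761) (tt N7738 F23760) (tt N9876 F24119) (tt N19695 (iv3 F48165)) (tt N19702 D29969) (tt N4640 (iv5 D14232)) (tt N19700 (iv6 F48173)) (tt N9877 (iv7 F24122)))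
theorem Q9650 : ∀ i, i < 9650 → P i := stepQ 9649 Q9649 (allL N9649 (tt N19703 D29970) (tt N15370 (iv0 F38332)) (tt N19658 (iv2 F48082)) (tt N19704 D29971) (tt N4641 (iv4 D14233)) (tt N19705 D29972) (tt N19706 D29973) (tt N15860 (iv7 F39199)))
theorem Q9651 : ∀ i, i < 9651 → P i := stepQ 9650 Q9650 (allL N9650 (tt N19707 D29974) (tt N19708 D29975) (tt N19659 (iv2 F48085)) (tt N15041 (iv3 F37727)) (tt N19706 (iv4 F48180)) (tt N9995 (iv5 F24297)) (tt N4641 (iv6 D14234)) (tt N19709 D29976))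
theorem Q9652 : ∀ i, i < 9652 → P i := stepQ 9651 Q9651 (allL N9651 (tt N4658 F36905) (tt N9685 F36906) (tt N9683 F36884) (tt N4642 (iv3 D14235)) (tt N18253 (iv4 F45634)) (tt N15830 (iv5 F39137)) (tt N19710 D29977) (tt N9682 (iv7 F36885)))
theorem Q9653 : ∀ i, i < 9653 → P i := stepQ 9652 Q9652 (allL N9652 (tt N15370 (iv1 F38331)) (tt N19703 F48178) (tt N15860 (iv2 F39198)) (tt N19711 D29978) (tt N4642 (iv4 D14236)) (tt N19712 D29979) (tt N19713 D29980) (tt N19658 (iv7 F48083)))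
theorem Q9654 : ∀ i, i < 9654 → P i := stepQ 9653 Q9653 (allL N9653 (tt N19714 D29981) (tt N19715 D29982) (tt N15858 (iv2 F39195)) (tt N19710 (iv3 F48181)) (tt N19713 (iv4 F48182)) (tt N15833 (iv5 F39147)) (tt N4642 (iv6 D14237)) (tt N19716 D29983))
theorem Q9655 : ∀ i, i < 9655 → P i := stepQ 9654 Q9654 (allL N9654 (tt N19663 (iv1 F48097)) (tt N4643 (iv0 D14238)) (tt N18693 (iv2 F46411)) (tt N19717 D29984) (tt N15347 F46412) (tt N19718 D29985) (tt N19719 D29986) (tt N19660 (iv7 F48088)))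
theorem Q9656 : ∀ i, i < 9656 → P i := stepQ 9655 Q9655 (allL N9655 (tt N4643 (iv1 D14239)) (tt N19663 F48096) (tt N19660 F48090) (tt N19720 D29987) (tt N15348 (iv4 F38295)) (tt N19721 D29988) (tt N19722 D29989) (tt N18693 (iv7 F46408)))
theorem Q9657 : ∀ i, i < 9657 → P i := stepQ 9656 Q9656 (allL N9656 (tt N19723 D29990) (tt N19724 D29991) (tt N19725 D29992) (tt N4643 (iv3 D14240)) (tt N4649 F23762) (tt N19726 D29993) (tt N9599 F23763) (tt N19727 D29994))
theorem Q9658 : ∀ i, i < 9658 → P i := stepQ 9657 Q9657 (allL N9657 (tt N19728 D29995) (tt N19729 D29996) (tt N19662 (iv2 F48093)) (tt N19726 (iv3 F48185)) (tt N19730 D29997) (tt N4643 (iv5 D14241)) (tt N19731 D29998) (tt N19732 D29999))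
theorem Q9659 : ∀ i, i < 9659 → P i := stepQ 9658 Q9658 (allL N9658 (tt N19660 (iv1 F48087)) (tt N18693 (iv0 F46409)) (tt N19663 (iv2 F48094)) (tt N19727 (iv3 F48186)) (tt N4644 F23764) (tt N19732 (iv5 F48189)) (tt N19733 D30000) (tt N4643 (iv7 D14242)))
theorem Q9660 : ∀ i, i < 9660 → P i := stepQ 9659 Q9659 (allL N9659 (tt N19734 D30001) (tt N19735 D30002) (tt N19664 (iv2 F48098)) (tt N4652 F23765) (tt N19733 (iv4 F48190)) (tt N9659 F23766) (tt N4644 (iv6 D14243)) (tt N9602 F23767))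
theorem Q9661 : ∀ i, i < 9661 → P i := stepQ 9660 Q9660 (allL N9660 (tt N19736 D30003) (tt N18246 (iv0 F45614)) (tt N9693 (iv2 F23832)) (tt N19295 (iv3 F47279)) (tt N4645 (iv4 D14244)) (tt N19737 D30004) (tt N19738 D30005) (tt N9608 F23768))
theorem Q9662 : ∀ i, i < 9662 → P i := stepQ 9661 Q9661 (allL N9661 (tt N19739 D30006) (tt N19740 D30007) (tt N9695 (iv2 F23837)) (tt N4646 F23769) (tt N19738 (iv4 F48199)) (tt N9793 (iv5 F24026)) (tt N4645 (iv6 D14245)) (tt N19741 D30008))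
theorem Q9663 : ∀ i, i < 9663 → P i := stepQ 9662 Q9662 (allL N9662 (tt N9607 (iv1 F23774)) (tt N4646 (iv0 D14246)) (tt N9605 F39527) (tt N19742 D30009) (tt N18818 (iv4 F48982)) (tt N19743 D30011) (tt N9611 F23770) (tt N9606 (iv7 F39528)))
theorem Q9664 : ∀ i, i < 9664 → P i := stepQ 9663 Q9663 (allL N9663 (tt N4646 (iv1 D14247)) (tt N9607 F23771) (tt N9606 (iv2 F39530)) (tt N19708 F163949) (tt N18819 (iv4 F48979)) (tt N16788 (iv5 F41131)) (tt N19744 D30014) (tt N9605 F39529))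
theorem Q9665 : ∀ i, i < 9665 → P i := stepQ 9664 Q9664 (allL N9664 (tt N9606 (iv1 F23775)) (tt N9605 F23776) (tt N9607 F23772) (tt N19741 (iv3 F48200)) (tt N19300 (iv4 F47289)) (tt N9894 (iv5 F24145)) (tt N9612 F23773) (tt N4646 (iv7 D14248)))
theorem Q9666 : ∀ i, i < 9666 → P i := stepQ 9665 Q9665 (allL N9665 (tt N19745 D30015) (tt N19746 D30016) (tt N16578 (iv2 F40726)) (tt N19304 (iv3 F47300)) (tt N4647 (iv4 D14249)) (tt N19747 D30017) (tt N19748 D30018) (tt N9603 F23777))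
theorem Q9667 : ∀ i, i < 9667 → P i := stepQ 9666 Q9666 (allL N9666 (tt N19749 D30019) (tt N19750 D30020) (tt N16579 (iv2 F40728)) (tt N4648 F23778) (tt N19748 (iv4 F48231)) (tt N7585 F23779) (tt N4647 (iv6 D14250)) (tt N19751 D30021))
theorem Q9668 : ∀ i, i < 9668 → P i := stepQ 9667 Q9667 (allL N9667 (tt N9612 F23781) (tt N4648 (iv0 D14251)) (tt N9610 (iv2 F39525)) (tt N19714 F168287) (tt N18843 (iv4 F80121)) (tt N7626 F23780) (tt N19752 D30024) (tt N9611 F39521))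
theorem Q9669 : ∀ i, i < 9669 → P i := stepQ 9668 Q9668 (allL N9668 (tt N4648 (iv1 D14252)) (tt N9612 F23782) (tt N9611 F39526) (tt N19753 D30025) (tt N18844 (iv4 F80117)) (tt N7627 (iv5 F23783)) (tt N9605 F23785) (tt N9610 F39524))
theorem Q9670 : ∀ i, i < 9670 → P i := stepQ 9669 Q9669 (allL N9669 (tt N9611 (iv1 F23789)) (tt N9610 (iv0 F23790)) (tt N9612 F23786) (tt N19751 (iv3 F48232)) (tt N19309 (iv4 F47310)) (tt N7596 F23787) (tt N9607 F23788) (tt N4648 (iv7 D14253)))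
theorem Q9671 : ∀ i, i < 9671 → P i := stepQ 9670 Q9670 (allL N9670 (tt N19754 D30027) (tt N4649 (iv0 D14254)) (tt N19755 D30028) (tt N19756 D30029) (tt N19757 D30030) (tt N19758 D30031) (tt N19759 D30032) (tt N19760 D30033))
theorem Q9672 : ∀ i, i < 9672 → P i := stepQ 9671 Q9671 (allL N9671 (tt N4649 (iv1 D14255)) (tt N19754 F48253) (tt N19760 (iv2 F48255)) (tt N19761 D30034) (tt N19762 D30035) (tt N19763 D30036) (tt N19764 D30037) (tt N19755 F48254))
theorem Q9673 : ∀ i, i < 9673 → P i := stepQ 9672 Q9672 (allL N9672 (tt N19755 F207210) (tt N19760 (iv0 F207212)) (tt N4649 (iv2 D14256)) (tt N9615 F23791) (tt N19725 (iv4 F48183)) (tt N19765 D30040) (tt N9615 F23792) (tt N19754 (iv7 F48252)))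
theorem Q9674 : ∀ i, i < 9674 → P i := stepQ 9673 Q9673 (allL N9673 (tt N19766 D30041) (tt N19767 D30042) (tt N19765 (iv2 F48258)) (tt N4650 F23793) (tt N19768 D30043) (tt N4649 (iv5 D14257)) (tt N19769 D30044) (tt N10791 (iv7 F25496)))
theorem Q9675 : ∀ i, i < 9675 → P i := stepQ 9674 Q9674 (allL N9674 (tt N19760 (iv1 F207213)) (tt N19755 F207209) (tt N19754 F48250) (tt N4651 F23794) (tt N19727 (iv4 F48187)) (tt N10791 (iv5 F25495)) (tt N19770 D30045) (tt N4649 (iv7 D14258)))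
theorem Q9676 : ∀ i, i < 9676 → P i := stepQ 9675 Q9675 (allL N9675 (tt N19771 D30046) (tt N19772 D30047) (tt N9618 F23795) (tt N19769 (iv3 F48260)) (tt N10792 (iv4 F25497)) (tt N9618 F23796) (tt N4650 (iv6 D14259)) (tt N19773 D30048))
theorem Q9677 : ∀ i, i < 9677 → P i := stepQ 9676 Q9676 (allL N9676 (tt N18895 F98510) (tt N18895 F98511) (tt N9619 F23797) (tt N19770 (iv3 F48262)) (tt N4652 F23798) (tt N11908 F302493) (tt N4651 (iv6 D14260)) (tt N9619 F23799))
theorem Q9678 : ∀ i, i < 9678 → P i := stepQ 9677 Q9677 (allL N9677 (tt N4652 (iv1 F23800)) (tt N4652 (iv0 D14261)) (tt N9620 F49069) (tt N19774 D30052) (tt N19334 F98841) (tt N19775 D30054) (tt N10058 (iv6 F24364)) (tt N9620 F49070))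
theorem Q9679 : ∀ i, i < 9679 → P i := stepQ 9678 Q9678 (allL N9678 (tt N19776 D30055) (tt N18975 F46712) (tt N9686 (iv2 F23815)) (tt N9625 F23801) (tt N19777 D30056) (tt N4653 (iv5 D14262)) (tt N19778 D30057) (tt N9644 F23802))
theorem Q9680 : ∀ i, i < 9680 → P i := stepQ 9679 Q9679 (allL N9679 (tt N9729 (iv1 F24063)) (tt N9819 F24062) (tt N9687 (iv2 F23818)) (tt N4796 (iv3 F24204)) (tt N18229 (iv4 F45577)) (tt N7778 (iv5 F23804)) (tt N4653 (iv6 D14263)) (tt N9817 (iv7 F39282)))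
theorem Q9681 : ∀ i, i < 9681 → P i := stepQ 9680 Q9680 (allL N9680 (tt N18975 F46711) (tt N19776 F48280) (tt N9644 F23806) (tt N7315 F23807) (tt N19779 D30058) (tt N4654 (iv5 D14264)) (tt N19780 D30059) (tt N9686 (iv7 F23817)))
theorem Q9682 : ∀ i, i < 9682 → P i := stepQ 9681 Q9681 (allL N9681 (tt N9779 F23989) (tt N4706 (iv0 F23811)) (tt N9645 F23808) (tt N7316 F23809) (tt N9396 F23810) (tt N19384 (iv5 F47503)) (tt N4654 (iv6 D14265)) (tt N9777 (iv7 F23983)))
theorem Q9683 : ∀ i, i < 9683 → P i := stepQ 9682 Q9682 (allL N9682 (tt N9690 (iv1 F23829)) (tt N4655 (iv0 D14266)) (tt N9688 (iv2 F36903)) (tt N9627 (iv3 F36886)) (tt N18237 (iv4 F45594)) (tt N19781 D30060) (tt N19782 D30061) (tt N9651 F36885))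
theorem Q9684 : ∀ i, i < 9684 → P i := stepQ 9683 Q9683 (allL N9683 (tt N4655 (iv1 D14267)) (tt N9690 F23828) (tt N9651 (iv2 F36884)) (tt N7336 F36882) (tt N18238 (iv4 F45595)) (tt N14689 (iv5 F36881)) (tt N19783 D30062) (tt N9688 (iv7 F36904)))
theorem Q9685 : ∀ i, i < 9685 → P i := stepQ 9684 Q9684 (allL N9684 (tt N9250 F23812) (tt N18250 (iv0 F45625)) (tt N9689 (iv2 F23823)) (tt N19784 D30063) (tt N4655 (iv4 D14268)) (tt N19784 F48302) (tt N16564 (iv6 F40695)) (tt N19272 (iv7 F47229)))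
theorem Q9686 : ∀ i, i < 9686 → P i := stepQ 9685 Q9685 (allL N9685 (tt N9651 (iv1 F36906)) (tt N9688 F23827) (tt N9690 (iv2 F23825)) (tt N4664 F23813) (tt N19272 F47230) (tt N4656 F23814) (tt N19785 D30064) (tt N4655 (iv7 D14269)))
theorem Q9687 : ∀ i, i < 9687 → P i := stepQ 9686 Q9686 (allL N9686 (tt N19340 F47368) (tt N19692 F48160) (tt N9678 F23815) (tt N7283 F23816) (tt N19786 D30065) (tt N4657 (iv5 D14270)) (tt N19787 D30066) (tt N9680 F23817))
theorem Q9688 : ∀ i, i < 9688 → P i := stepQ 9687 Q9687 (allL N9687 (tt N4719 F23821) (tt N18213 (iv0 F45526)) (tt N9679 F23818) (tt N7284 F23819) (tt N10268 (iv4 F24600)) (tt N7962 (iv5 F23820)) (tt N4657 (iv6 D14271)) (tt N16075 (iv7 F39795)))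
theorem Q9689 : ∀ i, i < 9689 → P i := stepQ 9688 Q9688 (allL N9688 (tt N9685 (iv1 F23827)) (tt N4658 (iv0 D14272)) (tt N9682 F36903) (tt N7328 (iv3 F36902)) (tt N18252 (iv4 F45628)) (tt N19788 D30067) (tt N19789 D30068) (tt N9683 F36904))
theorem Q9690 : ∀ i, i < 9690 → P i := stepQ 9689 Q9689 (allL N9689 (tt N18235 (iv1 F45592)) (tt N9451 F23824) (tt N9684 F23823) (tt N19790 D30069) (tt N4658 (iv4 D14274)) (tt N19791 D30070) (tt N9751 (iv6 F23952)) (tt N18803 (iv7 F46528)))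
theorem Q9691 : ∀ i, i < 9691 → P i := stepQ 9690 Q9690 (allL N9690 (tt N9683 (iv1 F23828)) (tt N9682 F23829) (tt N9685 F23825) (tt N15040 (iv3 F37722)) (tt N18803 (iv4 F46526)) (tt N4659 F23826) (tt N19792 D30071) (tt N4658 (iv7 D14275)))
theorem Q9692 : ∀ i, i < 9692 → P i := stepQ 9691 Q9691 (allL N9691 (tt N18981 (iv1 F46721)) (tt N18980 F46720) (tt N9477 F23830) (tt N19793 D30072) (tt N4660 (iv4 D14276)) (tt N19794 D30073) (tt N19795 D30074) (tt N9706 (iv7 F23849)))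
theorem Q9693 : ∀ i, i < 9693 → P i := stepQ 9692 Q9692 (allL N9692 (tt N19796 D30075) (tt N19797 D30076) (tt N9478 F23831) (tt N16567 (iv3 F40712)) (tt N19795 (iv4 F48330)) (tt N15587 (iv5 F38671)) (tt N4660 (iv6 D14277)) (tt N19798 D30077))
theorem Q9694 : ∀ i, i < 9694 → P i := stepQ 9693 Q9693 (allL N9693 (tt N19618 (iv1 F48019)) (tt N18231 (iv0 F45584)) (tt N9660 F23832) (tt N19799 D30078) (tt N4662 (iv4 D14278)) (tt N19800 D30079) (tt N19801 D30080) (tt N9711 (iv7 F23879)))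
theorem Q9695 : ∀ i, i < 9695 → P i := stepQ 9694 Q9694 (allL N9694 (tt N7796 (iv1 F23835)) (tt N7795 F23836) (tt N7797 F23833) (tt N15503 (iv3 F38566)) (tt N16037 (iv4 F39662)) (tt N4662 (iv5 D14279)) (tt N9837 (iv6 F24091)) (tt N7790 F23834))
theorem Q9696 : ∀ i, i < 9696 → P i := stepQ 9695 Q9695 (allL N9695 (tt N19802 D30081) (tt N19803 D30082) (tt N9661 F23837) (tt N16569 (iv3 F40716)) (tt N19801 (iv4 F48342)) (tt N19804 D30083) (tt N4662 (iv6 D14280)) (tt N19805 D30084))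
theorem Q9697 : ∀ i, i < 9697 → P i := stepQ 9696 Q9696 (allL N9696 (tt N9717 (iv1 F23888)) (tt N4663 (iv0 D14281)) (tt N9713 F37581) (tt N19806 D30085) (tt N14988 F37578) (tt N19807 D30086) (tt N19808 D30087) (tt N9714 (iv7 F37579)))
theorem Q9698 : ∀ i, i < 9698 → P i := stepQ 9697 Q9697 (allL N9697 (tt N4663 (iv1 D14282)) (tt N9717 F23887) (tt N9714 (iv2 F37582)) (tt N19809 D30088) (tt N18245 F45609) (tt N19810 D30089) (tt N19811 D30090) (tt N9713 F37583))
theorem Q9699 : ∀ i, i < 9699 → P i := stepQ 9698 Q9698 (allL N9698 (tt N19812 D30091) (tt N19813 D30092) (tt N19814 D30093) (tt N4663 (iv3 D14283)) (tt N19784 (iv4 F48300)) (tt N9700 F48303) (tt N16572 (iv6 F40717)) (tt N9699 (iv7 F48305)))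
theorem Q9700 : ∀ i, i < 9700 → P i := stepQ 9699 Q9699 (allL N9699 (tt N19815 D30094) (tt N19816 D30095) (tt N9716 (iv2 F23883)) (tt N9700 (iv3 F48304)) (tt N19817 D30096) (tt N4663 (iv5 D14284)) (tt N19818 D30097) (tt N9698 F48305))
theorem Q9701 : ∀ i, i < 9701 → P i := stepQ 9700 Q9700 (allL N9700 (tt N9714 (iv1 F23881)) (tt N9713 F23886) (tt N9717 (iv2 F23884)) (tt N9699 F48304) (tt N4664 F23838) (tt N9698 (iv5 F48303)) (tt N19819 D30098) (tt N4663 (iv7 D14285)))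
theorem Q9702 : ∀ i, i < 9702 → P i := stepQ 9701 Q9701 (allL N9701 (tt N19820 D30099) (tt N19645 F102006) (tt N9718 (iv2 F23889)) (tt N19785 (iv3 F48306)) (tt N19819 (iv4 F48364)) (tt N9701 F23839) (tt N4664 (iv6 D14286)) (tt N16575 (iv7 F40720)))
theorem Q9703 : ∀ i, i < 9703 → P i := stepQ 9702 Q9702 (allL N9702 (tt N15040 (iv1 F37725)) (tt N4665 (iv0 D14287)) (tt N9591 (iv2 F23844)) (tt N9750 (iv3 F40705)) (tt N9210 (iv4 F40733)) (tt N18049 (iv5 F45208)) (tt N19821 D30101) (tt N15038 F37715))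
theorem Q9704 : ∀ i, i < 9704 → P i := stepQ 9703 Q9703 (allL N9703 (tt N4665 (iv1 D14288)) (tt N15040 F37724) (tt N15038 (iv2 F37714)) (tt N7548 F23841) (tt N9211 F23843) (tt N7539 (iv5 F23840)) (tt N19822 D30102) (tt N9591 (iv7 F23842)))
theorem Q9705 : ∀ i, i < 9705 → P i := stepQ 9704 Q9704 (allL N9704 (tt N18649 (iv1 F46339)) (tt N18060 (iv0 F45228)) (tt N15039 (iv2 F37718)) (tt N19823 D30103) (tt N4665 (iv4 D14289)) (tt N19824 D30104) (tt N7330 F23845) (tt N18695 (iv7 F46416)))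
theorem Q9706 : ∀ i, i < 9706 → P i := stepQ 9705 Q9705 (allL N9705 (tt N15038 (iv1 F37712)) (tt N9591 F37716) (tt N15040 (iv2 F37721)) (tt N4671 F23846) (tt N18695 (iv4 F46414)) (tt N4666 F23847) (tt N19825 D30105) (tt N4665 (iv7 D14290)))
theorem Q9707 : ∀ i, i < 9707 → P i := stepQ 9706 Q9706 (allL N9706 (tt N19346 (iv1 F47384)) (tt N19345 F47383) (tt N9322 F23848) (tt N19826 D30106) (tt N4667 (iv4 D14291)) (tt N19827 D30107) (tt N19828 D30108) (tt N9691 F23849))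
theorem Q9708 : ∀ i, i < 9708 → P i := stepQ 9707 Q9707 (allL N9707 (tt N19829 D30109) (tt N16629 (iv0 F40817)) (tt N9323 F23850) (tt N16577 (iv3 F40724)) (tt N19828 (iv4 F48383)) (tt N19830 D30110) (tt N4667 (iv6 D14292)) (tt N19831 D30111))
theorem Q9709 : ∀ i, i < 9709 → P i := stepQ 9708 Q9708 (allL N9708 (tt N4711 (iv1 F23859)) (tt N4668 (iv0 D14293)) (tt N4713 (iv2 F23851)) (tt N15075 (iv3 F37803)) (tt N9779 (iv4 F23988)) (tt N11061 (iv5 F26064)) (tt N4723 F23852) (tt N4677 F23853))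
theorem Q9710 : ∀ i, i < 9710 → P i := stepQ 9709 Q9709 (allL N9709 (tt N5272 F23872) (tt N5268 (iv0 F23873)) (tt N9324 F23871) (tt N9755 F23964) (tt N19832 D30112) (tt N4668 (iv5 D14294)) (tt N19830 (iv6 F48385)) (tt N19833 D30113))
theorem Q9711 : ∀ i, i < 9711 → P i := stepQ 9710 Q9710 (allL N9710 (tt N4677 (iv1 F23876)) (tt N4713 F23877) (tt N4711 F23874) (tt N15088 (iv3 F37830)) (tt N16066 (iv4 F39767)) (tt N19833 (iv5 F48398)) (tt N8971 F23875) (tt N4668 (iv7 D14295)))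
theorem Q9712 : ∀ i, i < 9712 → P i := stepQ 9711 Q9711 (allL N9711 (tt N18246 (iv1 F45613)) (tt N19736 F48196) (tt N9608 F23878) (tt N19834 D30114) (tt N4669 (iv4 D14296)) (tt N19835 D30115) (tt N19836 D30116) (tt N9693 F23879))
theorem Q9713 : ∀ i, i < 9713 → P i := stepQ 9712 Q9712 (allL N9712 (tt N19837 D30117) (tt N19838 D30118) (tt N9609 F23880) (tt N16579 (iv3 F40729)) (tt N19836 (iv4 F48407)) (tt N15917 (iv5 F39294)) (tt N4669 (iv6 D14297)) (tt N19839 D30119))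
theorem Q9714 : ∀ i, i < 9714 → P i := stepQ 9713 Q9713 (allL N9713 (tt N9700 (iv1 F23886)) (tt N4670 (iv0 D14298)) (tt N9696 (iv2 F37581)) (tt N19840 D30120) (tt N18230 (iv4 F45581)) (tt N19841 D30121) (tt N19842 D30122) (tt N9697 (iv7 F37583)))
theorem Q9715 : ∀ i, i < 9715 → P i := stepQ 9714 Q9714 (allL N9714 (tt N4670 (iv1 D14299)) (tt N9700 F23881) (tt N9697 F37582) (tt N19843 D30123) (tt N9403 F23882) (tt N19844 D30124) (tt N19845 D30125) (tt N9696 F37579))
theorem Q9716 : ∀ i, i < 9716 → P i := stepQ 9715 Q9715 (allL N9715 (tt N19846 D30126) (tt N19847 D30127) (tt N19848 D30128) (tt N4670 (iv3 D14300)) (tt N19823 (iv4 F48373)) (tt N19849 D30129) (tt N16582 (iv6 F40735)) (tt N19850 D30130))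
theorem Q9717 : ∀ i, i < 9717 → P i := stepQ 9716 Q9716 (allL N9716 (tt N19813 (iv1 F48356)) (tt N19812 F48352) (tt N9699 F23883) (tt N19849 (iv3 F48426)) (tt N19851 D30131) (tt N4670 (iv5 D14301)) (tt N19852 D30132) (tt N19814 (iv7 F48355)))
theorem Q9718 : ∀ i, i < 9718 → P i := stepQ 9717 Q9717 (allL N9717 (tt N9697 (iv1 F23887)) (tt N9696 F23888) (tt N9700 F23884) (tt N19850 (iv3 F48430)) (tt N4671 F23885) (tt N19814 (iv5 F48354)) (tt N19853 D30133) (tt N4670 (iv7 D14302)))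
theorem Q9719 : ∀ i, i < 9719 → P i := stepQ 9718 Q9718 (allL N9718 (tt N19774 F101992) (tt N19854 D30135) (tt N9701 F23889) (tt N19825 (iv3 F48375)) (tt N19853 (iv4 F48439)) (tt N9718 F23890) (tt N4671 (iv6 D14303)) (tt N16585 (iv7 F40745)))
theorem Q9720 : ∀ i, i < 9720 → P i := stepQ 9719 Q9719 (allL N9719 (tt N19189 (iv1 F47036)) (tt N9514 F23893) (tt N4694 F23891) (tt N15361 (iv3 F38310)) (tt N19855 D30136) (tt N4672 (iv5 D14304)) (tt N19856 D30137) (tt N4692 F23892))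
theorem Q9721 : ∀ i, i < 9721 → P i := stepQ 9720 Q9720 (allL N9720 (tt N4699 (iv1 F23906)) (tt N4673 (iv0 D14305)) (tt N4696 (iv2 F23903)) (tt N7926 (iv3 F23905)) (tt N19857 D30138) (tt N15089 (iv5 F37834)) (tt N19858 D30139) (tt N4697 F23904))
theorem Q9722 : ∀ i, i < 9722 → P i := stepQ 9721 Q9721 (allL N9721 (tt N19859 D30140) (tt N19860 D30141) (tt N4698 F23907) (tt N19861 D30142) (tt N4673 (iv4 D14306)) (tt N19862 D30143) (tt N4683 F23908) (tt N19863 D30144))
theorem Q9723 : ∀ i, i < 9723 → P i := stepQ 9722 Q9722 (allL N9722 (tt N4697 (iv1 F23911)) (tt N4696 F23912) (tt N4699 F23909) (tt N11063 (iv3 F26071)) (tt N19863 (iv4 F48464)) (tt N4674 F23910) (tt N19864 D30145) (tt N4673 (iv7 D14307)))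
theorem Q9724 : ∀ i, i < 9724 → P i := stepQ 9723 Q9723 (allL N9723 (tt N16203 (iv1 F40140)) (tt N16682 F40915) (tt N9781 (iv2 F23995)) (tt N4676 F23913) (tt N19865 D30146) (tt N4675 (iv5 D14308)) (tt N19866 D30147) (tt N4716 F23914))
theorem Q9725 : ∀ i, i < 9725 → P i := stepQ 9724 Q9724 (allL N9724 (tt N10161 (iv1 F24461)) (tt N10164 (iv0 F24459)) (tt N9782 (iv2 F23997)) (tt N4677 F23915) (tt N9782 (iv4 F23999)) (tt N11078 (iv5 F26099)) (tt N4675 (iv6 D14309)) (tt N15075 (iv7 F37804)))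
theorem Q9726 : ∀ i, i < 9726 → P i := stepQ 9725 Q9725 (allL N9725 (tt N4676 (iv1 D14310)) (tt N4679 F23916) (tt N4708 (iv2 F23918)) (tt N15085 F37820) (tt N19867 D30148) (tt N9837 (iv5 F24090)) (tt N19804 (iv6 F48345)) (tt N4707 F23917))
theorem Q9727 : ∀ i, i < 9727 → P i := stepQ 9726 Q9726 (allL N9726 (tt N19868 D30149) (tt N19869 D30150) (tt N4709 F23919) (tt N19870 D30151) (tt N4676 (iv4 D14311)) (tt N19871 D30152) (tt N19872 D30153) (tt N4720 F23920))
theorem Q9728 : ∀ i, i < 9728 → P i := stepQ 9727 Q9727 (allL N9727 (tt N16677 F111193) (tt N19873 D30155) (tt N4710 F23921) (tt N19866 (iv3 F48475)) (tt N19872 (iv4 F48490)) (tt N11080 (iv5 F26104)) (tt N4676 (iv6 D14312)) (tt N19874 D30156))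
theorem Q9729 : ∀ i, i < 9729 → P i := stepQ 9728 Q9728 (allL N9728 (tt N9774 (iv1 F23980)) (tt N9773 F23978) (tt N4718 F23922) (tt N9806 (iv3 F24039)) (tt N19875 D30157) (tt N4678 (iv5 D14313)) (tt N19876 D30158) (tt N4705 F23923))
theorem Q9730 : ∀ i, i < 9730 → P i := stepQ 9729 Q9729 (allL N9729 (tt N16075 F39797) (tt N9679 F24063) (tt N4719 F23924) (tt N9807 (iv3 F24042)) (tt N4680 F23925) (tt N16220 F40174) (tt N4678 (iv6 D14314)) (tt N18213 (iv7 F45524)))
theorem Q9731 : ∀ i, i < 9731 → P i := stepQ 9730 Q9730 (allL N9730 (tt N19869 (iv1 F48482)) (tt N19868 F48479) (tt N4720 F23926) (tt N19877 D30159) (tt N4679 (iv4 D14315)) (tt N19878 D30160) (tt N19879 D30161) (tt N4709 F23927))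
theorem Q9732 : ∀ i, i < 9732 → P i := stepQ 9731 Q9731 (allL N9731 (tt N19880 D30162) (tt N15572 (iv0 F38654)) (tt N4721 F23928) (tt N9816 (iv3 F24057)) (tt N19879 (iv4 F48507)) (tt N15919 (iv5 F39298)) (tt N4679 (iv6 D14316)) (tt N19881 D30163))
theorem Q9733 : ∀ i, i < 9733 → P i := stepQ 9732 Q9732 (allL N9732 (tt N10138 (iv1 F37485)) (tt N7925 F37486) (tt N16175 F40071) (tt N4681 (iv3 D14318)) (tt N18637 (iv4 F46308)) (tt N15066 (iv5 F37788)) (tt N19882 D30164) (tt N4728 F26014))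
theorem Q9734 : ∀ i, i < 9734 → P i := stepQ 9733 Q9733 (allL N9733 (tt N19883 D30165) (tt N15711 (iv0 F38874)) (tt N4725 F26015) (tt N19884 D30166) (tt N4681 (iv4 D14319)) (tt N19885 D30167) (tt N19886 D30168) (tt N4729 F26016))
theorem Q9735 : ∀ i, i < 9735 → P i := stepQ 9734 Q9734 (allL N9734 (tt N7605 F23933) (tt N7600 (iv0 F23931)) (tt N4726 F26011) (tt N15066 (iv3 F37787)) (tt N9830 (iv4 F24079)) (tt N4681 (iv5 D14320)) (tt N7796 F23930) (tt N4730 F26012))
theorem Q9736 : ∀ i, i < 9736 → P i := stepQ 9735 Q9735 (allL N9735 (tt N16721 F101955) (tt N19887 D30170) (tt N4727 F26017) (tt N19882 (iv3 F48519)) (tt N19886 (iv4 F48528)) (tt N19344 (iv5 F47381)) (tt N4681 (iv6 D14321)) (tt N19888 D30171))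
theorem Q9737 : ∀ i, i < 9737 → P i := stepQ 9736 Q9736 (allL N9736 (tt N9621 (iv1 F23994)) (tt N9780 (iv0 F23993)) (tt N14939 (iv2 F37472)) (tt N4682 (iv3 D14323)) (tt N9029 F23935) (tt N9850 (iv5 F24105)) (tt N19889 D30172) (tt N4724 F26021))
theorem Q9738 : ∀ i, i < 9738 → P i := stepQ 9737 Q9737 (allL N9737 (tt N15711 (iv1 F38875)) (tt N19883 F48522) (tt N4729 F26022) (tt N19890 D30173) (tt N4682 (iv4 D14324)) (tt N19891 D30174) (tt N19892 D30175) (tt N4725 F26023))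
theorem Q9739 : ∀ i, i < 9739 → P i := stepQ 9738 Q9738 (allL N9738 (tt N19893 D30176) (tt N16742 F161287) (tt N4731 F26026) (tt N19889 (iv3 F48535)) (tt N19892 (iv4 F48542)) (tt N11068 (iv5 F26082)) (tt N4682 (iv6 D14325)) (tt N19894 D30178))
theorem Q9740 : ∀ i, i < 9740 → P i := stepQ 9739 Q9739 (allL N9739 (tt N4736 (iv1 F23940)) (tt N4683 (iv0 D14326)) (tt N4732 F37121) (tt N19895 D30179) (tt N14780 (iv4 F37120)) (tt N19896 D30180) (tt N19897 D30181) (tt N4733 F37122))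
theorem Q9741 : ∀ i, i < 9741 → P i := stepQ 9740 Q9740 (allL N9740 (tt N4683 (iv1 D14327)) (tt N4736 F23936) (tt N4733 F37125) (tt N19898 D30182) (tt N19899 D30183) (tt N19900 D30184) (tt N19901 D30185) (tt N4732 F37126))
theorem Q9742 : ∀ i, i < 9742 → P i := stepQ 9741 Q9741 (allL N9741 (tt N19902 D30186) (tt N19903 D30187) (tt N19904 D30188) (tt N4683 (iv3 D14328)) (tt N16592 (iv4 F40759)) (tt N19905 D30189) (tt N19861 (iv6 F48461)) (tt N19906 D30190))
theorem Q9743 : ∀ i, i < 9743 → P i := stepQ 9742 Q9742 (allL N9742 (tt N19907 D30191) (tt N19908 D30192) (tt N4735 F23937) (tt N19905 (iv3 F48564)) (tt N18339 (iv4 F45801)) (tt N4683 (iv5 D14329)) (tt N19909 D30193) (tt N18337 (iv7 F45799)))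
theorem Q9744 : ∀ i, i < 9744 → P i := stepQ 9743 Q9743 (allL N9743 (tt N4733 (iv1 F23941)) (tt N4732 F23942) (tt N4736 F23938) (tt N19906 (iv3 F48565)) (tt N4684 F23939) (tt N18337 (iv5 F45796)) (tt N19910 D30194) (tt N4683 (iv7 D14330)))
theorem Q9745 : ∀ i, i < 9745 → P i := stepQ 9744 Q9744 (allL N9744 (tt N19911 D30195) (tt N19912 D30196) (tt N4737 F23943) (tt N16595 (iv3 F40768)) (tt N19910 (iv4 F48570)) (tt N9744 F23944) (tt N4684 (iv6 D14331)) (tt N19864 (iv7 F48469)))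
theorem Q9746 : ∀ i, i < 9746 → P i := stepQ 9745 Q9745 (allL N9745 (tt N19913 D30197) (tt N19914 D30198) (tt N9746 (iv2 F23945)) (tt N19915 D30199) (tt N4685 (iv4 D14332)) (tt N19916 D30200) (tt N11057 (iv6 F26001)) (tt N15498 (iv7 F38555)))
theorem Q9747 : ∀ i, i < 9747 → P i := stepQ 9746 Q9746 (allL N9746 (tt N19917 D30201) (tt N18082 (iv0 F45267)) (tt N9745 F23945) (tt N19918 D30202) (tt N4686 (iv4 D14333)) (tt N19919 D30203) (tt N11058 (iv6 F26003)) (tt N15946 (iv7 F39394)))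
theorem Q9748 : ∀ i, i < 9748 → P i := stepQ 9747 Q9747 (allL N9747 (tt N8135 (iv1 F37503)) (tt N7375 (iv0 F23949)) (tt N9566 F23946) (tt N7932 F23947) (tt N19920 D30204) (tt N4687 (iv5 D14334)) (tt N7930 F23948) (tt N15504 (iv7 F38572)))
theorem Q9749 : ∀ i, i < 9749 → P i := stepQ 9748 Q9748 (allL N9748 (tt N18927 F46663) (tt N19560 F47974) (tt N16561 (iv2 F40688)) (tt N9191 F23950) (tt N19921 D30205) (tt N4688 (iv5 D14335)) (tt N19922 D30206) (tt N16562 (iv7 F40693)))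
theorem Q9750 : ∀ i, i < 9750 → P i := stepQ 9749 Q9749 (allL N9749 (tt N15103 F37864) (tt N15111 F37876) (tt N15109 F38135) (tt N9192 F23951) (tt N18012 (iv4 F45099)) (tt N15467 (iv5 F38530)) (tt N4688 (iv6 D14336)) (tt N15108 F37960))
theorem Q9751 : ∀ i, i < 9751 → P i := stepQ 9750 Q9750 (allL N9750 (tt N16565 (iv1 F40708)) (tt N4689 (iv0 D14337)) (tt N16563 (iv2 F40704)) (tt N9702 F40705) (tt N19923 D30207) (tt N16192 (iv5 F40707)) (tt N19924 D30208) (tt N16191 F40706))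
theorem Q9752 : ∀ i, i < 9752 → P i := stepQ 9751 Q9751 (allL N9751 (tt N19248 (iv1 F47175)) (tt N9259 F23953) (tt N16564 (iv2 F40694)) (tt N19925 D30209) (tt N4689 (iv4 D14339)) (tt N19926 D30210) (tt N9689 F23952) (tt N19250 (iv7 F47181)))
theorem Q9753 : ∀ i, i < 9753 → P i := stepQ 9752 Q9752 (allL N9752 (tt N16191 F40117) (tt N16563 F40700) (tt N16565 (iv2 F40697)) (tt N7338 F23954) (tt N19250 (iv4 F47178)) (tt N4690 F23955) (tt N19927 D30211) (tt N4689 (iv7 D14340)))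
theorem Q9754 : ∀ i, i < 9754 → P i := stepQ 9753 Q9753 (allL N9753 (tt N19379 (iv1 F47482)) (tt N19378 F47479) (tt N9283 F23956) (tt N4692 F23957) (tt N19928 D30212) (tt N4691 (iv5 D14341)) (tt N19929 D30213) (tt N15361 (iv7 F38311)))
theorem Q9755 : ∀ i, i < 9755 → P i := stepQ 9754 Q9754 (allL N9754 (tt N7554 (iv1 F37869)) (tt N18155 F45380) (tt N7737 F23958) (tt N4693 F23959) (tt N8109 F23960) (tt N15127 (iv5 F37889)) (tt N4691 (iv6 D14342)) (tt N15963 (iv7 F39441)))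
theorem Q9756 : ∀ i, i < 9756 → P i := stepQ 9755 Q9755 (allL N9755 (tt N4694 (iv1 F23962)) (tt N4692 (iv0 D14343)) (tt N9514 (iv2 F23963)) (tt N9709 (iv3 F23964)) (tt N19930 D30214) (tt N8114 F23961) (tt N19931 D30215) (tt N19189 (iv7 F47037)))
theorem Q9757 : ∀ i, i < 9757 → P i := stepQ 9756 Q9756 (allL N9756 (tt N4692 (iv1 D14344)) (tt N4694 F23965) (tt N19189 F47039) (tt N4740 F23968) (tt N19932 D30216) (tt N8129 (iv5 F23967)) (tt N15572 (iv6 F38653)) (tt N9514 F23966))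
theorem Q9758 : ∀ i, i < 9758 → P i := stepQ 9757 Q9757 (allL N9757 (tt N19933 D30217) (tt N19934 D30218) (tt N19190 (iv2 F47041)) (tt N19935 D30219) (tt N4692 (iv4 D14345)) (tt N19936 D30220) (tt N19937 D30221) (tt N19855 (iv7 F48443)))
theorem Q9759 : ∀ i, i < 9759 → P i := stepQ 9758 Q9758 (allL N9758 (tt N19938 D30222) (tt N19939 D30223) (tt N16636 (iv2 F40819)) (tt N19929 (iv3 F48603)) (tt N19937 (iv4 F48613)) (tt N16589 (iv5 F40754)) (tt N4692 (iv6 D14346)) (tt N19940 D30224))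
theorem Q9760 : ∀ i, i < 9760 → P i := stepQ 9759 Q9759 (allL N9759 (tt N19934 (iv1 F48611)) (tt N19933 F48610) (tt N19855 (iv2 F48442)) (tt N19941 D30225) (tt N4694 (iv4 D14347)) (tt N19942 D30226) (tt N19943 D30227) (tt N19190 (iv7 F47042)))
theorem Q9761 : ∀ i, i < 9761 → P i := stepQ 9760 Q9760 (allL N9760 (tt N19944 D30228) (tt N19804 (iv0 F48346)) (tt N19856 (iv2 F48444)) (tt N16151 (iv3 F40008)) (tt N19943 (iv4 F48614)) (tt N19412 (iv5 F47574)) (tt N4694 (iv6 D14348)) (tt N19945 D30229))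
theorem Q9762 : ∀ i, i < 9762 → P i := stepQ 9761 Q9761 (allL N9761 (tt N15366 (iv1 F38592)) (tt N7936 F38594) (tt N15363 F38320) (tt N4696 (iv3 D14349)) (tt N19946 D30230) (tt N16599 (iv5 F40781)) (tt N19947 D30231) (tt N15364 F38318))
theorem Q9763 : ∀ i, i < 9763 → P i := stepQ 9762 Q9762 (allL N9762 (tt N19948 D30232) (tt N19949 D30233) (tt N19857 (iv2 F48447)) (tt N19950 D30234) (tt N4696 (iv4 D14350)) (tt N19951 D30235) (tt N19952 D30236) (tt N16613 (iv7 F40798)))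
theorem Q9764 : ∀ i, i < 9764 → P i := stepQ 9763 Q9763 (allL N9763 (tt N19953 D30237) (tt N19954 D30238) (tt N19858 (iv2 F48450)) (tt N19947 (iv3 F48620)) (tt N19952 (iv4 F48629)) (tt N15953 (iv5 F39422)) (tt N4696 (iv6 D14351)) (tt N19955 D30239))
theorem Q9765 : ∀ i, i < 9765 → P i := stepQ 9764 Q9764 (allL N9764 (tt N19949 (iv1 F48624)) (tt N19948 F48622) (tt N16613 (iv2 F40797)) (tt N19956 D30240) (tt N4697 (iv4 D14352)) (tt N19957 D30241) (tt N19958 D30242) (tt N19857 (iv7 F48448)))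
theorem Q9766 : ∀ i, i < 9766 → P i := stepQ 9765 Q9765 (allL N9765 (tt N19959 D30243) (tt N19960 D30244) (tt N16611 (iv2 F40795)) (tt N15098 (iv3 F37852)) (tt N19958 (iv4 F48630)) (tt N15087 (iv5 F37825)) (tt N4697 (iv6 D14353)) (tt N19961 D30245))
theorem Q9767 : ∀ i, i < 9767 → P i := stepQ 9766 Q9766 (allL N9766 (tt N19863 (iv1 F48466)) (tt N4698 (iv0 D14354)) (tt N19859 F48457) (tt N19962 D30246) (tt N18014 (iv4 F46393)) (tt N19963 D30247) (tt N19964 D30248) (tt N19860 F48456))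
theorem Q9768 : ∀ i, i < 9768 → P i := stepQ 9767 Q9767 (allL N9767 (tt N4698 (iv1 D14355)) (tt N19863 F48465) (tt N19860 F48455) (tt N19965 D30249) (tt N18015 (iv4 F45108)) (tt N19966 D30250) (tt N19967 D30251) (tt N19859 (iv7 F48459)))
theorem Q9769 : ∀ i, i < 9769 → P i := stepQ 9768 Q9768 (allL N9768 (tt N19968 D30252) (tt N19969 D30253) (tt N19970 D30254) (tt N4698 (iv3 D14356)) (tt N4755 F23969) (tt N19971 D30255) (tt N4734 F23970) (tt N19972 D30256))
theorem Q9770 : ∀ i, i < 9770 → P i := stepQ 9769 Q9769 (allL N9769 (tt N19973 D30257) (tt N19974 D30258) (tt N19862 (iv2 F48462)) (tt N19971 (iv3 F48633)) (tt N19975 D30259) (tt N4698 (iv5 D14357)) (tt N19976 D30260) (tt N19977 D30261))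
theorem Q9771 : ∀ i, i < 9771 → P i := stepQ 9770 Q9770 (allL N9770 (tt N19860 (iv1 F48453)) (tt N19859 F48460) (tt N19863 (iv2 F48463)) (tt N19972 (iv3 F48634)) (tt N4699 F23971) (tt N19977 (iv5 F48639)) (tt N19978 D30262) (tt N4698 (iv7 D14358)))
theorem Q9772 : ∀ i, i < 9772 → P i := stepQ 9771 Q9771 (allL N9771 (tt N19912 (iv1 F48572)) (tt N19911 F48571) (tt N19864 (iv2 F48467)) (tt N4758 F23972) (tt N19978 (iv4 F48640)) (tt N9771 F23973) (tt N4699 (iv6 D14359)) (tt N4737 F23974))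
theorem Q9773 : ∀ i, i < 9773 → P i := stepQ 9772 Q9772 (allL N9772 (tt N14939 (iv1 F37469)) (tt N4724 F24077) (tt N9780 (iv2 F23990)) (tt N4784 F23975) (tt N18307 (iv4 F45768)) (tt N4700 (iv5 D14360)) (tt N19979 D30263) (tt N9621 F23976))
theorem Q9774 : ∀ i, i < 9774 → P i := stepQ 9773 Q9773 (allL N9773 (tt N9728 (iv1 F23978)) (tt N4701 (iv0 D14361)) (tt N9783 F24004) (tt N4792 (iv3 F23979)) (tt N18284 (iv4 F45723)) (tt N7769 F23977) (tt N19980 D30264) (tt N9784 (iv7 F24009)))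
theorem Q9775 : ∀ i, i < 9775 → P i := stepQ 9774 Q9774 (allL N9774 (tt N4701 (iv1 D14362)) (tt N9728 F23980) (tt N9784 F24010) (tt N7871 (iv3 F24007)) (tt N18285 (iv4 F45726)) (tt N15162 (iv5 F37943)) (tt N19981 D30265) (tt N9783 F24006))
theorem Q9776 : ∀ i, i < 9776 → P i := stepQ 9775 Q9775 (allL N9775 (tt N10168 F24472) (tt N19982 D30266) (tt N9785 (iv2 F24012)) (tt N19983 D30267) (tt N4701 (iv4 D14363)) (tt N19984 D30268) (tt N19985 D30269) (tt N9815 (iv7 F24056)))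
theorem Q9777 : ∀ i, i < 9777 → P i := stepQ 9776 Q9776 (allL N9776 (tt N19986 D30270) (tt N19987 D30271) (tt N9786 (iv2 F24013)) (tt N4710 F23981) (tt N19985 (iv4 F48658)) (tt N19988 D30272) (tt N4701 (iv6 D14364)) (tt N19989 D30273))
theorem Q9778 : ∀ i, i < 9778 → P i := stepQ 9777 Q9777 (allL N9777 (tt N4702 (iv1 D14366)) (tt N9789 F24023) (tt N9787 F24016) (tt N8937 (iv3 F23982)) (tt N15159 (iv4 F37934)) (tt N18903 (iv5 F46623)) (tt N16075 (iv6 F39794)) (tt N9681 F23983))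
theorem Q9779 : ∀ i, i < 9779 → P i := stepQ 9778 Q9778 (allL N9778 (tt N7744 F23986) (tt N16174 F40069) (tt N9788 (iv2 F24018)) (tt N4712 F23985) (tt N15291 F38170) (tt N4702 (iv5 D14367)) (tt N19988 (iv6 F48660)) (tt N11075 (iv7 F26095)))
theorem Q9780 : ∀ i, i < 9780 → P i := stepQ 9779 Q9779 (allL N9779 (tt N9787 (iv1 F24014)) (tt N9681 (iv0 F23989)) (tt N9789 (iv2 F24021)) (tt N4713 F23987) (tt N9708 F23988) (tt N11075 (iv5 F26094)) (tt N9819 (iv6 F24061)) (tt N4702 (iv7 D14368)))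
theorem Q9781 : ∀ i, i < 9781 → P i := stepQ 9780 Q9780 (allL N9780 (tt N9736 F23993) (tt N9828 F26045) (tt N9772 F23990) (tt N7278 F23991) (tt N19990 D30274) (tt N4703 (iv5 D14369)) (tt N19991 D30275) (tt N7271 F23992))
theorem Q9782 : ∀ i, i < 9782 → P i := stepQ 9781 Q9781 (allL N9781 (tt N9809 (iv1 F24046)) (tt N9808 F24045) (tt N9723 F23995) (tt N4705 F23996) (tt N19992 D30276) (tt N4704 (iv5 D14370)) (tt N19993 D30277) (tt N9806 (iv7 F24040)))
theorem Q9783 : ∀ i, i < 9783 → P i := stepQ 9782 Q9782 (allL N9782 (tt N9200 F24001) (tt N19994 D30278) (tt N9724 F23997) (tt N4706 F23998) (tt N9724 F23999) (tt N7351 F24000) (tt N4704 (iv6 D14371)) (tt N19995 D30279))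
theorem Q9784 : ∀ i, i < 9784 → P i := stepQ 9783 Q9783 (allL N9783 (tt N4718 (iv1 F24003)) (tt N4705 (iv0 D14372)) (tt N9773 (iv2 F24004)) (tt N7356 (iv3 F24005)) (tt N19996 D30280) (tt N7957 F24002) (tt N19997 D30281) (tt N9774 (iv7 F24006)))
theorem Q9785 : ∀ i, i < 9785 → P i := stepQ 9784 Q9784 (allL N9784 (tt N4705 (iv1 D14373)) (tt N4718 F24008) (tt N9774 (iv2 F24010)) (tt N8147 (iv3 F24011)) (tt N19998 D30282) (tt N15866 (iv5 F39212)) (tt N19999 D30283) (tt N9773 F24009))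
theorem Q9786 : ∀ i, i < 9786 → P i := stepQ 9785 Q9785 (allL N9785 (tt N18282 (iv1 F45720)) (tt N16793 (iv0 F41145)) (tt N9775 F24012) (tt N20000 D30284) (tt N4705 (iv4 D14374)) (tt N18335 (iv5 F45789)) (tt N20001 D30285) (tt N19875 (iv7 F48500)))
theorem Q9787 : ∀ i, i < 9787 → P i := stepQ 9786 Q9786 (allL N9786 (tt N20002 D30286) (tt N20003 D30287) (tt N9776 F24013) (tt N19993 (iv3 F48673)) (tt N20001 (iv4 F48704)) (tt N20004 D30288) (tt N4705 (iv6 D14375)) (tt N20005 D30289))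
theorem Q9788 : ∀ i, i < 9788 → P i := stepQ 9787 Q9787 (allL N9787 (tt N4706 (iv1 D14376)) (tt N9779 F24014) (tt N9777 (iv2 F24016)) (tt N8151 (iv3 F24017)) (tt N20006 D30290) (tt N20007 D30291) (tt N9817 F39280) (tt N9645 F24015))
theorem Q9789 : ∀ i, i < 9789 → P i := stepQ 9788 Q9788 (allL N9788 (tt N7930 F24020) (tt N15816 F39093) (tt N9778 F24018) (tt N7351 F24019) (tt N20008 D30292) (tt N4706 (iv5 D14377)) (tt N20004 (iv6 F48708)) (tt N15814 (iv7 F39089)))
theorem Q9790 : ∀ i, i < 9790 → P i := stepQ 9789 Q9789 (allL N9789 (tt N9777 (iv1 F24023)) (tt N9645 F24024) (tt N9779 F24021) (tt N19995 (iv3 F48682)) (tt N4713 F24022) (tt N15814 (iv5 F39086)) (tt N18213 (iv6 F45523)) (tt N4706 (iv7 D14378)))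
theorem Q9791 : ∀ i, i < 9791 → P i := stepQ 9790 Q9790 (allL N9790 (tt N18299 (iv1 F45759)) (tt N18278 (iv0 F45703)) (tt N15552 (iv2 F38631)) (tt N20009 D30293) (tt N4707 (iv4 D14379)) (tt N20010 D30294) (tt N20011 D30295) (tt N19867 (iv7 F48477)))
theorem Q9792 : ∀ i, i < 9792 → P i := stepQ 9791 Q9791 (allL N9791 (tt N20012 D30296) (tt N20013 D30297) (tt N15550 (iv2 F38627)) (tt N16601 (iv3 F40786)) (tt N20011 (iv4 F48728)) (tt N15540 (iv5 F38620)) (tt N4707 (iv6 D14380)) (tt N20014 D30298))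
theorem Q9793 : ∀ i, i < 9793 → P i := stepQ 9792 Q9792 (allL N9792 (tt N18278 (iv1 F45704)) (tt N18299 (iv0 F45758)) (tt N19867 (iv2 F48476)) (tt N20015 D30299) (tt N4708 (iv4 D14381)) (tt N20016 D30300) (tt N20017 D30301) (tt N15552 (iv7 F38632)))
theorem Q9794 : ∀ i, i < 9794 → P i := stepQ 9793 Q9793 (allL N9793 (tt N19856 F48446) (tt N19945 F48615) (tt N19804 (iv2 F48344)) (tt N4774 F24025) (tt N20017 (iv4 F48732)) (tt N9661 F24026) (tt N4708 (iv6 D14382)) (tt N19944 (iv7 F48903)))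
theorem Q9795 : ∀ i, i < 9795 → P i := stepQ 9794 Q9794 (allL N9794 (tt N4720 (iv1 F24027)) (tt N4709 (iv0 D14383)) (tt N19868 F48480) (tt N20018 D30303) (tt N10256 F24582) (tt N20019 D30304) (tt N20020 D30305) (tt N19869 (iv7 F48483)))
theorem Q9796 : ∀ i, i < 9796 → P i := stepQ 9795 Q9795 (allL N9795 (tt N4709 (iv1 D14384)) (tt N4720 F24028) (tt N19869 F48485) (tt N20021 D30306) (tt N20022 D30307) (tt N20023 D30308) (tt N20024 D30309) (tt N19868 F48481))
theorem Q9797 : ∀ i, i < 9797 → P i := stepQ 9796 Q9796 (allL N9796 (tt N20025 D30310) (tt N20026 D30311) (tt N20027 D30312) (tt N4709 (iv3 D14385)) (tt N19983 (iv4 F48652)) (tt N20028 D30313) (tt N20029 D30314) (tt N19877 (iv7 F48503)))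
theorem Q9798 : ∀ i, i < 9798 → P i := stepQ 9797 Q9797 (allL N9797 (tt N20030 D30315) (tt N20031 D30316) (tt N19871 (iv2 F48487)) (tt N20028 (iv3 F48744)) (tt N18336 F45794) (tt N4709 (iv5 D14386)) (tt N20032 D30317) (tt N19878 (iv7 F48505)))
theorem Q9799 : ∀ i, i < 9799 → P i := stepQ 9798 Q9798 (allL N9798 (tt N20033 D30318) (tt N20034 D30319) (tt N19872 (iv2 F48489)) (tt N20029 (iv3 F48745)) (tt N4710 F24029) (tt N20035 D30320) (tt N4709 (iv6 D14387)) (tt N20036 D30321))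
theorem Q9800 : ∀ i, i < 9800 → P i := stepQ 9799 Q9799 (allL N9799 (tt N19874 (iv1 F48498)) (tt N4710 (iv0 D14388)) (tt N16677 F111196) (tt N16609 (iv3 F111207)) (tt N20037 D30324) (tt N20038 D30325) (tt N19938 (iv6 F48753)) (tt N19873 F99835))
theorem Q9801 : ∀ i, i < 9801 → P i := stepQ 9800 Q9800 (allL N9800 (tt N4710 (iv1 D14389)) (tt N19874 F48497) (tt N19873 (iv2 F99830)) (tt N4781 (iv3 F111202)) (tt N20039 D30328) (tt N9972 (iv5 F111205)) (tt N20040 D30330) (tt N16677 F111194))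
theorem Q9802 : ∀ i, i < 9802 → P i := stepQ 9801 Q9801 (allL N9801 (tt N20041 D30331) (tt N20042 D30332) (tt N11080 (iv2 F26103)) (tt N19988 (iv3 F48659)) (tt N20043 D30333) (tt N4710 (iv5 D14390)) (tt N4712 F24030) (tt N20044 D30334))
theorem Q9803 : ∀ i, i < 9803 → P i := stepQ 9802 Q9802 (allL N9802 (tt N19873 (iv1 F48492)) (tt N16677 (iv0 F111192)) (tt N19874 (iv2 F48494)) (tt N19989 (iv3 F48661)) (tt N20036 (iv4 F48750)) (tt N20044 (iv5 F48758)) (tt N19881 (iv6 F48516)) (tt N4710 (iv7 D14391)))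
theorem Q9804 : ∀ i, i < 9804 → P i := stepQ 9803 Q9803 (allL N9803 (tt N5268 F24033) (tt N5272 (iv0 F24034)) (tt N19833 (iv2 F48396)) (tt N4783 F24031) (tt N20045 D30335) (tt N4711 (iv5 D14392)) (tt N10021 (iv6 F24322)) (tt N9324 F24032))
theorem Q9805 : ∀ i, i < 9805 → P i := stepQ 9804 Q9804 (allL N9804 (tt N16141 (iv1 F39985)) (tt N20046 D30336) (tt N11079 (iv2 F26102)) (tt N20047 D30337) (tt N4712 (iv4 D14393)) (tt N20048 D30338) (tt N20043 (iv6 F48757)) (tt N11076 (iv7 F26097)))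
theorem Q9806 : ∀ i, i < 9806 → P i := stepQ 9805 Q9805 (allL N9805 (tt N4728 (iv1 F24037)) (tt N16175 F40072) (tt N10138 (iv2 F24417)) (tt N4760 F24035) (tt N18354 (iv4 F45826)) (tt N4714 (iv5 D14394)) (tt N20049 D30339) (tt N7925 F24036))
theorem Q9807 : ∀ i, i < 9807 → P i := stepQ 9806 Q9806 (allL N9806 (tt N16682 F40914) (tt N16203 (iv0 F40139)) (tt N4716 F24038) (tt N9728 F24039) (tt N20050 D30340) (tt N4715 (iv5 D14395)) (tt N20051 D30341) (tt N9781 F24040))
theorem Q9808 : ∀ i, i < 9808 → P i := stepQ 9807 Q9807 (allL N9807 (tt N15454 (iv1 F38509)) (tt N9192 (iv0 F24044)) (tt N4717 F24041) (tt N9729 F24042) (tt N4717 F24043) (tt N18046 (iv5 F45195)) (tt N4715 (iv6 D14396)) (tt N19544 (iv7 F47942)))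
theorem Q9809 : ∀ i, i < 9809 → P i := stepQ 9808 Q9808 (allL N9808 (tt N9781 (iv1 F24045)) (tt N4716 (iv0 D14397)) (tt N16682 (iv2 F40910)) (tt N15104 (iv3 F40143)) (tt N16825 (iv4 F41239)) (tt N16204 (iv5 F40146)) (tt N19392 F47524) (tt N16203 F40142))
theorem Q9810 : ∀ i, i < 9810 → P i := stepQ 9809 Q9809 (allL N9809 (tt N4716 (iv1 D14398)) (tt N9781 F24046) (tt N16203 (iv2 F40137)) (tt N4763 F24048) (tt N16826 (iv4 F41245)) (tt N8899 (iv5 F24047)) (tt N20052 D30342) (tt N16682 (iv7 F40912)))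
theorem Q9811 : ∀ i, i < 9811 → P i := stepQ 9810 Q9810 (allL N9810 (tt N10149 F40136) (tt N10146 (iv0 F24443)) (tt N20050 (iv2 F48763)) (tt N20053 D30343) (tt N4716 (iv4 D14399)) (tt N20054 D30344) (tt N20055 D30345) (tt N19865 (iv7 F48472)))
theorem Q9812 : ∀ i, i < 9812 → P i := stepQ 9811 Q9811 (allL N9811 (tt N20056 D30346) (tt N16234 (iv0 F40194)) (tt N20051 (iv2 F48767)) (tt N4721 F24049) (tt N20055 (iv4 F48774)) (tt N20057 D30347) (tt N4716 (iv6 D14400)) (tt N20058 D30348))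
theorem Q9813 : ∀ i, i < 9813 → P i := stepQ 9812 Q9812 (allL N9812 (tt N19544 (iv1 F47941)) (tt N4717 (iv0 D14401)) (tt N15454 (iv2 F38505)) (tt N15108 (iv3 F37959)) (tt N8226 (iv4 F36867)) (tt N14684 F36865) (tt N19994 F48678) (tt N9192 (iv7 F36866)))
theorem Q9814 : ∀ i, i < 9814 → P i := stepQ 9813 Q9813 (allL N9813 (tt N7946 (iv1 F24052)) (tt N7538 (iv0 F24051)) (tt N18046 F45197) (tt N4722 F24050) (tt N18052 (iv4 F45218)) (tt N4717 (iv5 D14403)) (tt N20057 (iv6 F48776)) (tt N15920 (iv7 F39300)))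
theorem Q9815 : ∀ i, i < 9815 → P i := stepQ 9814 Q9814 (allL N9814 (tt N9192 (iv1 F24055)) (tt N15454 (iv0 F38511)) (tt N19544 (iv2 F47946)) (tt N4723 F24054) (tt N19544 (iv4 F47943)) (tt N15920 (iv5 F39299)) (tt N15075 (iv6 F37806)) (tt N4717 (iv7 D14404)))
theorem Q9816 : ∀ i, i < 9816 → P i := stepQ 9815 Q9815 (allL N9815 (tt N16793 (iv1 F41146)) (tt N18282 (iv0 F45719)) (tt N19875 (iv2 F48499)) (tt N20059 D30349) (tt N4718 (iv4 D14405)) (tt N18336 (iv5 F45793)) (tt N20060 D30350) (tt N9775 F24056))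
theorem Q9817 : ∀ i, i < 9817 → P i := stepQ 9816 Q9816 (allL N9816 (tt N20061 D30351) (tt N20062 D30352) (tt N19876 (iv2 F48502)) (tt N9731 F24057) (tt N20060 (iv4 F48781)) (tt N20063 D30353) (tt N4718 (iv6 D14406)) (tt N20064 D30354))
theorem Q9818 : ∀ i, i < 9818 → P i := stepQ 9817 Q9817 (allL N9817 (tt N18213 (iv1 F45527)) (tt N4719 (iv0 D14407)) (tt N16075 (iv2 F39791)) (tt N9981 F39281) (tt N20065 D30355) (tt N15836 (iv5 F39279)) (tt N9787 (iv6 F39280)) (tt N9679 F39282))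
theorem Q9819 : ∀ i, i < 9819 → P i := stepQ 9818 Q9818 (allL N9818 (tt N7768 F26049) (tt N14688 (iv0 F36879)) (tt N16220 (iv2 F40175)) (tt N7791 F24058) (tt N15693 (iv4 F38836)) (tt N4719 (iv5 D14408)) (tt N20063 (iv6 F48785)) (tt N15541 (iv7 F38622)))
theorem Q9820 : ∀ i, i < 9820 → P i := stepQ 9819 Q9819 (allL N9819 (tt N9679 (iv1 F24062)) (tt N16075 (iv0 F39796)) (tt N18213 (iv2 F45522)) (tt N8970 F24059) (tt N4723 F24060) (tt N15541 (iv5 F38621)) (tt N9779 F24061) (tt N4719 (iv7 D14409)))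
theorem Q9821 : ∀ i, i < 9821 → P i := stepQ 9820 Q9820 (allL N9820 (tt N20066 D30356) (tt N20067 D30357) (tt N20068 D30358) (tt N4720 (iv3 D14410)) (tt N20053 (iv4 F48772)) (tt N20069 D30359) (tt N20070 D30360) (tt N19870 (iv7 F48486)))
theorem Q9822 : ∀ i, i < 9822 → P i := stepQ 9821 Q9821 (allL N9821 (tt N20031 (iv1 F48748)) (tt N20030 F48747) (tt N19878 (iv2 F48504)) (tt N20069 (iv3 F48795)) (tt N18335 F45790) (tt N4720 (iv5 D14411)) (tt N20071 D30361) (tt N19871 (iv7 F48488)))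
theorem Q9823 : ∀ i, i < 9823 → P i := stepQ 9822 Q9822 (allL N9822 (tt N20072 D30362) (tt N20073 D30363) (tt N19879 (iv2 F48506)) (tt N20070 (iv3 F48796)) (tt N4721 F24064) (tt N20074 D30364) (tt N4720 (iv6 D14412)) (tt N20075 D30365))
theorem Q9824 : ∀ i, i < 9824 → P i := stepQ 9823 Q9823 (allL N9823 (tt N19881 (iv1 F48518)) (tt N4721 (iv0 D14413)) (tt N19880 F48510) (tt N4802 F48511) (tt N20076 D30366) (tt N15573 F48512) (tt N20077 D30367) (tt N15572 F48513))
theorem Q9825 : ∀ i, i < 9825 → P i := stepQ 9824 Q9824 (allL N9824 (tt N4721 (iv1 D14414)) (tt N19881 F48517) (tt N15572 (iv2 F38651)) (tt N16618 (iv3 F40803)) (tt N20078 D30368) (tt N15564 (iv5 F38647)) (tt N19189 F47040) (tt N19880 (iv7 F48509)))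
theorem Q9826 : ∀ i, i < 9826 → P i := stepQ 9825 Q9825 (allL N9825 (tt N20079 D30369) (tt N20080 D30370) (tt N15919 (iv2 F39297)) (tt N20057 (iv3 F48775)) (tt N20081 D30371) (tt N4721 (iv5 D14415)) (tt N4722 F24065) (tt N20082 D30372))
theorem Q9827 : ∀ i, i < 9827 → P i := stepQ 9826 Q9826 (allL N9826 (tt N15572 (iv1 F38655)) (tt N19880 F48514) (tt N19881 (iv2 F48515)) (tt N20058 (iv3 F48777)) (tt N20075 (iv4 F48797)) (tt N20082 (iv5 F48802)) (tt N19874 (iv6 F48495)) (tt N4721 (iv7 D14416)))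
theorem Q9828 : ∀ i, i < 9828 → P i := stepQ 9827 Q9827 (allL N9827 (tt N20083 D30373) (tt N20084 D30374) (tt N15918 (iv2 F39295)) (tt N20085 D30375) (tt N4722 (iv4 D14417)) (tt N20086 D30376) (tt N20081 (iv6 F48801)) (tt N15921 (iv7 F39307)))
theorem Q9829 : ∀ i, i < 9829 → P i := stepQ 9828 Q9828 (allL N9828 (tt N9780 (iv1 F26045)) (tt N9621 F26044) (tt N4724 (iv2 D14426)) (tt N16175 F40074) (tt N9028 (iv4 F26051)) (tt N9838 (iv5 F26046)) (tt N20087 D30377) (tt N14939 (iv7 F37470)))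
theorem Q9830 : ∀ i, i < 9830 → P i := stepQ 9829 Q9829 (allL N9829 (tt N9032 F24075) (tt N9003 (iv0 F24080)) (tt N9028 F26050) (tt N20088 D30378) (tt N4724 (iv4 D14427)) (tt N20089 D30379) (tt N20090 D30380) (tt N9029 F26043))
theorem Q9831 : ∀ i, i < 9831 → P i := stepQ 9830 Q9830 (allL N9830 (tt N15866 (iv1 F39214)) (tt N7957 (iv0 F24081)) (tt N9838 F26047) (tt N4726 F24078) (tt N9734 F24079) (tt N4724 (iv5 D14428)) (tt N15932 (iv6 F39326)) (tt N9850 F26042))
theorem Q9832 : ∀ i, i < 9832 → P i := stepQ 9831 Q9831 (allL N9831 (tt N20091 D30381) (tt N20092 D30382) (tt N20087 (iv2 F48809)) (tt N4727 F24082) (tt N20090 (iv4 F48817)) (tt N20093 D30383) (tt N4724 (iv6 D14429)) (tt N20094 D30384))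
theorem Q9833 : ∀ i, i < 9833 → P i := stepQ 9832 Q9832 (allL N9832 (tt N4729 (iv1 F24088)) (tt N4725 (iv0 D14431)) (tt N19883 F48521) (tt N20095 D30385) (tt N10251 (iv4 F24571)) (tt N20030 (iv5 F48746)) (tt N20096 D30386) (tt N15711 (iv7 F38873)))
theorem Q9834 : ∀ i, i < 9834 → P i := stepQ 9833 Q9833 (allL N9833 (tt N4725 (iv1 D14432)) (tt N4729 F24084) (tt N15711 (iv2 F38872)) (tt N20097 D30387) (tt N15710 (iv4 F38870)) (tt N20031 (iv5 F48749)) (tt N19949 F48627) (tt N19883 (iv7 F48523)))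
theorem Q9835 : ∀ i, i < 9835 → P i := stepQ 9834 Q9834 (allL N9834 (tt N20098 D30388) (tt N20099 D30389) (tt N20100 D30390) (tt N4725 (iv3 D14433)) (tt N20088 (iv4 F48811)) (tt N20101 D30391) (tt N20102 D30392) (tt N19890 (iv7 F48538)))
theorem Q9836 : ∀ i, i < 9836 → P i := stepQ 9835 Q9835 (allL N9835 (tt N20103 D30393) (tt N20104 D30394) (tt N19885 (iv2 F48525)) (tt N20101 (iv3 F48823)) (tt N18328 (iv4 F45784)) (tt N4725 (iv5 D14434)) (tt N20105 D30395) (tt N19891 (iv7 F48540)))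
theorem Q9837 : ∀ i, i < 9837 → P i := stepQ 9836 Q9836 (allL N9836 (tt N20106 D30396) (tt N20107 D30397) (tt N19886 (iv2 F48527)) (tt N20102 (iv3 F48824)) (tt N4727 F24085) (tt N20108 D30398) (tt N4725 (iv6 D14435)) (tt N20109 D30399))
theorem Q9838 : ∀ i, i < 9838 → P i := stepQ 9837 Q9837 (allL N9837 (tt N4730 (iv1 F24093)) (tt N4726 (iv0 D14437)) (tt N7605 (iv2 F24089)) (tt N15950 (iv3 F39407)) (tt N15685 (iv4 F38822)) (tt N9725 F24090) (tt N9694 F24091) (tt N7600 F24092))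
theorem Q9839 : ∀ i, i < 9839 → P i := stepQ 9838 Q9838 (allL N9838 (tt N15162 (iv1 F37946)) (tt N7769 F26048) (tt N9830 (iv2 F26047)) (tt N16202 (iv3 F40131)) (tt N4726 (iv4 D14438)) (tt N9828 F26046) (tt N20110 D30400) (tt N11066 F26079))
theorem Q9840 : ∀ i, i < 9840 → P i := stepQ 9839 Q9839 (allL N9839 (tt N7790 F24094) (tt N7797 (iv0 F24096)) (tt N7796 F26009) (tt N15932 F39329) (tt N20110 (iv4 F48836)) (tt N9320 F24095) (tt N4726 (iv6 D14439)) (tt N7795 F26006))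
theorem Q9841 : ∀ i, i < 9841 → P i := stepQ 9840 Q9840 (allL N9840 (tt N19888 (iv1 F48534)) (tt N4727 (iv0 D14441)) (tt N16721 F101960) (tt N16627 F102015) (tt N20111 D30403) (tt N20112 D30404) (tt N19960 (iv6 F81362)) (tt N19887 F99936))
theorem Q9842 : ∀ i, i < 9842 → P i := stepQ 9841 Q9841 (allL N9841 (tt N4727 (iv1 D14442)) (tt N19888 F48533) (tt N19887 (iv2 F99933)) (tt N4816 (iv3 F101968)) (tt N20113 D30408) (tt N20114 D30409) (tt N20115 D30410) (tt N16721 F101956))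
theorem Q9843 : ∀ i, i < 9843 → P i := stepQ 9842 Q9842 (allL N9842 (tt N16577 F40725) (tt N19420 F47591) (tt N19344 (iv2 F47380)) (tt N20093 (iv3 F48818)) (tt N20116 D30411) (tt N4727 (iv5 D14443)) (tt N9320 F24099) (tt N19418 (iv7 F83876)))
theorem Q9844 : ∀ i, i < 9844 → P i := stepQ 9843 Q9843 (allL N9843 (tt N19887 (iv1 F48529)) (tt N16721 (iv0 F101954)) (tt N19888 (iv2 F48530)) (tt N20094 (iv3 F48821)) (tt N20109 (iv4 F48833)) (tt N19418 (iv5 F83875)) (tt N19894 (iv6 F48545)) (tt N4727 (iv7 D14444)))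
theorem Q9845 : ∀ i, i < 9845 → P i := stepQ 9844 Q9844 (allL N9844 (tt N7925 F37484) (tt N10138 (iv0 F37483)) (tt N4728 (iv2 D14446)) (tt N14939 F37473) (tt N18638 (iv4 F46312)) (tt N14942 F37481) (tt N20117 D30413) (tt N16175 (iv7 F40073)))
theorem Q9846 : ∀ i, i < 9846 → P i := stepQ 9845 Q9845 (allL N9845 (tt N9182 F24101) (tt N10139 (iv0 F24420)) (tt N18638 F46313) (tt N20118 D30414) (tt N4728 (iv4 D14447)) (tt N20119 D30415) (tt N20120 D30416) (tt N18637 F46310))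
theorem Q9847 : ∀ i, i < 9847 → P i := stepQ 9846 Q9846 (allL N9846 (tt N20121 D30417) (tt N20122 D30418) (tt N20117 (iv2 F48846)) (tt N4731 F24102) (tt N20120 (iv4 F48848)) (tt N15064 (iv5 F37782)) (tt N4728 (iv6 D14448)) (tt N20123 D30419))
theorem Q9848 : ∀ i, i < 9848 → P i := stepQ 9847 Q9847 (allL N9847 (tt N20124 D30420) (tt N20125 D30421) (tt N20126 D30422) (tt N4729 (iv3 D14449)) (tt N20118 (iv4 F48847)) (tt N20127 D30423) (tt N6989 F329373) (tt N19884 (iv7 F48524)))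
theorem Q9849 : ∀ i, i < 9849 → P i := stepQ 9848 Q9848 (allL N9848 (tt N20104 (iv1 F48829)) (tt N20103 F48826) (tt N19891 (iv2 F48539)) (tt N20127 (iv3 F48850)) (tt N18325 (iv4 F45783)) (tt N4729 (iv5 D14450)) (tt N20128 D30425) (tt N19885 (iv7 F48526)))
theorem Q9850 : ∀ i, i < 9850 → P i := stepQ 9849 Q9849 (allL N9849 (tt N20129 D30426) (tt N20130 D30427) (tt N19892 (iv2 F48541)) (tt N6989 (iv3 F329048)) (tt N4731 F24103) (tt N6987 F328619) (tt N4729 (iv6 D14451)) (tt N20131 D30429))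
theorem Q9851 : ∀ i, i < 9851 → P i := stepQ 9850 Q9850 (allL N9850 (tt N7769 F24106) (tt N15162 (iv0 F37945)) (tt N11066 (iv2 F26077)) (tt N5269 (iv3 F24107)) (tt N4730 (iv4 D14452)) (tt N9736 F24105) (tt N5266 F24104) (tt N9830 (iv7 F26042)))
theorem Q9852 : ∀ i, i < 9852 → P i := stepQ 9851 Q9851 (allL N9851 (tt N19894 (iv1 F48548)) (tt N4731 (iv0 D14453)) (tt N19893 (iv2 F99895)) (tt N4825 (iv3 F161293)) (tt N20132 D30432) (tt N16634 (iv5 F84129)) (tt N20133 D30434) (tt N16742 F161286))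
theorem Q9853 : ∀ i, i < 9853 → P i := stepQ 9852 Q9852 (allL N9852 (tt N4731 (iv1 D14454)) (tt N19894 F48547) (tt N16742 F161277) (tt N16635 (iv3 F161290)) (tt N20134 D30437) (tt N16635 (iv5 F83877)) (tt N19953 (iv6 F83879)) (tt N19893 F99900))
theorem Q9854 : ∀ i, i < 9854 → P i := stepQ 9853 Q9853 (allL N9853 (tt N20135 D30440) (tt N20136 D30441) (tt N11068 (iv2 F26081)) (tt N15064 (iv3 F37781)) (tt N20137 D30442) (tt N4731 (iv5 D14455)) (tt N11059 (iv6 F26058)) (tt N20138 D30443))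
theorem Q9855 : ∀ i, i < 9855 → P i := stepQ 9854 Q9854 (allL N9854 (tt N16742 F161288) (tt N19893 F48546) (tt N19894 (iv2 F48544)) (tt N20123 (iv3 F48849)) (tt N20131 (iv4 F48852)) (tt N20138 (iv5 F48858)) (tt N19888 (iv6 F48531)) (tt N4731 (iv7 D14456)))
theorem Q9856 : ∀ i, i < 9856 → P i := stepQ 9855 Q9855 (allL N9855 (tt N20139 D30444) (tt N20140 D30445) (tt N20141 D30446) (tt N4732 (iv3 D14458)) (tt N20142 D30447) (tt N20143 D30448) (tt N20144 D30449) (tt N19898 (iv7 F48553)))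
theorem Q9857 : ∀ i, i < 9857 → P i := stepQ 9856 Q9856 (allL N9856 (tt N18276 (iv1 F45697)) (tt N7689 F24109) (tt N14780 (iv2 F37123)) (tt N20145 D30450) (tt N4732 (iv4 D14459)) (tt N15700 (iv5 F38843)) (tt N20146 D30451) (tt N19899 (iv7 F48555)))
theorem Q9858 : ∀ i, i < 9858 → P i := stepQ 9857 Q9857 (allL N9857 (tt N20147 D30452) (tt N20148 D30453) (tt N19896 (iv2 F48550)) (tt N20143 (iv3 F48859)) (tt N18318 (iv4 F45779)) (tt N4732 (iv5 D14460)) (tt N20149 D30454) (tt N19900 (iv7 F48561)))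
theorem Q9859 : ∀ i, i < 9859 → P i := stepQ 9858 Q9858 (allL N9858 (tt N20111 (iv1 F100005)) (tt N20113 (iv0 F97744)) (tt N19897 (iv2 F48552)) (tt N20144 (iv3 F48860)) (tt N20146 (iv4 F48867)) (tt N16928 (iv5 F328419)) (tt N4732 (iv6 D14461)) (tt N20150 D30458))
theorem Q9860 : ∀ i, i < 9860 → P i := stepQ 9859 Q9859 (allL N9859 (tt N20151 D30459) (tt N20152 D30460) (tt N20153 D30461) (tt N4733 (iv3 D14463)) (tt N20154 D30462) (tt N20155 D30463) (tt N20156 D30464) (tt N19895 (iv7 F48549)))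
theorem Q9861 : ∀ i, i < 9861 → P i := stepQ 9860 Q9860 (allL N9860 (tt N7689 (iv1 F37124)) (tt N18276 (iv0 F45696)) (tt N19899 (iv2 F48554)) (tt N14765 F37077) (tt N4733 (iv4 D14464)) (tt N15198 (iv5 F38022)) (tt N20157 D30465) (tt N14780 (iv7 F37119)))
theorem Q9862 : ∀ i, i < 9862 → P i := stepQ 9861 Q9861 (allL N9861 (tt N20148 (iv1 F48872)) (tt N20147 F48869) (tt N19900 (iv2 F48560)) (tt N20155 (iv3 F48876)) (tt N18309 (iv4 F45770)) (tt N4733 (iv5 D14465)) (tt N20158 D30466) (tt N19896 (iv7 F48551)))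
theorem Q9863 : ∀ i, i < 9863 → P i := stepQ 9862 Q9862 (allL N9862 (tt N20132 (iv1 F166059)) (tt N20134 (iv0 F166060)) (tt N19901 (iv2 F48562)) (tt N20156 (iv3 F48877)) (tt N20157 (iv4 F48878)) (tt N20159 D30469) (tt N4733 (iv6 D14466)) (tt N20160 D30470))
theorem Q9864 : ∀ i, i < 9864 → P i := stepQ 9863 Q9863 (allL N9863 (tt N20161 D30471) (tt N4734 (iv0 D14467)) (tt N20162 D30472) (tt N20163 D30473) (tt N20164 D30474) (tt N20165 D30475) (tt N20166 D30476) (tt N20167 D30477))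
theorem Q9865 : ∀ i, i < 9865 → P i := stepQ 9864 Q9864 (allL N9864 (tt N4734 (iv1 D14468)) (tt N20161 F48882) (tt N20167 (iv2 F48884)) (tt N20168 D30478) (tt N20169 D30479) (tt N20170 D30480) (tt N20171 D30481) (tt N20162 F48883))
theorem Q9866 : ∀ i, i < 9866 → P i := stepQ 9865 Q9865 (allL N9865 (tt N20162 F102781) (tt N20167 (iv0 F102784)) (tt N4734 (iv2 D14469)) (tt N19904 (iv3 F48563)) (tt N4836 F24111) (tt N20172 D30484) (tt N19970 (iv6 F48632)) (tt N20161 (iv7 F48881)))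
theorem Q9867 : ∀ i, i < 9867 → P i := stepQ 9866 Q9866 (allL N9866 (tt N20173 D30485) (tt N20174 D30486) (tt N20172 (iv2 F48889)) (tt N4735 F24112) (tt N20175 D30487) (tt N4734 (iv5 D14470)) (tt N20176 D30488) (tt N20177 D30489))
theorem Q9868 : ∀ i, i < 9868 → P i := stepQ 9867 Q9867 (allL N9867 (tt N20167 (iv1 F102785)) (tt N20162 F102780) (tt N20161 F48879) (tt N4736 F24113) (tt N4838 F24114) (tt N20177 (iv5 F48892)) (tt N20178 D30490) (tt N4734 (iv7 D14471)))
theorem Q9869 : ∀ i, i < 9869 → P i := stepQ 9868 Q9868 (allL N9868 (tt N18337 (iv1 F45798)) (tt N4735 (iv0 D14472)) (tt N19907 (iv2 F76837)) (tt N20179 D30492) (tt N18302 (iv4 F45762)) (tt N18278 (iv5 F45702)) (tt N20180 D30493) (tt N19908 (iv7 F76840)))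
theorem Q9870 : ∀ i, i < 9870 → P i := stepQ 9869 Q9869 (allL N9869 (tt N4735 (iv1 D14473)) (tt N18337 (iv0 F45797)) (tt N19908 (iv2 F76839)) (tt N20181 D30495) (tt N18287 (iv4 F45761)) (tt N18299 F45760) (tt N20182 D30496) (tt N19907 (iv7 F76838)))
theorem Q9871 : ∀ i, i < 9871 → P i := stepQ 9870 Q9870 (allL N9870 (tt N18336 (iv1 F45792)) (tt N18335 F45791) (tt N18339 (iv2 F45800)) (tt N20183 D30497) (tt N4735 (iv4 D14474)) (tt N18269 (iv5 F45670)) (tt N20184 D30498) (tt N18268 F45667))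
theorem Q9872 : ∀ i, i < 9872 → P i := stepQ 9871 Q9871 (allL N9871 (tt N20185 D30499) (tt N20186 D30500) (tt N19909 (iv2 F48568)) (tt N20176 (iv3 F48890)) (tt N20184 (iv4 F48897)) (tt N19976 (iv5 F48638)) (tt N4735 (iv6 D14475)) (tt N20187 D30501))
theorem Q9873 : ∀ i, i < 9873 → P i := stepQ 9872 Q9872 (allL N9872 (tt N19908 (iv1 F48567)) (tt N19907 F48566) (tt N18337 (iv2 F45795)) (tt N20177 (iv3 F48891)) (tt N18268 (iv4 F45666)) (tt N4736 F24115) (tt N20188 D30502) (tt N4735 (iv7 D14476)))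
theorem Q9874 : ∀ i, i < 9874 → P i := stepQ 9873 Q9873 (allL N9873 (tt N20189 D30503) (tt N20190 D30504) (tt N19910 (iv2 F48569)) (tt N20178 (iv3 F48893)) (tt N4737 F24116) (tt N20191 D30505) (tt N4736 (iv6 D14477)) (tt N19978 (iv7 F48641)))
theorem Q9875 : ∀ i, i < 9875 → P i := stepQ 9874 Q9874 (allL N9874 (tt N19864 (iv1 F48471)) (tt N4737 (iv0 D14478)) (tt N19911 F99743) (tt N20192 D30507) (tt N20193 D30508) (tt N20194 D30509) (tt N20195 D30510) (tt N19912 (iv7 F99746)))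
theorem Q9876 : ∀ i, i < 9876 → P i := stepQ 9875 Q9875 (allL N9875 (tt N4737 (iv1 D14479)) (tt N19864 F48470) (tt N19912 (iv2 F99745)) (tt N20196 D30512) (tt N20197 D30513) (tt N20198 D30514) (tt N20199 D30515) (tt N19911 F99744))
theorem Q9877 : ∀ i, i < 9877 → P i := stepQ 9876 Q9876 (allL N9876 (tt N7746 (iv1 F24118)) (tt N4738 (iv0 D14480)) (tt N9648 (iv2 F24119)) (tt N9284 (iv3 F24120)) (tt N20200 D30516) (tt N8150 F24117) (tt N20201 D30517) (tt N11097 (iv7 F26143)))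
theorem Q9878 : ∀ i, i < 9878 → P i := stepQ 9877 Q9877 (allL N9877 (tt N4738 (iv1 D14481)) (tt N7746 F24121) (tt N11097 F26141) (tt N20007 (iv3 F48718)) (tt N20202 D30518) (tt N8151 (iv5 F24123)) (tt N16691 F40934) (tt N9648 F24122))
theorem Q9879 : ∀ i, i < 9879 → P i := stepQ 9878 Q9878 (allL N9878 (tt N20203 D30519) (tt N20204 D30520) (tt N15803 (iv2 F39071)) (tt N20205 D30521) (tt N4738 (iv4 D14482)) (tt N20206 D30522) (tt N20207 D30523) (tt N11098 (iv7 F26145)))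
theorem Q9880 : ∀ i, i < 9880 → P i := stepQ 9879 Q9879 (allL N9879 (tt N20208 D30524) (tt N20209 D30525) (tt N15804 (iv2 F39072)) (tt N4742 F24124) (tt N20207 (iv4 F48917)) (tt N4821 F24125) (tt N4738 (iv6 D14483)) (tt N20210 D30526))
theorem Q9881 : ∀ i, i < 9881 → P i := stepQ 9880 Q9880 (allL N9880 (tt N7483 F24127) (tt N7487 F24128) (tt N9974 (iv2 F24247)) (tt N20211 D30527) (tt N4740 (iv4 D14484)) (tt N19012 (iv5 F46769)) (tt N15585 (iv6 F38667)) (tt N9520 F24126))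
theorem Q9882 : ∀ i, i < 9882 → P i := stepQ 9881 Q9881 (allL N9881 (tt N4741 (iv1 D14485)) (tt N4745 F24129) (tt N11089 F26117) (tt N8851 (iv3 F311455)) (tt N4871 F24131) (tt N8850 (iv5 F311266)) (tt N10280 (iv6 F24611)) (tt N9249 F24130))
theorem Q9883 : ∀ i, i < 9883 → P i := stepQ 9882 Q9882 (allL N9882 (tt N20212 D30530) (tt N20213 D30531) (tt N20214 D30532) (tt N4741 (iv3 D14486)) (tt N20205 (iv4 F48916)) (tt N20215 D30533) (tt N20216 D30534) (tt N11100 (iv7 F26148)))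
theorem Q9884 : ∀ i, i < 9884 → P i := stepQ 9883 Q9883 (allL N9883 (tt N7458 F24133) (tt N7437 F24134) (tt N11091 (iv2 F26119)) (tt N20215 (iv3 F48935)) (tt N7447 F24132) (tt N4741 (iv5 D14487)) (tt N10628 F307309) (tt N11101 (iv7 F26151)))
theorem Q9885 : ∀ i, i < 9885 → P i := stepQ 9884 Q9884 (allL N9884 (tt N8345 (iv1 F313993)) (tt N10707 (iv0 F313995)) (tt N10706 F311553) (tt N20216 (iv3 F48936)) (tt N4742 F24135) (tt N10629 F311554) (tt N4741 (iv6 D14488)) (tt N10705 (iv7 F313992)))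
theorem Q9886 : ∀ i, i < 9886 → P i := stepQ 9885 Q9885 (allL N9885 (tt N11094 (iv1 F26135)) (tt N4742 (iv0 D14489)) (tt N11092 (iv2 F48955)) (tt N20135 F111230) (tt N5169 F316120) (tt N9886 F24137) (tt N4780 F24136) (tt N11093 (iv7 F48958)))
theorem Q9887 : ∀ i, i < 9887 → P i := stepQ 9886 Q9886 (allL N9886 (tt N4742 (iv1 D14490)) (tt N11094 F26133) (tt N11093 (iv2 F48957)) (tt N19939 F111229) (tt N17146 F316121) (tt N9885 (iv5 F24137)) (tt N20217 D30546) (tt N11092 (iv7 F48956)))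
theorem Q9888 : ∀ i, i < 9888 → P i := stepQ 9887 Q9887 (allL N9887 (tt N11093 (iv1 F26127)) (tt N11092 F26132) (tt N11094 (iv2 F26129)) (tt N20210 (iv3 F48918)) (tt N10705 F316152) (tt N4827 F24138) (tt N11104 (iv6 F26163)) (tt N4742 (iv7 D14491)))
theorem Q9889 : ∀ i, i < 9889 → P i := stepQ 9888 Q9888 (allL N9888 (tt N7512 (iv1 F24139)) (tt N4743 (iv0 D14492)) (tt N9948 (iv2 F24210)) (tt N15062 (iv3 F37780)) (tt N20218 D30547) (tt N9929 (iv5 F24201)) (tt N15465 (iv6 F38526)) (tt N9945 F24200))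
theorem Q9890 : ∀ i, i < 9890 → P i := stepQ 9889 Q9889 (allL N9889 (tt N20219 D30548) (tt N20220 D30549) (tt N15372 (iv2 F38338)) (tt N20221 D30550) (tt N4743 (iv4 D14493)) (tt N20222 D30551) (tt N20223 D30552) (tt N11087 (iv7 F26111)))
theorem Q9891 : ∀ i, i < 9891 → P i := stepQ 9890 Q9890 (allL N9890 (tt N20224 D30553) (tt N16662 (iv0 F40853)) (tt N15373 (iv2 F38340)) (tt N4746 F24140) (tt N20223 (iv4 F48970)) (tt N19354 (iv5 F47400)) (tt N4743 (iv6 D14494)) (tt N20225 D30554))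
theorem Q9892 : ∀ i, i < 9892 → P i := stepQ 9891 Q9891 (allL N9891 (tt N20226 D30555) (tt N20227 D30556) (tt N20228 D30557) (tt N4745 (iv3 D14496)) (tt N20221 (iv4 F48969)) (tt N20229 D30558) (tt N20230 D30559) (tt N11090 (iv7 F26118)))
theorem Q9893 : ∀ i, i < 9893 → P i := stepQ 9892 Q9892 (allL N9892 (tt N7437 F24142) (tt N7458 F24143) (tt N11101 (iv2 F26149)) (tt N20229 (iv3 F48973)) (tt N7444 F24141) (tt N4745 (iv5 D14497)) (tt N17033 F305289) (tt N11091 (iv7 F26120)))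
theorem Q9894 : ∀ i, i < 9894 → P i := stepQ 9893 Q9893 (allL N9893 (tt N20231 D30561) (tt N10179 (iv0 F24484)) (tt N11102 (iv2 F26154)) (tt N20230 (iv3 F48974)) (tt N4746 F24144) (tt N20232 D30562) (tt N4745 (iv6 D14498)) (tt N20233 D30563))
theorem Q9895 : ∀ i, i < 9895 → P i := stepQ 9894 Q9894 (allL N9894 (tt N11104 (iv1 F26165)) (tt N4746 (iv0 D14499)) (tt N11103 F26159) (tt N19944 (iv3 F48901)) (tt N20234 D30564) (tt N9664 F24145) (tt N15561 (iv6 F38640)) (tt N4774 (iv7 F24146)))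
theorem Q9896 : ∀ i, i < 9896 → P i := stepQ 9895 Q9895 (allL N9895 (tt N4774 (iv1 F24147)) (tt N11103 F26161) (tt N11104 (iv2 F26162)) (tt N20225 (iv3 F48971)) (tt N20233 (iv4 F48976)) (tt N19357 (iv5 F47405)) (tt N11094 (iv6 F26131)) (tt N4746 (iv7 D14500)))
theorem Q9897 : ∀ i, i < 9897 → P i := stepQ 9896 Q9896 (allL N9896 (tt N20235 D30565) (tt N15742 (iv0 F38970)) (tt N15805 (iv2 F39075)) (tt N20236 D30566) (tt N4747 (iv4 D14501)) (tt N20237 D30567) (tt N20238 D30568) (tt N11113 (iv7 F26183)))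
theorem Q9898 : ∀ i, i < 9898 → P i := stepQ 9897 Q9897 (allL N9897 (tt N20239 D30569) (tt N20240 D30570) (tt N15806 (iv2 F39076)) (tt N4749 F24148) (tt N20238 (iv4 F48989)) (tt N15850 (iv5 F39188)) (tt N4747 (iv6 D14502)) (tt N20241 D30571))
theorem Q9899 : ∀ i, i < 9899 → P i := stepQ 9898 Q9898 (allL N9898 (tt N20242 D30572) (tt N20243 D30573) (tt N20244 D30574) (tt N4748 (iv3 D14503)) (tt N20236 (iv4 F48988)) (tt N20245 D30575) (tt N20246 D30576) (tt N11115 (iv7 F26186)))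
theorem Q9900 : ∀ i, i < 9900 → P i := stepQ 9899 Q9899 (allL N9899 (tt N17979 F311031) (tt N6010 F311032) (tt N11108 (iv2 F26170)) (tt N20245 (iv3 F48992)) (tt N7451 F24149) (tt N4748 (iv5 D14504)) (tt N18608 F311033) (tt N11116 (iv7 F26189)))
theorem Q9901 : ∀ i, i < 9901 → P i := stepQ 9900 Q9900 (allL N9900 (tt N20247 D30578) (tt N20248 D30579) (tt N11109 (iv2 F26173)) (tt N20246 (iv3 F48993)) (tt N4749 F24150) (tt N20249 D30580) (tt N4748 (iv6 D14505)) (tt N17058 (iv7 F315111)))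
theorem Q9902 : ∀ i, i < 9902 → P i := stepQ 9901 Q9901 (allL N9901 (tt N11112 F26182) (tt N4749 (iv0 D14506)) (tt N11110 (iv2 F49015)) (tt N20250 D30583) (tt N20251 D30584) (tt N20252 D30585) (tt N4826 F24151) (tt N11111 (iv7 F49018)))
theorem Q9903 : ∀ i, i < 9903 → P i := stepQ 9902 Q9902 (allL N9902 (tt N4749 (iv1 D14507)) (tt N11112 F26181) (tt N11111 (iv2 F49017)) (tt N19954 F161306) (tt N20253 D30588) (tt N15630 (iv5 F38715)) (tt N20254 D30589) (tt N11110 (iv7 F49016)))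
theorem Q9904 : ∀ i, i < 9904 → P i := stepQ 9903 Q9903 (allL N9903 (tt N11111 (iv1 F26177)) (tt N11110 (iv0 F26176)) (tt N11112 (iv2 F26178)) (tt N20241 (iv3 F48990)) (tt N17058 F316162) (tt N7608 F24152) (tt N11119 (iv6 F26199)) (tt N4749 (iv7 D14508)))
theorem Q9905 : ∀ i, i < 9905 → P i := stepQ 9904 Q9904 (allL N9904 (tt N19653 (iv1 F48070)) (tt N19681 F48144) (tt N15376 (iv2 F38353)) (tt N20255 D30590) (tt N4750 (iv4 D14509)) (tt N20256 D30591) (tt N20257 D30592) (tt N11105 (iv7 F26166)))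
theorem Q9906 : ∀ i, i < 9906 → P i := stepQ 9905 Q9905 (allL N9905 (tt N20258 D30593) (tt N20259 D30594) (tt N15377 (iv2 F38356)) (tt N4752 F24153) (tt N20257 (iv4 F49038)) (tt N4766 F24154) (tt N4750 (iv6 D14510)) (tt N20260 D30595))
theorem Q9907 : ∀ i, i < 9907 → P i := stepQ 9906 Q9906 (allL N9906 (tt N20261 D30596) (tt N20262 D30597) (tt N20263 D30598) (tt N4751 (iv3 D14511)) (tt N20255 (iv4 F49037)) (tt N20264 D30599) (tt N17056 (iv6 F314692)) (tt N11107 (iv7 F26169)))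
theorem Q9908 : ∀ i, i < 9908 → P i := stepQ 9907 Q9907 (allL N9907 (tt N6010 F311358) (tt N17979 F311359) (tt N11116 (iv2 F26187)) (tt N20264 (iv3 F49041)) (tt N7449 F24155) (tt N4751 (iv5 D14512)) (tt N5065 F311360) (tt N11108 (iv7 F26171)))
theorem Q9909 : ∀ i, i < 9909 → P i := stepQ 9908 Q9908 (allL N9908 (tt N11119 F26203) (tt N4752 (iv0 D14514)) (tt N11117 (iv2 F49062)) (tt N19959 F101990) (tt N10721 F314917) (tt N11117 F26202) (tt N20265 D30609) (tt N11118 (iv7 F49061)))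
theorem Q9910 : ∀ i, i < 9910 → P i := stepQ 9909 Q9909 (allL N9909 (tt N4752 (iv1 D14515)) (tt N11119 F26201) (tt N11118 (iv2 F49060)) (tt N20042 F101986) (tt N10722 F316151) (tt N11118 F26194) (tt N4815 F26195) (tt N11117 (iv7 F49063)))
theorem Q9911 : ∀ i, i < 9911 → P i := stepQ 9910 Q9910 (allL N9910 (tt N11118 (iv1 F26192)) (tt N11117 F26200) (tt N11119 (iv2 F26197)) (tt N20260 (iv3 F49039)) (tt N5112 F316150) (tt N4782 F24157) (tt N11112 (iv6 F26180)) (tt N4752 (iv7 D14516)))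
theorem Q9912 : ∀ i, i < 9912 → P i := stepQ 9911 Q9911 (allL N9911 (tt N20266 D30613) (tt N12462 (iv0 F311892)) (tt N20267 D30615) (tt N4753 (iv3 D14517)) (tt N20268 D30616) (tt N12442 (iv5 F313136)) (tt N20269 D30618) (tt N11123 (iv7 F26210)))
theorem Q9913 : ∀ i, i < 9913 → P i := stepQ 9912 Q9912 (allL N9912 (tt N12437 (iv1 F311249)) (tt N19036 (iv0 F46824)) (tt N11121 (iv2 F26205)) (tt N12442 (iv3 F313135)) (tt N4896 F24158) (tt N4753 (iv5 D14518)) (tt N20270 D30619) (tt N11124 (iv7 F26213)))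
theorem Q9914 : ∀ i, i < 9914 → P i := stepQ 9913 Q9913 (allL N9913 (tt N20251 (iv1 F53706)) (tt N20253 (iv0 F49004)) (tt N11122 (iv2 F26208)) (tt N20269 (iv3 F49087)) (tt N7490 F24159) (tt N20271 D30621) (tt N4753 (iv6 D14519)) (tt N10727 (iv7 F313684)))
theorem Q9915 : ∀ i, i < 9915 → P i := stepQ 9914 Q9914 (allL N9914 (tt N20272 D30623) (tt N20273 D30624) (tt N20274 D30625) (tt N4754 (iv3 D14520)) (tt N20275 D30626) (tt N20276 D30627) (tt N10720 (iv6 F313642)) (tt N11120 (iv7 F26204)))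
theorem Q9916 : ∀ i, i < 9916 → P i := stepQ 9915 Q9915 (allL N9915 (tt N19036 (iv1 F46825)) (tt N12437 (iv0 F311248)) (tt N11124 (iv2 F26211)) (tt N20276 (iv3 F49091)) (tt N4922 F24160) (tt N4754 (iv5 D14521)) (tt N8619 F311147) (tt N11121 (iv7 F26206)))
theorem Q9917 : ∀ i, i < 9917 → P i := stepQ 9916 Q9916 (allL N9916 (tt N20277 D30634) (tt N4755 (iv0 D14523)) (tt N20278 D30635) (tt N20279 D30636) (tt N20280 D30637) (tt N20281 D30638) (tt N20282 D30639) (tt N20283 D30640))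
theorem Q9918 : ∀ i, i < 9918 → P i := stepQ 9917 Q9917 (allL N9917 (tt N4755 (iv1 D14524)) (tt N20277 F49097) (tt N20283 (iv2 F49099)) (tt N20284 D30641) (tt N20285 D30642) (tt N20286 D30643) (tt N20287 D30644) (tt N20278 F49098))
theorem Q9919 : ∀ i, i < 9919 → P i := stepQ 9918 Q9918 (allL N9918 (tt N20278 F210262) (tt N20283 (iv0 F210263)) (tt N4755 (iv2 D14525)) (tt N11127 (iv3 F26216)) (tt N19970 (iv4 F48631)) (tt N20288 D30647) (tt N4836 F24162) (tt N20277 (iv7 F49096)))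
theorem Q9920 : ∀ i, i < 9920 → P i := stepQ 9919 Q9919 (allL N9919 (tt N20289 D30648) (tt N20290 D30649) (tt N20288 (iv2 F49102)) (tt N4756 F24163) (tt N20291 D30650) (tt N4755 (iv5 D14526)) (tt N20292 D30651) (tt N11183 (iv7 F27130)))
theorem Q9921 : ∀ i, i < 9921 → P i := stepQ 9920 Q9920 (allL N9920 (tt N20283 (iv1 F210264)) (tt N20278 F210261) (tt N20277 F49095) (tt N4757 F24164) (tt N19972 (iv4 F48635)) (tt N11183 (iv5 F27129)) (tt N20293 D30652) (tt N4755 (iv7 D14527)))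
theorem Q9922 : ∀ i, i < 9922 → P i := stepQ 9921 Q9921 (allL N9921 (tt N8490 (iv1 F24167)) (tt N4756 (iv0 D14528)) (tt N11130 F26223) (tt N20294 D30653) (tt N7503 F24166) (tt N7483 F24165) (tt N17289 F307196) (tt N11131 (iv7 F26226)))
theorem Q9923 : ∀ i, i < 9923 → P i := stepQ 9922 Q9922 (allL N9922 (tt N20295 D30655) (tt N20296 D30656) (tt N11132 (iv2 F26230)) (tt N20292 (iv3 F49103)) (tt N11188 (iv4 F27135)) (tt N4841 F24171) (tt N4756 (iv6 D14530)) (tt N20297 D30657))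
theorem Q9924 : ∀ i, i < 9924 → P i := stepQ 9923 Q9923 (allL N9923 (tt N16783 (iv1 F41121)) (tt N16782 F41120) (tt N11133 (iv2 F26232)) (tt N20293 (iv3 F49105)) (tt N4758 F24172) (tt N20298 D30658) (tt N4757 (iv6 D14531)) (tt N4842 F24173))
theorem Q9925 : ∀ i, i < 9925 → P i := stepQ 9924 Q9924 (allL N9924 (tt N19526 (iv1 F47893)) (tt N8903 (iv0 F39232)) (tt N16679 (iv2 F40898)) (tt N7880 F24174) (tt N15875 (iv4 F39230)) (tt N4759 (iv5 D14532)) (tt N20299 D30659) (tt N9564 F24175))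
theorem Q9926 : ∀ i, i < 9926 → P i := stepQ 9925 Q9925 (allL N9925 (tt N18315 (iv1 F45776)) (tt N19527 F47901) (tt N16680 (iv2 F40903)) (tt N20300 D30660) (tt N4760 (iv4 D14533)) (tt N20301 D30661) (tt N20302 D30662) (tt N9565 F24176))
theorem Q9927 : ∀ i, i < 9927 → P i := stepQ 9926 Q9926 (allL N9926 (tt N20303 D30663) (tt N16789 (iv0 F168208)) (tt N16681 (iv2 F40907)) (tt N20049 (iv3 F48760)) (tt N20302 (iv4 F49115)) (tt N9926 F24177) (tt N4760 (iv6 D14534)) (tt N15812 (iv7 F39082)))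
theorem Q9928 : ∀ i, i < 9928 → P i := stepQ 9927 Q9927 (allL N9927 (tt N16686 (iv1 F40924)) (tt N16685 F40923) (tt N4765 F24178) (tt N20304 D30665) (tt N4761 (iv4 D14535)) (tt N20305 D30666) (tt N20306 D30667) (tt N15867 (iv7 F39217)))
theorem Q9929 : ∀ i, i < 9929 → P i := stepQ 9928 Q9928 (allL N9928 (tt N20307 D30668) (tt N20308 D30669) (tt N4766 F24179) (tt N15050 (iv3 F37750)) (tt N20306 (iv4 F49120)) (tt N15377 (iv5 F38357)) (tt N4761 (iv6 D14536)) (tt N20309 D30670))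
theorem Q9930 : ∀ i, i < 9930 → P i := stepQ 9929 Q9929 (allL N9929 (tt N4762 (iv1 D14538)) (tt N4769 F24180) (tt N4768 (iv2 F24183)) (tt N10164 F24460) (tt N15657 (iv4 F38761)) (tt N9888 F24201) (tt N7564 (iv6 F24181)) (tt N4767 F24182))
theorem Q9931 : ∀ i, i < 9931 → P i := stepQ 9930 Q9930 (allL N9930 (tt N4768 (iv1 F24188)) (tt N4767 F24189) (tt N4769 F24186) (tt N15051 (iv3 F37752)) (tt N15819 (iv4 F39102)) (tt N7514 F24187) (tt N15461 (iv6 F38518)) (tt N4762 (iv7 D14539)))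
theorem Q9932 : ∀ i, i < 9932 → P i := stepQ 9931 Q9931 (allL N9931 (tt N18296 (iv1 F45749)) (tt N20310 D30671) (tt N15452 (iv2 F38499)) (tt N20311 D30672) (tt N4763 (iv4 D14540)) (tt N20312 D30673) (tt N20313 D30674) (tt N16683 (iv7 F40917)))
theorem Q9933 : ∀ i, i < 9933 → P i := stepQ 9932 Q9932 (allL N9932 (tt N20314 D30675) (tt N20315 D30676) (tt N15450 (iv2 F38497)) (tt N20052 (iv3 F48770)) (tt N20313 (iv4 F49132)) (tt N15392 (iv5 F38405)) (tt N4763 (iv6 D14541)) (tt N20316 D30677))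
theorem Q9934 : ∀ i, i < 9934 → P i := stepQ 9933 Q9933 (allL N9933 (tt N7580 (iv1 F38579)) (tt N15102 F38580) (tt N15104 F37871) (tt N4764 (iv3 D14542)) (tt N20317 D30678) (tt N15437 (iv5 F38483)) (tt N20318 D30679) (tt N15105 (iv7 F37870)))
theorem Q9935 : ∀ i, i < 9935 → P i := stepQ 9934 Q9934 (allL N9934 (tt N20310 (iv1 F49128)) (tt N18296 (iv0 F45750)) (tt N16683 (iv2 F40916)) (tt N20319 D30680) (tt N4764 (iv4 D14543)) (tt N20320 D30681) (tt N20321 D30682) (tt N15452 (iv7 F38500)))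
theorem Q9936 : ∀ i, i < 9936 → P i := stepQ 9935 Q9935 (allL N9935 (tt N11099 F26147) (tt N20322 D30683) (tt N16684 (iv2 F40920)) (tt N20318 (iv3 F49133)) (tt N20321 (iv4 F49134)) (tt N19535 (iv5 F47919)) (tt N4764 (iv6 D14544)) (tt N20323 D30684))
theorem Q9937 : ∀ i, i < 9937 → P i := stepQ 9936 Q9936 (allL N9936 (tt N15867 (iv1 F39219)) (tt N4765 (iv0 D14545)) (tt N16686 F40926) (tt N20324 D30685) (tt N15746 F38991) (tt N20325 D30686) (tt N20326 D30687) (tt N16685 (iv7 F40929)))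
theorem Q9938 : ∀ i, i < 9938 → P i := stepQ 9937 Q9937 (allL N9937 (tt N4765 (iv1 D14546)) (tt N15867 (iv0 F39218)) (tt N16685 F40928) (tt N20327 D30688) (tt N10253 (iv4 F24576)) (tt N20328 D30689) (tt N20329 D30690) (tt N16686 F40927))
theorem Q9939 : ∀ i, i < 9939 → P i := stepQ 9938 Q9938 (allL N9938 (tt N20330 D30691) (tt N20331 D30692) (tt N20332 D30693) (tt N4765 (iv3 D14547)) (tt N4777 F24190) (tt N20333 D30694) (tt N20334 D30695) (tt N16687 (iv7 F40931)))
theorem Q9940 : ∀ i, i < 9940 → P i := stepQ 9939 Q9939 (allL N9939 (tt N15907 F39267) (tt N15764 (iv0 F39018)) (tt N20305 (iv2 F49118)) (tt N20333 (iv3 F49139)) (tt N15870 (iv4 F39223)) (tt N4765 (iv5 D14548)) (tt N20335 D30696) (tt N16688 (iv7 F40932)))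
theorem Q9941 : ∀ i, i < 9941 → P i := stepQ 9940 Q9940 (allL N9940 (tt N20336 D30697) (tt N20337 D30698) (tt N20306 (iv2 F49119)) (tt N20334 (iv3 F49140)) (tt N4766 F24191) (tt N20338 D30699) (tt N4765 (iv6 D14549)) (tt N20339 D30700))
theorem Q9942 : ∀ i, i < 9942 → P i := stepQ 9941 Q9941 (allL N9941 (tt N20309 (iv1 F49127)) (tt N4766 (iv0 D14550)) (tt N20307 (iv2 F101210)) (tt N20340 D30702) (tt N20341 D30703) (tt N20342 D30704) (tt N20208 (iv6 F49145)) (tt N20308 F101209))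
theorem Q9943 : ∀ i, i < 9943 → P i := stepQ 9942 Q9942 (allL N9942 (tt N4766 (iv1 D14551)) (tt N20309 F49126) (tt N20308 F101205) (tt N20343 D30706) (tt N20344 D30707) (tt N20345 D30708) (tt N20346 D30709) (tt N20307 (iv7 F101211)))
theorem Q9944 : ∀ i, i < 9944 → P i := stepQ 9943 Q9943 (allL N9943 (tt N20308 (iv1 F49122)) (tt N20307 F49125) (tt N20309 (iv2 F49124)) (tt N4782 F24192) (tt N20339 (iv4 F49142)) (tt N20260 (iv5 F49040)) (tt N16692 (iv6 F40938)) (tt N4766 (iv7 D14552)))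
theorem Q9945 : ∀ i, i < 9945 → P i := stepQ 9944 Q9944 (allL N9944 (tt N20347 D30710) (tt N8887 F38293) (tt N9587 F24193) (tt N7428 F24194) (tt N4767 (iv4 D14553)) (tt N18658 (iv5 F46364)) (tt N7426 F24195) (tt N15657 (iv7 F38762)))
theorem Q9946 : ∀ i, i < 9946 → P i := stepQ 9945 Q9945 (allL N9945 (tt N7523 F24198) (tt N5278 (iv0 F24199)) (tt N9590 F24197) (tt N18685 (iv3 F46399)) (tt N20348 D30711) (tt N4767 (iv5 D14554)) (tt N20349 D30712) (tt N9888 (iv7 F24200)))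
theorem Q9947 : ∀ i, i < 9947 → P i := stepQ 9946 Q9946 (allL N9946 (tt N7581 (iv1 F38587)) (tt N16599 F40782) (tt N16598 F40777) (tt N4768 (iv3 D14555)) (tt N20350 D30713) (tt N18898 (iv5 F46616)) (tt N20351 D30714) (tt N9584 F24208))
theorem Q9948 : ∀ i, i < 9948 → P i := stepQ 9947 Q9947 (allL N9947 (tt N8887 F38292) (tt N20347 F49152) (tt N15657 F38763) (tt N20352 D30715) (tt N4768 (iv4 D14556)) (tt N18659 F46368) (tt N20353 D30716) (tt N9587 F24209))
theorem Q9949 : ∀ i, i < 9949 → P i := stepQ 9948 Q9948 (allL N9948 (tt N5278 (iv1 F24212)) (tt N7523 F24213) (tt N9888 F24210) (tt N18898 F46617) (tt N20354 D30717) (tt N4768 (iv5 D14557)) (tt N10004 F24301) (tt N9590 F24211))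
theorem Q9950 : ∀ i, i < 9950 → P i := stepQ 9949 Q9949 (allL N9949 (tt N7867 F24216) (tt N7771 (iv0 F24218)) (tt N7564 F24214) (tt N20351 (iv3 F49166)) (tt N20353 (iv4 F49179)) (tt N7534 (iv5 F24217)) (tt N4768 (iv6 D14558)) (tt N7568 F24215))
theorem Q9951 : ∀ i, i < 9951 → P i := stepQ 9950 Q9950 (allL N9950 (tt N20355 D30718) (tt N18272 (iv0 F45679)) (tt N16600 (iv2 F40784)) (tt N20356 D30719) (tt N4770 (iv4 D14559)) (tt N20357 D30720) (tt N20358 D30721) (tt N16602 (iv7 F40788)))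
theorem Q9952 : ∀ i, i < 9952 → P i := stepQ 9951 Q9951 (allL N9951 (tt N20359 D30722) (tt N20360 D30723) (tt N16601 (iv2 F40785)) (tt N4772 F24220) (tt N20358 (iv4 F49190)) (tt N7814 F24221) (tt N4770 (iv6 D14560)) (tt N20361 D30724))
theorem Q9953 : ∀ i, i < 9953 → P i := stepQ 9952 Q9952 (allL N9952 (tt N20362 D30725) (tt N20363 D30726) (tt N20364 D30727) (tt N4771 (iv3 D14561)) (tt N20356 (iv4 F49187)) (tt N20365 D30728) (tt N20366 D30729) (tt N16671 (iv7 F40871)))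
theorem Q9954 : ∀ i, i < 9954 → P i := stepQ 9953 Q9953 (allL N9953 (tt N8189 F24223) (tt N8192 F24224) (tt N10091 F24388) (tt N20365 (iv3 F49193)) (tt N4876 F24222) (tt N4771 (iv5 D14562)) (tt N20367 D30730) (tt N10090 F24383))
theorem Q9955 : ∀ i, i < 9955 → P i := stepQ 9954 Q9954 (allL N9954 (tt N20368 D30731) (tt N20369 D30732) (tt N15560 (iv2 F38636)) (tt N20366 (iv3 F49194)) (tt N4772 F24225) (tt N20370 D30733) (tt N4771 (iv6 D14563)) (tt N20371 D30734))
theorem Q9956 : ∀ i, i < 9956 → P i := stepQ 9955 Q9955 (allL N9955 (tt N15561 F38643) (tt N4772 (iv0 D14564)) (tt N15558 (iv2 F39512)) (tt N20372 D30735) (tt N20373 D30736) (tt N15584 (iv5 F38665)) (tt N10135 F24412) (tt N15559 F39514))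
theorem Q9957 : ∀ i, i < 9957 → P i := stepQ 9956 Q9956 (allL N9956 (tt N4772 (iv1 D14565)) (tt N15561 F38642) (tt N15559 F39511) (tt N20315 F168262) (tt N20374 D30738) (tt N15602 (iv5 F38681)) (tt N18997 F47613) (tt N15558 (iv7 F39509)))
theorem Q9958 : ∀ i, i < 9958 → P i := stepQ 9957 Q9957 (allL N9957 (tt N15559 (iv1 F38635)) (tt N15558 F38641) (tt N15561 (iv2 F38638)) (tt N20361 (iv3 F49191)) (tt N20371 (iv4 F49198)) (tt N7821 F24226) (tt N11103 (iv6 F26157)) (tt N4772 (iv7 D14566)))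
theorem Q9959 : ∀ i, i < 9959 → P i := stepQ 9958 Q9958 (allL N9958 (tt N20375 D30739) (tt N20376 D30740) (tt N20377 D30741) (tt N4773 (iv3 D14567)) (tt N20015 (iv4 F48729)) (tt N20378 D30742) (tt N20379 D30743) (tt N15562 (iv7 F38644)))
theorem Q9960 : ∀ i, i < 9960 → P i := stepQ 9959 Q9959 (allL N9959 (tt N8192 F24228) (tt N8189 F24229) (tt N10090 F24382) (tt N20378 (iv3 F49200)) (tt N4874 F24227) (tt N4773 (iv5 D14568)) (tt N20380 D30744) (tt N10091 (iv7 F24385)))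
theorem Q9961 : ∀ i, i < 9961 → P i := stepQ 9960 Q9960 (allL N9960 (tt N11147 F27063) (tt N20381 D30745) (tt N16672 (iv2 F40872)) (tt N20379 (iv3 F49201)) (tt N4774 F24230) (tt N20382 D30746) (tt N4773 (iv6 D14569)) (tt N20234 (iv7 F48985)))
theorem Q9962 : ∀ i, i < 9962 → P i := stepQ 9961 Q9961 (allL N9961 (tt N20383 D30747) (tt N20384 D30748) (tt N20385 D30749) (tt N4775 (iv3 D14570)) (tt N20386 D30750) (tt N20387 D30751) (tt N20388 D30752) (tt N10178 (iv7 F24481)))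
theorem Q9963 : ∀ i, i < 9963 → P i := stepQ 9962 Q9962 (allL N9962 (tt N8173 F24232) (tt N8183 F24233) (tt N10048 F24359) (tt N20387 (iv3 F49210)) (tt N4927 F24231) (tt N4775 (iv5 D14571)) (tt N20389 D30753) (tt N10047 F24354))
theorem Q9964 : ∀ i, i < 9964 → P i := stepQ 9963 Q9963 (allL N9963 (tt N20373 (iv1 F49705)) (tt N20374 (iv0 F49199)) (tt N10171 (iv2 F24476)) (tt N20388 (iv3 F49211)) (tt N7894 F24234) (tt N20390 D30755) (tt N4775 (iv6 D14572)) (tt N20391 D30756))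
theorem Q9965 : ∀ i, i < 9965 → P i := stepQ 9964 Q9964 (allL N9964 (tt N20392 D30757) (tt N20393 D30758) (tt N20394 D30759) (tt N4776 (iv3 D14573)) (tt N20395 D30760) (tt N20396 D30761) (tt N20397 D30762) (tt N10170 (iv7 F24475)))
theorem Q9966 : ∀ i, i < 9966 → P i := stepQ 9965 Q9965 (allL N9965 (tt N8183 F24236) (tt N8173 F24237) (tt N10047 F24353) (tt N20396 (iv3 F49216)) (tt N4928 F24235) (tt N4776 (iv5 D14574)) (tt N20398 D30763) (tt N10048 (iv7 F24356)))
theorem Q9967 : ∀ i, i < 9967 → P i := stepQ 9966 Q9966 (allL N9966 (tt N11102 F26156) (tt N20233 F48977) (tt N10179 (iv2 F24482)) (tt N20397 (iv3 F49217)) (tt N8206 F24238) (tt N20399 D30764) (tt N4776 (iv6 D14575)) (tt N20231 (iv7 F49757)))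
theorem Q9968 : ∀ i, i < 9968 → P i := stepQ 9967 Q9967 (allL N9967 (tt N16695 (iv1 F40943)) (tt N4777 (iv0 D14576)) (tt N16694 F180649) (tt N20400 D30767) (tt N20401 D30768) (tt N20402 D30769) (tt N20403 D30770) (tt N16693 F180650))
theorem Q9969 : ∀ i, i < 9969 → P i := stepQ 9968 Q9968 (allL N9968 (tt N4777 (iv1 D14577)) (tt N16695 F40945) (tt N16693 (iv2 F180647)) (tt N20404 D30772) (tt N20405 D30773) (tt N20406 D30774) (tt N20407 D30775) (tt N16694 (iv7 F180648)))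
theorem Q9970 : ∀ i, i < 9970 → P i := stepQ 9969 Q9969 (allL N9969 (tt N16694 (iv1 F40944)) (tt N16693 F40940) (tt N4777 (iv2 D14578)) (tt N16675 (iv3 F40876)) (tt N20332 (iv4 F49138)) (tt N20408 D30776) (tt N20409 D30777) (tt N16695 (iv7 F40942)))
theorem Q9971 : ∀ i, i < 9971 → P i := stepQ 9970 Q9970 (allL N9970 (tt N20410 D30778) (tt N20411 D30779) (tt N20408 (iv2 F49222)) (tt N4778 F24239) (tt N20412 D30780) (tt N4777 (iv5 D14579)) (tt N11510 F313572) (tt N16696 (iv7 F40947)))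
theorem Q9972 : ∀ i, i < 9972 → P i := stepQ 9971 Q9971 (allL N9971 (tt N20413 D30782) (tt N20414 D30783) (tt N20409 (iv2 F49223)) (tt N4779 F24240) (tt N20334 (iv4 F49141)) (tt N11511 F318249) (tt N4777 (iv6 D14580)) (tt N10714 (iv7 F318721)))
theorem Q9973 : ∀ i, i < 9973 → P i := stepQ 9972 Q9972 (allL N9972 (tt N16612 (iv1 F111215)) (tt N15087 (iv0 F111216)) (tt N16609 F111204) (tt N4780 (iv3 D14587)) (tt N20415 D30806) (tt N9800 F111205) (tt N20135 (iv6 F111219)) (tt N16610 F111206))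
theorem Q9974 : ∀ i, i < 9974 → P i := stepQ 9973 Q9973 (allL N9973 (tt N10131 F24409) (tt N10135 (iv0 F39633)) (tt N16678 F48950) (tt N20040 F111213) (tt N17148 F317139) (tt N20217 (iv5 F48946)) (tt N4781 (iv6 D14592)) (tt N20217 (iv7 F48947)))
theorem Q9975 : ∀ i, i < 9975 → P i := stepQ 9974 Q9974 (allL N9974 (tt N5301 F24249) (tt N5307 F24250) (tt N9880 F24247) (tt N12439 (iv3 F311246)) (tt N4783 (iv4 D14593)) (tt N12437 (iv5 F311252)) (tt N10022 (iv6 F24323)) (tt N9330 F24248))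
theorem Q9976 : ∀ i, i < 9976 → P i := stepQ 9975 Q9975 (allL N9975 (tt N15056 (iv1 F37768)) (tt N15055 F37772) (tt N15059 (iv2 F37770)) (tt N20416 D30820) (tt N4784 (iv4 D14594)) (tt N15492 (iv5 F38552)) (tt N20417 D30821) (tt N9622 F24251))
theorem Q9977 : ∀ i, i < 9977 → P i := stepQ 9976 Q9976 (allL N9976 (tt N16785 F163970) (tt N20418 D30823) (tt N15060 (iv2 F37773)) (tt N19979 (iv3 F48642)) (tt N20417 (iv4 F49243)) (tt N9976 F24252) (tt N4784 (iv6 D14595)) (tt N15383 (iv7 F38375)))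
theorem Q9978 : ∀ i, i < 9978 → P i := stepQ 9977 Q9977 (allL N9977 (tt N16261 (iv1 F40216)) (tt N15689 F38830) (tt N4789 F24253) (tt N15861 (iv3 F39202)) (tt N20419 D30824) (tt N4785 (iv5 D14596)) (tt N20420 D30825) (tt N15047 (iv7 F37738)))
theorem Q9979 : ∀ i, i < 9979 → P i := stepQ 9978 Q9978 (allL N9978 (tt N20421 D30826) (tt N9633 F24283) (tt N4790 F24254) (tt N15862 (iv3 F39204)) (tt N4787 F24255) (tt N15746 (iv5 F38988)) (tt N4785 (iv6 D14597)) (tt N20422 D30827))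
theorem Q9980 : ∀ i, i < 9980 → P i := stepQ 9979 Q9979 (allL N9979 (tt N16664 (iv1 F40856)) (tt N16663 F40854) (tt N4793 F24256) (tt N20423 D30828) (tt N4786 (iv4 D14598)) (tt N20424 D30829) (tt N20425 D30830) (tt N15049 (iv7 F37746)))
theorem Q9981 : ∀ i, i < 9981 → P i := stepQ 9980 Q9980 (allL N9980 (tt N20426 D30831) (tt N15465 (iv0 F38527)) (tt N4794 F24257) (tt N15868 (iv3 F39221)) (tt N20425 (iv4 F49263)) (tt N15848 (iv5 F39184)) (tt N4786 (iv6 D14599)) (tt N20427 D30832))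
theorem Q9982 : ∀ i, i < 9982 → P i := stepQ 9981 Q9981 (allL N9981 (tt N4798 (iv1 F24262)) (tt N4787 (iv0 D14600)) (tt N4795 (iv2 F24260)) (tt N9817 (iv3 F39281)) (tt N10029 (iv4 F24330)) (tt N7756 F24259) (tt N8151 F24258) (tt N4796 F24261))
theorem Q9983 : ∀ i, i < 9983 → P i := stepQ 9982 Q9982 (allL N9982 (tt N4796 (iv1 F24264)) (tt N4795 F24265) (tt N4798 F24263) (tt N15461 F38523) (tt N20422 (iv4 F49257)) (tt N15831 (iv5 F39140)) (tt N15051 (iv6 F37754)) (tt N4787 (iv7 D14601)))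
theorem Q9984 : ∀ i, i < 9984 → P i := stepQ 9983 Q9983 (allL N9983 (tt N8895 F24270) (tt N8877 (iv0 F24271)) (tt N7846 F24266) (tt N4788 (iv3 D14602)) (tt N7579 F24267) (tt N20428 D30833) (tt N9983 F24268) (tt N8867 F24269))
theorem Q9985 : ∀ i, i < 9985 → P i := stepQ 9984 Q9984 (allL N9984 (tt N14896 F37369) (tt N15479 F38811) (tt N15679 (iv2 F38806)) (tt N20428 (iv3 F49273)) (tt N20429 D30834) (tt N4788 (iv5 D14603)) (tt N20430 D30835) (tt N9631 F24272))
theorem Q9986 : ∀ i, i < 9986 → P i := stepQ 9985 Q9985 (allL N9985 (tt N15047 (iv1 F37741)) (tt N4789 (iv0 D14604)) (tt N16261 F40218) (tt N7852 (iv3 F38834)) (tt N20431 D30836) (tt N15708 (iv5 F38859)) (tt N20432 D30837) (tt N15689 F38833))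
theorem Q9987 : ∀ i, i < 9987 → P i := stepQ 9986 Q9986 (allL N9986 (tt N4789 (iv1 D14605)) (tt N15047 F37739) (tt N15689 F38832) (tt N20433 D30838) (tt N20434 D30839) (tt N7715 F37740) (tt N20435 D30840) (tt N16261 (iv7 F40217)))
theorem Q9988 : ∀ i, i < 9988 → P i := stepQ 9987 Q9987 (allL N9987 (tt N15416 F38445) (tt N15414 (iv0 F38444)) (tt N20419 (iv2 F49246)) (tt N20436 D30841) (tt N4789 (iv4 D14606)) (tt N15491 (iv5 F38551)) (tt N20437 D30842) (tt N16262 (iv7 F40221)))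
theorem Q9989 : ∀ i, i < 9989 → P i := stepQ 9988 Q9988 (allL N9988 (tt N20438 D30843) (tt N20439 D30844) (tt N20420 (iv2 F49248)) (tt N9067 F24273) (tt N20437 (iv4 F49301)) (tt N20440 D30845) (tt N4789 (iv6 D14607)) (tt N20441 D30846))
theorem Q9990 : ∀ i, i < 9990 → P i := stepQ 9989 Q9989 (allL N9989 (tt N20422 (iv1 F49260)) (tt N4790 (iv0 D14608)) (tt N20421 F49253) (tt N15684 F38960) (tt N20442 D30847) (tt N7716 (iv5 F38959)) (tt N16053 (iv6 F39706)) (tt N9633 F38961))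
theorem Q9991 : ∀ i, i < 9991 → P i := stepQ 9990 Q9990 (allL N9990 (tt N4790 (iv1 D14609)) (tt N20422 F49259) (tt N9633 (iv2 F24277)) (tt N18012 (iv3 F45098)) (tt N9190 (iv4 F24275)) (tt N7717 F24274) (tt N9188 F24276) (tt N20421 (iv7 F49254)))
theorem Q9992 : ∀ i, i < 9992 → P i := stepQ 9991 Q9991 (allL N9991 (tt N9016 (iv1 F38939)) (tt N15735 (iv0 F38938)) (tt N15746 F38989) (tt N7384 F24279) (tt N16686 (iv4 F40925)) (tt N4790 (iv5 D14610)) (tt N20440 (iv6 F49303)) (tt N10253 (iv7 F24575)))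
theorem Q9993 : ∀ i, i < 9993 → P i := stepQ 9992 Q9992 (allL N9992 (tt N9633 (iv1 F24282)) (tt N20421 F49255) (tt N20422 (iv2 F49256)) (tt N7392 F24280) (tt N4798 F24281) (tt N10253 (iv5 F24574)) (tt N16265 (iv6 F40231)) (tt N4790 (iv7 D14611)))
theorem Q9994 : ∀ i, i < 9994 → P i := stepQ 9993 Q9993 (allL N9993 (tt N15410 (iv1 F38438)) (tt N15440 (iv0 F38494)) (tt N16661 (iv2 F40850)) (tt N20443 D30848) (tt N4791 (iv4 D14612)) (tt N20444 D30849) (tt N20445 D30850) (tt N16659 (iv7 F40845)))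
theorem Q9995 : ∀ i, i < 9995 → P i := stepQ 9994 Q9994 (allL N9994 (tt N7739 (iv1 F24289)) (tt N7774 (iv0 F24292)) (tt N7775 F24284) (tt N7866 F24285) (tt N7867 F24287) (tt N4791 (iv5 D14613)) (tt N7766 (iv6 F24288)) (tt N7755 F24286))
theorem Q9996 : ∀ i, i < 9996 → P i := stepQ 9995 Q9995 (allL N9995 (tt N15373 F38341) (tt N20225 F48972) (tt N16662 (iv2 F40852)) (tt N15093 (iv3 F37849)) (tt N20445 (iv4 F49312)) (tt N9650 F24297) (tt N4791 (iv6 D14614)) (tt N20224 (iv7 F79364)))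
theorem Q9997 : ∀ i, i < 9997 → P i := stepQ 9996 Q9996 (allL N9996 (tt N15440 (iv1 F38493)) (tt N15410 F40846) (tt N16659 (iv2 F40844)) (tt N20446 D30852) (tt N4792 (iv4 D14615)) (tt N20447 D30853) (tt N20448 D30854) (tt N16661 (iv7 F40851)))
theorem Q9998 : ∀ i, i < 9998 → P i := stepQ 9997 Q9997 (allL N9997 (tt N20372 F163959) (tt N20449 D30856) (tt N16660 (iv2 F40847)) (tt N19980 (iv3 F48644)) (tt N20448 (iv4 F49314)) (tt N7773 F24298) (tt N4792 (iv6 D14616)) (tt N20450 D30857))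
theorem Q9999 : ∀ i, i < 9999 → P i := stepQ 9998 Q9998 (allL N9998 (tt N15049 (iv1 F37748)) (tt N4793 (iv0 D14617)) (tt N16664 F40864) (tt N20451 D30858) (tt N20452 D30859) (tt N20453 D30860) (tt N20454 D30861) (tt N16663 F40863))
theorem Q10000 : ∀ i, i < 10000 → P i := stepQ 9999 Q9999 (allL N9999 (tt N4793 (iv1 D14618)) (tt N15049 F37747) (tt N16663 (iv2 F40862)) (tt N20455 D30862) (tt N10145 (iv4 F24442)) (tt N20456 D30863) (tt N20457 D30864) (tt N16664 F40860))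
theorem Q10001 : ∀ i, i < 10001 → P i := stepQ 10000 Q10000 (allL N10000 (tt N20458 D30865) (tt N20459 D30866) (tt N20460 D30867) (tt N4793 (iv3 D14619)) (tt N4799 F24299) (tt N20461 D30868) (tt N20462 D30869) (tt N16665 (iv7 F40866)))
theorem Q10002 : ∀ i, i < 10002 → P i := stepQ 10001 Q10001 (allL N10001 (tt N20463 D30870) (tt N20464 D30871) (tt N20424 (iv2 F49261)) (tt N20461 (iv3 F49323)) (tt N15490 (iv4 F78064)) (tt N4793 (iv5 D14620)) (tt N20465 D30873) (tt N16666 (iv7 F40867)))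
theorem Q10003 : ∀ i, i < 10003 → P i := stepQ 10002 Q10002 (allL N10002 (tt N20466 D30874) (tt N20467 D30875) (tt N20425 (iv2 F49262)) (tt N20462 (iv3 F49324)) (tt N4794 F24300) (tt N20468 D30876) (tt N4793 (iv6 D14621)) (tt N20469 D30877))
theorem Q10004 : ∀ i, i < 10004 → P i := stepQ 10003 Q10003 (allL N10003 (tt N20427 (iv1 F49271)) (tt N4794 (iv0 D14622)) (tt N20426 (iv2 F49268)) (tt N15114 (iv3 F53450)) (tt N20470 D30879) (tt N15466 (iv5 F49270)) (tt N20471 D30880) (tt N15465 F49269))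
theorem Q10005 : ∀ i, i < 10005 → P i := stepQ 10004 Q10004 (allL N10004 (tt N4794 (iv1 D14623)) (tt N20427 F49266) (tt N15465 (iv2 F38525)) (tt N20472 D30881) (tt N20473 D30882) (tt N15395 (iv5 F38413)) (tt N9948 (iv6 F24301)) (tt N20426 (iv7 F49267)))
theorem Q10006 : ∀ i, i < 10006 → P i := stepQ 10005 Q10005 (allL N10005 (tt N20474 D30883) (tt N20475 D30884) (tt N15848 (iv2 F39182)) (tt N4804 F24302) (tt N20476 D30885) (tt N4794 (iv5 D14624)) (tt N4797 F24303) (tt N20477 D30886))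
theorem Q10007 : ∀ i, i < 10007 → P i := stepQ 10006 Q10006 (allL N10006 (tt N15465 (iv1 F38528)) (tt N20426 F49265) (tt N20427 (iv2 F49264)) (tt N4805 F24304) (tt N20469 (iv4 F49328)) (tt N20477 (iv5 F49339)) (tt N16670 (iv6 F40870)) (tt N4794 (iv7 D14625)))
theorem Q10008 : ∀ i, i < 10008 → P i := stepQ 10007 Q10007 (allL N10007 (tt N7341 F24309) (tt N8152 (iv0 F24310)) (tt N8151 F24305) (tt N7360 F24306) (tt N7547 F24307) (tt N11097 (iv5 F26140)) (tt N4795 (iv6 D14626)) (tt N8150 F24308))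
theorem Q10009 : ∀ i, i < 10009 → P i := stepQ 10008 Q10008 (allL N10008 (tt N20478 D30887) (tt N18043 (iv0 F45189)) (tt N15847 (iv2 F39181)) (tt N20479 D30888) (tt N4797 (iv4 D14627)) (tt N20480 D30889) (tt N20476 (iv6 F49337)) (tt N15849 (iv7 F39185)))
theorem Q10010 : ∀ i, i < 10010 → P i := stepQ 10009 Q10009 (allL N10009 (tt N16675 (iv1 F40878)) (tt N4799 (iv0 D14628)) (tt N16674 F180243) (tt N20481 D30891) (tt N20482 D30892) (tt N20483 D30893) (tt N20484 D30894) (tt N16673 F180244))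
theorem Q10011 : ∀ i, i < 10011 → P i := stepQ 10010 Q10010 (allL N10010 (tt N4799 (iv1 D14629)) (tt N16675 F40880) (tt N16673 (iv2 F180241)) (tt N20485 D30896) (tt N20486 D30897) (tt N20487 D30898) (tt N20488 D30899) (tt N16674 (iv7 F180242)))
theorem Q10012 : ∀ i, i < 10012 → P i := stepQ 10011 Q10011 (allL N10011 (tt N16674 (iv1 F40879)) (tt N16673 F40875) (tt N4799 (iv2 D14630)) (tt N16695 (iv3 F40941)) (tt N20460 (iv4 F49322)) (tt N20489 D30900) (tt N20490 D30901) (tt N16675 (iv7 F40877)))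
theorem Q10013 : ∀ i, i < 10013 → P i := stepQ 10012 Q10012 (allL N10012 (tt N20491 D30902) (tt N20492 D30903) (tt N20489 (iv2 F49351)) (tt N4800 F24315) (tt N20493 D30904) (tt N4799 (iv5 D14631)) (tt N20494 D30905) (tt N16676 (iv7 F40882)))
theorem Q10014 : ∀ i, i < 10014 → P i := stepQ 10013 Q10013 (allL N10013 (tt N20495 D30906) (tt N20496 D30907) (tt N20490 (iv2 F49352)) (tt N4801 F24316) (tt N20462 (iv4 F49325)) (tt N20497 D30908) (tt N4799 (iv6 D14632)) (tt N20498 D30909))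
theorem Q10015 : ∀ i, i < 10015 → P i := stepQ 10014 Q10014 (allL N10014 (tt N9048 F317309) (tt N20499 D30911) (tt N16698 (iv2 F40949)) (tt N20494 (iv3 F49354)) (tt N4984 F24317) (tt N20393 (iv5 F318778)) (tt N4800 (iv6 D14633)) (tt N11517 F313573))
theorem Q10016 : ∀ i, i < 10016 → P i := stepQ 10015 Q10015 (allL N10015 (tt N10715 (iv1 F313978)) (tt N4801 (iv0 D14634)) (tt N10277 F47797) (tt N20500 D30914) (tt N8230 F47798) (tt N20501 D30915) (tt N20502 D30916) (tt N10280 F47799))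
theorem Q10017 : ∀ i, i < 10017 → P i := stepQ 10016 Q10016 (allL N10016 (tt N4801 (iv1 D14635)) (tt N10715 (iv0 F313977)) (tt N10280 F47793) (tt N20503 D30917) (tt N8231 F47794) (tt N20504 D30918) (tt N11089 F47795) (tt N10277 F47796))
theorem Q10018 : ∀ i, i < 10018 → P i := stepQ 10017 Q10017 (allL N10017 (tt N20500 F318496) (tt N12515 (iv0 F316869)) (tt N16699 (iv2 F40952)) (tt N20497 (iv3 F49355)) (tt N20505 D30921) (tt N4801 (iv5 D14636)) (tt N20393 (iv6 F318779)) (tt N20506 D30922))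
theorem Q10019 : ∀ i, i < 10019 → P i := stepQ 10018 Q10018 (allL N10018 (tt N10280 (iv1 F48928)) (tt N10277 (iv0 F48929)) (tt N10715 (iv2 F313979)) (tt N20498 (iv3 F49356)) (tt N4805 F24318) (tt N20506 (iv5 F49361)) (tt N8351 (iv6 F316347)) (tt N4801 (iv7 D14637)))
theorem Q10020 : ∀ i, i < 10020 → P i := stepQ 10019 Q10019 (allL N10019 (tt N16838 F47639) (tt N4912 F47640) (tt N16700 (iv2 F40961)) (tt N20507 D30923) (tt N4802 (iv4 D14639)) (tt N20508 D30924) (tt N20509 D30925) (tt N15585 (iv7 F38668)))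
theorem Q10021 : ∀ i, i < 10021 → P i := stepQ 10020 Q10020 (allL N10020 (tt N18997 (iv1 F46745)) (tt N18996 F46744) (tt N16701 (iv2 F40963)) (tt N20077 (iv3 F48798)) (tt N20509 (iv4 F49362)) (tt N9519 F24319) (tt N4802 (iv6 D14640)) (tt N9518 F24320))
theorem Q10022 : ∀ i, i < 10022 → P i := stepQ 10021 Q10021 (allL N10021 (tt N16587 F40750) (tt N16619 F40805) (tt N16618 (iv2 F40802)) (tt N4803 (iv3 D14641)) (tt N20510 D30926) (tt N7824 F24321) (tt N9803 F24322) (tt N16617 (iv7 F83903)))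
theorem Q10023 : ∀ i, i < 10023 → P i := stepQ 10022 Q10022 (allL N10022 (tt N4912 F47637) (tt N16838 F47638) (tt N15585 (iv2 F38666)) (tt N20511 D30927) (tt N4803 (iv4 D14642)) (tt N20512 D30928) (tt N9974 F24323) (tt N16700 (iv7 F40962)))
theorem Q10024 : ∀ i, i < 10024 → P i := stepQ 10023 Q10023 (allL N10023 (tt N15938 F39347) (tt N4804 (iv0 D14643)) (tt N15936 (iv2 F49027)) (tt N20079 F161302) (tt N20513 D30930) (tt N20254 (iv5 F49005)) (tt N15629 F38714) (tt N15937 (iv7 F49029)))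
theorem Q10025 : ∀ i, i < 10025 → P i := stepQ 10024 Q10024 (allL N10024 (tt N4804 (iv1 D14644)) (tt N15938 F39346) (tt N15937 F49010) (tt N20514 D30931) (tt N20515 D30932) (tt N16741 (iv5 F41039)) (tt N15937 (iv6 F39541)) (tt N15936 F49028))
theorem Q10026 : ∀ i, i < 10026 → P i := stepQ 10025 Q10025 (allL N10025 (tt N20516 D30933) (tt N20517 D30934) (tt N11652 (iv2 F323449)) (tt N20518 D30935) (tt N4804 (iv4 D14645)) (tt N11615 (iv5 F323450)) (tt N4806 F24324) (tt N11648 (iv7 F323446)))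
theorem Q10027 : ∀ i, i < 10027 → P i := stepQ 10026 Q10026 (allL N10026 (tt N15937 (iv1 F39340)) (tt N15936 F39345) (tt N15938 (iv2 F39342)) (tt N20477 (iv3 F49338)) (tt N11648 F324113) (tt N4805 F24325) (tt N7608 F24326) (tt N4804 (iv7 D14646)))
theorem Q10028 : ∀ i, i < 10028 → P i := stepQ 10027 Q10027 (allL N10027 (tt N15612 (iv1 F169597)) (tt N15617 (iv0 F169598)) (tt N20519 D30940) (tt N4806 (iv3 D14647)) (tt N20479 (iv4 F49346)) (tt N15935 (iv5 F39336)) (tt N20518 (iv6 F49368)) (tt N15939 (iv7 F39349)))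
theorem Q10029 : ∀ i, i < 10029 → P i := stepQ 10028 Q10028 (allL N10028 (tt N15765 (iv1 F39022)) (tt N15738 (iv0 F38948)) (tt N4808 F24327) (tt N20520 D30941) (tt N4807 (iv4 D14648)) (tt N20521 D30942) (tt N20522 D30943) (tt N15762 (iv7 F39014)))
theorem Q10030 : ∀ i, i < 10030 → P i := stepQ 10029 Q10029 (allL N10029 (tt N7561 (iv1 F24332)) (tt N7533 (iv0 F24331)) (tt N4809 F24328) (tt N15053 (iv3 F37762)) (tt N9981 F24330) (tt N4807 (iv5 D14649)) (tt N15375 (iv6 F38350)) (tt N7513 F24329))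
theorem Q10031 : ∀ i, i < 10031 → P i := stepQ 10030 Q10030 (allL N10030 (tt N20523 D30944) (tt N20524 D30945) (tt N4810 F24333) (tt N15054 (iv3 F37767)) (tt N20522 (iv4 F49376)) (tt N19699 (iv5 F48172)) (tt N4807 (iv6 D14650)) (tt N20525 D30946))
theorem Q10032 : ∀ i, i < 10032 → P i := stepQ 10031 Q10031 (allL N10031 (tt N15762 (iv1 F39013)) (tt N4808 (iv0 D14651)) (tt N15765 (iv2 F39019)) (tt N20526 D30947) (tt N15739 F38962) (tt N15907 (iv5 F39266)) (tt N20527 D30948) (tt N15738 (iv7 F38963)))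
theorem Q10033 : ∀ i, i < 10033 → P i := stepQ 10032 Q10032 (allL N10032 (tt N20528 D30949) (tt N20529 D30950) (tt N20530 D30951) (tt N4808 (iv3 D14652)) (tt N4812 F24334) (tt N20531 D30952) (tt N20532 D30953) (tt N16728 (iv7 F41012)))
theorem Q10034 : ∀ i, i < 10034 → P i := stepQ 10033 Q10033 (allL N10033 (tt N20533 D30954) (tt N20534 D30955) (tt N20521 (iv2 F49372)) (tt N20531 (iv3 F49383)) (tt N15887 (iv4 F39245)) (tt N4808 (iv5 D14653)) (tt N20535 D30956) (tt N16729 (iv7 F41013)))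
theorem Q10035 : ∀ i, i < 10035 → P i := stepQ 10034 Q10034 (allL N10034 (tt N20536 D30957) (tt N20537 D30958) (tt N20522 (iv2 F49375)) (tt N20532 (iv3 F49384)) (tt N4810 F24335) (tt N20538 D30959) (tt N4808 (iv6 D14654)) (tt N20539 D30960))
theorem Q10036 : ∀ i, i < 10036 → P i := stepQ 10035 Q10035 (allL N10035 (tt N7513 (iv1 F24339)) (tt N4809 (iv0 D14655)) (tt N7561 (iv2 F24338)) (tt N15065 F37785) (tt N16108 (iv4 F39921)) (tt N8162 F24337) (tt N7549 F24336) (tt N7533 F24340))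
theorem Q10037 : ∀ i, i < 10037 → P i := stepQ 10036 Q10036 (allL N10036 (tt N20525 (iv1 F49381)) (tt N4810 (iv0 D14656)) (tt N20523 F102109) (tt N20540 D30962) (tt N20541 D30963) (tt N20542 D30964) (tt N20543 D30965) (tt N20524 (iv7 F102117)))
theorem Q10038 : ∀ i, i < 10038 → P i := stepQ 10037 Q10037 (allL N10037 (tt N4810 (iv1 D14657)) (tt N20525 F49380) (tt N20524 (iv2 F102116)) (tt N20544 D30967) (tt N20545 D30968) (tt N20546 D30969) (tt N20547 D30970) (tt N20523 F102115))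
theorem Q10039 : ∀ i, i < 10039 → P i := stepQ 10038 Q10038 (allL N10038 (tt N19657 F48081) (tt N19701 F48174) (tt N19699 (iv2 F48170)) (tt N4817 F24341) (tt N20548 D30971) (tt N4810 (iv5 D14658)) (tt N9302 F24342) (tt N19428 (iv7 F47608)))
theorem Q10040 : ∀ i, i < 10040 → P i := stepQ 10039 Q10039 (allL N10039 (tt N20524 (iv1 F49377)) (tt N20523 F49379) (tt N20525 (iv2 F49378)) (tt N4818 F24343) (tt N20539 (iv4 F49393)) (tt N19428 (iv5 F47607)) (tt N16733 (iv6 F41016)) (tt N4810 (iv7 D14659)))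
theorem Q10041 : ∀ i, i < 10041 → P i := stepQ 10040 Q10040 (allL N10040 (tt N20549 D30972) (tt N20550 D30973) (tt N20551 D30974) (tt N4811 (iv3 D14660)) (tt N20552 D30975) (tt N9096 F24344) (tt N20553 D30976) (tt N7198 F24345))
theorem Q10042 : ∀ i, i < 10042 → P i := stepQ 10041 Q10041 (allL N10041 (tt N16786 (iv1 F100815)) (tt N16790 F100812) (tt N9051 F24346) (tt N20553 (iv3 F49407)) (tt N7200 F24347) (tt N20554 D30979) (tt N4811 (iv6 D14661)) (tt N15317 (iv7 F38228)))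
theorem Q10043 : ∀ i, i < 10043 → P i := stepQ 10042 Q10042 (allL N10042 (tt N16736 (iv1 F41020)) (tt N4812 (iv0 D14662)) (tt N16735 F102806) (tt N20555 D30981) (tt N20556 D30982) (tt N20410 F105775) (tt N20557 D30984) (tt N16734 (iv7 F102814)))
theorem Q10044 : ∀ i, i < 10044 → P i := stepQ 10043 Q10043 (allL N10043 (tt N4812 (iv1 D14663)) (tt N16736 F41022) (tt N16734 (iv2 F102813)) (tt N20558 D30986) (tt N20559 D30987) (tt N20411 F105780) (tt N20243 (iv6 F319543)) (tt N16735 F102812))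
theorem Q10045 : ∀ i, i < 10045 → P i := stepQ 10044 Q10044 (allL N10044 (tt N16735 (iv1 F41021)) (tt N16734 F41017) (tt N4812 (iv2 D14664)) (tt N16713 (iv3 F40984)) (tt N20530 (iv4 F49382)) (tt N20560 D30990) (tt N20561 D30991) (tt N16736 (iv7 F41019)))
theorem Q10046 : ∀ i, i < 10046 → P i := stepQ 10045 Q10045 (allL N10045 (tt N20562 D30992) (tt N20563 D30993) (tt N20560 (iv2 F49414)) (tt N4813 F24348) (tt N20564 D30994) (tt N4812 (iv5 D14665)) (tt N20565 D30995) (tt N16737 (iv7 F41024)))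
theorem Q10047 : ∀ i, i < 10047 → P i := stepQ 10046 Q10046 (allL N10046 (tt N20566 D30996) (tt N20567 D30997) (tt N20561 (iv2 F49415)) (tt N4814 F24349) (tt N20532 (iv4 F49385)) (tt N20568 D30998) (tt N4812 (iv6 D14666)) (tt N20569 D30999))
theorem Q10048 : ∀ i, i < 10048 → P i := stepQ 10047 Q10047 (allL N10047 (tt N4823 (iv1 F24352)) (tt N4813 (iv0 D14667)) (tt N9965 (iv2 F24353)) (tt N20570 D31000) (tt N4878 F24351) (tt N4862 F24350) (tt N20571 D31001) (tt N9962 (iv7 F24354)))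
theorem Q10049 : ∀ i, i < 10049 → P i := stepQ 10048 Q10048 (allL N10048 (tt N4813 (iv1 D14668)) (tt N4823 F24355) (tt N9962 (iv2 F24359)) (tt N20572 D31002) (tt N4880 F24358) (tt N4859 F24357) (tt N20573 D31003) (tt N9965 F24356))
theorem Q10050 : ∀ i, i < 10050 → P i := stepQ 10049 Q10049 (allL N10049 (tt N20574 D31004) (tt N20575 D31005) (tt N16716 (iv2 F40992)) (tt N20565 (iv3 F49417)) (tt N4963 F24360) (tt N10328 F317324) (tt N4813 (iv6 D14669)) (tt N20576 D31007))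
theorem Q10051 : ∀ i, i < 10051 → P i := stepQ 10050 Q10050 (allL N10050 (tt N16720 (iv1 F41001)) (tt N4814 (iv0 D14670)) (tt N16717 (iv2 F76945)) (tt N20577 D31009) (tt N9035 F46741) (tt N4886 (iv5 F316870)) (tt N4889 (iv6 F315112)) (tt N16718 (iv7 F76939)))
theorem Q10052 : ∀ i, i < 10052 → P i := stepQ 10051 Q10051 (allL N10051 (tt N4814 (iv1 D14671)) (tt N16720 F41000) (tt N16718 (iv2 F76938)) (tt N20578 D31013) (tt N9036 F46539) (tt N16814 (iv5 F312226)) (tt N20579 D31015) (tt N16717 (iv7 F76946)))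
theorem Q10053 : ∀ i, i < 10053 → P i := stepQ 10052 Q10052 (allL N10052 (tt N20580 D31016) (tt N20581 D31017) (tt N16719 (iv2 F40995)) (tt N20568 (iv3 F49418)) (tt N20572 F320293) (tt N4814 (iv5 D14672)) (tt N10328 (iv6 F315627)) (tt N20582 D31019))
theorem Q10054 : ∀ i, i < 10054 → P i := stepQ 10053 Q10053 (allL N10053 (tt N16718 (iv1 F40994)) (tt N16717 F40999) (tt N16720 (iv2 F40996)) (tt N20569 (iv3 F49419)) (tt N4818 F24361) (tt N20582 (iv5 F49438)) (tt N11979 (iv6 F315194)) (tt N4814 (iv7 D14673)))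
theorem Q10055 : ∀ i, i < 10055 → P i := stepQ 10054 Q10054 (allL N10054 (tt N16630 (iv1 F102001)) (tt N15120 (iv0 F102002)) (tt N16627 (iv2 F102000)) (tt N4815 (iv3 D14675)) (tt N20583 D31023) (tt N20584 D31024) (tt N20042 F101988) (tt N16628 (iv7 F102003)))
theorem Q10056 : ∀ i, i < 10056 → P i := stepQ 10055 Q10055 (allL N10055 (tt N16751 F47160) (tt N4830 F47161) (tt N10442 (iv2 F315661)) (tt N20585 D31025) (tt N4815 (iv4 D14676)) (tt N8286 (iv5 F316525)) (tt N10722 F314045) (tt N16723 (iv7 F49065)))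
theorem Q10057 : ∀ i, i < 10057 → P i := stepQ 10056 Q10056 (allL N10056 (tt N19624 F48028) (tt N19617 (iv0 F48018)) (tt N16722 F49067) (tt N20584 (iv3 F49439)) (tt N20586 D31027) (tt N4815 (iv5 D14677)) (tt N16722 (iv6 F41003)) (tt N16724 (iv7 F49066)))
theorem Q10058 : ∀ i, i < 10058 → P i := stepQ 10057 Q10057 (allL N10057 (tt N4830 F47605) (tt N16751 F47606) (tt N16723 (iv2 F49080)) (tt N20587 D31034) (tt N4816 (iv4 D14681)) (tt N10443 (iv5 F313668)) (tt N20588 D31036) (tt N10442 (iv7 F315662)))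
theorem Q10059 : ∀ i, i < 10059 → P i := stepQ 10058 Q10058 (allL N10058 (tt N19617 (iv1 F48218)) (tt N19624 (iv0 F48027)) (tt N16724 (iv2 F49068)) (tt N20114 F101974) (tt N20589 D31037) (tt N4816 (iv5 D14682)) (tt N9677 F24364) (tt N16722 F49071))
theorem Q10060 : ∀ i, i < 10060 → P i := stepQ 10059 Q10059 (allL N10059 (tt N19743 F48210) (tt N16788 F48211) (tt N16725 F49054) (tt N20115 F101975) (tt N20588 (iv4 F49443)) (tt N19355 (iv5 F47401)) (tt N4816 (iv6 D14683)) (tt N20265 (iv7 F49052)))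
theorem Q10061 : ∀ i, i < 10061 → P i := stepQ 10060 Q10060 (allL N10060 (tt N9437 F46536) (tt N18798 F46538) (tt N16726 (iv2 F41006)) (tt N20590 D31038) (tt N4817 (iv4 D14684)) (tt N20591 D31039) (tt N9303 F24365) (tt N18796 (iv7 F46739)))
theorem Q10062 : ∀ i, i < 10062 → P i := stepQ 10061 Q10061 (allL N10061 (tt N16703 (iv1 F40970)) (tt N16702 F40967) (tt N4820 F24366) (tt N20592 D31040) (tt N4819 (iv4 D14685)) (tt N20593 D31041) (tt N20594 D31042) (tt N15052 (iv7 F37758)))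
theorem Q10063 : ∀ i, i < 10063 → P i := stepQ 10062 Q10062 (allL N10062 (tt N20595 D31043) (tt N20596 D31044) (tt N4821 F24367) (tt N16727 (iv3 F41009)) (tt N20594 (iv4 F49451)) (tt N15804 (iv5 F39074)) (tt N4819 (iv6 D14686)) (tt N20597 D31045))
theorem Q10064 : ∀ i, i < 10064 → P i := stepQ 10063 Q10063 (allL N10063 (tt N15052 (iv1 F37760)) (tt N4820 (iv0 D14687)) (tt N16703 (iv2 F40973)) (tt N20598 D31046) (tt N15343 (iv4 F38279)) (tt N20463 (iv5 F49326)) (tt N19653 (iv6 F48068)) (tt N16702 F40969))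
theorem Q10065 : ∀ i, i < 10065 → P i := stepQ 10064 Q10064 (allL N10064 (tt N4820 (iv1 D14688)) (tt N15052 (iv0 F37759)) (tt N16702 F40968) (tt N20599 D31047) (tt N10137 (iv4 F24416)) (tt N20464 (iv5 F49327)) (tt N20600 D31048) (tt N16703 (iv7 F40971)))
theorem Q10066 : ∀ i, i < 10066 → P i := stepQ 10065 Q10065 (allL N10065 (tt N20601 D31049) (tt N20602 D31050) (tt N20603 D31051) (tt N4820 (iv3 D14689)) (tt N4822 F24368) (tt N20604 D31052) (tt N20605 D31053) (tt N16704 (iv7 F40976)))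
theorem Q10067 : ∀ i, i < 10067 → P i := stepQ 10066 Q10066 (allL N10066 (tt N20606 D31054) (tt N20607 D31055) (tt N20593 (iv2 F49446)) (tt N20604 (iv3 F49458)) (tt N15480 (iv4 F38546)) (tt N4820 (iv5 D14690)) (tt N20608 D31056) (tt N16705 (iv7 F40977)))
theorem Q10068 : ∀ i, i < 10068 → P i := stepQ 10067 Q10067 (allL N10067 (tt N20609 D31057) (tt N20610 D31058) (tt N20594 (iv2 F49450)) (tt N20605 (iv3 F49459)) (tt N4821 F24369) (tt N20611 D31059) (tt N4820 (iv6 D14691)) (tt N20612 D31060))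
theorem Q10069 : ∀ i, i < 10069 → P i := stepQ 10068 Q10068 (allL N10068 (tt N20597 (iv1 F49456)) (tt N4821 (iv0 D14692)) (tt N20595 F102435) (tt N15132 F104346) (tt N20613 D31063) (tt N16731 (iv5 F80864)) (tt N20614 D31065) (tt N20596 (iv7 F102443)))
theorem Q10070 : ∀ i, i < 10070 → P i := stepQ 10069 Q10069 (allL N10069 (tt N4821 (iv1 D14693)) (tt N20597 F49455) (tt N20596 (iv2 F102442)) (tt N20615 D31067) (tt N20616 D31068) (tt N16732 (iv5 F84548)) (tt N20617 D31070) (tt N20595 F102441))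
theorem Q10071 : ∀ i, i < 10071 → P i := stepQ 10070 Q10070 (allL N10070 (tt N20596 (iv1 F49452)) (tt N20595 F49454) (tt N20597 (iv2 F49453)) (tt N4827 F24370) (tt N20612 (iv4 F49467)) (tt N20210 (iv5 F48919)) (tt N16710 (iv6 F40982)) (tt N4821 (iv7 D14694)))
theorem Q10072 : ∀ i, i < 10072 → P i := stepQ 10071 Q10071 (allL N10071 (tt N16713 (iv1 F40986)) (tt N4822 (iv0 D14695)) (tt N16712 (iv2 F102525)) (tt N20618 D31072) (tt N20619 D31073) (tt N20491 F103123) (tt N20261 (iv6 F319270)) (tt N16711 F102524))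
theorem Q10073 : ∀ i, i < 10073 → P i := stepQ 10072 Q10072 (allL N10072 (tt N4822 (iv1 D14696)) (tt N16713 F40988) (tt N16711 F102521) (tt N20620 D31077) (tt N20621 D31078) (tt N20492 F103128) (tt N20622 D31080) (tt N16712 (iv7 F102526)))
theorem Q10074 : ∀ i, i < 10074 → P i := stepQ 10073 Q10073 (allL N10073 (tt N16712 (iv1 F40987)) (tt N16711 F40983) (tt N4822 (iv2 D14697)) (tt N16736 (iv3 F41018)) (tt N20603 (iv4 F49457)) (tt N20623 D31081) (tt N20624 D31082) (tt N16713 (iv7 F40985)))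
theorem Q10075 : ∀ i, i < 10075 → P i := stepQ 10074 Q10074 (allL N10074 (tt N20625 D31083) (tt N20626 D31084) (tt N20623 (iv2 F49472)) (tt N4823 F24371) (tt N20627 D31085) (tt N4822 (iv5 D14698)) (tt N20628 D31086) (tt N16714 (iv7 F40990)))
theorem Q10076 : ∀ i, i < 10076 → P i := stepQ 10075 Q10075 (allL N10075 (tt N20629 D31087) (tt N20630 D31088) (tt N20624 (iv2 F49473)) (tt N4824 F24372) (tt N20605 (iv4 F49460)) (tt N11965 (iv5 F318568)) (tt N4822 (iv6 D14699)) (tt N20631 D31090))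
theorem Q10077 : ∀ i, i < 10077 → P i := stepQ 10076 Q10076 (allL N10076 (tt N8303 F313315) (tt N10574 F313316) (tt N10573 (iv2 F315187)) (tt N20628 (iv3 F49475)) (tt N4954 F24373) (tt N11966 (iv5 F315753)) (tt N4823 (iv6 D14700)) (tt N10572 (iv7 F315407)))
theorem Q10078 : ∀ i, i < 10078 → P i := stepQ 10077 Q10077 (allL N10077 (tt N11979 F317302) (tt N4824 (iv0 D14701)) (tt N12516 F317303) (tt N20632 D31096) (tt N9042 (iv4 F53697)) (tt N8852 F317304) (tt N20633 D31099) (tt N16739 (iv7 F78658)))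
theorem Q10079 : ∀ i, i < 10079 → P i := stepQ 10078 Q10078 (allL N10078 (tt N4824 (iv1 D14702)) (tt N11979 F317305) (tt N16739 (iv2 F78657)) (tt N20634 D31101) (tt N9043 (iv4 F53663)) (tt N12517 F317306) (tt N20247 (iv6 F53546)) (tt N12516 F317307))
theorem Q10080 : ∀ i, i < 10080 → P i := stepQ 10079 Q10079 (allL N10079 (tt N16739 (iv1 F41028)) (tt N12516 (iv0 F315190)) (tt N11979 (iv2 F315193)) (tt N20631 (iv3 F49477)) (tt N4827 F24374) (tt N5106 F314553) (tt N16720 (iv6 F40998)) (tt N4824 (iv7 D14704)))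
theorem Q10081 : ∀ i, i < 10081 → P i := stepQ 10080 Q10080 (allL N10080 (tt N10844 (iv1 F316841)) (tt N4833 F53796) (tt N16740 (iv2 F49036)) (tt N20635 D31116) (tt N4825 (iv4 D14707)) (tt N5999 F316163) (tt N20636 D31118) (tt N16743 F49035))
theorem Q10082 : ∀ i, i < 10082 → P i := stepQ 10081 Q10081 (allL N10081 (tt N15992 F39506) (tt N15990 F39540) (tt N16741 F49009) (tt N20133 F161300) (tt N20636 (iv4 F49487)) (tt N15937 F39341) (tt N4825 (iv6 D14709)) (tt N20254 (iv7 F49006)))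
theorem Q10083 : ∀ i, i < 10083 → P i := stepQ 10082 Q10082 (allL N10082 (tt N16589 (iv1 F161275)) (tt N16637 (iv0 F161276)) (tt N16635 (iv2 F161272)) (tt N4826 (iv3 D14711)) (tt N20637 D31122) (tt N16742 (iv5 F41044)) (tt N20250 (iv6 F48999)) (tt N16634 (iv7 F161274)))
theorem Q10084 : ∀ i, i < 10084 → P i := stepQ 10083 Q10083 (allL N10083 (tt N4833 F53797) (tt N10844 (iv0 F316840)) (tt N16743 (iv2 F49034)) (tt N20638 D31123) (tt N4826 (iv4 D14712)) (tt N17946 F316161) (tt N20251 (iv6 F49000)) (tt N16740 (iv7 F49032)))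
theorem Q10085 : ∀ i, i < 10085 → P i := stepQ 10084 Q10084 (allL N10084 (tt N16754 (iv1 F41067)) (tt N4828 (iv0 D14713)) (tt N16753 F102956) (tt N20639 D31126) (tt N20640 D31127) (tt N20641 D31128) (tt N20642 D31129) (tt N16752 (iv7 F102964)))
theorem Q10086 : ∀ i, i < 10086 → P i := stepQ 10085 Q10085 (allL N10085 (tt N4828 (iv1 D14714)) (tt N16754 F41069) (tt N16752 (iv2 F102963)) (tt N12465 (iv3 F316690)) (tt N20643 D31132) (tt N20644 D31133) (tt N12462 (iv6 F318406)) (tt N16753 F102962))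
theorem Q10087 : ∀ i, i < 10087 → P i := stepQ 10086 Q10086 (allL N10086 (tt N16753 (iv1 F41068)) (tt N16752 F41064) (tt N4828 (iv2 D14715)) (tt N16746 (iv3 F41046)) (tt N20645 D31135) (tt N20646 D31136) (tt N20647 D31137) (tt N16754 (iv7 F41066)))
theorem Q10088 : ∀ i, i < 10088 → P i := stepQ 10087 Q10087 (allL N10087 (tt N20648 D31138) (tt N20649 D31139) (tt N20645 (iv2 F49490)) (tt N14792 (iv3 F37133)) (tt N4828 (iv4 D14716)) (tt N20650 D31140) (tt N20651 D31141) (tt N16755 (iv7 F41071)))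
theorem Q10089 : ∀ i, i < 10089 → P i := stepQ 10088 Q10088 (allL N10088 (tt N20652 D31142) (tt N20653 D31143) (tt N20646 (iv2 F49491)) (tt N4829 F24377) (tt N20654 D31144) (tt N4828 (iv5 D14717)) (tt N20655 D31145) (tt N16756 (iv7 F41073)))
theorem Q10090 : ∀ i, i < 10090 → P i := stepQ 10089 Q10089 (allL N10089 (tt N20656 D31146) (tt N20657 D31147) (tt N20647 (iv2 F49492)) (tt N4830 F24378) (tt N20651 (iv4 F49494)) (tt N20658 D31148) (tt N4828 (iv6 D14718)) (tt N20659 D31149))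
theorem Q10091 : ∀ i, i < 10091 → P i := stepQ 10090 Q10090 (allL N10090 (tt N4832 (iv1 F24381)) (tt N4829 (iv0 D14719)) (tt N9959 (iv2 F24382)) (tt N20660 D31150) (tt N4953 F24380) (tt N8153 F24379) (tt N20661 D31151) (tt N9953 (iv7 F24383)))
theorem Q10092 : ∀ i, i < 10092 → P i := stepQ 10091 Q10091 (allL N10091 (tt N4829 (iv1 D14720)) (tt N4832 F24384) (tt N9953 (iv2 F24388)) (tt N20662 D31152) (tt N4952 F24387) (tt N7611 F24386) (tt N20663 D31153) (tt N9959 F24385))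
theorem Q10093 : ∀ i, i < 10093 → P i := stepQ 10092 Q10092 (allL N10092 (tt N20664 D31154) (tt N20665 D31155) (tt N16749 (iv2 F41054)) (tt N20655 (iv3 F49496)) (tt N4941 F24389) (tt N16907 (iv5 F316219)) (tt N4829 (iv6 D14721)) (tt N20666 D31157))
theorem Q10094 : ∀ i, i < 10094 → P i := stepQ 10093 Q10093 (allL N10093 (tt N20667 D31158) (tt N20668 D31159) (tt N16750 (iv2 F41057)) (tt N20658 (iv3 F49497)) (tt N20669 D31160) (tt N4830 (iv5 D14724)) (tt N16907 (iv6 F316220)) (tt N20670 D31161))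
theorem Q10095 : ∀ i, i < 10095 → P i := stepQ 10094 Q10094 (allL N10094 (tt N16723 (iv1 F46732)) (tt N10442 (iv0 F315659)) (tt N16751 (iv2 F41058)) (tt N20659 (iv3 F49498)) (tt N14796 (iv4 F37138)) (tt N20670 (iv5 F49511)) (tt N10844 (iv6 F316844)) (tt N4830 (iv7 D14725)))
theorem Q10096 : ∀ i, i < 10096 → P i := stepQ 10095 Q10095 (allL N10095 (tt N16746 (iv1 F41048)) (tt N4831 (iv0 D14726)) (tt N16745 (iv2 F102858)) (tt N20671 D31163) (tt N20672 D31164) (tt N20673 D31165) (tt N20272 (iv6 F318356)) (tt N16744 F102857))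
theorem Q10097 : ∀ i, i < 10097 → P i := stepQ 10096 Q10096 (allL N10096 (tt N4831 (iv1 D14727)) (tt N16746 F41050) (tt N16744 F102851) (tt N20674 D31168) (tt N20675 D31169) (tt N20676 D31170) (tt N20677 D31171) (tt N16745 (iv7 F102859)))
theorem Q10098 : ∀ i, i < 10098 → P i := stepQ 10097 Q10097 (allL N10097 (tt N16745 (iv1 F41049)) (tt N16744 F41045) (tt N4831 (iv2 D14728)) (tt N16754 (iv3 F41065)) (tt N20678 D31172) (tt N20679 D31173) (tt N20680 D31174) (tt N16746 (iv7 F41047)))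
theorem Q10099 : ∀ i, i < 10099 → P i := stepQ 10098 Q10098 (allL N10098 (tt N20681 D31175) (tt N20682 D31176) (tt N20678 (iv2 F49514)) (tt N7731 F24390) (tt N4831 (iv4 D14729)) (tt N15775 (iv5 F39036)) (tt N20683 D31177) (tt N15135 (iv7 F37902)))
theorem Q10100 : ∀ i, i < 10100 → P i := stepQ 10099 Q10099 (allL N10099 (tt N20684 D31178) (tt N20685 D31179) (tt N20679 (iv2 F49515)) (tt N4832 F24391) (tt N20686 D31180) (tt N4831 (iv5 D14730)) (tt N20687 D31181) (tt N16747 (iv7 F41052)))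
theorem Q10101 : ∀ i, i < 10101 → P i := stepQ 10100 Q10100 (allL N10100 (tt N20688 D31182) (tt N20689 D31183) (tt N20680 (iv2 F49516)) (tt N4833 F24392) (tt N20683 (iv4 F49519)) (tt N10841 (iv5 F318408)) (tt N4831 (iv6 D14731)) (tt N20690 D31185))
theorem Q10102 : ∀ i, i < 10102 → P i := stepQ 10101 Q10101 (allL N10101 (tt N5228 F313406) (tt N17278 F313407) (tt N16758 (iv2 F41075)) (tt N20687 (iv3 F49521)) (tt N4929 F24393) (tt N10842 (iv5 F315903)) (tt N4832 (iv6 D14732)) (tt N17277 F313408))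
theorem Q10103 : ∀ i, i < 10103 → P i := stepQ 10102 Q10102 (allL N10102 (tt N16743 (iv1 F53801)) (tt N16740 (iv0 F53802)) (tt N10844 (iv2 F316842)) (tt N20690 (iv3 F49523)) (tt N14799 (iv4 F37147)) (tt N8395 (iv5 F316224)) (tt N16751 (iv6 F41060)) (tt N4833 (iv7 D14736)))
theorem Q10104 : ∀ i, i < 10104 → P i := stepQ 10103 Q10103 (allL N10103 (tt N4835 (iv1 F24396)) (tt N4834 (iv0 D14737)) (tt N4838 (iv2 F24394)) (tt N16759 (iv3 F41086)) (tt N20161 (iv4 F48880)) (tt N16964 (iv5 F41646)) (tt N20691 D31204) (tt N4836 F24395))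
theorem Q10105 : ∀ i, i < 10105 → P i := stepQ 10104 Q10104 (allL N10104 (tt N4838 F102987) (tt N4836 F102988) (tt N4834 (iv2 D14738)) (tt N20692 D31207) (tt N20693 D31208) (tt N20694 D31209) (tt N20695 D31210) (tt N4835 (iv7 F24397)))
theorem Q10106 : ∀ i, i < 10106 → P i := stepQ 10105 Q10105 (allL N10105 (tt N20674 (iv1 F102754)) (tt N20696 D31212) (tt N20697 D31213) (tt N4834 (iv3 D14739)) (tt N20698 D31214) (tt N20699 D31215) (tt N20700 D31216) (tt N20701 D31217))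
theorem Q10107 : ∀ i, i < 10107 → P i := stepQ 10106 Q10106 (allL N10106 (tt N20702 D31218) (tt N20703 D31219) (tt N20693 (iv2 F49533)) (tt N20704 D31220) (tt N4834 (iv4 D14740)) (tt N20705 D31221) (tt N20706 D31222) (tt N20707 D31223))
theorem Q10108 : ∀ i, i < 10108 → P i := stepQ 10107 Q10107 (allL N10107 (tt N20708 D31224) (tt N20662 F103074) (tt N20694 (iv2 F49535)) (tt N20699 (iv3 F49539)) (tt N20709 D31226) (tt N4834 (iv5 D14741)) (tt N20710 D31227) (tt N20711 D31228))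
theorem Q10109 : ∀ i, i < 10109 → P i := stepQ 10108 Q10108 (allL N10108 (tt N20712 D31229) (tt N20587 (iv0 F319170)) (tt N20695 (iv2 F49537)) (tt N20700 (iv3 F49540)) (tt N20706 (iv4 F49544)) (tt N20713 D31231) (tt N4834 (iv6 D14742)) (tt N20714 D31232))
theorem Q10110 : ∀ i, i < 10110 → P i := stepQ 10109 Q10109 (allL N10109 (tt N4836 (iv1 F102985)) (tt N4838 (iv0 F102986)) (tt N4835 F24398) (tt N20701 (iv3 F49541)) (tt N20707 (iv4 F49546)) (tt N20711 (iv5 F49550)) (tt N20715 D31233) (tt N4834 (iv7 D14743)))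
theorem Q10111 : ∀ i, i < 10111 → P i := stepQ 10110 Q10110 (allL N10110 (tt N20716 D31234) (tt N20639 F102949) (tt N20717 D31236) (tt N4835 (iv3 D14744)) (tt N20718 D31237) (tt N20719 D31238) (tt N20720 D31239) (tt N20692 (iv7 F49532)))
theorem Q10112 : ∀ i, i < 10112 → P i := stepQ 10111 Q10111 (allL N10111 (tt N20703 (iv1 F49543)) (tt N20702 F49547) (tt N20707 (iv2 F49545)) (tt N20721 D31240) (tt N4835 (iv4 D14745)) (tt N20722 D31241) (tt N20723 D31242) (tt N20693 (iv7 F49534)))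
theorem Q10113 : ∀ i, i < 10113 → P i := stepQ 10112 Q10112 (allL N10112 (tt N20662 F103075) (tt N20708 F49551) (tt N20711 (iv2 F49549)) (tt N20719 (iv3 F49554)) (tt N20724 D31243) (tt N4835 (iv5 D14746)) (tt N20725 D31244) (tt N20694 (iv7 F49536)))
theorem Q10114 : ∀ i, i < 10114 → P i := stepQ 10113 Q10113 (allL N10113 (tt N20635 F320570) (tt N20726 D31246) (tt N20715 (iv2 F49552)) (tt N20720 (iv3 F49555)) (tt N20723 (iv4 F49556)) (tt N20727 D31247) (tt N4835 (iv6 D14747)) (tt N20728 D31248))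
theorem Q10115 : ∀ i, i < 10115 → P i := stepQ 10114 Q10114 (allL N10114 (tt N16963 (iv1 F41649)) (tt N16962 F41644) (tt N4837 F24401) (tt N16770 (iv3 F41095)) (tt N20729 D31259) (tt N4836 (iv5 D14750)) (tt N20730 D31260) (tt N16964 (iv7 F41647)))
theorem Q10116 : ∀ i, i < 10116 → P i := stepQ 10115 Q10115 (allL N10115 (tt N16964 (iv1 F41648)) (tt N4837 (iv0 D14751)) (tt N16963 F205089) (tt N20731 D31262) (tt N20732 D31263) (tt N20375 F103146) (tt N11488 (iv6 F318079)) (tt N16962 F205090))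
theorem Q10117 : ∀ i, i < 10117 → P i := stepQ 10116 Q10116 (allL N10116 (tt N4837 (iv1 D14752)) (tt N16964 F41650) (tt N16962 (iv2 F205087)) (tt N20733 D31267) (tt N20734 D31268) (tt N20376 (iv5 F103142)) (tt N20733 F320247) (tt N16963 (iv7 F205088)))
theorem Q10118 : ∀ i, i < 10118 → P i := stepQ 10117 Q10117 (allL N10117 (tt N20735 D31271) (tt N20736 D31272) (tt N20729 (iv2 F49559)) (tt N16946 (iv3 F41606)) (tt N4837 (iv4 D14753)) (tt N20737 D31273) (tt N20738 D31274) (tt N16943 F41604))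
theorem Q10119 : ∀ i, i < 10119 → P i := stepQ 10118 Q10118 (allL N10118 (tt N20739 D31275) (tt N20740 D31276) (tt N20730 (iv2 F49560)) (tt N4841 F24402) (tt N20738 (iv4 F49563)) (tt N20292 (iv5 F49104)) (tt N4837 (iv6 D14754)) (tt N20741 D31277))
theorem Q10120 : ∀ i, i < 10120 → P i := stepQ 10119 Q10119 (allL N10119 (tt N20742 D31278) (tt N20743 D31279) (tt N20691 (iv2 F49529)) (tt N4842 F24403) (tt N20178 (iv4 F48894)) (tt N20744 D31280) (tt N4838 (iv6 D14755)) (tt N20293 (iv7 F49106)))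
theorem Q10121 : ∀ i, i < 10121 → P i := stepQ 10120 Q10120 (allL N10120 (tt N20641 F181696) (tt N20644 (iv0 F181697)) (tt N20745 D31283) (tt N4839 (iv3 D14756)) (tt N20746 D31284) (tt N4864 F24404) (tt N10599 F312525) (tt N16777 (iv7 F41110)))
theorem Q10122 : ∀ i, i < 10122 → P i := stepQ 10121 Q10121 (allL N10121 (tt N20673 (iv1 F166929)) (tt N20676 (iv0 F166930)) (tt N20747 D31292) (tt N4840 (iv3 D14758)) (tt N20748 D31293) (tt N4911 F24406) (tt N20749 D31294) (tt N16776 (iv7 F41106)))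
theorem Q10123 : ∀ i, i < 10123 → P i := stepQ 10122 Q10122 (allL N10122 (tt N20750 D31295) (tt N20751 D31296) (tt N16778 (iv2 F41111)) (tt N20749 (iv3 F49573)) (tt N4886 F24407) (tt N20752 D31297) (tt N4840 (iv6 D14759)) (tt N10606 F314008))
theorem Q10124 : ∀ i, i < 10124 → P i := stepQ 10123 Q10123 (allL N10123 (tt N16781 (iv1 F41119)) (tt N4841 (iv0 D14760)) (tt N16779 F182237) (tt N20753 D31300) (tt N18472 F104774) (tt N20754 D31302) (tt N20755 D31303) (tt N16780 (iv7 F182244)))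
theorem Q10125 : ∀ i, i < 10125 → P i := stepQ 10124 Q10124 (allL N10124 (tt N4841 (iv1 D14761)) (tt N16781 F41118) (tt N16780 (iv2 F182243)) (tt N20756 D31305) (tt N18473 F104777) (tt N20757 D31307) (tt N20758 D31308) (tt N16779 F182240))
theorem Q10126 : ∀ i, i < 10126 → P i := stepQ 10125 Q10125 (allL N10125 (tt N16780 (iv1 F41113)) (tt N16779 F41117) (tt N16781 (iv2 F41114)) (tt N20741 (iv3 F49564)) (tt N16978 (iv4 F41679)) (tt N20297 (iv5 F49109)) (tt N16969 (iv6 F41657)) (tt N4841 (iv7 D14762)))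
theorem Q10127 : ∀ i, i < 10127 → P i := stepQ 10126 Q10126 (allL N10126 (tt N11133 (iv1 F26236)) (tt N4842 (iv0 D14763)) (tt N16782 (iv2 F101301)) (tt N20759 D31310) (tt N14805 F101300) (tt N20760 D31312) (tt N20761 D31313) (tt N16783 (iv7 F101307)))
theorem Q10128 : ∀ i, i < 10128 → P i := stepQ 10127 Q10127 (allL N10127 (tt N4842 (iv1 D14764)) (tt N11133 F26235) (tt N16783 F101308) (tt N20762 D31315) (tt N14806 (iv4 F101310)) (tt N20763 D31317) (tt N20764 D31318) (tt N16782 F101309))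
theorem Q10129 : ∀ i, i < 10129 → P i := stepQ 10128 Q10128 (allL N10128 (tt N20765 D31319) (tt N20766 D31320) (tt N16784 (iv2 F41122)) (tt N20744 (iv3 F49565)) (tt N20767 D31321) (tt N4842 (iv5 D14765)) (tt N16968 (iv6 F41654)) (tt N20298 (iv7 F49110)))
theorem Q10130 : ∀ i, i < 10130 → P i := stepQ 10129 Q10129 (allL N10129 (tt N15812 (iv1 F168225)) (tt N16681 (iv0 F168226)) (tt N20303 F168210) (tt N4843 (iv3 D14767)) (tt N20768 D31325) (tt N20769 D31326) (tt N20770 D31327) (tt N16789 (iv7 F41132)))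
theorem Q10131 : ∀ i, i < 10131 → P i := stepQ 10130 Q10130 (allL N10130 (tt N15317 (iv1 F94128)) (tt N9051 (iv0 F94129)) (tt N16786 (iv2 F41125)) (tt N20771 D31330) (tt N4843 (iv4 D14768)) (tt N19123 (iv5 F314102)) (tt N20772 D31332) (tt N16790 (iv7 F41134)))
theorem Q10132 : ∀ i, i < 10132 → P i := stepQ 10131 Q10131 (allL N10131 (tt N20773 D31333) (tt N9973 (iv0 F24409)) (tt N16787 (iv2 F41127)) (tt N20769 (iv3 F49580)) (tt N20774 D31334) (tt N4843 (iv5 D14769)) (tt N19429 (iv6 F47609)) (tt N16791 (iv7 F41137)))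
theorem Q10133 : ∀ i, i < 10133 → P i := stepQ 10132 Q10132 (allL N10132 (tt N16725 F48045) (tt N20265 (iv0 F49047)) (tt N16788 (iv2 F41130)) (tt N20770 (iv3 F49581)) (tt N20772 (iv4 F49585)) (tt N9606 F24410) (tt N4843 (iv6 D14770)) (tt N19743 (iv7 F48209)))
theorem Q10134 : ∀ i, i < 10134 → P i := stepQ 10133 Q10133 (allL N10133 (tt N15060 (iv1 F163962)) (tt N15383 (iv0 F163963)) (tt N20418 (iv2 F163961)) (tt N4844 (iv3 D14772)) (tt N20775 D31338) (tt N20776 D31339) (tt N20777 D31340) (tt N16785 (iv7 F41124)))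
theorem Q10135 : ∀ i, i < 10135 → P i := stepQ 10134 Q10134 (allL N10134 (tt N9051 F94130) (tt N15317 F94131) (tt N16790 (iv2 F41133)) (tt N20778 D31341) (tt N4844 (iv4 D14773)) (tt N19122 (iv5 F315196)) (tt N20779 D31343) (tt N16786 (iv7 F41126)))
theorem Q10136 : ∀ i, i < 10136 → P i := stepQ 10135 Q10135 (allL N10135 (tt N9973 F39633) (tt N20773 F49589) (tt N16791 (iv2 F41135)) (tt N20776 (iv3 F49591)) (tt N20780 D31344) (tt N4844 (iv5 D14774)) (tt N9955 (iv6 F24412)) (tt N16787 (iv7 F41128)))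
theorem Q10137 : ∀ i, i < 10137 → P i := stepQ 10136 Q10136 (allL N10136 (tt N20254 (iv1 F49008)) (tt N16741 (iv0 F41040)) (tt N15992 (iv2 F39539)) (tt N20777 (iv3 F49593)) (tt N20779 (iv4 F49595)) (tt N7618 F24413) (tt N4844 (iv6 D14775)) (tt N15990 F39538))
theorem Q10138 : ∀ i, i < 10138 → P i := stepQ 10137 Q10137 (allL N10137 (tt N14783 F37128) (tt N20145 (iv0 F48863)) (tt N15407 (iv2 F38434)) (tt N4847 F24414) (tt N10064 F24416) (tt N4845 (iv5 D14776)) (tt N20781 D31345) (tt N9179 F24415))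
theorem Q10139 : ∀ i, i < 10139 → P i := stepQ 10138 Q10138 (allL N10138 (tt N9844 F37483) (tt N9732 F37485) (tt N9805 F24417) (tt N15504 (iv3 F38571)) (tt N20782 D31346) (tt N4846 (iv5 D14777)) (tt N20783 D31347) (tt N7932 F24418))
theorem Q10140 : ∀ i, i < 10140 → P i := stepQ 10139 Q10139 (allL N10139 (tt N9845 F24420) (tt N18642 F46322) (tt N16818 (iv2 F41220)) (tt N20784 D31348) (tt N4847 (iv4 D14778)) (tt N20785 D31349) (tt N20786 D31350) (tt N9180 F24419))
theorem Q10141 : ∀ i, i < 10141 → P i := stepQ 10140 Q10140 (allL N10140 (tt N20787 D31351) (tt N18383 F168091) (tt N16819 (iv2 F41222)) (tt N20781 (iv3 F49597)) (tt N20786 (iv4 F49612)) (tt N10140 F24421) (tt N4847 (iv6 D14779)) (tt N16121 (iv7 F39955)))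
theorem Q10142 : ∀ i, i < 10142 → P i := stepQ 10141 Q10141 (allL N10141 (tt N16826 (iv1 F41243)) (tt N16825 F41240) (tt N4852 F24422) (tt N20788 D31353) (tt N4848 (iv4 D14780)) (tt N20789 D31354) (tt N20790 D31355) (tt N15164 (iv7 F37948)))
theorem Q10143 : ∀ i, i < 10143 → P i := stepQ 10142 Q10142 (allL N10142 (tt N20791 D31356) (tt N20792 D31357) (tt N4853 F24423) (tt N7725 F24424) (tt N20790 (iv4 F49619)) (tt N18020 (iv5 F45121)) (tt N4848 (iv6 D14781)) (tt N20793 D31358))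
theorem Q10144 : ∀ i, i < 10144 → P i := stepQ 10143 Q10143 (allL N10143 (tt N4849 (iv1 D14783)) (tt N4857 F24425) (tt N4855 (iv2 F24440)) (tt N15412 F38440) (tt N19994 (iv4 F48677)) (tt N15301 (iv5 F38191)) (tt N8226 (iv6 F24426)) (tt N4854 (iv7 F24439)))
theorem Q10145 : ∀ i, i < 10145 → P i := stepQ 10144 Q10144 (allL N10144 (tt N4855 (iv1 F24434)) (tt N4854 (iv0 F24436)) (tt N4857 F24430) (tt N7727 F24431) (tt N10144 F24432) (tt N7721 F24433) (tt N15166 (iv6 F37956)) (tt N4849 (iv7 D14784)))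
theorem Q10146 : ∀ i, i < 10146 → P i := stepQ 10145 Q10145 (allL N10145 (tt N14776 (iv1 F38391)) (tt N15386 (iv0 F38390)) (tt N15408 F40861) (tt N4850 (iv3 D14785)) (tt N9999 F24442) (tt N15753 F39006) (tt N20794 D31359) (tt N15409 (iv7 F40859)))
theorem Q10147 : ∀ i, i < 10147 → P i := stepQ 10146 Q10146 (allL N10146 (tt N9810 F24443) (tt N19992 (iv0 F48670)) (tt N16823 (iv2 F41235)) (tt N20795 D31360) (tt N4850 (iv4 D14786)) (tt N20796 D31361) (tt N20797 D31362) (tt N16820 (iv7 F41226)))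
theorem Q10148 : ∀ i, i < 10148 → P i := stepQ 10147 Q10147 (allL N10147 (tt N20798 D31363) (tt N20799 D31364) (tt N16824 (iv2 F41237)) (tt N20794 (iv3 F49628)) (tt N20797 (iv4 F49631)) (tt N18032 (iv5 F45157)) (tt N4850 (iv6 D14787)) (tt N20800 D31365))
theorem Q10149 : ∀ i, i < 10149 → P i := stepQ 10148 Q10148 (allL N10148 (tt N16186 (iv1 F40102)) (tt N15431 (iv0 F39932)) (tt N18271 F45677) (tt N4851 (iv3 D14788)) (tt N20801 D31366) (tt N16109 F39931) (tt N20802 D31367) (tt N16822 (iv7 F41231)))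
theorem Q10150 : ∀ i, i < 10150 → P i := stepQ 10149 Q10149 (allL N10149 (tt N19992 (iv1 F48671)) (tt N9810 (iv0 F40136)) (tt N16820 (iv2 F41225)) (tt N20803 D31368) (tt N4851 (iv4 D14789)) (tt N20804 D31369) (tt N20805 D31370) (tt N16823 (iv7 F41236)))
theorem Q10151 : ∀ i, i < 10151 → P i := stepQ 10150 Q10150 (allL N10150 (tt N11145 F27061) (tt N20806 D31371) (tt N16821 (iv2 F41227)) (tt N20802 (iv3 F49636)) (tt N20805 (iv4 F49637)) (tt N18650 (iv5 F46341)) (tt N4851 (iv6 D14790)) (tt N20807 D31372))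
theorem Q10152 : ∀ i, i < 10152 → P i := stepQ 10151 Q10151 (allL N10151 (tt N15164 (iv1 F37950)) (tt N4852 (iv0 D14791)) (tt N16826 F41246) (tt N20808 D31373) (tt N16203 (iv4 F40141)) (tt N20809 D31374) (tt N20810 D31375) (tt N16825 F41242))
theorem Q10153 : ∀ i, i < 10153 → P i := stepQ 10152 Q10152 (allL N10152 (tt N4852 (iv1 D14792)) (tt N15164 F37949) (tt N16825 F41241) (tt N20811 D31376) (tt N16682 (iv4 F40913)) (tt N20812 D31377) (tt N20813 D31378) (tt N16826 (iv7 F41244)))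
theorem Q10154 : ∀ i, i < 10154 → P i := stepQ 10153 Q10153 (allL N10153 (tt N20814 D31379) (tt N20815 D31380) (tt N20816 D31381) (tt N4852 (iv3 D14793)) (tt N4864 F24444) (tt N20817 D31382) (tt N20818 D31383) (tt N16827 (iv7 F41248)))
theorem Q10155 : ∀ i, i < 10155 → P i := stepQ 10154 Q10154 (allL N10154 (tt N20819 D31384) (tt N20820 D31385) (tt N20789 (iv2 F49616)) (tt N20817 (iv3 F49645)) (tt N20821 D31386) (tt N4852 (iv5 D14794)) (tt N20822 D31387) (tt N16828 (iv7 F41249)))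
theorem Q10156 : ∀ i, i < 10156 → P i := stepQ 10155 Q10155 (allL N10155 (tt N20823 D31388) (tt N20824 D31389) (tt N20790 (iv2 F49618)) (tt N20818 (iv3 F49646)) (tt N4853 F24445) (tt N20825 D31390) (tt N4852 (iv6 D14795)) (tt N20826 D31391))
theorem Q10157 : ∀ i, i < 10157 → P i := stepQ 10156 Q10156 (allL N10156 (tt N20793 (iv1 F49627)) (tt N4853 (iv0 D14796)) (tt N20791 (iv2 F103492)) (tt N20827 D31393) (tt N20828 D31394) (tt N15778 F39044) (tt N20829 D31395) (tt N20792 F103491))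
theorem Q10158 : ∀ i, i < 10158 → P i := stepQ 10157 Q10157 (allL N10157 (tt N4853 (iv1 D14797)) (tt N20793 F49626) (tt N20792 F103487) (tt N20830 D31397) (tt N20831 D31398) (tt N15777 (iv5 F39040)) (tt N20832 D31399) (tt N20791 (iv7 F103493)))
theorem Q10159 : ∀ i, i < 10159 → P i := stepQ 10158 Q10158 (allL N10158 (tt N20833 D31400) (tt N20834 D31401) (tt N18020 (iv2 F45119)) (tt N4868 F24446) (tt N20835 D31402) (tt N4853 (iv5 D14798)) (tt N4856 F24447) (tt N20836 D31403))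
theorem Q10160 : ∀ i, i < 10160 → P i := stepQ 10159 Q10159 (allL N10159 (tt N20792 (iv1 F49621)) (tt N20791 F49625) (tt N20793 (iv2 F49623)) (tt N4869 F24448) (tt N20826 (iv4 F49657)) (tt N20836 (iv5 F49663)) (tt N16832 (iv6 F41254)) (tt N4853 (iv7 D14799)))
theorem Q10161 : ∀ i, i < 10161 → P i := stepQ 10160 Q10160 (allL N10160 (tt N15413 F38443) (tt N15387 F40234) (tt N15368 (iv2 F38326)) (tt N4854 (iv3 D14800)) (tt N9636 (iv4 F24450)) (tt N20837 D31404) (tt N7509 F24449) (tt N15412 (iv7 F38439)))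
theorem Q10162 : ∀ i, i < 10162 → P i := stepQ 10161 Q10161 (allL N10161 (tt N19995 (iv1 F48687)) (tt N9724 F24461) (tt N9200 F24451) (tt N15508 (iv3 F38584)) (tt N4854 (iv4 D14801)) (tt N15061 (iv5 F37776)) (tt N7332 F24452) (tt N19994 (iv7 F48676)))
theorem Q10163 : ∀ i, i < 10163 → P i := stepQ 10162 Q10162 (allL N10162 (tt N8872 (iv1 F24455)) (tt N5299 (iv0 F24454)) (tt N9203 F24453) (tt N20837 (iv3 F49665)) (tt N20838 D31405) (tt N4854 (iv5 D14802)) (tt N20839 D31406) (tt N15301 (iv7 F38194)))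
theorem Q10164 : ∀ i, i < 10164 → P i := stepQ 10163 Q10163 (allL N10163 (tt N16187 F40106) (tt N18275 F45688) (tt N18274 F45683) (tt N4855 (iv3 D14803)) (tt N7654 F24457) (tt N20840 D31407) (tt N20841 D31408) (tt N9198 F24456))
theorem Q10165 : ∀ i, i < 10165 → P i := stepQ 10164 Q10164 (allL N10164 (tt N9724 F24459) (tt N19995 F48686) (tt N19994 (iv2 F48679)) (tt N9929 (iv3 F24460)) (tt N4855 (iv4 D14804)) (tt N15062 F37779) (tt N15454 (iv6 F38510)) (tt N9200 F24458))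
theorem Q10166 : ∀ i, i < 10166 → P i := stepQ 10165 Q10165 (allL N10165 (tt N5299 (iv1 F24463)) (tt N8872 F24464) (tt N15301 F38192) (tt N20840 (iv3 F49672)) (tt N20842 D31409) (tt N4855 (iv5 D14805)) (tt N10264 F24592) (tt N9203 F24462))
theorem Q10167 : ∀ i, i < 10167 → P i := stepQ 10166 Q10166 (allL N10166 (tt N7667 F24467) (tt N7397 (iv0 F24469)) (tt N8226 F24465) (tt N20841 (iv3 F49677)) (tt N15454 (iv4 F38508)) (tt N8882 (iv5 F24468)) (tt N4855 (iv6 D14806)) (tt N8227 F24466))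
theorem Q10168 : ∀ i, i < 10168 → P i := stepQ 10167 Q10167 (allL N10167 (tt N14944 (iv1 F37489)) (tt N15083 F37814) (tt N15080 F37811) (tt N20275 (iv3 F49090)) (tt N4856 (iv4 D14807)) (tt N20843 D31410) (tt N20835 (iv6 F49661)) (tt N15079 F37809))
theorem Q10169 : ∀ i, i < 10169 → P i := stepQ 10168 Q10168 (allL N10168 (tt N19875 (iv1 F48501)) (tt N9775 (iv0 F24472)) (tt N18282 (iv2 F45718)) (tt N20844 D31411) (tt N4858 (iv4 D14808)) (tt N20845 D31412) (tt N20846 D31413) (tt N16793 (iv7 F41144)))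
theorem Q10170 : ∀ i, i < 10170 → P i := stepQ 10169 Q10169 (allL N10169 (tt N20847 D31414) (tt N20848 D31415) (tt N18283 (iv2 F45721)) (tt N4860 F24473) (tt N20846 (iv4 F49688)) (tt N7677 F24474) (tt N4858 (iv6 D14809)) (tt N20849 D31416))
theorem Q10171 : ∀ i, i < 10171 → P i := stepQ 10170 Q10170 (allL N10170 (tt N20850 D31417) (tt N20851 D31418) (tt N20852 D31419) (tt N4859 (iv3 D14810)) (tt N20844 (iv4 F49683)) (tt N20572 (iv5 F49424)) (tt N20853 D31420) (tt N9964 F24475))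
theorem Q10172 : ∀ i, i < 10172 → P i := stepQ 10171 Q10171 (allL N10171 (tt N20854 D31421) (tt N20855 D31422) (tt N9963 F24476) (tt N20853 (iv3 F49697)) (tt N4860 F24477) (tt N20856 D31423) (tt N4859 (iv6 D14811)) (tt N20857 D31424))
theorem Q10173 : ∀ i, i < 10173 → P i := stepQ 10172 Q10172 (allL N10172 (tt N16106 (iv1 F39913)) (tt N4860 (iv0 D14812)) (tt N16104 (iv2 F45454)) (tt N20858 D31425) (tt N20368 (iv4 F79951)) (tt N18122 (iv5 F45307)) (tt N20859 D31427) (tt N16105 F45456))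
theorem Q10174 : ∀ i, i < 10174 → P i := stepQ 10173 Q10173 (allL N10173 (tt N4860 (iv1 D14813)) (tt N16106 F39912) (tt N16105 F45453) (tt N20799 F168053) (tt N20369 (iv4 F49196)) (tt N18131 (iv5 F45323)) (tt N18801 (iv6 F47224)) (tt N16104 (iv7 F45451)))
theorem Q10175 : ∀ i, i < 10175 → P i := stepQ 10174 Q10174 (allL N10174 (tt N16105 (iv1 F39907)) (tt N16104 F39911) (tt N16106 (iv2 F39908)) (tt N20849 (iv3 F49689)) (tt N20857 (iv4 F49709)) (tt N7684 F24478) (tt N11148 (iv6 F27064)) (tt N4860 (iv7 D14814)))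
theorem Q10176 : ∀ i, i < 10176 → P i := stepQ 10175 Q10175 (allL N10175 (tt N14762 (iv1 F37075)) (tt N14763 F37074) (tt N4861 (iv2 D14816)) (tt N16792 (iv3 F41139)) (tt N20860 D31429) (tt N16084 (iv5 F39824)) (tt N20861 D31430) (tt N14772 (iv7 F37107)))
theorem Q10177 : ∀ i, i < 10177 → P i := stepQ 10176 Q10176 (allL N10176 (tt N15506 (iv1 F38582)) (tt N20862 D31431) (tt N20860 (iv2 F49717)) (tt N20863 D31432) (tt N4861 (iv4 D14817)) (tt N20864 D31433) (tt N20865 D31434) (tt N16102 (iv7 F39889)))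
theorem Q10178 : ∀ i, i < 10178 → P i := stepQ 10177 Q10177 (allL N10177 (tt N20866 D31435) (tt N20867 D31436) (tt N20861 (iv2 F49720)) (tt N4863 F24479) (tt N20865 (iv4 F49728)) (tt N9444 F24480) (tt N4861 (iv6 D14818)) (tt N20868 D31437))
theorem Q10179 : ∀ i, i < 10179 → P i := stepQ 10178 Q10178 (allL N10178 (tt N20869 D31438) (tt N20870 D31439) (tt N20871 D31440) (tt N4862 (iv3 D14819)) (tt N20863 (iv4 F49726)) (tt N20570 (iv5 F49420)) (tt N20872 D31441) (tt N9961 F24481))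
theorem Q10180 : ∀ i, i < 10180 → P i := stepQ 10179 Q10179 (allL N10179 (tt N9893 F24484) (tt N20873 D31442) (tt N9966 F24482) (tt N20872 (iv3 F49741)) (tt N4863 F24483) (tt N20874 D31443) (tt N4862 (iv6 D14820)) (tt N20875 D31444))
theorem Q10181 : ∀ i, i < 10181 → P i := stepQ 10180 Q10180 (allL N10180 (tt N4863 (iv1 D14821)) (tt N11148 F27068) (tt N11149 (iv2 F27069)) (tt N20876 D31445) (tt N20381 F49204) (tt N19210 (iv5 F47074)) (tt N11140 (iv6 F26243)) (tt N7488 F24485))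
theorem Q10182 : ∀ i, i < 10182 → P i := stepQ 10181 Q10181 (allL N10181 (tt N11149 (iv1 F27071)) (tt N7488 (iv0 F24487)) (tt N11148 F27066) (tt N20868 (iv3 F49733)) (tt N20875 (iv4 F49760)) (tt N9450 F24486) (tt N16106 (iv6 F39910)) (tt N4863 (iv7 D14822)))
theorem Q10183 : ∀ i, i < 10183 → P i := stepQ 10182 Q10182 (allL N10182 (tt N16835 (iv1 F41258)) (tt N4864 (iv0 D14823)) (tt N16834 F183015) (tt N20877 D31447) (tt N20878 D31448) (tt N20879 D31449) (tt N20880 D31450) (tt N16833 F183016))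
theorem Q10184 : ∀ i, i < 10184 → P i := stepQ 10183 Q10183 (allL N10183 (tt N4864 (iv1 D14824)) (tt N16835 F41260) (tt N16833 (iv2 F183013)) (tt N20881 D31452) (tt N20882 D31453) (tt N20883 D31454) (tt N20884 D31455) (tt N16834 (iv7 F183014)))
theorem Q10185 : ∀ i, i < 10185 → P i := stepQ 10184 Q10184 (allL N10184 (tt N16834 (iv1 F41259)) (tt N16833 F41255) (tt N4864 (iv2 D14825)) (tt N16797 (iv3 F41150)) (tt N20816 (iv4 F49644)) (tt N20745 (iv5 F49566)) (tt N17211 (iv6 F319496)) (tt N16835 (iv7 F41257)))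
theorem Q10186 : ∀ i, i < 10186 → P i := stepQ 10185 Q10185 (allL N10185 (tt N17196 (iv1 F319500)) (tt N17213 (iv0 F319501)) (tt N17211 (iv2 F319495)) (tt N4865 F24488) (tt N20818 (iv4 F49647)) (tt N10245 F317219) (tt N4864 (iv6 D14826)) (tt N17147 (iv7 F318344)))
theorem Q10187 : ∀ i, i < 10187 → P i := stepQ 10186 Q10186 (allL N10186 (tt N18291 F111381) (tt N18259 (iv0 F111384)) (tt N18289 (iv2 F101940)) (tt N4866 (iv3 D14832)) (tt N20885 D31483) (tt N10188 (iv5 F24494)) (tt N20886 D31484) (tt N16800 (iv7 F49809)))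
theorem Q10188 : ∀ i, i < 10188 → P i := stepQ 10187 Q10187 (allL N10187 (tt N11140 (iv1 F38188)) (tt N7484 (iv0 F24491)) (tt N11138 (iv2 F49818)) (tt N20886 (iv3 F49785)) (tt N5107 F315100) (tt N15299 F38184) (tt N4866 (iv6 D14834)) (tt N11139 (iv7 F49821)))
theorem Q10189 : ∀ i, i < 10189 → P i := stepQ 10188 Q10188 (allL N10188 (tt N14774 (iv1 F111391)) (tt N20887 D31495) (tt N20888 D31496) (tt N4867 (iv3 D14836)) (tt N20889 D31497) (tt N10186 F24494) (tt N20890 D31498) (tt N16799 (iv7 F49815)))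
theorem Q10190 : ∀ i, i < 10190 → P i := stepQ 10189 Q10189 (allL N10189 (tt N20891 D31502) (tt N20859 (iv0 F49716)) (tt N16801 (iv2 F49807)) (tt N20890 (iv3 F49797)) (tt N17060 (iv4 F317301)) (tt N20892 D31503) (tt N4867 (iv6 D14838)) (tt N20892 F49806))
theorem Q10191 : ∀ i, i < 10191 → P i := stepQ 10190 Q10190 (allL N10190 (tt N10726 (iv1 F317163)) (tt N4868 (iv0 D14839)) (tt N15222 (iv2 F76951)) (tt N20893 D31505) (tt N10243 F315183) (tt N15222 F38050) (tt N20894 D31507) (tt N10242 (iv7 F317322)))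
theorem Q10192 : ∀ i, i < 10192 → P i := stepQ 10191 Q10191 (allL N10191 (tt N4868 (iv1 D14840)) (tt N10726 (iv0 F317162)) (tt N10242 (iv2 F317319)) (tt N20895 D31509) (tt N8218 F315184) (tt N10242 (iv5 F317320)) (tt N14794 F38045) (tt N15222 (iv7 F76952)))
theorem Q10193 : ∀ i, i < 10193 → P i := stepQ 10192 Q10192 (allL N10192 (tt N10242 (iv1 F317318)) (tt N15222 F38048) (tt N10726 (iv2 F317164)) (tt N20836 (iv3 F49662)) (tt N8356 F315186) (tt N4869 F24495) (tt N15221 (iv6 F38041)) (tt N4868 (iv7 D14841)))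
theorem Q10194 : ∀ i, i < 10194 → P i := stepQ 10193 Q10193 (allL N10193 (tt N4870 (iv1 D14843)) (tt N9235 (iv0 F24500)) (tt N9240 F24498) (tt N15413 (iv3 F38441)) (tt N20896 D31511) (tt N15194 (iv5 F38009)) (tt N7897 (iv6 F24497)) (tt N9241 F24499))
theorem Q10195 : ∀ i, i < 10195 → P i := stepQ 10194 Q10194 (allL N10194 (tt N9241 (iv1 F24506)) (tt N9240 F24505) (tt N4870 (iv2 D14844)) (tt N16066 (iv3 F39766)) (tt N15502 (iv4 F38561)) (tt N20897 D31512) (tt N7669 F24503) (tt N9235 F24504))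
theorem Q10196 : ∀ i, i < 10196 → P i := stepQ 10195 Q10195 (allL N10195 (tt N7424 F37082) (tt N7427 F24509) (tt N20897 (iv2 F49843)) (tt N4871 F24507) (tt N20898 D31513) (tt N4870 (iv5 D14845)) (tt N10279 (iv6 F24610)) (tt N9242 F24508))
theorem Q10197 : ∀ i, i < 10197 → P i := stepQ 10196 Q10196 (allL N10196 (tt N20899 D31514) (tt N20900 D31515) (tt N20901 D31516) (tt N4872 (iv3 D14846)) (tt N4873 F24510) (tt N20902 D31517) (tt N9293 F24511) (tt N16270 (iv7 F40239)))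
theorem Q10198 : ∀ i, i < 10198 → P i := stepQ 10197 Q10197 (allL N10197 (tt N7999 F24512) (tt N8002 F24513) (tt N16078 (iv2 F39803)) (tt N20902 (iv3 F49855)) (tt N20903 D31518) (tt N4872 (iv5 D14847)) (tt N20904 D31519) (tt N16271 (iv7 F40240)))
theorem Q10199 : ∀ i, i < 10199 → P i := stepQ 10198 Q10198 (allL N10198 (tt N5662 (iv1 F26729)) (tt N4873 (iv0 D14848)) (tt N11215 (iv2 F27313)) (tt N17538 (iv3 F50521)) (tt N20905 D31521) (tt N16933 F41597) (tt N8485 F27314) (tt N16804 (iv7 F41181)))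
theorem Q10200 : ∀ i, i < 10200 → P i := stepQ 10199 Q10199 (allL N10199 (tt N4873 (iv1 D14849)) (tt N5662 F26735) (tt N16804 F41179) (tt N5004 F26796) (tt N20906 D31522) (tt N16932 F41591) (tt N18634 (iv6 F46294)) (tt N11215 (iv7 F27310)))
theorem Q10201 : ∀ i, i < 10201 → P i := stepQ 10200 Q10200 (allL N10200 (tt N11215 (iv1 F27312)) (tt N16804 F41180) (tt N4873 (iv2 D14850)) (tt N16803 (iv3 F41172)) (tt N20901 (iv4 F49851)) (tt N20907 D31523) (tt N9317 F24514) (tt N5662 (iv7 F26728)))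
theorem Q10202 : ∀ i, i < 10202 → P i := stepQ 10201 Q10201 (allL N10201 (tt N8273 (iv1 F28389)) (tt N8276 F41453) (tt N20907 (iv2 F49865)) (tt N4874 F24515) (tt N20908 D31524) (tt N4873 (iv5 D14851)) (tt N20909 D31525) (tt N10354 (iv7 F24706)))
theorem Q10203 : ∀ i, i < 10203 → P i := stepQ 10202 Q10202 (allL N10202 (tt N11022 F25900) (tt N20910 D31526) (tt N10357 (iv2 F24710)) (tt N20909 (iv3 F49869)) (tt N20380 (iv4 F49202)) (tt N9319 F24516) (tt N4874 (iv6 D14852)) (tt N20911 D31527))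
theorem Q10204 : ∀ i, i < 10204 → P i := stepQ 10203 Q10203 (allL N10203 (tt N16803 (iv1 F41176)) (tt N4875 (iv0 D14853)) (tt N16802 (iv2 F50956)) (tt N11203 F41171) (tt N20912 D31529) (tt N4977 (iv5 F50821)) (tt N20913 D31531) (tt N11168 F50820))
theorem Q10205 : ∀ i, i < 10205 → P i := stepQ 10204 Q10204 (allL N10204 (tt N4875 (iv1 D14854)) (tt N16803 F41178) (tt N11168 (iv2 F50817)) (tt N20914 D31533) (tt N19001 F50816) (tt N4978 (iv5 F50818)) (tt N11166 (iv6 F50819)) (tt N16802 (iv7 F50958)))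
theorem Q10206 : ∀ i, i < 10206 → P i := stepQ 10205 Q10205 (allL N10205 (tt N16802 (iv1 F41177)) (tt N11168 (iv0 F50809)) (tt N4875 (iv2 D14855)) (tt N5662 (iv3 F26727)) (tt N16807 (iv4 F41185)) (tt N10399 (iv5 F50753)) (tt N5659 F26764) (tt N16803 (iv7 F41175)))
theorem Q10207 : ∀ i, i < 10207 → P i := stepQ 10206 Q10206 (allL N10206 (tt N10402 F50756) (tt N10392 F50757) (tt N10399 (iv2 F50751)) (tt N4876 F24517) (tt N20915 D31540) (tt N4875 (iv5 D14856)) (tt N20916 D31541) (tt N10356 (iv7 F24709)))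
theorem Q10208 : ∀ i, i < 10208 → P i := stepQ 10207 Q10207 (allL N10207 (tt N20917 D31542) (tt N20918 D31543) (tt N10355 (iv2 F24707)) (tt N20916 (iv3 F49883)) (tt N20367 (iv4 F49195)) (tt N17030 (iv5 F41975)) (tt N4876 (iv6 D14857)) (tt N20919 D31544))
theorem Q10209 : ∀ i, i < 10209 → P i := stepQ 10208 Q10208 (allL N10208 (tt N16807 (iv1 F41188)) (tt N4877 (iv0 D14858)) (tt N16806 (iv2 F55512)) (tt N20920 D31546) (tt N20921 D31547) (tt N18441 F50947) (tt N7498 (iv6 F50948)) (tt N16805 (iv7 F55528)))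
theorem Q10210 : ∀ i, i < 10210 → P i := stepQ 10209 Q10209 (allL N10209 (tt N4877 (iv1 D14859)) (tt N16807 F41190) (tt N16805 (iv2 F55527)) (tt N11455 (iv3 F50152)) (tt N20922 D31552) (tt N18440 (iv5 F50964)) (tt N20923 D31554) (tt N16806 (iv7 F55514)))
theorem Q10211 : ∀ i, i < 10211 → P i := stepQ 10210 Q10210 (allL N10210 (tt N16806 (iv1 F41189)) (tt N16805 F41182) (tt N4877 (iv2 D14860)) (tt N16111 (iv3 F39934)) (tt N16803 (iv4 F41173)) (tt N20924 D31555) (tt N18218 (iv6 F45535)) (tt N16807 (iv7 F41187)))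
theorem Q10212 : ∀ i, i < 10212 → P i := stepQ 10211 Q10211 (allL N10211 (tt N9083 (iv1 F50766)) (tt N9087 F50761) (tt N20924 (iv2 F49889)) (tt N4878 F24518) (tt N20925 D31558) (tt N4877 (iv5 D14861)) (tt N20926 D31559) (tt N10306 (iv7 F24633)))
theorem Q10213 : ∀ i, i < 10213 → P i := stepQ 10212 Q10212 (allL N10212 (tt N20927 D31560) (tt N20928 D31561) (tt N10309 (iv2 F24637)) (tt N20926 (iv3 F49890)) (tt N20571 (iv4 F49423)) (tt N9380 F24519) (tt N4878 (iv6 D14862)) (tt N20929 D31562))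
theorem Q10214 : ∀ i, i < 10214 → P i := stepQ 10213 Q10213 (allL N10213 (tt N16111 (iv1 F39936)) (tt N4879 (iv0 D14863)) (tt N16110 (iv2 F55535)) (tt N20922 (iv3 F49888)) (tt N20930 D31564) (tt N14824 (iv5 F77016)) (tt N20931 D31566) (tt N15242 (iv7 F55534)))
theorem Q10215 : ∀ i, i < 10215 → P i := stepQ 10214 Q10214 (allL N10214 (tt N4879 (iv1 D14864)) (tt N16111 F39938) (tt N15242 (iv2 F55533)) (tt N20932 D31568) (tt N20933 D31569) (tt N14825 (iv5 F50935)) (tt N15238 (iv6 F55539)) (tt N16110 (iv7 F55536)))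
theorem Q10216 : ∀ i, i < 10216 → P i := stepQ 10215 Q10215 (allL N10215 (tt N16110 (iv1 F39937)) (tt N15242 (iv0 F54267)) (tt N4879 (iv2 D14865)) (tt N16807 (iv3 F41184)) (tt N11417 (iv4 F27758)) (tt N20934 D31572) (tt N11415 F27755) (tt N16111 (iv7 F39935)))
theorem Q10217 : ∀ i, i < 10217 → P i := stepQ 10216 Q10216 (allL N10216 (tt N20935 D31573) (tt N20936 D31574) (tt N11417 (iv2 F27757)) (tt N9068 F24520) (tt N4879 (iv4 D14866)) (tt N20937 D31575) (tt N8600 (iv6 F26707)) (tt N16077 (iv7 F39802)))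
theorem Q10218 : ∀ i, i < 10218 → P i := stepQ 10217 Q10217 (allL N10217 (tt N20938 D31576) (tt N20939 D31577) (tt N20934 (iv2 F49898)) (tt N4880 F24521) (tt N20568 F321649) (tt N4879 (iv5 D14867)) (tt N20940 D31579) (tt N10308 (iv7 F24636)))
theorem Q10219 : ∀ i, i < 10219 → P i := stepQ 10218 Q10218 (allL N10218 (tt N20941 D31580) (tt N20942 D31581) (tt N10307 (iv2 F24634)) (tt N20940 (iv3 F49903)) (tt N20573 (iv4 F49427)) (tt N10686 F26878) (tt N4880 (iv6 D14868)) (tt N20943 D31582))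
theorem Q10220 : ∀ i, i < 10220 → P i := stepQ 10219 Q10219 (allL N10219 (tt N20932 (iv1 F55395)) (tt N20944 D31590) (tt N20945 D31591) (tt N4881 (iv3 D14870)) (tt N18404 F45891) (tt N20946 D31592) (tt N20947 D31593) (tt N16842 (iv7 F50457)))
theorem Q10221 : ∀ i, i < 10221 → P i := stepQ 10220 Q10220 (allL N10220 (tt N20948 D31595) (tt N20949 D31596) (tt N16844 (iv2 F50478)) (tt N11471 (iv3 F50519)) (tt N4881 (iv4 D14871)) (tt N20950 D31598) (tt N20951 D31599) (tt N11461 (iv7 F50459)))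
theorem Q10222 : ∀ i, i < 10222 → P i := stepQ 10221 Q10221 (allL N10221 (tt N10301 (iv1 F50474)) (tt N8247 (iv0 F50471)) (tt N10303 (iv2 F50475)) (tt N20946 (iv3 F49913)) (tt N20952 D31603) (tt N4881 (iv5 D14872)) (tt N20953 D31604) (tt N10302 (iv7 F50461)))
theorem Q10223 : ∀ i, i < 10223 → P i := stepQ 10222 Q10222 (allL N10222 (tt N4895 (iv1 F50481)) (tt N9310 (iv0 F50485)) (tt N11151 (iv2 F50480)) (tt N20947 (iv3 F49914)) (tt N20951 (iv4 F49924)) (tt N9374 (iv5 F50482)) (tt N4881 (iv6 D14873)) (tt N5027 (iv7 F50483)))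
theorem Q10224 : ∀ i, i < 10224 → P i := stepQ 10223 Q10223 (allL N10223 (tt N20954 D31611) (tt N20920 (iv0 F49934)) (tt N20955 D31613) (tt N4882 (iv3 D14875)) (tt N11774 (iv4 F50464)) (tt N20956 D31615) (tt N5021 (iv6 F50465)) (tt N16843 (iv7 F50477)))
theorem Q10225 : ∀ i, i < 10225 → P i := stepQ 10224 Q10224 (allL N10224 (tt N20949 (iv1 F49920)) (tt N20948 (iv0 F49919)) (tt N11461 (iv2 F50458)) (tt N14809 (iv3 F37165)) (tt N4882 (iv4 D14876)) (tt N20957 D31617) (tt N5022 (iv6 F50470)) (tt N16844 (iv7 F50479)))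
theorem Q10226 : ∀ i, i < 10226 → P i := stepQ 10225 Q10225 (allL N10225 (tt N8247 (iv1 F50472)) (tt N10301 (iv0 F50473)) (tt N10302 (iv2 F50460)) (tt N20956 (iv3 F49935)) (tt N20958 D31619) (tt N4882 (iv5 D14877)) (tt N20959 D31620) (tt N10303 (iv7 F50476)))
theorem Q10227 : ∀ i, i < 10227 → P i := stepQ 10226 Q10226 (allL N10226 (tt N16847 (iv1 F41292)) (tt N16846 F41291) (tt N4884 F24524) (tt N11218 (iv3 F27321)) (tt N20960 D31625) (tt N4883 (iv5 D14879)) (tt N20961 D31626) (tt N16845 (iv7 F41288)))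
theorem Q10228 : ∀ i, i < 10228 → P i := stepQ 10227 Q10227 (allL N10227 (tt N20962 D31627) (tt N20963 D31628) (tt N4885 F24525) (tt N8478 F26689) (tt N10227 F24526) (tt N18625 (iv5 F46269)) (tt N4883 (iv6 D14880)) (tt N11048 (iv7 F26687)))
theorem Q10229 : ∀ i, i < 10229 → P i := stepQ 10228 Q10228 (allL N10228 (tt N16845 (iv1 F41290)) (tt N4884 (iv0 D14881)) (tt N16847 (iv2 F50443)) (tt N20964 D31630) (tt N20965 D31631) (tt N4923 F50442) (tt N20966 D31633) (tt N16846 (iv7 F50445)))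
theorem Q10230 : ∀ i, i < 10230 → P i := stepQ 10229 Q10229 (allL N10229 (tt N4884 (iv1 D14882)) (tt N16845 F41289) (tt N16846 F50446) (tt N20967 D31635) (tt N20968 D31636) (tt N4924 (iv5 F50449)) (tt N20969 D31638) (tt N16847 F50447))
theorem Q10231 : ∀ i, i < 10231 → P i := stepQ 10230 Q10230 (allL N10230 (tt N20970 D31639) (tt N20971 D31640) (tt N20960 (iv2 F49938)) (tt N20748 (iv3 F49572)) (tt N4884 (iv4 D14883)) (tt N20972 D31641) (tt N20973 D31642) (tt N16483 F316012))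
theorem Q10232 : ∀ i, i < 10232 → P i := stepQ 10231 Q10231 (allL N10231 (tt N20974 D31643) (tt N20975 D31644) (tt N20961 (iv2 F49939)) (tt N4886 F24527) (tt N20973 (iv4 F49944)) (tt N20577 F317980) (tt N4884 (iv6 D14884)) (tt N20976 D31646))
theorem Q10233 : ∀ i, i < 10233 → P i := stepQ 10232 Q10232 (allL N10232 (tt N11048 (iv1 F26693)) (tt N4885 (iv0 D14885)) (tt N20962 (iv2 F50641)) (tt N20977 D31648) (tt N20978 D31649) (tt N20979 D31650) (tt N5034 (iv6 F50633)) (tt N20963 (iv7 F50639)))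
theorem Q10234 : ∀ i, i < 10234 → P i := stepQ 10233 Q10233 (allL N10233 (tt N4885 (iv1 D14886)) (tt N11048 F26690) (tt N20963 (iv2 F50638)) (tt N20980 D31653) (tt N20981 D31654) (tt N20982 D31655) (tt N20963 (iv6 F50603)) (tt N20962 (iv7 F50643)))
theorem Q10235 : ∀ i, i < 10235 → P i := stepQ 10234 Q10234 (allL N10234 (tt N17036 (iv1 F50493)) (tt N17047 (iv0 F50494)) (tt N18625 (iv2 F46268)) (tt N4889 F24528) (tt N20983 D31659) (tt N4885 (iv5 D14887)) (tt N20577 F317316) (tt N20984 D31660))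
theorem Q10236 : ∀ i, i < 10236 → P i := stepQ 10235 Q10235 (allL N10235 (tt N20963 (iv1 F49941)) (tt N20962 F49940) (tt N11048 F26688) (tt N4890 F24529) (tt N10235 F24530) (tt N20984 (iv5 F49951)) (tt N4895 F24531) (tt N4885 (iv7 D14888)))
theorem Q10237 : ∀ i, i < 10237 → P i := stepQ 10236 Q10236 (allL N10236 (tt N16814 (iv1 F41209)) (tt N4886 (iv0 D14889)) (tt N16812 F182718) (tt N20985 D31662) (tt N18373 F318671) (tt N20986 D31664) (tt N20987 D31665) (tt N16813 (iv7 F182727)))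
theorem Q10238 : ∀ i, i < 10238 → P i := stepQ 10237 Q10237 (allL N10237 (tt N4886 (iv1 D14890)) (tt N16814 F41208) (tt N16813 (iv2 F182726)) (tt N14826 F318666) (tt N14829 F318667) (tt N20988 D31669) (tt N20989 D31670) (tt N16812 F182723))
theorem Q10239 : ∀ i, i < 10239 → P i := stepQ 10238 Q10238 (allL N10238 (tt N16813 (iv1 F41202)) (tt N16812 F41207) (tt N16814 (iv2 F41205)) (tt N20976 (iv3 F49947)) (tt N10606 (iv4 F313222)) (tt N16718 F314543) (tt N10605 F310981) (tt N4886 (iv7 D14892)))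
theorem Q10240 : ∀ i, i < 10240 → P i := stepQ 10239 Q10239 (allL N10239 (tt N20990 D31675) (tt N20923 (iv0 F54147)) (tt N20991 D31677) (tt N4887 (iv3 D14893)) (tt N16816 (iv4 F41216)) (tt N10716 (iv5 F25333)) (tt N5040 F24533) (tt N16815 (iv7 F41211)))
theorem Q10241 : ∀ i, i < 10241 → P i := stepQ 10240 Q10240 (allL N10240 (tt N20931 (iv1 F77018)) (tt N15247 (iv0 F77104)) (tt N20992 D31680) (tt N4888 (iv3 D14894)) (tt N20993 D31681) (tt N10714 (iv5 F25330)) (tt N20994 D31682) (tt N11511 F27916))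
theorem Q10242 : ∀ i, i < 10242 → P i := stepQ 10241 Q10241 (allL N10241 (tt N8478 F24536) (tt N8476 (iv0 F24537)) (tt N11047 F25946) (tt N20994 (iv3 F49959)) (tt N8552 F24534) (tt N10698 (iv5 F26516)) (tt N4888 (iv6 D14895)) (tt N5044 F24535))
theorem Q10243 : ∀ i, i < 10243 → P i := stepQ 10242 Q10242 (allL N10242 (tt N7435 F317317) (tt N10192 F317318) (tt N10191 F317319) (tt N20995 D31683) (tt N4889 (iv4 D14896)) (tt N10191 F317320) (tt N9035 F317321) (tt N10190 F317322))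
theorem Q10244 : ∀ i, i < 10244 → P i := stepQ 10243 Q10243 (allL N10243 (tt N5112 (iv1 F24539)) (tt N5110 F24540) (tt N11154 (iv2 F27080)) (tt N20984 (iv3 F49950)) (tt N10190 (iv4 F315183)) (tt N4890 F24538) (tt N20996 D31685) (tt N4889 (iv7 D14897)))
theorem Q10245 : ∀ i, i < 10245 → P i := stepQ 10244 Q10244 (allL N10244 (tt N14969 F37549) (tt N14878 (iv0 F37341)) (tt N11433 (iv2 F27783)) (tt N20997 D31686) (tt N4891 (iv4 D14898)) (tt N20998 D31687) (tt N5049 F24541) (tt N16282 (iv7 F40257)))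
theorem Q10246 : ∀ i, i < 10246 → P i := stepQ 10245 Q10245 (allL N10245 (tt N20999 D31688) (tt N18634 (iv0 F46296)) (tt N17449 (iv2 F43284)) (tt N4892 (iv3 D14899)) (tt N20997 (iv4 F49965)) (tt N10185 (iv5 F317219)) (tt N5051 F24542) (tt N16817 (iv7 F41219)))
theorem Q10247 : ∀ i, i < 10247 → P i := stepQ 10246 Q10246 (allL N10246 (tt N20913 (iv1 F54098)) (tt N11172 (iv0 F54104)) (tt N21000 D31691) (tt N4893 (iv3 D14900)) (tt N16815 (iv4 F41210)) (tt N10849 (iv5 F25602)) (tt N21001 D31692) (tt N16816 (iv7 F41218)))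
theorem Q10248 : ∀ i, i < 10248 → P i := stepQ 10247 Q10247 (allL N10247 (tt N11214 F27308) (tt N9313 (iv0 F24545)) (tt N11046 (iv2 F25939)) (tt N21001 (iv3 F49973)) (tt N4894 F24543) (tt N11027 (iv5 F25909)) (tt N4893 (iv6 D14901)) (tt N5056 F24544))
theorem Q10249 : ∀ i, i < 10249 → P i := stepQ 10248 Q10248 (allL N10248 (tt N19064 (iv1 F50564)) (tt N19076 (iv0 F50561)) (tt N19042 (iv2 F46836)) (tt N4896 F24547) (tt N21002 D31705) (tt N4895 (iv5 D14905)) (tt N21003 D31706) (tt N11152 (iv7 F27076)))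
theorem Q10250 : ∀ i, i < 10250 → P i := stepQ 10249 Q10249 (allL N10249 (tt N4922 (iv1 F24549)) (tt N4896 (iv0 D14906)) (tt N9551 F26683) (tt N8848 (iv3 F310457)) (tt N8850 (iv4 F311265)) (tt N5303 F24548) (tt N21004 D31708) (tt N9549 F24550))
theorem Q10251 : ∀ i, i < 10251 → P i := stepQ 10250 Q10250 (allL N10250 (tt N20232 F309239) (tt N21005 D31710) (tt N11153 (iv2 F27079)) (tt N21003 (iv3 F50010)) (tt N20270 (iv4 F49088)) (tt N20996 (iv5 F49964)) (tt N4896 (iv6 D14907)) (tt N21006 D31711))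
theorem Q10252 : ∀ i, i < 10252 → P i := stepQ 10251 Q10251 (allL N10251 (tt N19899 (iv1 F48557)) (tt N14780 (iv0 F39878)) (tt N18276 (iv2 F45693)) (tt N4902 F24569) (tt N9832 F24571) (tt N4901 (iv5 D14917)) (tt N21007 D31712) (tt N7689 F24570))
theorem Q10253 : ∀ i, i < 10253 → P i := stepQ 10252 Q10252 (allL N10252 (tt N18380 F100218) (tt N21008 D31714) (tt N7736 F24572) (tt N21007 (iv3 F50015)) (tt N15799 (iv4 F39068)) (tt N10252 F24573) (tt N4902 (iv6 D14918)) (tt N18026 (iv7 F45138)))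
theorem Q10254 : ∀ i, i < 10254 → P i := stepQ 10253 Q10253 (allL N10253 (tt N7710 (iv1 F38940)) (tt N7714 (iv0 F24577)) (tt N18295 F45744) (tt N4903 (iv3 D14919)) (tt N9937 F24576) (tt N9992 F24574) (tt N21009 D31715) (tt N9991 F24575))
theorem Q10255 : ∀ i, i < 10255 → P i := stepQ 10254 Q10254 (allL N10254 (tt N7358 F24578) (tt N7367 F24579) (tt N15151 (iv2 F37919)) (tt N21010 D31716) (tt N4903 (iv4 D14920)) (tt N15151 (iv5 F37920)) (tt N21011 D31717) (tt N15148 (iv7 F37912)))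
theorem Q10256 : ∀ i, i < 10256 → P i := stepQ 10255 Q10255 (allL N10255 (tt N18019 F45118) (tt N20876 F49765) (tt N15152 (iv2 F37924)) (tt N21009 (iv3 F50020)) (tt N21011 (iv4 F50024)) (tt N9402 F24580) (tt N4903 (iv6 D14921)) (tt N21012 D31718))
theorem Q10257 : ∀ i, i < 10257 → P i := stepQ 10256 Q10256 (allL N10256 (tt N15438 (iv1 F38488)) (tt N14768 (iv0 F37098)) (tt N18277 F45699) (tt N4904 (iv3 D14922)) (tt N9794 (iv4 F24582)) (tt N7983 F24581) (tt N21013 D31719) (tt N15150 (iv7 F37918)))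
theorem Q10258 : ∀ i, i < 10258 → P i := stepQ 10257 Q10257 (allL N10257 (tt N7367 F24583) (tt N7358 F24584) (tt N15148 (iv2 F37911)) (tt N21014 D31720) (tt N4904 (iv4 D14923)) (tt N15148 (iv5 F37913)) (tt N21015 D31721) (tt N15151 (iv7 F37921)))
theorem Q10259 : ∀ i, i < 10259 → P i := stepQ 10258 Q10258 (allL N10258 (tt N20858 (iv1 F100152)) (tt N21016 D31723) (tt N15149 (iv2 F37916)) (tt N21013 (iv3 F50026)) (tt N21015 (iv4 F50030)) (tt N7985 F24585) (tt N4904 (iv6 D14924)) (tt N21017 D31724))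
theorem Q10260 : ∀ i, i < 10260 → P i := stepQ 10259 Q10259 (allL N10259 (tt N7724 (iv1 F24587)) (tt N4905 (iv0 D14925)) (tt N15092 (iv2 F37844)) (tt N21018 D31725) (tt N7871 F24586) (tt N15092 (iv5 F37845)) (tt N21019 D31726) (tt N15090 (iv7 F37839)))
theorem Q10261 : ∀ i, i < 10261 → P i := stepQ 10260 Q10260 (allL N10260 (tt N4905 (iv1 D14926)) (tt N7724 F24588) (tt N15090 (iv2 F37838)) (tt N21020 D31727) (tt N7872 F24589) (tt N15090 (iv5 F37840)) (tt N21021 D31728) (tt N15092 (iv7 F37846)))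
theorem Q10262 : ∀ i, i < 10262 → P i := stepQ 10261 Q10261 (allL N10261 (tt N21022 D31729) (tt N21023 D31730) (tt N21024 D31731) (tt N4905 (iv3 D14927)) (tt N4911 F24590) (tt N15784 (iv5 F39055)) (tt N21025 D31732) (tt N15153 (iv7 F37928)))
theorem Q10263 : ∀ i, i < 10263 → P i := stepQ 10262 Q10262 (allL N10262 (tt N21026 D31733) (tt N21027 D31734) (tt N15168 (iv2 F37962)) (tt N21025 (iv3 F50036)) (tt N4906 F24591) (tt N21028 D31735) (tt N4905 (iv6 D14928)) (tt N21029 D31736))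
theorem Q10264 : ∀ i, i < 10264 → P i := stepQ 10263 Q10263 (allL N10263 (tt N15172 (iv1 F37971)) (tt N4906 (iv0 D14929)) (tt N15169 (iv2 F38199)) (tt N21030 D31737) (tt N21031 D31738) (tt N18080 (iv5 F45264)) (tt N21032 D31739) (tt N15170 F38198))
theorem Q10265 : ∀ i, i < 10265 → P i := stepQ 10264 Q10264 (allL N10264 (tt N4906 (iv1 D14930)) (tt N15172 F37970) (tt N15170 F38196) (tt N21033 D31740) (tt N21034 D31741) (tt N18035 (iv5 F45166)) (tt N10165 (iv6 F24592)) (tt N15169 (iv7 F38197)))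
theorem Q10266 : ∀ i, i < 10266 → P i := stepQ 10265 Q10265 (allL N10265 (tt N21035 D31742) (tt N21036 D31743) (tt N15171 (iv2 F37965)) (tt N4915 F24593) (tt N21037 D31744) (tt N4906 (iv5 D14931)) (tt N4909 F24594) (tt N21038 D31745))
theorem Q10267 : ∀ i, i < 10267 → P i := stepQ 10266 Q10266 (allL N10266 (tt N15170 (iv1 F37964)) (tt N15169 F37969) (tt N15172 (iv2 F37968)) (tt N4916 F24595) (tt N21029 (iv4 F50039)) (tt N21038 (iv5 F50045)) (tt N15158 (iv6 F37933)) (tt N4906 (iv7 D14932)))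
theorem Q10268 : ∀ i, i < 10268 → P i := stepQ 10267 Q10267 (allL N10267 (tt N15708 F38861) (tt N7715 F38446) (tt N18298 F45755) (tt N4907 (iv3 D14933)) (tt N7774 F24596) (tt N8945 F24597) (tt N15632 (iv6 F38724)) (tt N9390 F24598))
theorem Q10269 : ∀ i, i < 10269 → P i := stepQ 10268 Q10268 (allL N10268 (tt N15439 F38492) (tt N15677 F38804) (tt N18229 (iv2 F45575)) (tt N4908 (iv3 D14934)) (tt N9687 F24600) (tt N8947 F24601) (tt N7301 F24602) (tt N15173 (iv7 F37974)))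
theorem Q10270 : ∀ i, i < 10270 → P i := stepQ 10269 Q10269 (allL N10269 (tt N7958 F24603) (tt N7952 F24604) (tt N15174 (iv2 F37975)) (tt N21039 D31746) (tt N4909 (iv4 D14935)) (tt N21040 D31747) (tt N21037 (iv6 F50043)) (tt N15666 (iv7 F38785)))
theorem Q10271 : ∀ i, i < 10271 → P i := stepQ 10270 Q10270 (allL N10270 (tt N16797 (iv1 F41152)) (tt N4911 (iv0 D14936)) (tt N16796 F182494) (tt N21041 D31749) (tt N21042 D31750) (tt N21043 D31751) (tt N21044 D31752) (tt N16795 F182495))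
theorem Q10272 : ∀ i, i < 10272 → P i := stepQ 10271 Q10271 (allL N10271 (tt N4911 (iv1 D14937)) (tt N16797 F41154) (tt N16795 (iv2 F182492)) (tt N21045 D31754) (tt N21046 D31755) (tt N21047 D31756) (tt N21048 D31757) (tt N16796 (iv7 F182493)))
theorem Q10273 : ∀ i, i < 10273 → P i := stepQ 10272 Q10272 (allL N10272 (tt N16796 (iv1 F41153)) (tt N16795 F41149) (tt N4911 (iv2 D14938)) (tt N16835 (iv3 F41256)) (tt N21024 (iv4 F50035)) (tt N20747 (iv5 F49571)) (tt N21049 D31758) (tt N16797 (iv7 F41151)))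
theorem Q10274 : ∀ i, i < 10274 → P i := stepQ 10273 Q10273 (allL N10273 (tt N21050 D31759) (tt N21051 D31760) (tt N21049 (iv2 F50054)) (tt N4912 F24605) (tt N21025 (iv4 F50037)) (tt N21052 D31761) (tt N4911 (iv6 D14939)) (tt N21053 D31762))
theorem Q10275 : ∀ i, i < 10275 → P i := stepQ 10274 Q10274 (allL N10274 (tt N21054 D31763) (tt N17945 (iv0 F318337)) (tt N16837 (iv2 F41263)) (tt N21052 (iv3 F50055)) (tt N21055 D31765) (tt N4912 (iv5 D14942)) (tt N20752 (iv6 F49574)) (tt N21056 D31766))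
theorem Q10276 : ∀ i, i < 10276 → P i := stepQ 10275 Q10275 (allL N10275 (tt N15585 (iv1 F46773)) (tt N16700 (iv0 F46774)) (tt N16838 (iv2 F41264)) (tt N21053 (iv3 F50056)) (tt N4916 F24606) (tt N21056 (iv5 F50057)) (tt N5171 (iv6 F313711)) (tt N4912 (iv7 D14943)))
theorem Q10277 : ∀ i, i < 10277 → P i := stepQ 10276 Q10276 (allL N10276 (tt N21057 D31767) (tt N14779 (iv0 F50061)) (tt N21058 D31769) (tt N4913 (iv3 D14944)) (tt N21059 D31770) (tt N18118 (iv5 F45303)) (tt N21060 D31771) (tt N16841 (iv7 F41278)))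
theorem Q10278 : ∀ i, i < 10278 → P i := stepQ 10277 Q10277 (allL N10277 (tt N10018 F48929) (tt N8167 F48930) (tt N10015 (iv2 F47797)) (tt N21061 D31772) (tt N4913 (iv4 D14945)) (tt N21062 D31773) (tt N21063 D31774) (tt N10016 (iv7 F47796)))
theorem Q10279 : ∀ i, i < 10279 → P i := stepQ 10278 Q10278 (allL N10278 (tt N18801 (iv1 F46521)) (tt N18800 F46520) (tt N16840 (iv2 F41273)) (tt N21060 (iv3 F50058)) (tt N21063 (iv4 F50066)) (tt N9440 F24607) (tt N4913 (iv6 D14946)) (tt N9439 F24608))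
theorem Q10280 : ∀ i, i < 10280 → P i := stepQ 10279 Q10279 (allL N10279 (tt N18261 F45652) (tt N18305 F45766) (tt N18304 (iv2 F45765)) (tt N4914 (iv3 D14947)) (tt N21064 D31775) (tt N8957 F24609) (tt N10195 F24610) (tt N16839 (iv7 F41270)))
theorem Q10281 : ∀ i, i < 10281 → P i := stepQ 10280 Q10280 (allL N10280 (tt N8167 F48927) (tt N10018 F48928) (tt N10016 (iv2 F47793)) (tt N17982 (iv3 F313903)) (tt N4914 (iv4 D14948)) (tt N21065 D31777) (tt N9881 F24611) (tt N10015 (iv7 F47799)))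
theorem Q10282 : ∀ i, i < 10282 → P i := stepQ 10281 Q10281 (allL N10281 (tt N15665 (iv1 F38784)) (tt N4915 (iv0 D14949)) (tt N15663 (iv2 F78673)) (tt N21066 D31779) (tt N21067 D31780) (tt N21068 D31781) (tt N18148 (iv6 F45350)) (tt N15664 (iv7 F78650)))
theorem Q10283 : ∀ i, i < 10283 → P i := stepQ 10282 Q10282 (allL N10282 (tt N4915 (iv1 D14950)) (tt N15665 F38783) (tt N15664 (iv2 F78649)) (tt N21069 D31783) (tt N21070 D31784) (tt N18360 (iv5 F45830)) (tt N15664 F45833) (tt N15663 (iv7 F78674)))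
theorem Q10284 : ∀ i, i < 10284 → P i := stepQ 10283 Q10283 (allL N10283 (tt N20513 (iv1 F80376)) (tt N20515 (iv0 F49366)) (tt N15662 (iv2 F38776)) (tt N21071 D31786) (tt N4915 (iv4 D14951)) (tt N21072 D31787) (tt N4917 F24612) (tt N21073 D31788))
theorem Q10285 : ∀ i, i < 10285 → P i := stepQ 10284 Q10284 (allL N10284 (tt N15664 (iv1 F38778)) (tt N15663 F38782) (tt N15665 (iv2 F38779)) (tt N21038 (iv3 F50044)) (tt N21073 (iv4 F50084)) (tt N4916 F24613) (tt N7893 F24614) (tt N4915 (iv7 D14952)))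
theorem Q10286 : ∀ i, i < 10286 → P i := stepQ 10285 Q10285 (allL N10285 (tt N18137 (iv1 F170984)) (tt N14678 F323118) (tt N21074 D31791) (tt N4917 (iv3 D14953)) (tt N21039 (iv4 F50048)) (tt N15661 (iv5 F38774)) (tt N21071 (iv6 F50082)) (tt N15668 (iv7 F38791)))
theorem Q10287 : ∀ i, i < 10287 → P i := stepQ 10286 Q10286 (allL N10286 (tt N20921 F49886) (tt N20922 (iv0 F50150)) (tt N21075 D31793) (tt N4918 (iv3 D14960)) (tt N11178 (iv4 F27115)) (tt N21076 D31794) (tt N7502 F26632) (tt N5012 F26633))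
theorem Q10288 : ∀ i, i < 10288 → P i := stepQ 10287 Q10287 (allL N10287 (tt N8240 F26635) (tt N10318 F26636) (tt N10316 F26637) (tt N21076 (iv3 F50092)) (tt N21077 D31795) (tt N4918 (iv5 D14962)) (tt N21078 D31796) (tt N5014 F26638))
theorem Q10289 : ∀ i, i < 10289 → P i := stepQ 10288 Q10288 (allL N10288 (tt N16809 (iv1 F41195)) (tt N16808 F41192) (tt N4920 F24617) (tt N16845 (iv3 F41287)) (tt N21079 D31797) (tt N4919 (iv5 D14964)) (tt N21080 D31798) (tt N11218 (iv7 F27322)))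
theorem Q10290 : ∀ i, i < 10290 → P i := stepQ 10289 Q10289 (allL N10289 (tt N11218 (iv1 F27324)) (tt N4920 (iv0 D14966)) (tt N16809 F41198) (tt N21081 D31799) (tt N21082 D31800) (tt N4931 F26681) (tt N21083 D31801) (tt N16808 F41194))
theorem Q10291 : ∀ i, i < 10291 → P i := stepQ 10290 Q10290 (allL N10290 (tt N4920 (iv1 D14967)) (tt N11218 (iv0 F27323)) (tt N16808 F41193) (tt N21084 D31802) (tt N21085 D31803) (tt N4930 F26893) (tt N21086 D31804) (tt N16809 (iv7 F41196)))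
theorem Q10292 : ∀ i, i < 10292 → P i := stepQ 10291 Q10291 (allL N10291 (tt N21087 D31805) (tt N21088 D31806) (tt N21079 (iv2 F50099)) (tt N20746 (iv3 F49567)) (tt N4920 (iv4 D14968)) (tt N21089 D31807) (tt N21090 D31808) (tt N16810 (iv7 F41199)))
theorem Q10293 : ∀ i, i < 10293 → P i := stepQ 10292 Q10292 (allL N10292 (tt N21091 D31809) (tt N21092 D31810) (tt N21080 (iv2 F50101)) (tt N4921 F24619) (tt N21090 (iv4 F50113)) (tt N19041 (iv5 F46835)) (tt N4920 (iv6 D14969)) (tt N21093 D31811))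
theorem Q10294 : ∀ i, i < 10294 → P i := stepQ 10293 Q10293 (allL N10293 (tt N10605 (iv1 F308795)) (tt N4921 (iv0 D14973)) (tt N10692 (iv2 F308800)) (tt N21094 D31813) (tt N4943 (iv4 F309102)) (tt N10682 F307192) (tt N21095 D31816) (tt N16848 F131105))
theorem Q10295 : ∀ i, i < 10295 → P i := stepQ 10294 Q10294 (allL N10294 (tt N4921 (iv1 D14974)) (tt N10605 (iv0 F308794)) (tt N16848 F131099) (tt N6743 (iv3 F308779)) (tt N10578 (iv4 F308790)) (tt N6742 F307005) (tt N21096 D31821) (tt N10692 (iv7 F308801)))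
theorem Q10296 : ∀ i, i < 10296 → P i := stepQ 10295 Q10295 (allL N10295 (tt N8326 (iv1 F311021)) (tt N8300 F308908) (tt N10622 (iv2 F309099)) (tt N19041 (iv3 F46834)) (tt N8619 (iv4 F309460)) (tt N4921 (iv5 D14975)) (tt N4922 F24621) (tt N10621 F308909))
theorem Q10297 : ∀ i, i < 10297 → P i := stepQ 10296 Q10296 (allL N10296 (tt N16848 (iv1 F41295)) (tt N10692 (iv0 F308798)) (tt N10605 (iv2 F308796)) (tt N21093 (iv3 F50115)) (tt N8312 (iv4 F309101)) (tt N10621 (iv5 F307990)) (tt N16814 (iv6 F41206)) (tt N4921 (iv7 D14976)))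
theorem Q10298 : ∀ i, i < 10298 → P i := stepQ 10297 Q10297 (allL N10297 (tt N14819 (iv1 F77028)) (tt N18420 (iv0 F50769)) (tt N21097 D31826) (tt N4923 (iv3 D14978)) (tt N10374 F24723) (tt N20964 (iv5 F50444)) (tt N17046 (iv6 F42004)) (tt N16858 F41363))
theorem Q10299 : ∀ i, i < 10299 → P i := stepQ 10298 Q10298 (allL N10298 (tt N10405 (iv1 F24790)) (tt N10391 F24795) (tt N10334 F41361) (tt N10351 (iv3 F26819)) (tt N4923 (iv4 D14979)) (tt N21098 D31828) (tt N10898 (iv6 F51001)) (tt N10404 (iv7 F41362)))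
theorem Q10300 : ∀ i, i < 10300 → P i := stepQ 10299 Q10299 (allL N10299 (tt N16325 F40342) (tt N16330 (iv0 F45975)) (tt N18418 (iv2 F50394)) (tt N4924 (iv3 D14983)) (tt N21099 D31833) (tt N20967 (iv5 F50448)) (tt N5078 F41349) (tt N16859 (iv7 F41375)))
theorem Q10301 : ∀ i, i < 10301 → P i := stepQ 10300 Q10300 (allL N10300 (tt N10391 (iv1 F24797)) (tt N10405 (iv0 F24796)) (tt N10404 F41350) (tt N8261 (iv3 F24624)) (tt N4924 (iv4 D14984)) (tt N21100 D31835) (tt N5079 F41351) (tt N10334 F41352))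
theorem Q10302 : ∀ i, i < 10302 → P i := stepQ 10301 Q10301 (allL N10301 (tt N10225 F50473) (tt N10221 F50474) (tt N4926 F24625) (tt N4932 F26628) (tt N21101 D31838) (tt N4925 (iv5 D14987)) (tt N21102 D31839) (tt N16861 (iv7 F41385)))
theorem Q10303 : ∀ i, i < 10303 → P i := stepQ 10302 Q10302 (allL N10302 (tt N16861 (iv1 F41389)) (tt N4926 (iv0 D14989)) (tt N10225 F50460) (tt N21103 D31840) (tt N21104 D31841) (tt N8233 F50412) (tt N21105 D31842) (tt N10221 F50461))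
theorem Q10304 : ∀ i, i < 10304 → P i := stepQ 10303 Q10303 (allL N10303 (tt N4926 (iv1 D14990)) (tt N16861 F41386) (tt N10221 F50475) (tt N21106 D31843) (tt N21107 D31844) (tt N8234 F50419) (tt N21108 D31845) (tt N10225 F50476))
theorem Q10305 : ∀ i, i < 10305 → P i := stepQ 10304 Q10304 (allL N10304 (tt N21109 D31846) (tt N21110 D31847) (tt N21101 (iv2 F50135)) (tt N20686 (iv3 F49520)) (tt N4926 (iv4 D14991)) (tt N21111 D31848) (tt N21112 D31849) (tt N16863 (iv7 F41397)))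
theorem Q10306 : ∀ i, i < 10306 → P i := stepQ 10305 Q10305 (allL N10305 (tt N21113 D31850) (tt N21114 D31851) (tt N21102 (iv2 F50136)) (tt N4929 F24628) (tt N21112 (iv4 F50141)) (tt N21102 (iv5 F50138)) (tt N4926 (iv6 D14992)) (tt N21115 D31852))
theorem Q10307 : ∀ i, i < 10307 → P i := stepQ 10306 Q10306 (allL N10306 (tt N18427 (iv1 F54316)) (tt N18417 (iv0 F54306)) (tt N18424 (iv2 F50762)) (tt N4927 (iv3 D14997)) (tt N21116 D31856) (tt N8214 F24632) (tt N21117 D31857) (tt N10211 F24633))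
theorem Q10308 : ∀ i, i < 10308 → P i := stepQ 10307 Q10307 (allL N10307 (tt N21118 D31858) (tt N21119 D31859) (tt N10218 F24634) (tt N21117 (iv3 F50155)) (tt N20389 (iv4 F49212)) (tt N10616 (iv5 F26490)) (tt N4927 (iv6 D14998)) (tt N21120 D31860))
theorem Q10309 : ∀ i, i < 10309 → P i := stepQ 10308 Q10308 (allL N10308 (tt N14816 (iv1 F50926)) (tt N14821 (iv0 F50327)) (tt N21121 D31863) (tt N4928 (iv3 D14999)) (tt N21122 D31864) (tt N7899 F24635) (tt N21123 D31865) (tt N10217 F24636))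
theorem Q10310 : ∀ i, i < 10310 → P i := stepQ 10309 Q10309 (allL N10309 (tt N18621 F46239) (tt N21124 D31866) (tt N10212 F24637) (tt N21123 (iv3 F50170)) (tt N20398 (iv4 F49218)) (tt N9555 F24638) (tt N4928 (iv6 D15000)) (tt N21125 D31867))
theorem Q10311 : ∀ i, i < 10311 → P i := stepQ 10310 Q10310 (allL N10310 (tt N16855 (iv1 F41318)) (tt N4929 (iv0 D15001)) (tt N16853 (iv2 F131513)) (tt N17872 (iv3 F313331)) (tt N5038 (iv4 F313318)) (tt N21126 D31871) (tt N5047 F311068) (tt N16854 F131512))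
theorem Q10312 : ∀ i, i < 10312 → P i := stepQ 10311 Q10311 (allL N10311 (tt N4929 (iv1 D15002)) (tt N16855 F41317) (tt N16854 F131506) (tt N21127 D31874) (tt N16995 F313946) (tt N21128 D31876) (tt N21129 D31877) (tt N16853 (iv7 F131514)))
theorem Q10313 : ∀ i, i < 10313 → P i := stepQ 10312 Q10312 (allL N10312 (tt N21130 D31878) (tt N21131 D31879) (tt N16852 (iv2 F41310)) (tt N21102 (iv3 F50137)) (tt N21132 D31880) (tt N4929 (iv5 D15003)) (tt N4932 F24639) (tt N21133 D31881))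
theorem Q10314 : ∀ i, i < 10314 → P i := stepQ 10313 Q10313 (allL N10313 (tt N16854 (iv1 F41313)) (tt N16853 F41316) (tt N16855 (iv2 F41314)) (tt N21115 (iv3 F50142)) (tt N17277 F313945) (tt N21133 (iv5 F50185)) (tt N16870 (iv6 F41408)) (tt N4929 (iv7 D15004)))
theorem Q10315 : ∀ i, i < 10315 → P i := stepQ 10314 Q10314 (allL N10314 (tt N18423 (iv1 F54313)) (tt N14814 (iv0 F50302)) (tt N18421 F45952) (tt N4930 (iv3 D15005)) (tt N10394 F26587) (tt N21084 (iv5 F50105)) (tt N5111 F24640) (tt N16850 (iv7 F41305)))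
theorem Q10316 : ∀ i, i < 10316 → P i := stepQ 10315 Q10315 (allL N10315 (tt N14817 (iv1 F50928)) (tt N18430 (iv0 F54332)) (tt N18429 F45965) (tt N4931 (iv3 D15007)) (tt N10344 (iv4 F26624)) (tt N21081 (iv5 F50103)) (tt N5097 F26511) (tt N16849 (iv7 F41302)))
theorem Q10317 : ∀ i, i < 10317 → P i := stepQ 10316 Q10316 (allL N10316 (tt N4932 (iv1 D15009)) (tt N4939 F26588) (tt N10287 (iv2 F26637)) (tt N21134 D31885) (tt N21135 D31886) (tt N5485 F24642) (tt N21136 D31887) (tt N5484 F24641))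
theorem Q10318 : ∀ i, i < 10318 → P i := stepQ 10317 Q10317 (allL N10317 (tt N10493 (iv1 F24863)) (tt N21137 D31888) (tt N16851 (iv2 F41307)) (tt N21138 D31889) (tt N4932 (iv4 D15010)) (tt N16810 (iv5 F41200)) (tt N21132 (iv6 F50184)) (tt N21089 (iv7 F50110)))
theorem Q10319 : ∀ i, i < 10319 → P i := stepQ 10318 Q10318 (allL N10318 (tt N10287 (iv1 F26636)) (tt N5484 (iv0 F24644)) (tt N4939 F26586) (tt N16861 (iv3 F41384)) (tt N21089 (iv4 F50111)) (tt N4933 F24643) (tt N21139 D31890) (tt N4932 (iv7 D15011)))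
theorem Q10320 : ∀ i, i < 10320 → P i := stepQ 10319 Q10319 (allL N10319 (tt N7403 (iv1 F24648)) (tt N4934 (iv0 D15012)) (tt N8902 (iv2 F24647)) (tt N19550 F47960) (tt N16204 (iv4 F40145)) (tt N8222 F24646) (tt N8894 F24645) (tt N8881 F24649))
theorem Q10321 : ∀ i, i < 10321 → P i := stepQ 10320 Q10320 (allL N10320 (tt N8902 (iv1 F24655)) (tt N8881 F24654) (tt N4934 (iv2 D15013)) (tt N7279 F24650) (tt N10320 F24651) (tt N7728 F24652) (tt N16063 (iv6 F39754)) (tt N7403 F24653))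
theorem Q10322 : ∀ i, i < 10322 → P i := stepQ 10321 Q10321 (allL N10321 (tt N16317 F40331) (tt N14719 (iv0 F36970)) (tt N16306 (iv2 F40303)) (tt N16872 (iv3 F41418)) (tt N4935 (iv4 D15014)) (tt N21140 D31891) (tt N5118 F24656) (tt N16307 (iv7 F40308)))
theorem Q10323 : ∀ i, i < 10323 → P i := stepQ 10322 Q10322 (allL N10322 (tt N11216 (iv1 F27318)) (tt N11213 (iv0 F27301)) (tt N16856 (iv2 F41319)) (tt N16873 (iv3 F41422)) (tt N21088 (iv4 F50108)) (tt N4936 (iv5 D15016)) (tt N21141 D31892) (tt N16857 (iv7 F41325)))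
theorem Q10324 : ∀ i, i < 10324 → P i := stepQ 10323 Q10323 (allL N10323 (tt N4968 F26797) (tt N10398 F26798) (tt N10395 (iv2 F26815)) (tt N4937 (iv3 D15017)) (tt N16850 (iv4 F41303)) (tt N21142 D31893) (tt N5177 F26811) (tt N10394 F26812))
theorem Q10325 : ∀ i, i < 10325 → P i := stepQ 10324 Q10324 (allL N10324 (tt N11213 (iv1 F27302)) (tt N11216 (iv0 F27317)) (tt N16857 (iv2 F41323)) (tt N21142 (iv3 F50200)) (tt N21087 (iv4 F50107)) (tt N4937 (iv5 D15018)) (tt N21143 D31894) (tt N16856 (iv7 F41320)))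
theorem Q10326 : ∀ i, i < 10326 → P i := stepQ 10325 Q10325 (allL N10325 (tt N21137 (iv1 F50194)) (tt N10493 (iv0 F26929)) (tt N21089 (iv2 F50109)) (tt N20654 (iv3 F49495)) (tt N4939 (iv4 D15043)) (tt N21079 (iv5 F50100)) (tt N21144 D31895) (tt N16851 (iv7 F41308)))
theorem Q10327 : ∀ i, i < 10327 → P i := stepQ 10326 Q10326 (allL N10326 (tt N21145 D31896) (tt N21146 D31897) (tt N21139 (iv2 F50198)) (tt N4941 F24679) (tt N21144 (iv4 F50202)) (tt N21147 D31898) (tt N4939 (iv6 D15044)) (tt N21148 D31899))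
theorem Q10328 : ∀ i, i < 10328 → P i := stepQ 10327 Q10327 (allL N10327 (tt N5508 F26551) (tt N5512 F26552) (tt N10578 F26553) (tt N4943 F24680) (tt N16848 F307191) (tt N4940 (iv5 D15047)) (tt N21147 (iv6 F50204)) (tt N4943 F26554))
theorem Q10329 : ∀ i, i < 10329 → P i := stepQ 10328 Q10328 (allL N10328 (tt N16870 (iv1 F41411)) (tt N4941 (iv0 D15049)) (tt N16867 (iv2 F77379)) (tt N21149 D31902) (tt N21150 D31903) (tt N10049 (iv5 F317324)) (tt N10052 F315627) (tt N16868 (iv7 F77378)))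
theorem Q10330 : ∀ i, i < 10330 → P i := stepQ 10329 Q10329 (allL N10329 (tt N4941 (iv1 D15050)) (tt N16870 F41410) (tt N16868 (iv2 F77377)) (tt N21151 D31907) (tt N21152 D31908) (tt N21153 D31909) (tt N18614 (iv6 F52090)) (tt N16867 (iv7 F77380)))
theorem Q10331 : ∀ i, i < 10331 → P i := stepQ 10330 Q10330 (allL N10330 (tt N21154 D31911) (tt N21155 D31912) (tt N16869 (iv2 F41405)) (tt N21147 (iv3 F50203)) (tt N21095 F311236) (tt N4941 (iv5 D15051)) (tt N4943 F24682) (tt N21156 D31914))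
theorem Q10332 : ∀ i, i < 10332 → P i := stepQ 10331 Q10331 (allL N10331 (tt N16868 (iv1 F41404)) (tt N16867 F41409) (tt N16870 (iv2 F41407)) (tt N21148 (iv3 F50205)) (tt N20666 (iv4 F49508)) (tt N21156 (iv5 F50216)) (tt N16855 (iv6 F41315)) (tt N4941 (iv7 D15052)))
theorem Q10333 : ∀ i, i < 10333 → P i := stepQ 10332 Q10332 (allL N10332 (tt N18433 (iv1 F54174)) (tt N14822 (iv0 F54290)) (tt N21157 D31917) (tt N4942 (iv3 D15053)) (tt N21158 D31918) (tt N16996 (iv5 F41813)) (tt N9550 F26911) (tt N9542 F24683))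
theorem Q10334 : ∀ i, i < 10334 → P i := stepQ 10333 Q10333 (allL N10333 (tt N10409 (iv1 F53997)) (tt N4975 (iv0 F53998)) (tt N21159 D31922) (tt N4945 (iv3 D15056)) (tt N11806 (iv4 F28409)) (tt N17454 (iv5 F43300)) (tt N9336 F24687) (tt N9526 F24688))
theorem Q10335 : ∀ i, i < 10335 → P i := stepQ 10334 Q10334 (allL N10334 (tt N4972 F24794) (tt N10396 (iv0 F24755)) (tt N10298 (iv2 F41361)) (tt N4946 (iv3 D15060)) (tt N8245 F24693) (tt N21160 D31923) (tt N21161 D31924) (tt N10300 (iv7 F41352)))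
theorem Q10336 : ∀ i, i < 10336 → P i := stepQ 10335 Q10335 (allL N10335 (tt N18431 F45968) (tt N21162 D31925) (tt N16889 (iv2 F41473)) (tt N16917 F41562) (tt N4946 (iv4 D15061)) (tt N21163 D31926) (tt N21164 D31927) (tt N16886 (iv7 F41466)))
theorem Q10337 : ∀ i, i < 10337 → P i := stepQ 10336 Q10336 (allL N10336 (tt N16958 (iv1 F50536)) (tt N4983 (iv0 F50537)) (tt N16890 (iv2 F41475)) (tt N21160 (iv3 F50240)) (tt N21165 D31930) (tt N4946 (iv5 D15062)) (tt N21166 D31931) (tt N16887 (iv7 F41468)))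
theorem Q10338 : ∀ i, i < 10338 → P i := stepQ 10337 Q10337 (allL N10337 (tt N17108 (iv1 F42240)) (tt N5245 F43610) (tt N16891 (iv2 F41477)) (tt N21161 (iv3 F50243)) (tt N21164 (iv4 F50248)) (tt N21167 D31932) (tt N4946 (iv6 D15063)) (tt N5124 F41344))
theorem Q10339 : ∀ i, i < 10339 → P i := stepQ 10338 Q10338 (allL N10338 (tt N4951 F41471) (tt N16916 F41559) (tt N16913 F41542) (tt N4947 (iv3 D15065)) (tt N21168 D31933) (tt N21169 D31934) (tt N5125 F41339) (tt N16888 (iv7 F41470)))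
theorem Q10340 : ∀ i, i < 10340 → P i := stepQ 10339 Q10339 (allL N10339 (tt N21162 (iv1 F50247)) (tt N18431 (iv0 F45967)) (tt N16886 (iv2 F41464)) (tt N16308 (iv3 F40310)) (tt N4947 (iv4 D15066)) (tt N21170 D31935) (tt N5126 F41340) (tt N16889 (iv7 F41474)))
theorem Q10341 : ∀ i, i < 10341 → P i := stepQ 10340 Q10340 (allL N10340 (tt N4983 F50538) (tt N16958 F50539) (tt N16887 (iv2 F41467)) (tt N21169 (iv3 F50260)) (tt N21171 D31936) (tt N4947 (iv5 D15067)) (tt N21172 D31937) (tt N16890 (iv7 F41476)))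
theorem Q10342 : ∀ i, i < 10342 → P i := stepQ 10341 Q10341 (allL N10341 (tt N16896 (iv1 F41500)) (tt N16895 F41496) (tt N4949 F24695) (tt N21173 D31938) (tt N4948 (iv4 D15069)) (tt N21174 D31939) (tt N16914 (iv6 F41548)) (tt N16892 (iv7 F41483)))
theorem Q10343 : ∀ i, i < 10343 → P i := stepQ 10342 Q10342 (allL N10342 (tt N16900 (iv1 F41513)) (tt N16899 F41512) (tt N4950 F24696) (tt N16876 (iv3 F41434)) (tt N21175 D31940) (tt N4948 (iv5 D15070)) (tt N21176 D31941) (tt N16893 (iv7 F41489)))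
theorem Q10344 : ∀ i, i < 10344 → P i := stepQ 10343 Q10343 (allL N10343 (tt N16892 (iv1 F41486)) (tt N4949 (iv0 D15072)) (tt N16896 (iv2 F41505)) (tt N10368 F24719) (tt N21177 D31942) (tt N21178 D31943) (tt N21179 D31944) (tt N16895 F41498))
theorem Q10345 : ∀ i, i < 10345 → P i := stepQ 10344 Q10344 (allL N10344 (tt N4949 (iv1 D15073)) (tt N16892 (iv0 F41484)) (tt N16895 (iv2 F41499)) (tt N21180 D31945) (tt N10315 F26624) (tt N21181 D31946) (tt N5132 F26625) (tt N16896 (iv7 F41501)))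
theorem Q10346 : ∀ i, i < 10346 → P i := stepQ 10345 Q10345 (allL N10345 (tt N21182 D31947) (tt N21183 D31948) (tt N21174 (iv2 F50266)) (tt N7999 F24699) (tt N21184 D31949) (tt N4949 (iv5 D15074)) (tt N21185 D31950) (tt N16897 (iv7 F41507)))
theorem Q10347 : ∀ i, i < 10347 → P i := stepQ 10346 Q10346 (allL N10346 (tt N21186 D31951) (tt N7161 (iv0 F27006)) (tt N16914 (iv2 F41547)) (tt N8000 F24700) (tt N4951 F24701) (tt N21187 D31952) (tt N4949 (iv6 D15075)) (tt N21188 D31953))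
theorem Q10348 : ∀ i, i < 10348 → P i := stepQ 10347 Q10347 (allL N10347 (tt N16893 (iv1 F41491)) (tt N4950 (iv0 D15076)) (tt N16900 (iv2 F50310)) (tt N20957 (iv3 F50469)) (tt N21189 D31956) (tt N14809 (iv5 F50467)) (tt N21190 D31958) (tt N16899 F50313))
theorem Q10349 : ∀ i, i < 10349 → P i := stepQ 10348 Q10348 (allL N10348 (tt N4950 (iv1 D15077)) (tt N16893 F41490) (tt N16899 F50312) (tt N21191 D31959) (tt N21192 D31960) (tt N14810 (iv5 F50553)) (tt N21193 D31962) (tt N16900 (iv7 F50311)))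
theorem Q10350 : ∀ i, i < 10350 → P i := stepQ 10349 Q10349 (allL N10349 (tt N21194 D31963) (tt N21195 D31964) (tt N21175 (iv2 F50267)) (tt N20627 (iv3 F49474)) (tt N4950 (iv4 D15078)) (tt N21196 D31965) (tt N21197 D31966) (tt N16901 (iv7 F41514)))
theorem Q10351 : ∀ i, i < 10351 → P i := stepQ 10350 Q10350 (allL N10350 (tt N21198 D31967) (tt N21199 D31968) (tt N21176 (iv2 F50268)) (tt N4954 F24702) (tt N21197 (iv4 F50320)) (tt N21200 D31969) (tt N4950 (iv6 D15079)) (tt N21201 D31970))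
theorem Q10352 : ∀ i, i < 10352 → P i := stepQ 10351 Q10351 (allL N10351 (tt N16916 (iv1 F41560)) (tt N4951 (iv0 D15080)) (tt N16888 (iv2 F41469)) (tt N10298 F26819) (tt N21202 D31971) (tt N21203 D31972) (tt N17114 (iv6 F42260)) (tt N16913 F41544))
theorem Q10353 : ∀ i, i < 10353 → P i := stepQ 10352 Q10352 (allL N10352 (tt N11470 F41343) (tt N21191 F50316) (tt N16915 (iv2 F41554)) (tt N4955 F24703) (tt N21204 D31973) (tt N4951 (iv5 D15082)) (tt N21200 (iv6 F50322)) (tt N21205 D31974))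
theorem Q10354 : ∀ i, i < 10354 → P i := stepQ 10353 Q10353 (allL N10353 (tt N16913 (iv1 F41540)) (tt N16888 F41546) (tt N16916 (iv2 F41556)) (tt N4956 F24704) (tt N21188 (iv4 F50299)) (tt N21205 (iv5 F50330)) (tt N16906 (iv6 F41519)) (tt N4951 (iv7 D15083)))
theorem Q10355 : ∀ i, i < 10355 → P i := stepQ 10354 Q10354 (allL N10354 (tt N16924 (iv1 F41573)) (tt N16880 (iv0 F41452)) (tt N11799 (iv2 F28387)) (tt N4952 (iv3 D15084)) (tt N21206 D31975) (tt N8213 F24705) (tt N21207 D31976) (tt N10201 F24706))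
theorem Q10356 : ∀ i, i < 10356 → P i := stepQ 10355 Q10355 (allL N10355 (tt N21208 D31977) (tt N21209 D31978) (tt N10207 F24707) (tt N21207 (iv3 F50332)) (tt N20663 (iv4 F49506)) (tt N10641 (iv5 F25141)) (tt N4952 (iv6 D15085)) (tt N21210 D31979))
theorem Q10357 : ∀ i, i < 10357 → P i := stepQ 10356 Q10356 (allL N10356 (tt N4970 F50755) (tt N4974 (iv0 F50760)) (tt N21211 D31982) (tt N4953 (iv3 D15086)) (tt N21212 D31983) (tt N8212 F24708) (tt N21213 D31984) (tt N10206 F24709))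
theorem Q10358 : ∀ i, i < 10358 → P i := stepQ 10357 Q10357 (allL N10357 (tt N17310 F42741) (tt N21214 D31985) (tt N10202 F24710) (tt N21213 (iv3 F50354)) (tt N20661 (iv4 F49502)) (tt N9494 F24711) (tt N4953 (iv6 D15087)) (tt N21215 D31986))
theorem Q10359 : ∀ i, i < 10359 → P i := stepQ 10358 Q10358 (allL N10358 (tt N16884 (iv1 F41461)) (tt N4954 (iv0 D15088)) (tt N16881 (iv2 F105982)) (tt N21216 D31988) (tt N5228 (iv4 F312973)) (tt N21217 D31990) (tt N5502 F310735) (tt N16882 F105981))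
theorem Q10360 : ∀ i, i < 10360 → P i := stepQ 10359 Q10359 (allL N10359 (tt N4954 (iv1 D15089)) (tt N16884 F41460) (tt N16882 F105975) (tt N21218 D31993) (tt N17278 F312992) (tt N21219 D31995) (tt N21220 D31996) (tt N16881 (iv7 F105983)))
theorem Q10361 : ∀ i, i < 10361 → P i := stepQ 10360 Q10360 (allL N10360 (tt N21221 D31997) (tt N21222 D31998) (tt N16883 (iv2 F41455)) (tt N21200 (iv3 F50321)) (tt N21223 D31999) (tt N4954 (iv5 D15090)) (tt N4955 F24712) (tt N21224 D32000))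
theorem Q10362 : ∀ i, i < 10362 → P i := stepQ 10361 Q10361 (allL N10361 (tt N16882 (iv1 F41454)) (tt N16881 F41459) (tt N16884 (iv2 F41457)) (tt N21201 (iv3 F50323)) (tt N10572 (iv4 F315406)) (tt N21224 (iv5 F50366)) (tt N16910 (iv6 F41524)) (tt N4954 (iv7 D15091)))
theorem Q10363 : ∀ i, i < 10363 → P i := stepQ 10362 Q10362 (allL N10362 (tt N4955 (iv1 D15092)) (tt N10492 F24862) (tt N10494 (iv2 F24864)) (tt N21225 D32001) (tt N21137 (iv4 F50197)) (tt N5330 F24714) (tt N21226 D32002) (tt N5348 F24713))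
theorem Q10364 : ∀ i, i < 10364 → P i := stepQ 10363 Q10363 (allL N10363 (tt N11459 (iv1 F27830)) (tt N21077 (iv0 F50097)) (tt N16885 (iv2 F41462)) (tt N21227 D32003) (tt N4955 (iv4 D15093)) (tt N21228 D32004) (tt N21223 (iv6 F50365)) (tt N21229 D32005))
theorem Q10365 : ∀ i, i < 10365 → P i := stepQ 10364 Q10364 (allL N10364 (tt N10494 (iv1 F24867)) (tt N5348 (iv0 F24716)) (tt N10492 F24860) (tt N21205 (iv3 F50329)) (tt N21229 (iv4 F50374)) (tt N4956 F24715) (tt N21230 D32006) (tt N4955 (iv7 D15094)))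
theorem Q10366 : ∀ i, i < 10366 → P i := stepQ 10365 Q10365 (allL N10365 (tt N16327 (iv1 F56680)) (tt N16329 (iv0 F77057)) (tt N16874 (iv2 F41426)) (tt N16307 (iv3 F40306)) (tt N4957 (iv4 D15097)) (tt N21231 D32009) (tt N5147 F26972) (tt N16872 (iv7 F41420)))
theorem Q10367 : ∀ i, i < 10367 → P i := stepQ 10366 Q10366 (allL N10366 (tt N16952 (iv1 F41617)) (tt N4985 F26973) (tt N16875 (iv2 F41429)) (tt N16857 (iv3 F41324)) (tt N21232 D32010) (tt N4957 (iv5 D15098)) (tt N21233 D32011) (tt N16873 (iv7 F41423)))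
theorem Q10368 : ∀ i, i < 10368 → P i := stepQ 10367 Q10367 (allL N10367 (tt N10398 F26977) (tt N4968 F26978) (tt N10394 F26979) (tt N4958 (iv3 D15101)) (tt N18421 (iv4 F45951)) (tt N21234 D32012) (tt N5202 F50797) (tt N10395 F26980))
theorem Q10369 : ∀ i, i < 10369 → P i := stepQ 10368 Q10368 (allL N10368 (tt N16329 (iv1 F77058)) (tt N16327 (iv0 F56679)) (tt N16872 (iv2 F41417)) (tt N10343 (iv3 F24719)) (tt N4958 (iv4 D15102)) (tt N21235 D32013) (tt N16495 (iv6 F50905)) (tt N16874 (iv7 F41428)))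
theorem Q10370 : ∀ i, i < 10370 → P i := stepQ 10369 Q10369 (allL N10369 (tt N4985 F28390) (tt N16952 F41618) (tt N16873 (iv2 F41421)) (tt N21234 (iv3 F50380)) (tt N21236 D32014) (tt N4958 (iv5 D15103)) (tt N21237 D32015) (tt N16875 (iv7 F41430)))
theorem Q10371 : ∀ i, i < 10371 → P i := stepQ 10370 Q10370 (allL N10370 (tt N16296 (iv1 F40276)) (tt N16295 F40272) (tt N4960 F24720) (tt N13229 (iv3 F31819)) (tt N4959 (iv4 D15105)) (tt N21238 D32016) (tt N13227 (iv6 F31816)) (tt N16297 (iv7 F40274)))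
theorem Q10372 : ∀ i, i < 10372 → P i := stepQ 10371 Q10371 (allL N10371 (tt N16877 (iv1 F41443)) (tt N10487 F26930) (tt N4961 F24721) (tt N16893 (iv3 F41488)) (tt N21239 D32017) (tt N4959 (iv5 D15106)) (tt N21240 D32018) (tt N16876 (iv7 F41435)))
theorem Q10373 : ∀ i, i < 10373 → P i := stepQ 10372 Q10372 (allL N10372 (tt N16930 (iv1 F41584)) (tt N16871 F41416) (tt N4962 F24722) (tt N16894 (iv3 F41493)) (tt N13227 (iv4 F31814)) (tt N21241 D32019) (tt N4959 (iv6 D15107)) (tt N16925 (iv7 F41576)))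
theorem Q10374 : ∀ i, i < 10374 → P i := stepQ 10373 Q10373 (allL N10373 (tt N16297 (iv1 F40275)) (tt N4960 (iv0 D15108)) (tt N16296 F41367) (tt N21242 D32020) (tt N21243 D32021) (tt N21244 D32022) (tt N5156 F41368) (tt N16295 F41369))
theorem Q10375 : ∀ i, i < 10375 → P i := stepQ 10374 Q10374 (allL N10374 (tt N4960 (iv1 D15109)) (tt N16297 F40277) (tt N16295 F41366) (tt N21202 (iv3 F50324)) (tt N10297 (iv4 F24723)) (tt N21245 D32023) (tt N17202 (iv6 F42495)) (tt N16296 (iv7 F41365)))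
theorem Q10376 : ∀ i, i < 10376 → P i := stepQ 10375 Q10375 (allL N10375 (tt N21246 D32024) (tt N21247 D32025) (tt N21238 (iv2 F50382)) (tt N9076 F24724) (tt N21248 D32026) (tt N4960 (iv5 D15110)) (tt N21249 D32027) (tt N16298 (iv7 F40280)))
theorem Q10377 : ∀ i, i < 10377 → P i := stepQ 10376 Q10376 (allL N10376 (tt N21250 D32028) (tt N21251 D32029) (tt N13227 F31813) (tt N9077 F24725) (tt N4962 F24726) (tt N13226 (iv5 F31815)) (tt N4960 (iv6 D15111)) (tt N16927 (iv7 F41582)))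
theorem Q10378 : ∀ i, i < 10378 → P i := stepQ 10377 Q10377 (allL N10377 (tt N16876 (iv1 F41439)) (tt N4961 (iv0 D15112)) (tt N16877 F41445) (tt N10494 (iv3 F41441)) (tt N21252 D32030) (tt N10488 (iv5 F41442)) (tt N21253 D32031) (tt N10487 F41440))
theorem Q10379 : ∀ i, i < 10379 → P i := stepQ 10378 Q10378 (allL N10378 (tt N4961 (iv1 D15113)) (tt N16876 F41436) (tt N10487 (iv2 F41438)) (tt N21254 D32032) (tt N21255 D32033) (tt N10485 F41437) (tt N21256 D32034) (tt N16877 (iv7 F41444)))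
theorem Q10380 : ∀ i, i < 10380 → P i := stepQ 10379 Q10379 (allL N10379 (tt N21257 D32035) (tt N21258 D32036) (tt N21239 (iv2 F50383)) (tt N20564 (iv3 F49416)) (tt N4961 (iv4 D15114)) (tt N21259 D32037) (tt N21260 D32038) (tt N16878 (iv7 F41447)))
theorem Q10381 : ∀ i, i < 10381 → P i := stepQ 10380 Q10380 (allL N10380 (tt N21261 D32039) (tt N21262 D32040) (tt N21240 (iv2 F50384)) (tt N4963 F24727) (tt N21260 (iv4 F50666)) (tt N21263 D32041) (tt N4961 (iv6 D15115)) (tt N21264 D32042))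
theorem Q10382 : ∀ i, i < 10382 → P i := stepQ 10381 Q10381 (allL N10381 (tt N4962 (iv1 D15117)) (tt N16925 F41577) (tt N16871 (iv2 F41579)) (tt N21159 (iv3 F50233)) (tt N21265 D32043) (tt N17451 F43292) (tt N17073 (iv6 F42120)) (tt N16930 (iv7 F41585)))
theorem Q10383 : ∀ i, i < 10383 → P i := stepQ 10382 Q10382 (allL N10382 (tt N10599 F27921) (tt N21266 D32044) (tt N21241 (iv2 F50385)) (tt N4964 F24728) (tt N21267 D32045) (tt N4962 (iv5 D15118)) (tt N21263 (iv6 F50668)) (tt N16931 (iv7 F41589)))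
theorem Q10384 : ∀ i, i < 10384 → P i := stepQ 10383 Q10383 (allL N10383 (tt N16910 (iv1 F41527)) (tt N4963 (iv0 D15120)) (tt N16907 (iv2 F53269)) (tt N21268 D32047) (tt N20664 F105815) (tt N16749 F315925) (tt N16750 F315926) (tt N16908 (iv7 F53266)))
theorem Q10385 : ∀ i, i < 10385 → P i := stepQ 10384 Q10384 (allL N10384 (tt N4963 (iv1 D15121)) (tt N16910 F41526) (tt N16908 (iv2 F53264)) (tt N21269 D32052) (tt N20665 F105819) (tt N20666 F316371) (tt N17303 (iv6 F51223)) (tt N16907 (iv7 F53270)))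
theorem Q10386 : ∀ i, i < 10386 → P i := stepQ 10385 Q10385 (allL N10385 (tt N20758 F311596) (tt N21270 D32057) (tt N16909 (iv2 F41521)) (tt N21263 (iv3 F50667)) (tt N21271 D32058) (tt N4963 (iv5 D15122)) (tt N4964 F24730) (tt N21272 D32059))
theorem Q10387 : ∀ i, i < 10387 → P i := stepQ 10386 Q10386 (allL N10386 (tt N16908 (iv1 F41520)) (tt N16907 F41525) (tt N16910 (iv2 F41523)) (tt N21264 (iv3 F50669)) (tt N20576 (iv4 F49429)) (tt N21272 (iv5 F50677)) (tt N16884 (iv6 F41458)) (tt N4963 (iv7 D15123)))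
theorem Q10388 : ∀ i, i < 10388 → P i := stepQ 10387 Q10387 (allL N10387 (tt N11516 (iv1 F27940)) (tt N4986 (iv0 F309349)) (tt N16911 (iv2 F41528)) (tt N21273 D32060) (tt N4964 (iv4 D15124)) (tt N21274 D32061) (tt N21271 (iv6 F50676)) (tt N16961 F307335))
theorem Q10389 : ∀ i, i < 10389 → P i := stepQ 10388 Q10388 (allL N10388 (tt N8309 (iv1 F24732)) (tt N8312 F24733) (tt N10600 F24993) (tt N16931 (iv3 F41588)) (tt N16961 F307334) (tt N4965 F24731) (tt N21275 D32063) (tt N4964 (iv7 D15125)))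
theorem Q10390 : ∀ i, i < 10390 → P i := stepQ 10389 Q10389 (allL N10389 (tt N4978 (iv1 F24736)) (tt N4977 F24737) (tt N4981 F24734) (tt N16912 (iv3 F41532)) (tt N21276 D32064) (tt N4966 (iv5 D15126)) (tt N21277 D32065) (tt N4976 F24735))
theorem Q10391 : ∀ i, i < 10391 → P i := stepQ 10390 Q10390 (allL N10390 (tt N5221 (iv1 F24740)) (tt N5220 F24741) (tt N4982 F24738) (tt N5164 F26872) (tt N18416 (iv4 F45934)) (tt N21278 D32066) (tt N4966 (iv6 D15127)) (tt N5173 F24739))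
theorem Q10392 : ∀ i, i < 10392 → P i := stepQ 10391 Q10391 (allL N10391 (tt N10298 (iv1 F24795)) (tt N10300 F24797) (tt N10396 F24776) (tt N4967 (iv3 D15130)) (tt N10396 F24777) (tt N21279 D32067) (tt N10396 (iv6 F50744)) (tt N4972 F24744))
theorem Q10393 : ∀ i, i < 10393 → P i := stepQ 10392 Q10392 (allL N10392 (tt N10206 (iv1 F50757)) (tt N21211 (iv0 F50758)) (tt N4970 F24747) (tt N21279 (iv3 F50695)) (tt N21280 D32071) (tt N4967 (iv5 D15132)) (tt N21281 D32072) (tt N4974 F24748))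
theorem Q10394 : ∀ i, i < 10394 → P i := stepQ 10393 Q10393 (allL N10393 (tt N21254 (iv1 F50749)) (tt N21225 (iv0 F50750)) (tt N10397 F24798) (tt N4970 F24750) (tt N21282 D32079) (tt N4968 (iv5 D15137)) (tt N21283 D32080) (tt N10408 F24786))
theorem Q10395 : ∀ i, i < 10395 → P i := stepQ 10394 Q10394 (allL N10394 (tt N4973 (iv1 F24759)) (tt N4969 (iv0 D15140)) (tt N10367 (iv2 F26979)) (tt N8242 F26807) (tt N10314 (iv4 F26587)) (tt N21284 D32084) (tt N8355 F26808) (tt N10323 (iv7 F26812)))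
theorem Q10396 : ∀ i, i < 10396 → P i := stepQ 10395 Q10395 (allL N10395 (tt N4969 (iv1 D15141)) (tt N4973 F24754) (tt N10323 F26815) (tt N8254 (iv3 F26956)) (tt N21285 D32085) (tt N21286 D32086) (tt N5181 F26817) (tt N10367 (iv7 F26980)))
theorem Q10397 : ∀ i, i < 10397 → P i := stepQ 10396 Q10396 (allL N10396 (tt N10334 F24755) (tt N10404 (iv0 F24775)) (tt N10391 (iv2 F24776)) (tt N4969 (iv3 D15142)) (tt N10391 (iv4 F24777)) (tt N21287 D32087) (tt N10391 F50744) (tt N10405 F24793))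
theorem Q10398 : ∀ i, i < 10398 → P i := stepQ 10397 Q10397 (allL N10397 (tt N11205 F50746) (tt N21288 D32088) (tt N10393 (iv2 F24798)) (tt N21287 (iv3 F50728)) (tt N21289 D32089) (tt N4969 (iv5 D15143)) (tt N21290 D32090) (tt N21291 D32091))
theorem Q10399 : ∀ i, i < 10399 → P i := stepQ 10398 Q10398 (allL N10398 (tt N10323 (iv1 F26798)) (tt N10367 (iv0 F26977)) (tt N4973 F24757) (tt N10405 (iv3 F24789)) (tt N4971 F24758) (tt N21291 (iv5 F51028)) (tt N10414 F50748) (tt N4969 (iv7 D15145)))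
theorem Q10400 : ∀ i, i < 10400 → P i := stepQ 10399 Q10399 (allL N10399 (tt N4974 (iv1 F24763)) (tt N4970 (iv0 D15146)) (tt N10206 F50751) (tt N11799 F50752) (tt N21292 D32092) (tt N10205 F50753) (tt N21293 D32093) (tt N21211 F50754))
theorem Q10401 : ∀ i, i < 10401 → P i := stepQ 10400 Q10400 (allL N10400 (tt N21294 D32094) (tt N21295 D32095) (tt N21280 (iv2 F50700)) (tt N21296 D32096) (tt N4970 (iv4 D15148)) (tt N21297 D32097) (tt N21298 D32098) (tt N21299 D32099))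
theorem Q10402 : ∀ i, i < 10402 → P i := stepQ 10401 Q10401 (allL N10401 (tt N21300 D32100) (tt N21218 (iv0 F242963)) (tt N21281 (iv2 F50702)) (tt N21283 (iv3 F50711)) (tt N21298 (iv4 F51039)) (tt N21283 (iv5 F51010)) (tt N4970 (iv6 D15149)) (tt N21301 D32102))
theorem Q10403 : ∀ i, i < 10403 → P i := stepQ 10402 Q10402 (allL N10402 (tt N21211 (iv1 F50759)) (tt N10206 (iv0 F50756)) (tt N4974 F24761) (tt N10408 (iv3 F24788)) (tt N21299 (iv4 F51041)) (tt N4971 F24762) (tt N21302 D32103) (tt N4970 (iv7 D15150)))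
theorem Q10404 : ∀ i, i < 10404 → P i := stepQ 10403 Q10403 (allL N10403 (tt N21159 F54026) (tt N9526 F54027) (tt N4975 F24764) (tt N10409 F24792) (tt N10414 F50993) (tt N21303 D32106) (tt N4971 (iv6 D15155)) (tt N10409 (iv7 F50991)))
theorem Q10405 : ∀ i, i < 10405 → P i := stepQ 10404 Q10404 (allL N10404 (tt N10396 F24775) (tt N4972 (iv0 D15156)) (tt N10300 (iv2 F41350)) (tt N16913 (iv3 F41541)) (tt N8244 F24765) (tt N21304 D32107) (tt N5194 F41334) (tt N10298 F41362))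
theorem Q10406 : ∀ i, i < 10406 → P i := stepQ 10405 Q10405 (allL N10405 (tt N10300 F24796) (tt N10298 F24790) (tt N4972 (iv2 D15158)) (tt N10398 F24789) (tt N4972 F24791) (tt N21305 D32108) (tt N21306 D32109) (tt N10396 (iv7 F24793)))
theorem Q10407 : ∀ i, i < 10407 → P i := stepQ 10406 Q10406 (allL N10406 (tt N20950 (iv1 F50616)) (tt N20957 F51054) (tt N21305 (iv2 F51051)) (tt N4974 F24767) (tt N21307 D32110) (tt N4972 (iv5 D15160)) (tt N21308 D32111) (tt N21279 (iv7 F50696)))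
theorem Q10408 : ∀ i, i < 10408 → P i := stepQ 10407 Q10407 (allL N10407 (tt N21309 D32112) (tt N21309 F51062) (tt N21306 (iv2 F51055)) (tt N4975 F24768) (tt N21306 (iv4 F51057)) (tt N21310 D32113) (tt N4972 (iv6 D15161)) (tt N21306 (iv7 F51058)))
theorem Q10409 : ∀ i, i < 10409 → P i := stepQ 10408 Q10408 (allL N10408 (tt N21288 (iv1 F51018)) (tt N11205 F50989) (tt N21291 (iv2 F51027)) (tt N10402 F24788) (tt N21311 D32114) (tt N4973 (iv5 D15162)) (tt N21312 D32115) (tt N10393 (iv7 F24786)))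
theorem Q10410 : ∀ i, i < 10410 → P i := stepQ 10409 Q10409 (allL N10409 (tt N10412 F50990) (tt N10333 F53997) (tt N10414 (iv2 F50992)) (tt N10403 (iv3 F24792)) (tt N4975 F24769) (tt N21313 D32116) (tt N4973 (iv6 D15163)) (tt N10403 F50991))
theorem Q10411 : ∀ i, i < 10411 → P i := stepQ 10410 Q10410 (allL N10410 (tt N21295 (iv1 F51035)) (tt N21294 F51042) (tt N21299 (iv2 F51040)) (tt N21314 D32117) (tt N4974 (iv4 D15164)) (tt N21315 D32118) (tt N21316 D32119) (tt N21280 (iv7 F50701)))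
theorem Q10412 : ∀ i, i < 10412 → P i := stepQ 10411 Q10411 (allL N10411 (tt N21268 (iv1 F190198)) (tt N21317 D32121) (tt N21302 (iv2 F51043)) (tt N21308 (iv3 F51061)) (tt N21316 (iv4 F51069)) (tt N21318 D32122) (tt N4974 (iv6 D15165)) (tt N21319 D32123))
theorem Q10413 : ∀ i, i < 10413 → P i := stepQ 10412 Q10412 (allL N10412 (tt N4975 (iv1 D15167)) (tt N10409 (iv0 F50990)) (tt N9526 (iv2 F53999)) (tt N16930 (iv3 F54015)) (tt N18438 (iv4 F54184)) (tt N21320 D32131) (tt N5190 F50988) (tt N21159 (iv7 F53995)))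
theorem Q10414 : ∀ i, i < 10414 → P i := stepQ 10413 Q10413 (allL N10413 (tt N10603 F54071) (tt N21321 D32133) (tt N21303 (iv2 F51046)) (tt N21310 (iv3 F51063)) (tt N21322 D32134) (tt N4975 (iv5 D15168)) (tt N21318 (iv6 F51070)) (tt N21323 D32135))
theorem Q10415 : ∀ i, i < 10415 → P i := stepQ 10414 Q10414 (allL N10414 (tt N9526 F54024) (tt N21159 F54025) (tt N10409 F50992) (tt N21306 (iv3 F51056)) (tt N10403 (iv4 F50993)) (tt N21323 (iv5 F51079)) (tt N10398 (iv6 F50748)) (tt N4975 (iv7 D15169)))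
theorem Q10416 : ∀ i, i < 10416 → P i := stepQ 10415 Q10415 (allL N10415 (tt N4981 (iv1 F24802)) (tt N4976 (iv0 D15172)) (tt N4977 F50004) (tt N21324 D32136) (tt N21325 D32137) (tt N16802 (iv5 F50957)) (tt N21326 D32138) (tt N4978 F50005))
theorem Q10417 : ∀ i, i < 10417 → P i := stepQ 10416 Q10416 (allL N10416 (tt N4976 (iv1 D15173)) (tt N4981 F24803) (tt N4978 F50001) (tt N21327 D32139) (tt N21328 D32140) (tt N11168 (iv5 F27101)) (tt N21329 D32141) (tt N4977 F50002))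
theorem Q10418 : ∀ i, i < 10418 → P i := stepQ 10417 Q10417 (allL N10417 (tt N21330 D32142) (tt N21331 D32143) (tt N4979 F24804) (tt N21332 D32144) (tt N4976 (iv4 D15174)) (tt N21333 D32145) (tt N21334 D32146) (tt N21276 (iv7 F50686)))
theorem Q10419 : ∀ i, i < 10419 → P i := stepQ 10418 Q10418 (allL N10418 (tt N21335 D32147) (tt N21336 D32148) (tt N4980 F24805) (tt N16935 (iv3 F41601)) (tt N21334 (iv4 F51102)) (tt N5206 F24806) (tt N4976 (iv6 D15175)) (tt N21337 D32149))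
theorem Q10420 : ∀ i, i < 10420 → P i := stepQ 10419 Q10419 (allL N10419 (tt N21234 F50954) (tt N21142 F50955) (tt N21338 D32150) (tt N4977 (iv3 D15177)) (tt N21339 D32151) (tt N11203 (iv5 F50823)) (tt N21340 D32152) (tt N21327 (iv7 F51090)))
theorem Q10421 : ∀ i, i < 10421 → P i := stepQ 10420 Q10420 (allL N10420 (tt N21341 D32153) (tt N21342 D32154) (tt N21325 (iv2 F51086)) (tt N21343 D32155) (tt N4977 (iv4 D15178)) (tt N21344 D32156) (tt N21345 D32157) (tt N21328 (iv7 F51096)))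
theorem Q10422 : ∀ i, i < 10422 → P i := stepQ 10421 Q10421 (allL N10421 (tt N21346 D32158) (tt N21347 D32159) (tt N21326 (iv2 F51088)) (tt N21340 (iv3 F51117)) (tt N21345 (iv4 F51124)) (tt N21348 D32160) (tt N4977 (iv6 D15180)) (tt N21349 D32161))
theorem Q10423 : ∀ i, i < 10423 → P i := stepQ 10422 Q10422 (allL N10422 (tt N21304 (iv1 F51049)) (tt N21160 F51050) (tt N21350 D32162) (tt N4978 (iv3 D15182)) (tt N17173 (iv4 F313007)) (tt N20914 (iv5 F50965)) (tt N17172 F310772) (tt N21324 (iv7 F51083)))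
theorem Q10424 : ∀ i, i < 10424 → P i := stepQ 10423 Q10423 (allL N10423 (tt N21342 (iv1 F51120)) (tt N21341 F51119) (tt N21328 (iv2 F51095)) (tt N21351 D32165) (tt N4978 (iv4 D15183)) (tt N21352 D32166) (tt N21353 D32167) (tt N21325 (iv7 F51087)))
theorem Q10425 : ∀ i, i < 10425 → P i := stepQ 10424 Q10424 (allL N10424 (tt N21273 F306831) (tt N21354 D32169) (tt N21329 (iv2 F51097)) (tt N17172 (iv3 F308661)) (tt N21353 (iv4 F51132)) (tt N21355 D32170) (tt N4978 (iv6 D15185)) (tt N21356 D32171))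
theorem Q10426 : ∀ i, i < 10426 → P i := stepQ 10425 Q10425 (allL N10425 (tt N21276 (iv1 F50688)) (tt N4979 (iv0 D15186)) (tt N21330 (iv2 F77121)) (tt N21357 D32173) (tt N21358 D32174) (tt N21359 D32175) (tt N21360 D32176) (tt N21331 (iv7 F77125)))
theorem Q10427 : ∀ i, i < 10427 → P i := stepQ 10426 Q10426 (allL N10426 (tt N4979 (iv1 D15187)) (tt N21276 F50687) (tt N21331 (iv2 F77124)) (tt N21361 D32178) (tt N21362 D32179) (tt N21363 D32180) (tt N21364 D32181) (tt N21330 (iv7 F77122)))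
theorem Q10428 : ∀ i, i < 10428 → P i := stepQ 10427 Q10427 (allL N10427 (tt N21365 D32182) (tt N21366 D32183) (tt N21367 D32184) (tt N4979 (iv3 D15188)) (tt N4987 F24809) (tt N21368 D32185) (tt N21369 D32186) (tt N16773 (iv7 F41102)))
theorem Q10429 : ∀ i, i < 10429 → P i := stepQ 10428 Q10428 (allL N10428 (tt N21370 D32187) (tt N21371 D32188) (tt N21333 (iv2 F51100)) (tt N21368 (iv3 F51137)) (tt N21372 D32189) (tt N4979 (iv5 D15189)) (tt N21373 D32190) (tt N21374 D32191))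
theorem Q10430 : ∀ i, i < 10430 → P i := stepQ 10429 Q10429 (allL N10429 (tt N21375 D32192) (tt N21376 D32193) (tt N21334 (iv2 F51101)) (tt N21369 (iv3 F51138)) (tt N4980 F24810) (tt N21377 D32194) (tt N4979 (iv6 D15190)) (tt N21378 D32195))
theorem Q10431 : ∀ i, i < 10431 → P i := stepQ 10430 Q10430 (allL N10430 (tt N21331 (iv1 F51099)) (tt N21330 F51098) (tt N21276 (iv2 F50685)) (tt N16773 (iv3 F41101)) (tt N4981 F24811) (tt N21374 (iv5 F51140)) (tt N21379 D32196) (tt N4979 (iv7 D15191)))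
theorem Q10432 : ∀ i, i < 10432 → P i := stepQ 10431 Q10431 (allL N10431 (tt N21337 (iv1 F51108)) (tt N4980 (iv0 D15192)) (tt N21335 F192050) (tt N21380 D32198) (tt N21381 D32199) (tt N21382 D32200) (tt N21383 D32201) (tt N21336 (iv7 F192057)))
theorem Q10433 : ∀ i, i < 10433 → P i := stepQ 10432 Q10432 (allL N10432 (tt N4980 (iv1 D15193)) (tt N21337 F51107) (tt N21336 (iv2 F192056)) (tt N21384 D32203) (tt N21385 D32204) (tt N21386 D32205) (tt N21387 D32206) (tt N21335 F192055))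
theorem Q10434 : ∀ i, i < 10434 → P i := stepQ 10433 Q10433 (allL N10433 (tt N21336 (iv1 F51103)) (tt N21335 F51106) (tt N21337 (iv2 F51104)) (tt N4991 F24812) (tt N21378 (iv4 F51141)) (tt N5219 F24813) (tt N21388 D32207) (tt N4980 (iv7 D15194)))
theorem Q10435 : ∀ i, i < 10435 → P i := stepQ 10434 Q10434 (allL N10434 (tt N21389 D32208) (tt N21390 D32209) (tt N21277 (iv2 F50689)) (tt N4992 F24814) (tt N21379 (iv4 F51142)) (tt N21391 D32210) (tt N4981 (iv6 D15195)) (tt N21388 (iv7 F51146)))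
theorem Q10436 : ∀ i, i < 10436 → P i := stepQ 10435 Q10435 (allL N10435 (tt N4982 (iv1 D15197)) (tt N5173 F24816) (tt N5220 F50807) (tt N21392 D32211) (tt N10718 (iv4 F27008)) (tt N21393 D32212) (tt N10875 F50806) (tt N5221 F50808))
theorem Q10437 : ∀ i, i < 10437 → P i := stepQ 10436 Q10436 (allL N10436 (tt N21394 D32213) (tt N21395 D32214) (tt N21278 (iv2 F50690)) (tt N4993 F24817) (tt N21396 D32215) (tt N4982 (iv5 D15198)) (tt N21391 (iv6 F51148)) (tt N5222 F24818))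
theorem Q10438 : ∀ i, i < 10438 → P i := stepQ 10437 Q10437 (allL N10437 (tt N16890 (iv1 F50514)) (tt N16887 (iv0 F50511)) (tt N4983 (iv2 D15201)) (tt N16952 (iv3 F41614)) (tt N21397 D32216) (tt N9062 F24819) (tt N21398 D32217) (tt N16958 (iv7 F41632)))
theorem Q10439 : ∀ i, i < 10439 → P i := stepQ 10438 Q10438 (allL N10438 (tt N21399 D32218) (tt N21400 D32219) (tt N21397 (iv2 F51165)) (tt N20493 (iv3 F49353)) (tt N4983 (iv4 D15202)) (tt N21401 D32220) (tt N21402 D32221) (tt N16959 (iv7 F41636)))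
theorem Q10440 : ∀ i, i < 10440 → P i := stepQ 10439 Q10439 (allL N10439 (tt N21403 D32222) (tt N21404 D32223) (tt N21398 (iv2 F51166)) (tt N4984 F24820) (tt N21402 (iv4 F51168)) (tt N21405 D32224) (tt N4983 (iv6 D15203)) (tt N21406 D32225))
theorem Q10441 : ∀ i, i < 10441 → P i := stepQ 10440 Q10440 (allL N10440 (tt N16957 (iv1 F41628)) (tt N4984 (iv0 D15204)) (tt N16955 (iv2 F183568)) (tt N21407 D32227) (tt N20750 F110638) (tt N21408 D32229) (tt N21409 D32230) (tt N16956 F183567))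
theorem Q10442 : ∀ i, i < 10442 → P i := stepQ 10441 Q10441 (allL N10441 (tt N4984 (iv1 D15205)) (tt N16957 F41627) (tt N16956 F183562) (tt N21347 F242916) (tt N20751 F110641) (tt N21410 D32234) (tt N21411 D32235) (tt N16955 (iv7 F183569)))
theorem Q10443 : ∀ i, i < 10443 → P i := stepQ 10442 Q10442 (allL N10442 (tt N10094 F315659) (tt N8190 F315660) (tt N10055 F315661) (tt N21405 (iv3 F51169)) (tt N8175 (iv4 F317408)) (tt N4984 (iv5 D15206)) (tt N9064 F24821) (tt N10057 F315662))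
theorem Q10444 : ∀ i, i < 10444 → P i := stepQ 10443 Q10443 (allL N10443 (tt N16956 (iv1 F41621)) (tt N16955 F41626) (tt N16957 (iv2 F41624)) (tt N21406 (iv3 F51171)) (tt N11517 F311590) (tt N10057 F313668) (tt N11516 F311591) (tt N4984 (iv7 D15207)))
theorem Q10445 : ∀ i, i < 10445 → P i := stepQ 10444 Q10444 (allL N10444 (tt N16875 F41431) (tt N16873 F41425) (tt N4985 (iv2 D15210)) (tt N16958 (iv3 F41630)) (tt N21412 D32240) (tt N9072 F24822) (tt N21413 D32241) (tt N16952 (iv7 F41616)))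
theorem Q10446 : ∀ i, i < 10446 → P i := stepQ 10445 Q10445 (allL N10445 (tt N21414 D32242) (tt N21415 D32243) (tt N21412 (iv2 F51178)) (tt N20412 (iv3 F49224)) (tt N4985 (iv4 D15211)) (tt N21416 D32244) (tt N21417 D32245) (tt N16953 (iv7 F41619)))
theorem Q10447 : ∀ i, i < 10447 → P i := stepQ 10446 Q10446 (allL N10446 (tt N21418 D32246) (tt N21419 D32247) (tt N21413 (iv2 F51179)) (tt N4986 F24823) (tt N21417 (iv4 F51181)) (tt N21420 D32248) (tt N4985 (iv6 D15212)) (tt N21421 D32249))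
theorem Q10448 : ∀ i, i < 10448 → P i := stepQ 10447 Q10447 (allL N10447 (tt N4986 (iv1 D15214)) (tt N11516 (iv0 F309351)) (tt N16961 (iv2 F105733)) (tt N21422 D32256) (tt N10600 (iv4 F309354)) (tt N21423 D32258) (tt N21424 D32259) (tt N16911 (iv7 F309357)))
theorem Q10449 : ∀ i, i < 10449 → P i := stepQ 10448 Q10448 (allL N10448 (tt N8620 F309629) (tt N11503 F309630) (tt N11159 (iv2 F27088)) (tt N21420 (iv3 F51182)) (tt N5065 (iv4 F311225)) (tt N4986 (iv5 D15215)) (tt N7449 F24824) (tt N11801 F309631))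
theorem Q10450 : ∀ i, i < 10450 → P i := stepQ 10449 Q10449 (allL N10449 (tt N16961 (iv1 F41638)) (tt N16911 (iv0 F309355)) (tt N11516 (iv2 F309352)) (tt N21421 (iv3 F51184)) (tt N5043 (iv4 F309370)) (tt N11801 (iv5 F308647)) (tt N16957 (iv6 F41625)) (tt N4986 (iv7 D15216)))
theorem Q10451 : ∀ i, i < 10451 → P i := stepQ 10450 Q10450 (allL N10450 (tt N16770 (iv1 F41098)) (tt N4987 (iv0 D15217)) (tt N16772 (iv2 F173383)) (tt N16778 (iv3 F318239)) (tt N21425 D32265) (tt N20362 (iv5 F105785)) (tt N16777 (iv6 F318243)) (tt N16771 F173382))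
theorem Q10452 : ∀ i, i < 10452 → P i := stepQ 10451 Q10451 (allL N10451 (tt N4987 (iv1 D15218)) (tt N16770 F41097) (tt N16771 F173377) (tt N21426 D32269) (tt N21427 D32270) (tt N20363 F105788) (tt N21266 (iv6 F320147)) (tt N16772 (iv7 F173384)))
theorem Q10453 : ∀ i, i < 10453 → P i := stepQ 10452 Q10452 (allL N10452 (tt N16772 (iv1 F41100)) (tt N16771 F41099) (tt N4987 (iv2 D15219)) (tt N16964 (iv3 F41645)) (tt N21367 (iv4 F51136)) (tt N16759 (iv5 F41087)) (tt N21428 D32273) (tt N16770 (iv7 F41096)))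
theorem Q10454 : ∀ i, i < 10454 → P i := stepQ 10453 Q10453 (allL N10453 (tt N21429 D32274) (tt N21430 D32275) (tt N21428 (iv2 F51192)) (tt N4988 F24825) (tt N21369 (iv4 F51139)) (tt N21431 D32276) (tt N4987 (iv6 D15220)) (tt N21432 D32277))
theorem Q10455 : ∀ i, i < 10455 → P i := stepQ 10454 Q10454 (allL N10454 (tt N16969 (iv1 F41660)) (tt N4988 (iv0 D15221)) (tt N16966 (iv2 F43203)) (tt N21433 D32278) (tt N14831 F41661) (tt N21434 D32279) (tt N21435 D32280) (tt N16967 (iv7 F43204)))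
theorem Q10456 : ∀ i, i < 10456 → P i := stepQ 10455 Q10455 (allL N10455 (tt N4988 (iv1 D15222)) (tt N16969 F41659) (tt N16967 F43198) (tt N21436 D32281) (tt N14832 F37328) (tt N21437 D32282) (tt N10981 (iv6 F313197)) (tt N16966 F43202))
theorem Q10457 : ∀ i, i < 10457 → P i := stepQ 10456 Q10456 (allL N10456 (tt N9527 (iv1 F313541)) (tt N19028 (iv0 F315024)) (tt N16968 (iv2 F41653)) (tt N21431 (iv3 F51193)) (tt N21438 D32286) (tt N4988 (iv5 D15223)) (tt N16784 (iv6 F41123)) (tt N19027 F312571))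
theorem Q10458 : ∀ i, i < 10458 → P i := stepQ 10457 Q10457 (allL N10457 (tt N16967 (iv1 F41652)) (tt N16966 F41658) (tt N16969 (iv2 F41655)) (tt N21432 (iv3 F51194)) (tt N4991 F24826) (tt N19027 (iv5 F312560)) (tt N16781 (iv6 F41116)) (tt N4988 (iv7 D15224)))
theorem Q10459 : ∀ i, i < 10459 → P i := stepQ 10458 Q10458 (allL N10458 (tt N21439 D32294) (tt N21172 (iv0 F232233)) (tt N21440 D32296) (tt N4989 (iv3 D15226)) (tt N21441 D32297) (tt N21442 D32298) (tt N21443 D32299) (tt N16974 (iv7 F51250)))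
theorem Q10460 : ∀ i, i < 10460 → P i := stepQ 10459 Q10459 (allL N10459 (tt N21444 D32301) (tt N9097 F51204) (tt N16971 (iv2 F51257)) (tt N21445 D32302) (tt N4989 (iv4 D15227)) (tt N21446 D32303) (tt N21447 D32304) (tt N16975 (iv7 F51252)))
theorem Q10461 : ∀ i, i < 10461 → P i := stepQ 10460 Q10460 (allL N10460 (tt N21448 D32306) (tt N17144 (iv0 F43221)) (tt N16972 (iv2 F51259)) (tt N21442 (iv3 F51209)) (tt N17598 F43898) (tt N4989 (iv5 D15228)) (tt N21449 D32307) (tt N16976 (iv7 F51248)))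
theorem Q10462 : ∀ i, i < 10462 → P i := stepQ 10461 Q10461 (allL N10461 (tt N21424 (iv1 F87275)) (tt N21450 D32310) (tt N16973 (iv2 F51261)) (tt N21443 (iv3 F51210)) (tt N21447 (iv4 F51217)) (tt N21451 D32311) (tt N4989 (iv6 D15229)) (tt N21452 D32312))
theorem Q10463 : ∀ i, i < 10463 → P i := stepQ 10462 Q10462 (allL N10462 (tt N21233 (iv1 F130864)) (tt N21453 D32314) (tt N21454 D32315) (tt N4990 (iv3 D15231)) (tt N21455 D32316) (tt N21456 D32317) (tt N21457 D32318) (tt N16970 (iv7 F51256)))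
theorem Q10464 : ∀ i, i < 10464 → P i := stepQ 10463 Q10463 (allL N10463 (tt N9097 (iv1 F28981)) (tt N21444 F51216) (tt N16975 (iv2 F51251)) (tt N21458 D32319) (tt N4990 (iv4 D15232)) (tt N19120 (iv5 F315624)) (tt N11853 F313220) (tt N16971 (iv7 F51258)))
theorem Q10465 : ∀ i, i < 10465 → P i := stepQ 10464 Q10464 (allL N10464 (tt N17144 (iv1 F42730)) (tt N21448 F51225) (tt N16976 (iv2 F51247)) (tt N21456 (iv3 F51341)) (tt N11593 F28963) (tt N4990 (iv5 D15233)) (tt N5409 (iv6 F24829)) (tt N16972 (iv7 F51260)))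
theorem Q10466 : ∀ i, i < 10466 → P i := stepQ 10465 Q10465 (allL N10465 (tt N21459 D32322) (tt N21409 (iv0 F85956)) (tt N16977 (iv2 F51330)) (tt N21457 (iv3 F51343)) (tt N11853 (iv4 F313169)) (tt N21460 D32324) (tt N4990 (iv6 D15234)) (tt N21461 D32325))
theorem Q10467 : ∀ i, i < 10467 → P i := stepQ 10466 Q10466 (allL N10466 (tt N16980 (iv1 F41685)) (tt N16979 F41684) (tt N16978 (iv2 F41678)) (tt N21388 (iv3 F51145)) (tt N16781 (iv4 F41115)) (tt N17959 (iv5 F44939)) (tt N4991 (iv6 D15235)) (tt N4992 F24830))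
theorem Q10468 : ∀ i, i < 10468 → P i := stepQ 10467 Q10467 (allL N10467 (tt N16978 (iv1 F41683)) (tt N4992 (iv0 D15236)) (tt N16979 F105924) (tt N21462 D32327) (tt N21463 D32328) (tt N21464 D32329) (tt N21465 D32330) (tt N16980 F105925))
theorem Q10469 : ∀ i, i < 10469 → P i := stepQ 10468 Q10468 (allL N10468 (tt N4992 (iv1 D15237)) (tt N16978 F41682) (tt N16980 (iv2 F105922)) (tt N21466 D32332) (tt N21467 D32333) (tt N21468 D32334) (tt N21469 D32335) (tt N16979 (iv7 F105923)))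
theorem Q10470 : ∀ i, i < 10470 → P i := stepQ 10469 Q10469 (allL N10469 (tt N21470 D32336) (tt N21471 D32337) (tt N16981 (iv2 F41686)) (tt N21391 (iv3 F51147)) (tt N21472 D32338) (tt N4992 (iv5 D15238)) (tt N4993 F24831) (tt N17959 (iv7 F44940)))
theorem Q10471 : ∀ i, i < 10471 → P i := stepQ 10470 Q10470 (allL N10470 (tt N17325 (iv1 F42787)) (tt N17324 F42784) (tt N11041 (iv2 F25921)) (tt N21473 D32339) (tt N4993 (iv4 D15239)) (tt N8473 F24833) (tt N21472 (iv6 F51353)) (tt N5250 F24832))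
theorem Q10472 : ∀ i, i < 10472 → P i := stepQ 10471 Q10471 (allL N10471 (tt N8481 (iv1 F24834)) (tt N4994 (iv0 D15240)) (tt N8480 F42877) (tt N21474 D32340) (tt N17011 (iv4 F41888)) (tt N16499 (iv5 F40612)) (tt N17440 (iv6 F50915)) (tt N8479 F42878))
theorem Q10473 : ∀ i, i < 10473 → P i := stepQ 10472 Q10472 (allL N10472 (tt N4994 (iv1 D15241)) (tt N8481 F24838) (tt N8479 F42883) (tt N17441 F43261) (tt N11051 (iv4 F25982)) (tt N16498 (iv5 F40610)) (tt N21475 D32341) (tt N8480 F42884))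
theorem Q10474 : ∀ i, i < 10474 → P i := stepQ 10473 Q10473 (allL N10473 (tt N8480 (iv1 F24839)) (tt N8479 F24837) (tt N4994 (iv2 D15242)) (tt N11409 (iv3 F27729)) (tt N5002 F24835) (tt N21476 D32342) (tt N21477 D32343) (tt N8481 F24836))
theorem Q10475 : ∀ i, i < 10475 → P i := stepQ 10474 Q10474 (allL N10474 (tt N8074 (iv1 F40568)) (tt N8079 (iv0 F26967)) (tt N21476 (iv2 F51359)) (tt N4995 F24840) (tt N21478 D32344) (tt N4994 (iv5 D15243)) (tt N21479 D32345) (tt N8482 F24841))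
theorem Q10476 : ∀ i, i < 10476 → P i := stepQ 10475 Q10475 (allL N10475 (tt N21480 D32346) (tt N21481 D32347) (tt N21477 (iv2 F51363)) (tt N4996 F24842) (tt N5003 F24843) (tt N21482 D32348) (tt N4994 (iv6 D15244)) (tt N21483 D32349))
theorem Q10477 : ∀ i, i < 10477 → P i := stepQ 10476 Q10476 (allL N10476 (tt N21484 D32350) (tt N21485 D32351) (tt N11412 (iv2 F27743)) (tt N21479 (iv3 F51369)) (tt N11767 (iv4 F28337)) (tt N21486 D32352) (tt N4995 (iv6 D15245)) (tt N21487 D32353))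
theorem Q10478 : ∀ i, i < 10478 → P i := stepQ 10477 Q10477 (allL N10477 (tt N11414 (iv1 F27750)) (tt N4996 (iv0 D15246)) (tt N11399 (iv2 F27704)) (tt N20935 (iv3 F49899)) (tt N8536 F24844) (tt N21488 D32354) (tt N21489 D32355) (tt N11402 (iv7 F27719)))
theorem Q10479 : ∀ i, i < 10479 → P i := stepQ 10478 Q10478 (allL N10478 (tt N4996 (iv1 D15247)) (tt N11414 F27749) (tt N11402 (iv2 F27717)) (tt N21490 D32356) (tt N8598 (iv4 F24845)) (tt N21491 D32357) (tt N9292 F24846) (tt N11399 (iv7 F27705)))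
theorem Q10480 : ∀ i, i < 10480 → P i := stepQ 10479 Q10479 (allL N10479 (tt N21492 D32358) (tt N21493 D32359) (tt N11413 (iv2 F27745)) (tt N21482 (iv3 F51371)) (tt N21494 D32360) (tt N4996 (iv5 D15248)) (tt N21486 (iv6 F51377)) (tt N21495 D32361))
theorem Q10481 : ∀ i, i < 10481 → P i := stepQ 10480 Q10480 (allL N10480 (tt N11402 F27721) (tt N11399 (iv0 F27706)) (tt N11414 (iv2 F27746)) (tt N21483 (iv3 F51373)) (tt N4999 F24847) (tt N21495 (iv5 F51387)) (tt N7695 F24848) (tt N4996 (iv7 D15249)))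
theorem Q10482 : ∀ i, i < 10482 → P i := stepQ 10481 Q10481 (allL N10481 (tt N15030 (iv1 F37703)) (tt N5453 (iv0 F24849)) (tt N11447 (iv2 F27806)) (tt N20906 (iv3 F49864)) (tt N4997 (iv4 D15250)) (tt N21496 D32362) (tt N18633 (iv6 F46290)) (tt N11449 (iv7 F27817)))
theorem Q10483 : ∀ i, i < 10483 → P i := stepQ 10482 Q10482 (allL N10482 (tt N5453 F24851) (tt N15030 F37702) (tt N11449 (iv2 F27815)) (tt N21497 D32363) (tt N4998 (iv4 D15251)) (tt N21498 D32364) (tt N9290 F24850) (tt N11447 (iv7 F27807)))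
theorem Q10484 : ∀ i, i < 10484 → P i := stepQ 10483 Q10483 (allL N10483 (tt N10537 F24929) (tt N16382 (iv0 F40448)) (tt N5650 (iv2 F26657)) (tt N16386 (iv3 F40453)) (tt N5000 (iv4 D15254)) (tt N21499 D32365) (tt N5648 F26654) (tt N8494 F26776))
theorem Q10485 : ∀ i, i < 10485 → P i := stepQ 10484 Q10484 (allL N10484 (tt N16382 F40449) (tt N10537 (iv0 F24930)) (tt N8494 (iv2 F26781)) (tt N5654 (iv3 F26700)) (tt N5001 (iv4 D15259)) (tt N21500 D32366) (tt N16371 (iv6 F40426)) (tt N5650 F26698))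
theorem Q10486 : ∀ i, i < 10486 → P i := stepQ 10485 Q10485 (allL N10485 (tt N7201 (iv1 F26918)) (tt N9072 F26896) (tt N5003 F24854) (tt N11189 (iv3 F27137)) (tt N21477 (iv4 F51364)) (tt N10378 (iv5 F41437)) (tt N5002 (iv6 D15262)) (tt N9071 (iv7 F26914)))
theorem Q10487 : ∀ i, i < 10487 → P i := stepQ 10486 Q10486 (allL N10486 (tt N9071 (iv1 F26920)) (tt N5003 (iv0 D15263)) (tt N7201 (iv2 F26915)) (tt N9062 F26916) (tt N16275 (iv4 F40246)) (tt N16952 (iv5 F41615)) (tt N21501 D32367) (tt N9072 F26917))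
theorem Q10488 : ∀ i, i < 10488 → P i := stepQ 10487 Q10487 (allL N10487 (tt N10371 (iv1 F26930)) (tt N8256 (iv0 F26928)) (tt N10378 F41438) (tt N5006 F24855) (tt N21502 D32368) (tt N5003 (iv5 D15265)) (tt N11316 (iv6 F27559)) (tt N10377 (iv7 F41440)))
theorem Q10489 : ∀ i, i < 10489 → P i := stepQ 10488 Q10488 (allL N10488 (tt N9072 (iv1 F26895)) (tt N7201 (iv0 F26894)) (tt N9071 (iv2 F26919)) (tt N5007 F24856) (tt N21483 (iv4 F51374)) (tt N10377 F41442) (tt N8489 F24857) (tt N5003 (iv7 D15266)))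
theorem Q10490 : ∀ i, i < 10490 → P i := stepQ 10489 Q10489 (allL N10489 (tt N16856 (iv1 F41322)) (tt N16857 (iv0 F41326)) (tt N11213 (iv2 F27299)) (tt N16932 (iv3 F41593)) (tt N21228 (iv4 F50371)) (tt N5004 (iv5 D15268)) (tt N21503 D32369) (tt N11216 (iv7 F27316)))
theorem Q10491 : ∀ i, i < 10491 → P i := stepQ 10490 Q10490 (allL N10490 (tt N5490 F50649) (tt N17540 F50650) (tt N17538 (iv2 F50520)) (tt N5005 (iv3 D15269)) (tt N21504 D32370) (tt N21505 D32371) (tt N9314 F24858) (tt N11212 (iv7 F27298)))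
theorem Q10492 : ∀ i, i < 10492 → P i := stepQ 10491 Q10491 (allL N10491 (tt N16857 (iv1 F41327)) (tt N16856 (iv0 F41321)) (tt N11216 (iv2 F27315)) (tt N21505 (iv3 F51410)) (tt N21506 D32372) (tt N5005 (iv5 D15270)) (tt N21507 D32373) (tt N11213 (iv7 F27300)))
theorem Q10493 : ∀ i, i < 10493 → P i := stepQ 10492 Q10492 (allL N10492 (tt N10362 (iv1 F24862)) (tt N5006 (iv0 D15271)) (tt N10364 (iv2 F24860)) (tt N8276 (iv3 F26898)) (tt N21508 D32374) (tt N8260 F24859) (tt N21509 D32375) (tt N8259 F24861))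
theorem Q10494 : ∀ i, i < 10494 → P i := stepQ 10493 Q10493 (allL N10493 (tt N10325 F26929) (tt N10317 F24863) (tt N11217 (iv2 F27319)) (tt N21510 D32376) (tt N5006 (iv4 D15272)) (tt N21137 (iv5 F50196)) (tt N11325 (iv6 F27564)) (tt N21511 D32377))
theorem Q10495 : ∀ i, i < 10495 → P i := stepQ 10494 Q10494 (allL N10494 (tt N8259 (iv1 F24866)) (tt N10364 F24867) (tt N10362 F24864) (tt N10377 F41441) (tt N21511 (iv4 F51423)) (tt N5007 F24865) (tt N21512 D32378) (tt N5006 (iv7 D15273)))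
theorem Q10496 : ∀ i, i < 10496 → P i := stepQ 10495 Q10495 (allL N10495 (tt N5024 F26820) (tt N17012 F41897) (tt N17011 (iv2 F42881)) (tt N5008 (iv3 D15278)) (tt N8480 F24871) (tt N17240 (iv5 F42572)) (tt N17007 (iv6 F50914)) (tt N11051 (iv7 F42888)))
theorem Q10497 : ∀ i, i < 10497 → P i := stepQ 10496 Q10496 (allL N10496 (tt N11804 (iv1 F28403)) (tt N5062 (iv0 F25083)) (tt N11055 (iv2 F42910)) (tt N17007 F41866) (tt N5008 (iv4 D15279)) (tt N17766 (iv5 F44427)) (tt N5008 F50848) (tt N11052 (iv7 F42914)))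
theorem Q10498 : ∀ i, i < 10498 → P i := stepQ 10497 Q10497 (allL N10497 (tt N11415 (iv1 F27756)) (tt N5060 F26706) (tt N11809 F42941) (tt N5009 (iv3 D15283)) (tt N17530 (iv4 F43591)) (tt N18548 (iv5 F46162)) (tt N11508 (iv6 F54132)) (tt N11054 F42899))
theorem Q10499 : ∀ i, i < 10499 → P i := stepQ 10498 Q10498 (allL N10498 (tt N5062 F26703) (tt N11804 F28404) (tt N11052 F42911) (tt N5015 F24873) (tt N5009 (iv4 D15284)) (tt N14859 (iv5 F37310)) (tt N11512 (iv6 F54136)) (tt N11055 F42900))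
theorem Q10500 : ∀ i, i < 10500 → P i := stepQ 10499 Q10499 (allL N10499 (tt N5040 F54127) (tt N11513 F54128) (tt N11053 (iv2 F42943)) (tt N11508 (iv3 F54131)) (tt N11512 (iv4 F54135)) (tt N21513 D32383) (tt N5009 (iv6 D15286)) (tt N11512 (iv7 F54137)))
theorem Q10501 : ∀ i, i < 10501 → P i := stepQ 10500 Q10500 (allL N10500 (tt N9113 (iv1 F37256)) (tt N9126 (iv0 F37251)) (tt N5011 F24874) (tt N10669 (iv3 F25191)) (tt N21514 D32384) (tt N5010 (iv5 D15287)) (tt N21515 D32385) (tt N9123 (iv7 F25732)))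
theorem Q10502 : ∀ i, i < 10502 → P i := stepQ 10501 Q10501 (allL N10501 (tt N20922 (iv1 F50151)) (tt N20921 (iv0 F49885)) (tt N5012 F24875) (tt N11454 (iv3 F27825)) (tt N11189 (iv4 F27138)) (tt N21516 D32386) (tt N5010 (iv6 D15288)) (tt N21075 (iv7 F50088)))
theorem Q10503 : ∀ i, i < 10503 → P i := stepQ 10502 Q10502 (allL N10502 (tt N10870 (iv1 F25735)) (tt N10901 F25744) (tt N21514 (iv2 F51435)) (tt N5750 F24876) (tt N5011 (iv4 D15291)) (tt N21517 D32387) (tt N21518 D32388) (tt N10664 (iv7 F25181)))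
theorem Q10504 : ∀ i, i < 10504 → P i := stepQ 10503 Q10503 (allL N10503 (tt N21519 D32389) (tt N21520 D32390) (tt N21515 (iv2 F51438)) (tt N5013 F24877) (tt N21518 (iv4 F51444)) (tt N21521 D32391) (tt N5011 (iv6 D15292)) (tt N21522 D32392))
theorem Q10505 : ∀ i, i < 10505 → P i := stepQ 10504 Q10504 (allL N10504 (tt N21075 (iv1 F50089)) (tt N5012 (iv0 D15293)) (tt N20922 (iv2 F55531)) (tt N20944 F49912) (tt N16805 F41183) (tt N21358 (iv5 F51134)) (tt N21523 D32394) (tt N20921 (iv7 F55530)))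
theorem Q10506 : ∀ i, i < 10506 → P i := stepQ 10505 Q10505 (allL N10505 (tt N5012 (iv1 D15294)) (tt N21075 F50091) (tt N20921 (iv2 F55529)) (tt N15242 (iv3 F54263)) (tt N16806 (iv4 F54264)) (tt N21362 (iv5 F54266)) (tt N15239 (iv6 F54262)) (tt N20922 (iv7 F55532)))
theorem Q10507 : ∀ i, i < 10507 → P i := stepQ 10506 Q10506 (allL N10506 (tt N21524 D32400) (tt N21525 D32401) (tt N21516 (iv2 F51439)) (tt N5014 F24878) (tt N21294 (iv4 F51034)) (tt N5012 (iv5 D15295)) (tt N21521 (iv6 F51446)) (tt N21076 (iv7 F50093)))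
theorem Q10508 : ∀ i, i < 10508 → P i := stepQ 10507 Q10507 (allL N10507 (tt N12499 (iv1 F30056)) (tt N12519 (iv0 F30443)) (tt N10672 (iv2 F25201)) (tt N21521 (iv3 F51445)) (tt N21526 D32402) (tt N5013 (iv5 D15299)) (tt N5014 F24881) (tt N21527 D32403))
theorem Q10509 : ∀ i, i < 10509 → P i := stepQ 10508 Q10508 (allL N10508 (tt N8533 (iv1 F30440)) (tt N8529 (iv0 F30448)) (tt N10673 (iv2 F25203)) (tt N21522 (iv3 F51447)) (tt N5754 F24882) (tt N21527 (iv5 F51453)) (tt N10668 (iv6 F25186)) (tt N5013 (iv7 D15300)))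
theorem Q10510 : ∀ i, i < 10510 → P i := stepQ 10509 Q10509 (allL N10509 (tt N21229 (iv1 F50376)) (tt N16885 (iv0 F41463)) (tt N11459 (iv2 F27829)) (tt N21528 D32404) (tt N5014 (iv4 D15302)) (tt N21135 (iv5 F50190)) (tt N21526 (iv6 F51452)) (tt N21077 (iv7 F50095)))
theorem Q10511 : ∀ i, i < 10511 → P i := stepQ 10510 Q10510 (allL N10510 (tt N17535 F43625) (tt N16362 (iv0 F40396)) (tt N11452 (iv2 F42932)) (tt N17530 (iv3 F43592)) (tt N5015 (iv4 D15305)) (tt N21529 D32405) (tt N21530 D32406) (tt N11450 F42933))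
theorem Q10512 : ∀ i, i < 10512 → P i := stepQ 10511 Q10511 (allL N10511 (tt N11509 (iv1 F54139)) (tt N5042 (iv0 F54140)) (tt N11453 F42939) (tt N11512 F54138) (tt N21530 (iv4 F51456)) (tt N21531 D32409) (tt N5015 (iv6 D15307)) (tt N11508 (iv7 F54133)))
theorem Q10513 : ∀ i, i < 10513 → P i := stepQ 10512 Q10512 (allL N10512 (tt N11769 F40394) (tt N5021 F40395) (tt N17007 (iv2 F42916)) (tt N5016 (iv3 D15309)) (tt N17440 (iv4 F43254)) (tt N14862 (iv5 F37315)) (tt N17011 (iv6 F50913)) (tt N11451 F42917))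
theorem Q10514 : ∀ i, i < 10514 → P i := stepQ 10513 Q10513 (allL N10513 (tt N16362 F40393) (tt N17535 (iv0 F43624)) (tt N11450 F42931) (tt N16351 (iv3 F40362)) (tt N5016 (iv4 D15310)) (tt N21532 D32410) (tt N17531 (iv6 F50910)) (tt N11452 (iv7 F42929)))
theorem Q10515 : ∀ i, i < 10515 → P i := stepQ 10514 Q10514 (allL N10514 (tt N5060 F50851) (tt N11415 F50852) (tt N11054 F50853) (tt N17011 F50854) (tt N17531 F50855) (tt N18568 F50856) (tt N5016 (iv6 D15312)) (tt N11809 F50857))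
theorem Q10516 : ∀ i, i < 10516 → P i := stepQ 10515 Q10515 (allL N10515 (tt N11408 F27728) (tt N8603 (iv0 F26702)) (tt N5018 F24893) (tt N8481 F24894) (tt N5017 (iv4 D15313)) (tt N21533 D32411) (tt N15182 (iv6 F37988)) (tt N11409 (iv7 F27731)))
theorem Q10517 : ∀ i, i < 10517 → P i := stepQ 10516 Q10516 (allL N10516 (tt N7220 (iv1 F43062)) (tt N7216 F43059) (tt N5019 F24895) (tt N9123 (iv3 F25730)) (tt N21534 D32412) (tt N5017 (iv5 D15314)) (tt N21535 D32413) (tt N10669 (iv7 F25193)))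
theorem Q10518 : ∀ i, i < 10518 → P i := stepQ 10517 Q10517 (allL N10517 (tt N11409 (iv1 F27732)) (tt N5018 (iv0 D15315)) (tt N11408 (iv2 F27727)) (tt N8606 F27039) (tt N8617 (iv4 F27040)) (tt N14752 (iv5 F40646)) (tt N11427 (iv6 F27778)) (tt N8603 (iv7 F27041)))
theorem Q10519 : ∀ i, i < 10519 → P i := stepQ 10518 Q10518 (allL N10518 (tt N5018 (iv1 D15316)) (tt N11409 F27733) (tt N8603 F26659) (tt N21536 D32414) (tt N8614 (iv4 F26651)) (tt N14753 F37309) (tt N8601 F26660) (tt N11408 (iv7 F27725)))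
theorem Q10520 : ∀ i, i < 10520 → P i := stepQ 10519 Q10519 (allL N10519 (tt N21537 D32415) (tt N17156 (iv0 F43053)) (tt N21533 (iv2 F51457)) (tt N5645 F24897) (tt N21538 D32416) (tt N5018 (iv5 D15317)) (tt N21539 D32417) (tt N11410 (iv7 F27739)))
theorem Q10521 : ∀ i, i < 10521 → P i := stepQ 10520 Q10520 (allL N10520 (tt N10669 (iv1 F25194)) (tt N5019 (iv0 D15318)) (tt N7220 F43046) (tt N9136 F43047) (tt N21540 D32418) (tt N5430 F43048) (tt N21541 D32419) (tt N7216 F43049))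
theorem Q10522 : ∀ i, i < 10522 → P i := stepQ 10521 Q10521 (allL N10521 (tt N5019 (iv1 D15319)) (tt N10669 F25196) (tt N7216 F43050) (tt N21542 D32420) (tt N21543 D32421) (tt N5431 F43051) (tt N21544 D32422) (tt N7220 F43052))
theorem Q10523 : ∀ i, i < 10523 → P i := stepQ 10522 Q10522 (allL N10522 (tt N21545 D32423) (tt N17159 (iv0 F42390)) (tt N21534 (iv2 F51461)) (tt N5756 F24898) (tt N5019 (iv4 D15320)) (tt N21546 D32424) (tt N21547 D32425) (tt N10670 (iv7 F25198)))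
theorem Q10524 : ∀ i, i < 10524 → P i := stepQ 10523 Q10523 (allL N10523 (tt N21548 D32426) (tt N21549 D32427) (tt N21535 (iv2 F51462)) (tt N5020 F24899) (tt N21547 (iv4 F51486)) (tt N15252 (iv5 F38100)) (tt N5019 (iv6 D15321)) (tt N21550 D32428))
theorem Q10525 : ∀ i, i < 10525 → P i := stepQ 10524 Q10524 (allL N10524 (tt N10668 (iv1 F25189)) (tt N5020 (iv0 D15322)) (tt N10666 F43176) (tt N21551 D32429) (tt N5525 F43128) (tt N21552 D32430) (tt N11347 F43129) (tt N10667 (iv7 F43179)))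
theorem Q10526 : ∀ i, i < 10526 → P i := stepQ 10525 Q10525 (allL N10525 (tt N5020 (iv1 D15323)) (tt N10668 F25188) (tt N10667 (iv2 F43177)) (tt N21553 D32431) (tt N5526 F43174) (tt N21554 D32432) (tt N21555 D32433) (tt N10666 (iv7 F43175)))
theorem Q10527 : ∀ i, i < 10527 → P i := stepQ 10526 Q10526 (allL N10526 (tt N10667 (iv1 F25183)) (tt N10666 F25187) (tt N10668 (iv2 F25184)) (tt N21550 (iv3 F51487)) (tt N5760 F24900) (tt N15258 (iv5 F38105)) (tt N10673 (iv6 F25205)) (tt N5020 (iv7 D15324)))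
theorem Q10528 : ∀ i, i < 10528 → P i := stepQ 10527 Q10527 (allL N10527 (tt N5021 (iv1 D15332)) (tt N11769 F28340) (tt N11451 F42912) (tt N11052 (iv3 F25990)) (tt N17441 F43260) (tt N21556 D32434) (tt N21557 D32435) (tt N17007 (iv7 F42915)))
theorem Q10529 : ∀ i, i < 10529 → P i := stepQ 10528 Q10528 (allL N10528 (tt N17007 (iv1 F41865)) (tt N11451 F28351) (tt N5021 (iv2 D15333)) (tt N17012 (iv3 F41893)) (tt N8020 (iv4 F27262)) (tt N21558 D32436) (tt N20955 (iv6 F50617)) (tt N11769 (iv7 F28339)))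
theorem Q10530 : ∀ i, i < 10530 → P i := stepQ 10529 Q10529 (allL N10529 (tt N21542 (iv1 F51505)) (tt N21559 D32438) (tt N21558 (iv2 F51492)) (tt N5023 F24912) (tt N12196 F29483) (tt N5021 (iv5 D15334)) (tt N21560 D32439) (tt N10652 F27259))
theorem Q10531 : ∀ i, i < 10531 → P i := stepQ 10530 Q10530 (allL N10530 (tt N5025 (iv1 F24923)) (tt N5022 (iv0 D15337)) (tt N5337 (iv2 F27152)) (tt N5339 (iv3 F50731)) (tt N5337 F24915) (tt N10932 F27153) (tt N5337 F50730) (tt N11192 (iv7 F27280)))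
theorem Q10532 : ∀ i, i < 10532 → P i := stepQ 10531 Q10531 (allL N10531 (tt N5022 (iv1 D15338)) (tt N5025 F24916) (tt N11192 (iv2 F27278)) (tt N5332 (iv3 F27155)) (tt N11192 (iv4 F27279)) (tt N8822 F26845) (tt N21561 D32440) (tt N5337 F27154))
theorem Q10533 : ∀ i, i < 10533 → P i := stepQ 10532 Q10532 (allL N10532 (tt N8614 (iv1 F26649)) (tt N8617 F26661) (tt N8611 F24917) (tt N5022 (iv3 D15339)) (tt N11772 (iv4 F28347)) (tt N17158 (iv5 F42391)) (tt N14809 (iv6 F50468)) (tt N8615 F27249))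
theorem Q10534 : ∀ i, i < 10534 → P i := stepQ 10533 Q10533 (allL N10533 (tt N10867 (iv1 F25671)) (tt N5196 F24919) (tt N11460 (iv2 F27831)) (tt N17158 F42393) (tt N17040 (iv4 F41994)) (tt N5022 (iv5 D15340)) (tt N21562 D32441) (tt N17009 (iv7 F41875)))
theorem Q10535 : ∀ i, i < 10535 → P i := stepQ 10534 Q10534 (allL N10534 (tt N21563 D32442) (tt N11344 (iv0 F155355)) (tt N10657 F27272) (tt N21560 (iv3 F51506)) (tt N14294 (iv4 F35217)) (tt N20959 F50623) (tt N5023 (iv6 D15343)) (tt N21564 D32444))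
theorem Q10536 : ∀ i, i < 10536 → P i := stepQ 10535 Q10535 (allL N10535 (tt N17012 (iv1 F41896)) (tt N5024 (iv0 D15350)) (tt N11051 F42882) (tt N11809 F28420) (tt N8479 F24927) (tt N17236 (iv5 F42569)) (tt N21565 D32445) (tt N17011 F42875))
theorem Q10537 : ∀ i, i < 10537 → P i := stepQ 10536 Q10536 (allL N10536 (tt N11051 F28343) (tt N17011 F41889) (tt N5024 (iv2 D15352)) (tt N11769 F28341) (tt N11778 (iv4 F28362)) (tt N21566 D32446) (tt N21567 D32447) (tt N17012 (iv7 F41895)))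
theorem Q10538 : ∀ i, i < 10538 → P i := stepQ 10537 Q10537 (allL N10537 (tt N10484 F24930) (tt N10483 (iv0 F24929)) (tt N11778 F28363) (tt N8609 F24928) (tt N5024 (iv4 D15353)) (tt N17170 (iv5 F42431)) (tt N21568 D32448) (tt N11464 (iv7 F27854)))
theorem Q10539 : ∀ i, i < 10539 → P i := stepQ 10538 Q10538 (allL N10538 (tt N21569 D32449) (tt N9116 F42433) (tt N21566 (iv2 F51509)) (tt N5026 F24931) (tt N17182 (iv4 F42448)) (tt N5024 (iv5 D15354)) (tt N21570 D32450) (tt N10655 (iv7 F27265)))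
theorem Q10540 : ∀ i, i < 10540 → P i := stepQ 10539 Q10539 (allL N10539 (tt N21571 D32451) (tt N21572 D32452) (tt N21567 (iv2 F51514)) (tt N5027 F24932) (tt N21568 (iv4 F51516)) (tt N21573 D32453) (tt N5024 (iv6 D15355)) (tt N20947 (iv7 F50558)))
theorem Q10541 : ∀ i, i < 10541 → P i := stepQ 10540 Q10540 (allL N10540 (tt N5196 (iv1 F25718)) (tt N10867 (iv0 F25670)) (tt N17009 (iv2 F41873)) (tt N5135 (iv3 F35183)) (tt N14290 (iv4 F35180)) (tt N5025 (iv5 D15356)) (tt N21574 D32454) (tt N11460 (iv7 F27833)))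
theorem Q10542 : ∀ i, i < 10542 → P i := stepQ 10541 Q10541 (allL N10541 (tt N21575 D32455) (tt N19002 (iv0 F50648)) (tt N17010 (iv2 F41878)) (tt N8610 F24934) (tt N5027 F24935) (tt N21576 D32456) (tt N5025 (iv6 D15357)) (tt N20951 (iv7 F50501)))
theorem Q10543 : ∀ i, i < 10543 → P i := stepQ 10542 Q10542 (allL N10542 (tt N14293 (iv1 F35212)) (tt N14292 F35209) (tt N10653 (iv2 F27267)) (tt N14260 (iv3 F35136)) (tt N5026 (iv4 D15358)) (tt N14091 (iv5 F34763)) (tt N21577 D32457) (tt N10656 (iv7 F27266)))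
theorem Q10544 : ∀ i, i < 10544 → P i := stepQ 10543 Q10543 (allL N10543 (tt N21551 (iv1 F155098)) (tt N21578 D32459) (tt N10654 (iv2 F27268)) (tt N21570 (iv3 F51525)) (tt N21577 (iv4 F51537)) (tt N21579 D32460) (tt N5026 (iv6 D15359)) (tt N21580 D32461))
theorem Q10545 : ∀ i, i < 10545 → P i := stepQ 10544 Q10544 (allL N10544 (tt N9373 F27199) (tt N9378 F27206) (tt N9375 F27257) (tt N21573 (iv3 F51528)) (tt N21581 D32462) (tt N5027 (iv5 D15362)) (tt N21579 (iv6 F51539)) (tt N9374 (iv7 F38258)))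
theorem Q10546 : ∀ i, i < 10546 → P i := stepQ 10545 Q10545 (allL N10545 (tt N12752 (iv1 F30818)) (tt N17019 F41926) (tt N5032 F24936) (tt N21582 D32463) (tt N5028 (iv4 D15364)) (tt N12800 F30934) (tt N21583 D32464) (tt N17013 (iv7 F41910)))
theorem Q10547 : ∀ i, i < 10547 → P i := stepQ 10546 Q10546 (allL N10546 (tt N21584 D32465) (tt N21585 D32466) (tt N5033 F24937) (tt N16983 (iv3 F41695)) (tt N21583 (iv4 F51544)) (tt N21586 D32467) (tt N5028 (iv6 D15365)) (tt N21587 D32468))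
theorem Q10548 : ∀ i, i < 10548 → P i := stepQ 10547 Q10547 (allL N10547 (tt N5029 F26500) (tt N5029 (iv0 D15366)) (tt N5034 F35045) (tt N21588 D32469) (tt N11486 (iv4 F27872)) (tt N21589 D32470) (tt N20962 (iv6 F50642)) (tt N5034 F35046))
theorem Q10549 : ∀ i, i < 10549 → P i := stepQ 10548 Q10548 (allL N10548 (tt N19077 F46889) (tt N19077 (iv0 F46887)) (tt N5035 F24939) (tt N5048 F26502) (tt N14556 F36221) (tt N5029 (iv5 D15368)) (tt N21586 (iv6 F51548)) (tt N5035 F26503))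
theorem Q10550 : ∀ i, i < 10550 → P i := stepQ 10549 Q10549 (allL N10549 (tt N14862 F51512) (tt N21556 (iv0 F51491)) (tt N21590 D32471) (tt N5030 (iv3 D15371)) (tt N10989 F25860) (tt N5075 F24948) (tt N21591 D32472) (tt N17015 (iv7 F41918)))
theorem Q10551 : ∀ i, i < 10551 → P i := stepQ 10550 Q10550 (allL N10550 (tt N17967 (iv1 F155108)) (tt N6023 (iv0 F155109)) (tt N17018 (iv2 F41923)) (tt N21591 (iv3 F51562)) (tt N14344 (iv4 F35294)) (tt N15312 F312690) (tt N5030 (iv6 D15372)) (tt N17966 (iv7 F155110)))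
theorem Q10552 : ∀ i, i < 10552 → P i := stepQ 10551 Q10551 (allL N10551 (tt N17236 (iv1 F42570)) (tt N17240 F42574) (tt N18497 (iv2 F46071)) (tt N5031 (iv3 D15374)) (tt N12418 (iv4 F29909)) (tt N5078 F24951) (tt N21592 D32477) (tt N17017 (iv7 F41921)))
theorem Q10553 : ∀ i, i < 10553 → P i := stepQ 10552 Q10552 (allL N10552 (tt N14285 (iv1 F35165)) (tt N10933 (iv0 F27191)) (tt N13018 (iv2 F31381)) (tt N14336 (iv3 F35287)) (tt N5031 (iv4 D15375)) (tt N13017 F31380) (tt N21593 D32478) (tt N14343 (iv7 F35291)))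
theorem Q10554 : ∀ i, i < 10554 → P i := stepQ 10553 Q10553 (allL N10553 (tt N14871 F184616) (tt N18618 F184617) (tt N17016 (iv2 F41919)) (tt N21592 (iv3 F51564)) (tt N21593 (iv4 F51565)) (tt N20969 (iv5 F50450)) (tt N5031 (iv6 D15376)) (tt N18617 (iv7 F184574)))
theorem Q10555 : ∀ i, i < 10555 → P i := stepQ 10554 Q10554 (allL N10554 (tt N17013 (iv1 F41913)) (tt N5032 (iv0 D15377)) (tt N12752 (iv2 F30815)) (tt N21594 D32482) (tt N10645 (iv4 F25153)) (tt N12751 F30814) (tt N21595 D32483) (tt N17019 (iv7 F41927)))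
theorem Q10556 : ∀ i, i < 10556 → P i := stepQ 10555 Q10555 (allL N10555 (tt N5032 (iv1 D15378)) (tt N17013 (iv0 F41912)) (tt N17019 F41925) (tt N12683 (iv3 F30606)) (tt N10649 F27273) (tt N12682 F30604) (tt N21596 D32484) (tt N12752 (iv7 F30817)))
theorem Q10557 : ∀ i, i < 10557 → P i := stepQ 10556 Q10556 (allL N10556 (tt N12801 (iv1 F30935)) (tt N6953 (iv0 F24953)) (tt N12800 F30933) (tt N5971 F24952) (tt N14289 F35175) (tt N5032 (iv5 D15379)) (tt N21597 D32485) (tt N12799 F30931))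
theorem Q10558 : ∀ i, i < 10558 → P i := stepQ 10557 Q10557 (allL N10557 (tt N21598 D32486) (tt N21599 D32487) (tt N21583 (iv2 F51543)) (tt N5972 F24954) (tt N5033 F24955) (tt N21600 D32488) (tt N5032 (iv6 D15380)) (tt N21601 D32489))
theorem Q10559 : ∀ i, i < 10559 → P i := stepQ 10558 Q10558 (allL N10558 (tt N21587 (iv1 F51552)) (tt N5033 (iv0 D15381)) (tt N21584 F155213) (tt N21602 D32491) (tt N21603 D32492) (tt N21604 D32493) (tt N21605 D32494) (tt N21585 (iv7 F155222)))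
theorem Q10560 : ∀ i, i < 10560 → P i := stepQ 10559 Q10559 (allL N10559 (tt N5033 (iv1 D15382)) (tt N21587 F51551) (tt N21585 (iv2 F155221)) (tt N21606 D32496) (tt N21607 D32497) (tt N21608 D32498) (tt N21609 D32499) (tt N21584 F155220))
theorem Q10561 : ∀ i, i < 10561 → P i := stepQ 10560 Q10560 (allL N10560 (tt N21610 D32500) (tt N21611 D32501) (tt N21586 (iv2 F51546)) (tt N5038 F24956) (tt N21612 D32502) (tt N5033 (iv5 D15383)) (tt N5035 F24957) (tt N21613 D32503))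
theorem Q10562 : ∀ i, i < 10562 → P i := stepQ 10561 Q10561 (allL N10561 (tt N21585 (iv1 F51545)) (tt N21584 F51550) (tt N21587 (iv2 F51549)) (tt N5039 F24958) (tt N21601 (iv4 F51571)) (tt N21613 (iv5 F51577)) (tt N17023 (iv6 F41931)) (tt N5033 (iv7 D15384)))
theorem Q10563 : ∀ i, i < 10563 → P i := stepQ 10562 Q10562 (allL N10562 (tt N21565 (iv1 F54151)) (tt N21557 (iv0 F54123)) (tt N21614 D32506) (tt N5034 (iv3 D15386)) (tt N21615 D32507) (tt N21616 D32508) (tt N20977 (iv6 F50636)) (tt N21588 (iv7 F51554)))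
theorem Q10564 : ∀ i, i < 10564 → P i := stepQ 10563 Q10563 (allL N10563 (tt N21561 (iv1 F54088)) (tt N21561 (iv0 F54087)) (tt N11486 F35047) (tt N11483 F27863) (tt N5034 (iv4 D15387)) (tt N21617 D32510) (tt N20978 (iv6 F50637)) (tt N11486 (iv7 F35044)))
theorem Q10565 : ∀ i, i < 10565 → P i := stepQ 10564 Q10564 (allL N10564 (tt N21618 D32511) (tt N21618 F51589) (tt N21589 (iv2 F51555)) (tt N21616 (iv3 F51585)) (tt N21619 D32512) (tt N5034 (iv5 D15388)) (tt N21620 D32513) (tt N21589 (iv7 F51556)))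
theorem Q10566 : ∀ i, i < 10566 → P i := stepQ 10565 Q10565 (allL N10565 (tt N5035 F26943) (tt N5035 (iv0 D15395)) (tt N19077 F50610) (tt N21621 D32514) (tt N21622 D32515) (tt N16865 (iv5 F41399)) (tt N21623 D32516) (tt N19077 (iv7 F50609)))
theorem Q10567 : ∀ i, i < 10567 → P i := stepQ 10566 Q10566 (allL N10566 (tt N21624 D32517) (tt N21624 F51595) (tt N14556 (iv2 F36218)) (tt N7041 F26945) (tt N5035 (iv4 D15397)) (tt N7040 (iv5 F26946)) (tt N21612 (iv6 F51575)) (tt N14556 (iv7 F36220)))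
theorem Q10568 : ∀ i, i < 10568 → P i := stepQ 10567 Q10567 (allL N10567 (tt N18567 F188406) (tt N18550 (iv0 F188409)) (tt N18565 F188433) (tt N5036 (iv3 D15400)) (tt N21625 D32521) (tt N21626 D32522) (tt N11825 F301116) (tt N11862 F41792))
theorem Q10569 : ∀ i, i < 10569 → P i := stepQ 10568 Q10568 (allL N10568 (tt N21627 D32524) (tt N21628 D32525) (tt N11853 (iv2 F41794)) (tt N21626 (iv3 F51597)) (tt N16977 F313218) (tt N5036 (iv5 D15402)) (tt N16975 F313219) (tt N11863 F41793))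
theorem Q10570 : ∀ i, i < 10570 → P i := stepQ 10569 Q10569 (allL N10569 (tt N14861 (iv1 F191157)) (tt N21629 D32529) (tt N21630 D32530) (tt N5037 (iv3 D15405)) (tt N21631 D32531) (tt N21632 D32532) (tt N21633 D32533) (tt N11852 (iv7 F41789)))
theorem Q10571 : ∀ i, i < 10571 → P i := stepQ 10570 Q10570 (allL N10570 (tt N21628 (iv1 F51603)) (tt N21627 F51601) (tt N11863 (iv2 F41791)) (tt N21632 (iv3 F51606)) (tt N21461 F310941) (tt N5037 (iv5 D15407)) (tt N21634 D32535) (tt N11853 (iv7 F41790)))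
theorem Q10572 : ∀ i, i < 10572 → P i := stepQ 10571 Q10571 (allL N10571 (tt N8845 F41777) (tt N6012 F41778) (tt N11864 F41779) (tt N21633 (iv3 F51607)) (tt N8649 F41780) (tt N21635 D32536) (tt N5037 (iv6 D15408)) (tt N11824 F301067))
theorem Q10573 : ∀ i, i < 10573 → P i := stepQ 10572 Q10572 (allL N10572 (tt N16995 (iv1 F41812)) (tt N5038 (iv0 D15409)) (tt N16994 (iv2 F41810)) (tt N21636 D32537) (tt N10361 F315406) (tt N21637 D32539) (tt N21153 F50214) (tt N10076 F315407))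
theorem Q10574 : ∀ i, i < 10574 → P i := stepQ 10573 Q10573 (allL N10573 (tt N5038 (iv1 D15410)) (tt N16995 F41770) (tt N10076 F315187) (tt N21638 D32540) (tt N8258 F315188) (tt N10702 (iv5 F25322)) (tt N8183 F315189) (tt N16994 (iv7 F41809)))
theorem Q10575 : ∀ i, i < 10575 → P i := stepQ 10574 Q10574 (allL N10574 (tt N10076 (iv1 F313316)) (tt N16994 F41769) (tt N16995 (iv2 F41767)) (tt N21613 (iv3 F51576)) (tt N16854 (iv4 F313314)) (tt N5039 F24967) (tt N21639 D32547) (tt N5038 (iv7 D15412)))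
theorem Q10576 : ∀ i, i < 10576 → P i := stepQ 10575 Q10575 (allL N10575 (tt N11513 (iv1 F27927)) (tt N5040 (iv0 D15413)) (tt N11512 (iv2 F54134)) (tt N21557 (iv3 F54124)) (tt N11053 (iv4 F54125)) (tt N21640 D32549) (tt N11052 F54121) (tt N11053 (iv7 F54126)))
theorem Q10577 : ∀ i, i < 10577 → P i := stepQ 10576 Q10576 (allL N10576 (tt N11512 (iv1 F27928)) (tt N11053 F54129) (tt N5040 (iv2 D15415)) (tt N11509 (iv3 F27908)) (tt N11193 (iv4 F54077)) (tt N21641 D32554) (tt N20991 (iv6 F49957)) (tt N11513 (iv7 F27926)))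
theorem Q10578 : ∀ i, i < 10578 → P i := stepQ 10577 Q10577 (allL N10577 (tt N21642 D32555) (tt N21643 D32556) (tt N21641 (iv2 F51619)) (tt N5041 F24968) (tt N21644 D32557) (tt N5040 (iv5 D15416)) (tt N16676 (iv6 F314042)) (tt N11514 (iv7 F27934)))
theorem Q10579 : ∀ i, i < 10579 → P i := stepQ 10578 Q10578 (allL N10578 (tt N5041 (iv1 D15417)) (tt N5043 F24969) (tt N10327 (iv2 F26553)) (tt N21618 F51591) (tt N10294 F308790) (tt N8251 F24971) (tt N21645 D32559) (tt N8250 F24970))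
theorem Q10580 : ∀ i, i < 10580 → P i := stepQ 10579 Q10579 (allL N10579 (tt N5042 (iv1 D15421)) (tt N11509 F27912) (tt N11508 (iv2 F54145)) (tt N21565 (iv3 F54152)) (tt N21646 D32571) (tt N21647 D32572) (tt N11809 (iv6 F54153)) (tt N11453 (iv7 F54141)))
theorem Q10581 : ∀ i, i < 10581 → P i := stepQ 10580 Q10580 (allL N10580 (tt N11453 (iv1 F54155)) (tt N11508 F27907) (tt N5042 (iv2 D15422)) (tt N11513 (iv3 F27924)) (tt N11424 (iv4 F27773)) (tt N21648 D32574) (tt N21649 D32575) (tt N11509 (iv7 F27909)))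
theorem Q10582 : ∀ i, i < 10582 → P i := stepQ 10581 Q10581 (allL N10581 (tt N11427 F27779) (tt N11421 (iv0 F27766)) (tt N11424 F27772) (tt N8549 F24973) (tt N5042 (iv4 D15423)) (tt N13446 (iv5 F32598)) (tt N21650 D32576) (tt N11425 (iv7 F27771)))
theorem Q10583 : ∀ i, i < 10583 → P i := stepQ 10582 Q10582 (allL N10582 (tt N21651 D32577) (tt N21652 D32578) (tt N21648 (iv2 F51638)) (tt N5043 F24974) (tt N21653 D32579) (tt N5042 (iv5 D15424)) (tt N21654 D32580) (tt N11510 (iv7 F27914)))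
theorem Q10584 : ∀ i, i < 10584 → P i := stepQ 10583 Q10583 (allL N10583 (tt N21655 D32581) (tt N21656 D32582) (tt N21649 (iv2 F51639)) (tt N5044 F24975) (tt N21650 (iv4 F51641)) (tt N21657 D32583) (tt N5042 (iv6 D15425)) (tt N20994 (iv7 F49960)))
theorem Q10585 : ∀ i, i < 10585 → P i := stepQ 10584 Q10584 (allL N10584 (tt N20499 (iv1 F314043)) (tt N9048 F316523) (tt N11517 (iv2 F27941)) (tt N21654 (iv3 F51642)) (tt N16957 F311595) (tt N20392 (iv5 F318745)) (tt N5043 (iv6 D15427)) (tt N16698 (iv7 F314044)))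
theorem Q10586 : ∀ i, i < 10586 → P i := stepQ 10585 Q10585 (allL N10585 (tt N8477 F24976) (tt N8475 F24977) (tt N10699 (iv2 F26519)) (tt N21657 (iv3 F51643)) (tt N21658 D32590) (tt N5044 (iv5 D15428)) (tt N20392 (iv6 F322634)) (tt N10698 (iv7 F26517)))
theorem Q10587 : ∀ i, i < 10587 → P i := stepQ 10586 Q10586 (allL N10586 (tt N21640 (iv1 F54165)) (tt N21513 (iv0 F54523)) (tt N21659 D32593) (tt N5045 (iv3 D15429)) (tt N21660 D32594) (tt N11806 (iv5 F28410)) (tt N21661 D32595) (tt N16998 (iv7 F41817)))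
theorem Q10588 : ∀ i, i < 10588 → P i := stepQ 10587 Q10587 (allL N10587 (tt N11504 (iv1 F27893)) (tt N8547 F24978) (tt N11501 F27879) (tt N21662 D32596) (tt N5045 (iv4 D15430)) (tt N10685 (iv5 F26762)) (tt N20910 (iv6 F310741)) (tt N11012 F308638))
theorem Q10589 : ∀ i, i < 10589 → P i := stepQ 10588 Q10588 (allL N10588 (tt N20398 (iv1 F313559)) (tt N21663 D32599) (tt N16997 (iv2 F41815)) (tt N21661 (iv3 F51651)) (tt N20910 F312985) (tt N21004 (iv5 F50014)) (tt N5045 (iv6 D15431)) (tt N21664 D32600))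
theorem Q10590 : ∀ i, i < 10590 → P i := stepQ 10589 Q10589 (allL N10589 (tt N21531 (iv1 F54244)) (tt N21647 (iv0 F54260)) (tt N21665 D32603) (tt N5046 (iv3 D15432)) (tt N21666 D32604) (tt N9542 F24979) (tt N21667 D32605) (tt N16996 (iv7 F41814)))
theorem Q10591 : ∀ i, i < 10591 → P i := stepQ 10590 Q10590 (allL N10590 (tt N8547 F24980) (tt N11504 F27892) (tt N11012 F308634) (tt N21668 D32606) (tt N5046 (iv4 D15433)) (tt N10688 (iv5 F26763)) (tt N8464 (iv6 F310736)) (tt N11501 F27880))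
theorem Q10592 : ∀ i, i < 10592 → P i := stepQ 10591 Q10591 (allL N10591 (tt N21669 D32608) (tt N21670 D32609) (tt N11011 F312975) (tt N21667 (iv3 F51655)) (tt N8464 F312976) (tt N9543 F24981) (tt N5046 (iv6 D15434)) (tt N11021 (iv7 F315369)))
theorem Q10593 : ∀ i, i < 10593 → P i := stepQ 10592 Q10592 (allL N10592 (tt N16993 (iv1 F41726)) (tt N5047 (iv0 D15435)) (tt N16999 F41824) (tt N21671 D32611) (tt N5500 F24982) (tt N10690 F26748) (tt N21124 (iv6 F309092)) (tt N17000 (iv7 F41827)))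
theorem Q10594 : ∀ i, i < 10594 → P i := stepQ 10593 Q10593 (allL N10593 (tt N5047 (iv1 D15436)) (tt N16993 (iv0 F41725)) (tt N17000 F41830) (tt N21672 D32613) (tt N5501 F24983) (tt N10691 F26750) (tt N14872 (iv6 F309091)) (tt N16999 F41825))
theorem Q10595 : ∀ i, i < 10595 → P i := stepQ 10594 Q10594 (allL N10594 (tt N17000 (iv1 F41826)) (tt N16999 F41822) (tt N16993 (iv2 F41722)) (tt N5952 F26496) (tt N5048 F24986) (tt N5066 F26497) (tt N21673 D32615) (tt N5047 (iv7 D15439)))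
theorem Q10596 : ∀ i, i < 10596 → P i := stepQ 10595 Q10595 (allL N10595 (tt N21674 D32616) (tt N21675 D32617) (tt N16991 (iv2 F41717)) (tt N21586 (iv3 F51547)) (tt N21673 (iv4 F51668)) (tt N16983 (iv5 F41696)) (tt N5048 (iv6 D15440)) (tt N21639 (iv7 F51616)))
theorem Q10597 : ∀ i, i < 10597 → P i := stepQ 10596 Q10596 (allL N10596 (tt N21676 D32618) (tt N21475 (iv0 F54159)) (tt N17447 (iv2 F43281)) (tt N5049 (iv3 D15441)) (tt N5051 F24988) (tt N21677 D32620) (tt N20997 (iv6 F49966)) (tt N11434 (iv7 F27787)))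
theorem Q10598 : ∀ i, i < 10598 → P i := stepQ 10597 Q10597 (allL N10597 (tt N13453 (iv1 F32624)) (tt N6417 (iv0 F27051)) (tt N11432 (iv2 F27781)) (tt N21677 (iv3 F51669)) (tt N14571 (iv4 F36257)) (tt N5049 (iv5 D15442)) (tt N21678 D32621) (tt N11435 (iv7 F27788)))
theorem Q10599 : ∀ i, i < 10599 → P i := stepQ 10598 Q10598 (allL N10598 (tt N14745 F37048) (tt N16550 F40671) (tt N10753 F26941) (tt N5147 F26942) (tt N5050 (iv4 D15443)) (tt N21679 D32622) (tt N16307 (iv6 F40307)) (tt N16378 (iv7 F40438)))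
theorem Q10600 : ∀ i, i < 10600 → P i := stepQ 10599 Q10599 (allL N10599 (tt N21680 D32623) (tt N10382 (iv0 F27921)) (tt N17448 (iv2 F43282)) (tt N5052 F24989) (tt N21681 D32624) (tt N5051 (iv5 D15447)) (tt N10120 (iv6 F312525)) (tt N17004 (iv7 F41857)))
theorem Q10601 : ∀ i, i < 10601 → P i := stepQ 10600 Q10600 (allL N10600 (tt N5052 (iv1 D15448)) (tt N5055 F24990) (tt N10388 (iv2 F24993)) (tt N21682 D32626) (tt N10447 F309354) (tt N8269 F24992) (tt N21683 D32628) (tt N8268 F24991))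
theorem Q10602 : ∀ i, i < 10602 → P i := stepQ 10601 Q10601 (allL N10601 (tt N5054 (iv1 D15453)) (tt N11193 (iv0 F54074)) (tt N11191 (iv2 F54083)) (tt N21684 D32637) (tt N5335 F54073) (tt N21685 D32638) (tt N5334 (iv6 F54084)) (tt N11190 (iv7 F54079)))
theorem Q10603 : ∀ i, i < 10603 → P i := stepQ 10602 Q10602 (allL N10602 (tt N11190 (iv1 F54086)) (tt N11191 (iv0 F54080)) (tt N5054 (iv2 D15454)) (tt N17003 (iv3 F41852)) (tt N11513 (iv4 F27925)) (tt N21686 D32640) (tt N21687 D32641) (tt N11193 (iv7 F54078)))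
theorem Q10604 : ∀ i, i < 10604 → P i := stepQ 10603 Q10603 (allL N10603 (tt N21313 F54045) (tt N10413 (iv0 F54071)) (tt N21686 (iv2 F51699)) (tt N5055 F24995) (tt N21688 D32644) (tt N5054 (iv5 D15455)) (tt N21689 D32645) (tt N17002 (iv7 F41843)))
theorem Q10605 : ∀ i, i < 10605 → P i := stepQ 10604 Q10604 (allL N10604 (tt N19372 (iv1 F54105)) (tt N21690 D32647) (tt N21687 (iv2 F51701)) (tt N5056 F24996) (tt N11515 (iv4 F27936)) (tt N21691 D32648) (tt N5054 (iv6 D15456)) (tt N21001 (iv7 F49974)))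
theorem Q10606 : ∀ i, i < 10606 → P i := stepQ 10605 Q10605 (allL N10605 (tt N10294 F308794) (tt N10293 F308795) (tt N10296 F308796) (tt N21692 D32649) (tt N5055 (iv4 D15457)) (tt N16987 (iv5 F41712)) (tt N10238 (iv6 F310981)) (tt N8237 F308797))
theorem Q10607 : ∀ i, i < 10607 → P i := stepQ 10606 Q10606 (allL N10606 (tt N21693 D32651) (tt N21694 D32652) (tt N17006 (iv2 F41864)) (tt N21689 (iv3 F51708)) (tt N10238 F313222) (tt N21695 D32653) (tt N5055 (iv6 D15458)) (tt N10122 (iv7 F314008)))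
theorem Q10608 : ∀ i, i < 10608 → P i := stepQ 10607 Q10607 (allL N10607 (tt N8470 F24998) (tt N8468 F24999) (tt N11026 F25906) (tt N21691 (iv3 F51711)) (tt N21696 D32655) (tt N5056 (iv5 D15459)) (tt N21695 (iv6 F51716)) (tt N11027 (iv7 F25908)))
theorem Q10609 : ∀ i, i < 10609 → P i := stepQ 10608 Q10608 (allL N10608 (tt N8944 (iv1 F25001)) (tt N5058 (iv0 D15461)) (tt N8943 (iv2 F27001)) (tt N8103 F27000) (tt N16550 (iv4 F40669)) (tt N14904 (iv5 F37396)) (tt N7270 (iv6 F27002)) (tt N7288 (iv7 F27003)))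
theorem Q10610 : ∀ i, i < 10610 → P i := stepQ 10609 Q10609 (allL N10609 (tt N11809 (iv1 F28419)) (tt N11054 F27736) (tt N5060 (iv2 D15520)) (tt N11804 (iv3 F28400)) (tt N8599 (iv4 F26714)) (tt N21697 D32656) (tt N18221 (iv6 F45543)) (tt N11415 (iv7 F27753)))
theorem Q10611 : ∀ i, i < 10611 → P i := stepQ 10610 Q10610 (allL N10610 (tt N9134 F46145) (tt N21698 D32657) (tt N21697 (iv2 F51720)) (tt N5061 F25074) (tt N17127 F42303) (tt N5060 (iv5 D15521)) (tt N21699 D32658) (tt N10684 (iv7 F26879)))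
theorem Q10612 : ∀ i, i < 10612 → P i := stepQ 10611 Q10611 (allL N10611 (tt N17197 (iv1 F42482)) (tt N21700 D32659) (tt N10688 F26881) (tt N21701 D32660) (tt N5061 (iv4 D15532)) (tt N11012 (iv5 F306796)) (tt N11014 (iv6 F307333)) (tt N10685 (iv7 F26880)))
theorem Q10613 : ∀ i, i < 10613 → P i := stepQ 10612 Q10612 (allL N10612 (tt N15255 F309360) (tt N21553 (iv0 F109883)) (tt N10689 (iv2 F26883)) (tt N21699 (iv3 F51734)) (tt N11014 F309361) (tt N9382 F26484) (tt N5061 (iv6 D15533)) (tt N21702 D32664))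
theorem Q10614 : ∀ i, i < 10614 → P i := stepQ 10613 Q10613 (allL N10613 (tt N11055 F27737) (tt N11052 (iv0 F26768)) (tt N5062 (iv2 D15541)) (tt N11415 (iv3 F27752)) (tt N5659 (iv4 F26765)) (tt N21703 D32665) (tt N16807 (iv6 F41186)) (tt N11804 (iv7 F28402)))
theorem Q10615 : ∀ i, i < 10615 → P i := stepQ 10614 Q10614 (allL N10614 (tt N9120 F26705) (tt N9136 (iv0 F25750)) (tt N21703 (iv2 F51742)) (tt N5063 F25090) (tt N21704 D32666) (tt N5062 (iv5 D15543)) (tt N21705 D32667) (tt N10687 (iv7 F26830)))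
theorem Q10616 : ∀ i, i < 10616 → P i := stepQ 10615 Q10615 (allL N10615 (tt N21700 (iv1 F51736)) (tt N17197 (iv0 F42481)) (tt N10685 F26832) (tt N21706 D32668) (tt N5063 (iv4 D15547)) (tt N11501 F27881) (tt N21707 D32669) (tt N10688 (iv7 F26831)))
theorem Q10617 : ∀ i, i < 10617 → P i := stepQ 10616 Q10616 (allL N10616 (tt N11332 F130801) (tt N21708 D32671) (tt N10686 (iv2 F26877)) (tt N21705 (iv3 F51753)) (tt N21707 (iv4 F51755)) (tt N10307 F26490) (tt N5063 (iv6 D15548)) (tt N21709 D32672))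
theorem Q10618 : ∀ i, i < 10618 → P i := stepQ 10617 Q10617 (allL N10617 (tt N18548 (iv1 F52276)) (tt N18568 F46192) (tt N18528 (iv2 F46126)) (tt N5064 (iv3 D15560)) (tt N10974 F25843) (tt N5097 F25793) (tt N21710 D32674) (tt N16984 (iv7 F41698)))
theorem Q10619 : ∀ i, i < 10619 → P i := stepQ 10618 Q10618 (allL N10618 (tt N11503 (iv1 F27888)) (tt N8620 F26492) (tt N11801 F28393) (tt N21711 D32675) (tt N5064 (iv4 D15561)) (tt N11516 (iv5 F27938)) (tt N21712 D32676) (tt N11159 F309628))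
theorem Q10620 : ∀ i, i < 10620 → P i := stepQ 10619 Q10619 (allL N10619 (tt N18609 F109831) (tt N14874 F109832) (tt N16986 (iv2 F41704)) (tt N21710 (iv3 F51757)) (tt N21712 (iv4 F51758)) (tt N21083 (iv5 F50104)) (tt N5064 (iv6 D15563)) (tt N18608 F110500))
theorem Q10621 : ∀ i, i < 10621 → P i := stepQ 10620 Q10620 (allL N10620 (tt N17766 (iv1 F44428)) (tt N14859 F37312) (tt N18504 (iv2 F46085)) (tt N5065 (iv3 D15565)) (tt N10923 F25797) (tt N5098 F25798) (tt N20264 (iv6 F312112)) (tt N16985 (iv7 F41702)))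
theorem Q10622 : ∀ i, i < 10622 → P i := stepQ 10621 Q10621 (allL N10621 (tt N16982 (iv1 F41693)) (tt N5066 (iv0 D15569)) (tt N16987 F41714) (tt N21713 D32686) (tt N5663 F26494) (tt N10296 F307990) (tt N21714 D32687) (tt N10295 (iv7 F308909)))
theorem Q10623 : ∀ i, i < 10623 → P i := stepQ 10622 Q10622 (allL N10622 (tt N5066 (iv1 D15570)) (tt N16982 (iv0 F41692)) (tt N10295 F309099) (tt N21715 D32688) (tt N5664 F26495) (tt N8237 F309100) (tt N5311 (iv6 F309157)) (tt N16987 (iv7 F41711)))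
theorem Q10624 : ∀ i, i < 10624 → P i := stepQ 10623 Q10623 (allL N10623 (tt N21716 D32690) (tt N21717 D32691) (tt N17026 (iv2 F41935)) (tt N5953 F25104) (tt N5067 F25105) (tt N21718 D32692) (tt N5066 (iv6 D15572)) (tt N21719 D32693))
theorem Q10625 : ∀ i, i < 10625 → P i := stepQ 10624 Q10624 (allL N10624 (tt N17027 (iv1 F41969)) (tt N5067 (iv0 D15573)) (tt N17024 (iv2 F41967)) (tt N21720 D32694) (tt N21721 D32695) (tt N21722 D32696) (tt N21723 D32697) (tt N17025 F41968))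
theorem Q10626 : ∀ i, i < 10626 → P i := stepQ 10625 Q10625 (allL N10625 (tt N5067 (iv1 D15574)) (tt N17027 F41940) (tt N17025 (iv2 F41934)) (tt N21724 D32698) (tt N21725 D32699) (tt N10676 F26498) (tt N21726 D32700) (tt N17024 (iv7 F41966)))
theorem Q10627 : ∀ i, i < 10627 → P i := stepQ 10626 Q10626 (allL N10626 (tt N17025 (iv1 F41932)) (tt N17024 F41939) (tt N17027 (iv2 F41937)) (tt N5070 F25108) (tt N21719 (iv4 F51768)) (tt N5070 F26499) (tt N16992 (iv6 F41721)) (tt N5067 (iv7 D15576)))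
theorem Q10628 : ∀ i, i < 10628 → P i := stepQ 10627 Q10627 (allL N10627 (tt N21727 D32701) (tt N14864 F189990) (tt N21728 D32703) (tt N5068 (iv3 D15592)) (tt N21729 D32704) (tt N21730 D32705) (tt N21731 D32706) (tt N11698 F41963))
theorem Q10629 : ∀ i, i < 10629 → P i := stepQ 10628 Q10628 (allL N10628 (tt N21732 D32707) (tt N21733 D32708) (tt N11686 (iv2 F41965)) (tt N21730 (iv3 F51774)) (tt N15232 (iv4 F307310)) (tt N5068 (iv5 D15594)) (tt N9883 (iv6 F307309)) (tt N11699 F41964))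
theorem Q10630 : ∀ i, i < 10630 → P i := stepQ 10629 Q10629 (allL N10629 (tt N6025 F41943) (tt N12500 F41944) (tt N11687 F41945) (tt N21731 (iv3 F51775)) (tt N5767 F41946) (tt N9884 (iv5 F311554)) (tt N5068 (iv6 D15595)) (tt N17595 (iv7 F43881)))
theorem Q10631 : ∀ i, i < 10631 → P i := stepQ 10630 Q10630 (allL N10630 (tt N18552 (iv1 F190014)) (tt N18576 F190001) (tt N18574 F189920) (tt N5069 (iv3 D15597)) (tt N21734 D32714) (tt N21735 D32715) (tt N21736 D32716) (tt N11685 (iv7 F41960)))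
theorem Q10632 : ∀ i, i < 10632 → P i := stepQ 10631 Q10631 (allL N10631 (tt N21733 (iv1 F51779)) (tt N21732 F51777) (tt N11699 (iv2 F41962)) (tt N21735 (iv3 F51781)) (tt N21737 D32717) (tt N5069 (iv5 D15599)) (tt N21738 D32718) (tt N11686 (iv7 F41961)))
theorem Q10633 : ∀ i, i < 10633 → P i := stepQ 10632 Q10632 (allL N10632 (tt N18616 F46235) (tt N14873 (iv0 F51919)) (tt N11700 (iv2 F41959)) (tt N21736 (iv3 F51782)) (tt N8567 F301127) (tt N21739 D32720) (tt N5069 (iv6 D15600)) (tt N18615 (iv7 F46231)))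
theorem Q10634 : ∀ i, i < 10634 → P i := stepQ 10633 Q10633 (allL N10633 (tt N5198 F26836) (tt N5183 F26837) (tt N10824 (iv2 F26860)) (tt N5072 F25129) (tt N21740 D32721) (tt N5071 (iv5 D15632)) (tt N21741 D32722) (tt N10858 (iv7 F26743)))
theorem Q10635 : ∀ i, i < 10635 → P i := stepQ 10634 Q10634 (allL N10634 (tt N5074 (iv1 F25131)) (tt N5072 (iv0 D15633)) (tt N8424 (iv2 F26463)) (tt N21742 D32723) (tt N21274 (iv4 F50679)) (tt N8423 (iv5 F26458)) (tt N21743 D32724) (tt N15319 (iv7 F38233)))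
theorem Q10636 : ∀ i, i < 10636 → P i := stepQ 10635 Q10635 (allL N10635 (tt N5072 (iv1 D15634)) (tt N5074 F25132) (tt N15319 (iv2 F38232)) (tt N8402 F26889) (tt N21423 F306555) (tt N7445 F25133) (tt N21744 D32726) (tt N8424 (iv7 F26464)))
theorem Q10637 : ∀ i, i < 10637 → P i := stepQ 10636 Q10636 (allL N10636 (tt N10682 (iv1 F26850)) (tt N6742 (iv0 F26848)) (tt N10691 (iv2 F26751)) (tt N21745 D32727) (tt N5072 (iv4 D15635)) (tt N17000 (iv5 F41828)) (tt N15257 (iv6 F307285)) (tt N10690 F26747))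
theorem Q10638 : ∀ i, i < 10638 → P i := stepQ 10637 Q10637 (allL N10637 (tt N11184 F309302) (tt N21746 D32730) (tt N17029 (iv2 F41971)) (tt N21741 (iv3 F51791)) (tt N15257 F309303) (tt N9335 F25134) (tt N5072 (iv6 D15636)) (tt N21747 D32731))
theorem Q10639 : ∀ i, i < 10639 → P i := stepQ 10638 Q10638 (allL N10638 (tt N5073 (iv1 D15637)) (tt N5655 F25135) (tt N8606 F25138) (tt N13457 (iv3 F32635)) (tt N7259 (iv4 F25137)) (tt N21748 D32732) (tt N11393 (iv6 F27693)) (tt N7257 F25136))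
theorem Q10640 : ∀ i, i < 10640 → P i := stepQ 10639 Q10639 (allL N10639 (tt N21749 D32733) (tt N21750 D32734) (tt N11807 (iv2 F28413)) (tt N17442 (iv3 F43264)) (tt N21751 D32735) (tt N5073 (iv5 D15639)) (tt N21752 D32736) (tt N16400 (iv7 F40481)))
theorem Q10641 : ∀ i, i < 10641 → P i := stepQ 10640 Q10640 (allL N10640 (tt N6742 (iv1 F26849)) (tt N10682 F26851) (tt N10690 F26746) (tt N21753 D32737) (tt N5074 (iv4 D15644)) (tt N16999 (iv5 F41820)) (tt N21754 D32738) (tt N10691 (iv7 F26749)))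
theorem Q10642 : ∀ i, i < 10642 → P i := stepQ 10641 Q10641 (allL N10641 (tt N21755 D32739) (tt N21451 (iv0 F51340)) (tt N17030 (iv2 F41974)) (tt N10823 F26874) (tt N21754 (iv4 F51824)) (tt N10355 F25141) (tt N5074 (iv6 D15645)) (tt N21756 D32740))
theorem Q10643 : ∀ i, i < 10643 → P i := stepQ 10642 Q10642 (allL N10642 (tt N14845 (iv1 F37287)) (tt N11371 F27642) (tt N5075 (iv2 D15652)) (tt N16476 (iv3 F40576)) (tt N8042 (iv4 F25569)) (tt N21590 (iv5 F51560)) (tt N21757 D32741) (tt N10809 F25527))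
theorem Q10644 : ∀ i, i < 10644 → P i := stepQ 10643 Q10643 (allL N10643 (tt N21758 D32742) (tt N16492 (iv0 F50888)) (tt N21757 (iv2 F51826)) (tt N5077 F25149) (tt N10813 (iv4 F25579)) (tt N21759 D32743) (tt N5075 (iv6 D15653)) (tt N17046 (iv7 F42005)))
theorem Q10645 : ∀ i, i < 10645 → P i := stepQ 10644 Q10644 (allL N10644 (tt N8408 (iv1 F26646)) (tt N8404 (iv0 F26664)) (tt N8377 F25151) (tt N5076 (iv3 D15655)) (tt N10811 (iv4 F25577)) (tt N12415 F29902) (tt N8390 F27211) (tt N8403 (iv7 F25571)))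
theorem Q10646 : ∀ i, i < 10646 → P i := stepQ 10645 Q10645 (allL N10645 (tt N10932 (iv1 F27188)) (tt N8822 (iv0 F26846)) (tt N10728 (iv2 F25574)) (tt N12415 (iv3 F29903)) (tt N10554 F25153) (tt N5076 (iv5 D15656)) (tt N21760 D32744) (tt N10893 (iv7 F25712)))
theorem Q10647 : ∀ i, i < 10647 → P i := stepQ 10646 Q10646 (allL N10646 (tt N10900 (iv1 F51004)) (tt N10895 (iv0 F50775)) (tt N10729 F25570) (tt N8390 (iv3 F27210)) (tt N5077 F25154) (tt N21761 D32745) (tt N5076 (iv6 D15657)) (tt N10898 (iv7 F51002)))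
theorem Q10648 : ∀ i, i < 10648 → P i := stepQ 10647 Q10647 (allL N10647 (tt N20984 F50557) (tt N18625 (iv0 F50605)) (tt N17036 (iv2 F41983)) (tt N21759 (iv3 F51828)) (tt N21762 D32746) (tt N5077 (iv5 D15661)) (tt N15312 F312691) (tt N17047 (iv7 F42008)))
theorem Q10649 : ∀ i, i < 10649 → P i := stepQ 10648 Q10648 (allL N10648 (tt N8401 (iv1 F26616)) (tt N8414 (iv0 F26648)) (tt N8410 F25531) (tt N8375 F25158) (tt N5078 (iv4 D15666)) (tt N21763 D32747) (tt N21099 (iv6 F50128)) (tt N8409 (iv7 F25532)))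
theorem Q10650 : ∀ i, i < 10650 → P i := stepQ 10649 Q10649 (allL N10649 (tt N8822 (iv1 F26847)) (tt N10932 F27189) (tt N10893 (iv2 F25711)) (tt N8376 F25162) (tt N10555 (iv4 F27273)) (tt N5079 (iv5 D15668)) (tt N21764 D32748) (tt N10728 F25576))
theorem Q10651 : ∀ i, i < 10651 → P i := stepQ 10650 Q10650 (allL N10650 (tt N14290 (iv1 F35181)) (tt N17040 F41996) (tt N5083 F25165) (tt N21765 D32749) (tt N5080 (iv4 D15674)) (tt N12750 (iv5 F30811)) (tt N17666 (iv6 F301774)) (tt N17037 (iv7 F41985)))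
theorem Q10652 : ∀ i, i < 10652 → P i := stepQ 10651 Q10651 (allL N10651 (tt N21766 D32751) (tt N21767 D32752) (tt N5084 F25166) (tt N17031 (iv3 F41977)) (tt N17666 (iv4 F301773)) (tt N19085 (iv5 F46917)) (tt N5080 (iv6 D15675)) (tt N21768 D32753))
theorem Q10653 : ∀ i, i < 10653 → P i := stepQ 10652 Q10652 (allL N10652 (tt N14847 (iv1 F51497)) (tt N18505 (iv0 F46090)) (tt N21769 D32754) (tt N5081 (iv3 D15677)) (tt N10828 F25586) (tt N8315 F27214) (tt N21770 D32755) (tt N10529 (iv7 F27259)))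
theorem Q10654 : ∀ i, i < 10654 → P i := stepQ 10653 Q10653 (allL N10653 (tt N10896 (iv1 F25722)) (tt N21771 D32756) (tt N10542 F27267) (tt N6866 F27216) (tt N5081 (iv4 D15678)) (tt N6865 (iv5 F27217)) (tt N21772 D32757) (tt N6954 (iv7 F27218)))
theorem Q10655 : ∀ i, i < 10655 → P i := stepQ 10654 Q10654 (allL N10654 (tt N21773 D32758) (tt N21774 D32759) (tt N10543 F27268) (tt N21770 (iv3 F51852)) (tt N21772 (iv4 F51859)) (tt N19091 (iv5 F46919)) (tt N5081 (iv6 D15680)) (tt N21775 D32760))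
theorem Q10656 : ∀ i, i < 10656 → P i := stepQ 10655 Q10655 (allL N10655 (tt N16478 (iv1 F40585)) (tt N16491 F40605) (tt N18498 F46080) (tt N5082 (iv3 D15682)) (tt N21776 D32761) (tt N8318 (iv5 F27264)) (tt N21777 D32762) (tt N10538 F27265))
theorem Q10657 : ∀ i, i < 10657 → P i := stepQ 10656 Q10656 (allL N10656 (tt N21771 (iv1 F51853)) (tt N10896 F27271) (tt N6954 F27269) (tt N21778 D32763) (tt N5082 (iv4 D15683)) (tt N6952 (iv5 F27270)) (tt N21779 D32764) (tt N10542 F27266))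
theorem Q10658 : ∀ i, i < 10658 → P i := stepQ 10657 Q10657 (allL N10657 (tt N17426 F155246) (tt N21780 D32766) (tt N10534 (iv2 F27272)) (tt N21777 (iv3 F51870)) (tt N21779 (iv4 F51877)) (tt N21105 (iv5 F50140)) (tt N5082 (iv6 D15685)) (tt N21781 D32767))
theorem Q10659 : ∀ i, i < 10659 → P i := stepQ 10658 Q10658 (allL N10658 (tt N17037 (iv1 F41987)) (tt N5083 (iv0 D15686)) (tt N14290 (iv2 F35177)) (tt N21782 D32768) (tt N17009 (iv4 F41874)) (tt N14287 F35170) (tt N21783 D32769) (tt N17040 (iv7 F41997)))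
theorem Q10660 : ∀ i, i < 10660 → P i := stepQ 10659 Q10659 (allL N10659 (tt N5083 (iv1 D15687)) (tt N17037 (iv0 F41986)) (tt N17040 F41995) (tt N6195 F27845) (tt N11460 F27836) (tt N6194 (iv5 F27837)) (tt N21784 D32770) (tt N14290 (iv7 F35179)))
theorem Q10661 : ∀ i, i < 10661 → P i := stepQ 10660 Q10660 (allL N10660 (tt N12751 (iv1 F30813)) (tt N12682 (iv0 F30603)) (tt N12750 F30812) (tt N5832 F25169) (tt N21785 D32771) (tt N5083 (iv5 D15688)) (tt N21786 D32772) (tt N12749 F30809))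
theorem Q10662 : ∀ i, i < 10662 → P i := stepQ 10661 Q10661 (allL N10661 (tt N21768 (iv1 F51845)) (tt N5084 (iv0 D15690)) (tt N21766 (iv2 F155311)) (tt N21787 D32778) (tt N21788 D32779) (tt N21789 D32780) (tt N21790 D32781) (tt N21767 F155310))
theorem Q10663 : ∀ i, i < 10663 → P i := stepQ 10662 Q10662 (allL N10662 (tt N5084 (iv1 D15691)) (tt N21768 F51844) (tt N21767 F155304) (tt N21791 D32783) (tt N21792 D32784) (tt N21793 D32785) (tt N21794 D32786) (tt N21766 (iv7 F155312)))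
theorem Q10664 : ∀ i, i < 10664 → P i := stepQ 10663 Q10663 (allL N10663 (tt N21767 (iv1 F51841)) (tt N21766 F51843) (tt N21768 (iv2 F51842)) (tt N5091 F25172) (tt N17386 F300274) (tt N19100 (iv5 F46924)) (tt N17045 (iv6 F42003)) (tt N5084 (iv7 D15692)))
theorem Q10665 : ∀ i, i < 10665 → P i := stepQ 10664 Q10664 (allL N10664 (tt N21795 D32787) (tt N10859 (iv0 F25738)) (tt N18511 (iv2 F46102)) (tt N5539 F25180) (tt N5085 (iv4 D15696)) (tt N21796 D32788) (tt N21797 D32789) (tt N10502 F25181))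
theorem Q10666 : ∀ i, i < 10666 → P i := stepQ 10665 Q10665 (allL N10665 (tt N21798 D32790) (tt N21799 D32791) (tt N18512 (iv2 F46105)) (tt N5086 F25182) (tt N21797 (iv4 F51909)) (tt N15333 (iv5 F38250)) (tt N5085 (iv6 D15697)) (tt N21800 D32792))
theorem Q10667 : ∀ i, i < 10667 → P i := stepQ 10666 Q10666 (allL N10666 (tt N10526 (iv1 F25187)) (tt N5086 (iv0 D15698)) (tt N10524 (iv2 F43176)) (tt N15338 F309152) (tt N5422 F38268) (tt N21801 D32794) (tt N15337 F309153) (tt N10525 F43175))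
theorem Q10668 : ∀ i, i < 10668 → P i := stepQ 10667 Q10667 (allL N10667 (tt N5086 (iv1 D15699)) (tt N10526 F25183) (tt N10525 F43177) (tt N21774 F155478) (tt N5423 F43178) (tt N21802 D32796) (tt N21803 D32797) (tt N10524 F43179))
theorem Q10669 : ∀ i, i < 10669 → P i := stepQ 10668 Q10668 (allL N10668 (tt N10525 (iv1 F25188)) (tt N10524 F25189) (tt N10526 F25184) (tt N21800 (iv3 F51910)) (tt N5547 F25185) (tt N15341 (iv5 F38270)) (tt N10508 F25186) (tt N5086 (iv7 D15700)))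
theorem Q10670 : ∀ i, i < 10670 → P i := stepQ 10669 Q10669 (allL N10669 (tt N10521 (iv1 F25196)) (tt N10520 F25194) (tt N5087 (iv2 D15703)) (tt N10500 F25191) (tt N21804 D32798) (tt N5482 F25192) (tt N21805 D32799) (tt N10516 F25193))
theorem Q10671 : ∀ i, i < 10671 → P i := stepQ 10670 Q10670 (allL N10670 (tt N21806 D32800) (tt N19119 F301134) (tt N21804 (iv2 F51923)) (tt N5553 F25197) (tt N5087 (iv4 D15704)) (tt N14843 F301135) (tt N14844 (iv6 F303930)) (tt N10522 F25198))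
theorem Q10672 : ∀ i, i < 10672 → P i := stepQ 10671 Q10671 (allL N10671 (tt N21807 D32804) (tt N21808 D32805) (tt N21805 (iv2 F51927)) (tt N5088 F25199) (tt N14844 F306005) (tt N21809 D32806) (tt N5087 (iv6 D15705)) (tt N21810 D32807))
theorem Q10673 : ∀ i, i < 10673 → P i := stepQ 10672 Q10672 (allL N10672 (tt N17974 (iv1 F44988)) (tt N12494 (iv0 F30059)) (tt N10507 F25201) (tt N21809 (iv3 F51944)) (tt N21811 D32808) (tt N5088 (iv5 D15708)) (tt N5484 F25202) (tt N21812 D32809))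
theorem Q10674 : ∀ i, i < 10674 → P i := stepQ 10673 Q10673 (allL N10673 (tt N5418 (iv1 F30052)) (tt N5414 (iv0 F30053)) (tt N10508 F25203) (tt N21810 (iv3 F51946)) (tt N5557 F25204) (tt N21812 (iv5 F51951)) (tt N10526 F25205) (tt N5088 (iv7 D15709)))
theorem Q10675 : ∀ i, i < 10675 → P i := stepQ 10674 Q10674 (allL N10674 (tt N18521 F190654) (tt N18495 F190655) (tt N18519 F189869) (tt N5089 (iv3 D15711)) (tt N13973 F298255) (tt N21813 D32814) (tt N21814 D32815) (tt N11992 F298256))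
theorem Q10676 : ∀ i, i < 10676 → P i := stepQ 10675 Q10675 (allL N10675 (tt N21815 D32816) (tt N21816 D32817) (tt N11988 F298257) (tt N21813 (iv3 F51955)) (tt N11929 (iv4 F300750)) (tt N5089 (iv5 D15713)) (tt N21817 D32819) (tt N11993 (iv7 F298504)))
theorem Q10677 : ∀ i, i < 10677 → P i := stepQ 10676 Q10676 (allL N10676 (tt N17437 (iv1 F51969)) (tt N21818 D32821) (tt N11989 F298258) (tt N21814 (iv3 F51956)) (tt N5682 F298259) (tt N10625 (iv5 F26498)) (tt N5089 (iv6 D15714)) (tt N21819 D32822))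
theorem Q10678 : ∀ i, i < 10678 → P i := stepQ 10677 Q10677 (allL N10677 (tt N14843 F190028) (tt N21820 D32824) (tt N21821 D32825) (tt N5090 (iv3 D15716)) (tt N13849 F296902) (tt N12621 (iv5 F298513)) (tt N21822 D32828) (tt N11987 (iv7 F297922)))
theorem Q10679 : ∀ i, i < 10679 → P i := stepQ 10678 Q10678 (allL N10678 (tt N21816 (iv1 F51961)) (tt N21815 F51959) (tt N11993 (iv2 F298503)) (tt N12621 (iv3 F298512)) (tt N11932 (iv4 F298518)) (tt N5090 (iv5 D15718)) (tt N21823 D32830) (tt N11988 (iv7 F297923)))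
theorem Q10680 : ∀ i, i < 10680 → P i := stepQ 10679 Q10679 (allL N10679 (tt N17429 (iv1 F43134)) (tt N15337 F309147) (tt N11994 (iv2 F298505)) (tt N21822 (iv3 F51976)) (tt N5678 F296903) (tt N12489 (iv5 F30060)) (tt N5090 (iv6 D15719)) (tt N21824 D32831))
theorem Q10681 : ∀ i, i < 10681 → P i := stepQ 10680 Q10680 (allL N10680 (tt N5092 (iv1 D15748)) (tt N8474 (iv0 F26368)) (tt N10680 F25262) (tt N18629 (iv3 F46275)) (tt N5094 F26308) (tt N8296 F26306) (tt N5094 F26307) (tt N8296 (iv7 F26371)))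
theorem Q10682 : ∀ i, i < 10682 → P i := stepQ 10681 Q10681 (allL N10681 (tt N7234 F25250) (tt N7295 (iv0 F25251)) (tt N9058 F25247) (tt N5094 F25248) (tt N16280 (iv4 F40256)) (tt N5093 (iv5 D15751)) (tt N18629 (iv6 F46277)) (tt N5473 F25249))
theorem Q10683 : ∀ i, i < 10683 → P i := stepQ 10682 Q10682 (allL N10682 (tt N10640 (iv1 F26851)) (tt N10636 F26850) (tt N5102 F25300) (tt N21825 D32832) (tt N5099 (iv4 D15796)) (tt N10293 (iv5 F307192)) (tt N21826 D32833) (tt N13851 (iv7 F33971)))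
theorem Q10684 : ∀ i, i < 10684 → P i := stepQ 10683 Q10683 (allL N10683 (tt N21827 D32834) (tt N21828 D32835) (tt N5103 F25301) (tt N17038 (iv3 F41989)) (tt N21826 (iv4 F51986)) (tt N17331 (iv5 F42806)) (tt N5099 (iv6 D15797)) (tt N21829 D32836))
theorem Q10685 : ∀ i, i < 10685 → P i := stepQ 10684 Q10684 (allL N10684 (tt N18492 (iv1 F51725)) (tt N18529 (iv0 F46131)) (tt N18532 F46149) (tt N5100 (iv3 D15803)) (tt N10769 F25479) (tt N5672 (iv5 F26882)) (tt N21830 D32837) (tt N10610 F26879))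
theorem Q10686 : ∀ i, i < 10686 → P i := stepQ 10685 Q10685 (allL N10685 (tt N21423 F307331) (tt N21274 (iv0 F50680)) (tt N10615 (iv2 F26832)) (tt N21831 D32838) (tt N5100 (iv4 D15804)) (tt N10587 F26762) (tt N21832 D32839) (tt N10611 F26880))
theorem Q10687 : ∀ i, i < 10687 → P i := stepQ 10686 Q10686 (allL N10686 (tt N21833 D32840) (tt N17435 F130803) (tt N10616 F26877) (tt N21830 (iv3 F51992)) (tt N21832 (iv4 F51997)) (tt N10218 (iv5 F26878)) (tt N5100 (iv6 D15806)) (tt N21834 D32842))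
theorem Q10688 : ∀ i, i < 10688 → P i := stepQ 10687 Q10687 (allL N10687 (tt N18508 F46098) (tt N14835 (iv0 F37214)) (tt N18507 F46093) (tt N5101 (iv3 D15808)) (tt N10878 (iv4 F25739)) (tt N5667 (iv5 F26833)) (tt N21835 D32843) (tt N10614 F26830))
theorem Q10689 : ∀ i, i < 10689 → P i := stepQ 10688 Q10688 (allL N10688 (tt N21274 (iv1 F50681)) (tt N21423 F307330) (tt N10611 (iv2 F26881)) (tt N21836 D32844) (tt N5101 (iv4 D15809)) (tt N10590 F26763) (tt N11186 (iv6 F309322)) (tt N10615 F26831))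
theorem Q10690 : ∀ i, i < 10690 → P i := stepQ 10689 Q10689 (allL N10689 (tt N15338 F309089) (tt N21837 D32847) (tt N10612 F26883) (tt N21835 (iv3 F52006)) (tt N11186 (iv4 F309321)) (tt N9557 (iv5 F26884)) (tt N5101 (iv6 D15811)) (tt N21838 D32848))
theorem Q10691 : ∀ i, i < 10691 → P i := stepQ 10690 Q10690 (allL N10690 (tt N13851 (iv1 F33972)) (tt N5102 (iv0 D15812)) (tt N10640 (iv2 F26746)) (tt N21839 D32849) (tt N8329 F26745) (tt N10592 (iv5 F26748)) (tt N21840 D32850) (tt N10636 (iv7 F26747)))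
theorem Q10692 : ∀ i, i < 10692 → P i := stepQ 10691 Q10691 (allL N10691 (tt N5102 (iv1 D15813)) (tt N13851 F33973) (tt N10636 F26751) (tt N21841 D32851) (tt N8327 (iv4 F26752)) (tt N10593 (iv5 F26750)) (tt N15340 (iv6 F307190)) (tt N10640 F26749))
theorem Q10693 : ∀ i, i < 10693 → P i := stepQ 10692 Q10692 (allL N10692 (tt N10296 F308798) (tt N8237 F308799) (tt N10293 F308800) (tt N5804 F25311) (tt N8250 (iv4 F26906)) (tt N5102 (iv5 D15814)) (tt N21842 D32853) (tt N10294 F308801))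
theorem Q10694 : ∀ i, i < 10694 → P i := stepQ 10693 Q10693 (allL N10693 (tt N21843 D32854) (tt N21844 D32855) (tt N21826 (iv2 F51985)) (tt N5805 F25312) (tt N5103 F25313) (tt N21845 D32856) (tt N5102 (iv6 D15815)) (tt N21846 D32857))
theorem Q10695 : ∀ i, i < 10695 → P i := stepQ 10694 Q10694 (allL N10694 (tt N21829 (iv1 F51991)) (tt N5103 (iv0 D15816)) (tt N21827 F110553) (tt N21847 D32859) (tt N21848 D32860) (tt N21849 D32861) (tt N21850 D32862) (tt N21828 F110554))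
theorem Q10696 : ∀ i, i < 10696 → P i := stepQ 10695 Q10695 (allL N10695 (tt N5103 (iv1 D15817)) (tt N21829 F51990) (tt N21828 F110562) (tt N21851 D32864) (tt N21852 D32865) (tt N21853 D32866) (tt N21854 D32867) (tt N21827 F110563))
theorem Q10697 : ∀ i, i < 10697 → P i := stepQ 10696 Q10696 (allL N10696 (tt N21855 D32868) (tt N21856 D32869) (tt N17331 (iv2 F42805)) (tt N5107 F25314) (tt N21857 D32870) (tt N5103 (iv5 D15818)) (tt N5104 F25315) (tt N21858 D32871))
theorem Q10698 : ∀ i, i < 10698 → P i := stepQ 10697 Q10697 (allL N10697 (tt N21828 (iv1 F51987)) (tt N21827 F51989) (tt N21829 (iv2 F51988)) (tt N5108 F25316) (tt N21846 (iv4 F52033)) (tt N21858 (iv5 F52039)) (tt N17034 (iv6 F41981)) (tt N5103 (iv7 D15819)))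
theorem Q10699 : ∀ i, i < 10699 → P i := stepQ 10698 Q10698 (allL N10698 (tt N5252 F26515) (tt N5104 (iv0 D15830)) (tt N17327 F42795) (tt N21859 D32872) (tt N21860 D32873) (tt N10241 F26516) (tt N21861 D32874) (tt N10585 F26517))
theorem Q10700 : ∀ i, i < 10700 → P i := stepQ 10699 Q10699 (allL N10699 (tt N5104 (iv1 D15831)) (tt N5252 F26518) (tt N10585 F26519) (tt N21862 D32875) (tt N21863 D32876) (tt N5513 F26520) (tt N20851 F320754) (tt N17327 (iv7 F42793)))
theorem Q10701 : ∀ i, i < 10701 → P i := stepQ 10700 Q10700 (allL N10700 (tt N21864 D32878) (tt N21865 D32879) (tt N17330 (iv2 F42802)) (tt N20885 (iv3 F321534)) (tt N5104 (iv4 D15832)) (tt N11038 F26521) (tt N21857 (iv6 F52037)) (tt N17328 (iv7 F42797)))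
theorem Q10702 : ∀ i, i < 10702 → P i := stepQ 10701 Q10701 (allL N10701 (tt N21866 D32881) (tt N14853 (iv0 F191180)) (tt N21867 D32883) (tt N5105 (iv3 D15835)) (tt N21868 D32884) (tt N16738 F317422) (tt N21869 D32886) (tt N11978 (iv7 F41749)))
theorem Q10703 : ∀ i, i < 10703 → P i := stepQ 10702 Q10702 (allL N10702 (tt N21803 (iv1 F52074)) (tt N21870 D32891) (tt N11966 (iv2 F41747)) (tt N21869 (iv3 F52064)) (tt N8661 F41746) (tt N10573 F25322) (tt N5105 (iv6 D15838)) (tt N21871 D32892))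
theorem Q10704 : ∀ i, i < 10704 → P i := stepQ 10703 Q10703 (allL N10703 (tt N18522 F188308) (tt N18543 (iv0 F188309)) (tt N18541 F188330) (tt N5106 (iv3 D15840)) (tt N21872 D32896) (tt N20631 (iv5 F316882)) (tt N21873 D32898) (tt N11965 F41752))
theorem Q10705 : ∀ i, i < 10705 → P i := stepQ 10704 Q10704 (allL N10704 (tt N18467 (iv1 F46005)) (tt N17428 (iv0 F51205)) (tt N11980 F41756) (tt N21873 (iv3 F52081)) (tt N8663 (iv4 F41757)) (tt N21874 D32900) (tt N5106 (iv6 D15843)) (tt N21875 D32901))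
theorem Q10706 : ∀ i, i < 10706 → P i := stepQ 10705 Q10705 (allL N10705 (tt N17053 (iv1 F42027)) (tt N5107 (iv0 D15844)) (tt N17052 (iv2 F42017)) (tt N21876 D32902) (tt N9887 (iv4 F316152)) (tt N17595 (iv5 F43882)) (tt N20873 F313991) (tt N9884 F313992))
theorem Q10707 : ∀ i, i < 10707 → P i := stepQ 10706 Q10706 (allL N10706 (tt N5107 (iv1 D15845)) (tt N17053 F42026) (tt N9884 (iv2 F311553)) (tt N21877 D32905) (tt N5281 (iv4 F312642)) (tt N11687 F41739) (tt N5280 F310464) (tt N17052 F42015))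
theorem Q10708 : ∀ i, i < 10708 → P i := stepQ 10707 Q10707 (allL N10707 (tt N9884 F313995) (tt N17052 F42016) (tt N17053 (iv2 F42024)) (tt N21858 (iv3 F52038)) (tt N11139 F313996) (tt N5108 F25325) (tt N21878 D32913) (tt N5107 (iv7 D15847)))
theorem Q10709 : ∀ i, i < 10709 → P i := stepQ 10708 Q10708 (allL N10708 (tt N14854 (iv1 F50894)) (tt N5109 (iv0 D15848)) (tt N14856 F50890) (tt N18458 (iv3 F45996)) (tt N21879 D32914) (tt N21880 D32915) (tt N9537 F54230) (tt N11370 (iv7 F50889)))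
theorem Q10710 : ∀ i, i < 10710 → P i := stepQ 10709 Q10709 (allL N10709 (tt N14856 (iv1 F50893)) (tt N11370 (iv0 F50828)) (tt N5109 (iv2 D15850)) (tt N17055 (iv3 F42029)) (tt N10752 F26996) (tt N21881 D32916) (tt N10750 F26993) (tt N14854 (iv7 F50899)))
theorem Q10711 : ∀ i, i < 10711 → P i := stepQ 10710 Q10710 (allL N10710 (tt N11024 F27013) (tt N14750 (iv0 F42404)) (tt N10752 (iv2 F26995)) (tt N9108 F25326) (tt N5109 (iv4 D15851)) (tt N21882 D32917) (tt N8385 F26994) (tt N16435 (iv7 F40524)))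
theorem Q10712 : ∀ i, i < 10712 → P i := stepQ 10711 Q10711 (allL N10711 (tt N21883 D32918) (tt N21884 D32919) (tt N21881 (iv2 F52109)) (tt N5110 F25327) (tt N21885 D32920) (tt N5109 (iv5 D15852)) (tt N11115 F312701) (tt N17057 (iv7 F42050)))
theorem Q10713 : ∀ i, i < 10713 → P i := stepQ 10712 Q10712 (allL N10712 (tt N21886 D32928) (tt N21887 D32929) (tt N18544 (iv2 F50841)) (tt N5112 F25329) (tt N21888 D32930) (tt N5111 (iv5 D15859)) (tt N21889 D32931) (tt N17056 (iv7 F42037)))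
theorem Q10714 : ∀ i, i < 10714 → P i := stepQ 10713 Q10713 (allL N10713 (tt N20248 (iv1 F315108)) (tt N20247 (iv0 F315107)) (tt N17058 (iv2 F42054)) (tt N21889 (iv3 F52115)) (tt N11112 (iv4 F315175)) (tt N21086 (iv5 F50106)) (tt N5112 (iv6 D15861)) (tt N11109 F312699))
theorem Q10715 : ∀ i, i < 10715 → P i := stepQ 10714 Q10714 (allL N10714 (tt N21880 (iv1 F77274)) (tt N14855 (iv0 F53311)) (tt N21890 D32939) (tt N5113 (iv3 D15862)) (tt N21891 D32940) (tt N10240 F25330) (tt N21892 D32941) (tt N9971 F318721))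
theorem Q10716 : ∀ i, i < 10716 → P i := stepQ 10715 Q10715 (allL N10715 (tt N10016 F313977) (tt N10015 F313978) (tt N10018 F313979) (tt N21892 (iv3 F52118)) (tt N8169 (iv4 F316109)) (tt N21861 (iv5 F52045)) (tt N5113 (iv6 D15864)) (tt N8167 F313980))
theorem Q10717 : ∀ i, i < 10717 → P i := stepQ 10716 Q10716 (allL N10716 (tt N18527 (iv1 F54146)) (tt N18547 (iv0 F54118)) (tt N18545 (iv2 F54160)) (tt N5114 (iv3 D15865)) (tt N21893 D32950) (tt N10239 F25333) (tt N8155 F318759) (tt N17059 (iv7 F42056)))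
theorem Q10718 : ∀ i, i < 10718 → P i := stepQ 10717 Q10717 (allL N10717 (tt N20774 F318094) (tt N20780 F318095) (tt N17060 (iv2 F42070)) (tt N17329 (iv3 F42800)) (tt N16801 F318096) (tt N9563 F25346) (tt N5115 (iv6 D15873)) (tt N21878 (iv7 F52107)))
theorem Q10719 : ∀ i, i < 10719 → P i := stepQ 10718 Q10718 (allL N10718 (tt N5202 (iv1 F50792)) (tt N5116 (iv0 D15874)) (tt N5204 F50783) (tt N5220 F27007) (tt N10435 F27008) (tt N21894 D32970) (tt N5192 F50784) (tt N5193 F50785))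
theorem Q10720 : ∀ i, i < 10720 → P i := stepQ 10719 Q10719 (allL N10719 (tt N5204 (iv1 F50787)) (tt N5193 F50781) (tt N5116 (iv2 D15876)) (tt N5152 F26595) (tt N17055 (iv4 F42030)) (tt N21895 D32971) (tt N5149 F26596) (tt N5202 F50798))
theorem Q10721 : ∀ i, i < 10721 → P i := stepQ 10720 Q10720 (allL N10720 (tt N21896 D32972) (tt N21897 D32973) (tt N21895 (iv2 F52142)) (tt N5117 F25347) (tt N21898 D32974) (tt N5116 (iv5 D15877)) (tt N9914 F313642) (tt N17063 (iv7 F42095)))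
theorem Q10722 : ∀ i, i < 10722 → P i := stepQ 10721 Q10721 (allL N10721 (tt N5120 (iv1 F25349)) (tt N5117 (iv0 D15878)) (tt N11164 (iv2 F27093)) (tt N21899 D32976) (tt N9908 (iv4 F314917)) (tt N7452 F25348) (tt N21900 D32978) (tt N9064 (iv7 F25350)))
theorem Q10723 : ∀ i, i < 10723 → P i := stepQ 10722 Q10722 (allL N10722 (tt N5117 (iv1 D15879)) (tt N5120 F25351) (tt N9064 (iv2 F25353)) (tt N17262 (iv3 F42605)) (tt N9909 (iv4 F316151)) (tt N7202 F25352) (tt N10055 (iv6 F314045)) (tt N11164 (iv7 F27094)))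
theorem Q10724 : ∀ i, i < 10724 → P i := stepQ 10723 Q10723 (allL N10723 (tt N16488 (iv1 F50922)) (tt N16497 F50923) (tt N16495 (iv2 F50902)) (tt N5118 (iv3 D15882)) (tt N5119 F25355) (tt N21901 D32985) (tt N16872 (iv6 F41419)) (tt N16433 (iv7 F40521)))
theorem Q10725 : ∀ i, i < 10725 → P i := stepQ 10724 Q10724 (allL N10724 (tt N18389 (iv1 F45858)) (tt N21902 D32986) (tt N16436 (iv2 F40525)) (tt N21901 (iv3 F52163)) (tt N21903 D32987) (tt N5118 (iv5 D15883)) (tt N21904 D32988) (tt N16434 (iv7 F40522)))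
theorem Q10726 : ∀ i, i < 10726 → P i := stepQ 10725 Q10725 (allL N10725 (tt N21905 D32989) (tt N17318 (iv0 F42774)) (tt N17210 (iv2 F42504)) (tt N5120 F25356) (tt N21906 D32990) (tt N5119 (iv5 D15887)) (tt N21907 D32991) (tt N17062 (iv7 F42079)))
theorem Q10727 : ∀ i, i < 10727 → P i := stepQ 10726 Q10726 (allL N10726 (tt N10191 F317162) (tt N10190 F317163) (tt N10192 F317164) (tt N21908 D32992) (tt N5120 (iv4 D15888)) (tt N8211 F317165) (tt N15310 F317166) (tt N7435 F317167))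
theorem Q10728 : ∀ i, i < 10728 → P i := stepQ 10727 Q10727 (allL N10727 (tt N21909 D32994) (tt N21910 D32995) (tt N17064 (iv2 F42100)) (tt N21907 (iv3 F52168)) (tt N15310 (iv4 F315185)) (tt N21141 (iv5 F50199)) (tt N5120 (iv6 D15889)) (tt N9913 F313684))
theorem Q10729 : ∀ i, i < 10729 → P i := stepQ 10728 Q10728 (allL N10728 (tt N5210 F27190) (tt N17906 F44831) (tt N10645 F25574) (tt N5123 F25368) (tt N12752 F30819) (tt N5121 (iv5 D15897)) (tt N21911 D32997) (tt N10649 (iv7 F25576)))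
theorem Q10730 : ∀ i, i < 10730 → P i := stepQ 10729 Q10729 (allL N10729 (tt N21392 (iv1 F51153)) (tt N5197 F50997) (tt N10646 (iv2 F25570)) (tt N5124 F25369) (tt N8337 F25370) (tt N21912 D32998) (tt N5121 (iv6 D15898)) (tt N21161 (iv7 F50245)))
theorem Q10731 : ∀ i, i < 10731 → P i := stepQ 10730 Q10730 (allL N10730 (tt N5122 (iv1 D15900)) (tt N5126 F25375) (tt N14839 (iv2 F37281)) (tt N14920 (iv3 F37438)) (tt N16477 (iv4 F40580)) (tt N21913 D32999) (tt N21914 D33000) (tt N14924 (iv7 F37447)))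
theorem Q10732 : ∀ i, i < 10732 → P i := stepQ 10731 Q10731 (allL N10731 (tt N21915 D33001) (tt N21916 D33002) (tt N17104 (iv2 F42232)) (tt N17163 (iv3 F42406)) (tt N21917 D33003) (tt N5122 (iv5 D15901)) (tt N21918 D33004) (tt N17098 (iv7 F42210)))
theorem Q10733 : ∀ i, i < 10733 → P i := stepQ 10732 Q10732 (allL N10732 (tt N21879 F52108) (tt N14851 (iv0 F51154)) (tt N17105 (iv2 F42234)) (tt N17164 (iv3 F42408)) (tt N5124 F25376) (tt N21919 D33005) (tt N5122 (iv6 D15902)) (tt N21164 (iv7 F50249)))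
theorem Q10734 : ∀ i, i < 10734 → P i := stepQ 10733 Q10733 (allL N10733 (tt N18569 (iv1 F46194)) (tt N21920 D33006) (tt N17106 (iv2 F42236)) (tt N12626 F30289) (tt N5123 (iv4 D15906)) (tt N12772 (iv5 F30867)) (tt N21921 D33007) (tt N17099 (iv7 F42213)))
theorem Q10735 : ∀ i, i < 10735 → P i := stepQ 10734 Q10734 (allL N10734 (tt N17932 (iv1 F232339)) (tt N5997 (iv0 F232338)) (tt N17107 (iv2 F42238)) (tt N21911 (iv3 F52172)) (tt N21921 (iv4 F52185)) (tt N21922 D33010) (tt N5123 (iv6 D15907)) (tt N17931 F232300))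
theorem Q10736 : ∀ i, i < 10736 → P i := stepQ 10735 Q10735 (allL N10735 (tt N16891 (iv1 F41480)) (tt N5124 (iv0 D15909)) (tt N5245 F27204) (tt N17061 (iv3 F42076)) (tt N21923 D33012) (tt N21924 D33013) (tt N15230 (iv6 F38069)) (tt N17108 (iv7 F43616)))
theorem Q10737 : ∀ i, i < 10737 → P i := stepQ 10736 Q10736 (allL N10736 (tt N21925 D33014) (tt N17321 (iv0 F54571)) (tt N17109 (iv2 F42241)) (tt N21912 (iv3 F52174)) (tt N21926 D33016) (tt N5124 (iv5 D15911)) (tt N21922 (iv6 F52186)) (tt N21167 (iv7 F50258)))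
theorem Q10738 : ∀ i, i < 10738 → P i := stepQ 10737 Q10737 (allL N10737 (tt N11372 F27647) (tt N11369 (iv0 F27633)) (tt N14838 (iv2 F37226)) (tt N16409 (iv3 F40494)) (tt N5125 (iv4 D15916)) (tt N21927 D33017) (tt N21168 (iv6 F50259)) (tt N14837 F37222))
theorem Q10739 : ∀ i, i < 10739 → P i := stepQ 10738 Q10738 (allL N10738 (tt N17220 (iv1 F42533)) (tt N5984 F41472) (tt N17153 (iv2 F42375)) (tt N5127 F25385) (tt N21928 D33018) (tt N5125 (iv5 D15917)) (tt N21929 D33019) (tt N17102 (iv7 F42223)))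
theorem Q10740 : ∀ i, i < 10740 → P i := stepQ 10739 Q10739 (allL N10739 (tt N21916 (iv1 F52179)) (tt N21915 F52178) (tt N17098 (iv2 F42209)) (tt N16387 (iv3 F52199)) (tt N21930 D33020) (tt N5126 (iv5 D15919)) (tt N21931 D33021) (tt N17104 (iv7 F42233)))
theorem Q10741 : ∀ i, i < 10741 → P i := stepQ 10740 Q10740 (allL N10740 (tt N21920 (iv1 F52184)) (tt N18569 (iv0 F46193)) (tt N17099 (iv2 F42211)) (tt N21932 D33022) (tt N5127 (iv4 D15921)) (tt N21933 D33023) (tt N21934 D33024) (tt N17106 (iv7 F42237)))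
theorem Q10742 : ∀ i, i < 10742 → P i := stepQ 10741 Q10741 (allL N10741 (tt N5237 (iv1 F232263)) (tt N17307 (iv0 F232262)) (tt N17100 (iv2 F42214)) (tt N21929 (iv3 F52195)) (tt N21934 (iv4 F52204)) (tt N21172 (iv5 F50261)) (tt N5127 (iv6 D15922)) (tt N17306 (iv7 F232249)))
theorem Q10743 : ∀ i, i < 10743 → P i := stepQ 10742 Q10742 (allL N10742 (tt N8063 (iv1 F25390)) (tt N8062 F25391) (tt N7169 F25388) (tt N5128 (iv3 D15927)) (tt N14737 (iv4 F37029)) (tt N21935 D33028) (tt N21936 D33029) (tt N8064 F25389))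
theorem Q10744 : ∀ i, i < 10744 → P i := stepQ 10743 Q10743 (allL N10743 (tt N11418 (iv1 F35198)) (tt N11416 F27843) (tt N5133 F25392) (tt N21935 (iv3 F52206)) (tt N21937 D33030) (tt N5128 (iv5 D15928)) (tt N21938 D33031) (tt N17110 (iv7 F42244)))
theorem Q10745 : ∀ i, i < 10745 → P i := stepQ 10744 Q10744 (allL N10744 (tt N19492 F47784) (tt N21939 D33032) (tt N5134 F25393) (tt N21936 (iv3 F52211)) (tt N5130 F25394) (tt N21940 D33033) (tt N5128 (iv6 D15929)) (tt N21941 D33034))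
theorem Q10746 : ∀ i, i < 10746 → P i := stepQ 10745 Q10745 (allL N10745 (tt N17127 (iv1 F42302)) (tt N17126 F42301) (tt N5137 F25395) (tt N17072 F301043) (tt N5129 (iv4 D15930)) (tt N21942 D33036) (tt N5129 F301044) (tt N17112 (iv7 F42252)))
theorem Q10747 : ∀ i, i < 10747 → P i := stepQ 10746 Q10746 (allL N10746 (tt N5141 (iv1 F25401)) (tt N5130 (iv0 D15932)) (tt N5138 F50594) (tt N15229 F50595) (tt N21943 D33042) (tt N21944 D33043) (tt N16904 (iv6 F55482)) (tt N5139 F50596))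
theorem Q10748 : ∀ i, i < 10748 → P i := stepQ 10747 Q10747 (allL N10747 (tt N5130 (iv1 D15933)) (tt N5141 F25397) (tt N5139 F50590) (tt N9371 F25398) (tt N21945 D33045) (tt N21946 D33046) (tt N15228 (iv6 F50580)) (tt N5138 F50591))
theorem Q10749 : ∀ i, i < 10749 → P i := stepQ 10748 Q10748 (allL N10748 (tt N21947 D33047) (tt N21948 D33048) (tt N5140 F25399) (tt N17074 (iv3 F42126)) (tt N21949 D33049) (tt N5130 (iv5 D15934)) (tt N21942 F305818) (tt N21950 D33050))
theorem Q10750 : ∀ i, i < 10750 → P i := stepQ 10749 Q10749 (allL N10749 (tt N5139 (iv1 F25402)) (tt N5138 F25403) (tt N5141 F25400) (tt N17075 (iv3 F42129)) (tt N21941 (iv4 F52225)) (tt N21950 (iv5 F52265)) (tt N17116 (iv6 F42267)) (tt N5130 (iv7 D15935)))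
theorem Q10751 : ∀ i, i < 10751 → P i := stepQ 10750 Q10750 (allL N10750 (tt N9132 (iv1 F37260)) (tt N9112 (iv0 F37253)) (tt N8330 (iv2 F25416)) (tt N9118 F25407) (tt N5131 (iv4 D15937)) (tt N21951 D33051) (tt N10709 (iv6 F26993)) (tt N9131 F25449))
theorem Q10752 : ∀ i, i < 10752 → P i := stepQ 10751 Q10751 (allL N10751 (tt N17520 (iv1 F43571)) (tt N5465 F42284) (tt N17119 (iv2 F42281)) (tt N10798 (iv3 F25508)) (tt N21952 D33052) (tt N5131 (iv5 D15938)) (tt N21953 D33053) (tt N17117 (iv7 F42272)))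
theorem Q10753 : ∀ i, i < 10753 → P i := stepQ 10752 Q10752 (allL N10752 (tt N21923 F52191) (tt N17314 F42763) (tt N10710 F26995) (tt N10799 (iv3 F25509)) (tt N10709 (iv4 F26996)) (tt N21954 D33054) (tt N5131 (iv6 D15939)) (tt N21179 (iv7 F50278)))
theorem Q10754 : ∀ i, i < 10754 → P i := stepQ 10753 Q10753 (allL N10753 (tt N14960 F37538) (tt N18157 (iv0 F45394)) (tt N10598 (iv2 F26941)) (tt N5132 (iv3 D15940)) (tt N5505 (iv4 F26506)) (tt N17527 (iv5 F43584)) (tt N21180 (iv6 F50286)) (tt N17118 (iv7 F42278)))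
theorem Q10755 : ∀ i, i < 10755 → P i := stepQ 10754 Q10754 (allL N10754 (tt N5465 F30294) (tt N17520 F43573) (tt N17117 (iv2 F42270)) (tt N17527 F43585) (tt N21955 D33055) (tt N5132 (iv5 D15941)) (tt N21956 D33056) (tt N17119 (iv7 F42282)))
theorem Q10756 : ∀ i, i < 10756 → P i := stepQ 10755 Q10755 (allL N10755 (tt N17110 (iv1 F42245)) (tt N5133 (iv0 D15943)) (tt N11418 (iv2 F35195)) (tt N17443 (iv3 F43268)) (tt N21957 D33057) (tt N8599 F35196) (tt N21958 D33058) (tt N11416 F35197))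
theorem Q10757 : ∀ i, i < 10757 → P i := stepQ 10756 Q10756 (allL N10756 (tt N5133 (iv1 D15944)) (tt N17110 F42246) (tt N11416 (iv2 F35192)) (tt N11807 (iv3 F35193)) (tt N21959 D33059) (tt N8600 F35191) (tt N21960 D33060) (tt N11418 (iv7 F35194)))
theorem Q10758 : ∀ i, i < 10758 → P i := stepQ 10757 Q10757 (allL N10757 (tt N21961 D33061) (tt N17711 (iv0 F46134)) (tt N21937 (iv2 F52213)) (tt N16416 (iv3 F40507)) (tt N5133 (iv4 D15945)) (tt N21962 D33062) (tt N21963 D33063) (tt N17120 (iv7 F42286)))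
theorem Q10759 : ∀ i, i < 10759 → P i := stepQ 10758 Q10758 (allL N10758 (tt N21964 D33064) (tt N21965 D33065) (tt N21938 (iv2 F52215)) (tt N8059 F25473) (tt N21963 (iv4 F52286)) (tt N21966 D33066) (tt N5133 (iv6 D15946)) (tt N21967 D33067))
theorem Q10760 : ∀ i, i < 10760 → P i := stepQ 10759 Q10759 (allL N10759 (tt N21941 (iv1 F52227)) (tt N5134 (iv0 D15947)) (tt N19492 (iv2 F47785)) (tt N21968 D33068) (tt N19491 F47786) (tt N21969 D33069) (tt N21970 D33070) (tt N21939 (iv7 F52217)))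
theorem Q10761 : ∀ i, i < 10761 → P i := stepQ 10760 Q10760 (allL N10760 (tt N5134 (iv1 D15948)) (tt N21941 F52226) (tt N21939 F52218) (tt N14958 F37533) (tt N9361 (iv4 F26985)) (tt N21971 D33071) (tt N9359 F26992) (tt N19492 (iv7 F47782)))
theorem Q10762 : ∀ i, i < 10762 → P i := stepQ 10761 Q10761 (allL N10761 (tt N21972 D33072) (tt N15183 (iv0 F43572)) (tt N21940 (iv2 F52223)) (tt N8060 F25474) (tt N21973 D33073) (tt N5134 (iv5 D15949)) (tt N21966 (iv6 F52288)) (tt N21974 D33074))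
theorem Q10763 : ∀ i, i < 10763 → P i := stepQ 10762 Q10762 (allL N10762 (tt N21939 (iv1 F52216)) (tt N19492 (iv0 F47783)) (tt N21941 (iv2 F52224)) (tt N8061 F25475) (tt N5141 F25476) (tt N21974 (iv5 F52300)) (tt N17125 (iv6 F42299)) (tt N5134 (iv7 D15950)))
theorem Q10764 : ∀ i, i < 10764 → P i := stepQ 10763 Q10763 (allL N10763 (tt N18533 (iv1 F46151)) (tt N21975 D33075) (tt N11477 (iv2 F35204)) (tt N14611 (iv3 F36433)) (tt N5135 (iv4 D15953)) (tt N17698 (iv5 F44364)) (tt N21976 D33076) (tt N11467 F35203))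
theorem Q10765 : ∀ i, i < 10765 → P i := stepQ 10764 Q10764 (allL N10764 (tt N21977 D33077) (tt N17366 F232503) (tt N11478 F35205) (tt N21574 (iv3 F51530)) (tt N21976 (iv4 F52303)) (tt N21978 D33079) (tt N5135 (iv6 D15955)) (tt N21979 D33080))
theorem Q10766 : ∀ i, i < 10766 → P i := stepQ 10765 Q10765 (allL N10765 (tt N17154 F43065) (tt N17161 F43066) (tt N17158 F42392) (tt N5136 (iv3 D15957)) (tt N21980 D33081) (tt N8611 F35190) (tt N21981 D33082) (tt N11473 (iv7 F35199)))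
theorem Q10767 : ∀ i, i < 10767 → P i := stepQ 10766 Q10766 (allL N10766 (tt N21975 (iv1 F52301)) (tt N18533 (iv0 F46150)) (tt N11467 (iv2 F35201)) (tt N21982 D33083) (tt N5136 (iv4 D15958)) (tt N21983 D33084) (tt N21984 D33085) (tt N11477 (iv7 F35200)))
theorem Q10768 : ∀ i, i < 10768 → P i := stepQ 10767 Q10767 (allL N10767 (tt N17415 F232399) (tt N21985 D33087) (tt N11468 (iv2 F35202)) (tt N21981 (iv3 F52307)) (tt N21984 (iv4 F52309)) (tt N21986 D33088) (tt N5136 (iv6 D15960)) (tt N21987 D33089))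
theorem Q10769 : ∀ i, i < 10769 → P i := stepQ 10768 Q10768 (allL N10768 (tt N17112 (iv1 F42254)) (tt N5137 (iv0 D15961)) (tt N17127 (iv2 F42306)) (tt N21988 D33090) (tt N21697 (iv4 F51724)) (tt N21989 D33091) (tt N21990 D33092) (tt N17126 F42307))
theorem Q10770 : ∀ i, i < 10770 → P i := stepQ 10769 Q10769 (allL N10769 (tt N5137 (iv1 D15962)) (tt N17112 (iv0 F42253)) (tt N17126 F42305) (tt N21991 D33093) (tt N10684 (iv4 F25479)) (tt N21992 D33094) (tt N21993 D33095) (tt N17127 (iv7 F42304)))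
theorem Q10771 : ∀ i, i < 10771 → P i := stepQ 10770 Q10770 (allL N10770 (tt N21994 D33096) (tt N21995 D33097) (tt N21942 (iv2 F52229)) (tt N5144 F301045) (tt N21996 D33098) (tt N5137 (iv5 D15963)) (tt N5140 (iv6 F303775)) (tt N17128 (iv7 F42309)))
theorem Q10772 : ∀ i, i < 10772 → P i := stepQ 10771 Q10771 (allL N10771 (tt N19029 F46876) (tt N10868 F53954) (tt N9366 F50572) (tt N5138 (iv3 D15970)) (tt N9364 F50573) (tt N21997 D33119) (tt N21309 (iv6 F54357)) (tt N9371 F50574))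
theorem Q10773 : ∀ i, i < 10773 → P i := stepQ 10772 Q10772 (allL N10772 (tt N21998 D33121) (tt N21914 (iv0 F54285)) (tt N21943 (iv2 F52240)) (tt N17175 F42438) (tt N5138 (iv4 D15971)) (tt N21999 D33123) (tt N22000 D33124) (tt N21945 (iv7 F52250)))
theorem Q10774 : ∀ i, i < 10774 → P i := stepQ 10773 Q10773 (allL N10773 (tt N22001 D33125) (tt N19025 (iv0 F52346)) (tt N21944 (iv2 F52243)) (tt N21997 (iv3 F52338)) (tt N22002 D33126) (tt N5138 (iv5 D15972)) (tt N22003 D33127) (tt N21946 (iv7 F52253)))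
theorem Q10775 : ∀ i, i < 10775 → P i := stepQ 10774 Q10774 (allL N10774 (tt N16894 F52345) (tt N16906 (iv0 F52344)) (tt N16904 (iv2 F55480)) (tt N21309 (iv3 F54355)) (tt N22000 (iv4 F52353)) (tt N22004 D33128) (tt N5138 (iv6 D15973)) (tt N16903 F50593))
theorem Q10776 : ∀ i, i < 10776 → P i := stepQ 10775 Q10775 (allL N10775 (tt N7495 F50586) (tt N15230 F50587) (tt N15228 F50588) (tt N5139 (iv3 D15975)) (tt N22005 D33129) (tt N22006 D33130) (tt N5139 F50592) (tt N15229 F50589))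
theorem Q10777 : ∀ i, i < 10777 → P i := stepQ 10776 Q10776 (allL N10776 (tt N21914 (iv1 F54286)) (tt N21998 F52350) (tt N21945 (iv2 F52248)) (tt N22007 D33131) (tt N5139 (iv4 D15976)) (tt N22008 D33132) (tt N22005 (iv6 F52362)) (tt N21943 (iv7 F52241)))
theorem Q10778 : ∀ i, i < 10778 → P i := stepQ 10777 Q10777 (allL N10777 (tt N19025 (iv1 F52347)) (tt N22001 F52357) (tt N21946 (iv2 F52251)) (tt N22006 (iv3 F52364)) (tt N22009 D33133) (tt N5139 (iv5 D15977)) (tt N22010 D33134) (tt N21944 (iv7 F52244)))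
theorem Q10779 : ∀ i, i < 10779 → P i := stepQ 10778 Q10778 (allL N10778 (tt N21950 (iv1 F52267)) (tt N5140 (iv0 D15979)) (tt N21947 F52256) (tt N22011 D33135) (tt N22012 D33136) (tt N18392 F50540) (tt N22013 D33137) (tt N21948 (iv7 F52259)))
theorem Q10780 : ∀ i, i < 10780 → P i := stepQ 10779 Q10779 (allL N10779 (tt N5140 (iv1 D15980)) (tt N21950 F52266) (tt N21948 (iv2 F52261)) (tt N11480 F30296) (tt N22014 D33138) (tt N11474 (iv5 F30295)) (tt N22015 D33139) (tt N21947 F52257))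
theorem Q10781 : ∀ i, i < 10781 → P i := stepQ 10780 Q10780 (allL N10780 (tt N22016 D33140) (tt N15251 (iv0 F38098)) (tt N21949 (iv2 F52263)) (tt N22017 D33141) (tt N5140 (iv4 D15981)) (tt N22018 D33142) (tt N21996 F305819) (tt N22019 D33143))
theorem Q10782 : ∀ i, i < 10782 → P i := stepQ 10781 Q10781 (allL N10781 (tt N21948 (iv1 F52258)) (tt N21947 F52262) (tt N21950 (iv2 F52264)) (tt N5146 F25489) (tt N22019 (iv4 F52371)) (tt N5141 F25490) (tt N22020 D33144) (tt N5140 (iv7 D15982)))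
theorem Q10783 : ∀ i, i < 10783 → P i := stepQ 10782 Q10782 (allL N10782 (tt N17190 (iv1 F86306)) (tt N17152 (iv0 F53174)) (tt N17188 (iv2 F85919)) (tt N5142 (iv3 D15984)) (tt N22021 D33148) (tt N22022 D33149) (tt N22023 D33150) (tt N17092 (iv7 F42195)))
theorem Q10784 : ∀ i, i < 10784 → P i := stepQ 10783 Q10783 (allL N10783 (tt N11023 F25901) (tt N8564 (iv0 F298468)) (tt N11830 (iv2 F298778)) (tt N22022 (iv3 F52374)) (tt N11607 (iv4 F298782)) (tt N5142 (iv5 D15986)) (tt N22024 D33153) (tt N11829 (iv7 F298213)))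
theorem Q10785 : ∀ i, i < 10785 → P i := stepQ 10784 Q10784 (allL N10784 (tt N17419 (iv1 F51339)) (tt N21449 (iv0 F51228)) (tt N17091 F42191) (tt N22023 (iv3 F52375)) (tt N5839 F29941) (tt N11001 F25871) (tt N5142 (iv6 D15987)) (tt N22025 D33154))
theorem Q10786 : ∀ i, i < 10786 → P i := stepQ 10785 Q10785 (allL N10785 (tt N5188 F190506) (tt N22026 D33156) (tt N12609 (iv2 F299255)) (tt N5143 (iv3 D15989)) (tt N6889 F297179) (tt N12589 (iv5 F299257)) (tt N22027 D33160) (tt N12600 (iv7 F298777)))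
theorem Q10787 : ∀ i, i < 10787 → P i := stepQ 10786 Q10786 (allL N10786 (tt N8564 F300699) (tt N11023 F42198) (tt N11829 F300700) (tt N12589 F300701) (tt N5911 (iv4 F301590)) (tt N5143 (iv5 D15991)) (tt N22028 D33162) (tt N11830 F300702))
theorem Q10788 : ∀ i, i < 10788 → P i := stepQ 10787 Q10787 (allL N10787 (tt N17949 (iv1 F44924)) (tt N17365 F43211) (tt N17093 (iv2 F42200)) (tt N22027 (iv3 F52382)) (tt N5840 F29945) (tt N12447 F29946) (tt N5143 (iv6 D15992)) (tt N22029 D33163))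
theorem Q10789 : ∀ i, i < 10789 → P i := stepQ 10788 Q10788 (allL N10788 (tt N17095 (iv1 F42203)) (tt N5144 (iv0 D15993)) (tt N14040 (iv2 F298685)) (tt N22030 D33164) (tt N14041 (iv4 F297145)) (tt N5690 F296981) (tt N22031 D33165) (tt N17094 F42648))
theorem Q10790 : ∀ i, i < 10790 → P i := stepQ 10789 Q10789 (allL N10789 (tt N5144 (iv1 D15994)) (tt N17095 F42168) (tt N17094 F42646) (tt N6064 (iv3 F302499)) (tt N11284 F299529) (tt N5691 F299530) (tt N22032 D33167) (tt N14040 F299531))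
theorem Q10791 : ∀ i, i < 10791 → P i := stepQ 10790 Q10790 (allL N10790 (tt N17184 (iv1 F301064)) (tt N17557 (iv0 F301061)) (tt N5746 (iv2 F299920)) (tt N22033 D33168) (tt N5144 (iv4 D15995)) (tt N5736 F299527) (tt N5145 F25493) (tt N17591 (iv7 F299922)))
theorem Q10792 : ∀ i, i < 10792 → P i := stepQ 10791 Q10791 (allL N10791 (tt N22034 D33172) (tt N22035 D33173) (tt N22036 D33174) (tt N5145 (iv3 D15997)) (tt N22017 (iv4 F52368)) (tt N9674 F25495) (tt N22033 (iv6 F52388)) (tt N9673 F25496))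
theorem Q10793 : ∀ i, i < 10793 → P i := stepQ 10792 Q10792 (allL N10792 (tt N22037 D33175) (tt N22038 D33176) (tt N17097 (iv2 F42206)) (tt N22020 (iv3 F52372)) (tt N9675 F25497) (tt N17148 (iv5 F42364)) (tt N5146 (iv6 D15998)) (tt N17592 F303874))
theorem Q10794 : ∀ i, i < 10794 → P i := stepQ 10793 Q10793 (allL N10793 (tt N5150 (iv1 F25500)) (tt N5147 (iv0 D16003)) (tt N16470 (iv2 F40560)) (tt N14921 (iv3 F37444)) (tt N11371 (iv4 F27640)) (tt N22039 D33177) (tt N22040 D33178) (tt N14846 (iv7 F37291)))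
theorem Q10795 : ∀ i, i < 10795 → P i := stepQ 10794 Q10794 (allL N10794 (tt N22041 D33179) (tt N16505 (iv0 F41870)) (tt N17068 (iv2 F42107)) (tt N21679 (iv3 F51672)) (tt N22042 D33180) (tt N5147 (iv5 D16006)) (tt N22043 D33181) (tt N17065 (iv7 F42102)))
theorem Q10796 : ∀ i, i < 10796 → P i := stepQ 10795 Q10795 (allL N10795 (tt N22044 D33182) (tt N22045 D33183) (tt N17069 (iv2 F42110)) (tt N12265 F29548) (tt N5148 (iv4 D16010)) (tt N22046 D33184) (tt N22047 D33185) (tt N17066 (iv7 F42104)))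
theorem Q10797 : ∀ i, i < 10797 → P i := stepQ 10796 Q10796 (allL N10796 (tt N17298 F130761) (tt N5241 (iv0 F130762)) (tt N17070 (iv2 F42112)) (tt N17543 (iv3 F43650)) (tt N22047 (iv4 F52412)) (tt N21233 (iv5 F50379)) (tt N5148 (iv6 D16011)) (tt N17297 (iv7 F130738)))
theorem Q10798 : ∀ i, i < 10798 → P i := stepQ 10797 Q10797 (allL N10797 (tt N11195 (iv1 F50738)) (tt N5207 F25785) (tt N10864 (iv2 F25646)) (tt N5151 F25506) (tt N18560 (iv4 F46183)) (tt N5149 (iv5 D16016)) (tt N22048 D33189) (tt N10866 (iv7 F25664)))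
theorem Q10799 : ∀ i, i < 10799 → P i := stepQ 10798 Q10798 (allL N10798 (tt N16505 (iv1 F42109)) (tt N22041 F52405) (tt N17065 (iv2 F42101)) (tt N10751 F25508) (tt N22049 D33190) (tt N5150 (iv5 D16018)) (tt N22050 D33191) (tt N17068 (iv7 F42108)))
theorem Q10800 : ∀ i, i < 10800 → P i := stepQ 10799 Q10799 (allL N10799 (tt N16497 (iv1 F50924)) (tt N16488 (iv0 F50920)) (tt N16433 (iv2 F40518)) (tt N10752 F25509) (tt N5152 F25510) (tt N22051 D33192) (tt N5150 (iv6 D16019)) (tt N16495 (iv7 F50906)))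
theorem Q10801 : ∀ i, i < 10801 → P i := stepQ 10800 Q10800 (allL N10800 (tt N22045 (iv1 F52409)) (tt N22044 F52408) (tt N17066 (iv2 F42103)) (tt N22052 D33193) (tt N5151 (iv4 D16020)) (tt N22053 D33194) (tt N22054 D33195) (tt N17069 (iv7 F42111)))
theorem Q10802 : ∀ i, i < 10802 → P i := stepQ 10801 Q10801 (allL N10801 (tt N5994 (iv1 F199860)) (tt N17940 F199857) (tt N17067 (iv2 F42105)) (tt N22048 (iv3 F52413)) (tt N22054 (iv4 F52419)) (tt N22055 D33198) (tt N5151 (iv6 D16021)) (tt N17939 (iv7 F199861)))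
theorem Q10803 : ∀ i, i < 10803 → P i := stepQ 10802 Q10802 (allL N10802 (tt N17318 (iv1 F42775)) (tt N21905 F52167) (tt N17062 (iv2 F42077)) (tt N21895 (iv3 F52143)) (tt N22056 D33200) (tt N5152 (iv5 D16024)) (tt N22055 (iv6 F52420)) (tt N17210 (iv7 F42505)))
theorem Q10804 : ∀ i, i < 10804 → P i := stepQ 10803 Q10803 (allL N10803 (tt N11773 (iv1 F28358)) (tt N11770 (iv0 F28345)) (tt N5158 F25511) (tt N16412 (iv3 F40504)) (tt N22057 D33201) (tt N5153 (iv5 D16026)) (tt N22058 D33202) (tt N16403 (iv7 F40488)))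
theorem Q10805 : ∀ i, i < 10805 → P i := stepQ 10804 Q10804 (allL N10804 (tt N17164 F42410) (tt N22059 D33203) (tt N5159 F25512) (tt N16413 (iv3 F40506)) (tt N5155 F25513) (tt N22060 D33204) (tt N5153 (iv6 D16027)) (tt N17259 (iv7 F42595)))
theorem Q10806 : ∀ i, i < 10806 → P i := stepQ 10805 Q10805 (allL N10805 (tt N12196 (iv1 F29482)) (tt N17076 F42134) (tt N5162 F25514) (tt N22061 D33205) (tt N5154 (iv4 D16028)) (tt N22062 D33206) (tt N22063 D33207) (tt N17071 (iv7 F42114)))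
theorem Q10807 : ∀ i, i < 10807 → P i := stepQ 10806 Q10806 (allL N10806 (tt N22064 D33208) (tt N22065 D33209) (tt N5163 F25515) (tt N17113 (iv3 F42256)) (tt N22063 (iv4 F52433)) (tt N22066 D33210) (tt N5154 (iv6 D16029)) (tt N22067 D33211))
theorem Q10808 : ∀ i, i < 10808 → P i := stepQ 10807 Q10807 (allL N10807 (tt N22068 D33212) (tt N22069 D33213) (tt N5165 F25517) (tt N17115 (iv3 F42264)) (tt N22070 D33214) (tt N5155 (iv5 D16032)) (tt N22066 (iv6 F52436)) (tt N17260 (iv7 F42599)))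
theorem Q10809 : ∀ i, i < 10809 → P i := stepQ 10808 Q10808 (allL N10808 (tt N17166 F42415) (tt N17169 F42422) (tt N16409 (iv2 F40493)) (tt N5156 (iv3 D16035)) (tt N14736 F37022) (tt N22071 D33215) (tt N21242 (iv6 F50389)) (tt N16401 (iv7 F40482)))
theorem Q10810 : ∀ i, i < 10810 → P i := stepQ 10809 Q10809 (allL N10809 (tt N9119 (iv1 F25529)) (tt N7218 (iv0 F37229)) (tt N8335 (iv2 F25554)) (tt N9115 F25525) (tt N5156 (iv4 D16036)) (tt N22072 D33216) (tt N21243 (iv6 F50391)) (tt N10642 (iv7 F25527)))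
theorem Q10811 : ∀ i, i < 10811 → P i := stepQ 10810 Q10810 (allL N10810 (tt N16364 (iv1 F40400)) (tt N5649 F40401) (tt N16366 F40410) (tt N22071 (iv3 F52446)) (tt N22073 D33217) (tt N5156 (iv5 D16037)) (tt N22074 D33218) (tt N16365 F40406))
theorem Q10812 : ∀ i, i < 10812 → P i := stepQ 10811 Q10811 (allL N10811 (tt N11369 F27634) (tt N11372 (iv0 F27645)) (tt N14837 F37221) (tt N5157 (iv3 D16039)) (tt N10644 F25577) (tt N22075 D33219) (tt N17133 (iv6 F42317)) (tt N14838 (iv7 F37224)))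
theorem Q10813 : ∀ i, i < 10813 → P i := stepQ 10812 Q10812 (allL N10812 (tt N5649 F27124) (tt N16364 F40402) (tt N16365 F40405) (tt N22075 (iv3 F52457)) (tt N22076 D33220) (tt N5157 (iv5 D16040)) (tt N22077 D33221) (tt N16366 (iv7 F40408)))
theorem Q10814 : ∀ i, i < 10814 → P i := stepQ 10813 Q10813 (allL N10813 (tt N16554 F40675) (tt N17179 (iv0 F42441)) (tt N16402 (iv2 F40486)) (tt N17133 (iv3 F42316)) (tt N10643 F25579) (tt N22078 D33222) (tt N5157 (iv6 D16041)) (tt N17202 (iv7 F42493)))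
theorem Q10815 : ∀ i, i < 10815 → P i := stepQ 10814 Q10814 (allL N10814 (tt N16403 (iv1 F40489)) (tt N5158 (iv0 D16042)) (tt N11773 (iv2 F28355)) (tt N22079 D33223) (tt N22080 D33224) (tt N8020 F28356) (tt N19416 (iv6 F324294)) (tt N11770 F28357))
theorem Q10816 : ∀ i, i < 10816 → P i := stepQ 10815 Q10815 (allL N10815 (tt N5158 (iv1 D16043)) (tt N16403 F40490) (tt N11770 (iv2 F28344)) (tt N22081 D33226) (tt N22082 D33227) (tt N8021 F26864) (tt N22083 D33228) (tt N11773 (iv7 F28353)))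
theorem Q10817 : ∀ i, i < 10817 → P i := stepQ 10816 Q10816 (allL N10816 (tt N22084 D33229) (tt N22085 D33230) (tt N22057 (iv2 F52421)) (tt N22086 D33231) (tt N5158 (iv4 D16044)) (tt N22087 D33232) (tt N22088 D33233) (tt N16404 (iv7 F40491)))
theorem Q10818 : ∀ i, i < 10818 → P i := stepQ 10817 Q10817 (allL N10817 (tt N22089 D33234) (tt N22090 D33235) (tt N22058 (iv2 F52422)) (tt N9103 F25580) (tt N22088 (iv4 F52466)) (tt N22091 D33236) (tt N5158 (iv6 D16045)) (tt N22092 D33237))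
theorem Q10819 : ∀ i, i < 10819 → P i := stepQ 10818 Q10818 (allL N10818 (tt N17259 (iv1 F42597)) (tt N5159 (iv0 D16046)) (tt N17164 (iv2 F50253)) (tt N16411 (iv3 F50255)) (tt N22093 D33238) (tt N22094 D33239) (tt N16410 F50254) (tt N22059 (iv7 F52424)))
theorem Q10820 : ∀ i, i < 10820 → P i := stepQ 10819 Q10819 (allL N10819 (tt N5159 (iv1 D16047)) (tt N17259 F42596) (tt N22059 F52425) (tt N21164 (iv3 F50250)) (tt N22095 D33240) (tt N22096 D33241) (tt N16917 F50251) (tt N17164 F50252))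
theorem Q10821 : ∀ i, i < 10821 → P i := stepQ 10820 Q10820 (allL N10820 (tt N22097 D33242) (tt N22098 D33243) (tt N22060 (iv2 F52426)) (tt N9106 F25581) (tt N22099 D33244) (tt N5159 (iv5 D16048)) (tt N22091 (iv6 F52468)) (tt N22100 D33245))
theorem Q10822 : ∀ i, i < 10822 → P i := stepQ 10821 Q10821 (allL N10821 (tt N22059 (iv1 F52423)) (tt N17164 (iv0 F42411)) (tt N17259 (iv2 F42594)) (tt N9107 F25582) (tt N5166 F25583) (tt N22100 (iv5 F52481)) (tt N16134 (iv6 F39976)) (tt N5159 (iv7 D16049)))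
theorem Q10823 : ∀ i, i < 10823 → P i := stepQ 10822 Q10822 (allL N10822 (tt N22101 D33246) (tt N22102 D33247) (tt N11797 (iv2 F28384)) (tt N17241 F42863) (tt N5160 (iv4 D16052)) (tt N17239 (iv5 F42864)) (tt N22103 D33248) (tt N11793 (iv7 F28379)))
theorem Q10824 : ∀ i, i < 10824 → P i := stepQ 10823 Q10823 (allL N10823 (tt N22104 D33249) (tt N17417 F130874) (tt N11798 (iv2 F28386)) (tt N10641 (iv3 F26874)) (tt N22103 (iv4 F52486)) (tt N21207 (iv5 F50333)) (tt N5160 (iv6 D16054)) (tt N22105 D33251))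
theorem Q10825 : ∀ i, i < 10825 → P i := stepQ 10824 Q10824 (allL N10824 (tt N10872 F26858) (tt N5178 F26859) (tt N10633 F26860) (tt N5161 (iv3 D16056)) (tt N18513 (iv4 F46106)) (tt N8538 F26861) (tt N22106 D33252) (tt N10869 F26862))
theorem Q10826 : ∀ i, i < 10826 → P i := stepQ 10825 Q10825 (allL N10825 (tt N22102 (iv1 F52484)) (tt N22101 F52483) (tt N11793 (iv2 F28378)) (tt N22107 D33253) (tt N5161 (iv4 D16057)) (tt N22108 D33254) (tt N22109 D33255) (tt N11797 (iv7 F28385)))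
theorem Q10827 : ∀ i, i < 10827 → P i := stepQ 10826 Q10826 (allL N10826 (tt N17363 F130957) (tt N22110 D33257) (tt N11794 (iv2 F28380)) (tt N22106 (iv3 F52489)) (tt N22109 (iv4 F52491)) (tt N22111 D33258) (tt N5161 (iv6 D16059)) (tt N22112 D33259))
theorem Q10828 : ∀ i, i < 10828 → P i := stepQ 10827 Q10827 (allL N10827 (tt N17071 (iv1 F42116)) (tt N5162 (iv0 D16060)) (tt N12196 (iv2 F29485)) (tt N22113 D33260) (tt N21558 (iv4 F51495)) (tt N12195 F29486) (tt N22114 D33261) (tt N17076 (iv7 F42135)))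
theorem Q10829 : ∀ i, i < 10829 → P i := stepQ 10828 Q10828 (allL N10828 (tt N5162 (iv1 D16061)) (tt N17071 (iv0 F42115)) (tt N17076 F42133) (tt N12157 F29428) (tt N10652 (iv4 F25586)) (tt N12156 (iv5 F29429)) (tt N22115 D33262) (tt N12196 (iv7 F29481)))
theorem Q10830 : ∀ i, i < 10830 → P i := stepQ 10829 Q10829 (allL N10829 (tt N22116 D33263) (tt N5859 (iv0 F25588)) (tt N22062 (iv2 F52428)) (tt N5746 F25587) (tt N22117 D33264) (tt N5162 (iv5 D16062)) (tt N17096 (iv6 F305113)) (tt N17077 (iv7 F42137)))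
theorem Q10831 : ∀ i, i < 10831 → P i := stepQ 10830 Q10830 (allL N10830 (tt N22118 D33266) (tt N22119 D33267) (tt N22063 (iv2 F52432)) (tt N5747 F25589) (tt N5163 F25590) (tt N19642 (iv5 F305863)) (tt N5162 (iv6 D16063)) (tt N22120 D33269))
theorem Q10832 : ∀ i, i < 10832 → P i := stepQ 10831 Q10831 (allL N10831 (tt N22067 (iv1 F52440)) (tt N5163 (iv0 D16064)) (tt N22064 (iv2 F185112)) (tt N22121 D33271) (tt N22122 D33272) (tt N22123 D33273) (tt N22124 D33274) (tt N22065 F185111))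
theorem Q10833 : ∀ i, i < 10833 → P i := stepQ 10832 Q10832 (allL N10832 (tt N5163 (iv1 D16065)) (tt N22067 F52439) (tt N22065 F185104) (tt N22125 D33276) (tt N22126 D33277) (tt N22127 D33278) (tt N22128 D33279) (tt N22064 (iv7 F185113)))
theorem Q10834 : ∀ i, i < 10834 → P i := stepQ 10833 Q10833 (allL N10833 (tt N22129 D33280) (tt N22130 D33281) (tt N22066 (iv2 F52435)) (tt N5169 F25591) (tt N22131 D33282) (tt N5163 (iv5 D16066)) (tt N5165 F25592) (tt N22132 D33283))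
theorem Q10835 : ∀ i, i < 10835 → P i := stepQ 10834 Q10834 (allL N10834 (tt N22065 (iv1 F52434)) (tt N22064 F52438) (tt N22067 (iv2 F52437)) (tt N5170 F25593) (tt N22120 (iv4 F52505)) (tt N22132 (iv5 F52510)) (tt N17082 (iv6 F42145)) (tt N5163 (iv7 D16067)))
theorem Q10836 : ∀ i, i < 10836 → P i := stepQ 10835 Q10835 (allL N10835 (tt N16490 (iv1 F50919)) (tt N16518 F40631) (tt N16339 (iv2 F40353)) (tt N22133 D33284) (tt N5164 (iv4 D16075)) (tt N22134 D33285) (tt N16322 F40340) (tt N16469 (iv7 F40559)))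
theorem Q10837 : ∀ i, i < 10837 → P i := stepQ 10836 Q10836 (allL N10836 (tt N17262 (iv1 F42603)) (tt N17261 F42602) (tt N16951 (iv2 F41611)) (tt N21278 (iv3 F50691)) (tt N22135 D33286) (tt N5164 (iv5 D16076)) (tt N22136 D33287) (tt N17149 (iv7 F42368)))
theorem Q10838 : ∀ i, i < 10838 → P i := stepQ 10837 Q10837 (allL N10837 (tt N17260 (iv1 F42601)) (tt N5165 (iv0 D16078)) (tt N22068 (iv2 F52526)) (tt N17311 (iv3 F52525)) (tt N22137 D33290) (tt N22138 D33291) (tt N22139 D33292) (tt N22069 (iv7 F52523)))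
theorem Q10839 : ∀ i, i < 10839 → P i := stepQ 10838 Q10838 (allL N10838 (tt N5165 (iv1 D16079)) (tt N17260 F42600) (tt N22069 F52524) (tt N22140 D33293) (tt N22141 D33294) (tt N22142 D33295) (tt N20363 F320494) (tt N22068 (iv7 F52527)))
theorem Q10840 : ∀ i, i < 10840 → P i := stepQ 10839 Q10839 (allL N10839 (tt N22143 D33297) (tt N22144 D33298) (tt N22070 (iv2 F52445)) (tt N20415 (iv3 F322253)) (tt N5165 (iv4 D16080)) (tt N22145 D33300) (tt N22131 (iv6 F52508)) (tt N22146 D33301))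
theorem Q10841 : ∀ i, i < 10841 → P i := stepQ 10840 Q10840 (allL N10840 (tt N22069 (iv1 F52442)) (tt N22068 F52441) (tt N17260 (iv2 F42598)) (tt N5172 F25596) (tt N22146 (iv4 F52536)) (tt N5166 F25597) (tt N22147 D33302) (tt N5165 (iv7 D16081)))
theorem Q10842 : ∀ i, i < 10842 → P i := stepQ 10841 Q10841 (allL N10841 (tt N22148 D33303) (tt N5201 (iv0 F190096)) (tt N22149 D33305) (tt N5167 (iv3 D16083)) (tt N22150 D33306) (tt N10100 F318408) (tt N22151 D33308) (tt N17143 (iv7 F42325)))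
theorem Q10843 : ∀ i, i < 10843 → P i := stepQ 10842 Q10842 (allL N10842 (tt N17368 (iv1 F52548)) (tt N22152 D33313) (tt N17142 (iv2 F42323)) (tt N22151 (iv3 F52540)) (tt N5811 F29133) (tt N10101 F315903) (tt N5167 (iv6 D16086)) (tt N22153 D33314))
theorem Q10844 : ∀ i, i < 10844 → P i := stepQ 10843 Q10843 (allL N10843 (tt N17191 (iv1 F110797)) (tt N17209 F110794) (tt N17207 (iv2 F113937)) (tt N5168 (iv3 D16088)) (tt N22154 D33318) (tt N22155 D33319) (tt N22156 D33320) (tt N17141 (iv7 F42320)))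
theorem Q10845 : ∀ i, i < 10845 → P i := stepQ 10844 Q10844 (allL N10844 (tt N10083 F316840) (tt N10080 F316841) (tt N10102 F316842) (tt N22155 (iv3 F52553)) (tt N9044 F316843) (tt N5168 (iv5 D16090)) (tt N10094 F316844) (tt N8193 F316845))
theorem Q10846 : ∀ i, i < 10846 → P i := stepQ 10845 Q10845 (allL N10845 (tt N16972 (iv1 F41663)) (tt N16976 (iv0 F41668)) (tt N17144 (iv2 F42328)) (tt N22156 (iv3 F52554)) (tt N5814 F29136) (tt N11009 (iv5 F25890)) (tt N5168 (iv6 D16091)) (tt N21448 (iv7 F51224)))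
theorem Q10847 : ∀ i, i < 10847 → P i := stepQ 10846 Q10846 (allL N10846 (tt N17146 (iv1 F42355)) (tt N5169 (iv0 D16092)) (tt N17145 F42331) (tt N22157 D33322) (tt N11140 (iv4 F313677)) (tt N12055 F29130) (tt N20381 F311302) (tt N11137 F311303))
theorem Q10848 : ∀ i, i < 10848 → P i := stepQ 10847 Q10847 (allL N10847 (tt N5169 (iv1 D16093)) (tt N17146 F42354) (tt N11137 F311254) (tt N22158 D33324) (tt N7484 (iv4 F313610)) (tt N12061 F30352) (tt N7483 F311255) (tt N17145 F42332))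
theorem Q10849 : ∀ i, i < 10849 → P i := stepQ 10848 Q10848 (allL N10848 (tt N11137 F311332) (tt N17145 F42333) (tt N17146 (iv2 F42352)) (tt N22132 (iv3 F52509)) (tt N11093 (iv4 F313733)) (tt N5170 F25601) (tt N22159 D33331) (tt N5169 (iv7 D16095)))
theorem Q10850 : ∀ i, i < 10850 → P i := stepQ 10849 Q10849 (allL N10849 (tt N21894 (iv1 F54106)) (tt N5203 (iv0 F54107)) (tt N22160 D33334) (tt N5171 (iv3 D16096)) (tt N22161 D33335) (tt N10246 F25602) (tt N21053 F316187) (tt N16798 (iv7 F318229)))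
theorem Q10851 : ∀ i, i < 10851 → P i := stepQ 10850 Q10850 (allL N10850 (tt N22162 D33357) (tt N22163 D33358) (tt N17148 (iv2 F42363)) (tt N22147 (iv3 F52537)) (tt N16678 (iv4 F317146)) (tt N17097 (iv5 F42208)) (tt N5172 (iv6 D16105)) (tt N22159 (iv7 F52572)))
theorem Q10852 : ∀ i, i < 10852 → P i := stepQ 10851 Q10851 (allL N10851 (tt N21395 (iv1 F51158)) (tt N21394 F51157) (tt N5222 F25620) (tt N17149 (iv3 F42366)) (tt N22164 D33359) (tt N5173 (iv5 D16106)) (tt N17917 (iv6 F44862)) (tt N21278 (iv7 F50692)))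
theorem Q10853 : ∀ i, i < 10853 → P i := stepQ 10852 Q10852 (allL N10852 (tt N17009 (iv1 F41877)) (tt N11460 (iv0 F27834)) (tt N10867 (iv2 F25668)) (tt N5175 F25621) (tt N14292 (iv4 F35208)) (tt N5174 (iv5 D16107)) (tt N22165 D33360) (tt N5196 F25622))
theorem Q10854 : ∀ i, i < 10854 → P i := stepQ 10853 Q10853 (allL N10853 (tt N9366 (iv1 F53959)) (tt N9371 (iv0 F53960)) (tt N10868 (iv2 F25672)) (tt N5176 F25623) (tt N10868 (iv4 F25674)) (tt N22166 D33363) (tt N5174 (iv6 D16108)) (tt N19029 (iv7 F53953)))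
theorem Q10855 : ∀ i, i < 10855 → P i := stepQ 10854 Q10854 (allL N10854 (tt N22167 D33365) (tt N21704 (iv0 F51751)) (tt N5187 F25626) (tt N22168 D33366) (tt N5175 (iv4 D16111)) (tt N22169 D33367) (tt N12747 F303350) (tt N5200 F25627))
theorem Q10856 : ∀ i, i < 10856 → P i := stepQ 10855 Q10855 (allL N10855 (tt N12600 F301432) (tt N12609 F301433) (tt N5188 F25628) (tt N22165 (iv3 F52595)) (tt N12747 (iv4 F301660)) (tt N12741 (iv5 F304044)) (tt N5175 (iv6 D16112)) (tt N22026 (iv7 F190526)))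
theorem Q10857 : ∀ i, i < 10857 → P i := stepQ 10856 Q10856 (allL N10856 (tt N9493 F50799) (tt N19004 F50800) (tt N5191 F25630) (tt N22166 (iv3 F52596)) (tt N12742 (iv4 F308118)) (tt N5176 (iv5 D16115)) (tt N12741 F306146) (tt N19005 (iv7 F50973)))
theorem Q10858 : ∀ i, i < 10858 → P i := stepQ 10857 Q10857 (allL N10857 (tt N5207 F25784) (tt N11195 (iv0 F50737)) (tt N10866 (iv2 F25662)) (tt N5663 F26952) (tt N18561 (iv4 F46186)) (tt N5177 (iv5 D16117)) (tt N22170 D33381) (tt N10864 (iv7 F25647)))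
theorem Q10859 : ∀ i, i < 10859 → P i := stepQ 10858 Q10858 (allL N10858 (tt N5178 (iv1 D16120)) (tt N10872 F25681) (tt N10869 F26839) (tt N8329 (iv3 F26744)) (tt N18514 (iv4 F46109)) (tt N8328 (iv5 F26488)) (tt N22171 D33382) (tt N10633 F26743))
theorem Q10860 : ∀ i, i < 10860 → P i := stepQ 10859 Q10859 (allL N10859 (tt N10664 F25738) (tt N21514 (iv0 F51437)) (tt N10870 (iv2 F25676)) (tt N22172 D33383) (tt N5178 (iv4 D16121)) (tt N22173 D33384) (tt N22174 D33385) (tt N10901 (iv7 F25743)))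
theorem Q10861 : ∀ i, i < 10861 → P i := stepQ 10860 Q10860 (allL N10860 (tt N22175 D33386) (tt N22176 D33387) (tt N10871 (iv2 F25677)) (tt N5188 F25636) (tt N22174 (iv4 F52630)) (tt N22177 D33388) (tt N5178 (iv6 D16122)) (tt N22178 D33389))
theorem Q10862 : ∀ i, i < 10862 → P i := stepQ 10861 Q10861 (allL N10861 (tt N10875 (iv1 F25689)) (tt N5179 (iv0 D16123)) (tt N9336 F53970) (tt N17073 (iv3 F53988)) (tt N18509 (iv4 F54064)) (tt N22179 D33393) (tt N21159 (iv6 F53994)) (tt N10873 F52771))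
theorem Q10863 : ∀ i, i < 10863 → P i := stepQ 10862 Q10862 (allL N10862 (tt N22180 D33400) (tt N5323 F50803) (tt N10874 (iv2 F25684)) (tt N5191 F25637) (tt N22181 D33401) (tt N5179 (iv5 D16125)) (tt N22177 (iv6 F52632)) (tt N22182 D33402))
theorem Q10864 : ∀ i, i < 10864 → P i := stepQ 10863 Q10863 (allL N10863 (tt N10873 (iv1 F25683)) (tt N9336 F53965) (tt N10875 (iv2 F25685)) (tt N5192 F25638) (tt N9346 F53966) (tt N22182 (iv5 F52643)) (tt N5220 F50789) (tt N5179 (iv7 D16126)))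
theorem Q10865 : ∀ i, i < 10865 → P i := stepQ 10864 Q10864 (allL N10864 (tt N8819 F25648) (tt N10920 F27184) (tt N10797 F25646) (tt N8619 (iv3 F26951)) (tt N22183 D33403) (tt N5180 (iv5 D16128)) (tt N20276 (iv6 F310704)) (tt N10857 F25647))
theorem Q10866 : ∀ i, i < 10866 → P i := stepQ 10865 Q10865 (allL N10865 (tt N7214 (iv1 F25657)) (tt N9122 (iv0 F37240)) (tt N8331 F25651) (tt N9131 F25652) (tt N5181 (iv4 D16130)) (tt N22184 D33405) (tt N21285 (iv6 F50720)) (tt N9118 F25653))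
theorem Q10867 : ∀ i, i < 10867 → P i := stepQ 10866 Q10866 (allL N10866 (tt N10920 (iv1 F27183)) (tt N8819 F25665) (tt N10857 F25662) (tt N8360 F25663) (tt N22185 D33406) (tt N5181 (iv5 D16131)) (tt N22186 D33407) (tt N10797 F25664))
theorem Q10868 : ∀ i, i < 10868 → P i := stepQ 10867 Q10867 (allL N10867 (tt N10540 F25670) (tt N10533 F25671) (tt N10852 F25668) (tt N5183 F25669) (tt N21771 (iv4 F51855)) (tt N5182 (iv5 D16133)) (tt N22187 D33408) (tt N10894 (iv7 F25717)))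
theorem Q10869 : ∀ i, i < 10869 → P i := stepQ 10868 Q10868 (allL N10868 (tt N10771 (iv1 F53954)) (tt N19073 F53950) (tt N10853 F25672) (tt N5184 F25673) (tt N10853 F25674) (tt N22188 D33411) (tt N5182 (iv6 D16134)) (tt N19070 (iv7 F53957)))
theorem Q10870 : ∀ i, i < 10870 → P i := stepQ 10869 Q10869 (allL N10869 (tt N5183 (iv1 D16136)) (tt N5198 F25675) (tt N10858 (iv2 F26839)) (tt N5661 (iv3 F26840)) (tt N22189 D33413) (tt N5659 (iv5 F26841)) (tt N22190 D33414) (tt N10824 (iv7 F26862)))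
theorem Q10871 : ∀ i, i < 10871 → P i := stepQ 10870 Q10870 (allL N10870 (tt N18511 (iv1 F46104)) (tt N10502 F25735) (tt N10859 F25676) (tt N22191 D33415) (tt N5183 (iv4 D16137)) (tt N18583 (iv5 F46202)) (tt N22192 D33416) (tt N21795 (iv7 F51903)))
theorem Q10872 : ∀ i, i < 10872 → P i := stepQ 10871 Q10871 (allL N10871 (tt N22193 D33417) (tt N22194 D33418) (tt N10860 F25677) (tt N22187 (iv3 F52667)) (tt N22192 (iv4 F52687)) (tt N22195 D33419) (tt N5183 (iv6 D16138)) (tt N22196 D33420))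
theorem Q10873 : ∀ i, i < 10873 → P i := stepQ 10872 Q10872 (allL N10872 (tt N10858 (iv1 F25681)) (tt N10824 (iv0 F26858)) (tt N5198 F25678) (tt N10894 (iv3 F25716)) (tt N21795 (iv4 F51900)) (tt N5185 F25679) (tt N22197 D33421) (tt N5183 (iv7 D16139)))
theorem Q10874 : ∀ i, i < 10874 → P i := stepQ 10873 Q10873 (allL N10873 (tt N5184 (iv1 D16141)) (tt N10863 F25683) (tt N9349 (iv2 F53975)) (tt N8366 (iv3 F53976)) (tt N19481 (iv4 F53977)) (tt N22198 D33428) (tt N9347 (iv6 F53979)) (tt N10861 (iv7 F52771)))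
theorem Q10875 : ∀ i, i < 10875 → P i := stepQ 10874 Q10874 (allL N10874 (tt N11177 F51094) (tt N11173 F50972) (tt N10862 F25684) (tt N22188 (iv3 F52670)) (tt N22199 D33429) (tt N5184 (iv5 D16142)) (tt N22195 (iv6 F52690)) (tt N11174 (iv7 F50804)))
theorem Q10876 : ∀ i, i < 10876 → P i := stepQ 10875 Q10875 (allL N10875 (tt N9349 (iv1 F53974)) (tt N10861 F25689) (tt N10863 F25685) (tt N19070 F53969) (tt N5192 F25686) (tt N11174 F50805) (tt N10435 (iv6 F50806)) (tt N5184 (iv7 D16143)))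
theorem Q10877 : ∀ i, i < 10877 → P i := stepQ 10876 Q10876 (allL N10876 (tt N17395 (iv1 F43043)) (tt N13027 F300570) (tt N5340 (iv2 F25736)) (tt N22200 D33430) (tt N5186 (iv4 D16147)) (tt N22201 D33431) (tt N22202 D33432) (tt N17396 (iv7 F43041)))
theorem Q10878 : ∀ i, i < 10878 → P i := stepQ 10877 Q10877 (allL N10877 (tt N22203 D33433) (tt N22204 D33434) (tt N5341 (iv2 F25737)) (tt N17181 (iv3 F42447)) (tt N22202 (iv4 F52716)) (tt N22205 D33435) (tt N5186 (iv6 D16149)) (tt N22206 D33436))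
theorem Q10879 : ∀ i, i < 10879 → P i := stepQ 10878 Q10878 (allL N10878 (tt N5200 (iv1 F25698)) (tt N5187 (iv0 D16155)) (tt N22167 F52600) (tt N22207 D33437) (tt N10687 F25739) (tt N22208 D33438) (tt N22209 D33439) (tt N21704 (iv7 F51750)))
theorem Q10880 : ∀ i, i < 10880 → P i := stepQ 10879 Q10879 (allL N10879 (tt N5187 (iv1 D16156)) (tt N5200 F25694) (tt N21704 (iv2 F51749)) (tt N17665 F51748) (tt N21703 (iv4 F51747)) (tt N22210 D33440) (tt N22211 D33441) (tt N22167 (iv7 F52602)))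
theorem Q10881 : ∀ i, i < 10881 → P i := stepQ 10880 Q10880 (allL N10880 (tt N22212 D33442) (tt N22213 D33443) (tt N22214 D33444) (tt N5187 (iv3 D16157)) (tt N22172 (iv4 F52625)) (tt N22215 D33445) (tt N22216 D33446) (tt N22217 D33447))
theorem Q10882 : ∀ i, i < 10882 → P i := stepQ 10881 Q10881 (allL N10881 (tt N22218 D33448) (tt N22219 D33449) (tt N22169 (iv2 F52604)) (tt N22215 (iv3 F52732)) (tt N18584 F46207) (tt N5187 (iv5 D16158)) (tt N22220 D33450) (tt N22221 D33451))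
theorem Q10883 : ∀ i, i < 10883 → P i := stepQ 10882 Q10882 (allL N10882 (tt N6203 F300220) (tt N6195 (iv0 F302010)) (tt N12747 (iv2 F301659)) (tt N22216 (iv3 F52734)) (tt N5188 F25695) (tt N6659 (iv5 F302975)) (tt N5187 (iv6 D16159)) (tt N12745 (iv7 F302012)))
theorem Q10884 : ∀ i, i < 10884 → P i := stepQ 10883 Q10883 (allL N10883 (tt N21704 (iv1 F51752)) (tt N22167 F52601) (tt N5200 F25696) (tt N22217 (iv3 F52735)) (tt N5189 F25697) (tt N22221 (iv5 F52742)) (tt N22222 D33456) (tt N5187 (iv7 D16160)))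
theorem Q10885 : ∀ i, i < 10885 → P i := stepQ 10884 Q10884 (allL N10884 (tt N22026 (iv1 F190524)) (tt N5188 (iv0 D16161)) (tt N12600 F300975) (tt N17188 (iv3 F190527)) (tt N6961 F300976) (tt N12587 (iv5 F303692)) (tt N22223 D33461) (tt N12609 F300977))
theorem Q10886 : ∀ i, i < 10886 → P i := stepQ 10885 Q10885 (allL N10885 (tt N6068 (iv1 F304039)) (tt N6064 (iv0 F302498)) (tt N12741 (iv2 F304043)) (tt N22177 (iv3 F52631)) (tt N6737 (iv4 F304658)) (tt N5188 (iv5 D16163)) (tt N5191 F25699) (tt N12024 (iv7 F304042)))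
theorem Q10887 : ∀ i, i < 10887 → P i := stepQ 10886 Q10886 (allL N10886 (tt N12609 F301430) (tt N12600 F301431) (tt N22026 (iv2 F190525)) (tt N22178 (iv3 F52633)) (tt N12745 (iv4 F302011)) (tt N12024 (iv5 F304041)) (tt N22148 F190118) (tt N5188 (iv7 D16164)))
theorem Q10888 : ∀ i, i < 10888 → P i := stepQ 10887 Q10887 (allL N10887 (tt N22149 F190102) (tt N17143 F190103) (tt N5201 F25700) (tt N10902 (iv3 F25757)) (tt N22222 (iv4 F52745)) (tt N22224 D33474) (tt N5189 (iv6 D16165)) (tt N22148 (iv7 F190136)))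
theorem Q10889 : ∀ i, i < 10889 → P i := stepQ 10888 Q10888 (allL N10888 (tt N13826 F309742) (tt N17975 F309743) (tt N9525 (iv2 F54003)) (tt N17192 (iv3 F54014)) (tt N13667 (iv4 F310626)) (tt N5190 (iv5 D16169)) (tt N22225 D33485) (tt N19030 (iv7 F54001)))
theorem Q10890 : ∀ i, i < 10890 → P i := stepQ 10889 Q10889 (allL N10889 (tt N19005 F50966) (tt N5191 (iv0 D16176)) (tt N9493 F50967) (tt N17193 F50968) (tt N22226 D33493) (tt N9492 F50969) (tt N22227 D33494) (tt N19004 F50970))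
theorem Q10891 : ∀ i, i < 10891 → P i := stepQ 10890 Q10890 (allL N10890 (tt N11330 (iv1 F308506)) (tt N22228 D33496) (tt N12742 (iv2 F308117)) (tt N6739 (iv3 F308505)) (tt N5191 (iv4 D16178)) (tt N12010 (iv5 F306678)) (tt N6737 F306669) (tt N22229 D33499))
theorem Q10892 : ∀ i, i < 10892 → P i := stepQ 10891 Q10891 (allL N10891 (tt N19004 F50801) (tt N9493 F50802) (tt N19005 F50974) (tt N22182 (iv3 F52642)) (tt N22229 (iv4 F52813)) (tt N5192 F25703) (tt N22230 D33500) (tt N5191 (iv7 D16179)))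
theorem Q10893 : ∀ i, i < 10893 → P i := stepQ 10892 Q10892 (allL N10892 (tt N22160 (iv1 F54205)) (tt N16798 F320382) (tt N5203 F25710) (tt N10903 (iv3 F25758)) (tt N22231 D33503) (tt N5193 (iv5 D16183)) (tt N22224 (iv6 F52757)) (tt N21894 (iv7 F52139)))
theorem Q10894 : ∀ i, i < 10894 → P i := stepQ 10893 Q10893 (allL N10893 (tt N17906 (iv1 F44830)) (tt N5210 F27192) (tt N10649 F25711) (tt N17153 (iv3 F42376)) (tt N17019 (iv4 F41924)) (tt N5194 (iv5 D16184)) (tt N22232 D33504) (tt N10645 F25712))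
theorem Q10895 : ∀ i, i < 10895 → P i := stepQ 10894 Q10894 (allL N10894 (tt N11460 (iv1 F27835)) (tt N17009 (iv0 F41876)) (tt N5196 F25715) (tt N10872 F25716) (tt N14293 (iv4 F35213)) (tt N5195 (iv5 D16186)) (tt N22233 D33505) (tt N10867 F25717))
theorem Q10896 : ∀ i, i < 10896 → P i := stepQ 10895 Q10895 (allL N10895 (tt N10646 F50775) (tt N21161 F50776) (tt N5197 F25719) (tt N5221 F50777) (tt N5197 F25721) (tt N22234 D33506) (tt N5195 (iv6 D16187)) (tt N21392 (iv7 F51151)))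
theorem Q10897 : ∀ i, i < 10897 → P i := stepQ 10896 Q10896 (allL N10896 (tt N10656 (iv1 F27271)) (tt N10653 F25722) (tt N14293 F35215) (tt N22235 D33507) (tt N5196 (iv4 D16188)) (tt N22236 D33508) (tt N22237 D33509) (tt N14292 F35210))
theorem Q10898 : ∀ i, i < 10898 → P i := stepQ 10897 Q10897 (allL N10897 (tt N22238 D33510) (tt N22239 D33511) (tt N22233 (iv2 F52820)) (tt N5201 F25740) (tt N22237 (iv4 F52831)) (tt N22240 D33512) (tt N5196 (iv6 D16189)) (tt N22241 D33513))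
theorem Q10899 : ∀ i, i < 10899 → P i := stepQ 10898 Q10898 (allL N10898 (tt N5197 (iv1 D16191)) (tt N21392 (iv0 F51152)) (tt N21161 F50998) (tt N17114 F50999) (tt N8342 F51000) (tt N22242 D33514) (tt N10298 F51001) (tt N10646 F51002))
theorem Q10900 : ∀ i, i < 10900 → P i := stepQ 10899 Q10899 (allL N10899 (tt N22243 D33515) (tt N22244 D33516) (tt N22234 (iv2 F52822)) (tt N5203 F25741) (tt N22245 D33517) (tt N5197 (iv5 D16192)) (tt N22240 (iv6 F52833)) (tt N22246 D33518))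
theorem Q10901 : ∀ i, i < 10901 → P i := stepQ 10900 Q10900 (allL N10900 (tt N21161 F51003) (tt N10646 F51004) (tt N21392 (iv2 F51149)) (tt N5204 F25742) (tt N21392 (iv4 F51150)) (tt N22246 (iv5 F52837)) (tt N19029 (iv6 F53952)) (tt N5197 (iv7 D16193)))
theorem Q10902 : ∀ i, i < 10902 → P i := stepQ 10901 Q10901 (allL N10901 (tt N10502 (iv1 F25744)) (tt N18511 (iv0 F46103)) (tt N21795 F51901) (tt N22247 D33519) (tt N5198 (iv4 D16194)) (tt N18584 (iv5 F46206)) (tt N22248 D33520) (tt N10859 F25743))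
theorem Q10903 : ∀ i, i < 10903 → P i := stepQ 10902 Q10902 (allL N10902 (tt N22249 D33521) (tt N22250 D33522) (tt N22197 (iv2 F52695)) (tt N10887 F25757) (tt N22248 (iv4 F52840)) (tt N22251 D33523) (tt N5198 (iv6 D16195)) (tt N22252 D33524))
theorem Q10904 : ∀ i, i < 10904 → P i := stepQ 10903 Q10903 (allL N10903 (tt N22253 D33525) (tt N21691 (iv0 F54206)) (tt N10967 (iv2 F51006)) (tt N10892 F25758) (tt N22254 D33527) (tt N5199 (iv5 D16198)) (tt N22251 (iv6 F52842)) (tt N10966 F51005))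
theorem Q10905 : ∀ i, i < 10905 → P i := stepQ 10904 Q10904 (allL N10904 (tt N14222 F52825) (tt N17651 (iv0 F44239)) (tt N22255 D33528) (tt N5200 (iv3 D16200)) (tt N22235 (iv4 F52824)) (tt N22256 D33529) (tt N22257 D33530) (tt N22168 (iv7 F52603)))
theorem Q10906 : ∀ i, i < 10906 → P i := stepQ 10905 Q10905 (allL N10905 (tt N22219 (iv1 F52738)) (tt N22218 F52737) (tt N22221 (iv2 F52740)) (tt N22256 (iv3 F52847)) (tt N18583 (iv4 F46203)) (tt N5200 (iv5 D16201)) (tt N22258 D33531) (tt N22169 (iv7 F52605)))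
theorem Q10907 : ∀ i, i < 10907 → P i := stepQ 10906 Q10906 (allL N10906 (tt N22259 D33532) (tt N22260 D33533) (tt N22222 (iv2 F52744)) (tt N22257 (iv3 F52848)) (tt N5201 F25762) (tt N22261 D33534) (tt N5200 (iv6 D16202)) (tt N22262 D33535))
theorem Q10908 : ∀ i, i < 10908 → P i := stepQ 10907 Q10907 (allL N10907 (tt N5201 (iv1 D16204)) (tt N22148 (iv0 F190095)) (tt N17143 (iv2 F190097)) (tt N17207 (iv3 F190098)) (tt N22263 D33543) (tt N22264 D33544) (tt N22265 D33545) (tt N22149 (iv7 F190094)))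
theorem Q10909 : ∀ i, i < 10909 → P i := stepQ 10908 Q10908 (allL N10908 (tt N22157 F190600) (tt N22266 D33547) (tt N22224 (iv2 F52756)) (tt N22240 (iv3 F52832)) (tt N22267 D33548) (tt N5201 (iv5 D16205)) (tt N5203 F25763) (tt N22268 D33549))
theorem Q10910 : ∀ i, i < 10910 → P i := stepQ 10909 Q10909 (allL N10909 (tt N17143 F190099) (tt N22149 F190100) (tt N22148 (iv2 F190135)) (tt N22241 (iv3 F52834)) (tt N22262 (iv4 F52849)) (tt N22268 (iv5 F52853)) (tt N22026 F190580) (tt N5201 (iv7 D16206)))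
theorem Q10911 : ∀ i, i < 10911 → P i := stepQ 10910 Q10910 (allL N10910 (tt N21897 (iv1 F52146)) (tt N21896 F52145) (tt N17063 (iv2 F50996)) (tt N17210 F50995) (tt N22269 D33550) (tt N5202 (iv5 D16215)) (tt N22270 D33551) (tt N21895 (iv7 F52144)))
theorem Q10912 : ∀ i, i < 10912 → P i := stepQ 10911 Q10911 (allL N10911 (tt N5203 (iv1 D16218)) (tt N21894 F52140) (tt N16798 F320380) (tt N17211 (iv3 F54110)) (tt N22271 D33559) (tt N22272 D33560) (tt N16797 F320381) (tt N22160 (iv7 F54108)))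
theorem Q10913 : ∀ i, i < 10913 → P i := stepQ 10912 Q10912 (allL N10912 (tt N22273 D33562) (tt N22274 D33563) (tt N22231 (iv2 F52818)) (tt N22275 D33564) (tt N5203 (iv4 D16219)) (tt N22276 D33565) (tt N22267 (iv6 F52852)) (tt N22277 D33566))
theorem Q10914 : ∀ i, i < 10914 → P i := stepQ 10913 Q10913 (allL N10913 (tt N16798 F320383) (tt N22160 (iv0 F54204)) (tt N21894 (iv2 F52137)) (tt N22246 (iv3 F52836)) (tt N22277 (iv4 F52860)) (tt N5204 F25766) (tt N22278 D33567) (tt N5203 (iv7 D16220)))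
theorem Q10915 : ∀ i, i < 10915 → P i := stepQ 10914 Q10914 (allL N10914 (tt N17687 (iv1 F44348)) (tt N17686 F44344) (tt N17636 (iv2 F44180)) (tt N5205 (iv3 D16221)) (tt N17214 (iv4 F42510)) (tt N22279 D33568) (tt N22280 D33569) (tt N17688 (iv7 F44347)))
theorem Q10916 : ∀ i, i < 10916 → P i := stepQ 10915 Q10915 (allL N10915 (tt N17775 (iv1 F44449)) (tt N17774 F44445) (tt N5215 F25767) (tt N22279 (iv3 F52862)) (tt N18586 (iv4 F46210)) (tt N5205 (iv5 D16222)) (tt N22281 D33570) (tt N17772 (iv7 F44439)))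
theorem Q10917 : ∀ i, i < 10917 → P i := stepQ 10916 Q10916 (allL N10916 (tt N22282 D33571) (tt N6217 F304945) (tt N5216 F25768) (tt N22280 (iv3 F52863)) (tt N5206 F25769) (tt N22283 D33573) (tt N5205 (iv6 D16223)) (tt N22284 D33574))
theorem Q10918 : ∀ i, i < 10918 → P i := stepQ 10917 Q10917 (allL N10917 (tt N5219 (iv1 F25772)) (tt N5206 (iv0 D16224)) (tt N5217 F109969) (tt N22285 D33576) (tt N22286 D33577) (tt N22287 D33578) (tt N22288 D33579) (tt N5218 F109970))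
theorem Q10919 : ∀ i, i < 10919 → P i := stepQ 10918 Q10918 (allL N10918 (tt N5206 (iv1 D16225)) (tt N5219 F25770) (tt N5218 (iv2 F109965)) (tt N22289 D33581) (tt N22290 D33582) (tt N22291 D33583) (tt N22292 D33584) (tt N5217 (iv7 F109966)))
theorem Q10920 : ∀ i, i < 10920 → P i := stepQ 10919 Q10919 (allL N10919 (tt N5218 (iv1 F25773)) (tt N5217 F25774) (tt N5219 F25771) (tt N17219 (iv3 F42524)) (tt N22284 (iv4 F52868)) (tt N21337 (iv5 F51105)) (tt N17918 (iv6 F44865)) (tt N5206 (iv7 D16226)))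
theorem Q10921 : ∀ i, i < 10921 → P i := stepQ 10920 Q10920 (allL N10920 (tt N10864 (iv1 F27184)) (tt N10866 F27183) (tt N5207 (iv2 D16235)) (tt N17906 (iv3 F44827)) (tt N9153 (iv4 F27186)) (tt N5334 (iv5 F27165)) (tt N22293 D33585) (tt N11195 (iv7 F50742)))
theorem Q10922 : ∀ i, i < 10922 → P i := stepQ 10921 Q10921 (allL N10921 (tt N9157 F25783) (tt N9145 F25826) (tt N9153 F27185) (tt N22294 D33586) (tt N5207 (iv4 D16236)) (tt N22295 D33587) (tt N22296 D33588) (tt N9154 F27182))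
theorem Q10923 : ∀ i, i < 10923 → P i := stepQ 10922 Q10922 (allL N10922 (tt N22297 D33589) (tt N22298 D33590) (tt N22293 (iv2 F52875)) (tt N5209 F25788) (tt N22296 (iv4 F52884)) (tt N22299 D33591) (tt N5207 (iv6 D16238)) (tt N22300 D33592))
theorem Q10924 : ∀ i, i < 10924 → P i := stepQ 10923 Q10923 (allL N10923 (tt N5211 (iv1 F25805)) (tt N5208 (iv0 D16240)) (tt N17900 F44814) (tt N22301 D33593) (tt N10620 (iv4 F25797)) (tt N22218 (iv5 F52736)) (tt N22302 D33594) (tt N17899 F44810))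
theorem Q10925 : ∀ i, i < 10925 → P i := stepQ 10924 Q10924 (allL N10924 (tt N5208 (iv1 D16241)) (tt N5211 F25801) (tt N17899 (iv2 F44811)) (tt N17732 F52659) (tt N22184 (iv4 F52658)) (tt N22219 (iv5 F52739)) (tt N22303 D33595) (tt N17900 (iv7 F44813)))
theorem Q10926 : ∀ i, i < 10926 → P i := stepQ 10925 Q10925 (allL N10925 (tt N22304 D33596) (tt N22305 D33597) (tt N22306 D33598) (tt N5208 (iv3 D16242)) (tt N22294 (iv4 F52877)) (tt N22307 D33599) (tt N22308 D33600) (tt N17901 (iv7 F44815)))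
theorem Q10927 : ∀ i, i < 10927 → P i := stepQ 10926 Q10926 (allL N10926 (tt N22309 D33601) (tt N22310 D33602) (tt N17910 (iv2 F44848)) (tt N22307 (iv3 F52890)) (tt N18581 (iv4 F46200)) (tt N5208 (iv5 D16243)) (tt N22311 D33603) (tt N17902 (iv7 F44817)))
theorem Q10928 : ∀ i, i < 10928 → P i := stepQ 10927 Q10927 (allL N10927 (tt N12778 F307086) (tt N22312 D33605) (tt N17911 (iv2 F44850)) (tt N22308 (iv3 F52891)) (tt N5209 F25802) (tt N22313 D33606) (tt N5208 (iv6 D16244)) (tt N22314 D33607))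
theorem Q10929 : ∀ i, i < 10929 → P i := stepQ 10928 Q10928 (allL N10928 (tt N17914 (iv1 F44858)) (tt N5209 (iv0 D16251)) (tt N17274 (iv2 F190733)) (tt N17225 (iv3 F190735)) (tt N14319 F304942) (tt N22315 D33611) (tt N13938 F304943) (tt N17912 (iv7 F190737)))
theorem Q10930 : ∀ i, i < 10930 → P i := stepQ 10929 Q10929 (allL N10929 (tt N5209 (iv1 D16252)) (tt N17914 F44857) (tt N17912 (iv2 F190736)) (tt N5227 (iv3 F190738)) (tt N22316 D33615) (tt N22317 D33616) (tt N22318 D33617) (tt N17274 (iv7 F190734)))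
theorem Q10931 : ∀ i, i < 10931 → P i := stepQ 10930 Q10930 (allL N10930 (tt N22319 D33618) (tt N20687 F318067) (tt N17913 (iv2 F44853)) (tt N22299 (iv3 F52885)) (tt N14931 (iv4 F54212)) (tt N5209 (iv5 D16253)) (tt N11194 (iv6 F27285)) (tt N22320 D33621))
theorem Q10932 : ∀ i, i < 10932 → P i := stepQ 10931 Q10931 (allL N10931 (tt N17912 (iv1 F44852)) (tt N17274 (iv0 F190378)) (tt N17914 (iv2 F44854)) (tt N22300 (iv3 F52886)) (tt N22314 (iv4 F52900)) (tt N22320 (iv5 F52904)) (tt N17905 (iv6 F44823)) (tt N5209 (iv7 D16254)))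
theorem Q10933 : ∀ i, i < 10933 → P i := stepQ 10932 Q10932 (allL N10932 (tt N10649 (iv1 F27189)) (tt N10645 F27188) (tt N5210 (iv2 D16258)) (tt N11195 (iv3 F50740)) (tt N22321 D33622) (tt N10530 (iv5 F27153)) (tt N22322 D33623) (tt N17906 (iv7 F44829)))
theorem Q10934 : ∀ i, i < 10934 → P i := stepQ 10933 Q10933 (allL N10933 (tt N10552 F27191) (tt N6974 (iv0 F25812)) (tt N22321 (iv2 F52905)) (tt N22323 D33624) (tt N5210 (iv4 D16259)) (tt N6950 (iv5 F25811)) (tt N22324 D33625) (tt N17907 (iv7 F44834)))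
theorem Q10935 : ∀ i, i < 10935 → P i := stepQ 10934 Q10934 (allL N10934 (tt N22325 D33626) (tt N22326 D33627) (tt N22322 (iv2 F52910)) (tt N5212 F25827) (tt N22324 (iv4 F52915)) (tt N22322 (iv5 F52912)) (tt N5210 (iv6 D16260)) (tt N22327 D33628))
theorem Q10936 : ∀ i, i < 10936 → P i := stepQ 10935 Q10935 (allL N10935 (tt N22328 D33629) (tt N17706 (iv0 F44374)) (tt N22329 D33630) (tt N5211 (iv3 D16261)) (tt N22323 (iv4 F52913)) (tt N22330 D33631) (tt N22331 D33632) (tt N17909 (iv7 F44847)))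
theorem Q10937 : ∀ i, i < 10937 → P i := stepQ 10936 Q10936 (allL N10936 (tt N22310 (iv1 F52896)) (tt N22309 F52893) (tt N17902 (iv2 F44816)) (tt N22330 (iv3 F52919)) (tt N18578 (iv4 F46198)) (tt N5211 (iv5 D16262)) (tt N22332 D33633) (tt N17910 (iv7 F44849)))
theorem Q10938 : ∀ i, i < 10938 → P i := stepQ 10937 Q10937 (allL N10937 (tt N22333 D33634) (tt N22334 D33635) (tt N17903 (iv2 F44818)) (tt N22331 (iv3 F52920)) (tt N5212 F25828) (tt N22335 D33636) (tt N5211 (iv6 D16263)) (tt N22336 D33637))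
theorem Q10939 : ∀ i, i < 10939 → P i := stepQ 10938 Q10938 (allL N10938 (tt N17905 (iv1 F44826)) (tt N5212 (iv0 D16264)) (tt N17904 F109751) (tt N5233 (iv3 F190564)) (tt N22337 D33640) (tt N22338 D33641) (tt N22339 D33642) (tt N17290 F190519))
theorem Q10940 : ∀ i, i < 10940 → P i := stepQ 10939 Q10939 (allL N10939 (tt N5212 (iv1 D16265)) (tt N17905 F44825) (tt N17290 (iv2 F190496)) (tt N17233 (iv3 F190514)) (tt N22340 D33645) (tt N22341 D33646) (tt N22342 D33647) (tt N17904 F109757))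
theorem Q10941 : ∀ i, i < 10941 → P i := stepQ 10940 Q10940 (allL N10940 (tt N22343 D33648) (tt N22344 D33649) (tt N17898 (iv2 F51015)) (tt N22322 (iv3 F52911)) (tt N22345 D33650) (tt N5212 (iv5 D16266)) (tt N11195 (iv6 F27290)) (tt N22346 D33651))
theorem Q10942 : ∀ i, i < 10942 → P i := stepQ 10941 Q10941 (allL N10941 (tt N17290 F190516) (tt N17904 F44824) (tt N17905 (iv2 F44822)) (tt N22327 (iv3 F52916)) (tt N22336 (iv4 F52921)) (tt N22346 (iv5 F52928)) (tt N17914 (iv6 F44855)) (tt N5212 (iv7 D16267)))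
theorem Q10943 : ∀ i, i < 10943 → P i := stepQ 10942 Q10942 (allL N10942 (tt N22347 D33652) (tt N22348 D33653) (tt N22349 D33654) (tt N5213 (iv3 D16269)) (tt N22350 D33655) (tt N22351 D33656) (tt N14340 F305492) (tt N17765 (iv7 F44424)))
theorem Q10944 : ∀ i, i < 10944 → P i := stepQ 10943 Q10943 (allL N10943 (tt N18504 (iv1 F46087)) (tt N16985 (iv0 F41703)) (tt N14859 F42913) (tt N21556 (iv3 F51490)) (tt N5213 (iv4 D16270)) (tt N11052 (iv5 F25989)) (tt N22352 D33658) (tt N17766 (iv7 F44426)))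
theorem Q10945 : ∀ i, i < 10945 → P i := stepQ 10944 Q10944 (allL N10944 (tt N22353 D33659) (tt N11198 (iv0 F43058)) (tt N17770 (iv2 F44434)) (tt N22351 (iv3 F52929)) (tt N18572 (iv4 F46196)) (tt N5213 (iv5 D16271)) (tt N22354 D33660) (tt N17767 (iv7 F44430)))
theorem Q10946 : ∀ i, i < 10946 → P i := stepQ 10945 Q10945 (allL N10945 (tt N14319 F304952) (tt N22316 F190753) (tt N17771 (iv2 F44437)) (tt N14340 F304953) (tt N22352 (iv4 F52931)) (tt N22355 D33663) (tt N5213 (iv6 D16272)) (tt N22356 D33664))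
theorem Q10947 : ∀ i, i < 10947 → P i := stepQ 10946 Q10946 (allL N10946 (tt N22357 D33665) (tt N22358 D33666) (tt N22359 D33667) (tt N5214 (iv3 D16274)) (tt N22360 D33668) (tt N22361 D33669) (tt N22362 D33670) (tt N17769 (iv7 F44433)))
theorem Q10948 : ∀ i, i < 10948 → P i := stepQ 10947 Q10947 (allL N10947 (tt N16985 (iv1 F42921)) (tt N18504 (iv0 F46086)) (tt N17766 (iv2 F44425)) (tt N6093 F25831) (tt N5214 (iv4 D16275)) (tt N11055 (iv5 F25994)) (tt N18575 (iv6 F50858)) (tt N14859 F42909))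
theorem Q10949 : ∀ i, i < 10949 → P i := stepQ 10948 Q10948 (allL N10948 (tt N11198 (iv1 F27291)) (tt N22353 F52935) (tt N17767 (iv2 F44429)) (tt N22361 (iv3 F52945)) (tt N18563 (iv4 F46188)) (tt N5214 (iv5 D16276)) (tt N22363 D33671) (tt N17770 (iv7 F44435)))
theorem Q10950 : ∀ i, i < 10950 → P i := stepQ 10949 Q10949 (allL N10949 (tt N22337 (iv1 F190566)) (tt N22340 F190550) (tt N17768 (iv2 F44432)) (tt N22362 (iv3 F52948)) (tt N18575 F50908) (tt N22364 D33674) (tt N5214 (iv6 D16277)) (tt N22365 D33675))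
theorem Q10951 : ∀ i, i < 10951 → P i := stepQ 10950 Q10950 (allL N10950 (tt N17772 (iv1 F44441)) (tt N5215 (iv0 D16278)) (tt N17775 F44452) (tt N13036 (iv3 F304523)) (tt N18539 (iv4 F46156)) (tt N13027 F301838) (tt N13030 (iv6 F304524)) (tt N17774 F44448))
theorem Q10952 : ∀ i, i < 10952 → P i := stepQ 10951 Q10951 (allL N10951 (tt N5215 (iv1 D16279)) (tt N17772 F44442) (tt N17774 F44447) (tt N21952 (iv3 F52277)) (tt N18516 (iv4 F46110)) (tt N17395 F43044) (tt N22366 D33678) (tt N17775 (iv7 F44450)))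
theorem Q10953 : ∀ i, i < 10953 → P i := stepQ 10952 Q10952 (allL N10952 (tt N18584 (iv1 F46205)) (tt N18583 F46204) (tt N18586 (iv2 F46208)) (tt N22367 D33679) (tt N5215 (iv4 D16280)) (tt N18489 (iv5 F46051)) (tt N22368 D33680) (tt N17776 (iv7 F44454)))
theorem Q10954 : ∀ i, i < 10954 → P i := stepQ 10953 Q10953 (allL N10953 (tt N22369 D33681) (tt N22370 D33682) (tt N22281 (iv2 F52864)) (tt N17792 (iv3 F44470)) (tt N22368 (iv4 F52950)) (tt N22371 D33683) (tt N5215 (iv6 D16281)) (tt N22372 D33684))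
theorem Q10955 : ∀ i, i < 10955 → P i := stepQ 10954 Q10954 (allL N10954 (tt N22284 (iv1 F52871)) (tt N5216 (iv0 D16282)) (tt N22282 F162980) (tt N14369 (iv3 F306889)) (tt N22373 D33687) (tt N22374 D33688) (tt N14326 (iv6 F306345)) (tt N6217 (iv7 F306744)))
theorem Q10956 : ∀ i, i < 10956 → P i := stepQ 10955 Q10955 (allL N10955 (tt N5216 (iv1 D16283)) (tt N22284 F52870) (tt N6217 F304323) (tt N22375 D33691) (tt N22376 D33692) (tt N22377 D33693) (tt N6186 F304324) (tt N22282 F162979))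
theorem Q10957 : ∀ i, i < 10957 → P i := stepQ 10956 Q10956 (allL N10956 (tt N22378 D33695) (tt N22379 D33696) (tt N22283 (iv2 F52866)) (tt N17808 (iv3 F44478)) (tt N22380 D33697) (tt N5216 (iv5 D16284)) (tt N22371 (iv6 F52951)) (tt N22381 D33698))
theorem Q10958 : ∀ i, i < 10958 → P i := stepQ 10957 Q10957 (allL N10957 (tt N6217 F304946) (tt N22282 F52869) (tt N22284 (iv2 F52867)) (tt N17805 (iv3 F44475)) (tt N5219 F25832) (tt N22381 (iv5 F52954)) (tt N17781 (iv6 F44460)) (tt N5216 (iv7 D16285)))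
theorem Q10959 : ∀ i, i < 10959 → P i := stepQ 10958 Q10958 (allL N10958 (tt N22382 D33705) (tt N22170 (iv0 F130785)) (tt N22383 D33707) (tt N5217 (iv3 D16287)) (tt N22384 D33708) (tt N22385 D33709) (tt N22386 D33710) (tt N22289 F109975))
theorem Q10960 : ∀ i, i < 10960 → P i := stepQ 10959 Q10959 (allL N10959 (tt N22387 D33712) (tt N22303 F109821) (tt N22286 (iv2 F109985)) (tt N22388 D33714) (tt N5217 (iv4 D16288)) (tt N22389 D33715) (tt N22390 D33716) (tt N22290 F109979))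
theorem Q10961 : ∀ i, i < 10961 → P i := stepQ 10960 Q10960 (allL N10960 (tt N22391 D33718) (tt N22392 D33719) (tt N22287 (iv2 F109987)) (tt N22385 (iv3 F52964)) (tt N22393 D33720) (tt N5217 (iv5 D16289)) (tt N22394 D33721) (tt N22291 F109983))
theorem Q10962 : ∀ i, i < 10962 → P i := stepQ 10961 Q10961 (allL N10961 (tt N22342 F109742) (tt N22395 D33724) (tt N22288 (iv2 F109989)) (tt N22386 (iv3 F52965)) (tt N22390 (iv4 F52968)) (tt N22396 D33725) (tt N5217 (iv6 D16290)) (tt N22397 D33726))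
theorem Q10963 : ∀ i, i < 10963 → P i := stepQ 10962 Q10962 (allL N10962 (tt N22232 (iv1 F232344)) (tt N22398 D33729) (tt N22399 D33730) (tt N5218 (iv3 D16292)) (tt N22400 D33731) (tt N22401 D33732) (tt N22402 D33733) (tt N22285 (iv7 F109984)))
theorem Q10964 : ∀ i, i < 10964 → P i := stepQ 10963 Q10963 (allL N10963 (tt N22303 F109822) (tt N22387 F52971) (tt N22290 F109967) (tt N22403 D33734) (tt N5218 (iv4 D16293)) (tt N22404 D33735) (tt N12755 F304368) (tt N22286 (iv7 F109986)))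
theorem Q10965 : ∀ i, i < 10965 → P i := stepQ 10964 Q10964 (allL N10964 (tt N22392 (iv1 F52973)) (tt N22391 F52976) (tt N22291 F109968) (tt N22401 (iv3 F52979)) (tt N22405 D33737) (tt N5218 (iv5 D16294)) (tt N22406 D33738) (tt N22287 (iv7 F109988)))
theorem Q10966 : ∀ i, i < 10966 → P i := stepQ 10965 Q10965 (allL N10965 (tt N13946 F301337) (tt N13938 (iv0 F302509)) (tt N22292 F109958) (tt N22402 (iv3 F52980)) (tt N12755 (iv4 F301610)) (tt N12739 (iv5 F302080)) (tt N5218 (iv6 D16295)) (tt N22407 D33742))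
theorem Q10967 : ∀ i, i < 10967 → P i := stepQ 10966 Q10966 (allL N10966 (tt N22140 (iv1 F54094)) (tt N22408 D33744) (tt N21393 (iv2 F51155)) (tt N21894 (iv3 F52138)) (tt N22409 D33745) (tt N5220 (iv5 D16299)) (tt N22410 D33746) (tt N10903 (iv7 F51005)))
theorem Q10968 : ∀ i, i < 10968 → P i := stepQ 10967 Q10967 (allL N10967 (tt N22408 (iv1 F52984)) (tt N22140 (iv0 F54093)) (tt N10903 F51006) (tt N22234 (iv3 F52823)) (tt N22411 D33747) (tt N5221 (iv5 D16304)) (tt N22412 D33748) (tt N21393 (iv7 F51156)))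
theorem Q10969 : ∀ i, i < 10969 → P i := stepQ 10968 Q10968 (allL N10968 (tt N21278 (iv1 F50694)) (tt N5222 (iv0 D16306)) (tt N21395 (iv2 F51160)) (tt N21896 (iv3 F52990)) (tt N22413 D33750) (tt N19372 (iv5 F50773)) (tt N22414 D33751) (tt N21394 (iv7 F51162)))
theorem Q10970 : ∀ i, i < 10970 → P i := stepQ 10969 Q10969 (allL N10969 (tt N5222 (iv1 D16307)) (tt N21278 F50693) (tt N21394 F51163) (tt N22415 D33752) (tt N22416 D33753) (tt N21690 (iv5 F54100)) (tt N22417 D33755) (tt N21395 F51161))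
theorem Q10971 : ∀ i, i < 10971 → P i := stepQ 10970 Q10970 (allL N10970 (tt N22418 D33756) (tt N22419 D33757) (tt N22164 (iv2 F52594)) (tt N22420 D33758) (tt N5222 (iv4 D16308)) (tt N22421 D33759) (tt N17929 (iv6 F44871)) (tt N21396 (iv7 F51164)))
theorem Q10972 : ∀ i, i < 10972 → P i := stepQ 10971 Q10971 (allL N10971 (tt N17282 (iv1 F42676)) (tt N17281 F42675) (tt N5224 F25841) (tt N22422 D33760) (tt N5223 (iv4 D16319)) (tt N22423 D33761) (tt N17307 (iv6 F304081)) (tt N17279 (iv7 F42669)))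
theorem Q10973 : ∀ i, i < 10973 → P i := stepQ 10972 Q10972 (allL N10972 (tt N22424 D33763) (tt N22425 D33764) (tt N5225 F25842) (tt N17265 (iv3 F42612)) (tt N17307 (iv4 F304080)) (tt N22426 D33765) (tt N5223 (iv6 D16320)) (tt N22427 D33766))
theorem Q10974 : ∀ i, i < 10974 → P i := stepQ 10973 Q10973 (allL N10973 (tt N17279 (iv1 F42671)) (tt N5224 (iv0 D16321)) (tt N17282 (iv2 F42680)) (tt N22428 D33767) (tt N21951 (iv4 F52272)) (tt N21994 (iv5 F52318)) (tt N22429 D33768) (tt N17281 F42681))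
theorem Q10975 : ∀ i, i < 10975 → P i := stepQ 10974 Q10974 (allL N10974 (tt N5224 (iv1 D16322)) (tt N17279 (iv0 F42670)) (tt N17281 F42679) (tt N22430 D33769) (tt N10617 (iv4 F25843)) (tt N21995 (iv5 F52319)) (tt N22424 (iv6 F304079)) (tt N17282 (iv7 F42678)))
theorem Q10976 : ∀ i, i < 10976 → P i := stepQ 10975 Q10975 (allL N10975 (tt N22431 D33771) (tt N22360 (iv0 F52943)) (tt N22423 (iv2 F52996)) (tt N5692 F25844) (tt N22432 D33772) (tt N5224 (iv5 D16323)) (tt N22433 D33773) (tt N17283 (iv7 F42683)))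
theorem Q10977 : ∀ i, i < 10977 → P i := stepQ 10976 Q10976 (allL N10976 (tt N22427 (iv1 F53008)) (tt N5225 (iv0 D16325)) (tt N22424 (iv2 F187854)) (tt N22434 D33779) (tt N22435 D33780) (tt N22436 D33781) (tt N17281 F302832) (tt N22425 F187853))
theorem Q10978 : ∀ i, i < 10978 → P i := stepQ 10977 Q10977 (allL N10977 (tt N5225 (iv1 D16326)) (tt N22427 F53007) (tt N22425 F187847) (tt N22437 D33784) (tt N22438 D33785) (tt N22439 D33786) (tt N22440 D33787) (tt N22424 (iv7 F187855)))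
theorem Q10979 : ∀ i, i < 10979 → P i := stepQ 10978 Q10978 (allL N10978 (tt N22441 D33788) (tt N20725 F314680) (tt N22426 (iv2 F53003)) (tt N5228 F25847) (tt N22442 D33790) (tt N5225 (iv5 D16327)) (tt N5498 F25848) (tt N22443 D33791))
theorem Q10980 : ∀ i, i < 10980 → P i := stepQ 10979 Q10979 (allL N10979 (tt N22425 (iv1 F53002)) (tt N22424 F53006) (tt N22427 (iv2 F53005)) (tt N5229 F25849) (tt N5237 (iv4 F303387)) (tt N22443 (iv5 F53026)) (tt N17288 (iv6 F42690)) (tt N5225 (iv7 D16328)))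
theorem Q10981 : ∀ i, i < 10981 → P i := stepQ 10980 Q10980 (allL N10980 (tt N17228 (iv1 F130257)) (tt N5988 (iv0 F130258)) (tt N17225 (iv2 F131611)) (tt N5226 (iv3 D16330)) (tt N22444 D33795) (tt N22445 D33796) (tt N17469 F300685) (tt N17226 F131610))
theorem Q10982 : ∀ i, i < 10982 → P i := stepQ 10981 Q10981 (allL N10981 (tt N22446 D33798) (tt N22447 D33799) (tt N17275 (iv2 F42649)) (tt N22445 (iv3 F53028)) (tt N22448 D33800) (tt N5226 (iv5 D16332)) (tt N10455 F313197) (tt N17276 (iv7 F42654)))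
theorem Q10983 : ∀ i, i < 10983 → P i := stepQ 10982 Q10982 (allL N10982 (tt N22447 (iv1 F53034)) (tt N22446 F53031) (tt N17276 (iv2 F42653)) (tt N22317 F190761) (tt N22449 D33809) (tt N5227 (iv5 D16337)) (tt N22450 D33810) (tt N17275 F42651))
theorem Q10984 : ∀ i, i < 10984 → P i := stepQ 10983 Q10983 (allL N10983 (tt N12661 F301340) (tt N5996 F42186) (tt N12496 F42187) (tt N22318 F190762) (tt N5979 F42188) (tt N22451 D33811) (tt N5227 (iv6 D16338)) (tt N12495 F42189))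
theorem Q10985 : ∀ i, i < 10985 → P i := stepQ 10984 Q10984 (allL N10984 (tt N17278 (iv1 F42667)) (tt N5228 (iv0 D16339)) (tt N17277 (iv2 F42665)) (tt N22452 D33812) (tt N16855 F313409) (tt N22453 D33814) (tt N20666 (iv6 F313939)) (tt N16758 F313410))
theorem Q10986 : ∀ i, i < 10986 → P i := stepQ 10985 Q10985 (allL N10985 (tt N16758 (iv1 F313299)) (tt N17277 F42662) (tt N17278 (iv2 F42660)) (tt N22443 (iv3 F53025)) (tt N16882 (iv4 F312974)) (tt N5229 F25854) (tt N22454 D33822) (tt N5228 (iv7 D16342)))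
theorem Q10987 : ∀ i, i < 10987 → P i := stepQ 10986 Q10986 (allL N10986 (tt N17267 (iv1 F42614)) (tt N17266 F42613) (tt N5231 F25857) (tt N22455 D33823) (tt N5230 (iv4 D16353)) (tt N22456 D33824) (tt N22457 D33825) (tt N17264 (iv7 F42608)))
theorem Q10988 : ∀ i, i < 10988 → P i := stepQ 10987 Q10987 (allL N10987 (tt N22458 D33826) (tt N22459 D33827) (tt N5232 F25858) (tt N17280 (iv3 F42673)) (tt N22457 (iv4 F53170)) (tt N5986 (iv5 F26655)) (tt N5230 (iv6 D16354)) (tt N22460 D33828))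
theorem Q10989 : ∀ i, i < 10989 → P i := stepQ 10988 Q10988 (allL N10988 (tt N17264 (iv1 F42610)) (tt N5231 (iv0 D16355)) (tt N17267 (iv2 F42620)) (tt N22461 D33829) (tt N22072 (iv4 F52451)) (tt N22116 (iv5 F52496)) (tt N22462 D33830) (tt N17266 F42621))
theorem Q10990 : ∀ i, i < 10990 → P i := stepQ 10989 Q10989 (allL N10989 (tt N5231 (iv1 D16356)) (tt N17264 (iv0 F42609)) (tt N17266 F42619) (tt N5860 (iv3 F25859)) (tt N10549 (iv4 F25860)) (tt N5859 F25861) (tt N22463 D33831) (tt N17267 (iv7 F42617)))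
theorem Q10991 : ∀ i, i < 10991 → P i := stepQ 10990 Q10990 (allL N10990 (tt N22464 D33832) (tt N5891 (iv0 F25863)) (tt N22456 (iv2 F53165)) (tt N5585 F25862) (tt N22465 D33833) (tt N5231 (iv5 D16357)) (tt N22466 D33834) (tt N17268 (iv7 F42624)))
theorem Q10992 : ∀ i, i < 10992 → P i := stepQ 10991 Q10991 (allL N10991 (tt N22467 D33835) (tt N22468 D33836) (tt N22457 (iv2 F53169)) (tt N5586 F25864) (tt N5232 F25865) (tt N22469 D33837) (tt N5231 (iv6 D16358)) (tt N22470 D33838))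
theorem Q10993 : ∀ i, i < 10993 → P i := stepQ 10992 Q10992 (allL N10992 (tt N22460 (iv1 F53179)) (tt N5232 (iv0 D16359)) (tt N22458 (iv2 F85916)) (tt N17293 (iv3 F85911)) (tt N22471 D33841) (tt N22472 D33842) (tt N22473 D33843) (tt N22459 (iv7 F85914)))
theorem Q10994 : ∀ i, i < 10994 → P i := stepQ 10993 Q10993 (allL N10993 (tt N5232 (iv1 D16360)) (tt N22460 F53178) (tt N22459 (iv2 F85913)) (tt N22344 F190643) (tt N22474 D33846) (tt N22475 D33847) (tt N22476 D33848) (tt N22458 (iv7 F85917)))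
theorem Q10995 : ∀ i, i < 10995 → P i := stepQ 10994 Q10994 (allL N10994 (tt N22459 (iv1 F53171)) (tt N22458 F53177) (tt N22460 (iv2 F53175)) (tt N5236 F25868) (tt N22470 (iv4 F53194)) (tt N17234 (iv5 F42563)) (tt N17273 (iv6 F42632)) (tt N5232 (iv7 D16362)))
theorem Q10996 : ∀ i, i < 10996 → P i := stepQ 10995 Q10995 (allL N10995 (tt N22477 D33855) (tt N22478 D33856) (tt N17289 (iv2 F42692)) (tt N22338 F190520) (tt N11150 F307201) (tt N5233 (iv5 D16366)) (tt N11130 F307202) (tt N17291 (iv7 F42696)))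
theorem Q10997 : ∀ i, i < 10997 → P i := stepQ 10996 Q10996 (allL N10996 (tt N5999 F42337) (tt N17946 F44920) (tt N12061 F42338) (tt N22339 F190619) (tt N5960 F42339) (tt N11137 F311333) (tt N5233 (iv6 D16367)) (tt N12055 F42340))
theorem Q10998 : ∀ i, i < 10998 → P i := stepQ 10997 Q10997 (allL N10997 (tt N5986 (iv1 F53232)) (tt N17234 (iv0 F53233)) (tt N17233 (iv2 F53226)) (tt N5234 (iv3 D16369)) (tt N22479 D33862) (tt N22480 D33863) (tt N22481 D33864) (tt N17232 (iv7 F53225)))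
theorem Q10999 : ∀ i, i < 10999 → P i := stepQ 10998 Q10998 (allL N10998 (tt N22478 (iv1 F53205)) (tt N22477 F53202) (tt N17291 (iv2 F42695)) (tt N22480 (iv3 F53207)) (tt N22482 D33865) (tt N5234 (iv5 D16371)) (tt N22483 D33866) (tt N17289 (iv7 F42693)))
theorem Q11000 : ∀ i, i < 11000 → P i := stepQ 10999 Q10999 (allL N10999 (tt N17305 F53092) (tt N5240 F42700) (tt N17292 (iv2 F42697)) (tt N22481 (iv3 F53208)) (tt N5962 F42347) (tt N22484 D33867) (tt N5234 (iv6 D16372)) (tt N17304 (iv7 F42736)))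
theorem Q11001 : ∀ i, i < 11001 → P i := stepQ 11000 Q11000 (allL N11000 (tt N17296 (iv1 F42713)) (tt N5235 (iv0 D16373)) (tt N17293 (iv2 F42711)) (tt N22343 F190648) (tt N21716 (iv4 F53215)) (tt N22485 D33870) (tt N22486 D33871) (tt N17294 F42712))
theorem Q11002 : ∀ i, i < 11002 → P i := stepQ 11001 Q11001 (allL N11001 (tt N5235 (iv1 D16374)) (tt N17296 F42709) (tt N17294 (iv2 F42703)) (tt N22459 (iv3 F53172)) (tt N21717 (iv4 F51765)) (tt N10784 (iv5 F25871)) (tt N22487 D33872) (tt N17293 (iv7 F42710)))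
theorem Q11003 : ∀ i, i < 11003 → P i := stepQ 11002 Q11002 (allL N11002 (tt N22488 D33873) (tt N22489 D33874) (tt N17295 (iv2 F42704)) (tt N22490 D33875) (tt N5235 (iv4 D16375)) (tt N22491 D33876) (tt N5665 F25872) (tt N22492 D33877))
theorem Q11004 : ∀ i, i < 11004 → P i := stepQ 11003 Q11003 (allL N11003 (tt N17294 (iv1 F42701)) (tt N17293 F42708) (tt N17296 (iv2 F42706)) (tt N17234 (iv3 F42562)) (tt N22492 (iv4 F53229)) (tt N5236 F25873) (tt N22493 D33878) (tt N5235 (iv7 D16376)))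
theorem Q11005 : ∀ i, i < 11005 → P i := stepQ 11004 Q11004 (allL N11004 (tt N17307 (iv1 F53122)) (tt N5237 (iv0 D16383)) (tt N17306 F162852) (tt N22398 F110023) (tt N22494 D33881) (tt N21439 (iv5 F184822)) (tt N17931 (iv6 F210888)) (tt N17100 (iv7 F232265)))
theorem Q11006 : ∀ i, i < 11006 → P i := stepQ 11005 Q11005 (allL N11005 (tt N17306 (iv1 F53123)) (tt N17100 (iv0 F232264)) (tt N5237 (iv2 D16385)) (tt N17298 F53136) (tt N22427 F305565) (tt N22495 D33890) (tt N22496 D33891) (tt N17307 F53119))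
theorem Q11007 : ∀ i, i < 11007 → P i := stepQ 11006 Q11006 (allL N11006 (tt N22497 D33897) (tt N22498 D33898) (tt N22495 (iv2 F53244)) (tt N5239 F25882) (tt N22499 D33899) (tt N5237 (iv5 D16387)) (tt N22500 D33900) (tt N17308 F53103))
theorem Q11008 : ∀ i, i < 11008 → P i := stepQ 11007 Q11007 (allL N11007 (tt N22501 D33901) (tt N22502 D33902) (tt N22496 (iv2 F53245)) (tt N5240 F25883) (tt N17288 F303898) (tt N22503 D33903) (tt N5237 (iv6 D16388)) (tt N17284 F303899))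
theorem Q11009 : ∀ i, i < 11009 → P i := stepQ 11008 Q11008 (allL N11008 (tt N11982 F28957) (tt N22504 D33910) (tt N12663 F53115) (tt N5713 F299301) (tt N22505 D33911) (tt N5238 (iv5 D16393)) (tt N15704 F322489) (tt N5693 F299302))
theorem Q11010 : ∀ i, i < 11010 → P i := stepQ 11009 Q11009 (allL N11009 (tt N5243 (iv1 F25894)) (tt N5239 (iv0 D16396)) (tt N17302 F42724) (tt N22506 D33913) (tt N22507 D33914) (tt N10845 F25890) (tt N20670 F315923) (tt N17303 (iv7 F42727)))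
theorem Q11011 : ∀ i, i < 11011 → P i := stepQ 11010 Q11010 (allL N11010 (tt N5239 (iv1 D16397)) (tt N5243 F25891) (tt N17303 F42728) (tt N22392 F190180) (tt N22508 D33917) (tt N22509 D33918) (tt N16908 (iv6 F53265)) (tt N17302 F42725))
theorem Q11012 : ∀ i, i < 11012 → P i := stepQ 11011 Q11011 (allL N11011 (tt N22510 D33919) (tt N22511 D33920) (tt N10591 (iv2 F312975)) (tt N22512 D33921) (tt N5239 (iv4 D16398)) (tt N9356 (iv5 F312984)) (tt N8306 F310740) (tt N17309 F53104))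
theorem Q11013 : ∀ i, i < 11013 → P i := stepQ 11012 Q11012 (allL N11012 (tt N5502 (iv1 F308633)) (tt N17459 (iv0 F306847)) (tt N10590 (iv2 F308634)) (tt N22500 (iv3 F53248)) (tt N8306 (iv4 F308637)) (tt N10611 F306796) (tt N5239 (iv6 D16399)) (tt N10587 (iv7 F308638)))
theorem Q11014 : ∀ i, i < 11014 → P i := stepQ 11013 Q11013 (allL N11013 (tt N5240 (iv1 D16402)) (tt N17305 F53095) (tt N17304 (iv2 F42735)) (tt N22395 F190625) (tt N12056 F29128) (tt N22513 D33928) (tt N12055 (iv6 F29129)) (tt N17292 (iv7 F42699)))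
theorem Q11015 : ∀ i, i < 11015 → P i := stepQ 11014 Q11014 (allL N11014 (tt N8491 F25895) (tt N11187 F27134) (tt N11186 (iv2 F53096)) (tt N22503 (iv3 F53249)) (tt N10612 (iv4 F309361)) (tt N5240 (iv5 D16403)) (tt N10611 F307333) (tt N11185 (iv7 F53097)))
theorem Q11016 : ∀ i, i < 11016 → P i := stepQ 11015 Q11015 (allL N11015 (tt N5241 (iv1 D16407)) (tt N17298 F53133) (tt N17297 (iv2 F130763)) (tt N22382 F110590) (tt N22514 D33937) (tt N21453 F130867) (tt N17939 F199891) (tt N17070 (iv7 F130765)))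
theorem Q11017 : ∀ i, i < 11017 → P i := stepQ 11016 Q11016 (allL N11016 (tt N17070 F130736) (tt N17297 F53132) (tt N5241 (iv2 D16408)) (tt N17307 F53135) (tt N22515 D33940) (tt N22516 D33941) (tt N22422 F303894) (tt N17298 (iv7 F53129)))
theorem Q11018 : ∀ i, i < 11018 → P i := stepQ 11017 Q11017 (allL N11017 (tt N22462 F184593) (tt N22517 D33944) (tt N22515 (iv2 F53286)) (tt N17549 F300344) (tt N5241 (iv4 D16409)) (tt N22518 D33946) (tt N17548 F300345) (tt N17299 (iv7 F53130)))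
theorem Q11019 : ∀ i, i < 11019 → P i := stepQ 11018 Q11018 (allL N11018 (tt N22519 D33948) (tt N22520 D33949) (tt N22516 (iv2 F53287)) (tt N5243 F25897) (tt N22521 D33950) (tt N5241 (iv5 D16410)) (tt N22522 D33951) (tt N17300 (iv7 F53125)))
theorem Q11020 : ∀ i, i < 11020 → P i := stepQ 11019 Q11019 (allL N11019 (tt N22523 D33952) (tt N22524 D33953) (tt N22422 (iv2 F301121)) (tt N5244 F25898) (tt N17548 F298467) (tt N22525 D33954) (tt N5241 (iv6 D16411)) (tt N17462 (iv7 F298690)))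
theorem Q11021 : ∀ i, i < 11021 → P i := stepQ 11020 Q11020 (allL N11020 (tt N22504 (iv1 F53253)) (tt N11982 F28961) (tt N5693 (iv2 F297195)) (tt N15705 F324432) (tt N22526 D33961) (tt N5242 (iv5 D16413)) (tt N5684 F296842) (tt N12663 (iv7 F53114)))
theorem Q11022 : ∀ i, i < 11022 → P i := stepQ 11021 Q11021 (allL N11021 (tt N22511 (iv1 F53273)) (tt N22510 F53272) (tt N17309 F53105) (tt N22527 D33962) (tt N5243 (iv4 D16415)) (tt N19477 F315368) (tt N22528 D33964) (tt N10591 F315369))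
theorem Q11023 : ∀ i, i < 11023 → P i := stepQ 11022 Q11022 (allL N11022 (tt N21215 (iv1 F50362)) (tt N10202 (iv0 F25900)) (tt N17310 F53106) (tt N22522 (iv3 F53291)) (tt N22528 (iv4 F53297)) (tt N22529 D33965) (tt N5243 (iv6 D16416)) (tt N21214 (iv7 F53107)))
theorem Q11024 : ∀ i, i < 11024 → P i := stepQ 11023 Q11023 (allL N11023 (tt N10786 (iv1 F42198)) (tt N10783 (iv0 F25901)) (tt N5692 (iv2 F298695)) (tt N22525 (iv3 F53292)) (tt N5585 (iv4 F301119)) (tt N5244 (iv5 D16419)) (tt N22529 (iv6 F53299)) (tt N17463 (iv7 F298691)))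
theorem Q11025 : ∀ i, i < 11025 → P i := stepQ 11024 Q11024 (allL N11024 (tt N21179 (iv1 F50280)) (tt N10710 (iv0 F27013)) (tt N21923 (iv2 F52187)) (tt N8096 F25902) (tt N5245 (iv4 D16424)) (tt N22530 D33969) (tt N14963 (iv6 F37540)) (tt N17314 (iv7 F42761)))
theorem Q11026 : ∀ i, i < 11026 → P i := stepQ 11025 Q11025 (allL N11025 (tt N22531 D33970) (tt N22532 D33971) (tt N21924 (iv2 F52192)) (tt N5246 F25903) (tt N22533 D33972) (tt N5245 (iv5 D16425)) (tt N22534 D33973) (tt N17315 (iv7 F42765)))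
theorem Q11027 : ∀ i, i < 11027 → P i := stepQ 11026 Q11026 (allL N11026 (tt N5247 (iv1 F25905)) (tt N5246 (iv0 D16426)) (tt N10607 (iv2 F25906)) (tt N22069 (iv3 F52444)) (tt N21865 (iv4 F52059)) (tt N8313 F25904) (tt N22535 D33974) (tt N17311 (iv7 F42751)))
theorem Q11028 : ∀ i, i < 11028 → P i := stepQ 11027 Q11027 (allL N11027 (tt N5246 (iv1 D16427)) (tt N5247 F25907) (tt N17311 F42753) (tt N22408 (iv3 F54095)) (tt N21864 (iv4 F52054)) (tt N10247 F25909) (tt N21056 F316189) (tt N10607 F25908))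
theorem Q11029 : ∀ i, i < 11029 → P i := stepQ 11028 Q11028 (allL N11028 (tt N21658 (iv1 F51647)) (tt N22536 D33976) (tt N17312 (iv2 F42754)) (tt N22537 D33977) (tt N5246 (iv4 D16428)) (tt N11036 (iv5 F25919)) (tt N22538 D33978) (tt N17316 (iv7 F42767)))
theorem Q11030 : ∀ i, i < 11030 → P i := stepQ 11029 Q11029 (allL N11029 (tt N22539 D33979) (tt N22540 D33980) (tt N17313 (iv2 F42756)) (tt N22534 (iv3 F53312)) (tt N22538 (iv4 F53322)) (tt N15232 (iv5 F38075)) (tt N5246 (iv6 D16429)) (tt N22541 D33981))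
theorem Q11031 : ∀ i, i < 11031 → P i := stepQ 11030 Q11030 (allL N11030 (tt N22536 (iv1 F53317)) (tt N21658 (iv0 F51646)) (tt N17316 (iv2 F42766)) (tt N22542 D33982) (tt N5247 (iv4 D16436)) (tt N11033 (iv5 F25917)) (tt N22543 D33983) (tt N17312 (iv7 F42755)))
theorem Q11032 : ∀ i, i < 11032 → P i := stepQ 11031 Q11031 (allL N11031 (tt N22544 D33984) (tt N22545 D33985) (tt N17317 (iv2 F42768)) (tt N17208 (iv3 F42499)) (tt N22543 (iv4 F53323)) (tt N17198 (iv5 F42484)) (tt N5247 (iv6 D16437)) (tt N22546 D33986))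
theorem Q11033 : ∀ i, i < 11033 → P i := stepQ 11032 Q11032 (allL N11032 (tt N21167 F50500) (tt N17109 (iv0 F50496)) (tt N21925 (iv2 F54573)) (tt N5248 (iv3 D16439)) (tt N22547 D33988) (tt N18631 (iv5 F46284)) (tt N22548 D33989) (tt N17321 (iv7 F42777)))
theorem Q11034 : ∀ i, i < 11034 → P i := stepQ 11033 Q11033 (allL N11033 (tt N18628 (iv1 F46274)) (tt N9172 F25918) (tt N17319 (iv2 F42770)) (tt N22549 D33990) (tt N5248 (iv4 D16440)) (tt N11030 F25917) (tt N22550 D33991) (tt N17322 (iv7 F42780)))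
theorem Q11035 : ∀ i, i < 11035 → P i := stepQ 11034 Q11034 (allL N11034 (tt N22551 D33992) (tt N22552 D33993) (tt N17320 (iv2 F42776)) (tt N22548 (iv3 F53325)) (tt N22550 (iv4 F53327)) (tt N19026 (iv5 F46808)) (tt N5248 (iv6 D16441)) (tt N22553 D33994))
theorem Q11036 : ∀ i, i < 11036 → P i := stepQ 11035 Q11035 (allL N11035 (tt N17062 F46298) (tt N17210 (iv0 F46297)) (tt N21905 F52166) (tt N5249 (iv3 D16442)) (tt N22554 D33995) (tt N18634 (iv5 F46293)) (tt N22555 D33996) (tt N17318 (iv7 F42769)))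
theorem Q11037 : ∀ i, i < 11037 → P i := stepQ 11036 Q11036 (allL N11036 (tt N9172 F25920) (tt N18628 (iv0 F46273)) (tt N17322 (iv2 F42778)) (tt N22556 D33997) (tt N5249 (iv4 D16443)) (tt N11028 F25919) (tt N22557 D33998) (tt N17319 (iv7 F42771)))
theorem Q11038 : ∀ i, i < 11038 → P i := stepQ 11037 Q11037 (allL N11037 (tt N22558 D33999) (tt N22559 D34000) (tt N17323 (iv2 F42782)) (tt N22555 (iv3 F53328)) (tt N22557 (iv4 F53330)) (tt N21503 (iv5 F51403)) (tt N5249 (iv6 D16444)) (tt N22560 D34001))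
theorem Q11039 : ∀ i, i < 11039 → P i := stepQ 11038 Q11038 (allL N11038 (tt N11041 (iv1 F25925)) (tt N5250 (iv0 D16445)) (tt N17324 F42785) (tt N22561 D34002) (tt N11049 (iv4 F25955)) (tt N10700 (iv5 F26521)) (tt N22562 D34003) (tt N17325 (iv7 F42788)))
theorem Q11040 : ∀ i, i < 11040 → P i := stepQ 11039 Q11039 (allL N11039 (tt N5250 (iv1 D16446)) (tt N11041 F25924) (tt N17325 F42790) (tt N22563 D34004) (tt N11050 (iv4 F25977)) (tt N11043 (iv5 F25978)) (tt N22564 D34005) (tt N17324 F42786))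
theorem Q11041 : ∀ i, i < 11041 → P i := stepQ 11040 Q11040 (allL N11040 (tt N22565 D34006) (tt N22566 D34007) (tt N22567 D34008) (tt N5250 (iv3 D16447)) (tt N22420 (iv4 F52994)) (tt N22568 D34009) (tt N17956 (iv6 F44929)) (tt N21473 (iv7 F51355)))
theorem Q11042 : ∀ i, i < 11042 → P i := stepQ 11041 Q11041 (allL N11041 (tt N11039 (iv1 F25924)) (tt N11038 F25925) (tt N10470 F25921) (tt N22568 (iv3 F53332)) (tt N8295 F25923) (tt N5250 (iv5 D16448)) (tt N22569 D34010) (tt N8473 F25922))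
theorem Q11043 : ∀ i, i < 11043 → P i := stepQ 11042 Q11042 (allL N11042 (tt N17049 (iv1 F42009)) (tt N17048 F42013) (tt N17051 (iv2 F42010)) (tt N5252 F25927) (tt N22570 D34011) (tt N5251 (iv5 D16452)) (tt N22571 D34012) (tt N17039 (iv7 F41992)))
theorem Q11044 : ∀ i, i < 11044 → P i := stepQ 11043 Q11043 (allL N11043 (tt N21865 (iv1 F52057)) (tt N21864 F52055) (tt N17328 (iv2 F42796)) (tt N22572 D34013) (tt N5252 (iv4 D16455)) (tt N11039 F25978) (tt N22573 D34014) (tt N17330 (iv7 F42804)))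
theorem Q11045 : ∀ i, i < 11045 → P i := stepQ 11044 Q11044 (allL N11044 (tt N22574 D34015) (tt N22575 D34016) (tt N17329 (iv2 F42799)) (tt N22571 (iv3 F53336)) (tt N22573 (iv4 F53338)) (tt N15336 (iv5 F38261)) (tt N5252 (iv6 D16456)) (tt N22576 D34017))
theorem Q11046 : ∀ i, i < 11046 → P i := stepQ 11045 Q11045 (allL N11045 (tt N9176 (iv1 F25937)) (tt N9504 F25938) (tt N16556 F40679) (tt N5253 (iv3 D16457)) (tt N22577 D34018) (tt N8031 F25934) (tt N7981 F25935) (tt N8031 F25936))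
theorem Q11047 : ∀ i, i < 11047 → P i := stepQ 11046 Q11046 (allL N11046 (tt N9178 F25942) (tt N9174 (iv0 F25943)) (tt N10247 F25939) (tt N22138 (iv3 F52518)) (tt N5253 (iv4 D16458)) (tt N17311 (iv5 F42752)) (tt N8220 F25940) (tt N8313 F25941))
theorem Q11048 : ∀ i, i < 11048 → P i := stepQ 11047 Q11047 (allL N11047 (tt N5255 (iv1 F25947)) (tt N5254 (iv0 D16459)) (tt N10241 (iv2 F25946)) (tt N22578 D34019) (tt N5514 F25944) (tt N17327 (iv5 F42794)) (tt N8217 F25945) (tt N5513 F25948))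
theorem Q11049 : ∀ i, i < 11049 → P i := stepQ 11048 Q11048 (allL N11048 (tt N10233 (iv1 F26690)) (tt N10232 F26693) (tt N10235 (iv2 F26688)) (tt N5254 (iv3 D16460)) (tt N11048 F25949) (tt N22579 D34020) (tt N9487 F25950) (tt N10227 F26687))
theorem Q11050 : ∀ i, i < 11050 → P i := stepQ 11049 Q11049 (allL N11049 (tt N9102 F25953) (tt N5434 F25954) (tt N9170 F25951) (tt N22579 (iv3 F53347)) (tt N11038 F25955) (tt N5254 (iv5 D16461)) (tt N22580 D34021) (tt N9171 F25952))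
theorem Q11051 : ∀ i, i < 11051 → P i := stepQ 11050 Q11050 (allL N11050 (tt N5434 F25975) (tt N9102 F25976) (tt N9171 F25973) (tt N8218 F26697) (tt N11039 F25977) (tt N5255 (iv5 D16475)) (tt N22581 D34022) (tt N9170 F25974))
theorem Q11052 : ∀ i, i < 11052 → P i := stepQ 11051 Q11051 (allL N11051 (tt N8318 F26876) (tt N10536 (iv0 F28343)) (tt N10535 (iv2 F42882)) (tt N5256 (iv3 D16477)) (tt N10472 F25982) (tt N9147 F25981) (tt N22582 D34023) (tt N10495 F42888))
theorem Q11053 : ∀ i, i < 11053 → P i := stepQ 11052 Q11052 (allL N11052 (tt N10613 F26768) (tt N5667 F26769) (tt N10498 (iv2 F42911)) (tt N10527 F25990) (tt N5256 (iv4 D16478)) (tt N10943 F25989) (tt N10575 (iv6 F54121)) (tt N10496 F42914))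
theorem Q11054 : ∀ i, i < 11054 → P i := stepQ 11053 Q11053 (allL N11053 (tt N10576 (iv1 F54129)) (tt N5511 (iv0 F54130)) (tt N10499 F42943) (tt N22582 (iv3 F53359)) (tt N10575 F54125) (tt N22583 D34027) (tt N5256 (iv6 D16479)) (tt N10575 F54126))
theorem Q11055 : ∀ i, i < 11055 → P i := stepQ 11054 Q11054 (allL N11054 (tt N10609 (iv1 F27736)) (tt N5672 (iv0 F27735)) (tt N10514 (iv2 F50853)) (tt N5257 (iv3 D16481)) (tt N11462 (iv4 F27849)) (tt N9150 F25993) (tt N5480 F50850) (tt N10497 (iv7 F42899)))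
theorem Q11056 : ∀ i, i < 11056 → P i := stepQ 11055 Q11055 (allL N11055 (tt N5667 F27734) (tt N10613 (iv0 F27737)) (tt N10496 F42910) (tt N5480 F25995) (tt N5257 (iv4 D16482)) (tt N10947 F25994) (tt N5257 F50849) (tt N10498 (iv7 F42900)))
theorem Q11057 : ∀ i, i < 11057 → P i := stepQ 11056 Q11056 (allL N11056 (tt N15836 (iv1 F39155)) (tt N7962 (iv0 F26000)) (tt N7939 F25997) (tt N5260 F25998) (tt N18113 (iv4 F45298)) (tt N5259 (iv5 D16484)) (tt N7938 F25999) (tt N15536 (iv7 F38613)))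
theorem Q11058 : ∀ i, i < 11058 → P i := stepQ 11057 Q11057 (allL N11057 (tt N22584 D34028) (tt N22585 D34029) (tt N11058 (iv2 F26002)) (tt N22586 D34030) (tt N5260 (iv4 D16485)) (tt N22587 D34031) (tt N9745 F26001) (tt N15914 (iv7 F39284)))
theorem Q11059 : ∀ i, i < 11059 → P i := stepQ 11058 Q11058 (allL N11058 (tt N22588 D34032) (tt N18164 (iv0 F45403)) (tt N11057 F26002) (tt N22589 D34033) (tt N5261 (iv4 D16486)) (tt N22590 D34034) (tt N9746 F26003) (tt N15537 (iv7 F38616)))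
theorem Q11060 : ∀ i, i < 11060 → P i := stepQ 11059 Q11059 (allL N11059 (tt N9324 F26060) (tt N19833 F48399) (tt N5268 F26056) (tt N7345 F26057) (tt N22591 D34035) (tt N5262 (iv5 D16488)) (tt N9853 F26058) (tt N5272 F26059))
theorem Q11061 : ∀ i, i < 11061 → P i := stepQ 11060 Q11060 (allL N11060 (tt N19833 (iv1 F48400)) (tt N9324 (iv0 F26063)) (tt N5272 F26061) (tt N11071 (iv3 F26090)) (tt N22592 D34036) (tt N5263 (iv5 D16489)) (tt N22593 D34037) (tt N5268 F26062))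
theorem Q11062 : ∀ i, i < 11062 → P i := stepQ 11061 Q11061 (allL N11061 (tt N5277 (iv1 F26067)) (tt N5264 (iv0 D16490)) (tt N5274 (iv2 F26065)) (tt N7350 F37497) (tt N22594 D34038) (tt N9708 F26064) (tt N22595 D34039) (tt N5275 F26066))
theorem Q11063 : ∀ i, i < 11063 → P i := stepQ 11062 Q11062 (allL N11062 (tt N22596 D34040) (tt N22597 D34041) (tt N5276 F26068) (tt N22598 D34042) (tt N5264 (iv4 D16491)) (tt N22599 D34043) (tt N8121 F26069) (tt N22600 D34044))
theorem Q11064 : ∀ i, i < 11064 → P i := stepQ 11063 Q11063 (allL N11063 (tt N5275 (iv1 F26073)) (tt N5274 F26074) (tt N5277 F26070) (tt N9722 F26071) (tt N22600 (iv4 F53414)) (tt N5265 F26072) (tt N22601 D34045) (tt N5264 (iv7 D16492)))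
theorem Q11065 : ∀ i, i < 11065 → P i := stepQ 11064 Q11064 (allL N11064 (tt N19695 F48167) (tt N18903 (iv0 F46625)) (tt N11065 (iv2 F26076)) (tt N5268 F26075) (tt N22602 D34046) (tt N5266 (iv5 D16493)) (tt N22603 D34047) (tt N11071 (iv7 F26091)))
theorem Q11066 : ∀ i, i < 11066 → P i := stepQ 11065 Q11065 (allL N11065 (tt N19384 F47505) (tt N20007 (iv0 F48720)) (tt N11064 F26076) (tt N14941 (iv3 F37476)) (tt N22604 D34048) (tt N5267 (iv5 D16494)) (tt N22605 D34049) (tt N15067 (iv7 F37792)))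
theorem Q11067 : ∀ i, i < 11067 → P i := stepQ 11066 Q11066 (allL N11066 (tt N7957 (iv1 F26080)) (tt N15866 F39213) (tt N9850 F26077) (tt N14942 (iv3 F37479)) (tt N5269 F26078) (tt N14939 F37471) (tt N5267 (iv6 D16495)) (tt N9838 (iv7 F26079)))
theorem Q11068 : ∀ i, i < 11068 → P i := stepQ 11067 Q11067 (allL N11067 (tt N22606 D34050) (tt N22607 D34051) (tt N22591 (iv2 F53387)) (tt N22608 D34052) (tt N5268 (iv4 D16496)) (tt N22608 (iv5 F78995)) (tt N22609 D34054) (tt N22592 (iv7 F53391)))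
theorem Q11069 : ∀ i, i < 11069 → P i := stepQ 11068 Q11068 (allL N11068 (tt N22610 D34055) (tt N22611 D34056) (tt N9853 F26081) (tt N22603 (iv3 F53424)) (tt N22609 (iv4 F53432)) (tt N9738 F26082) (tt N5268 (iv6 D16497)) (tt N22612 D34057))
theorem Q11070 : ∀ i, i < 11070 → P i := stepQ 11069 Q11069 (allL N11069 (tt N22613 D34058) (tt N18685 (iv0 F46401)) (tt N7348 F26083) (tt N5272 F26084) (tt N22614 D34059) (tt N5270 (iv5 D16498)) (tt N22615 D34060) (tt N7345 F26085))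
theorem Q11071 : ∀ i, i < 11071 → P i := stepQ 11070 Q11070 (allL N11070 (tt N18049 (iv1 F45211)) (tt N7539 F39325) (tt N7349 F26086) (tt N5273 F26087) (tt N7349 F26088) (tt N18977 (iv5 F46713)) (tt N5270 (iv6 D16499)) (tt N15931 (iv7 F39319)))
theorem Q11072 : ∀ i, i < 11072 → P i := stepQ 11071 Q11071 (allL N11071 (tt N20007 F48721) (tt N19384 F47506) (tt N15067 (iv2 F37790)) (tt N11060 F26090) (tt N22616 D34061) (tt N5271 (iv5 D16500)) (tt N22617 D34062) (tt N11064 F26091))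
theorem Q11073 : ∀ i, i < 11073 → P i := stepQ 11072 Q11072 (allL N11072 (tt N19781 (iv1 F48295)) (tt N14689 F36883) (tt N15068 (iv2 F37793)) (tt N7795 F26092) (tt N5273 F26093) (tt N19340 (iv5 F47364)) (tt N5271 (iv6 D16501)) (tt N15932 (iv7 F39327)))
theorem Q11074 : ∀ i, i < 11074 → P i := stepQ 11073 Q11073 (allL N11073 (tt N22607 (iv1 F53430)) (tt N22606 F53429) (tt N22592 (iv2 F53390)) (tt N22618 D34063) (tt N5272 (iv4 D16502)) (tt N22619 D34064) (tt N22620 D34065) (tt N22591 (iv7 F53389)))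
theorem Q11075 : ∀ i, i < 11075 → P i := stepQ 11074 Q11074 (allL N11074 (tt N22621 D34066) (tt N22622 D34067) (tt N22593 (iv2 F53392)) (tt N22615 (iv3 F53457)) (tt N22620 (iv4 F53461)) (tt N18979 (iv5 F46719)) (tt N5272 (iv6 D16503)) (tt N22623 D34068))
theorem Q11076 : ∀ i, i < 11076 → P i := stepQ 11075 Q11075 (allL N11075 (tt N15816 (iv1 F39094)) (tt N7930 (iv0 F26096)) (tt N15814 F39087) (tt N5274 (iv3 D16504)) (tt N22624 D34069) (tt N9779 F26094) (tt N22625 D34070) (tt N9778 F26095))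
theorem Q11077 : ∀ i, i < 11077 → P i := stepQ 11076 Q11076 (allL N11076 (tt N22626 D34071) (tt N22627 D34072) (tt N22594 (iv2 F53395)) (tt N20048 (iv3 F96862)) (tt N5274 (iv4 D16505)) (tt N20047 (iv5 F96861)) (tt N22628 D34075) (tt N9804 F26097))
theorem Q11078 : ∀ i, i < 11078 → P i := stepQ 11077 Q11077 (allL N11077 (tt N22629 D34076) (tt N22630 D34077) (tt N22595 (iv2 F53399)) (tt N22625 (iv3 F53476)) (tt N22628 (iv4 F53488)) (tt N15543 (iv5 F38624)) (tt N5274 (iv6 D16506)) (tt N22631 D34078))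
theorem Q11079 : ∀ i, i < 11079 → P i := stepQ 11078 Q11078 (allL N11078 (tt N7273 (iv1 F26100)) (tt N7353 F26101) (tt N7351 F26098) (tt N5275 (iv3 D16507)) (tt N18022 (iv4 F45128)) (tt N9724 F26099) (tt N22632 D34079) (tt N7350 (iv7 F37496)))
theorem Q11080 : ∀ i, i < 11080 → P i := stepQ 11079 Q11079 (allL N11079 (tt N22627 (iv1 F53481)) (tt N22626 F53478) (tt N9804 F26102) (tt N22633 D34080) (tt N5275 (iv4 D16508)) (tt N22634 D34081) (tt N22635 D34082) (tt N22594 (iv7 F53396)))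
theorem Q11081 : ∀ i, i < 11081 → P i := stepQ 11080 Q11080 (allL N11080 (tt N22636 D34083) (tt N22637 D34084) (tt N9801 F26103) (tt N22632 (iv3 F53492)) (tt N22635 (iv4 F53496)) (tt N9727 F26104) (tt N5275 (iv6 D16509)) (tt N22638 D34085))
theorem Q11082 : ∀ i, i < 11082 → P i := stepQ 11081 Q11081 (allL N11081 (tt N22600 (iv1 F53416)) (tt N5276 (iv0 D16510)) (tt N22596 F53403) (tt N22639 D34086) (tt N16139 (iv4 F45716)) (tt N22640 D34087) (tt N22641 D34088) (tt N22597 (iv7 F53407)))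
theorem Q11083 : ∀ i, i < 11083 → P i := stepQ 11082 Q11082 (allL N11082 (tt N5276 (iv1 D16511)) (tt N22600 F53415) (tt N22597 F53409) (tt N22642 D34089) (tt N16140 (iv4 F39983)) (tt N22643 D34090) (tt N22644 D34091) (tt N22596 F53404))
theorem Q11084 : ∀ i, i < 11084 → P i := stepQ 11083 Q11083 (allL N11083 (tt N22645 D34092) (tt N22646 D34093) (tt N22647 D34094) (tt N5276 (iv3 D16512)) (tt N5295 F26105) (tt N22648 D34095) (tt N8142 F26106) (tt N22649 D34096))
theorem Q11085 : ∀ i, i < 11085 → P i := stepQ 11084 Q11084 (allL N11084 (tt N22650 D34097) (tt N22651 D34098) (tt N22599 (iv2 F53412)) (tt N22648 (iv3 F53507)) (tt N22652 D34099) (tt N5276 (iv5 D16513)) (tt N22653 D34100) (tt N22654 D34101))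
theorem Q11086 : ∀ i, i < 11086 → P i := stepQ 11085 Q11085 (allL N11085 (tt N22597 (iv1 F53406)) (tt N22596 F53405) (tt N22600 (iv2 F53413)) (tt N22649 (iv3 F53508)) (tt N5277 F26107) (tt N22654 (iv5 F53511)) (tt N22655 D34102) (tt N5276 (iv7 D16514)))
theorem Q11087 : ∀ i, i < 11087 → P i := stepQ 11086 Q11086 (allL N11086 (tt N22656 D34103) (tt N22657 D34104) (tt N22601 (iv2 F53417)) (tt N5298 F26108) (tt N22655 (iv4 F53512)) (tt N11086 F26109) (tt N5277 (iv6 D16515)) (tt N8145 F26110))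
theorem Q11088 : ∀ i, i < 11088 → P i := stepQ 11087 Q11087 (allL N11087 (tt N22658 D34105) (tt N22659 D34106) (tt N15351 (iv2 F38299)) (tt N22660 D34107) (tt N5278 (iv4 D16516)) (tt N22661 D34108) (tt N22662 D34109) (tt N9889 F26111))
theorem Q11089 : ∀ i, i < 11089 → P i := stepQ 11088 Q11088 (allL N11088 (tt N22663 D34110) (tt N22664 D34111) (tt N15352 (iv2 F38300)) (tt N5281 F26112) (tt N22662 (iv4 F53525)) (tt N8181 F26113) (tt N5278 (iv6 D16517)) (tt N22665 D34112))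
theorem Q11090 : ∀ i, i < 11090 → P i := stepQ 11089 Q11089 (allL N11089 (tt N5280 (iv1 D16518)) (tt N5285 F26114) (tt N9881 (iv2 F26117)) (tt N22666 D34113) (tt N7482 F26116) (tt N17979 F309323) (tt N10016 (iv6 F47795)) (tt N9441 F26115))
theorem Q11091 : ∀ i, i < 11091 → P i := stepQ 11090 Q11090 (allL N11090 (tt N22667 D34114) (tt N22668 D34115) (tt N22669 D34116) (tt N5280 (iv3 D16519)) (tt N22660 (iv4 F53520)) (tt N22670 D34117) (tt N21877 (iv6 F310580)) (tt N9891 F26118))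
theorem Q11092 : ∀ i, i < 11092 → P i := stepQ 11091 Q11091 (allL N11091 (tt N7504 F26122) (tt N7492 F26123) (tt N9883 F26119) (tt N22670 (iv3 F53538)) (tt N5326 F26121) (tt N5280 (iv5 D16520)) (tt N11686 (iv6 F308387)) (tt N9892 F26120))
theorem Q11093 : ∀ i, i < 11093 → P i := stepQ 11092 Q11092 (allL N11092 (tt N9887 (iv1 F26132)) (tt N5281 (iv0 D16522)) (tt N9885 F48955) (tt N22671 D34124) (tt N8396 F313732) (tt N11093 F26128) (tt N8157 F26126) (tt N9886 F48956))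
theorem Q11094 : ∀ i, i < 11094 → P i := stepQ 11093 Q11093 (allL N11093 (tt N5281 (iv1 D16523)) (tt N9887 F26127) (tt N9886 F48957) (tt N22611 F111228) (tt N10848 F313733) (tt N11092 (iv5 F26128)) (tt N20773 (iv6 F49587)) (tt N9885 F48958))
theorem Q11095 : ∀ i, i < 11095 → P i := stepQ 11094 Q11094 (allL N11094 (tt N9886 (iv1 F26133)) (tt N9885 F26135) (tt N9887 F26129) (tt N22665 (iv3 F53527)) (tt N17052 F315099) (tt N8187 F26130) (tt N9895 F26131) (tt N5281 (iv7 D16524)))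
theorem Q11096 : ∀ i, i < 11096 → P i := stepQ 11095 Q11095 (allL N11095 (tt N18730 (iv1 F46442)) (tt N19675 (iv0 F48135)) (tt N15730 (iv2 F38917)) (tt N7303 F26136) (tt N22672 D34128) (tt N5282 (iv5 D16525)) (tt N22673 D34129) (tt N9389 F26137))
theorem Q11097 : ∀ i, i < 11097 → P i := stepQ 11096 Q11096 (allL N11096 (tt N15749 F46509) (tt N15736 F38946) (tt N15731 (iv2 F38919)) (tt N7304 F26138) (tt N5284 F26139) (tt N22674 D34130) (tt N5282 (iv6 D16526)) (tt N15632 (iv7 F38725)))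
theorem Q11098 : ∀ i, i < 11098 → P i := stepQ 11097 Q11097 (allL N11097 (tt N7738 (iv1 F26142)) (tt N5283 (iv0 D16527)) (tt N9877 (iv2 F26141)) (tt N9497 (iv3 F26144)) (tt N22675 D34131) (tt N10007 F26140) (tt N15882 (iv6 F39241)) (tt N9876 F26143))
theorem Q11099 : ∀ i, i < 11099 → P i := stepQ 11098 Q11098 (allL N11098 (tt N22676 D34132) (tt N22677 D34133) (tt N15817 (iv2 F39095)) (tt N22678 D34134) (tt N5283 (iv4 D16528)) (tt N22679 D34135) (tt N22680 D34136) (tt N9878 F26145))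
theorem Q11100 : ∀ i, i < 11100 → P i := stepQ 11099 Q11099 (allL N11099 (tt N22681 D34137) (tt N9935 (iv0 F26147)) (tt N15818 (iv2 F39097)) (tt N5286 F26146) (tt N22680 (iv4 F53591)) (tt N18941 (iv5 F46678)) (tt N5283 (iv6 D16529)) (tt N22682 D34138))
theorem Q11101 : ∀ i, i < 11101 → P i := stepQ 11100 Q11100 (allL N11100 (tt N22683 D34139) (tt N22684 D34140) (tt N22685 D34141) (tt N5285 (iv3 D16530)) (tt N22678 (iv4 F53588)) (tt N21984 F308943) (tt N22686 D34143) (tt N9882 F26148))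
theorem Q11102 : ∀ i, i < 11102 → P i := stepQ 11101 Q11101 (allL N11101 (tt N7492 F26152) (tt N7504 F26153) (tt N9892 F26149) (tt N21984 (iv3 F307094)) (tt N5325 F26150) (tt N5285 (iv5 D16531)) (tt N21982 F305334) (tt N9883 F26151))
theorem Q11103 : ∀ i, i < 11103 → P i := stepQ 11102 Q11102 (allL N11102 (tt N20875 (iv1 F49763)) (tt N9966 (iv0 F26156)) (tt N9893 F26154) (tt N22686 (iv3 F53611)) (tt N5286 F26155) (tt N22687 D34145) (tt N5285 (iv6 D16532)) (tt N20873 (iv7 F49743)))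
theorem Q11104 : ∀ i, i < 11104 → P i := stepQ 11103 Q11103 (allL N11103 (tt N9895 (iv1 F26161)) (tt N5286 (iv0 D16533)) (tt N9894 (iv2 F26159)) (tt N22621 F53463) (tt N22688 D34146) (tt N9607 F26158) (tt N9957 F26157) (tt N8154 F26160))
theorem Q11105 : ∀ i, i < 11105 → P i := stepQ 11104 Q11104 (allL N11104 (tt N8154 (iv1 F26164)) (tt N9894 F26165) (tt N9895 F26162) (tt N22682 (iv3 F53599)) (tt N20873 F49745) (tt N18946 (iv5 F46683)) (tt N9887 F26163) (tt N5286 (iv7 D16534)))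
theorem Q11106 : ∀ i, i < 11106 → P i := stepQ 11105 Q11105 (allL N11105 (tt N22689 D34147) (tt N9639 (iv0 F26167)) (tt N15353 (iv2 F38301)) (tt N22690 D34148) (tt N5287 (iv4 D16535)) (tt N22691 D34149) (tt N22692 D34150) (tt N9904 F26166))
theorem Q11107 : ∀ i, i < 11107 → P i := stepQ 11106 Q11106 (allL N11106 (tt N22693 D34151) (tt N22694 D34152) (tt N15354 (iv2 F38302)) (tt N5289 F26168) (tt N22692 (iv4 F53636)) (tt N15417 (iv5 F38448)) (tt N5287 (iv6 D16536)) (tt N22695 D34153))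
theorem Q11108 : ∀ i, i < 11108 → P i := stepQ 11107 Q11107 (allL N11107 (tt N22696 D34154) (tt N22697 D34155) (tt N22698 D34156) (tt N5288 (iv3 D16537)) (tt N22690 (iv4 F53632)) (tt N22699 D34157) (tt N22700 D34158) (tt N9906 F26169))
theorem Q11109 : ∀ i, i < 11109 → P i := stepQ 11108 Q11108 (allL N11108 (tt N8850 (iv1 F311264)) (tt N12487 F310501) (tt N9899 F26170) (tt N22699 (iv3 F53646)) (tt N5318 F26172) (tt N5288 (iv5 D16538)) (tt N22701 D34159) (tt N9907 F26171))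
theorem Q11110 : ∀ i, i < 11110 → P i := stepQ 11109 Q11109 (allL N11109 (tt N22702 D34160) (tt N22703 D34161) (tt N9900 F26173) (tt N22700 (iv3 F53648)) (tt N5289 F26174) (tt N22704 D34162) (tt N5288 (iv6 D16539)) (tt N10713 (iv7 F312699)))
theorem Q11111 : ∀ i, i < 11111 → P i := stepQ 11110 Q11110 (allL N11110 (tt N9903 F26176) (tt N5289 (iv0 D16540)) (tt N9901 F49015) (tt N22705 D34164) (tt N21910 (iv4 F316083)) (tt N22706 D34166) (tt N8186 F26175) (tt N9902 F49016))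
theorem Q11112 : ∀ i, i < 11112 → P i := stepQ 11111 Q11111 (allL N11111 (tt N5289 (iv1 D16541)) (tt N9903 F26177) (tt N9902 F49017) (tt N22630 F161256) (tt N21909 (iv4 F316088)) (tt N16030 (iv5 F39630)) (tt N22707 D34169) (tt N9901 F49018))
theorem Q11113 : ∀ i, i < 11113 → P i := stepQ 11112 Q11112 (allL N11112 (tt N9902 (iv1 F26181)) (tt N9901 (iv0 F26182)) (tt N9903 F26178) (tt N22695 (iv3 F53637)) (tt N10713 F315175) (tt N7820 F26179) (tt N9910 F26180) (tt N5289 (iv7 D16542)))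
theorem Q11114 : ∀ i, i < 11114 → P i := stepQ 11113 Q11113 (allL N11113 (tt N22708 D34170) (tt N22709 D34171) (tt N15821 (iv2 F39110)) (tt N22710 D34172) (tt N5290 (iv4 D16543)) (tt N22711 D34173) (tt N22712 D34174) (tt N9896 F26183))
theorem Q11115 : ∀ i, i < 11115 → P i := stepQ 11114 Q11114 (allL N11114 (tt N22713 D34175) (tt N22714 D34176) (tt N15822 (iv2 F39113)) (tt N5292 F26184) (tt N22712 (iv4 F53736)) (tt N8149 F26185) (tt N5290 (iv6 D16544)) (tt N22715 D34177))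
theorem Q11116 : ∀ i, i < 11116 → P i := stepQ 11115 Q11115 (allL N11115 (tt N22716 D34178) (tt N22717 D34179) (tt N22718 D34180) (tt N5291 (iv3 D16545)) (tt N22710 (iv4 F53732)) (tt N22719 D34181) (tt N10711 (iv6 F312701)) (tt N9898 F26186))
theorem Q11117 : ∀ i, i < 11117 → P i := stepQ 11116 Q11116 (allL N11116 (tt N12487 F310502) (tt N8850 (iv0 F311263)) (tt N9907 F26187) (tt N22719 (iv3 F53746)) (tt N5316 F26188) (tt N5291 (iv5 D16546)) (tt N8298 (iv6 F310758)) (tt N9899 F26189))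
theorem Q11118 : ∀ i, i < 11118 → P i := stepQ 11117 Q11117 (allL N11117 (tt N9910 (iv1 F26200)) (tt N5292 (iv0 D16548)) (tt N9908 F49062) (tt N22636 (iv3 F101989)) (tt N11164 F313669) (tt N9908 (iv5 F26202)) (tt N22720 D34189) (tt N9909 F49063))
theorem Q11119 : ∀ i, i < 11119 → P i := stepQ 11118 Q11118 (allL N11118 (tt N5292 (iv1 D16549)) (tt N9910 F26192) (tt N9909 F49060) (tt N22721 D34190) (tt N9064 F315181) (tt N9909 (iv5 F26194)) (tt N8175 (iv6 F26196)) (tt N9908 F49061))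
theorem Q11120 : ∀ i, i < 11120 → P i := stepQ 11119 Q11119 (allL N11119 (tt N9909 (iv1 F26201)) (tt N9908 (iv0 F26203)) (tt N9910 F26197) (tt N22715 (iv3 F53737)) (tt N8350 F315182) (tt N8159 F26198) (tt N9903 F26199) (tt N5292 (iv7 D16550)))
theorem Q11121 : ∀ i, i < 11121 → P i := stepQ 11120 Q11120 (allL N11120 (tt N22722 D34192) (tt N22723 D34193) (tt N22724 D34194) (tt N5293 (iv3 D16551)) (tt N22725 D34195) (tt N22726 D34196) (tt N22727 D34197) (tt N9914 F26204))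
theorem Q11122 : ∀ i, i < 11122 → P i := stepQ 11121 Q11121 (allL N11121 (tt N19012 (iv1 F46771)) (tt N19000 (iv0 F46748)) (tt N9912 F26205) (tt N22726 (iv3 F53816)) (tt N5313 F26207) (tt N5293 (iv5 D16552)) (tt N22728 D34198) (tt N9915 F26206))
theorem Q11123 : ∀ i, i < 11123 → P i := stepQ 11122 Q11122 (allL N11122 (tt N21910 (iv1 F316081)) (tt N21909 (iv0 F316086)) (tt N9913 F26208) (tt N22727 (iv3 F53818)) (tt N7434 F26209) (tt N22729 D34199) (tt N5293 (iv6 D16553)) (tt N17064 (iv7 F316092)))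
theorem Q11124 : ∀ i, i < 11124 → P i := stepQ 11123 Q11123 (allL N11123 (tt N22730 D34201) (tt N17951 F313577) (tt N22055 (iv2 F314305)) (tt N5294 (iv3 D16554)) (tt N22731 D34204) (tt N17067 F313578) (tt N17062 (iv6 F315209)) (tt N9911 F26210))
theorem Q11125 : ∀ i, i < 11125 → P i := stepQ 11124 Q11124 (allL N11124 (tt N19000 (iv1 F46749)) (tt N19012 (iv0 F46770)) (tt N9915 F26211) (tt N17067 (iv3 F312227)) (tt N5311 F26212) (tt N5294 (iv5 D16555)) (tt N5664 F309987) (tt N9912 F26213))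
theorem Q11126 : ∀ i, i < 11126 → P i := stepQ 11125 Q11125 (allL N11125 (tt N22732 D34210) (tt N5295 (iv0 D16557)) (tt N22733 D34211) (tt N6003 (iv3 F316043)) (tt N22734 D34213) (tt N5993 F313597) (tt N22735 D34215) (tt N5992 F313598))
theorem Q11127 : ∀ i, i < 11127 → P i := stepQ 11126 Q11126 (allL N11126 (tt N5295 (iv1 D16558)) (tt N22732 F53849) (tt N5992 F313599) (tt N17917 (iv3 F314328)) (tt N22736 D34218) (tt N5989 F313600) (tt N17149 (iv6 F316080)) (tt N22733 F53850))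
theorem Q11128 : ∀ i, i < 11128 → P i := stepQ 11127 Q11127 (allL N11127 (tt N22733 (iv1 F246634)) (tt N5992 F313592) (tt N5295 (iv2 D16559)) (tt N9918 F26216) (tt N22647 (iv4 F53505)) (tt N22737 D34223) (tt N8196 F26217) (tt N22732 (iv7 F53848)))
theorem Q11129 : ∀ i, i < 11129 → P i := stepQ 11128 Q11128 (allL N11128 (tt N22738 D34224) (tt N22739 D34225) (tt N22737 (iv2 F53854)) (tt N5296 F26218) (tt N22740 D34226) (tt N5295 (iv5 D16560)) (tt N22741 D34227) (tt N17349 (iv7 F42835)))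
theorem Q11130 : ∀ i, i < 11130 → P i := stepQ 11129 Q11129 (allL N11129 (tt N5992 (iv1 F311322)) (tt N22733 (iv0 F246633)) (tt N22732 F53846) (tt N5297 F26219) (tt N22649 (iv4 F53509)) (tt N17349 (iv5 F42834)) (tt N22742 D34228) (tt N5295 (iv7 D16561)))
theorem Q11131 : ∀ i, i < 11131 → P i := stepQ 11130 Q11130 (allL N11130 (tt N5327 (iv1 F26222)) (tt N5296 (iv0 D16562)) (tt N9921 (iv2 F26223)) (tt N18883 (iv3 F46600)) (tt N5309 F26221) (tt N5301 F26220) (tt N10995 (iv6 F307202)) (tt N9552 (iv7 F26544)))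
theorem Q11132 : ∀ i, i < 11132 → P i := stepQ 11131 Q11131 (allL N11131 (tt N5296 (iv1 D16563)) (tt N5327 F26225) (tt N9552 (iv2 F26542)) (tt N22743 D34230) (tt N5304 F26228) (tt N5307 F26227) (tt N22744 D34231) (tt N9921 F26226))
theorem Q11133 : ∀ i, i < 11133 → P i := stepQ 11132 Q11132 (allL N11132 (tt N22745 D34232) (tt N22746 D34233) (tt N9922 F26230) (tt N22741 (iv3 F53856)) (tt N17353 (iv4 F42844)) (tt N8201 F26231) (tt N5296 (iv6 D16564)) (tt N22747 D34234))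
theorem Q11134 : ∀ i, i < 11134 → P i := stepQ 11133 Q11133 (allL N11133 (tt N10127 (iv1 F26235)) (tt N10126 F26236) (tt N9923 F26232) (tt N22742 (iv3 F53858)) (tt N5298 F26233) (tt N22748 D34235) (tt N5297 (iv6 D16565)) (tt N8202 F26234))
theorem Q11135 : ∀ i, i < 11135 → P i := stepQ 11134 Q11134 (allL N11134 (tt N22749 D34236) (tt N22750 D34237) (tt N15767 (iv2 F39025)) (tt N22751 D34238) (tt N5299 (iv4 D16566)) (tt N22752 D34239) (tt N22753 D34240) (tt N15302 (iv7 F38200)))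
theorem Q11136 : ∀ i, i < 11136 → P i := stepQ 11135 Q11135 (allL N11135 (tt N22754 D34241) (tt N22755 D34242) (tt N15768 (iv2 F39026)) (tt N5302 F26237) (tt N22753 (iv4 F53883)) (tt N9041 F26238) (tt N5299 (iv6 D16567)) (tt N22756 D34243))
theorem Q11137 : ∀ i, i < 11137 → P i := stepQ 11136 Q11136 (allL N11136 (tt N22757 D34244) (tt N22758 D34245) (tt N22759 D34246) (tt N5301 (iv3 D16568)) (tt N22751 (iv4 F53881)) (tt N18883 F46601) (tt N22760 D34247) (tt N15304 (iv7 F38203)))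
theorem Q11138 : ∀ i, i < 11138 → P i := stepQ 11137 Q11137 (allL N11137 (tt N8396 (iv1 F311331)) (tt N10848 (iv0 F311332)) (tt N10847 (iv2 F311254)) (tt N22760 (iv3 F53888)) (tt N5302 F26239) (tt N10996 (iv5 F311333)) (tt N5301 (iv6 D16569)) (tt N10846 (iv7 F311303)))
theorem Q11139 : ∀ i, i < 11139 → P i := stepQ 11138 Q11138 (allL N11138 (tt N15300 (iv1 F38190)) (tt N5302 (iv0 D16570)) (tt N10187 F49818) (tt N22761 D34250) (tt N8345 (iv4 F313994)) (tt N11139 F26241) (tt N8209 F26240) (tt N15299 F49819))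
theorem Q11140 : ∀ i, i < 11140 → P i := stepQ 11139 Q11139 (allL N11139 (tt N5302 (iv1 D16571)) (tt N15300 F38189) (tt N15299 F49820) (tt N22762 D34251) (tt N10707 (iv4 F313996)) (tt N11138 (iv5 F26241)) (tt N22763 D34252) (tt N10187 F49821))
theorem Q11141 : ∀ i, i < 11141 → P i := stepQ 11140 Q11140 (allL N11140 (tt N15299 (iv1 F38183)) (tt N10187 F38188) (tt N15300 (iv2 F38185)) (tt N22756 (iv3 F53885)) (tt N10846 F313677) (tt N9044 F26242) (tt N10180 F26243) (tt N5302 (iv7 D16572)))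
theorem Q11142 : ∀ i, i < 11142 → P i := stepQ 11141 Q11141 (allL N11141 (tt N18510 (iv1 F54053)) (tt N14836 (iv0 F54048)) (tt N18509 (iv2 F54062)) (tt N5303 (iv3 D16573)) (tt N9336 F26244) (tt N8848 (iv5 F310458)) (tt N11806 (iv6 F28411)) (tt N9547 F26245))
theorem Q11143 : ∀ i, i < 11143 → P i := stepQ 11142 Q11142 (allL N11142 (tt N13852 (iv1 F302910)) (tt N22764 D34255) (tt N9553 (iv2 F26912)) (tt N19085 (iv3 F46916)) (tt N22744 (iv4 F53865)) (tt N17031 (iv5 F41978)) (tt N5304 (iv6 D16579)) (tt N22765 D34256))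
theorem Q11144 : ∀ i, i < 11144 → P i := stepQ 11143 Q11143 (allL N11143 (tt N7900 (iv1 F27059)) (tt N5305 (iv0 D16583)) (tt N15160 (iv2 F37938)) (tt N19668 (iv3 F48119)) (tt N19387 (iv4 F47513)) (tt N7642 F27058) (tt N18161 (iv6 F45398)) (tt N14987 (iv7 F37574)))
theorem Q11145 : ∀ i, i < 11145 → P i := stepQ 11144 Q11144 (allL N11144 (tt N18904 (iv1 F46627)) (tt N18901 (iv0 F46620)) (tt N16143 (iv2 F39988)) (tt N22766 D34257) (tt N5305 (iv4 D16584)) (tt N22767 D34258) (tt N22768 D34259) (tt N15296 (iv7 F38177)))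
theorem Q11146 : ∀ i, i < 11146 → P i := stepQ 11145 Q11145 (allL N11145 (tt N22769 D34260) (tt N10150 (iv0 F27061)) (tt N16144 (iv2 F39990)) (tt N5308 F27060) (tt N22768 (iv4 F53917)) (tt N18742 (iv5 F46455)) (tt N5305 (iv6 D16585)) (tt N22770 D34261))
theorem Q11147 : ∀ i, i < 11147 → P i := stepQ 11146 Q11146 (allL N11146 (tt N22771 D34262) (tt N12445 (iv0 F311243)) (tt N22772 D34264) (tt N5307 (iv3 D16586)) (tt N22766 (iv4 F53914)) (tt N22743 (iv5 F53862)) (tt N22773 D34265) (tt N15298 (iv7 F38180)))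
theorem Q11148 : ∀ i, i < 11148 → P i := stepQ 11147 Q11147 (allL N11147 (tt N22688 (iv1 F53618)) (tt N9960 (iv0 F27063)) (tt N15305 (iv2 F38204)) (tt N22773 (iv3 F53928)) (tt N5308 F27062) (tt N22774 D34266) (tt N5307 (iv6 D16587)) (tt N22775 D34267))
theorem Q11149 : ∀ i, i < 11149 → P i := stepQ 11148 Q11148 (allL N11148 (tt N10180 (iv1 F27068)) (tt N5308 (iv0 D16588)) (tt N10181 (iv2 F27066)) (tt N22776 D34268) (tt N20231 (iv4 F49755)) (tt N9257 F27065) (tt N10174 F27064) (tt N8206 F27067))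
theorem Q11150 : ∀ i, i < 11150 → P i := stepQ 11149 Q11149 (allL N11149 (tt N8206 (iv1 F27070)) (tt N10181 F27071) (tt N10180 F27069) (tt N22770 (iv3 F53925)) (tt N22775 (iv4 F53930)) (tt N18748 (iv5 F46461)) (tt N15300 (iv6 F38187)) (tt N5308 (iv7 D16589)))
theorem Q11151 : ∀ i, i < 11151 → P i := stepQ 11150 Q11150 (allL N11150 (tt N22777 D34269) (tt N22778 D34270) (tt N15336 (iv2 F38260)) (tt N9563 F27072) (tt N10995 (iv4 F307201)) (tt N17329 (iv5 F42801)) (tt N5309 (iv6 D16590)) (tt N22779 D34271))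
theorem Q11152 : ∀ i, i < 11152 → P i := stepQ 11151 Q11151 (allL N11151 (tt N9487 (iv1 F27073)) (tt N5310 (iv0 D16591)) (tt N10222 F50480) (tt N22780 D34272) (tt N22781 D34273) (tt N19083 F50432) (tt N8234 F50433) (tt N8317 F50434))
theorem Q11153 : ∀ i, i < 11153 → P i := stepQ 11152 Q11152 (allL N11152 (tt N9372 F50439) (tt N9367 F50440) (tt N18962 (iv2 F46696)) (tt N5311 F27075) (tt N22782 D34274) (tt N5310 (iv5 D16593)) (tt N21715 F311351) (tt N10248 F27076))
theorem Q11154 : ∀ i, i < 11154 → P i := stepQ 11153 Q11153 (allL N11153 (tt N22687 F309981) (tt N18610 (iv0 F306995)) (tt N10250 F27079) (tt N18961 (iv3 F46694)) (tt N22728 (iv4 F53820)) (tt N22783 D34281) (tt N5313 (iv6 D16595)) (tt N21714 (iv7 F306041)))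
theorem Q11155 : ∀ i, i < 11155 → P i := stepQ 11154 Q11154 (allL N11154 (tt N8350 F27083) (tt N8348 F27084) (tt N10243 F27080) (tt N9170 F27081) (tt N15222 (iv4 F314552)) (tt N5314 (iv5 D16596)) (tt N22783 (iv6 F54381)) (tt N8218 F27082))
theorem Q11156 : ∀ i, i < 11156 → P i := stepQ 11155 Q11155 (allL N11155 (tt N11479 (iv1 F50505)) (tt N5315 (iv0 D16597)) (tt N11481 F50502) (tt N20951 (iv3 F50489)) (tt N22784 D34284) (tt N22785 D34285) (tt N11471 F50503) (tt N8610 F50504))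
theorem Q11157 : ∀ i, i < 11157 → P i := stepQ 11156 Q11156 (allL N11156 (tt N11481 (iv1 F50541)) (tt N8610 (iv0 F50542)) (tt N5315 (iv2 D16599)) (tt N9521 F27085) (tt N22786 D34286) (tt N22787 D34287) (tt N14811 (iv6 F37168)) (tt N11479 (iv7 F50508)))
theorem Q11158 : ∀ i, i < 11158 → P i := stepQ 11157 Q11157 (allL N11157 (tt N22788 D34288) (tt N11419 (iv0 F27761)) (tt N22786 (iv2 F54395)) (tt N7319 F27086) (tt N5315 (iv4 D16600)) (tt N22789 D34289) (tt N14808 (iv6 F37163)) (tt N14967 (iv7 F37546)))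
theorem Q11159 : ∀ i, i < 11159 → P i := stepQ 11158 Q11158 (allL N11158 (tt N22790 D34290) (tt N22791 D34291) (tt N22787 (iv2 F54398)) (tt N5316 F27087) (tt N22792 D34292) (tt N5315 (iv5 D16601)) (tt N22793 D34293) (tt N15234 (iv7 F38086)))
theorem Q11160 : ∀ i, i < 11160 → P i := stepQ 11159 Q11159 (allL N11159 (tt N5665 (iv1 F309632)) (tt N17458 F308646) (tt N10448 F27088) (tt N22793 (iv3 F54413)) (tt N8298 (iv4 F310757)) (tt N8288 F27089) (tt N5316 (iv6 D16602)) (tt N10618 (iv7 F309628)))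
theorem Q11161 : ∀ i, i < 11161 → P i := stepQ 11160 Q11160 (allL N11160 (tt N11771 (iv1 F54426)) (tt N22794 D34298) (tt N18967 (iv2 F46700)) (tt N7323 F27090) (tt N5317 (iv4 D16603)) (tt N22795 D34299) (tt N22796 D34300) (tt N14970 (iv7 F37552)))
theorem Q11162 : ∀ i, i < 11162 → P i := stepQ 11161 Q11161 (allL N11161 (tt N9341 (iv1 F46799)) (tt N19451 F47699) (tt N18968 (iv2 F46701)) (tt N5318 F27091) (tt N22797 D34301) (tt N5317 (iv5 D16604)) (tt N22798 D34302) (tt N15233 (iv7 F38077)))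
theorem Q11163 : ∀ i, i < 11163 → P i := stepQ 11162 Q11162 (allL N11162 (tt N22138 F52517) (tt N22142 F52534) (tt N18969 (iv2 F46704)) (tt N5319 F27092) (tt N22796 (iv4 F54429)) (tt N22799 D34303) (tt N5317 (iv6 D16605)) (tt N14807 (iv7 F37161)))
theorem Q11164 : ∀ i, i < 11164 → P i := stepQ 11163 Q11163 (allL N11163 (tt N22800 D34304) (tt N22801 D34305) (tt N15236 (iv2 F38089)) (tt N22798 (iv3 F54431)) (tt N22701 (iv4 F53650)) (tt N22802 D34306) (tt N5318 (iv6 D16606)) (tt N22803 D34307))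
theorem Q11165 : ∀ i, i < 11165 → P i := stepQ 11164 Q11164 (allL N11164 (tt N8356 F27095) (tt N8354 F27096) (tt N10721 F27093) (tt N22799 (iv3 F54433)) (tt N11117 (iv4 F313669)) (tt N5319 (iv5 D16607)) (tt N22802 (iv6 F54438)) (tt N10722 F27094))
theorem Q11166 : ∀ i, i < 11166 → P i := stepQ 11165 Q11165 (allL N11165 (tt N5321 (iv1 F27099)) (tt N5320 (iv0 D16608)) (tt N5324 (iv2 F27097)) (tt N17339 (iv3 F42816)) (tt N15320 (iv4 F38238)) (tt N22180 (iv5 F52637)) (tt N18409 (iv6 F45907)) (tt N5322 F27098))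
theorem Q11167 : ∀ i, i < 11167 → P i := stepQ 11166 Q11166 (allL N11166 (tt N5324 F49986) (tt N5322 F49987) (tt N5320 (iv2 D16609)) (tt N21575 (iv3 F51534)) (tt N9331 F49988) (tt N22804 D34308) (tt N10204 F50819) (tt N5321 (iv7 F27100)))
theorem Q11168 : ∀ i, i < 11168 → P i := stepQ 11167 Q11167 (allL N11167 (tt N22198 (iv1 F52781)) (tt N19011 (iv0 F53971)) (tt N22804 (iv2 F54440)) (tt N12013 (iv3 F309654)) (tt N22805 D34309) (tt N5320 (iv5 D16610)) (tt N12011 F307649) (tt N22806 D34311))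
theorem Q11169 : ∀ i, i < 11169 → P i := stepQ 11168 Q11168 (allL N11168 (tt N10205 F50809) (tt N8212 F50810) (tt N10204 F50817) (tt N19001 (iv3 F46752)) (tt N11204 (iv4 F50814)) (tt N10416 F27101) (tt N5320 (iv6 D16611)) (tt N10203 (iv7 F50820)))
theorem Q11170 : ∀ i, i < 11170 → P i := stepQ 11169 Q11169 (allL N11169 (tt N5322 F49992) (tt N5324 F49993) (tt N5321 F27102) (tt N9490 F49994) (tt N9332 F49995) (tt N22806 (iv5 F54450)) (tt N22807 D34312) (tt N5320 (iv7 D16612)))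
theorem Q11171 : ∀ i, i < 11171 → P i := stepQ 11170 Q11170 (allL N11170 (tt N17010 (iv1 F50490)) (tt N20951 (iv0 F50487)) (tt N19002 (iv2 F46756)) (tt N5321 (iv3 D16613)) (tt N19002 (iv4 F46757)) (tt N22808 D34313) (tt N22809 D34314) (tt N21575 (iv7 F51535)))
theorem Q11172 : ∀ i, i < 11172 → P i := stepQ 11171 Q11171 (allL N11171 (tt N19011 (iv1 F53972)) (tt N22198 (iv0 F52765)) (tt N22806 (iv2 F54448)) (tt N22808 (iv3 F54460)) (tt N22810 D34315) (tt N5321 (iv5 D16614)) (tt N22811 D34316) (tt N22804 (iv7 F54442)))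
theorem Q11173 : ∀ i, i < 11173 → P i := stepQ 11172 Q11172 (allL N11172 (tt N10246 F54104) (tt N22272 (iv0 F52859)) (tt N22807 (iv2 F54453)) (tt N22809 (iv3 F54462)) (tt N19372 (iv4 F47459)) (tt N22812 D34317) (tt N5321 (iv6 D16615)) (tt N22813 D34318))
theorem Q11174 : ∀ i, i < 11174 → P i := stepQ 11173 Q11173 (allL N11173 (tt N10874 (iv1 F50972)) (tt N22182 F52644) (tt N5323 F27109) (tt N17088 (iv3 F42155)) (tt N22814 D34319) (tt N5322 (iv5 D16618)) (tt N22205 (iv6 F52719)) (tt N22180 (iv7 F52638)))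
theorem Q11175 : ∀ i, i < 11175 → P i := stepQ 11174 Q11174 (allL N11174 (tt N5323 (iv1 D16620)) (tt N22180 F52639) (tt N22182 (iv2 F52641)) (tt N22815 D34320) (tt N22816 D34321) (tt N10875 (iv5 F50805)) (tt N22817 D34322) (tt N10874 F50804))
theorem Q11176 : ∀ i, i < 11176 → P i := stepQ 11175 Q11175 (allL N11175 (tt N18525 (iv1 F54221)) (tt N22818 D34323) (tt N22814 (iv2 F54473)) (tt N22819 D34324) (tt N5323 (iv4 D16621)) (tt N22820 D34325) (tt N22821 D34326) (tt N22822 D34327))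
theorem Q11177 : ∀ i, i < 11177 → P i := stepQ 11176 Q11176 (allL N11176 (tt N22823 D34328) (tt N22824 D34329) (tt N22205 (iv2 F52718)) (tt N5328 F27110) (tt N22821 (iv4 F54481)) (tt N5341 F27111) (tt N5323 (iv6 D16622)) (tt N22825 D34330))
theorem Q11178 : ∀ i, i < 11178 → P i := stepQ 11177 Q11177 (allL N11177 (tt N22182 (iv1 F52645)) (tt N10874 (iv0 F51094)) (tt N22180 F52636) (tt N5329 F27112) (tt N22822 (iv4 F54483)) (tt N5324 F27113) (tt N22826 D34331) (tt N5323 (iv7 D16623)))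
theorem Q11179 : ∀ i, i < 11179 → P i := stepQ 11178 Q11178 (allL N11178 (tt N19001 (iv1 F50812)) (tt N20912 (iv0 F49873)) (tt N18409 (iv2 F45906)) (tt N5330 F27114) (tt N10286 F27115) (tt N21225 (iv5 F50367)) (tt N5324 (iv6 D16624)) (tt N5342 F27116))
theorem Q11180 : ∀ i, i < 11180 → P i := stepQ 11179 Q11179 (allL N11179 (tt N22785 F54394) (tt N11480 (iv0 F29904)) (tt N17162 (iv2 F42397)) (tt N5325 (iv3 D16625)) (tt N21981 (iv4 F306013)) (tt N7495 F27117) (tt N21980 F303998) (tt N15231 (iv7 F38073)))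
theorem Q11181 : ∀ i, i < 11181 → P i := stepQ 11180 Q11180 (allL N11180 (tt N22827 D34334) (tt N22828 D34335) (tt N15227 (iv2 F38066)) (tt N21980 F302962) (tt N21982 (iv4 F305256)) (tt N22829 D34336) (tt N5325 (iv6 D16626)) (tt N22830 D34337))
theorem Q11182 : ∀ i, i < 11182 → P i := stepQ 11181 Q11181 (allL N11181 (tt N9522 F27119) (tt N17193 (iv0 F42474)) (tt N17195 (iv2 F42475)) (tt N5326 (iv3 D16627)) (tt N22831 D34338) (tt N7497 F27118) (tt N22832 D34339) (tt N15226 (iv7 F38064)))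
theorem Q11183 : ∀ i, i < 11183 → P i := stepQ 11182 Q11182 (allL N11182 (tt N22833 D34340) (tt N22834 D34341) (tt N15232 (iv2 F38074)) (tt N22832 (iv3 F54495)) (tt N11686 (iv4 F308386)) (tt N17313 (iv5 F42757)) (tt N5326 (iv6 D16628)) (tt N21737 F307318))
theorem Q11184 : ∀ i, i < 11184 → P i := stepQ 11183 Q11183 (allL N11183 (tt N22835 D34343) (tt N22836 D34344) (tt N22837 D34345) (tt N5327 (iv3 D16629)) (tt N22819 (iv4 F54479)) (tt N9920 F27129) (tt N22838 D34346) (tt N9919 F27130))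
theorem Q11185 : ∀ i, i < 11185 → P i := stepQ 11184 Q11184 (allL N11184 (tt N22839 D34347) (tt N10637 (iv0 F309302)) (tt N17350 (iv2 F42836)) (tt N22838 (iv3 F54502)) (tt N5328 F27131) (tt N22840 D34349) (tt N5327 (iv6 D16630)) (tt N22841 D34350))
theorem Q11186 : ∀ i, i < 11186 → P i := stepQ 11185 Q11185 (allL N11185 (tt N17352 (iv1 F42842)) (tt N5328 (iv0 D16631)) (tt N17351 (iv2 F53090)) (tt N22842 D34351) (tt N21702 F309320) (tt N8565 F301124) (tt N22843 D34353) (tt N11014 F53097))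
theorem Q11187 : ∀ i, i < 11187 → P i := stepQ 11186 Q11186 (allL N11186 (tt N5328 (iv1 D16632)) (tt N17352 F42841) (tt N11014 F53096) (tt N22844 D34354) (tt N10689 F309321) (tt N8465 (iv5 F27132)) (tt N10688 F309322) (tt N17351 (iv7 F53091)))
theorem Q11188 : ∀ i, i < 11188 → P i := stepQ 11187 Q11187 (allL N11187 (tt N11014 (iv1 F27134)) (tt N17351 F42840) (tt N17352 (iv2 F42838)) (tt N22825 (iv3 F54485)) (tt N22841 (iv4 F54505)) (tt N5345 F27133) (tt N22845 D34357) (tt N5328 (iv7 D16633)))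
theorem Q11189 : ∀ i, i < 11189 → P i := stepQ 11188 Q11188 (allL N11188 (tt N22846 D34358) (tt N22847 D34359) (tt N17353 (iv2 F42843)) (tt N22826 (iv3 F54488)) (tt N9922 F27135) (tt N21226 (iv5 F50370)) (tt N5329 (iv6 D16634)) (tt N22845 (iv7 F54518)))
theorem Q11190 : ∀ i, i < 11190 → P i := stepQ 11189 Q11189 (allL N11189 (tt N20912 (iv1 F49874)) (tt N19001 (iv0 F50811)) (tt N5342 F27136) (tt N10485 F27137) (tt N10501 F27138) (tt N21254 (iv5 F50661)) (tt N5331 (iv6 D16635)) (tt N18409 (iv7 F45908)))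
theorem Q11191 : ∀ i, i < 11191 → P i := stepQ 11190 Q11190 (allL N11190 (tt N8308 F54085) (tt N10602 F54086) (tt N5335 F27145) (tt N21561 (iv3 F51507)) (tt N11191 F27187) (tt N22848 D34360) (tt N5332 (iv6 D16640)) (tt N10601 F54079))
theorem Q11192 : ∀ i, i < 11192 → P i := stepQ 11191 Q11191 (allL N11191 (tt N10602 F54080) (tt N8308 F54081) (tt N10601 F54083) (tt N5335 F27148) (tt N11190 (iv4 F27187)) (tt N22849 D34361) (tt N5333 (iv6 D16642)) (tt N5335 F51012))
theorem Q11193 : ∀ i, i < 11193 → P i := stepQ 11192 Q11192 (allL N11192 (tt N5487 F27281) (tt N8316 F27282) (tt N10531 F27278) (tt N5334 (iv3 D16644)) (tt N10531 F27279) (tt N17906 (iv5 F44828)) (tt N21684 (iv6 F54090)) (tt N10530 F27280))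
theorem Q11194 : ∀ i, i < 11194 → P i := stepQ 11193 Q11193 (allL N11193 (tt N10601 F54074) (tt N5335 (iv0 D16646)) (tt N8308 F54075) (tt N8542 F54076) (tt N10576 F54077) (tt N21321 F51077) (tt N22272 (iv6 F52857)) (tt N10602 F54078))
theorem Q11195 : ∀ i, i < 11195 → P i := stepQ 11194 Q11194 (allL N11194 (tt N22850 D34362) (tt N11499 (iv0 F54359)) (tt N22848 (iv2 F54519)) (tt N22849 (iv3 F54527)) (tt N7265 F54082) (tt N5335 (iv5 D16648)) (tt N10930 F27285) (tt N22849 (iv7 F54529)))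
theorem Q11196 : ∀ i, i < 11196 → P i := stepQ 11195 Q11195 (allL N11195 (tt N10857 F50737) (tt N10797 F50738) (tt N8819 F50739) (tt N10932 F50740) (tt N18553 F50741) (tt N5339 (iv5 D16655)) (tt N10940 F27290) (tt N10920 F50742))
theorem Q11197 : ∀ i, i < 11197 → P i := stepQ 11196 Q11196 (allL N11196 (tt N17396 (iv1 F43042)) (tt N5340 (iv0 D16657)) (tt N17395 (iv2 F43067)) (tt N13037 F300566) (tt N18508 (iv4 F46096)) (tt N17774 (iv5 F44446)) (tt N22851 D34364) (tt N13027 F300567))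
theorem Q11198 : ∀ i, i < 11198 → P i := stepQ 11197 Q11197 (allL N11197 (tt N5340 (iv1 D16658)) (tt N17396 F43054) (tt N13027 F300568) (tt N22852 D34365) (tt N14835 (iv4 F43055)) (tt N17775 (iv5 F44451)) (tt N12839 F300569) (tt N17395 F43057))
theorem Q11199 : ∀ i, i < 11199 → P i := stepQ 11198 Q11198 (allL N11198 (tt N10944 F43058) (tt N10948 F27291) (tt N22201 (iv2 F52711)) (tt N11526 (iv3 F27975)) (tt N22853 D34367) (tt N5340 (iv5 D16659)) (tt N22854 D34368) (tt N17397 (iv7 F43070)))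
theorem Q11200 : ∀ i, i < 11200 → P i := stepQ 11199 Q11199 (allL N11199 (tt N22855 D34369) (tt N22856 D34370) (tt N22202 (iv2 F52715)) (tt N11527 (iv3 F27977)) (tt N5341 F27292) (tt N22857 D34371) (tt N5340 (iv6 D16660)) (tt N22858 D34372))
theorem Q11201 : ∀ i, i < 11201 → P i := stepQ 11200 Q11200 (allL N11200 (tt N22206 (iv1 F52723)) (tt N5341 (iv0 D16661)) (tt N22203 F155536) (tt N22859 D34374) (tt N22860 D34375) (tt N22861 D34376) (tt N22862 D34377) (tt N22204 (iv7 F155544)))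
theorem Q11202 : ∀ i, i < 11202 → P i := stepQ 11201 Q11201 (allL N11201 (tt N5341 (iv1 D16662)) (tt N22206 F52722) (tt N22204 (iv2 F155543)) (tt N22863 D34379) (tt N22864 D34380) (tt N22865 D34381) (tt N22866 D34382) (tt N22203 F155542))
theorem Q11203 : ∀ i, i < 11203 → P i := stepQ 11202 Q11202 (allL N11202 (tt N22204 (iv1 F52717)) (tt N22203 F52721) (tt N22206 (iv2 F52720)) (tt N5345 F27293) (tt N22858 (iv4 F54542)) (tt N22825 (iv5 F54486)) (tt N17414 (iv6 F43086)) (tt N5341 (iv7 D16663)))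
theorem Q11204 : ∀ i, i < 11204 → P i := stepQ 11203 Q11203 (allL N11203 (tt N18409 (iv1 F45910)) (tt N5342 (iv0 D16664)) (tt N20912 F50961) (tt N10203 (iv3 F41171)) (tt N16802 F41170) (tt N10419 F50823) (tt N22867 D34383) (tt N19001 (iv7 F50960)))
theorem Q11205 : ∀ i, i < 11205 → P i := stepQ 11204 Q11204 (allL N11204 (tt N5342 (iv1 D16665)) (tt N18409 F45909) (tt N19001 F50813) (tt N20948 F49917) (tt N11168 F50814) (tt N22868 D34384) (tt N9491 F50815) (tt N20912 F50962))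
theorem Q11206 : ∀ i, i < 11206 → P i := stepQ 11205 Q11205 (allL N11205 (tt N10408 (iv1 F50989)) (tt N10397 (iv0 F50746)) (tt N21254 (iv2 F50660)) (tt N5348 F27294) (tt N22869 D34385) (tt N5342 (iv5 D16666)) (tt N17413 (iv6 F43084)) (tt N21225 (iv7 F50368)))
theorem Q11207 : ∀ i, i < 11207 → P i := stepQ 11206 Q11206 (allL N11206 (tt N21979 F232520) (tt N11478 (iv0 F232564)) (tt N21977 (iv2 F232577)) (tt N5343 (iv3 D16668)) (tt N22870 D34389) (tt N22871 D34390) (tt N22872 D34391) (tt N17366 (iv7 F51293)))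
theorem Q11208 : ∀ i, i < 11208 → P i := stepQ 11207 Q11207 (allL N11207 (tt N22484 (iv1 F53210)) (tt N22513 (iv0 F53281)) (tt N17364 (iv2 F51295)) (tt N22871 (iv3 F54557)) (tt N22873 D34392) (tt N5343 (iv5 D16670)) (tt N22489 (iv6 F311139)) (tt N17367 (iv7 F51294)))
theorem Q11209 : ∀ i, i < 11209 → P i := stepQ 11208 Q11208 (allL N11208 (tt N17093 (iv1 F44886)) (tt N22029 F52386) (tt N17365 (iv2 F51296)) (tt N22872 (iv3 F54558)) (tt N11573 (iv4 F28971)) (tt N6001 F27296) (tt N5343 (iv6 D16671)) (tt N17949 F51304))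
theorem Q11210 : ∀ i, i < 11210 → P i := stepQ 11209 Q11209 (allL N11209 (tt N11794 F130987) (tt N22112 (iv0 F130988)) (tt N22110 F130958) (tt N5344 (iv3 D16673)) (tt N22874 D34397) (tt N22875 D34398) (tt N22876 D34399) (tt N17363 F51316))
theorem Q11211 : ∀ i, i < 11211 → P i := stepQ 11210 Q11210 (allL N11210 (tt N22513 (iv1 F53282)) (tt N22484 (iv0 F53209)) (tt N17367 (iv2 F51318)) (tt N22875 (iv3 F54561)) (tt N22877 D34400) (tt N5344 (iv5 D16675)) (tt N22878 D34401) (tt N17364 F51317))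
theorem Q11212 : ∀ i, i < 11212 → P i := stepQ 11211 Q11211 (allL N11211 (tt N22153 F52551) (tt N17142 F53032) (tt N17368 (iv2 F51284)) (tt N22876 (iv3 F54562)) (tt N11576 (iv4 F28976)) (tt N22446 (iv5 F53030)) (tt N5344 (iv6 D16676)) (tt N22152 (iv7 F52547)))
theorem Q11213 : ∀ i, i < 11213 → P i := stepQ 11212 Q11212 (allL N11212 (tt N11471 F50524) (tt N8613 F50525) (tt N11469 F50652) (tt N5346 (iv3 D16677)) (tt N20935 (iv4 F49900)) (tt N22879 D34402) (tt N22880 D34403) (tt N10490 F27298))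
theorem Q11214 : ∀ i, i < 11214 → P i := stepQ 11213 Q11213 (allL N11213 (tt N10322 F27301) (tt N10324 F27302) (tt N10489 F27299) (tt N22879 (iv3 F54565)) (tt N22881 D34404) (tt N5346 (iv5 D16678)) (tt N22882 D34405) (tt N10491 F27300))
theorem Q11215 : ∀ i, i < 11215 → P i := stepQ 11214 Q11214 (allL N11214 (tt N8313 F27306) (tt N10247 (iv0 F27308)) (tt N9178 F27303) (tt N22880 (iv3 F54568)) (tt N5438 F27304) (tt N8472 F27307) (tt N5346 (iv6 D16679)) (tt N9174 F27305))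
theorem Q11216 : ∀ i, i < 11216 → P i := stepQ 11215 Q11215 (allL N11215 (tt N8213 F27311) (tt N10200 F27312) (tt N10198 F27313) (tt N5347 (iv3 D16680)) (tt N22883 D34406) (tt N8280 (iv5 F41535)) (tt N9489 F27309) (tt N10199 F27310))
theorem Q11217 : ∀ i, i < 11217 → P i := stepQ 11216 Q11216 (allL N11216 (tt N10324 F27317) (tt N10322 F27318) (tt N10491 F27315) (tt N8280 F41536) (tt N22884 D34407) (tt N5347 (iv5 D16681)) (tt N22885 D34408) (tt N10489 F27316))
theorem Q11218 : ∀ i, i < 11218 → P i := stepQ 11217 Q11217 (allL N11217 (tt N21089 F50112) (tt N16851 (iv0 F41309)) (tt N10493 F27319) (tt N22886 D34409) (tt N5348 (iv4 D16682)) (tt N21511 (iv5 F51424)) (tt N17421 (iv6 F43096)) (tt N21137 (iv7 F50195)))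
theorem Q11219 : ∀ i, i < 11219 → P i := stepQ 11218 Q11218 (allL N11218 (tt N10290 F27323) (tt N10289 F27324) (tt N8215 F27320) (tt N10226 F27321) (tt N22887 D34410) (tt N5349 (iv5 D16683)) (tt N22888 D34411) (tt N10288 F27322))
theorem Q11220 : ∀ i, i < 11220 → P i := stepQ 11219 Q11219 (allL N11219 (tt N22889 D34412) (tt N22890 D34413) (tt N8067 F27325) (tt N17121 (iv3 F42287)) (tt N14739 (iv4 F37036)) (tt N22891 D34414) (tt N5350 (iv6 D16684)) (tt N22892 D34415))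
theorem Q11221 : ∀ i, i < 11221 → P i := stepQ 11220 Q11220 (allL N11220 (tt N22893 D34416) (tt N20998 (iv0 F49969)) (tt N8068 F27326) (tt N17124 (iv3 F42296)) (tt N22894 D34417) (tt N5351 (iv5 D16685)) (tt N22891 (iv6 F54599)) (tt N22895 D34418))
theorem Q11222 : ∀ i, i < 11222 → P i := stepQ 11221 Q11221 (allL N11221 (tt N8058 (iv1 F27330)) (tt N8057 F27331) (tt N8069 F27327) (tt N17125 (iv3 F42297)) (tt N5353 F27328) (tt N22895 (iv5 F54611)) (tt N8061 F27329) (tt N5351 (iv7 D16686)))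
theorem Q11223 : ∀ i, i < 11223 → P i := stepQ 11222 Q11222 (allL N11222 (tt N7295 F27335) (tt N7234 (iv0 F27337)) (tt N5473 F27332) (tt N11222 F27333) (tt N16279 (iv4 F40250)) (tt N5352 (iv5 D16687)) (tt N5448 F27336) (tt N9058 F27334))
theorem Q11224 : ∀ i, i < 11224 → P i := stepQ 11223 Q11223 (allL N11223 (tt N9075 F27342) (tt N7237 (iv0 F27343)) (tt N9073 F27338) (tt N11223 F27339) (tt N16303 (iv4 F40293)) (tt N9074 F27340) (tt N5352 (iv6 D16688)) (tt N9074 F27341))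
theorem Q11225 : ∀ i, i < 11225 → P i := stepQ 11224 Q11224 (allL N11224 (tt N13834 (iv1 F33925)) (tt N5361 (iv0 F27345)) (tt N12575 (iv2 F30173)) (tt N11817 (iv3 F28439)) (tt N22896 D34419) (tt N5356 (iv5 D16689)) (tt N13840 (iv6 F33940)) (tt N5790 F27344))
theorem Q11226 : ∀ i, i < 11226 → P i := stepQ 11225 Q11225 (allL N11225 (tt N5358 (iv1 D16690)) (tt N5362 F27346) (tt N5360 (iv2 F27350)) (tt N8572 (iv3 F27348)) (tt N13143 F31669) (tt N12537 (iv5 F30102)) (tt N11225 F27349) (tt N5359 F27347))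
theorem Q11227 : ∀ i, i < 11227 → P i := stepQ 11226 Q11226 (allL N11226 (tt N12575 F30177) (tt N5790 F27352) (tt N5361 F27351) (tt N12570 (iv3 F30155)) (tt N22897 D34420) (tt N5358 (iv5 D16691)) (tt N12337 (iv6 F29662)) (tt N13834 (iv7 F33926)))
theorem Q11228 : ∀ i, i < 11228 → P i := stepQ 11227 Q11227 (allL N11227 (tt N5360 (iv1 F27356)) (tt N5359 F27357) (tt N5362 F27353) (tt N11749 (iv3 F28298)) (tt N6139 F27354) (tt N13834 (iv5 F33927)) (tt N6720 F27355) (tt N5358 (iv7 D16692)))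
theorem Q11229 : ∀ i, i < 11229 → P i := stepQ 11228 Q11228 (allL N11228 (tt N11758 F30729) (tt N11812 (iv0 F28433)) (tt N8570 (iv2 F27361)) (tt N5359 (iv3 D16693)) (tt N5780 F27360) (tt N15531 (iv5 F324956)) (tt N5779 F27358) (tt N8572 F27359))
theorem Q11230 : ∀ i, i < 11230 → P i := stepQ 11229 Q11229 (allL N11229 (tt N12007 (iv1 F29068)) (tt N7135 (iv0 F27362)) (tt N12538 F30107) (tt N15531 F325942) (tt N22898 D34422) (tt N5359 (iv5 D16694)) (tt N22899 D34423) (tt N12537 F30104))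
theorem Q11231 : ∀ i, i < 11231 → P i := stepQ 11230 Q11230 (allL N11230 (tt N6110 (iv1 F27369)) (tt N6471 (iv0 F27365)) (tt N12717 (iv2 F30725)) (tt N5360 (iv3 D16695)) (tt N6256 F27363) (tt N22900 D34424) (tt N11230 F27364) (tt N12773 (iv7 F30879)))
theorem Q11232 : ∀ i, i < 11232 → P i := stepQ 11231 Q11231 (allL N11231 (tt N7135 F27371) (tt N12007 (iv0 F29069)) (tt N12537 F30103) (tt N22900 (iv3 F54624)) (tt N22901 D34425) (tt N5360 (iv5 D16696)) (tt N22902 D34426) (tt N12538 (iv7 F30105)))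
theorem Q11233 : ∀ i, i < 11233 → P i := stepQ 11232 Q11232 (allL N11232 (tt N22903 D34427) (tt N13799 (iv0 F33771)) (tt N22897 (iv2 F54615)) (tt N22904 D34428) (tt N5361 (iv4 D16697)) (tt N22905 D34429) (tt N12359 (iv6 F29684)) (tt N18002 (iv7 F45080)))
theorem Q11234 : ∀ i, i < 11234 → P i := stepQ 11233 Q11233 (allL N11233 (tt N22906 D34430) (tt N22907 D34431) (tt N22908 D34432) (tt N5363 (iv3 D16698)) (tt N22904 (iv4 F54630)) (tt N12544 (iv5 F30114)) (tt N12376 (iv6 F29792)) (tt N18003 (iv7 F45085)))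
theorem Q11235 : ∀ i, i < 11235 → P i := stepQ 11234 Q11234 (allL N11234 (tt N6805 F27375) (tt N6787 F27376) (tt N5738 F27372) (tt N8705 F27373) (tt N8686 F27377) (tt N5364 (iv5 D16699)) (tt N22909 D34433) (tt N6802 F27374))
theorem Q11236 : ∀ i, i < 11236 → P i := stepQ 11235 Q11235 (allL N11235 (tt N11566 F28061) (tt N5940 F28062) (tt N11597 (iv2 F28082)) (tt N5366 F27378) (tt N11597 (iv4 F28084)) (tt N22910 D34434) (tt N5365 (iv6 D16700)) (tt N5819 F27379))
theorem Q11237 : ∀ i, i < 11237 → P i := stepQ 11236 Q11236 (allL N11236 (tt N6042 F27381) (tt N12570 (iv0 F30157)) (tt N11239 (iv2 F27389)) (tt N22910 (iv3 F54635)) (tt N22911 D34435) (tt N5366 (iv5 D16701)) (tt N17621 (iv6 F44102)) (tt N5823 F27380))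
theorem Q11238 : ∀ i, i < 11238 → P i := stepQ 11237 Q11237 (allL N11237 (tt N12541 (iv1 F30108)) (tt N11753 (iv0 F296191)) (tt N5369 F27382) (tt N12007 (iv3 F29067)) (tt N22912 D34436) (tt N5367 (iv5 D16702)) (tt N12383 (iv6 F29804)) (tt N12074 (iv7 F29160)))
theorem Q11239 : ∀ i, i < 11239 → P i := stepQ 11238 Q11238 (allL N11238 (tt N11902 (iv1 F28627)) (tt N11582 (iv0 F28059)) (tt N5560 F27383) (tt N17369 (iv3 F42960)) (tt N5368 (iv4 D16703)) (tt N22913 D34437) (tt N5558 F27384) (tt N8672 F27385))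
theorem Q11240 : ∀ i, i < 11240 → P i := stepQ 11239 Q11239 (allL N11239 (tt N12075 (iv1 F29163)) (tt N6058 (iv0 F27391)) (tt N11236 F27389) (tt N17547 (iv3 F43660)) (tt N22914 D34438) (tt N5368 (iv5 D16704)) (tt N12083 (iv6 F29191)) (tt N8675 F27390))
theorem Q11241 : ∀ i, i < 11241 → P i := stepQ 11240 Q11240 (allL N11240 (tt N12074 (iv1 F29162)) (tt N5369 (iv0 D16705)) (tt N12541 (iv2 F30111)) (tt N11663 (iv3 F28189)) (tt N22915 D34439) (tt N11662 F28188) (tt N22916 D34440) (tt N11753 (iv7 F296195)))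
theorem Q11242 : ∀ i, i < 11242 → P i := stepQ 11241 Q11241 (allL N11241 (tt N5369 (iv1 D16706)) (tt N12074 (iv0 F29161)) (tt N11753 (iv2 F296193)) (tt N22917 D34441) (tt N22918 D34442) (tt N5837 (iv5 F27392)) (tt N11751 (iv6 F296121)) (tt N12541 (iv7 F30109)))
theorem Q11243 : ∀ i, i < 11243 → P i := stepQ 11242 Q11242 (allL N11242 (tt N22919 D34444) (tt N22920 D34445) (tt N22912 (iv2 F54639)) (tt N22921 D34446) (tt N5369 (iv4 D16707)) (tt N22922 D34447) (tt N12397 (iv6 F29822)) (tt N12542 (iv7 F30112)))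
theorem Q11244 : ∀ i, i < 11244 → P i := stepQ 11243 Q11243 (allL N11243 (tt N22923 D34448) (tt N22924 D34449) (tt N22925 D34450) (tt N5370 (iv3 D16708)) (tt N22921 (iv4 F54648)) (tt N18003 (iv5 F45084)) (tt N12411 (iv6 F29899)) (tt N12544 (iv7 F30115)))
theorem Q11245 : ∀ i, i < 11245 → P i := stepQ 11244 Q11244 (allL N11244 (tt N5396 F27396) (tt N5395 F27397) (tt N5400 F27393) (tt N22926 D34451) (tt N5371 (iv4 D16709)) (tt N6309 F27394) (tt N22927 D34452) (tt N5388 F27395))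
theorem Q11246 : ∀ i, i < 11246 → P i := stepQ 11245 Q11245 (allL N11245 (tt N22928 D34453) (tt N22929 D34454) (tt N5404 F27398) (tt N11524 (iv3 F27969)) (tt N22927 (iv4 F54652)) (tt N22930 D34455) (tt N5371 (iv6 D16710)) (tt N22931 D34456))
theorem Q11247 : ∀ i, i < 11247 → P i := stepQ 11246 Q11246 (allL N11246 (tt N5946 F27402) (tt N5381 F27401) (tt N5406 F27399) (tt N11525 (iv3 F27971)) (tt N22932 D34457) (tt N5372 (iv5 D16711)) (tt N22930 (iv6 F54657)) (tt N5843 F27400))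
theorem Q11248 : ∀ i, i < 11248 → P i := stepQ 11247 Q11247 (allL N11247 (tt N8570 F27430) (tt N8572 F27431) (tt N11812 (iv2 F28430)) (tt N5374 F27403) (tt N11996 F296176) (tt N16008 (iv5 F324229)) (tt N5373 (iv6 D16712)) (tt N11758 (iv7 F28326)))
theorem Q11249 : ∀ i, i < 11249 → P i := stepQ 11248 Q11248 (allL N11248 (tt N5406 F27406) (tt N5843 (iv0 F27407)) (tt N5381 F27404) (tt N16008 F325265) (tt N22933 D34459) (tt N5374 (iv5 D16713)) (tt N12153 (iv6 F29411)) (tt N5946 F27405))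
theorem Q11250 : ∀ i, i < 11250 → P i := stepQ 11249 Q11249 (allL N11249 (tt N11658 F28177) (tt N12571 F30163) (tt N5377 F27414) (tt N11812 (iv3 F28431)) (tt N8553 F27415) (tt N22934 D34462) (tt N5376 (iv6 D16715)) (tt N11714 (iv7 F28260)))
theorem Q11251 : ∀ i, i < 11251 → P i := stepQ 11250 Q11250 (allL N11250 (tt N11714 (iv1 F28262)) (tt N5377 (iv0 D16716)) (tt N11658 F28178) (tt N5837 (iv3 F28176)) (tt N11658 F28175) (tt N22917 (iv5 F54645)) (tt N5835 F28179) (tt N12571 (iv7 F30162)))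
theorem Q11252 : ∀ i, i < 11252 → P i := stepQ 11251 Q11251 (allL N11251 (tt N5377 (iv1 D16717)) (tt N11714 F28261) (tt N12571 (iv2 F30159)) (tt N11620 (iv3 F28131)) (tt N12571 (iv4 F30160)) (tt N22935 D34463) (tt N11251 F28132) (tt N11658 (iv7 F28173)))
theorem Q11253 : ∀ i, i < 11253 → P i := stepQ 11252 Q11252 (allL N11252 (tt N22910 F54637) (tt N22936 D34464) (tt N22934 (iv2 F54680)) (tt N5381 F27416) (tt N22937 D34465) (tt N5377 (iv5 D16718)) (tt N12188 (iv6 F29476)) (tt N22938 D34466))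
theorem Q11254 : ∀ i, i < 11254 → P i := stepQ 11253 Q11253 (allL N11253 (tt N12571 (iv1 F30164)) (tt N11658 (iv0 F28174)) (tt N11714 (iv2 F28258)) (tt N5382 F27417) (tt N8585 (iv4 F27418)) (tt N22938 (iv5 F54687)) (tt N11310 (iv6 F27550)) (tt N5377 (iv7 D16719)))
theorem Q11255 : ∀ i, i < 11255 → P i := stepQ 11254 Q11254 (allL N11254 (tt N6444 (iv1 F27432)) (tt N5379 (iv0 D16720)) (tt N6397 (iv2 F27425)) (tt N6439 F27426) (tt N6843 F27424) (tt N6834 F292215) (tt N5868 F27427) (tt N6445 F27428))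
theorem Q11256 : ∀ i, i < 11256 → P i := stepQ 11255 Q11255 (allL N11255 (tt N13386 (iv1 F32427)) (tt N6450 F27433) (tt N12665 (iv2 F30552)) (tt N13144 (iv3 F31674)) (tt N7036 F27434) (tt N5379 (iv5 D16721)) (tt N6919 (iv6 F291515)) (tt N13390 (iv7 F32436)))
theorem Q11257 : ∀ i, i < 11257 → P i := stepQ 11256 Q11256 (allL N11256 (tt N6445 (iv1 F27438)) (tt N6397 F27439) (tt N6444 F27435) (tt N13145 (iv3 F31678)) (tt N5382 F27436) (tt N13390 (iv5 F32432)) (tt N6499 F27437) (tt N5379 (iv7 D16722)))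
theorem Q11258 : ∀ i, i < 11258 → P i := stepQ 11257 Q11257 (allL N11257 (tt N5387 F27441) (tt N11311 (iv0 F27554)) (tt N6478 F27440) (tt N11751 (iv3 F28318)) (tt N22939 D34467) (tt N5380 (iv5 D16723)) (tt N22917 F295966) (tt N11759 (iv7 F28328)))
theorem Q11259 : ∀ i, i < 11259 → P i := stepQ 11258 Q11258 (allL N11258 (tt N22940 D34469) (tt N13958 (iv0 F34415)) (tt N22933 (iv2 F54671)) (tt N22941 D34470) (tt N5381 (iv4 D16724)) (tt N22942 D34471) (tt N12212 (iv6 F29504)) (tt N22943 D34472))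
theorem Q11260 : ∀ i, i < 11260 → P i := stepQ 11259 Q11259 (allL N11259 (tt N5843 (iv1 F27444)) (tt N5406 F27445) (tt N5946 F27442) (tt N22938 (iv3 F54686)) (tt N22943 (iv4 F54697)) (tt N5382 F27443) (tt N16006 F324507) (tt N5381 (iv7 D16725)))
theorem Q11261 : ∀ i, i < 11261 → P i := stepQ 11260 Q11260 (allL N11260 (tt N5681 F27448) (tt N8656 (iv0 F27449)) (tt N5385 F27446) (tt N11547 (iv3 F28023)) (tt N8505 F27447) (tt N15533 F324950) (tt N5383 (iv6 D16726)) (tt N11835 (iv7 F28489)))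
theorem Q11262 : ∀ i, i < 11262 → P i := stepQ 11261 Q11261 (allL N11261 (tt N8623 F27453) (tt N5732 (iv0 F27454)) (tt N8505 F27450) (tt N6230 F27451) (tt N5385 F27452) (tt N13353 F296102) (tt N5384 (iv6 D16727)) (tt N11598 (iv7 F28091)))
theorem Q11263 : ∀ i, i < 11263 → P i := stepQ 11262 Q11262 (allL N11262 (tt N15532 F325066) (tt N15531 F325067) (tt N15533 F325068) (tt N5387 F27457) (tt N7807 F325069) (tt N5385 (iv5 D16728)) (tt N12220 (iv6 F29516)) (tt N7804 (iv7 F325940)))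
theorem Q11264 : ∀ i, i < 11264 → P i := stepQ 11263 Q11263 (allL N11263 (tt N22944 D34478) (tt N22945 D34479) (tt N12326 (iv2 F29645)) (tt N22946 D34480) (tt N5387 (iv4 D16730)) (tt N22947 D34481) (tt N12239 (iv6 F29527)) (tt N12327 (iv7 F29651)))
theorem Q11265 : ∀ i, i < 11265 → P i := stepQ 11264 Q11264 (allL N11264 (tt N22948 D34482) (tt N22949 D34483) (tt N22950 D34484) (tt N5388 (iv3 D16731)) (tt N17377 (iv4 F42980)) (tt N22951 D34485) (tt N22952 D34486) (tt N22926 (iv7 F54650)))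
theorem Q11266 : ∀ i, i < 11266 → P i := stepQ 11265 Q11265 (allL N11265 (tt N11912 (iv1 F28670)) (tt N12163 (iv0 F29445)) (tt N5398 F27460) (tt N22951 (iv3 F54715)) (tt N6311 F27462) (tt N5388 (iv5 D16732)) (tt N22953 D34487) (tt N6309 F27461))
theorem Q11267 : ∀ i, i < 11267 → P i := stepQ 11266 Q11266 (allL N11266 (tt N19329 F314212) (tt N22954 D34489) (tt N5399 F27463) (tt N22952 (iv3 F54717)) (tt N5389 F27464) (tt N19302 F314213) (tt N5388 (iv6 D16733)) (tt N22955 D34491))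
theorem Q11268 : ∀ i, i < 11268 → P i := stepQ 11267 Q11267 (allL N11267 (tt N5403 (iv1 F27468)) (tt N5389 (iv0 D16734)) (tt N5401 F113000) (tt N22956 D34493) (tt N22957 D34494) (tt N22958 D34495) (tt N22959 D34496) (tt N5402 (iv7 F113005)))
theorem Q11269 : ∀ i, i < 11269 → P i := stepQ 11268 Q11268 (allL N11268 (tt N5389 (iv1 D16735)) (tt N5403 F27465) (tt N5402 (iv2 F113004)) (tt N22960 D34498) (tt N22961 D34499) (tt N22960 F296297) (tt N22962 D34501) (tt N5401 F113001))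
theorem Q11270 : ∀ i, i < 11270 → P i := stepQ 11269 Q11269 (allL N11269 (tt N5402 (iv1 F27469)) (tt N5401 F27470) (tt N5403 F27466) (tt N17382 (iv3 F42987)) (tt N22955 (iv4 F54723)) (tt N5885 F27467) (tt N22931 (iv6 F54659)) (tt N5389 (iv7 D16736)))
theorem Q11271 : ∀ i, i < 11271 → P i := stepQ 11270 Q11270 (allL N11270 (tt N5539 F27477) (tt N11939 (iv0 F28731)) (tt N5871 F295975) (tt N22963 D34503) (tt N5390 (iv4 D16738)) (tt N22964 D34504) (tt N5391 (iv6 F296020)) (tt N5846 F27476))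
theorem Q11272 : ∀ i, i < 11272 → P i := stepQ 11271 Q11271 (allL N11271 (tt N17077 F42138) (tt N22062 (iv0 F52430)) (tt N22116 F52497) (tt N5391 (iv3 D16740)) (tt N22963 (iv4 F54733)) (tt N17267 F42618) (tt N22963 F296237) (tt N5859 F27479))
theorem Q11273 : ∀ i, i < 11273 → P i := stepQ 11272 Q11272 (allL N11272 (tt N13960 (iv1 F34422)) (tt N13955 (iv0 F34408)) (tt N5870 F27480) (tt N17267 F42615) (tt N6303 F27482) (tt N5391 (iv5 D16741)) (tt N22965 D34511) (tt N5860 F27481))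
theorem Q11274 : ∀ i, i < 11274 → P i := stepQ 11273 Q11273 (allL N11273 (tt N5796 (iv1 F27497)) (tt N5864 F27496) (tt N5392 (iv2 D16747)) (tt N5845 F27493) (tt N11911 (iv4 F28664)) (tt N5769 F27494) (tt N22966 D34530) (tt N5863 F27495))
theorem Q11275 : ∀ i, i < 11275 → P i := stepQ 11274 Q11274 (allL N11274 (tt N5569 F27499) (tt N5563 F27500) (tt N11911 F28665) (tt N22967 D34531) (tt N5392 (iv4 D16748)) (tt N9384 (iv5 F299178)) (tt N19335 (iv6 F301118)) (tt N5865 F27498))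
theorem Q11276 : ∀ i, i < 11276 → P i := stepQ 11275 Q11275 (allL N11275 (tt N22968 D34534) (tt N22968 (iv0 F297353)) (tt N22966 (iv2 F54768)) (tt N5394 F27501) (tt N19335 (iv4 F301117)) (tt N11275 F27502) (tt N5392 (iv6 D16749)) (tt N22966 F296293))
theorem Q11277 : ∀ i, i < 11277 → P i := stepQ 11276 Q11276 (allL N11276 (tt N22969 D34537) (tt N22970 D34538) (tt N22971 D34539) (tt N5393 (iv3 D16750)) (tt N22967 (iv4 F54771)) (tt N22972 D34540) (tt N22973 D34541) (tt N5869 F27503))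
theorem Q11278 : ∀ i, i < 11278 → P i := stepQ 11277 Q11277 (allL N11277 (tt N13955 (iv1 F34409)) (tt N13960 (iv0 F34421)) (tt N5860 F27504) (tt N22972 (iv3 F54788)) (tt N6300 F27505) (tt N5393 (iv5 D16751)) (tt N22974 D34542) (tt N5870 F27506))
theorem Q11279 : ∀ i, i < 11279 → P i := stepQ 11278 Q11278 (allL N11278 (tt N13985 F118904) (tt N11962 (iv0 F296816)) (tt N5861 F27507) (tt N22973 (iv3 F54791)) (tt N5394 F27508) (tt N22975 D34545) (tt N5393 (iv6 D16752)) (tt N22976 D34546))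
theorem Q11280 : ∀ i, i < 11280 → P i := stepQ 11279 Q11279 (allL N11279 (tt N5394 (iv1 D16754)) (tt N5847 F296299) (tt N5812 (iv2 F117734)) (tt N17389 F121143) (tt N22977 D34553) (tt N12207 (iv5 F29501)) (tt N22978 D34554) (tt N5862 (iv7 F59622)))
theorem Q11281 : ∀ i, i < 11281 → P i := stepQ 11280 Q11280 (allL N11280 (tt N5812 F117765) (tt N5862 F27515) (tt N5847 (iv2 F296146)) (tt N22966 (iv3 F296119)) (tt N22976 (iv4 F54797)) (tt N11280 F27511) (tt N5845 F296011) (tt N5394 (iv7 D16755)))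
theorem Q11282 : ∀ i, i < 11282 → P i := stepQ 11281 Q11281 (allL N11281 (tt N22979 D34555) (tt N22980 D34556) (tt N22981 D34557) (tt N5395 (iv3 D16756)) (tt N22982 D34558) (tt N22983 D34559) (tt N22984 D34560) (tt N6811 F27516))
theorem Q11283 : ∀ i, i < 11283 → P i := stepQ 11282 Q11282 (allL N11282 (tt N5881 F27520) (tt N5923 F27521) (tt N5920 F27517) (tt N22983 (iv3 F54818)) (tt N6295 F27519) (tt N5395 (iv5 D16757)) (tt N22985 D34561) (tt N5919 F27518))
theorem Q11284 : ∀ i, i < 11284 → P i := stepQ 11283 Q11283 (allL N11283 (tt N17616 (iv1 F296128)) (tt N17634 F117956) (tt N6842 F27522) (tt N22984 (iv3 F54820)) (tt N5726 F295969) (tt N22986 D34564) (tt N5395 (iv6 D16758)) (tt N11558 (iv7 F296133)))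
theorem Q11285 : ∀ i, i < 11285 → P i := stepQ 11284 Q11284 (allL N11284 (tt N9384 (iv1 F299177)) (tt N19515 (iv0 F299173)) (tt N11629 (iv2 F28150)) (tt N5396 (iv3 D16759)) (tt N10789 (iv4 F299529)) (tt N8629 (iv5 F27525)) (tt N22987 D34567) (tt N6841 F27524))
theorem Q11286 : ∀ i, i < 11286 → P i := stepQ 11285 Q11285 (allL N11285 (tt N5923 F27530) (tt N5881 F27531) (tt N5919 F27526) (tt N8629 F27527) (tt N6289 F27528) (tt N5396 (iv5 D16760)) (tt N22988 D34568) (tt N5920 F27529))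
theorem Q11287 : ∀ i, i < 11287 → P i := stepQ 11286 Q11286 (allL N11286 (tt N17632 (iv1 F118882)) (tt N22977 (iv0 F118883)) (tt N6812 F27532) (tt N22987 (iv3 F54835)) (tt N6784 F27533) (tt N22989 D34571) (tt N5396 (iv6 D16761)) (tt N22990 D34572))
theorem Q11288 : ∀ i, i < 11288 → P i := stepQ 11287 Q11287 (allL N11287 (tt N17180 (iv1 F42445)) (tt N5397 (iv0 D16762)) (tt N17357 (iv2 F42858)) (tt N22991 D34573) (tt N16478 (iv4 F40586)) (tt N17243 (iv5 F42575)) (tt N22992 D34574) (tt N17356 F42853))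
theorem Q11289 : ∀ i, i < 11289 → P i := stepQ 11288 Q11288 (allL N11288 (tt N5397 (iv1 D16763)) (tt N17180 (iv0 F42444)) (tt N17356 F42852) (tt N22993 D34575) (tt N16491 (iv4 F40606)) (tt N17244 (iv5 F42578)) (tt N22994 D34576) (tt N17357 (iv7 F42855)))
theorem Q11290 : ∀ i, i < 11290 → P i := stepQ 11289 Q11289 (allL N11289 (tt N17357 (iv1 F42854)) (tt N17356 F42851) (tt N5397 (iv2 D16764)) (tt N22950 (iv3 F54714)) (tt N5407 F27534) (tt N22995 D34577) (tt N22996 D34578) (tt N17180 (iv7 F42443)))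
theorem Q11291 : ∀ i, i < 11291 → P i := stepQ 11290 Q11290 (allL N11290 (tt N12257 F41892) (tt N12260 (iv0 F29542)) (tt N22995 (iv2 F54850)) (tt N5398 F27535) (tt N22997 D34579) (tt N5397 (iv5 D16765)) (tt N22998 D34580) (tt N17358 (iv7 F42860)))
theorem Q11292 : ∀ i, i < 11292 → P i := stepQ 11291 Q11291 (allL N11291 (tt N22999 D34581) (tt N23000 D34582) (tt N22996 (iv2 F54853)) (tt N5399 F27536) (tt N5408 F27537) (tt N23001 D34583) (tt N5397 (iv6 D16766)) (tt N23002 D34584))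
theorem Q11293 : ∀ i, i < 11293 → P i := stepQ 11292 Q11292 (allL N11292 (tt N23003 D34585) (tt N23004 D34586) (tt N22953 (iv2 F54718)) (tt N22998 (iv3 F54856)) (tt N14274 (iv4 F35156)) (tt N23005 D34587) (tt N5398 (iv6 D16767)) (tt N23006 D34588))
theorem Q11294 : ∀ i, i < 11294 → P i := stepQ 11293 Q11293 (allL N11293 (tt N12163 (iv1 F29446)) (tt N11912 (iv0 F28668)) (tt N6309 F27538) (tt N17358 (iv3 F42859)) (tt N6278 F27539) (tt N5400 F27540) (tt N23007 D34589) (tt N5398 (iv7 D16768)))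
theorem Q11295 : ∀ i, i < 11295 → P i := stepQ 11294 Q11294 (allL N11294 (tt N22955 (iv1 F54726)) (tt N5399 (iv0 D16769)) (tt N19329 F314215) (tt N23008 D34591) (tt N23009 D34592) (tt N19424 (iv5 F315306)) (tt N23010 D34594) (tt N22954 F114000))
theorem Q11296 : ∀ i, i < 11296 → P i := stepQ 11295 Q11295 (allL N11295 (tt N5399 (iv1 D16770)) (tt N22955 F54725) (tt N22954 (iv2 F113991)) (tt N9278 F309590) (tt N23011 D34597) (tt N9304 (iv5 F311788)) (tt N23012 D34599) (tt N19329 (iv7 F311789)))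
theorem Q11297 : ∀ i, i < 11297 → P i := stepQ 11296 Q11296 (allL N11296 (tt N19303 F314216) (tt N9267 F314217) (tt N19302 F314218) (tt N23001 (iv3 F54857)) (tt N23013 D34602) (tt N5399 (iv5 D16771)) (tt N23005 (iv6 F54860)) (tt N19301 F314219))
theorem Q11298 : ∀ i, i < 11298 → P i := stepQ 11297 Q11297 (allL N11297 (tt N22954 (iv1 F54720)) (tt N19329 F313034) (tt N22955 (iv2 F54722)) (tt N23002 (iv3 F54858)) (tt N5403 F27541) (tt N19301 F313035) (tt N23014 D34604) (tt N5399 (iv7 D16772)))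
theorem Q11299 : ∀ i, i < 11299 → P i := stepQ 11298 Q11298 (allL N11298 (tt N23015 D34605) (tt N23016 D34606) (tt N22927 (iv2 F54651)) (tt N17359 (iv3 F42947)) (tt N5404 F27542) (tt N23017 D34607) (tt N5400 (iv6 D16773)) (tt N23014 (iv7 F54867)))
theorem Q11300 : ∀ i, i < 11300 → P i := stepQ 11299 Q11299 (allL N11299 (tt N23018 D34614) (tt N17635 F296689) (tt N22958 F296690) (tt N5401 (iv3 D16775)) (tt N23019 D34617) (tt N5401 (iv5 F297056)) (tt N23020 D34619) (tt N22960 (iv7 F113006)))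
theorem Q11301 : ∀ i, i < 11301 → P i := stepQ 11300 Q11300 (allL N11300 (tt N23021 D34621) (tt N13969 (iv0 F59786)) (tt N22957 (iv2 F113002)) (tt N19639 (iv3 F317037)) (tt N5401 (iv4 D16776)) (tt N23022 D34624) (tt N23023 D34625) (tt N22961 (iv7 F113007)))
theorem Q11302 : ∀ i, i < 11302 → P i := stepQ 11301 Q11301 (allL N11301 (tt N22978 (iv1 F59620)) (tt N23024 D34633) (tt N22959 (iv2 F113003)) (tt N23020 (iv3 F54877)) (tt N23023 (iv4 F54880)) (tt N23025 D34634) (tt N5401 (iv6 D16778)) (tt N23026 D34635))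
theorem Q11303 : ∀ i, i < 11303 → P i := stepQ 11302 Q11302 (allL N11302 (tt N11813 F116629) (tt N23027 D34638) (tt N23028 D34639) (tt N5402 (iv3 D16780)) (tt N23029 D34640) (tt N23028 (iv5 F297348)) (tt N23030 D34642) (tt N22956 F113015))
theorem Q11304 : ∀ i, i < 11304 → P i := stepQ 11303 Q11303 (allL N11303 (tt N13969 (iv1 F59787)) (tt N23021 F54883) (tt N22961 F113016) (tt N23031 D34643) (tt N5402 (iv4 D16781)) (tt N23032 D34644) (tt N23033 D34645) (tt N22957 F113017))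
theorem Q11305 : ∀ i, i < 11305 → P i := stepQ 11304 Q11304 (allL N11304 (tt N17635 F117908) (tt N23018 F296691) (tt N22960 F296692) (tt N23028 (iv3 F297347)) (tt N23034 D34646) (tt N5402 (iv5 D16782)) (tt N22928 (iv6 F54653)) (tt N22958 (iv7 F112997)))
theorem Q11306 : ∀ i, i < 11306 → P i := stepQ 11305 Q11305 (allL N11305 (tt N23035 D34647) (tt N17617 F296678) (tt N22962 (iv2 F113012)) (tt N23030 (iv3 F54894)) (tt N23033 (iv4 F54895)) (tt N23036 D34649) (tt N5402 (iv6 D16783)) (tt N23037 D34650))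
theorem Q11307 : ∀ i, i < 11307 → P i := stepQ 11306 Q11306 (allL N11306 (tt N22929 (iv1 F54655)) (tt N22928 (iv0 F54654)) (tt N22931 (iv2 F54658)) (tt N5421 F27545) (tt N23014 (iv4 F54866)) (tt N23038 D34651) (tt N5403 (iv6 D16784)) (tt N5404 F27546))
theorem Q11308 : ∀ i, i < 11308 → P i := stepQ 11307 Q11307 (allL N11307 (tt N22931 (iv1 F54661)) (tt N5404 (iv0 D16785)) (tt N22928 (iv2 F113013)) (tt N22962 F296294) (tt N23039 D34654) (tt N23040 D34655) (tt N22960 F296295) (tt N22929 (iv7 F113014)))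
theorem Q11309 : ∀ i, i < 11309 → P i := stepQ 11308 Q11308 (allL N11308 (tt N5404 (iv1 D16786)) (tt N22931 F54660) (tt N22929 F113018) (tt N23041 D34657) (tt N23042 D34658) (tt N23043 D34659) (tt N23044 D34660) (tt N22928 F113019))
theorem Q11310 : ∀ i, i < 11310 → P i := stepQ 11309 Q11309 (allL N11309 (tt N12188 F296296) (tt N15984 F326187) (tt N22930 (iv2 F54656)) (tt N5424 F27547) (tt N23045 D34663) (tt N5404 (iv5 D16787)) (tt N5406 F27548) (tt N23038 (iv7 F54899)))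
theorem Q11311 : ∀ i, i < 11311 → P i := stepQ 11310 Q11310 (allL N11310 (tt N5819 (iv1 F28026)) (tt N11597 F28086) (tt N11566 (iv2 F28044)) (tt N5405 (iv3 D16788)) (tt N5719 F27549) (tt N23046 D34664) (tt N11253 F27550) (tt N5940 F27551))
theorem Q11312 : ∀ i, i < 11312 → P i := stepQ 11311 Q11311 (allL N11311 (tt N11257 F27554) (tt N5642 F27555) (tt N5945 F27552) (tt N23046 (iv3 F54903)) (tt N23047 D34665) (tt N5405 (iv5 D16789)) (tt N15943 F325596) (tt N5942 F27553))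
theorem Q11313 : ∀ i, i < 11313 → P i := stepQ 11312 Q11312 (allL N11312 (tt N23048 D34667) (tt N23049 D34668) (tt N22932 (iv2 F54662)) (tt N23050 D34669) (tt N5406 (iv4 D16790)) (tt N23051 D34670) (tt N23045 (iv6 F54902)) (tt N5947 F27556))
theorem Q11314 : ∀ i, i < 11314 → P i := stepQ 11313 Q11313 (allL N11313 (tt N23052 D34671) (tt N23053 D34672) (tt N5408 F27557) (tt N17410 (iv3 F43082)) (tt N22996 (iv4 F54854)) (tt N21256 (iv5 F50664)) (tt N5407 (iv6 D16791)) (tt N23054 D34673))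
theorem Q11315 : ∀ i, i < 11315 → P i := stepQ 11314 Q11314 (allL N11314 (tt N23054 (iv1 F54930)) (tt N5408 (iv0 D16792)) (tt N23052 F113763) (tt N19500 F311209) (tt N19239 (iv4 F312640)) (tt N23055 D34677) (tt N23056 D34678) (tt N23053 (iv7 F113771)))
theorem Q11316 : ∀ i, i < 11316 → P i := stepQ 11315 Q11315 (allL N11315 (tt N5408 (iv1 D16793)) (tt N23054 F54929) (tt N23053 (iv2 F113770)) (tt N23057 D34680) (tt N23058 D34681) (tt N23059 D34682) (tt N23060 D34683) (tt N23052 F113769))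
theorem Q11317 : ∀ i, i < 11317 → P i := stepQ 11316 Q11316 (allL N11316 (tt N23061 D34684) (tt N23062 D34685) (tt N21256 (iv2 F50663)) (tt N5411 F27558) (tt N23063 D34686) (tt N5408 (iv5 D16794)) (tt N10487 F27559) (tt N23064 D34687))
theorem Q11318 : ∀ i, i < 11318 → P i := stepQ 11317 Q11317 (allL N11317 (tt N23053 (iv1 F54926)) (tt N23052 F54928) (tt N23054 (iv2 F54927)) (tt N5412 F27560) (tt N23002 (iv4 F54859)) (tt N23064 (iv5 F54935)) (tt N17362 (iv6 F42950)) (tt N5408 (iv7 D16795)))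
theorem Q11319 : ∀ i, i < 11319 → P i := stepQ 11318 Q11318 (allL N11318 (tt N22105 (iv1 F130871)) (tt N11798 (iv0 F130872)) (tt N22104 (iv2 F130869)) (tt N5409 (iv3 D16797)) (tt N23065 D34691) (tt N23066 D34692) (tt N21456 F51342) (tt N17417 (iv7 F51331)))
theorem Q11320 : ∀ i, i < 11320 → P i := stepQ 11319 Q11319 (allL N11319 (tt N22451 (iv1 F53143)) (tt N23067 D34693) (tt N17416 (iv2 F51333)) (tt N23066 (iv3 F54936)) (tt N23068 D34694) (tt N5409 (iv5 D16799)) (tt N21460 (iv6 F51345)) (tt N17418 (iv7 F51332)))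
theorem Q11321 : ∀ i, i < 11321 → P i := stepQ 11320 Q11320 (allL N11320 (tt N11468 F232390) (tt N21987 F232391) (tt N21985 (iv2 F232463)) (tt N5410 (iv3 D16801)) (tt N22872 F301903) (tt N23069 D34699) (tt N22870 (iv6 F303558)) (tt N17415 F51334))
theorem Q11322 : ∀ i, i < 11322 → P i := stepQ 11321 Q11321 (allL N11321 (tt N23067 (iv1 F54937)) (tt N22451 (iv0 F53142)) (tt N17418 (iv2 F51336)) (tt N23069 (iv3 F54940)) (tt N23070 D34701) (tt N5410 (iv5 D16803)) (tt N23071 D34702) (tt N17416 F51335))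
theorem Q11323 : ∀ i, i < 11323 → P i := stepQ 11322 Q11322 (allL N11322 (tt N22025 F52379) (tt N17091 F53203) (tt N17419 (iv2 F51237)) (tt N22870 (iv3 F303557)) (tt N11571 F300753) (tt N22477 (iv5 F53201)) (tt N5410 (iv6 D16804)) (tt N21449 (iv7 F51232)))
theorem Q11324 : ∀ i, i < 11324 → P i := stepQ 11323 Q11323 (allL N11323 (tt N17422 (iv1 F43103)) (tt N5411 (iv0 D16805)) (tt N17420 F43092) (tt N23072 D34703) (tt N23073 D34704) (tt N12452 (iv5 F30426)) (tt N23074 D34705) (tt N12451 F30427))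
theorem Q11325 : ∀ i, i < 11325 → P i := stepQ 11324 Q11324 (allL N11324 (tt N5411 (iv1 D16806)) (tt N17422 F43102) (tt N12451 (iv2 F30422)) (tt N23075 D34706) (tt N23076 D34707) (tt N8832 (iv5 F27563)) (tt N23077 D34708) (tt N17420 (iv7 F43093)))
theorem Q11326 : ∀ i, i < 11326 → P i := stepQ 11325 Q11325 (allL N11325 (tt N23078 D34709) (tt N23079 D34710) (tt N17421 (iv2 F43095)) (tt N23080 D34711) (tt N5411 (iv4 D16807)) (tt N17958 (iv5 F44935)) (tt N10493 F27564) (tt N17957 (iv7 F44932)))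
theorem Q11327 : ∀ i, i < 11327 → P i := stepQ 11326 Q11326 (allL N11326 (tt N12451 F29954) (tt N17420 F43094) (tt N17422 (iv2 F43099)) (tt N23064 (iv3 F54934)) (tt N17957 (iv4 F44931)) (tt N5412 F27565) (tt N23081 D34712) (tt N5411 (iv7 D16808)))
theorem Q11328 : ∀ i, i < 11328 → P i := stepQ 11327 Q11327 (allL N11327 (tt N13845 (iv1 F116656)) (tt N5413 (iv0 D16815)) (tt N13846 (iv2 F116654)) (tt N23027 (iv3 F91401)) (tt N23082 D34715) (tt N6004 (iv5 F61594)) (tt N13841 (iv6 F116661)) (tt N5798 F116632))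
theorem Q11329 : ∀ i, i < 11329 → P i := stepQ 11328 Q11328 (allL N11328 (tt N13846 (iv1 F116653)) (tt N5798 F116630) (tt N5413 (iv2 D16817)) (tt N17407 (iv3 F298607)) (tt N22820 (iv4 F311413)) (tt N17405 F296932) (tt N23083 D34725) (tt N13845 F116704))
theorem Q11330 : ∀ i, i < 11330 → P i := stepQ 11329 Q11329 (allL N11329 (tt N23084 D34726) (tt N13850 (iv0 F59814)) (tt N22820 (iv2 F311412)) (tt N23085 D34728) (tt N5413 (iv4 D16818)) (tt N22814 F309204) (tt N23086 D34730) (tt N17433 (iv7 F43228)))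
theorem Q11331 : ∀ i, i < 11331 → P i := stepQ 11330 Q11330 (allL N11330 (tt N23087 D34731) (tt N10890 F308506) (tt N17405 F297701) (tt N5415 F27574) (tt N15334 F308507) (tt N5413 (iv5 D16819)) (tt N23088 D34734) (tt N15332 F308508))
theorem Q11332 : ∀ i, i < 11332 → P i := stepQ 11331 Q11331 (allL N11331 (tt N23089 D34735) (tt N23090 D34736) (tt N23083 (iv2 F54962)) (tt N5416 F27575) (tt N23086 (iv4 F54964)) (tt N17993 (iv5 F45059)) (tt N5413 (iv6 D16820)) (tt N23091 D34737))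
theorem Q11333 : ∀ i, i < 11333 → P i := stepQ 11332 Q11332 (allL N11332 (tt N21834 (iv1 F130800)) (tt N10616 (iv0 F130801)) (tt N21833 (iv2 F130799)) (tt N5414 (iv3 D16824)) (tt N23085 (iv4 F54963)) (tt N23092 D34741) (tt N23093 D34742) (tt N17435 (iv7 F43233)))
theorem Q11334 : ∀ i, i < 11334 → P i := stepQ 11333 Q11333 (allL N11333 (tt N21635 (iv1 F51610)) (tt N23094 D34743) (tt N17427 F43205) (tt N23092 (iv3 F54968)) (tt N23095 D34744) (tt N5414 (iv5 D16825)) (tt N23096 D34745) (tt N17436 (iv7 F43235)))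
theorem Q11335 : ∀ i, i < 11335 → P i := stepQ 11334 Q11334 (allL N11334 (tt N11980 (iv1 F46226)) (tt N21875 F52089) (tt N17428 F43196) (tt N23093 (iv3 F54969)) (tt N5416 F27578) (tt N14832 F37194) (tt N5414 (iv6 D16826)) (tt N18467 (iv7 F46003)))
theorem Q11336 : ∀ i, i < 11336 → P i := stepQ 11335 Q11335 (allL N11335 (tt N5419 (iv1 F27587)) (tt N5415 (iv0 D16828)) (tt N12497 (iv2 F30011)) (tt N17423 F300703) (tt N22029 (iv4 F52384)) (tt N5979 F27582) (tt N12373 (iv6 F29731)) (tt N5840 F29734))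
theorem Q11337 : ∀ i, i < 11337 → P i := stepQ 11336 Q11336 (allL N11336 (tt N21824 (iv1 F51982)) (tt N11994 F300704) (tt N17429 F43208) (tt N7437 F308388) (tt N5415 (iv4 D16830)) (tt N7436 (iv5 F310466)) (tt N21870 F52072) (tt N15337 F308389))
theorem Q11338 : ∀ i, i < 11338 → P i := stepQ 11337 Q11337 (allL N11337 (tt N5811 F27584) (tt N12405 F29847) (tt N17430 F43140) (tt N23088 (iv3 F54965)) (tt N21870 (iv4 F52071)) (tt N17886 F44749) (tt N5415 (iv6 D16831)) (tt N11540 (iv7 F28003)))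
theorem Q11339 : ∀ i, i < 11339 → P i := stepQ 11338 Q11338 (allL N11338 (tt N5416 (iv1 D16834)) (tt N17432 F43219) (tt N17431 (iv2 F43215)) (tt N23024 F117801) (tt N21448 (iv4 F51220)) (tt N12524 F30090) (tt N12405 (iv6 F29843)) (tt N5814 F29846))
theorem Q11340 : ∀ i, i < 11340 → P i := stepQ 11339 Q11339 (allL N11339 (tt N17431 (iv1 F43212)) (tt N5814 F43155) (tt N17432 (iv2 F43216)) (tt N23091 (iv3 F54966)) (tt N18467 (iv4 F46004)) (tt N6034 F43156) (tt N17439 (iv6 F43251)) (tt N5416 (iv7 D16835)))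
theorem Q11341 : ∀ i, i < 11341 → P i := stepQ 11340 Q11340 (allL N11340 (tt N5417 (iv1 D16838)) (tt N17407 (iv0 F298604)) (tt N17423 (iv2 F91471)) (tt N23018 (iv3 F113085)) (tt N23097 D34756) (tt N6018 (iv5 F91477)) (tt N17622 (iv6 F117242)) (tt N5829 F117184))
theorem Q11342 : ∀ i, i < 11342 → P i := stepQ 11341 Q11341 (allL N11341 (tt N5829 F117202) (tt N17423 F43186) (tt N5417 (iv2 D16839)) (tt N13845 F116706) (tt N23098 D34759) (tt N17381 (iv5 F297359)) (tt N11528 (iv6 F298796)) (tt N17407 (iv7 F298608)))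
theorem Q11343 : ∀ i, i < 11343 → P i := stepQ 11342 Q11342 (allL N11342 (tt N17623 (iv1 F91392)) (tt N23099 D34763) (tt N23098 (iv2 F54980)) (tt N23100 D34764) (tt N5417 (iv4 D16840)) (tt N23101 D34765) (tt N23102 D34766) (tt N17424 (iv7 F43183)))
theorem Q11344 : ∀ i, i < 11344 → P i := stepQ 11343 Q11343 (allL N11343 (tt N11531 (iv1 F299727)) (tt N11524 F298929) (tt N11528 F298930) (tt N5420 F27590) (tt N23102 (iv4 F54984)) (tt N23103 D34772) (tt N5417 (iv6 D16842)) (tt N11529 F298931))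
theorem Q11345 : ∀ i, i < 11345 → P i := stepQ 11344 Q11344 (allL N11344 (tt N10534 F155355) (tt N21781 F155356) (tt N21780 (iv2 F155247)) (tt N5418 (iv3 D16843)) (tt N23100 (iv4 F54983)) (tt N23104 D34777) (tt N23105 D34778) (tt N17426 (iv7 F43180)))
theorem Q11346 : ∀ i, i < 11346 → P i := stepQ 11345 Q11345 (allL N11345 (tt N23094 (iv1 F54970)) (tt N21635 (iv0 F51609)) (tt N17436 (iv2 F43234)) (tt N23104 (iv3 F54987)) (tt N23106 D34779) (tt N5418 (iv5 D16844)) (tt N23107 D34780) (tt N17427 (iv7 F43181)))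
theorem Q11347 : ∀ i, i < 11347 → P i := stepQ 11346 Q11346 (allL N11346 (tt N21819 F51973) (tt N11989 F300282) (tt N17437 (iv2 F43236)) (tt N23105 (iv3 F54988)) (tt N5420 F27591) (tt N21732 (iv5 F51776)) (tt N5418 (iv6 D16845)) (tt N21818 F51968))
theorem Q11348 : ∀ i, i < 11348 → P i := stepQ 11347 Q11347 (allL N11347 (tt N11994 F300105) (tt N21824 F51981) (tt N15337 F309149) (tt N23108 D34781) (tt N5419 (iv4 D16846)) (tt N18622 F46261) (tt N10524 (iv6 F43129)) (tt N17429 F43207))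
theorem Q11349 : ∀ i, i < 11349 → P i := stepQ 11348 Q11348 (allL N11348 (tt N17439 (iv1 F43253)) (tt N5420 (iv0 D16847)) (tt N12373 F29758) (tt N23035 (iv3 F117868)) (tt N22025 (iv4 F52377)) (tt N8800 F27592) (tt N12497 (iv6 F30012)) (tt N5839 F29759))
theorem Q11350 : ∀ i, i < 11350 → P i := stepQ 11349 Q11349 (allL N11349 (tt N5961 F28001) (tt N5959 (iv0 F27593)) (tt N17438 (iv2 F43244)) (tt N23103 (iv3 F54985)) (tt N23109 D34783) (tt N5420 (iv5 D16849)) (tt N11537 (iv6 F28000)) (tt N17859 (iv7 F44621)))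
theorem Q11351 : ∀ i, i < 11351 → P i := stepQ 11350 Q11350 (allL N11350 (tt N5839 F43192) (tt N12373 F43193) (tt N17439 (iv2 F43249)) (tt N11529 (iv3 F298784)) (tt N21818 (iv4 F51967)) (tt N17859 F44622) (tt N17432 (iv6 F43218)) (tt N5420 (iv7 D16850)))
theorem Q11352 : ∀ i, i < 11352 → P i := stepQ 11351 Q11351 (allL N11351 (tt N11542 (iv1 F28004)) (tt N11541 F28011) (tt N11544 (iv2 F28008)) (tt N23038 (iv3 F54897)) (tt N23110 D34784) (tt N5421 (iv5 D16851)) (tt N6029 F27594) (tt N5424 F27595))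
theorem Q11353 : ∀ i, i < 11353 → P i := stepQ 11352 Q11352 (allL N11352 (tt N13841 F116703) (tt N5801 (iv0 F116746)) (tt N13839 F116785) (tt N5422 (iv3 D16853)) (tt N15333 F309141) (tt N23111 D34789) (tt N15332 F309142) (tt N11538 F43189))
theorem Q11354 : ∀ i, i < 11354 → P i := stepQ 11353 Q11353 (allL N11353 (tt N17863 F44695) (tt N17893 (iv0 F44788)) (tt N11537 (iv2 F43191)) (tt N23111 (iv3 F54998)) (tt N23112 D34790) (tt N5422 (iv5 D16855)) (tt N17438 (iv6 F43245)) (tt N11539 F43190))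
theorem Q11355 : ∀ i, i < 11355 → P i := stepQ 11354 Q11354 (allL N11354 (tt N5826 F117286) (tt N17622 F117287) (tt N17620 (iv2 F117350)) (tt N5423 (iv3 D16857)) (tt N23113 D34794) (tt N23114 D34795) (tt N23115 D34796) (tt N11536 (iv7 F43169)))
theorem Q11356 : ∀ i, i < 11356 → P i := stepQ 11355 Q11355 (allL N11355 (tt N17893 (iv1 F44789)) (tt N17863 (iv0 F44694)) (tt N11539 F43172) (tt N23114 (iv3 F54999)) (tt N23116 D34797) (tt N5423 (iv5 D16859)) (tt N17516 (iv6 F43551)) (tt N11537 (iv7 F43171)))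
theorem Q11357 : ∀ i, i < 11357 → P i := stepQ 11356 Q11356 (allL N11356 (tt N12405 F43165) (tt N5811 F43166) (tt N11540 F43167) (tt N23115 (iv3 F55000)) (tt N21803 (iv4 F51921)) (tt N17885 (iv5 F44743)) (tt N5423 (iv6 D16860)) (tt N17430 (iv7 F43168)))
theorem Q11358 : ∀ i, i < 11358 → P i := stepQ 11357 Q11357 (allL N11357 (tt N11544 (iv1 F28013)) (tt N5424 (iv0 D16861)) (tt N11541 F44671) (tt N23117 D34798) (tt N23118 D34799) (tt N12369 (iv5 F29723)) (tt N23119 D34800) (tt N11542 (iv7 F44670)))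
theorem Q11359 : ∀ i, i < 11359 → P i := stepQ 11358 Q11358 (allL N11358 (tt N5424 (iv1 D16862)) (tt N11544 F28012) (tt N11542 (iv2 F44672)) (tt N23120 D34801) (tt N23121 D34802) (tt N8855 (iv5 F27598)) (tt N23122 D34803) (tt N11541 (iv7 F44667)))
theorem Q11360 : ∀ i, i < 11360 → P i := stepQ 11359 Q11359 (allL N11359 (tt N23123 D34804) (tt N23124 D34805) (tt N11543 (iv2 F28006)) (tt N23125 D34806) (tt N5424 (iv4 D16863)) (tt N23126 D34807) (tt N5425 F27599) (tt N23110 (iv7 F54997)))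
theorem Q11361 : ∀ i, i < 11361 → P i := stepQ 11360 Q11360 (allL N11360 (tt N23127 D34808) (tt N23128 D34809) (tt N23129 D34810) (tt N5425 (iv3 D16864)) (tt N23050 (iv4 F54921)) (tt N8866 F27600) (tt N23125 (iv6 F55010)) (tt N6046 F27601))
theorem Q11362 : ∀ i, i < 11362 → P i := stepQ 11361 Q11361 (allL N11361 (tt N7174 (iv1 F27603)) (tt N5426 (iv0 D16865)) (tt N7173 (iv2 F27602)) (tt N18157 (iv3 F45391)) (tt N17101 (iv4 F42216)) (tt N21537 (iv5 F51468)) (tt N17314 (iv6 F42760)) (tt N7172 F27604))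
theorem Q11363 : ∀ i, i < 11363 → P i := stepQ 11362 Q11362 (allL N11362 (tt N7173 (iv1 F27609)) (tt N7172 F27608) (tt N5426 (iv2 D16866)) (tt N8070 F27605) (tt N5432 F27606) (tt N16529 (iv5 F40650)) (tt N17122 (iv6 F42289)) (tt N7174 F27607))
theorem Q11364 : ∀ i, i < 11364 → P i := stepQ 11363 Q11363 (allL N11363 (tt N17125 F42300) (tt N17111 (iv0 F42250)) (tt N17122 F42290) (tt N5427 F27610) (tt N5433 F27611) (tt N23130 D34811) (tt N5426 (iv6 D16867)) (tt N17123 (iv7 F42292)))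
theorem Q11365 : ∀ i, i < 11365 → P i := stepQ 11364 Q11364 (allL N11364 (tt N8014 F27616) (tt N5427 (iv0 D16868)) (tt N8096 (iv2 F27613)) (tt N23131 D34812) (tt N5443 F27612) (tt N23132 D34813) (tt N7317 (iv6 F27614)) (tt N8097 (iv7 F27615)))
theorem Q11366 : ∀ i, i < 11366 → P i := stepQ 11365 Q11365 (allL N11365 (tt N5427 (iv1 D16869)) (tt N8014 F27617) (tt N8097 F27620) (tt N17314 (iv3 F42759)) (tt N5437 (iv4 F27619)) (tt N23133 D34814) (tt N18157 (iv6 F45392)) (tt N8096 F27618))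
theorem Q11367 : ∀ i, i < 11367 → P i := stepQ 11366 Q11366 (allL N11366 (tt N23134 D34815) (tt N23135 D34816) (tt N8098 F27621) (tt N23130 (iv3 F55018)) (tt N23136 D34817) (tt N5427 (iv5 D16870)) (tt N16533 (iv6 F40655)) (tt N23137 D34818))
theorem Q11368 : ∀ i, i < 11368 → P i := stepQ 11367 Q11367 (allL N11367 (tt N8097 (iv1 F27625)) (tt N8096 F27626) (tt N8014 F27622) (tt N17123 F42293) (tt N5429 F27623) (tt N23137 (iv5 F55035)) (tt N7163 F27624) (tt N5427 (iv7 D16871)))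
theorem Q11369 : ∀ i, i < 11369 → P i := stepQ 11368 Q11368 (allL N11368 (tt N11386 (iv1 F27679)) (tt N7269 F27630) (tt N8099 F27627) (tt N23138 D34819) (tt N5428 (iv4 D16872)) (tt N23139 D34820) (tt N7691 F27628) (tt N8101 F27629))
theorem Q11370 : ∀ i, i < 11370 → P i := stepQ 11369 Q11369 (allL N11369 (tt N10737 F27633) (tt N10811 (iv0 F27634)) (tt N7219 (iv2 F37271)) (tt N9133 F27632) (tt N5430 (iv4 D16874)) (tt N23140 D34821) (tt N23141 D34822) (tt N7215 (iv7 F37272)))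
theorem Q11371 : ∀ i, i < 11371 → P i := stepQ 11370 Q11370 (allL N11370 (tt N10709 F50828) (tt N8349 F50829) (tt N7221 (iv2 F37274)) (tt N9137 F27636) (tt N23141 (iv4 F55049)) (tt N20413 F322094) (tt N5430 (iv6 D16876)) (tt N10708 F50889))
theorem Q11372 : ∀ i, i < 11372 → P i := stepQ 11371 Q11371 (allL N11371 (tt N10642 (iv1 F27642)) (tt N8335 (iv0 F27641)) (tt N9119 F27639) (tt N5431 (iv3 D16878)) (tt N10793 F27640) (tt N21542 (iv5 F51478)) (tt N19461 (iv6 F54242)) (tt N7218 F37234))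
theorem Q11373 : ∀ i, i < 11373 → P i := stepQ 11372 Q11372 (allL N11372 (tt N10811 F27645) (tt N10737 (iv0 F27647)) (tt N7215 F37235) (tt N7262 (iv3 F27646)) (tt N5431 (iv4 D16879)) (tt N23142 D34824) (tt N19462 (iv6 F54243)) (tt N7219 F37236))
theorem Q11374 : ∀ i, i < 11374 → P i := stepQ 11373 Q11373 (allL N11373 (tt N23143 D34825) (tt N9135 F50933) (tt N5433 F27648) (tt N9111 F27649) (tt N17122 F42291) (tt N23144 D34826) (tt N5432 (iv6 D16882)) (tt N23145 D34827))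
theorem Q11375 : ∀ i, i < 11375 → P i := stepQ 11374 Q11374 (allL N11374 (tt N23145 (iv1 F55073)) (tt N5433 (iv0 D16883)) (tt N23143 F55063) (tt N9142 F50864) (tt N23146 D34828) (tt N23147 D34829) (tt N19478 (iv6 F54272)) (tt N9135 F50865))
theorem Q11376 : ∀ i, i < 11376 → P i := stepQ 11375 Q11375 (allL N11375 (tt N5433 (iv1 D16884)) (tt N23145 F55072) (tt N9135 F51727) (tt N23148 D34830) (tt N23149 D34831) (tt N23150 D34832) (tt N9132 F51728) (tt N23143 (iv7 F55064)))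
theorem Q11377 : ∀ i, i < 11377 → P i := stepQ 11376 Q11376 (allL N11376 (tt N23151 D34833) (tt N23152 D34834) (tt N23144 (iv2 F55066)) (tt N5434 F27650) (tt N23153 D34835) (tt N5433 (iv5 D16885)) (tt N12654 (iv6 F30329)) (tt N23154 D34836))
theorem Q11378 : ∀ i, i < 11378 → P i := stepQ 11377 Q11377 (allL N11377 (tt N9135 F50934) (tt N23143 F55065) (tt N23145 (iv2 F55068)) (tt N5435 F27651) (tt N17123 F42294) (tt N23154 (iv5 F55094)) (tt N7210 F27652) (tt N5433 (iv7 D16886)))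
theorem Q11379 : ∀ i, i < 11379 → P i := stepQ 11378 Q11378 (allL N11378 (tt N17319 (iv1 F42773)) (tt N17322 (iv0 F42781)) (tt N9172 F27653) (tt N23155 D34837) (tt N5434 (iv4 D16887)) (tt N18475 (iv5 F46009)) (tt N12657 (iv6 F30332)) (tt N18628 (iv7 F46271)))
theorem Q11380 : ∀ i, i < 11380 → P i := stepQ 11379 Q11379 (allL N11379 (tt N9171 (iv1 F27656)) (tt N9170 F27657) (tt N9102 F27654) (tt N23154 (iv3 F55093)) (tt N18628 (iv4 F46272)) (tt N5435 F27655) (tt N23156 D34838) (tt N5434 (iv7 D16888)))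
theorem Q11381 : ∀ i, i < 11381 → P i := stepQ 11380 Q11380 (allL N11380 (tt N11394 (iv1 F27699)) (tt N11446 (iv0 F27803)) (tt N11401 (iv2 F27712)) (tt N5438 F27658) (tt N21489 (iv4 F51379)) (tt N5437 (iv5 D16889)) (tt N8536 F27660) (tt N9173 F27659))
theorem Q11382 : ∀ i, i < 11382 → P i := stepQ 11381 Q11381 (allL N11381 (tt N5440 (iv1 D16890)) (tt N7243 F27665) (tt N7241 F27663) (tt N17166 (iv3 F42412)) (tt N7408 (iv4 F27662)) (tt N23157 D34839) (tt N7407 F27664) (tt N7242 F27661))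
theorem Q11383 : ∀ i, i < 11383 → P i := stepQ 11382 Q11382 (allL N11382 (tt N7242 (iv1 F27670)) (tt N7241 F27669) (tt N5440 (iv2 D16891)) (tt N14919 (iv3 F37433)) (tt N5475 F27666) (tt N16397 (iv5 F40471)) (tt N9104 F27667) (tt N7243 F27668))
theorem Q11384 : ∀ i, i < 11384 → P i := stepQ 11383 Q11383 (allL N11383 (tt N5653 F27673) (tt N16399 F40477) (tt N16397 F40472) (tt N5441 F27671) (tt N23158 D34840) (tt N5440 (iv5 D16892)) (tt N23159 D34841) (tt N7244 F27672))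
theorem Q11385 : ∀ i, i < 11385 → P i := stepQ 11384 Q11384 (allL N11384 (tt N23160 D34842) (tt N23161 D34843) (tt N14934 (iv2 F37461)) (tt N23159 (iv3 F55105)) (tt N7245 F27674) (tt N23162 D34844) (tt N5441 (iv6 D16893)) (tt N23163 D34845))
theorem Q11386 : ∀ i, i < 11386 → P i := stepQ 11385 Q11385 (allL N11385 (tt N23164 D34846) (tt N23165 D34847) (tt N14938 (iv2 F37468)) (tt N16426 (iv3 F40513)) (tt N23166 D34848) (tt N5442 (iv5 D16894)) (tt N23162 (iv6 F55106)) (tt N23167 D34849))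
theorem Q11387 : ∀ i, i < 11387 → P i := stepQ 11386 Q11386 (allL N11386 (tt N9175 (iv1 F27678)) (tt N11368 F27679) (tt N14913 (iv2 F37416)) (tt N9105 F27675) (tt N5444 F27676) (tt N23167 (iv5 F55112)) (tt N7240 F27677) (tt N5442 (iv7 D16895)))
theorem Q11388 : ∀ i, i < 11388 → P i := stepQ 11387 Q11387 (allL N11387 (tt N11446 F27804) (tt N11394 (iv0 F27698)) (tt N9173 F27680) (tt N9504 F27681) (tt N19401 (iv4 F47547)) (tt N5443 (iv5 D16896)) (tt N7318 F27682) (tt N11401 (iv7 F27714)))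
theorem Q11389 : ∀ i, i < 11389 → P i := stepQ 11388 Q11388 (allL N11388 (tt N14916 (iv1 F37425)) (tt N5445 (iv0 D16897)) (tt N14915 F106561) (tt N23168 D34851) (tt N23169 D34852) (tt N16452 (iv5 F65521)) (tt N23170 D34854) (tt N14914 (iv7 F106564)))
theorem Q11390 : ∀ i, i < 11390 → P i := stepQ 11389 Q11389 (allL N11389 (tt N5445 (iv1 D16898)) (tt N14916 F37427) (tt N14914 (iv2 F106563)) (tt N23171 D34856) (tt N23172 D34857) (tt N16453 (iv5 F46143)) (tt N23173 D34858) (tt N14915 F106562))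
theorem Q11391 : ∀ i, i < 11391 → P i := stepQ 11390 Q11390 (allL N11390 (tt N14915 (iv1 F37426)) (tt N14914 F37421) (tt N5445 (iv2 D16899)) (tt N5464 F27683) (tt N13399 (iv4 F32464)) (tt N23174 D34859) (tt N6534 F27684) (tt N14916 (iv7 F37424)))
theorem Q11392 : ∀ i, i < 11392 → P i := stepQ 11391 Q11391 (allL N11391 (tt N23175 D34860) (tt N23176 D34861) (tt N23174 (iv2 F55124)) (tt N5446 F27685) (tt N23177 D34862) (tt N5445 (iv5 D16900)) (tt N13607 (iv6 F33116)) (tt N8088 F27686))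
theorem Q11393 : ∀ i, i < 11393 → P i := stepQ 11392 Q11392 (allL N11392 (tt N23178 D34863) (tt N23179 D34864) (tt N5467 F27687) (tt N13607 (iv3 F33115)) (tt N5651 F27688) (tt N13606 (iv5 F33112)) (tt N5446 (iv6 D16901)) (tt N23180 D34865))
theorem Q11394 : ∀ i, i < 11394 → P i := stepQ 11393 Q11393 (allL N11393 (tt N5469 (iv1 F27694)) (tt N5468 F27695) (tt N5471 F27689) (tt N6535 F27690) (tt N5450 F27691) (tt N6585 F27692) (tt N10638 F27693) (tt N5447 (iv7 D16902)))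
theorem Q11395 : ∀ i, i < 11395 → P i := stepQ 11394 Q11394 (allL N11394 (tt N11387 F27698) (tt N11380 F27699) (tt N5476 F27696) (tt N8296 F27697) (tt N16377 (iv4 F40435)) (tt N18629 (iv5 F46276)) (tt N5449 (iv6 D16903)) (tt N18629 (iv7 F46280)))
theorem Q11396 : ∀ i, i < 11396 → P i := stepQ 11395 Q11395 (allL N11395 (tt N14886 (iv1 F37358)) (tt N14888 (iv0 F37359)) (tt N16396 (iv2 F40467)) (tt N5452 F27700) (tt N23181 D34866) (tt N5451 (iv5 D16904)) (tt N23182 D34867) (tt N16358 (iv7 F40381)))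
theorem Q11397 : ∀ i, i < 11397 → P i := stepQ 11396 Q11396 (allL N11396 (tt N23183 D34868) (tt N23184 D34869) (tt N16356 (iv2 F40375)) (tt N23182 (iv3 F55144)) (tt N16359 (iv4 F40383)) (tt N23185 D34870) (tt N5452 (iv6 D16905)) (tt N23186 D34871))
theorem Q11398 : ∀ i, i < 11398 → P i := stepQ 11397 Q11397 (allL N11397 (tt N23187 D34872) (tt N23188 D34873) (tt N16357 (iv2 F40377)) (tt N16272 (iv3 F40243)) (tt N23189 D34874) (tt N5453 (iv5 D16906)) (tt N23185 (iv6 F55145)) (tt N23190 D34875))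
theorem Q11399 : ∀ i, i < 11399 → P i := stepQ 11398 Q11398 (allL N11398 (tt N11449 (iv1 F27818)) (tt N11447 (iv0 F27808)) (tt N15030 (iv2 F37699)) (tt N9054 F27701) (tt N5456 F27702) (tt N23190 (iv5 F55152)) (tt N7300 F27703) (tt N5453 (iv7 D16907)))
theorem Q11400 : ∀ i, i < 11400 → P i := stepQ 11399 Q11399 (allL N11399 (tt N10480 F27706) (tt N5461 (iv0 F27707)) (tt N10477 F27704) (tt N23191 D34876) (tt N5454 (iv4 D16908)) (tt N23192 D34877) (tt N23193 D34878) (tt N10478 F27705))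
theorem Q11401 : ∀ i, i < 11401 → P i := stepQ 11400 Q11400 (allL N11400 (tt N9074 F27710) (tt N9073 (iv0 F27711)) (tt N9075 F27708) (tt N11448 (iv3 F27810)) (tt N23194 D34879) (tt N5454 (iv5 D16909)) (tt N14904 (iv6 F37397)) (tt N7237 F27709))
theorem Q11402 : ∀ i, i < 11402 → P i := stepQ 11401 Q11401 (allL N11401 (tt N5476 (iv1 F27716)) (tt N18629 F46279) (tt N11380 F27712) (tt N8102 F27713) (tt N23193 (iv4 F55159)) (tt N7270 F27715) (tt N5454 (iv6 D16910)) (tt N11387 F27714))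
theorem Q11403 : ∀ i, i < 11403 → P i := stepQ 11402 Q11402 (allL N11402 (tt N5461 F27720) (tt N10480 (iv0 F27721)) (tt N10478 F27717) (tt N21504 (iv3 F51405)) (tt N5455 (iv4 D16911)) (tt N23195 D34880) (tt N9505 F27718) (tt N10477 F27719))
theorem Q11404 : ∀ i, i < 11404 → P i := stepQ 11403 Q11403 (allL N11403 (tt N16353 (iv1 F40369)) (tt N5457 (iv0 D16912)) (tt N16352 F42934) (tt N11452 F27823) (tt N23196 D34881) (tt N14929 F54362) (tt N23197 D34882) (tt N16351 (iv7 F42930)))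
theorem Q11405 : ∀ i, i < 11405 → P i := stepQ 11404 Q11404 (allL N11404 (tt N5457 (iv1 D16913)) (tt N16353 F40370) (tt N16351 (iv2 F42935)) (tt N17531 (iv3 F43600)) (tt N21474 (iv4 F51356)) (tt N14930 (iv5 F54179)) (tt N16351 (iv6 F50912)) (tt N16352 F42936))
theorem Q11406 : ∀ i, i < 11406 → P i := stepQ 11405 Q11405 (allL N11405 (tt N16352 F40365) (tt N16351 F40363) (tt N5457 (iv2 D16914)) (tt N5652 F27722) (tt N11405 F27723) (tt N21322 (iv5 F54193)) (tt N15022 (iv6 F37677)) (tt N16353 (iv7 F40368)))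
theorem Q11407 : ∀ i, i < 11407 → P i := stepQ 11406 Q11406 (allL N11406 (tt N21644 F54194) (tt N23198 D34883) (tt N21322 F54189) (tt N5458 F27724) (tt N21303 (iv4 F54192)) (tt N5457 (iv5 D16915)) (tt N23199 D34884) (tt N16354 (iv7 F40372)))
theorem Q11408 : ∀ i, i < 11408 → P i := stepQ 11407 Q11407 (allL N11407 (tt N23200 D34885) (tt N23201 D34886) (tt N16359 (iv2 F40382)) (tt N23199 (iv3 F55179)) (tt N16356 (iv4 F40376)) (tt N15028 (iv5 F37693)) (tt N5458 (iv6 D16916)) (tt N23202 D34887))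
theorem Q11409 : ∀ i, i < 11409 → P i := stepQ 11408 Q11408 (allL N11408 (tt N5459 (iv1 D16917)) (tt N10515 (iv0 F27728)) (tt N10517 F27727) (tt N13248 (iv3 F31857)) (tt N8493 (iv4 F27726)) (tt N16528 (iv5 F40644)) (tt N13247 F31851) (tt N10518 F27725))
theorem Q11410 : ∀ i, i < 11410 → P i := stepQ 11409 Q11409 (allL N11409 (tt N10518 (iv1 F27733)) (tt N10517 F27732) (tt N5459 (iv2 D16918)) (tt N10473 F27729) (tt N5482 F27730) (tt N23203 D34888) (tt N23204 D34889) (tt N10515 F27731))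
theorem Q11411 : ∀ i, i < 11411 → P i := stepQ 11410 Q11410 (allL N11410 (tt N14746 (iv1 F43064)) (tt N14749 F43063) (tt N23203 (iv2 F55180)) (tt N5460 F27738) (tt N23205 D34890) (tt N5459 (iv5 D16919)) (tt N23206 D34891) (tt N10519 F27739))
theorem Q11412 : ∀ i, i < 11412 → P i := stepQ 11411 Q11411 (allL N11411 (tt N9056 F27742) (tt N23207 D34892) (tt N23204 (iv2 F55185)) (tt N5461 F27740) (tt N5483 F27741) (tt N23208 D34893) (tt N5459 (iv6 D16920)) (tt N23209 D34894))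
theorem Q11413 : ∀ i, i < 11413 → P i := stepQ 11412 Q11412 (allL N11412 (tt N23210 D34895) (tt N23211 D34896) (tt N10476 F27743) (tt N23206 (iv3 F55195)) (tt N8483 F27744) (tt N23212 D34897) (tt N5460 (iv6 D16921)) (tt N23213 D34898))
theorem Q11414 : ∀ i, i < 11414 → P i := stepQ 11413 Q11413 (allL N11413 (tt N23214 D34899) (tt N16316 (iv0 F40329)) (tt N10479 F27745) (tt N23208 (iv3 F55202)) (tt N23215 D34900) (tt N5461 (iv5 D16922)) (tt N23212 (iv6 F55215)) (tt N23216 D34901))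
theorem Q11415 : ∀ i, i < 11415 → P i := stepQ 11414 Q11414 (allL N11414 (tt N10478 (iv1 F27749)) (tt N10477 F27750) (tt N10480 F27746) (tt N23209 (iv3 F55207)) (tt N5479 F27747) (tt N23216 (iv5 F55228)) (tt N7413 F27748) (tt N5461 (iv7 D16923)))
theorem Q11416 : ∀ i, i < 11416 → P i := stepQ 11415 Q11415 (allL N11415 (tt N10514 (iv1 F50852)) (tt N10497 F27756) (tt N5672 F27751) (tt N10613 F27752) (tt N5462 (iv4 D16924)) (tt N18532 (iv5 F46147)) (tt N10215 (iv6 F27755)) (tt N10609 F27753))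
theorem Q11417 : ∀ i, i < 11417 → P i := stepQ 11416 Q11416 (allL N11416 (tt N10743 (iv1 F27843)) (tt N8386 F27844) (tt N10756 F35192) (tt N11795 (iv3 F28381)) (tt N22361 (iv4 F52947)) (tt N5462 (iv5 D16925)) (tt N23217 D34902) (tt N10755 (iv7 F35197)))
theorem Q11418 : ∀ i, i < 11418 → P i := stepQ 11417 Q11417 (allL N11417 (tt N23218 D34903) (tt N21504 (iv0 F51408)) (tt N10216 F27757) (tt N11796 (iv3 F28382)) (tt N10215 F27758) (tt N23219 D34904) (tt N5462 (iv6 D16926)) (tt N23220 D34905))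
theorem Q11419 : ∀ i, i < 11419 → P i := stepQ 11418 Q11418 (allL N11418 (tt N8386 (iv1 F27842)) (tt N10743 F35198) (tt N10755 F35195) (tt N11788 (iv3 F28373)) (tt N23221 D34906) (tt N5463 (iv5 D16927)) (tt N23222 D34907) (tt N10756 F35194))
theorem Q11420 : ∀ i, i < 11420 → P i := stepQ 11419 Q11419 (allL N11419 (tt N11157 F27761) (tt N23223 D34908) (tt N17519 (iv2 F43565)) (tt N7919 F27759) (tt N8978 F27760) (tt N23224 D34909) (tt N5463 (iv6 D16928)) (tt N16124 (iv7 F39961)))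
theorem Q11421 : ∀ i, i < 11421 → P i := stepQ 11420 Q11420 (allL N11420 (tt N17119 (iv1 F42285)) (tt N17117 (iv0 F42273)) (tt N5465 F27762) (tt N23174 (iv3 F55125)) (tt N23225 D34910) (tt N5464 (iv5 D16929)) (tt N23226 D34911) (tt N17520 (iv7 F43570)))
theorem Q11422 : ∀ i, i < 11422 → P i := stepQ 11421 Q11421 (allL N11421 (tt N10581 F27766) (tt N23227 D34912) (tt N5466 F27763) (tt N6534 F27764) (tt N5495 F27765) (tt N6583 (iv5 F27767)) (tt N5464 (iv6 D16930)) (tt N13247 (iv7 F31849)))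
theorem Q11423 : ∀ i, i < 11423 → P i := stepQ 11422 Q11422 (allL N11422 (tt N21917 (iv1 F52182)) (tt N21930 (iv0 F52198)) (tt N23225 (iv2 F55252)) (tt N16389 (iv3 F40456)) (tt N5465 (iv4 D16933)) (tt N23228 D34913) (tt N23229 D34914) (tt N17521 (iv7 F43574)))
theorem Q11424 : ∀ i, i < 11424 → P i := stepQ 11423 Q11423 (allL N11423 (tt N23230 D34915) (tt N23231 D34916) (tt N23226 (iv2 F55255)) (tt N5467 F27768) (tt N23229 (iv4 F55270)) (tt N23232 D34917) (tt N5465 (iv6 D16934)) (tt N23233 D34918))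
theorem Q11425 : ∀ i, i < 11425 → P i := stepQ 11424 Q11424 (allL N11424 (tt N13247 (iv1 F31856)) (tt N5466 (iv0 D16935)) (tt N10581 (iv2 F27772)) (tt N23234 D34919) (tt N10580 F27773) (tt N13233 F32535) (tt N23235 D34920) (tt N23227 (iv7 F55259)))
theorem Q11426 : ∀ i, i < 11426 → P i := stepQ 11425 Q11425 (allL N11425 (tt N5466 (iv1 D16936)) (tt N13247 F31852) (tt N23227 (iv2 F55263)) (tt N5468 (iv3 F27769)) (tt N5507 (iv4 F27770)) (tt N13232 (iv5 F31825)) (tt N23236 D34921) (tt N10581 F27771))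
theorem Q11427 : ∀ i, i < 11427 → P i := stepQ 11426 Q11426 (allL N11426 (tt N13599 (iv1 F33092)) (tt N13598 F33086) (tt N6583 F27774) (tt N5470 F27775) (tt N6844 (iv4 F31352)) (tt N5466 (iv5 D16937)) (tt N23232 (iv6 F55273)) (tt N13600 (iv7 F33090)))
theorem Q11428 : ∀ i, i < 11428 → P i := stepQ 11427 Q11427 (allL N11427 (tt N23227 (iv1 F55258)) (tt N10581 (iv0 F27779)) (tt N13247 (iv2 F31847)) (tt N5471 F27776) (tt N5499 F27777) (tt N13600 (iv5 F33089)) (tt N10517 F27778) (tt N5466 (iv7 D16938)))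
theorem Q11429 : ∀ i, i < 11429 → P i := stepQ 11428 Q11428 (allL N11428 (tt N23180 (iv1 F55141)) (tt N5467 (iv0 D16939)) (tt N23178 (iv2 F153445)) (tt N23237 D34923) (tt N16523 F136445) (tt N23238 D34925) (tt N23239 D34926) (tt N23179 F153444))
theorem Q11430 : ∀ i, i < 11430 → P i := stepQ 11429 Q11429 (allL N11429 (tt N5467 (iv1 D16940)) (tt N23180 F55140) (tt N23179 F153440) (tt N23240 D34928) (tt N16524 (iv4 F136441)) (tt N23241 D34930) (tt N23242 D34931) (tt N23178 (iv7 F153446)))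
theorem Q11431 : ∀ i, i < 11431 → P i := stepQ 11430 Q11430 (allL N11430 (tt N23243 D34932) (tt N23244 D34933) (tt N13606 (iv2 F33110)) (tt N23232 (iv3 F55272)) (tt N23245 D34934) (tt N5467 (iv5 D16941)) (tt N5470 F27780) (tt N23246 D34935))
theorem Q11432 : ∀ i, i < 11432 → P i := stepQ 11431 Q11431 (allL N11431 (tt N23179 (iv1 F55135)) (tt N23178 F55139) (tt N23180 (iv2 F55136)) (tt N23233 (iv3 F55275)) (tt N16395 (iv4 F40463)) (tt N23246 (iv5 F55293)) (tt N17526 (iv6 F43580)) (tt N5467 (iv7 D16942)))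
theorem Q11433 : ∀ i, i < 11433 → P i := stepQ 11432 Q11432 (allL N11432 (tt N6531 F27782) (tt N13242 F31840) (tt N10597 F27781) (tt N13232 F31826) (tt N14517 F36067) (tt N5468 (iv5 D16943)) (tt N23247 D34936) (tt N13241 (iv7 F31836)))
theorem Q11434 : ∀ i, i < 11434 → P i := stepQ 11433 Q11433 (allL N11433 (tt N15015 F37663) (tt N9057 (iv0 F27785)) (tt N10244 F27783) (tt N23236 (iv3 F55286)) (tt N5506 F27784) (tt N16465 (iv5 F40550)) (tt N5468 (iv6 D16944)) (tt N18488 (iv7 F46047)))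
theorem Q11435 : ∀ i, i < 11435 → P i := stepQ 11434 Q11434 (allL N11434 (tt N17333 F54157) (tt N23248 D34937) (tt N23234 (iv2 F55276)) (tt N5469 (iv3 D16945)) (tt N8311 F27786) (tt N23249 D34938) (tt N23250 D34939) (tt N10596 F27787))
theorem Q11436 : ∀ i, i < 11436 → P i := stepQ 11435 Q11435 (allL N11435 (tt N13242 (iv1 F31839)) (tt N6531 (iv0 F27789)) (tt N13241 F31837) (tt N23249 (iv3 F55302)) (tt N14516 (iv4 F36066)) (tt N5469 (iv5 D16946)) (tt N23251 D34940) (tt N10597 F27788))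
theorem Q11437 : ∀ i, i < 11437 → P i := stepQ 11436 Q11436 (allL N11436 (tt N18630 (iv1 F46283)) (tt N23193 F55162) (tt N17461 (iv2 F43318)) (tt N23250 (iv3 F55304)) (tt N8031 F27790) (tt N23252 D34941) (tt N5469 (iv6 D16947)) (tt N22577 (iv7 F53340)))
theorem Q11438 : ∀ i, i < 11438 → P i := stepQ 11437 Q11437 (allL N11437 (tt N6585 (iv1 F27796)) (tt N5470 (iv0 D16948)) (tt N13604 F33108) (tt N13598 (iv3 F34101)) (tt N13889 (iv4 F34100)) (tt N11789 (iv5 F28374)) (tt N23253 D34942) (tt N13605 (iv7 F33107)))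
theorem Q11439 : ∀ i, i < 11439 → P i := stepQ 11438 Q11438 (allL N11438 (tt N5470 (iv1 D16949)) (tt N6585 F27791) (tt N13605 (iv2 F33106)) (tt N23254 D34943) (tt N13888 (iv4 F34095)) (tt N9340 (iv5 F27792)) (tt N23255 D34944) (tt N13604 F33109))
theorem Q11440 : ∀ i, i < 11440 → P i := stepQ 11439 Q11439 (allL N11439 (tt N13860 (iv1 F34020)) (tt N13859 F34014) (tt N6656 F27793) (tt N13873 (iv3 F34057)) (tt N5470 (iv4 D16950)) (tt N23256 D34945) (tt N23245 (iv6 F55292)) (tt N13861 (iv7 F34018)))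
theorem Q11441 : ∀ i, i < 11441 → P i := stepQ 11440 Q11440 (allL N11440 (tt N13605 (iv1 F33104)) (tt N13604 F33103) (tt N6585 F27794) (tt N13600 (iv3 F33087)) (tt N13861 (iv4 F34017)) (tt N5471 F27795) (tt N23257 D34946) (tt N5470 (iv7 D16951)))
theorem Q11442 : ∀ i, i < 11442 → P i := stepQ 11441 Q11441 (allL N11441 (tt N13429 (iv1 F32556)) (tt N6403 (iv0 F27797)) (tt N13428 F32551) (tt N13427 F32547) (tt N13646 F33419) (tt N5472 (iv5 D16952)) (tt N23258 D34947) (tt N13427 F32548))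
theorem Q11443 : ∀ i, i < 11443 → P i := stepQ 11442 Q11442 (allL N11442 (tt N15019 F37674) (tt N14713 (iv0 F36958)) (tt N16279 F40253) (tt N16377 (iv3 F40434)) (tt N5473 F27798) (tt N18484 (iv5 F46036)) (tt N5472 (iv6 D16953)) (tt N16280 (iv7 F40255)))
theorem Q11444 : ∀ i, i < 11444 → P i := stepQ 11443 Q11443 (allL N11443 (tt N23197 (iv1 F55353)) (tt N23197 (iv0 F55352)) (tt N16376 (iv2 F40430)) (tt N5474 (iv3 D16954)) (tt N11443 F27799) (tt N23259 D34949) (tt N23260 D34950) (tt N16376 (iv7 F40432)))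
theorem Q11445 : ∀ i, i < 11445 → P i := stepQ 11444 Q11444 (allL N11444 (tt N6403 F31792) (tt N13429 F32557) (tt N13427 F32546) (tt N23259 (iv3 F55316)) (tt N13645 (iv4 F33418)) (tt N5474 (iv5 D16955)) (tt N23261 D34951) (tt N13428 (iv7 F32549)))
theorem Q11446 : ∀ i, i < 11446 → P i := stepQ 11445 Q11445 (allL N11445 (tt N19399 F47543) (tt N18633 (iv0 F46292)) (tt N16377 (iv2 F40433)) (tt N23260 (iv3 F55317)) (tt N5476 F27800) (tt N23262 D34952) (tt N5474 (iv6 D16956)) (tt N23263 D34953))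
theorem Q11447 : ∀ i, i < 11447 → P i := stepQ 11446 Q11446 (allL N11446 (tt N11380 F27803) (tt N11387 (iv0 F27804)) (tt N18629 F46278) (tt N11446 F27801) (tt N23263 (iv4 F55321)) (tt N5476 (iv5 D16957)) (tt N9058 F27802) (tt N5476 F27805))
theorem Q11448 : ∀ i, i < 11448 → P i := stepQ 11447 Q11447 (allL N11447 (tt N11398 F27808) (tt N8017 F27820) (tt N10481 F27806) (tt N23264 D34954) (tt N5477 (iv4 D16958)) (tt N23265 D34955) (tt N16560 (iv6 F40686)) (tt N10482 F27807))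
theorem Q11449 : ∀ i, i < 11449 → P i := stepQ 11448 Q11448 (allL N11448 (tt N7992 F27813) (tt N7991 (iv0 F27814)) (tt N7993 F27809) (tt N11400 F27810) (tt N14879 F37343) (tt N5477 (iv5 D16959)) (tt N7998 F27811) (tt N7158 F27812))
theorem Q11450 : ∀ i, i < 11450 → P i := stepQ 11449 Q11449 (allL N11449 (tt N8017 F27819) (tt N11398 F27818) (tt N10482 F27815) (tt N22883 (iv3 F54580)) (tt N5478 (iv4 D16960)) (tt N23266 D34956) (tt N9502 F27816) (tt N10481 F27817))
theorem Q11451 : ∀ i, i < 11451 → P i := stepQ 11450 Q11450 (allL N11450 (tt N11472 F27858) (tt N11772 (iv0 F28350)) (tt N10513 (iv2 F42931)) (tt N11462 F27851) (tt N5480 (iv4 D16962)) (tt N23267 D34957) (tt N11462 F50911) (tt N10510 (iv7 F42933)))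
theorem Q11452 : ∀ i, i < 11452 → P i := stepQ 11451 Q11451 (allL N11451 (tt N10528 (iv1 F28351)) (tt N8315 (iv0 F28349)) (tt N10527 (iv2 F42912)) (tt N5481 (iv3 D16965)) (tt N11790 (iv4 F28375)) (tt N12648 (iv5 F30326)) (tt N23268 D34958) (tt N10512 (iv7 F42917)))
theorem Q11453 : ∀ i, i < 11453 → P i := stepQ 11452 Q11452 (allL N11452 (tt N11772 F28348) (tt N11472 (iv0 F28352)) (tt N10510 F42932) (tt N11403 (iv3 F27823)) (tt N5481 (iv4 D16966)) (tt N23269 D34959) (tt N23270 D34960) (tt N10513 F42929))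
theorem Q11454 : ∀ i, i < 11454 → P i := stepQ 11453 Q11453 (allL N11453 (tt N5507 F54154) (tt N10580 F54155) (tt N10511 (iv2 F42939)) (tt N23268 (iv3 F55337)) (tt N23270 (iv4 F55349)) (tt N23271 D34961) (tt N5481 (iv6 D16968)) (tt N10579 F54141))
theorem Q11455 : ∀ i, i < 11455 → P i := stepQ 11454 Q11454 (allL N11454 (tt N23272 D34962) (tt N23273 D34963) (tt N5483 F27824) (tt N10501 F27825) (tt N23204 (iv4 F55187)) (tt N23274 D34964) (tt N5482 (iv6 D16969)) (tt N23275 D34965))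
theorem Q11456 : ∀ i, i < 11456 → P i := stepQ 11455 Q11455 (allL N11455 (tt N23275 F55371) (tt N5483 (iv0 D16970)) (tt N23272 (iv2 F55521)) (tt N10209 F50152) (tt N23276 D34967) (tt N23277 D34968) (tt N23278 D34969) (tt N23273 (iv7 F55516)))
theorem Q11457 : ∀ i, i < 11457 → P i := stepQ 11456 Q11456 (allL N11456 (tt N5483 (iv1 D16971)) (tt N23275 F55370) (tt N23273 (iv2 F55515)) (tt N23279 D34971) (tt N23280 D34972) (tt N23281 D34973) (tt N18214 (iv6 F54350)) (tt N23272 (iv7 F55522)))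
theorem Q11458 : ∀ i, i < 11458 → P i := stepQ 11457 Q11457 (allL N11457 (tt N18432 F54351) (tt N23282 D34974) (tt N23274 (iv2 F55362)) (tt N5484 F27826) (tt N23283 D34975) (tt N5483 (iv5 D16972)) (tt N21809 (iv6 F51945)) (tt N21134 (iv7 F50187)))
theorem Q11459 : ∀ i, i < 11459 → P i := stepQ 11458 Q11458 (allL N11458 (tt N23273 (iv1 F55358)) (tt N23272 F55369) (tt N23275 (iv2 F55365)) (tt N5485 F27827) (tt N23209 (iv4 F55208)) (tt N21134 (iv5 F50186)) (tt N7457 F27828) (tt N5483 (iv7 D16973)))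
theorem Q11460 : ∀ i, i < 11460 → P i := stepQ 11459 Q11459 (allL N11459 (tt N21508 (iv1 F51418)) (tt N10363 F27830) (tt N10509 F27829) (tt N23284 D34976) (tt N5484 (iv4 D16974)) (tt N21077 (iv5 F50096)) (tt N21811 (iv6 F51949)) (tt N21135 (iv7 F50189)))
theorem Q11461 : ∀ i, i < 11461 → P i := stepQ 11460 Q11460 (allL N11460 (tt N10852 F27834) (tt N10894 F27835) (tt N10533 F27831) (tt N5489 F27832) (tt N10659 (iv4 F27836)) (tt N5487 (iv5 D16975)) (tt N23285 D34977) (tt N10540 F27833))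
theorem Q11462 : ∀ i, i < 11462 → P i := stepQ 11461 Q11461 (allL N11461 (tt N23286 D34978) (tt N20914 F50410) (tt N10224 F50458) (tt N5490 F27847) (tt N8233 F50411) (tt N23287 D34979) (tt N5487 (iv6 D16976)) (tt N10220 F50459))
theorem Q11463 : ∀ i, i < 11463 → P i := stepQ 11462 Q11462 (allL N11462 (tt N5492 (iv1 F27850)) (tt N5488 (iv0 D16977)) (tt N17531 (iv2 F43599)) (tt N11450 (iv3 F27851)) (tt N11054 F27849) (tt N21915 (iv5 F52177)) (tt N11450 (iv6 F50911)) (tt N17530 F43595))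
theorem Q11464 : ∀ i, i < 11464 → P i := stepQ 11463 Q11463 (allL N11463 (tt N5488 (iv1 D16978)) (tt N5492 F27852) (tt N17530 F43594) (tt N16352 F40364) (tt N11809 (iv4 F28421)) (tt N21916 (iv5 F52180)) (tt N21646 (iv6 F54156)) (tt N17531 (iv7 F43597)))
theorem Q11465 : ∀ i, i < 11465 → P i := stepQ 11464 Q11464 (allL N11464 (tt N5650 F27855) (tt N8494 F27856) (tt N16382 (iv2 F40446)) (tt N5488 (iv3 D16979)) (tt N8318 F27853) (tt N23288 D34980) (tt N16274 F50404) (tt N10537 F27854))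
theorem Q11466 : ∀ i, i < 11466 → P i := stepQ 11465 Q11465 (allL N11465 (tt N23289 D34981) (tt N23290 D34982) (tt N17536 (iv2 F43628)) (tt N23288 (iv3 F55404)) (tt N23291 D34983) (tt N5488 (iv5 D16980)) (tt N23292 D34984) (tt N17532 (iv7 F43603)))
theorem Q11467 : ∀ i, i < 11467 → P i := stepQ 11466 Q11466 (allL N11466 (tt N20930 F50655) (tt N20933 (iv0 F55394)) (tt N17537 (iv2 F43630)) (tt N16274 (iv3 F50406)) (tt N5490 F27857) (tt N23293 D34985) (tt N5488 (iv6 D16981)) (tt N23294 D34986))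
theorem Q11468 : ∀ i, i < 11468 → P i := stepQ 11467 Q11467 (allL N11467 (tt N23295 D34987) (tt N23296 D34988) (tt N10766 F35201) (tt N12618 F30268) (tt N5489 (iv4 D16982)) (tt N12617 (iv5 F30269)) (tt N23297 D34989) (tt N10763 (iv7 F35203)))
theorem Q11469 : ∀ i, i < 11469 → P i := stepQ 11468 Q11468 (allL N11468 (tt N23298 D34990) (tt N11320 (iv0 F232390)) (tt N10767 F35202) (tt N23285 (iv3 F55386)) (tt N23297 (iv4 F55436)) (tt N23299 D34992) (tt N5489 (iv6 D16983)) (tt N23300 D34993))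
theorem Q11470 : ∀ i, i < 11470 → P i := stepQ 11469 Q11469 (allL N11469 (tt N17540 (iv1 F43640)) (tt N5490 (iv0 D16984)) (tt N11212 (iv2 F50652)) (tt N16804 (iv3 F50653)) (tt N23218 (iv4 F55232)) (tt N16936 F50654) (tt N23301 D34994) (tt N17538 F50651))
theorem Q11471 : ∀ i, i < 11471 → P i := stepQ 11470 Q11470 (allL N11470 (tt N23302 D34995) (tt N10352 (iv0 F41343)) (tt N17539 (iv2 F43633)) (tt N23287 (iv3 F55398)) (tt N23303 D34996) (tt N5490 (iv5 D16986)) (tt N23299 (iv6 F55439)) (tt N23304 D34997))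
theorem Q11472 : ∀ i, i < 11472 → P i := stepQ 11471 Q11471 (allL N11471 (tt N17538 (iv1 F43632)) (tt N11212 (iv0 F50524)) (tt N17540 (iv2 F43636)) (tt N10220 F50519) (tt N23294 (iv4 F55425)) (tt N23304 (iv5 F55453)) (tt N11155 (iv6 F50503)) (tt N5490 (iv7 D16987)))
theorem Q11473 : ∀ i, i < 11473 → P i := stepQ 11472 Q11472 (allL N11472 (tt N11452 F28352) (tt N11450 (iv0 F27858)) (tt N16362 (iv2 F40392)) (tt N16379 (iv3 F40441)) (tt N5491 (iv4 D16988)) (tt N23305 D34998) (tt N23306 D34999) (tt N17535 (iv7 F43623)))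
theorem Q11474 : ∀ i, i < 11474 → P i := stepQ 11473 Q11473 (allL N11473 (tt N21742 (iv1 F51798)) (tt N8406 F43645) (tt N17541 (iv2 F43641)) (tt N5493 F27859) (tt N23307 D35000) (tt N5491 (iv5 D16989)) (tt N23308 D35001) (tt N10765 F35199))
theorem Q11475 : ∀ i, i < 11475 → P i := stepQ 11474 Q11474 (allL N11474 (tt N9314 F47451) (tt N19370 F47452) (tt N17542 (iv2 F43647)) (tt N5494 F27860) (tt N23306 (iv4 F55459)) (tt N10779 F30295) (tt N5491 (iv6 D16990)) (tt N19369 (iv7 F50495)))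
theorem Q11476 : ∀ i, i < 11476 → P i := stepQ 11475 Q11475 (allL N11475 (tt N23290 (iv1 F55413)) (tt N23289 F55409) (tt N17532 (iv2 F43601)) (tt N16380 (iv3 F40444)) (tt N23309 D35002) (tt N5492 (iv5 D16991)) (tt N23310 D35003) (tt N17536 (iv7 F43629)))
theorem Q11477 : ∀ i, i < 11477 → P i := stepQ 11476 Q11476 (allL N11476 (tt N23311 D35004) (tt N23312 D35005) (tt N17533 (iv2 F43604)) (tt N16381 (iv3 F40445)) (tt N5494 F27861) (tt N23313 D35006) (tt N5492 (iv6 D16992)) (tt N23314 D35007))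
theorem Q11478 : ∀ i, i < 11478 → P i := stepQ 11477 Q11477 (allL N11477 (tt N23296 (iv1 F55431)) (tt N23295 F55428) (tt N10763 F35204) (tt N17032 F302707) (tt N5493 (iv4 D16993)) (tt N23315 D35009) (tt N23316 D35010) (tt N10766 F35200))
theorem Q11479 : ∀ i, i < 11479 → P i := stepQ 11478 Q11478 (allL N11478 (tt N11206 F232564) (tt N23317 D35012) (tt N10764 (iv2 F35205)) (tt N23308 (iv3 F55463)) (tt N23316 (iv4 F55555)) (tt N23318 D35013) (tt N5493 (iv6 D16994)) (tt N23319 D35014))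
theorem Q11480 : ∀ i, i < 11480 → P i := stepQ 11479 Q11479 (allL N11479 (tt N5494 (iv1 D16996)) (tt N11155 F50505) (tt N7450 F50506) (tt N9316 F50507) (tt N23223 F55249) (tt N23320 D35015) (tt N23321 D35016) (tt N11156 F50508))
theorem Q11481 : ∀ i, i < 11481 → P i := stepQ 11480 Q11480 (allL N11480 (tt N11179 F29904) (tt N23322 D35017) (tt N17534 (iv2 F43607)) (tt N10779 (iv3 F30296)) (tt N23323 D35018) (tt N5494 (iv5 D16997)) (tt N23318 (iv6 F55559)) (tt N23324 D35019))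
theorem Q11482 : ∀ i, i < 11482 → P i := stepQ 11481 Q11481 (allL N11481 (tt N7450 (iv1 F50544)) (tt N11156 F50541) (tt N11155 (iv2 F50502)) (tt N19369 F50498) (tt N23314 (iv4 F55487)) (tt N23324 (iv5 F55585)) (tt N17540 (iv6 F43637)) (tt N5494 (iv7 D16998)))
theorem Q11483 : ∀ i, i < 11483 → P i := stepQ 11482 Q11482 (allL N11482 (tt N5499 (iv1 F27868)) (tt N5495 (iv0 D16999)) (tt N5496 F35038) (tt N5497 F35039) (tt N14205 F35040) (tt N23325 D35020) (tt N23326 D35021) (tt N5497 F35041))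
theorem Q11484 : ∀ i, i < 11484 → P i := stepQ 11483 Q11483 (allL N11483 (tt N5495 (iv1 D17000)) (tt N5499 F27862) (tt N5497 F35042) (tt N10563 (iv3 F27863)) (tt N23327 D35022) (tt N23328 D35023) (tt N23329 D35024) (tt N5496 F35043))
theorem Q11485 : ∀ i, i < 11485 → P i := stepQ 11484 Q11484 (allL N11484 (tt N23330 D35025) (tt N22004 (iv0 F52360)) (tt N5498 F27864) (tt N17446 (iv3 F43278)) (tt N23331 D35026) (tt N5495 (iv5 D17001)) (tt N22426 (iv6 F53004)) (tt N23332 D35027))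
theorem Q11486 : ∀ i, i < 11486 → P i := stepQ 11485 Q11485 (allL N11485 (tt N5497 (iv1 F27869)) (tt N5496 F27870) (tt N5499 F27865) (tt N8495 F27866) (tt N13247 F31850) (tt N23332 (iv5 F55617)) (tt N8493 F27867) (tt N5495 (iv7 D17002)))
theorem Q11487 : ∀ i, i < 11487 → P i := stepQ 11486 Q11486 (allL N11486 (tt N21684 F51696) (tt N21684 (iv0 F51695)) (tt N10563 (iv2 F35047)) (tt N5496 (iv3 D17004)) (tt N10547 F27872) (tt N23333 D35028) (tt N23334 D35029) (tt N10563 F35044))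
theorem Q11488 : ∀ i, i < 11488 → P i := stepQ 11487 Q11487 (allL N11487 (tt N21530 (iv1 F54143)) (tt N21646 F51636) (tt N14205 (iv2 F35033)) (tt N16370 F40420) (tt N5496 (iv4 D17005)) (tt N14204 F35032) (tt N23335 D35030) (tt N23327 (iv7 F55600)))
theorem Q11489 : ∀ i, i < 11489 → P i := stepQ 11488 Q11488 (allL N11488 (tt N23336 D35031) (tt N21682 F55592) (tt N23325 (iv2 F55588)) (tt N23333 (iv3 F55621)) (tt N23337 D35032) (tt N5496 (iv5 D17006)) (tt N10115 F318079) (tt N23328 (iv7 F55604)))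
theorem Q11490 : ∀ i, i < 11490 → P i := stepQ 11489 Q11489 (allL N11489 (tt N23321 F55631) (tt N9063 F55632) (tt N23326 (iv2 F55593)) (tt N23334 (iv3 F55626)) (tt N23335 (iv4 F55634)) (tt N23338 D35034) (tt N5496 (iv6 D17007)) (tt N23339 D35035))
theorem Q11491 : ∀ i, i < 11491 → P i := stepQ 11490 Q11490 (allL N11490 (tt N21646 F51635) (tt N21530 (iv0 F54142)) (tt N23327 (iv2 F55598)) (tt N13375 (iv3 F32396)) (tt N5497 (iv4 D17010)) (tt N13423 (iv5 F32533)) (tt N23340 D35036) (tt N14205 (iv7 F35035)))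
theorem Q11492 : ∀ i, i < 11492 → P i := stepQ 11491 Q11491 (allL N11491 (tt N21682 F51683) (tt N23336 F55637) (tt N23328 (iv2 F55602)) (tt N23325 (iv3 F55589)) (tt N23341 D35037) (tt N5497 (iv5 D17011)) (tt N23342 D35038) (tt N23325 (iv7 F55590)))
theorem Q11493 : ∀ i, i < 11493 → P i := stepQ 11492 Q11492 (allL N11492 (tt N18631 F55638) (tt N23301 (iv0 F85411)) (tt N23329 (iv2 F55606)) (tt N23326 (iv3 F55594)) (tt N23340 (iv4 F55648)) (tt N23343 D35040) (tt N5497 (iv6 D17012)) (tt N23344 D35041))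
theorem Q11494 : ∀ i, i < 11494 → P i := stepQ 11493 Q11493 (allL N11493 (tt N23332 (iv1 F55619)) (tt N5498 (iv0 D17013)) (tt N23330 F55610) (tt N23345 D35042) (tt N23346 D35043) (tt N16903 F55581) (tt N23347 D35044) (tt N22004 (iv7 F55582)))
theorem Q11495 : ∀ i, i < 11495 → P i := stepQ 11494 Q11494 (allL N11494 (tt N5498 (iv1 D17014)) (tt N23332 F55618) (tt N22004 (iv2 F52359)) (tt N23330 (iv3 F78736)) (tt N23348 D35046) (tt N16904 (iv5 F55481)) (tt N23349 D35047) (tt N23330 (iv7 F55611)))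
theorem Q11496 : ∀ i, i < 11496 → P i := stepQ 11495 Q11495 (allL N11495 (tt N23350 D35048) (tt N23351 D35049) (tt N23331 (iv2 F55613)) (tt N23352 D35050) (tt N5498 (iv4 D17015)) (tt N23353 D35051) (tt N22442 (iv6 F53024)) (tt N23354 D35052))
theorem Q11497 : ∀ i, i < 11497 → P i := stepQ 11496 Q11496 (allL N11496 (tt N22004 F52361) (tt N23330 F55612) (tt N23332 (iv2 F55615)) (tt N5503 F27874) (tt N23354 (iv4 F55668)) (tt N5499 F27875) (tt N23355 D35053) (tt N5498 (iv7 D17016)))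
theorem Q11498 : ∀ i, i < 11498 → P i := stepQ 11497 Q11497 (allL N11497 (tt N17446 F43280) (tt N17453 F43297) (tt N17451 (iv2 F43293)) (tt N5500 (iv3 D17017)) (tt N23356 D35054) (tt N16871 (iv5 F41412)) (tt N23357 D35055) (tt N17450 F43289))
theorem Q11499 : ∀ i, i < 11499 → P i := stepQ 11498 Q11498 (allL N11498 (tt N20661 F311230) (tt N23358 D35057) (tt N17455 (iv2 F43302)) (tt N23357 (iv3 F55671)) (tt N21124 F311231) (tt N19439 (iv5 F47649)) (tt N5500 (iv6 D17018)) (tt N23359 D35058))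
theorem Q11500 : ∀ i, i < 11500 → P i := stepQ 11499 Q11499 (allL N11499 (tt N11194 F54359) (tt N21685 (iv0 F54211)) (tt N21320 (iv2 F54365)) (tt N5501 (iv3 D17019)) (tt N23360 D35059) (tt N9526 F27876) (tt N23361 D35060) (tt N17454 (iv7 F43301)))
theorem Q11501 : ∀ i, i < 11501 → P i := stepQ 11500 Q11500 (allL N11500 (tt N22507 (iv1 F312986)) (tt N22508 (iv0 F312987)) (tt N17456 (iv2 F43303)) (tt N23361 (iv3 F55675)) (tt N14872 F311229) (tt N9527 F27877) (tt N5501 (iv6 D17020)) (tt N18620 (iv7 F313543)))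
theorem Q11502 : ∀ i, i < 11502 → P i := stepQ 11501 Q11501 (allL N11501 (tt N17459 (iv1 F43314)) (tt N5502 (iv0 D17021)) (tt N10587 (iv2 F27879)) (tt N23362 D35064) (tt N8305 F27878) (tt N10615 (iv5 F27881)) (tt N21214 (iv6 F309362)) (tt N10590 (iv7 F27880)))
theorem Q11503 : ∀ i, i < 11503 → P i := stepQ 11502 Q11502 (allL N11502 (tt N23363 D35068) (tt N23364 D35069) (tt N23365 D35070) (tt N5502 (iv3 D17023)) (tt N23352 (iv4 F55666)) (tt N23366 D35071) (tt N21216 (iv6 F310220)) (tt N23367 D35072))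
theorem Q11504 : ∀ i, i < 11504 → P i := stepQ 11503 Q11503 (allL N11503 (tt N10448 (iv1 F309630)) (tt N10618 F27888) (tt N17458 (iv2 F43305)) (tt N23366 (iv3 F55688)) (tt N5666 F27886) (tt N5502 (iv5 D17024)) (tt N23368 D35073) (tt N5665 F27887))
theorem Q11505 : ∀ i, i < 11505 → P i := stepQ 11504 Q11504 (allL N11504 (tt N10590 (iv1 F27892)) (tt N10587 F27893) (tt N17459 (iv2 F43310)) (tt N23367 (iv3 F55691)) (tt N5503 F27890) (tt N5665 F27891) (tt N23369 D35074) (tt N5502 (iv7 D17025)))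
theorem Q11506 : ∀ i, i < 11506 → P i := stepQ 11505 Q11505 (allL N11505 (tt N23370 D35075) (tt N23371 D35076) (tt N17460 (iv2 F43315)) (tt N23355 (iv3 F55670)) (tt N23369 (iv4 F55694)) (tt N17545 (iv5 F43655)) (tt N5503 (iv6 D17026)) (tt N22454 (iv7 F53163)))
theorem Q11507 : ∀ i, i < 11507 → P i := stepQ 11506 Q11506 (allL N11506 (tt N8027 F27898) (tt N8026 F27899) (tt N8029 F27894) (tt N6492 F27895) (tt N5504 (iv4 D17027)) (tt N6491 (iv5 F27900)) (tt N8040 F27896) (tt N7166 F27897))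
theorem Q11508 : ∀ i, i < 11508 → P i := stepQ 11507 Q11507 (allL N11507 (tt N7158 F27905) (tt N7993 (iv0 F27906)) (tt N7992 F27901) (tt N5510 F27902) (tt N21180 (iv4 F50285)) (tt N7991 F27903) (tt N5505 (iv6 D17028)) (tt N7991 F27904))
theorem Q11509 : ∀ i, i < 11509 → P i := stepQ 11508 Q11508 (allL N11508 (tt N10580 (iv1 F27907)) (tt N5507 (iv0 D17029)) (tt N10579 F54145) (tt N10499 F54131) (tt N23372 D35077) (tt N23373 D35078) (tt N10497 F54132) (tt N10511 F54133))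
theorem Q11510 : ∀ i, i < 11510 → P i := stepQ 11509 Q11509 (allL N11509 (tt N10579 (iv1 F27912)) (tt N10511 F54139) (tt N5507 (iv2 D17031)) (tt N10576 F27908) (tt N23227 (iv4 F55261)) (tt N23374 D35079) (tt N23375 D35080) (tt N10580 F27909))
theorem Q11511 : ∀ i, i < 11511 → P i := stepQ 11510 Q11510 (allL N11510 (tt N23376 D35081) (tt N23377 D35082) (tt N23374 (iv2 F55706)) (tt N5508 F27913) (tt N23378 D35083) (tt N5507 (iv5 D17032)) (tt N9970 (iv6 F313572)) (tt N10582 F27914))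
theorem Q11512 : ∀ i, i < 11512 → P i := stepQ 11511 Q11511 (allL N11511 (tt N23379 D35085) (tt N23380 D35086) (tt N23375 (iv2 F55720)) (tt N5509 F27915) (tt N23236 (iv4 F55287)) (tt N9971 (iv5 F318249)) (tt N5507 (iv6 D17033)) (tt N10240 (iv7 F27916)))
theorem Q11513 : ∀ i, i < 11513 → P i := stepQ 11512 Q11512 (allL N11512 (tt N5511 (iv1 D17037)) (tt N10576 F27928) (tt N10575 F54134) (tt N10511 (iv3 F54138)) (tt N10499 F54135) (tt N23381 D35092) (tt N10498 F54136) (tt N10499 F54137))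
theorem Q11514 : ∀ i, i < 11514 → P i := stepQ 11513 Q11513 (allL N11513 (tt N10499 (iv1 F54128)) (tt N10575 F27927) (tt N5511 (iv2 D17038)) (tt N10580 F27924) (tt N10602 F27925) (tt N23382 D35093) (tt N23383 D35094) (tt N10576 F27926))
theorem Q11515 : ∀ i, i < 11515 → P i := stepQ 11514 Q11514 (allL N11514 (tt N23384 D35095) (tt N18439 F54187) (tt N23382 (iv2 F55753)) (tt N5512 F27933) (tt N14922 (iv4 F37445)) (tt N5511 (iv5 D17039)) (tt N23385 D35096) (tt N10577 F27934))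
theorem Q11516 : ∀ i, i < 11516 → P i := stepQ 11515 Q11515 (allL N11515 (tt N23386 D35097) (tt N23387 D35098) (tt N23383 (iv2 F55759)) (tt N5513 F27935) (tt N10604 F27936) (tt N21862 (iv5 F52047)) (tt N5511 (iv6 D17040)) (tt N22578 (iv7 F53345)))
theorem Q11517 : ∀ i, i < 11517 → P i := stepQ 11516 Q11516 (allL N11516 (tt N10447 F309351) (tt N10387 F27940) (tt N10449 F309352) (tt N23388 D35099) (tt N5512 (iv4 D17041)) (tt N10618 F27938) (tt N10443 (iv6 F311591)) (tt N8288 F309353))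
theorem Q11518 : ∀ i, i < 11518 → P i := stepQ 11517 Q11517 (allL N11517 (tt N14829 F318771) (tt N18373 F318772) (tt N10584 F27941) (tt N23385 (iv3 F55765)) (tt N10443 (iv4 F311590)) (tt N20851 (iv5 F319713)) (tt N5512 (iv6 D17042)) (tt N10014 (iv7 F313573)))
theorem Q11519 : ∀ i, i < 11519 → P i := stepQ 11518 Q11518 (allL N11518 (tt N11625 (iv1 F28141)) (tt N8631 F27945) (tt N8506 F27942) (tt N6628 F27943) (tt N8725 F27946) (tt N5515 (iv5 D17043)) (tt N23389 D35104) (tt N8502 F27944))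
theorem Q11520 : ∀ i, i < 11520 → P i := stepQ 11519 Q11519 (allL N11519 (tt N5592 F28309) (tt N5595 F28310) (tt N11996 (iv2 F296043)) (tt N5518 F27951) (tt N11812 (iv4 F28432)) (tt N23390 D35105) (tt N5516 (iv6 D17044)) (tt N11995 (iv7 F296072)))
theorem Q11521 : ∀ i, i < 11521 → P i := stepQ 11520 Q11520 (allL N11520 (tt N8631 F27955) (tt N11625 F28142) (tt N8502 F27952) (tt N6048 F27953) (tt N8724 F27956) (tt N5517 (iv5 D17045)) (tt N23391 D35106) (tt N8506 F27954))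
theorem Q11522 : ∀ i, i < 11522 → P i := stepQ 11521 Q11521 (allL N11521 (tt N11618 (iv1 F30568)) (tt N11660 (iv0 F30569)) (tt N8503 F27957) (tt N8553 F27958) (tt N5518 F27959) (tt N23392 D35107) (tt N5517 (iv6 D17046)) (tt N11659 (iv7 F28315)))
theorem Q11523 : ∀ i, i < 11523 → P i := stepQ 11522 Q11522 (allL N11522 (tt N5524 F27962) (tt N8699 (iv0 F27963)) (tt N8504 F27960) (tt N23390 (iv3 F55785)) (tt N23393 D35108) (tt N5518 (iv5 D17047)) (tt N17674 (iv6 F44308)) (tt N8784 F27961))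
theorem Q11524 : ∀ i, i < 11524 → P i := stepQ 11523 Q11523 (allL N11523 (tt N8515 F27966) (tt N8514 F27967) (tt N5521 F27964) (tt N23394 D35109) (tt N5519 (iv4 D17048)) (tt N17399 (iv5 F43075)) (tt N23395 D35110) (tt N8509 F27965))
theorem Q11525 : ∀ i, i < 11525 → P i := stepQ 11524 Q11524 (allL N11524 (tt N11343 (iv1 F298929)) (tt N23396 D35112) (tt N5522 F27968) (tt N11245 F27969) (tt N23395 (iv4 F55802)) (tt N17854 (iv5 F297543)) (tt N5519 (iv6 D17049)) (tt N23397 D35114))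
theorem Q11526 : ∀ i, i < 11526 → P i := stepQ 11525 Q11525 (allL N11525 (tt N8784 F27973) (tt N8504 (iv0 F27974)) (tt N5524 F27970) (tt N11246 F27971) (tt N23398 D35115) (tt N5520 (iv5 D17050)) (tt N17854 (iv6 F297544)) (tt N8699 F27972))
theorem Q11527 : ∀ i, i < 11527 → P i := stepQ 11526 Q11526 (allL N11526 (tt N17684 (iv1 F44342)) (tt N17681 (iv0 F44334)) (tt N17399 (iv2 F43073)) (tt N11198 F27975) (tt N17378 (iv4 F42982)) (tt N5521 (iv5 D17051)) (tt N23399 D35116) (tt N8517 F27976))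
theorem Q11528 : ∀ i, i < 11528 → P i := stepQ 11527 Q11527 (allL N11527 (tt N23400 D35117) (tt N23401 D35118) (tt N23395 (iv2 F55801)) (tt N11199 F27977) (tt N5522 F27978) (tt N23402 D35119) (tt N5521 (iv6 D17052)) (tt N23403 D35120))
theorem Q11529 : ∀ i, i < 11529 → P i := stepQ 11528 Q11528 (allL N11528 (tt N23397 (iv1 F55813)) (tt N5522 (iv0 D17053)) (tt N11343 (iv2 F298930)) (tt N23404 D35122) (tt N23405 D35123) (tt N23406 D35124) (tt N11341 F298796) (tt N23396 F115419))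
theorem Q11530 : ∀ i, i < 11530 → P i := stepQ 11529 Q11529 (allL N11529 (tt N5522 (iv1 D17054)) (tt N23397 F55812) (tt N23396 (iv2 F115410)) (tt N11350 F298784) (tt N23407 D35128) (tt N23408 D35129) (tt N23409 D35130) (tt N11343 (iv7 F298931)))
theorem Q11531 : ∀ i, i < 11531 → P i := stepQ 11530 Q11530 (allL N11530 (tt N17840 F296385) (tt N17856 (iv0 F297545)) (tt N17854 (iv2 F297541)) (tt N5527 F27979) (tt N23410 D35133) (tt N5522 (iv5 D17055)) (tt N5524 F27980) (tt N17853 (iv7 F297539)))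
theorem Q11532 : ∀ i, i < 11532 → P i := stepQ 11531 Q11531 (allL N11531 (tt N23396 (iv1 F55805)) (tt N11343 F299727) (tt N23397 (iv2 F55809)) (tt N5528 F27981) (tt N23403 (iv4 F55821)) (tt N17853 F299728) (tt N8521 F27982) (tt N5522 (iv7 D17056)))
theorem Q11533 : ∀ i, i < 11533 → P i := stepQ 11532 Q11532 (allL N11532 (tt N8704 F27986) (tt N8622 (iv0 F27987)) (tt N8782 F27983) (tt N6712 F27984) (tt N5523 (iv4 D17057)) (tt N23411 D35135) (tt N11750 (iv6 F28305)) (tt N8779 F27985))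
theorem Q11534 : ∀ i, i < 11534 → P i := stepQ 11533 Q11533 (allL N11533 (tt N11751 F28320) (tt N8595 F27990) (tt N8783 F27988) (tt N12886 (iv3 F31073)) (tt N23412 D35136) (tt N5523 (iv5 D17058)) (tt N23413 D35137) (tt N8780 F27989))
theorem Q11535 : ∀ i, i < 11535 → P i := stepQ 11534 Q11534 (allL N11534 (tt N8699 (iv1 F27993)) (tt N5524 (iv0 D17059)) (tt N8784 (iv2 F27992)) (tt N13340 (iv3 F32166)) (tt N23414 D35138) (tt N5635 F27991) (tt N23415 D35139) (tt N8504 F27994))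
theorem Q11536 : ∀ i, i < 11536 → P i := stepQ 11535 Q11535 (allL N11535 (tt N23416 D35140) (tt N23417 D35141) (tt N23398 (iv2 F55814)) (tt N23418 D35142) (tt N5524 (iv4 D17060)) (tt N23419 D35143) (tt N23410 (iv6 F55826)) (tt N8785 F27995))
theorem Q11537 : ∀ i, i < 11537 → P i := stepQ 11536 Q11536 (allL N11536 (tt N12084 F117265) (tt N8685 (iv0 F117290)) (tt N12082 F117324) (tt N5525 (iv3 D17062)) (tt N23420 D35147) (tt N23421 D35148) (tt N8520 (iv6 F299502)) (tt N11354 F43169))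
theorem Q11538 : ∀ i, i < 11538 → P i := stepQ 11537 Q11537 (allL N11537 (tt N12370 F29724) (tt N12408 (iv0 F29898)) (tt N11353 F43191) (tt N23421 (iv3 F55860)) (tt N23422 D35149) (tt N5525 (iv5 D17064)) (tt N11349 F28000) (tt N11355 F43171))
theorem Q11539 : ∀ i, i < 11539 → P i := stepQ 11538 Q11538 (allL N11538 (tt N6736 F116743) (tt N12031 F116744) (tt N12029 (iv2 F116796)) (tt N5526 (iv3 D17066)) (tt N23423 D35153) (tt N23424 D35154) (tt N23425 D35155) (tt N11352 (iv7 F43189)))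
theorem Q11540 : ∀ i, i < 11540 → P i := stepQ 11539 Q11539 (allL N11539 (tt N12408 F29897) (tt N12370 (iv0 F29892)) (tt N11355 (iv2 F43172)) (tt N23424 (iv3 F55873)) (tt N23426 D35156) (tt N5526 (iv5 D17068)) (tt N11764 (iv6 F28334)) (tt N11353 (iv7 F43190)))
theorem Q11541 : ∀ i, i < 11541 → P i := stepQ 11540 Q11540 (allL N11540 (tt N12057 (iv1 F29887)) (tt N8692 (iv0 F29832)) (tt N11356 (iv2 F43167)) (tt N23425 (iv3 F55875)) (tt N21555 (iv4 F51488)) (tt N12399 (iv5 F29830)) (tt N5526 (iv6 D17069)) (tt N11337 F28003))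
theorem Q11542 : ∀ i, i < 11542 → P i := stepQ 11541 Q11541 (allL N11541 (tt N11351 (iv1 F28011)) (tt N5527 (iv0 D17070)) (tt N11357 (iv2 F44671)) (tt N17674 (iv3 F297548)) (tt N23427 D35158) (tt N17669 (iv5 F298198)) (tt N23390 F296934) (tt N11358 F44667))
theorem Q11543 : ∀ i, i < 11543 → P i := stepQ 11542 Q11542 (allL N11542 (tt N5527 (iv1 D17071)) (tt N11351 F28004) (tt N11358 F44672) (tt N23428 D35160) (tt N23429 D35161) (tt N6032 (iv5 F28005)) (tt N23430 D35162) (tt N11357 F44670))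
theorem Q11544 : ∀ i, i < 11544 → P i := stepQ 11543 Q11543 (allL N11543 (tt N17476 F299648) (tt N23431 D35164) (tt N11359 F28006) (tt N23432 D35165) (tt N5527 (iv4 D17072)) (tt N23433 D35166) (tt N5529 F28007) (tt N23434 D35167))
theorem Q11545 : ∀ i, i < 11545 → P i := stepQ 11544 Q11544 (allL N11544 (tt N11358 (iv1 F28012)) (tt N11357 F28013) (tt N11351 F28008) (tt N17853 F299541) (tt N23434 (iv4 F55906)) (tt N5528 F28009) (tt N8853 F28010) (tt N5527 (iv7 D17073)))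
theorem Q11546 : ∀ i, i < 11546 → P i := stepQ 11545 Q11545 (allL N11545 (tt N23435 D35168) (tt N23436 D35169) (tt N23437 D35170) (tt N5529 (iv3 D17074)) (tt N23418 (iv4 F55848)) (tt N6046 F28014) (tt N23432 (iv6 F55902)) (tt N8866 F28015))
theorem Q11547 : ∀ i, i < 11547 → P i := stepQ 11546 Q11546 (allL N11546 (tt N5844 F28019) (tt N5818 F28020) (tt N5875 F28016) (tt N5898 F28017) (tt N11670 (iv4 F28199)) (tt N5530 (iv5 D17075)) (tt N5938 (iv6 F296220)) (tt N5886 F28018))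
theorem Q11548 : ∀ i, i < 11548 → P i := stepQ 11547 Q11547 (allL N11547 (tt N11597 F28085) (tt N5819 (iv0 F28025)) (tt N5940 F28022) (tt N11260 F28023) (tt N5532 F28024) (tt N23438 D35172) (tt N5530 (iv6 D17076)) (tt N11566 (iv7 F28045)))
theorem Q11549 : ∀ i, i < 11549 → P i := stepQ 11548 Q11548 (allL N11548 (tt N17610 (iv1 F44051)) (tt N23439 D35173) (tt N12562 (iv2 F30138)) (tt N17759 (iv3 F44420)) (tt N5531 (iv4 D17077)) (tt N23440 D35174) (tt N23441 D35175) (tt N12560 (iv7 F30134)))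
theorem Q11550 : ∀ i, i < 11550 → P i := stepQ 11549 Q11549 (allL N11549 (tt N6798 F296591) (tt N5706 F120814) (tt N12563 (iv2 F30142)) (tt N17374 (iv3 F42976)) (tt N23441 (iv4 F55928)) (tt N23442 D35178) (tt N5531 (iv6 D17078)) (tt N17571 F120791))
theorem Q11551 : ∀ i, i < 11551 → P i := stepQ 11550 Q11550 (allL N11550 (tt N17501 F43510) (tt N5619 (iv0 F28027)) (tt N11568 (iv2 F28047)) (tt N17375 (iv3 F42978)) (tt N23443 D35180) (tt N5532 (iv5 D17079)) (tt N23442 (iv6 F55929)) (tt N11567 (iv7 F28046)))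
theorem Q11552 : ∀ i, i < 11552 → P i := stepQ 11551 Q11551 (allL N11551 (tt N6141 F28031) (tt N6143 (iv0 F28030)) (tt N12724 (iv2 F30739)) (tt N5535 F28028) (tt N6365 F28029) (tt N13797 (iv5 F33761)) (tt N5533 (iv6 D17080)) (tt N13639 (iv7 F33407)))
theorem Q11553 : ∀ i, i < 11553 → P i := stepQ 11552 Q11552 (allL N11552 (tt N23439 (iv1 F55923)) (tt N17610 (iv0 F44050)) (tt N12560 (iv2 F30133)) (tt N23444 D35181) (tt N5534 (iv4 D17081)) (tt N23445 D35182) (tt N23446 D35183) (tt N12562 (iv7 F30139)))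
theorem Q11554 : ∀ i, i < 11554 → P i := stepQ 11553 Q11553 (allL N11553 (tt N5605 F121250) (tt N17490 F121251) (tt N12561 (iv2 F30137)) (tt N13635 (iv3 F33397)) (tt N23446 (iv4 F55930)) (tt N23447 D35186) (tt N5534 (iv6 D17082)) (tt N17489 F121252))
theorem Q11555 : ∀ i, i < 11555 → P i := stepQ 11554 Q11554 (allL N11554 (tt N5543 F28032) (tt N11891 (iv0 F28598)) (tt N11892 F28602) (tt N13797 F33764) (tt N23448 D35188) (tt N5535 (iv5 D17083)) (tt N23447 (iv6 F55931)) (tt N11893 (iv7 F28605)))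
theorem Q11556 : ∀ i, i < 11556 → P i := stepQ 11555 Q11555 (allL N11555 (tt N5846 F28034) (tt N5871 F296008) (tt N5539 F28033) (tt N23449 D35189) (tt N5536 (iv4 D17084)) (tt N23450 D35190) (tt N23451 D35191) (tt N11939 (iv7 F28730)))
theorem Q11557 : ∀ i, i < 11557 → P i := stepQ 11556 Q11556 (allL N11556 (tt N23452 D35192) (tt N23453 D35193) (tt N5540 F28035) (tt N11951 (iv3 F28752)) (tt N23451 (iv4 F55935)) (tt N23454 D35194) (tt N5536 (iv6 D17085)) (tt N23455 D35195))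
theorem Q11558 : ∀ i, i < 11558 → P i := stepQ 11557 Q11557 (allL N11557 (tt N11893 (iv1 F28604)) (tt N11892 F28601) (tt N5543 F28036) (tt N11881 (iv3 F28567)) (tt N23456 D35196) (tt N5537 (iv5 D17086)) (tt N23454 (iv6 F55938)) (tt N11891 (iv7 F28597)))
theorem Q11559 : ∀ i, i < 11559 → P i := stepQ 11558 Q11558 (allL N11558 (tt N12085 (iv1 F29193)) (tt N12095 F296132) (tt N11900 (iv2 F28623)) (tt N23457 D35197) (tt N5538 (iv4 D17087)) (tt N23458 D35198) (tt N13984 (iv6 F296656)) (tt N11283 F296133))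
theorem Q11560 : ∀ i, i < 11560 → P i := stepQ 11559 Q11559 (allL N11559 (tt N11939 (iv1 F28732)) (tt N5539 (iv0 D17091)) (tt N5846 (iv2 F28039)) (tt N23459 D35210) (tt N5845 F28038) (tt N23460 D35211) (tt N22976 (iv6 F296231)) (tt N5871 F296010))
theorem Q11561 : ∀ i, i < 11561 → P i := stepQ 11560 Q11560 (allL N11560 (tt N23461 D35213) (tt N12184 (iv0 F29473)) (tt N23450 (iv2 F55932)) (tt N21796 (iv3 F51904)) (tt N23462 D35214) (tt N5539 (iv5 D17092)) (tt N23463 D35215) (tt N11941 (iv7 F28739)))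
theorem Q11562 : ∀ i, i < 11562 → P i := stepQ 11561 Q11561 (allL N11561 (tt N23033 (iv1 F296736)) (tt N23464 D35217) (tt N23451 (iv2 F55934)) (tt N21797 (iv3 F51908)) (tt N5540 F28040) (tt N23465 D35218) (tt N5539 (iv6 D17093)) (tt N23466 D35219))
theorem Q11563 : ∀ i, i < 11563 → P i := stepQ 11562 Q11562 (allL N11562 (tt N23455 (iv1 F55942)) (tt N5540 (iv0 D17094)) (tt N23452 (iv2 F115880)) (tt N23467 D35221) (tt N23468 D35222) (tt N23469 D35223) (tt N13971 (iv6 F296714)) (tt N23453 F115879))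
theorem Q11564 : ∀ i, i < 11564 → P i := stepQ 11563 Q11563 (allL N11563 (tt N5540 (iv1 D17095)) (tt N23455 F55941) (tt N23453 F115876) (tt N23470 D35226) (tt N23471 D35227) (tt N23472 D35228) (tt N23473 D35229) (tt N23452 (iv7 F115881)))
theorem Q11565 : ∀ i, i < 11565 → P i := stepQ 11564 Q11564 (allL N11564 (tt N12937 F296154) (tt N23474 D35231) (tt N23454 (iv2 F55937)) (tt N5546 F28041) (tt N23475 D35232) (tt N5540 (iv5 D17096)) (tt N5543 F28042) (tt N23476 D35233))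
theorem Q11566 : ∀ i, i < 11566 → P i := stepQ 11565 Q11565 (allL N11565 (tt N23453 (iv1 F55936)) (tt N23452 F55940) (tt N23455 (iv2 F55939)) (tt N5547 F28043) (tt N23466 (iv4 F55962)) (tt N23476 (iv5 F55967)) (tt N11945 (iv6 F28742)) (tt N5540 (iv7 D17097)))
theorem Q11567 : ∀ i, i < 11567 → P i := stepQ 11566 Q11566 (allL N11566 (tt N11905 (iv1 F28644)) (tt N11235 (iv0 F28061)) (tt N11310 F28044) (tt N11835 F28490) (tt N5541 (iv4 D17098)) (tt N15530 (iv5 F326093)) (tt N11714 (iv6 F28259)) (tt N11547 F28045))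
theorem Q11568 : ∀ i, i < 11568 → P i := stepQ 11567 Q11567 (allL N11567 (tt N11715 F28265) (tt N8587 F28266) (tt N11716 (iv2 F28269)) (tt N17827 (iv3 F44563)) (tt N23477 D35235) (tt N5541 (iv5 D17099)) (tt N23478 D35236) (tt N11550 F28046))
theorem Q11569 : ∀ i, i < 11569 → P i := stepQ 11568 Q11568 (allL N11568 (tt N8587 F28048) (tt N11715 (iv0 F28264)) (tt N11550 F28047) (tt N13795 (iv3 F33757)) (tt N23479 D35237) (tt N5542 (iv5 D17100)) (tt N23480 D35238) (tt N11716 (iv7 F28267)))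
theorem Q11570 : ∀ i, i < 11570 → P i := stepQ 11569 Q11569 (allL N11569 (tt N11891 F28599) (tt N5543 (iv0 D17101)) (tt N11893 (iv2 F28607)) (tt N16026 (iv3 F325571)) (tt N23481 D35240) (tt N5617 F28049) (tt N16023 F324460) (tt N11892 F28603))
theorem Q11571 : ∀ i, i < 11571 → P i := stepQ 11570 Q11570 (allL N11570 (tt N23482 D35242) (tt N22937 (iv0 F54685)) (tt N23456 (iv2 F55943)) (tt N23483 D35243) (tt N5543 (iv4 D17102)) (tt N23484 D35244) (tt N23475 (iv6 F55965)) (tt N11894 (iv7 F28608)))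
theorem Q11572 : ∀ i, i < 11572 → P i := stepQ 11571 Q11571 (allL N11571 (tt N11990 (iv1 F59793)) (tt N5682 (iv0 F59794)) (tt N11949 F298260) (tt N5544 (iv3 D17104)) (tt N11322 (iv4 F300753)) (tt N11688 (iv5 F300755)) (tt N5556 F298261) (tt N11958 (iv7 F51319)))
theorem Q11573 : ∀ i, i < 11573 → P i := stepQ 11572 Q11572 (allL N11572 (tt N11703 F28248) (tt N11873 (iv0 F30533)) (tt N11957 F51322) (tt N11688 (iv3 F300754)) (tt N23485 D35251) (tt N5544 (iv5 D17106)) (tt N11688 F28232) (tt N11959 (iv7 F51320)))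
theorem Q11574 : ∀ i, i < 11574 → P i := stepQ 11573 Q11573 (allL N11573 (tt N5678 F296905) (tt N11866 (iv0 F28554)) (tt N11948 F51297) (tt N5556 (iv3 F297129)) (tt N11208 F28971) (tt N5556 F28051) (tt N5544 (iv6 D17107)) (tt N11946 (iv7 F298508)))
theorem Q11575 : ∀ i, i < 11575 → P i := stepQ 11574 Q11574 (allL N11574 (tt N5564 F91277) (tt N11927 F91278) (tt N11925 (iv2 F91241)) (tt N5545 (iv3 D17109)) (tt N23486 D35255) (tt N20516 F321751) (tt N23487 D35257) (tt N11924 F91240))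
theorem Q11576 : ∀ i, i < 11576 → P i := stepQ 11575 Q11575 (allL N11575 (tt N11873 F28784) (tt N11703 (iv0 F30430)) (tt N11959 (iv2 F51323)) (tt N20516 (iv3 F319901)) (tt N23488 D35258) (tt N5545 (iv5 D17111)) (tt N11729 (iv6 F28278)) (tt N11957 F51325))
theorem Q11577 : ∀ i, i < 11577 → P i := stepQ 11576 Q11576 (allL N11576 (tt N11972 (iv1 F30429)) (tt N8661 (iv0 F30428)) (tt N11960 F51282) (tt N23487 (iv3 F55986)) (tt N11211 F28976) (tt N11854 (iv5 F28538)) (tt N5545 (iv6 D17112)) (tt N11971 (iv7 F51281)))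
theorem Q11578 : ∀ i, i < 11578 → P i := stepQ 11577 Q11577 (allL N11577 (tt N5546 (iv1 D17114)) (tt N11890 F28591) (tt N11889 F53084) (tt N7630 (iv3 F322719)) (tt N23431 (iv4 F55900)) (tt N12664 (iv5 F30545)) (tt N7629 (iv6 F322501)) (tt N11888 (iv7 F53083)))
theorem Q11579 : ∀ i, i < 11579 → P i := stepQ 11578 Q11578 (allL N11578 (tt N23118 (iv1 F55001)) (tt N23121 (iv0 F55006)) (tt N11887 (iv2 F28583)) (tt N23489 D35263) (tt N5546 (iv4 D17115)) (tt N23490 D35264) (tt N5548 F28053) (tt N23491 D35265))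
theorem Q11580 : ∀ i, i < 11580 → P i := stepQ 11579 Q11579 (allL N11579 (tt N11889 (iv1 F28585)) (tt N11888 F28590) (tt N11890 (iv2 F28587)) (tt N23476 (iv3 F55966)) (tt N23491 (iv4 F55991)) (tt N5547 F28054) (tt N11679 (iv6 F28211)) (tt N5546 (iv7 D17116)))
theorem Q11581 : ∀ i, i < 11581 → P i := stepQ 11580 Q11580 (allL N11580 (tt N23492 D35266) (tt N23493 D35267) (tt N23494 D35268) (tt N5548 (iv3 D17117)) (tt N23483 (iv4 F55979)) (tt N11735 (iv5 F28283)) (tt N23489 (iv6 F55990)) (tt N11895 (iv7 F28610)))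
theorem Q11582 : ∀ i, i < 11582 → P i := stepQ 11581 Q11581 (allL N11581 (tt N11881 (iv1 F28569)) (tt N5627 (iv0 F28055)) (tt N11883 F28578) (tt N12918 (iv3 F31148)) (tt N23495 D35269) (tt N5549 (iv5 D17118)) (tt N12603 (iv6 F30248)) (tt N11882 F28574))
theorem Q11583 : ∀ i, i < 11583 → P i := stepQ 11582 Q11582 (allL N11582 (tt N11238 F28059) (tt N5729 (iv0 F28060)) (tt N7030 F28056) (tt N5551 F28057) (tt N7030 F28058) (tt N23496 D35270) (tt N5550 (iv6 D17119)) (tt N11595 (iv7 F28080)))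
theorem Q11584 : ∀ i, i < 11584 → P i := stepQ 11583 Q11583 (allL N11583 (tt N5624 F28063) (tt N13337 (iv0 F32116)) (tt N12644 (iv2 F30309)) (tt N23496 (iv3 F55995)) (tt N23497 D35271) (tt N5551 (iv5 D17120)) (tt N12612 (iv6 F30263)) (tt N12645 (iv7 F30315)))
theorem Q11585 : ∀ i, i < 11585 → P i := stepQ 11584 Q11584 (allL N11584 (tt N6178 F28065) (tt N6163 F28066) (tt N5553 F28064) (tt N23498 D35272) (tt N5552 (iv4 D17121)) (tt N13026 (iv5 F31396)) (tt N15330 (iv6 F304633)) (tt N11950 (iv7 F28748)))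
theorem Q11586 : ∀ i, i < 11586 → P i := stepQ 11585 Q11585 (allL N11585 (tt N22226 (iv1 F308481)) (tt N19006 (iv0 F308482)) (tt N5554 F28067) (tt N11940 (iv3 F28734)) (tt N15330 F306649) (tt N6074 F28068) (tt N5552 (iv6 D17122)) (tt N23499 D35276))
theorem Q11587 : ∀ i, i < 11587 → P i := stepQ 11586 Q11586 (allL N11586 (tt N12615 (iv1 F30265)) (tt N12618 (iv0 F30267)) (tt N13026 (iv2 F31395)) (tt N14843 F301190) (tt N12839 (iv4 F30977)) (tt N5553 (iv5 D17124)) (tt N14835 (iv6 F301900)) (tt N11952 (iv7 F28753)))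
theorem Q11588 : ∀ i, i < 11588 → P i := stepQ 11587 Q11587 (allL N11587 (tt N15334 (iv1 F307197)) (tt N15329 (iv0 F307205)) (tt N15330 F306003) (tt N14844 F306004) (tt N5554 F28072) (tt N14836 (iv5 F306550)) (tt N5553 (iv6 D17125)) (tt N15331 (iv7 F307204)))
theorem Q11589 : ∀ i, i < 11589 → P i := stepQ 11588 Q11588 (allL N11588 (tt N23499 (iv1 F56005)) (tt N5554 (iv0 D17126)) (tt N22226 F309922) (tt N13970 (iv3 F59764)) (tt N9493 F309923) (tt N23500 D35287) (tt N23501 D35288) (tt N19006 F309924))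
theorem Q11590 : ∀ i, i < 11590 → P i := stepQ 11589 Q11589 (allL N11589 (tt N5554 (iv1 D17127)) (tt N23499 F56004) (tt N19006 F309765) (tt N23502 D35290) (tt N19004 F309766) (tt N23503 D35292) (tt N23504 D35293) (tt N22226 F309767))
theorem Q11591 : ∀ i, i < 11591 → P i := stepQ 11590 Q11590 (allL N11590 (tt N19006 F309133) (tt N22226 F309134) (tt N23499 (iv2 F56001)) (tt N5557 F28073) (tt N15331 F309135) (tt N6089 F28074) (tt N11956 (iv6 F28756)) (tt N5554 (iv7 D17128)))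
theorem Q11592 : ∀ i, i < 11592 → P i := stepQ 11591 Q11591 (allL N11591 (tt N11917 (iv1 F91257)) (tt N5570 (iv0 F91258)) (tt N11915 (iv2 F91229)) (tt N5555 (iv3 D17130)) (tt N23505 D35297) (tt N11915 F299043) (tt N23506 D35299) (tt N11916 F91228))
theorem Q11593 : ∀ i, i < 11593 → P i := stepQ 11592 Q11592 (allL N11592 (tt N11866 F28553) (tt N5678 F296904) (tt N11946 (iv2 F298506)) (tt N11915 (iv3 F297178)) (tt N12464 (iv4 F29965)) (tt N5555 (iv5 D17132)) (tt N11971 F28828) (tt N11948 F51308))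
theorem Q11594 : ∀ i, i < 11594 → P i := stepQ 11593 Q11593 (allL N11593 (tt N8663 F28593) (tt N11983 F28844) (tt N11947 F51266) (tt N23506 (iv3 F56015)) (tt N10464 (iv4 F28963)) (tt N11677 F28208) (tt N5555 (iv6 D17133)) (tt N11981 (iv7 F51264)))
theorem Q11595 : ∀ i, i < 11595 → P i := stepQ 11594 Q11594 (allL N11594 (tt N23507 D35305) (tt N23508 D35306) (tt N13962 (iv2 F34426)) (tt N5564 F28077) (tt N14169 (iv4 F34951)) (tt N23509 D35307) (tt N5559 (iv6 D17138)) (tt N23510 D35308))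
theorem Q11596 : ∀ i, i < 11596 → P i := stepQ 11595 Q11595 (allL N11595 (tt N8672 (iv1 F28079)) (tt N5560 (iv0 D17139)) (tt N11902 (iv2 F28631)) (tt N6092 F28078) (tt N11902 F28629) (tt N23511 D35309) (tt N11654 (iv6 F31205)) (tt N11582 F28080))
theorem Q11597 : ∀ i, i < 11597 → P i := stepQ 11596 Q11596 (allL N11596 (tt N23512 D35310) (tt N12933 (iv0 F31208)) (tt N22913 (iv2 F54640)) (tt N5566 F28081) (tt N23513 D35311) (tt N5560 (iv5 D17140)) (tt N23509 (iv6 F56019)) (tt N11903 (iv7 F28633)))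
theorem Q11598 : ∀ i, i < 11598 → P i := stepQ 11597 Q11597 (allL N11597 (tt N11310 (iv1 F28086)) (tt N11547 (iv0 F28085)) (tt N11235 F28082) (tt N5562 F28083) (tt N11235 F28084) (tt N23514 D35312) (tt N5561 (iv6 D17141)) (tt N11905 (iv7 F28642)))
theorem Q11599 : ∀ i, i < 11599 → P i := stepQ 11598 Q11598 (allL N11598 (tt N8642 (iv1 F28090)) (tt N5562 (iv0 D17143)) (tt N8781 (iv2 F28089)) (tt N6360 F28088) (tt N5943 F28087) (tt N11757 (iv5 F296309)) (tt N11657 (iv6 F28171)) (tt N11261 F28091))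
theorem Q11600 : ∀ i, i < 11600 → P i := stepQ 11599 Q11599 (allL N11599 (tt N23515 D35318) (tt N23390 (iv0 F55787)) (tt N17547 (iv2 F43659)) (tt N23514 (iv3 F56028)) (tt N17480 (iv4 F43420)) (tt N5562 (iv5 D17144)) (tt N5964 (iv6 F297005)) (tt N11906 (iv7 F28645)))
theorem Q11601 : ∀ i, i < 11601 → P i := stepQ 11600 Q11600 (allL N11600 (tt N5563 (iv1 D17145)) (tt N5569 F28092) (tt N5865 (iv2 F28094)) (tt N23516 D35319) (tt N5863 F28093) (tt N19515 (iv5 F299175)) (tt N5865 (iv6 F296041)) (tt N11911 (iv7 F28663)))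
theorem Q11602 : ∀ i, i < 11602 → P i := stepQ 11601 Q11601 (allL N11601 (tt N23517 D35321) (tt N23518 D35322) (tt N11923 (iv2 F28699)) (tt N12252 (iv3 F29538)) (tt N5564 F28095) (tt N23519 D35323) (tt N5563 (iv6 D17146)) (tt N23520 D35324))
theorem Q11603 : ∀ i, i < 11603 → P i := stepQ 11602 Q11602 (allL N11602 (tt N11927 (iv1 F28708)) (tt N5564 (iv0 D17147)) (tt N11924 (iv2 F91274)) (tt N11949 F298979) (tt N23521 D35327) (tt N20517 (iv5 F323443)) (tt N11916 F298980) (tt N11925 (iv7 F91276)))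
theorem Q11604 : ∀ i, i < 11604 → P i := stepQ 11603 Q11603 (allL N11603 (tt N5589 F298981) (tt N7630 F324187) (tt N11926 (iv2 F28702)) (tt N23509 (iv3 F56018)) (tt N7617 F324188) (tt N5564 (iv5 D17149)) (tt N5566 F28096) (tt N15991 F324189))
theorem Q11605 : ∀ i, i < 11605 → P i := stepQ 11604 Q11604 (allL N11604 (tt N11925 (iv1 F28701)) (tt N11924 F28706) (tt N11927 (iv2 F28704)) (tt N23510 (iv3 F56020)) (tt N23520 (iv4 F56044)) (tt N15991 (iv5 F323824)) (tt N11917 (iv6 F28680)) (tt N5564 (iv7 D17150)))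
theorem Q11606 : ∀ i, i < 11606 → P i := stepQ 11605 Q11605 (allL N11605 (tt N23522 D35347) (tt N23523 D35348) (tt N17645 (iv2 F44223)) (tt N5570 F28105) (tt N17650 (iv4 F44237)) (tt N11627 (iv5 F28149)) (tt N5568 (iv6 D17154)) (tt N23524 D35349))
theorem Q11607 : ∀ i, i < 11607 → P i := stepQ 11606 Q11606 (allL N11606 (tt N23007 (iv1 F297982)) (tt N23525 D35354) (tt N12245 (iv2 F29531)) (tt N5569 (iv3 D17156)) (tt N17648 (iv4 F44236)) (tt N12243 F29530) (tt N23526 D35355) (tt N11921 (iv7 F28695)))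
theorem Q11608 : ∀ i, i < 11608 → P i := stepQ 11607 Q11607 (allL N11607 (tt N12250 (iv1 F29535)) (tt N12217 (iv0 F29512)) (tt N11913 (iv2 F28672)) (tt N12243 (iv3 F29529)) (tt N10783 F298782) (tt N5569 (iv5 D17157)) (tt N23527 D35356) (tt N11922 (iv7 F28698)))
theorem Q11609 : ∀ i, i < 11609 → P i := stepQ 11608 Q11608 (allL N11608 (tt N23528 D35357) (tt N23029 (iv0 F91399)) (tt N11914 (iv2 F28676)) (tt N23526 (iv3 F56069)) (tt N5570 F28107) (tt N23529 D35359) (tt N5569 (iv6 D17158)) (tt N23530 D35360))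
theorem Q11610 : ∀ i, i < 11610 → P i := stepQ 11609 Q11609 (allL N11609 (tt N5570 (iv1 D17160)) (tt N11917 F28682) (tt N11916 F91260) (tt N11948 F299044) (tt N23531 D35368) (tt N11916 F299045) (tt N11924 F299046) (tt N11915 F91261))
theorem Q11611 : ∀ i, i < 11611 → P i := stepQ 11610 Q11610 (allL N11610 (tt N11916 (iv1 F28678)) (tt N11915 F28681) (tt N11917 (iv2 F28679)) (tt N23524 (iv3 F56064)) (tt N23530 (iv4 F56070)) (tt N11632 (iv5 F28152)) (tt N11927 (iv6 F28705)) (tt N5570 (iv7 D17161)))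
theorem Q11612 : ∀ i, i < 11612 → P i := stepQ 11611 Q11611 (allL N11611 (tt N23532 D35370) (tt N23533 D35371) (tt N22455 (iv2 F53164)) (tt N5571 (iv3 D17162)) (tt N17462 (iv4 F43320)) (tt N23534 D35372) (tt N23535 D35373) (tt N17548 (iv7 F43664)))
theorem Q11613 : ∀ i, i < 11613 → P i := stepQ 11612 Q11612 (allL N11612 (tt N11932 (iv1 F28719)) (tt N11929 (iv0 F28712)) (tt N5585 F28108) (tt N23534 (iv3 F56073)) (tt N5692 F28109) (tt N5571 (iv5 D17163)) (tt N23536 D35374) (tt N17470 (iv7 F43395)))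
theorem Q11614 : ∀ i, i < 11614 → P i := stepQ 11613 Q11613 (allL N11613 (tt N23537 D35375) (tt N23538 D35376) (tt N5586 F28110) (tt N23535 (iv3 F56074)) (tt N5572 F28111) (tt N23539 D35377) (tt N5571 (iv6 D17164)) (tt N23540 D35378))
theorem Q11615 : ∀ i, i < 11615 → P i := stepQ 11614 Q11614 (allL N11614 (tt N5590 (iv1 F28116)) (tt N5572 (iv0 D17165)) (tt N5587 (iv2 F91336)) (tt N23541 D35380) (tt N23542 D35381) (tt N23543 D35382) (tt N11937 (iv6 F301697)) (tt N5588 (iv7 F91342)))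
theorem Q11616 : ∀ i, i < 11616 → P i := stepQ 11615 Q11615 (allL N11615 (tt N5572 (iv1 D17166)) (tt N5590 F28112) (tt N5588 F91347) (tt N23544 D35384) (tt N23545 D35385) (tt N10025 F323450) (tt N5588 F301593) (tt N5587 F91348))
theorem Q11617 : ∀ i, i < 11617 → P i := stepQ 11616 Q11616 (allL N11616 (tt N15991 F323869) (tt N11926 F299012) (tt N5589 F28113) (tt N11888 F299013) (tt N8960 F323870) (tt N5572 (iv5 D17167)) (tt N5575 F28114) (tt N7630 F323871))
theorem Q11618 : ∀ i, i < 11618 → P i := stepQ 11617 Q11617 (allL N11617 (tt N5588 (iv1 F28117)) (tt N5587 F28118) (tt N5590 F28115) (tt N12664 F301594) (tt N23540 (iv4 F56080)) (tt N7630 F324191) (tt N12662 F301596) (tt N5572 (iv7 D17168)))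
theorem Q11619 : ∀ i, i < 11619 → P i := stepQ 11618 Q11618 (allL N11618 (tt N11750 F30566) (tt N11521 F30568) (tt N17371 F42969) (tt N5573 (iv3 D17169)) (tt N17371 (iv4 F42967)) (tt N17570 (iv5 F43728)) (tt N8670 F28119) (tt N5594 F28120))
theorem Q11620 : ∀ i, i < 11620 → P i := stepQ 11619 Q11619 (allL N11619 (tt N12923 F31169) (tt N12934 F31213) (tt N12932 (iv2 F31201)) (tt N5574 (iv3 D17171)) (tt N6057 F28127) (tt N17568 (iv5 F43721)) (tt N11619 F28125) (tt N5591 F28126))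
theorem Q11621 : ∀ i, i < 11621 → P i := stepQ 11620 Q11620 (allL N11620 (tt N11996 (iv1 F296042)) (tt N11995 (iv0 F296070)) (tt N5595 F28128) (tt N11251 F28131) (tt N5574 (iv4 D17172)) (tt N13355 (iv5 F296201)) (tt N11620 F28129) (tt N5592 F28130))
theorem Q11622 : ∀ i, i < 11622 → P i := stepQ 11621 Q11621 (allL N11621 (tt N23546 D35398) (tt N17374 (iv0 F296252)) (tt N17604 (iv2 F44033)) (tt N5579 F28134) (tt N12386 (iv4 F29813)) (tt N23547 D35400) (tt N5577 (iv6 D17174)) (tt N17564 (iv7 F296253)))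
theorem Q11623 : ∀ i, i < 11623 → P i := stepQ 11622 Q11622 (allL N11622 (tt N5578 (iv1 D17175)) (tt N5581 F28135) (tt N12147 (iv2 F29395)) (tt N23548 D35402) (tt N11811 (iv4 F28429)) (tt N12250 (iv5 F29536)) (tt N23549 D35403) (tt N12214 (iv7 F29507)))
theorem Q11624 : ∀ i, i < 11624 → P i := stepQ 11623 Q11623 (allL N11623 (tt N23550 D35404) (tt N12218 (iv0 F297717)) (tt N17555 (iv2 F43692)) (tt N12274 (iv3 F29556)) (tt N5579 F28136) (tt N23551 D35406) (tt N5578 (iv6 D17176)) (tt N17565 (iv7 F299205)))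
theorem Q11625 : ∀ i, i < 11625 → P i := stepQ 11624 Q11624 (allL N11624 (tt N23552 D35418) (tt N23553 D35419) (tt N11666 (iv2 F28192)) (tt N23547 (iv3 F56119)) (tt N15602 F322599) (tt N5579 (iv5 D17179)) (tt N5733 F28137) (tt N17566 (iv7 F299207)))
theorem Q11626 : ∀ i, i < 11626 → P i := stepQ 11625 Q11625 (allL N11625 (tt N11520 (iv1 F28142)) (tt N11518 F28141) (tt N5580 (iv2 D17181)) (tt N5815 F28138) (tt N8734 (iv4 F28143)) (tt N5734 F28139) (tt N23554 D35422) (tt N8703 F28140))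
theorem Q11627 : ∀ i, i < 11627 → P i := stepQ 11626 Q11626 (allL N11626 (tt N8720 F28146) (tt N8722 F28147) (tt N8734 F28144) (tt N23555 D35423) (tt N5580 (iv4 D17182)) (tt N23556 D35424) (tt N23557 D35425) (tt N8733 F28145))
theorem Q11628 : ∀ i, i < 11628 → P i := stepQ 11627 Q11627 (allL N11627 (tt N17794 (iv1 F91406)) (tt N17798 (iv0 F91407)) (tt N23554 (iv2 F56129)) (tt N5582 F28148) (tt N23557 (iv4 F56143)) (tt N11605 F28149) (tt N5580 (iv6 D17183)) (tt N23558 D35428))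
theorem Q11629 : ∀ i, i < 11629 → P i := stepQ 11628 Q11628 (allL N11628 (tt N23559 D35429) (tt N22350 (iv0 F56135)) (tt N12272 (iv2 F29553)) (tt N5581 (iv3 D17184)) (tt N23555 (iv4 F56133)) (tt N13981 (iv5 F34459)) (tt N23560 D35430) (tt N17554 (iv7 F43691)))
theorem Q11630 : ∀ i, i < 11630 → P i := stepQ 11629 Q11629 (allL N11629 (tt N9559 (iv1 F299893)) (tt N12137 (iv0 F29353)) (tt N11284 F28150) (tt N13981 (iv3 F34458)) (tt N17094 F299180) (tt N5581 (iv5 D17185)) (tt N23561 D35431) (tt N14041 (iv7 F34582)))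
theorem Q11631 : ∀ i, i < 11631 → P i := stepQ 11630 Q11630 (allL N11630 (tt N23562 D35432) (tt N12308 F91188) (tt N17552 (iv2 F43681)) (tt N23560 (iv3 F56147)) (tt N5582 F28151) (tt N23563 D35434) (tt N5581 (iv6 D17186)) (tt N23564 D35435))
theorem Q11632 : ∀ i, i < 11632 → P i := stepQ 11631 Q11631 (allL N11631 (tt N5582 (iv1 D17188)) (tt N12658 F91165) (tt N12569 (iv2 F91175)) (tt N6099 F300051) (tt N23565 D35443) (tt N6098 F300052) (tt N23566 D35445) (tt N12659 (iv7 F91182)))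
theorem Q11633 : ∀ i, i < 11633 → P i := stepQ 11632 Q11632 (allL N11632 (tt N12569 F91191) (tt N12659 F91192) (tt N12658 F91166) (tt N23558 (iv3 F56144)) (tt N23564 (iv4 F56149)) (tt N11610 F28152) (tt N17550 F300523) (tt N5582 (iv7 D17189)))
theorem Q11634 : ∀ i, i < 11634 → P i := stepQ 11633 Q11633 (allL N11633 (tt N23567 D35446) (tt N23568 D35447) (tt N23569 D35448) (tt N5583 (iv3 D17190)) (tt N23570 D35449) (tt N23571 D35450) (tt N23572 D35451) (tt N17556 (iv7 F43700)))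
theorem Q11635 : ∀ i, i < 11635 → P i := stepQ 11634 Q11634 (allL N11634 (tt N17591 (iv1 F43863)) (tt N5746 F28153) (tt N17184 (iv2 F42453)) (tt N23571 (iv3 F56157)) (tt N9385 F298466) (tt N5583 (iv5 D17191)) (tt N23573 D35452) (tt N17557 (iv7 F43703)))
theorem Q11636 : ∀ i, i < 11636 → P i := stepQ 11635 Q11635 (allL N11635 (tt N17563 (iv1 F297963)) (tt N17549 (iv0 F297957)) (tt N17559 (iv2 F43708)) (tt N23572 (iv3 F56159)) (tt N17589 (iv4 F43829)) (tt N23574 D35455) (tt N5583 (iv6 D17192)) (tt N17561 (iv7 F297966)))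
theorem Q11637 : ∀ i, i < 11637 → P i := stepQ 11636 Q11636 (allL N11636 (tt N23575 D35457) (tt N23576 D35458) (tt N17205 (iv2 F42497)) (tt N5584 (iv3 D17193)) (tt N13824 (iv4 F33890)) (tt N17187 (iv5 F42466)) (tt N23577 D35459) (tt N17185 F42461))
theorem Q11638 : ∀ i, i < 11638 → P i := stepQ 11637 Q11637 (allL N11637 (tt N5746 F28154) (tt N17591 (iv0 F43862)) (tt N17557 (iv2 F43701)) (tt N17187 (iv3 F42464)) (tt N9386 F298480) (tt N5584 (iv5 D17194)) (tt N23578 D35460) (tt N17184 (iv7 F42454)))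
theorem Q11639 : ∀ i, i < 11639 → P i := stepQ 11638 Q11638 (allL N11638 (tt N12660 (iv1 F116662)) (tt N23565 (iv0 F116663)) (tt N17558 (iv2 F43706)) (tt N23577 (iv3 F56162)) (tt N13823 (iv4 F33888)) (tt N23579 D35463) (tt N5584 (iv6 D17195)) (tt N23580 D35464))
theorem Q11640 : ∀ i, i < 11640 → P i := stepQ 11639 Q11639 (allL N11639 (tt N17470 (iv1 F43397)) (tt N5585 (iv0 D17196)) (tt N11932 (iv2 F28715)) (tt N23581 D35465) (tt N11993 (iv4 F28884)) (tt N8667 F28155) (tt N23582 D35466) (tt N11929 (iv7 F28710)))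
theorem Q11641 : ∀ i, i < 11641 → P i := stepQ 11640 Q11640 (allL N11640 (tt N5585 (iv1 D17197)) (tt N17470 (iv0 F43396)) (tt N11929 (iv2 F28709)) (tt N5985 (iv3 F28157)) (tt N11988 (iv4 F28870)) (tt N8668 F28156) (tt N23583 D35467) (tt N11932 (iv7 F28717)))
theorem Q11642 : ∀ i, i < 11642 → P i := stepQ 11641 Q11641 (allL N11641 (tt N23584 D35470) (tt N23585 D35471) (tt N23536 (iv2 F56075)) (tt N22466 (iv3 F53191)) (tt N22529 F303883) (tt N23586 D35472) (tt N5585 (iv6 D17199)) (tt N23587 D35473))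
theorem Q11643 : ∀ i, i < 11643 → P i := stepQ 11642 Q11642 (allL N11642 (tt N23540 (iv1 F56084)) (tt N5586 (iv0 D17200)) (tt N23537 F116891) (tt N23588 D35475) (tt N23589 D35476) (tt N21055 F323780) (tt N23590 D35478) (tt N23538 (iv7 F116900)))
theorem Q11644 : ∀ i, i < 11644 → P i := stepQ 11643 Q11643 (allL N11643 (tt N5586 (iv1 D17201)) (tt N23540 F56082) (tt N23538 (iv2 F116899)) (tt N23591 D35480) (tt N21072 F324845) (tt N23592 D35482) (tt N23538 (iv6 F299913)) (tt N23537 F116898))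
theorem Q11645 : ∀ i, i < 11645 → P i := stepQ 11644 Q11644 (allL N11644 (tt N23593 D35484) (tt N23594 D35485) (tt N23539 (iv2 F56078)) (tt N22469 (iv3 F53192)) (tt N21065 (iv4 F324255)) (tt N5586 (iv5 D17202)) (tt N23586 (iv6 F56169)) (tt N23595 D35487))
theorem Q11646 : ∀ i, i < 11646 → P i := stepQ 11645 Q11645 (allL N11645 (tt N23538 (iv1 F56077)) (tt N23537 F56081) (tt N23540 (iv2 F56079)) (tt N22470 (iv3 F53193)) (tt N5590 F28160) (tt N23595 (iv5 F56173)) (tt N17563 (iv6 F43711)) (tt N5586 (iv7 D17203)))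
theorem Q11647 : ∀ i, i < 11647 → P i := stepQ 11646 Q11646 (allL N11646 (tt N23596 D35494) (tt N12931 F118760) (tt N23597 D35496) (tt N5587 (iv3 D17205)) (tt N23598 D35497) (tt N23599 D35498) (tt N23600 D35499) (tt N23544 (iv7 F91349)))
theorem Q11648 : ∀ i, i < 11648 → P i := stepQ 11647 Q11647 (allL N11647 (tt N23601 D35501) (tt N23549 F117657) (tt N23542 (iv2 F91338)) (tt N14353 F311708) (tt N5587 (iv4 D17206)) (tt N23602 D35504) (tt N23603 D35505) (tt N23545 (iv7 F91351)))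
theorem Q11649 : ∀ i, i < 11649 → P i := stepQ 11648 Q11648 (allL N11648 (tt N21070 F323444) (tt N21067 F323445) (tt N23543 (iv2 F91340)) (tt N23599 (iv3 F56184)) (tt N10026 (iv4 F324113)) (tt N5587 (iv5 D17207)) (tt N15557 (iv6 F324112)) (tt N10025 F323446))
theorem Q11650 : ∀ i, i < 11650 → P i := stepQ 11649 Q11649 (allL N11649 (tt N23566 (iv1 F89353)) (tt N23566 (iv0 F302120)) (tt N11937 (iv2 F301696)) (tt N23600 (iv3 F56185)) (tt N23603 (iv4 F56188)) (tt N11909 F299282) (tt N5587 (iv6 D17208)) (tt N11937 F91328))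
theorem Q11651 : ∀ i, i < 11651 → P i := stepQ 11650 Q11650 (allL N11650 (tt N17370 (iv1 F121119)) (tt N23604 D35517) (tt N23605 D35518) (tt N5588 (iv3 D17210)) (tt N23606 D35519) (tt N23607 D35520) (tt N23544 (iv6 F298955)) (tt N23541 (iv7 F91337)))
theorem Q11652 : ∀ i, i < 11652 → P i := stepQ 11651 Q11651 (allL N11651 (tt N23549 F117658) (tt N23601 F56191) (tt N23545 (iv2 F91350)) (tt N23608 D35522) (tt N5588 (iv4 D17211)) (tt N23609 D35523) (tt N23545 (iv6 F300341)) (tt N23542 (iv7 F91339)))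
theorem Q11653 : ∀ i, i < 11653 → P i := stepQ 11652 Q11652 (allL N11652 (tt N21067 F323447) (tt N21070 F323448) (tt N10025 F323449) (tt N23607 (iv3 F56200)) (tt N7800 (iv4 F324120)) (tt N5588 (iv5 D17212)) (tt N7799 (iv6 F323903)) (tt N23543 (iv7 F91341)))
theorem Q11654 : ∀ i, i < 11654 → P i := stepQ 11653 Q11653 (allL N11653 (tt N7630 F323845) (tt N5589 (iv0 D17214)) (tt N15991 F323846) (tt N23610 D35532) (tt N7618 F323847) (tt N11927 (iv5 F300529)) (tt N23611 D35535) (tt N11926 F299354))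
theorem Q11655 : ∀ i, i < 11655 → P i := stepQ 11654 Q11654 (allL N11654 (tt N12932 F31203) (tt N5591 (iv0 D17218)) (tt N12934 (iv2 F31209)) (tt N5622 F31204) (tt N12934 (iv4 F31211)) (tt N23512 (iv5 F56023)) (tt N11595 F31205) (tt N12923 F31206))
theorem Q11656 : ∀ i, i < 11656 → P i := stepQ 11655 Q11655 (allL N11655 (tt N12934 (iv1 F31214)) (tt N12923 F31170) (tt N5591 (iv2 D17219)) (tt N17371 (iv3 F42968)) (tt N5834 F28166) (tt N23612 D35547) (tt N5833 F28167) (tt N12932 (iv7 F31198)))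
theorem Q11657 : ∀ i, i < 11657 → P i := stepQ 11656 Q11656 (allL N11656 (tt N23496 F55996) (tt N23613 D35548) (tt N23612 (iv2 F56214)) (tt N5593 F28168) (tt N22920 F54647) (tt N5591 (iv5 D17220)) (tt N17570 F296051) (tt N17568 (iv7 F43722)))
theorem Q11658 : ∀ i, i < 11658 → P i := stepQ 11657 Q11657 (allL N11657 (tt N5595 (iv1 F28169)) (tt N5592 (iv0 D17221)) (tt N11995 (iv2 F296071)) (tt N6467 (iv3 F28170)) (tt N11758 (iv4 F28324)) (tt N23515 (iv5 F56037)) (tt N11598 F28171) (tt N11996 (iv7 F296045)))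
theorem Q11659 : ∀ i, i < 11659 → P i := stepQ 11658 Q11658 (allL N11658 (tt N11253 F28174) (tt N11249 (iv0 F28177)) (tt N11250 (iv2 F28178)) (tt N5592 (iv3 D17223)) (tt N11250 (iv4 F28175)) (tt N13350 (iv5 F295900)) (tt N5783 F295738) (tt N11251 F28173))
theorem Q11660 : ∀ i, i < 11660 → P i := stepQ 11659 Q11659 (allL N11659 (tt N5594 (iv1 D17228)) (tt N17371 F42970) (tt N11750 F28311) (tt N5617 F28312) (tt N8593 F28313) (tt N16026 F326400) (tt N8782 F28314) (tt N11521 F28315))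
theorem Q11661 : ∀ i, i < 11661 → P i := stepQ 11660 Q11660 (allL N11660 (tt N11521 F30569) (tt N11750 F30570) (tt N5594 (iv2 D17229)) (tt N12932 F31200) (tt N5594 F30571) (tt N23614 D35560) (tt N11660 F28180) (tt N17371 (iv7 F42971)))
theorem Q11662 : ∀ i, i < 11662 → P i := stepQ 11661 Q11661 (allL N11661 (tt N23411 (iv1 F55833)) (tt N17375 (iv0 F42979)) (tt N23614 (iv2 F56235)) (tt N5596 F28182) (tt N23615 D35561) (tt N5594 (iv5 D17231)) (tt N23616 D35562) (tt N17570 (iv7 F43729)))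
theorem Q11663 : ∀ i, i < 11663 → P i := stepQ 11662 Q11662 (allL N11662 (tt N6056 F28185) (tt N5634 (iv0 F28186)) (tt N6057 (iv2 F28187)) (tt N5595 (iv3 D17232)) (tt N12932 F31199) (tt N11240 (iv5 F28188)) (tt N11662 F28183) (tt N5834 F28184))
theorem Q11664 : ∀ i, i < 11664 → P i := stepQ 11663 Q11663 (allL N11663 (tt N13354 F296381) (tt N13353 F296382) (tt N13355 F296383) (tt N11240 F28189) (tt N23617 D35563) (tt N5595 (iv5 D17233)) (tt N17518 (iv6 F297518)) (tt N5639 F296384))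
theorem Q11665 : ∀ i, i < 11665 → P i := stepQ 11664 Q11664 (allL N11664 (tt N23618 D35568) (tt N23618 (iv0 F301531)) (tt N17569 (iv2 F43726)) (tt N23616 (iv3 F56240)) (tt N15535 (iv4 F324766)) (tt N11664 F28190) (tt N5596 (iv6 D17235)) (tt N17569 (iv7 F299551)))
theorem Q11666 : ∀ i, i < 11666 → P i := stepQ 11665 Q11665 (allL N11665 (tt N17372 (iv1 F42974)) (tt N16026 F326399) (tt N17644 (iv2 F44221)) (tt N5597 (iv3 D17236)) (tt N23619 D35571) (tt N8641 F28191) (tt N23620 D35572) (tt N17546 (iv7 F43658)))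
theorem Q11667 : ∀ i, i < 11667 → P i := stepQ 11666 Q11666 (allL N11666 (tt N23621 D35576) (tt N23622 D35577) (tt N11624 F28192) (tt N23620 (iv3 F56253)) (tt N16009 F322248) (tt N8633 F28193) (tt N5597 (iv6 D17238)) (tt N23611 (iv7 F301743)))
theorem Q11668 : ∀ i, i < 11668 → P i := stepQ 11667 Q11667 (allL N11667 (tt N23623 D35585) (tt N23624 D35586) (tt N23625 D35587) (tt N5598 (iv3 D17241)) (tt N5630 F28194) (tt N18740 F324972) (tt N18118 (iv6 F325124)) (tt N8963 F324973))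
theorem Q11669 : ∀ i, i < 11669 → P i := stepQ 11668 Q11668 (allL N11668 (tt N12155 (iv1 F29420)) (tt N12180 (iv0 F29465)) (tt N5601 F28197) (tt N23626 D35598) (tt N5600 (iv4 D17245)) (tt N23627 D35599) (tt N12228 (iv6 F296149)) (tt N12182 (iv7 F29469)))
theorem Q11670 : ∀ i, i < 11670 → P i := stepQ 11669 Q11669 (allL N11669 (tt N12953 (iv1 F296150)) (tt N12939 (iv0 F296151)) (tt N5602 F28198) (tt N12577 (iv3 F30184)) (tt N12228 (iv4 F296148)) (tt N23628 D35603) (tt N5600 (iv6 D17246)) (tt N12951 (iv7 F296153)))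
theorem Q11671 : ∀ i, i < 11671 → P i := stepQ 11670 Q11670 (allL N11670 (tt N12182 (iv1 F29468)) (tt N5601 (iv0 D17247)) (tt N12155 (iv2 F29417)) (tt N23629 D35605) (tt N11546 F28199) (tt N23461 (iv5 F55955)) (tt N12320 (iv6 F296983)) (tt N12180 (iv7 F29464)))
theorem Q11672 : ∀ i, i < 11672 → P i := stepQ 11671 Q11671 (allL N11671 (tt N12146 F296230) (tt N12107 (iv0 F29304)) (tt N23627 (iv2 F56272)) (tt N9155 F28200) (tt N23630 D35608) (tt N5601 (iv5 D17248)) (tt N23631 D35609) (tt N12564 (iv7 F30143)))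
theorem Q11673 : ∀ i, i < 11673 → P i := stepQ 11672 Q11672 (allL N11672 (tt N12231 (iv1 F296997)) (tt N12158 (iv0 F296998)) (tt N12228 F296630) (tt N9156 F28201) (tt N5602 F28202) (tt N23632 D35612) (tt N5601 (iv6 D17249)) (tt N12229 (iv7 F298127)))
theorem Q11674 : ∀ i, i < 11674 → P i := stepQ 11673 Q11673 (allL N11673 (tt N12951 F296631) (tt N5602 (iv0 D17250)) (tt N12953 F296632) (tt N23633 D35615) (tt N23634 D35616) (tt N23635 D35617) (tt N12938 (iv6 F297256)) (tt N12939 F296633))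
theorem Q11675 : ∀ i, i < 11675 → P i := stepQ 11674 Q11674 (allL N11674 (tt N23636 D35624) (tt N23637 D35625) (tt N23628 (iv2 F56279)) (tt N5603 F28203) (tt N23638 D35626) (tt N5602 (iv5 D17252)) (tt N5721 F28204) (tt N23639 D35627))
theorem Q11676 : ∀ i, i < 11676 → P i := stepQ 11675 Q11675 (allL N11675 (tt N12939 F296634) (tt N12953 F296635) (tt N12951 F296636) (tt N5604 F28205) (tt N12229 (iv4 F298126)) (tt N23639 (iv5 F56302)) (tt N12568 (iv6 F30147)) (tt N5602 (iv7 D17253)))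
theorem Q11677 : ∀ i, i < 11677 → P i := stepQ 11676 Q11676 (allL N11676 (tt N11739 (iv1 F28291)) (tt N5603 (iv0 D17264)) (tt N11737 F51268) (tt N17573 F300451) (tt N17995 (iv4 F45065)) (tt N17598 (iv5 F43897)) (tt N23640 D35629) (tt N11738 (iv7 F51270)))
theorem Q11678 : ∀ i, i < 11678 → P i := stepQ 11677 Q11677 (allL N11677 (tt N5603 (iv1 D17265)) (tt N11739 F28290) (tt N11738 F51271) (tt N23553 (iv3 F91262)) (tt N17996 (iv4 F45068)) (tt N11593 (iv5 F28208)) (tt N17574 (iv6 F43755)) (tt N11737 F51265))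
theorem Q11679 : ∀ i, i < 11679 → P i := stepQ 11678 Q11678 (allL N11678 (tt N12529 (iv1 F45056)) (tt N12532 F43126) (tt N11736 (iv2 F28284)) (tt N23641 D35631) (tt N5603 (iv4 D17266)) (tt N23642 D35632) (tt N5722 F28209) (tt N23643 D35633))
theorem Q11680 : ∀ i, i < 11680 → P i := stepQ 11679 Q11679 (allL N11679 (tt N11738 (iv1 F28286)) (tt N11737 F28289) (tt N11739 (iv2 F28287)) (tt N23639 (iv3 F56301)) (tt N23643 (iv4 F56307)) (tt N5604 F28210) (tt N11579 F28211) (tt N5603 (iv7 D17267)))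
theorem Q11681 : ∀ i, i < 11681 → P i := stepQ 11680 Q11680 (allL N11680 (tt N17490 (iv1 F43445)) (tt N5605 (iv0 D17274)) (tt N17489 F119362) (tt N23604 (iv3 F116325)) (tt N23644 D35636) (tt N23645 D35637) (tt N17571 (iv6 F121223)) (tt N12561 (iv7 F121219)))
theorem Q11682 : ∀ i, i < 11682 → P i := stepQ 11681 Q11681 (allL N11681 (tt N17489 (iv1 F43446)) (tt N12561 F121248) (tt N5605 (iv2 D17276)) (tt N12602 F118819) (tt N23646 D35644) (tt N23647 D35645) (tt N13986 (iv6 F296820)) (tt N17490 (iv7 F43444)))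
theorem Q11683 : ∀ i, i < 11683 → P i := stepQ 11682 Q11682 (allL N11682 (tt N23648 D35647) (tt N12185 F117742) (tt N23646 (iv2 F56313)) (tt N23649 D35649) (tt N5605 (iv4 D17277)) (tt N23650 D35650) (tt N23651 D35651) (tt N17491 (iv7 F43448)))
theorem Q11684 : ∀ i, i < 11684 → P i := stepQ 11683 Q11683 (allL N11683 (tt N23652 D35652) (tt N23653 D35653) (tt N23647 (iv2 F56314)) (tt N5607 F28222) (tt N23654 D35654) (tt N5605 (iv5 D17278)) (tt N23655 D35655) (tt N17492 (iv7 F43450)))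
theorem Q11685 : ∀ i, i < 11685 → P i := stepQ 11684 Q11684 (allL N11684 (tt N23656 D35656) (tt N23657 D35657) (tt N13986 F298191) (tt N5608 F28223) (tt N23651 (iv4 F56319)) (tt N8662 (iv5 F28224)) (tt N5605 (iv6 D17279)) (tt N11963 (iv7 F28822)))
theorem Q11686 : ∀ i, i < 11686 → P i := stepQ 11685 Q11685 (allL N11685 (tt N23658 D35658) (tt N9152 F189892) (tt N23659 D35660) (tt N5606 (iv3 D17283)) (tt N23649 (iv4 F56317)) (tt N23660 D35661) (tt N23661 D35662) (tt N10630 F41960))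
theorem Q11687 : ∀ i, i < 11687 → P i := stepQ 11686 Q11686 (allL N11686 (tt N23662 D35663) (tt N23663 D35664) (tt N10628 F41965) (tt N23660 (iv3 F56328)) (tt N11182 F308386) (tt N5606 (iv5 D17284)) (tt N11091 F308387) (tt N10631 F41961))
theorem Q11688 : ∀ i, i < 11688 → P i := stepQ 11687 Q11687 (allL N11687 (tt N8852 (iv1 F41735)) (tt N12517 F41738) (tt N10629 (iv2 F41945)) (tt N23661 (iv3 F56330)) (tt N5608 F28227) (tt N10706 (iv5 F41739)) (tt N5606 (iv6 D17285)) (tt N11969 F28826))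
theorem Q11689 : ∀ i, i < 11689 → P i := stepQ 11688 Q11688 (allL N11688 (tt N5611 F28233) (tt N5607 (iv0 D17287)) (tt N17486 (iv2 F51238)) (tt N11572 F300754) (tt N23664 D35668) (tt N11571 F300755) (tt N11572 (iv6 F28232)) (tt N17487 (iv7 F51234)))
theorem Q11690 : ∀ i, i < 11690 → P i := stepQ 11689 Q11689 (allL N11689 (tt N5607 (iv1 D17288)) (tt N5611 F28234) (tt N17487 F51328) (tt N21067 F323440) (tt N23665 D35670) (tt N11818 F299580) (tt N17507 F43989) (tt N17486 F51263))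
theorem Q11691 : ∀ i, i < 11691 → P i := stepQ 11690 Q11690 (allL N11690 (tt N23666 D35671) (tt N23667 D35672) (tt N17488 (iv2 F43440)) (tt N23668 D35673) (tt N5607 (iv4 D17289)) (tt N23669 D35674) (tt N23670 D35675) (tt N17493 (iv7 F43453)))
theorem Q11692 : ∀ i, i < 11692 → P i := stepQ 11691 Q11691 (allL N11691 (tt N5693 F299300) (tt N12663 (iv0 F30544)) (tt N11982 (iv2 F28839)) (tt N23655 (iv3 F56320)) (tt N23670 (iv4 F56360)) (tt N8663 F28235) (tt N5607 (iv6 D17290)) (tt N22504 (iv7 F53254)))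
theorem Q11693 : ∀ i, i < 11693 → P i := stepQ 11692 Q11692 (allL N11692 (tt N5608 (iv1 D17293)) (tt N8660 F28238) (tt N11967 (iv2 F30389)) (tt N23566 (iv3 F302122)) (tt N17946 (iv4 F44918)) (tt N11968 (iv5 F30398)) (tt N6099 (iv6 F28239)) (tt N11968 F30382))
theorem Q11694 : ∀ i, i < 11694 → P i := stepQ 11693 Q11693 (allL N11693 (tt N5609 (iv1 D17297)) (tt N12602 (iv0 F118792)) (tt N12604 (iv2 F118791)) (tt N23596 F118685) (tt N23671 D35684) (tt N23672 D35685) (tt N12613 (iv6 F118797)) (tt N12588 F118778))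
theorem Q11695 : ∀ i, i < 11695 → P i := stepQ 11694 Q11694 (allL N11694 (tt N12588 F118775) (tt N12604 (iv0 F118789)) (tt N5609 (iv2 D17298)) (tt N17490 (iv3 F43443)) (tt N23673 D35687) (tt N23674 D35688) (tt N23675 D35689) (tt N12602 F118829))
theorem Q11696 : ∀ i, i < 11696 → P i := stepQ 11695 Q11695 (allL N11695 (tt N12616 (iv1 F121049)) (tt N23676 D35691) (tt N23673 (iv2 F56366)) (tt N23677 D35692) (tt N5609 (iv4 D17299)) (tt N23678 D35693) (tt N12347 F297799) (tt N17484 (iv7 F43431)))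
theorem Q11697 : ∀ i, i < 11697 → P i := stepQ 11696 Q11696 (allL N11696 (tt N23679 D35695) (tt N23680 D35696) (tt N23674 (iv2 F56367)) (tt N5611 F28244) (tt N23681 D35697) (tt N5609 (iv5 D17300)) (tt N23682 D35698) (tt N17485 (iv7 F43433)))
theorem Q11698 : ∀ i, i < 11698 → P i := stepQ 11697 Q11697 (allL N11697 (tt N13635 F296365) (tt N23683 D35700) (tt N23675 (iv2 F56368)) (tt N5612 F28245) (tt N12347 (iv4 F297477)) (tt N23684 D35701) (tt N5609 (iv6 D17301)) (tt N17472 (iv7 F296868)))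
theorem Q11699 : ∀ i, i < 11699 → P i := stepQ 11698 Q11698 (allL N11698 (tt N12647 F189891) (tt N23685 D35704) (tt N23686 D35705) (tt N5610 (iv3 D17302)) (tt N23677 (iv4 F56369)) (tt N23316 F306994) (tt N23687 D35707) (tt N10627 (iv7 F41963)))
theorem Q11700 : ∀ i, i < 11700 → P i := stepQ 11699 Q11699 (allL N11699 (tt N23663 (iv1 F56336)) (tt N23662 F56333) (tt N10631 F41962) (tt N23316 (iv3 F305049)) (tt N23688 D35708) (tt N5610 (iv5 D17303)) (tt N17032 (iv6 F41979)) (tt N10628 (iv7 F41964)))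
theorem Q11701 : ∀ i, i < 11701 → P i := stepQ 11700 Q11700 (allL N11700 (tt N23689 D35709) (tt N9166 F46232) (tt N10632 F41959) (tt N23687 (iv3 F56384)) (tt N5612 F28246) (tt N23690 D35710) (tt N5610 (iv6 D17304)) (tt N17473 (iv7 F301086)))
theorem Q11702 : ∀ i, i < 11702 → P i := stepQ 11701 Q11701 (allL N11701 (tt N23667 (iv1 F56356)) (tt N23666 F56353) (tt N17493 (iv2 F43452)) (tt N23691 D35712) (tt N5611 (iv4 D17305)) (tt N23692 D35713) (tt N23693 D35714) (tt N17488 (iv7 F43441)))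
theorem Q11703 : ∀ i, i < 11703 → P i := stepQ 11702 Q11702 (allL N11702 (tt N7891 (iv1 F323037)) (tt N5724 (iv0 F28247)) (tt N15670 F321424) (tt N23682 (iv3 F56372)) (tt N23693 (iv4 F56403)) (tt N15703 F321425) (tt N5611 (iv6 D17306)) (tt N15671 F321426))
theorem Q11704 : ∀ i, i < 11704 → P i := stepQ 11703 Q11703 (allL N11703 (tt N11575 F30430) (tt N11572 (iv0 F28248)) (tt N17475 (iv2 F300110)) (tt N23684 (iv3 F56373)) (tt N23694 D35717) (tt N5612 (iv5 D17309)) (tt N15703 F321427) (tt N17474 (iv7 F300114)))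
theorem Q11705 : ∀ i, i < 11705 → P i := stepQ 11704 Q11704 (allL N11704 (tt N23645 F121274) (tt N23447 (iv0 F120816)) (tt N23695 D35720) (tt N5613 (iv3 D17312)) (tt N23696 D35721) (tt N13978 (iv5 F296711)) (tt N11860 F28547) (tt N13977 (iv7 F296603)))
theorem Q11706 : ∀ i, i < 11706 → P i := stepQ 11705 Q11705 (allL N11705 (tt N12378 F41764) (tt N8802 F41958) (tt N12374 F41955) (tt N23697 D35723) (tt N5613 (iv4 D17313)) (tt N23698 D35724) (tt N11865 (iv6 F28550)) (tt N12375 F41954))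
theorem Q11707 : ∀ i, i < 11707 → P i := stepQ 11706 Q11706 (allL N11706 (tt N11958 F298263) (tt N11949 (iv0 F43462)) (tt N11990 F298264) (tt N13978 F298265) (tt N21819 (iv4 F51971)) (tt N5613 (iv5 D17314)) (tt N11866 (iv6 F28552)) (tt N5682 F298266))
theorem Q11708 : ∀ i, i < 11708 → P i := stepQ 11707 Q11707 (allL N11707 (tt N12603 (iv1 F118085)) (tt N23672 (iv0 F118794)) (tt N23699 D35727) (tt N5614 (iv3 D17316)) (tt N23700 D35728) (tt N11986 F296283) (tt N11834 F296284) (tt N17494 (iv7 F43468)))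
theorem Q11709 : ∀ i, i < 11709 → P i := stepQ 11708 Q11708 (allL N11708 (tt N8802 (iv1 F41762)) (tt N12378 F41763) (tt N12375 F41953) (tt N23701 D35730) (tt N5614 (iv4 D17317)) (tt N23702 D35731) (tt N11839 F299396) (tt N12374 (iv7 F41957)))
theorem Q11710 : ∀ i, i < 11710 → P i := stepQ 11709 Q11709 (allL N11709 (tt N17499 (iv1 F43488)) (tt N5615 (iv0 D17319)) (tt N17495 F43478) (tt N23703 D35734) (tt N5963 F43479) (tt N23704 D35735) (tt N12404 F43480) (tt N17496 F43481))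
theorem Q11711 : ∀ i, i < 11711 → P i := stepQ 11710 Q11710 (allL N11710 (tt N5615 (iv1 D17320)) (tt N17499 F43487) (tt N17496 F43473) (tt N23705 D35736) (tt N5964 F42349) (tt N23706 D35737) (tt N17480 F298785) (tt N17495 (iv7 F43477)))
theorem Q11712 : ∀ i, i < 11712 → P i := stepQ 11711 Q11711 (allL N11711 (tt N23707 D35739) (tt N23708 D35740) (tt N23709 D35741) (tt N5615 (iv3 D17321)) (tt N18118 (iv4 F325123)) (tt N23710 D35742) (tt N5630 F28252) (tt N18115 F324568))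
theorem Q11713 : ∀ i, i < 11713 → P i := stepQ 11712 Q11712 (allL N11712 (tt N23711 D35744) (tt N23712 D35745) (tt N17498 (iv2 F43484)) (tt N23710 (iv3 F56417)) (tt N23713 D35746) (tt N5615 (iv5 D17322)) (tt N23714 D35747) (tt N23715 D35748))
theorem Q11714 : ∀ i, i < 11714 → P i := stepQ 11713 Q11713 (allL N11713 (tt N17496 (iv1 F43471)) (tt N17495 F43482) (tt N17499 (iv2 F43485)) (tt N18115 (iv3 F323123)) (tt N5616 F28253) (tt N23715 (iv5 F56422)) (tt N16014 F321459) (tt N5615 (iv7 D17323)))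
theorem Q11715 : ∀ i, i < 11715 → P i := stepQ 11714 Q11714 (allL N11714 (tt N11251 (iv1 F28261)) (tt N11250 F28262) (tt N11253 F28258) (tt N15600 F324983) (tt N5617 (iv4 D17326)) (tt N15599 (iv5 F325275)) (tt N11566 F28259) (tt N11249 F28260))
theorem Q11716 : ∀ i, i < 11716 → P i := stepQ 11715 Q11715 (allL N11715 (tt N11568 F28264) (tt N11567 (iv0 F28265)) (tt N5619 F28263) (tt N13337 (iv3 F32114)) (tt N23716 D35751) (tt N5618 (iv5 D17327)) (tt N12940 F295875) (tt N17501 (iv7 F43508)))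
theorem Q11717 : ∀ i, i < 11717 → P i := stepQ 11716 Q11716 (allL N11716 (tt N5619 (iv1 D17328)) (tt N17501 (iv0 F43509)) (tt N11567 F28269) (tt N13638 (iv3 F33401)) (tt N23717 D35753) (tt N5719 (iv5 F28268)) (tt N23718 D35754) (tt N11568 F28267))
theorem Q11718 : ∀ i, i < 11718 → P i := stepQ 11717 Q11717 (allL N11717 (tt N23719 D35755) (tt N23720 D35756) (tt N23716 (iv2 F56430)) (tt N23721 D35757) (tt N5619 (iv4 D17329)) (tt N23722 D35758) (tt N22945 (iv6 F296038)) (tt N17502 (iv7 F43511)))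
theorem Q11719 : ∀ i, i < 11719 → P i := stepQ 11718 Q11718 (allL N11718 (tt N7031 (iv1 F296035)) (tt N7032 (iv0 F296036)) (tt N12940 F295926) (tt N5621 F28270) (tt N22945 (iv4 F296037)) (tt N6843 F295927) (tt N5619 (iv6 D17330)) (tt N12941 (iv7 F296039)))
theorem Q11720 : ∀ i, i < 11720 → P i := stepQ 11719 Q11719 (allL N11719 (tt N23723 D35763) (tt N23724 D35764) (tt N23725 D35765) (tt N5620 (iv3 D17331)) (tt N23721 (iv4 F56437)) (tt N17500 (iv5 F43494)) (tt N23726 D35766) (tt N17504 (iv7 F43515)))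
theorem Q11721 : ∀ i, i < 11721 → P i := stepQ 11720 Q11720 (allL N11720 (tt N19308 F321984) (tt N23727 D35768) (tt N17477 F296265) (tt N23726 (iv3 F56440)) (tt N5621 F28271) (tt N18767 F321985) (tt N5620 (iv6 D17332)) (tt N17478 (iv7 F297206)))
theorem Q11722 : ∀ i, i < 11722 → P i := stepQ 11721 Q11721 (allL N11721 (tt N5621 (iv1 D17334)) (tt N5700 F296261) (tt N5702 F296262) (tt N7861 (iv3 F323904)) (tt N23728 D35775) (tt N5685 F296263) (tt N7860 F322488) (tt N5684 F296264))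
theorem Q11723 : ∀ i, i < 11723 → P i := stepQ 11722 Q11722 (allL N11722 (tt N5627 F28273) (tt N11881 (iv0 F28570)) (tt N11882 F28573) (tt N23512 F56025) (tt N23729 D35778) (tt N5622 (iv5 D17337)) (tt N23730 D35779) (tt N11883 (iv7 F28576)))
theorem Q11724 : ∀ i, i < 11724 → P i := stepQ 11723 Q11723 (allL N11723 (tt N12645 (iv1 F30321)) (tt N12644 (iv0 F30312)) (tt N5624 F28274) (tt N17501 (iv3 F43507)) (tt N23731 D35780) (tt N5623 (iv5 D17338)) (tt N23732 D35781) (tt N13337 (iv7 F32115)))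
theorem Q11725 : ∀ i, i < 11725 → P i := stepQ 11724 Q11724 (allL N11724 (tt N13337 (iv1 F32117)) (tt N5624 (iv0 D17339)) (tt N12645 F30317) (tt N7032 F30318) (tt N23733 D35782) (tt N5714 F30319) (tt N23734 D35783) (tt N12644 F30320))
theorem Q11726 : ∀ i, i < 11726 → P i := stepQ 11725 Q11725 (allL N11725 (tt N23735 D35784) (tt N23736 D35785) (tt N23731 (iv2 F56449)) (tt N23737 D35786) (tt N5624 (iv4 D17340)) (tt N23738 D35787) (tt N23739 D35788) (tt N13338 (iv7 F32122)))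
theorem Q11727 : ∀ i, i < 11727 → P i := stepQ 11726 Q11726 (allL N11726 (tt N23740 D35789) (tt N23741 D35790) (tt N23732 (iv2 F56450)) (tt N5626 F28275) (tt N23739 (iv4 F56456)) (tt N11726 F28276) (tt N5624 (iv6 D17341)) (tt N23742 D35791))
theorem Q11728 : ∀ i, i < 11728 → P i := stepQ 11727 Q11727 (allL N11727 (tt N23743 D35792) (tt N23744 D35793) (tt N23745 D35794) (tt N5625 (iv3 D17342)) (tt N23737 (iv4 F56455)) (tt N17504 (iv5 F43514)) (tt N23746 D35795) (tt N17500 (iv7 F43495)))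
theorem Q11729 : ∀ i, i < 11729 → P i := stepQ 11728 Q11728 (allL N11728 (tt N23747 D35796) (tt N23748 D35797) (tt N17505 (iv2 F43516)) (tt N23746 (iv3 F56459)) (tt N5626 F28277) (tt N23749 D35798) (tt N5625 (iv6 D17343)) (tt N23750 D35799))
theorem Q11730 : ∀ i, i < 11730 → P i := stepQ 11729 Q11729 (allL N11729 (tt N17479 F298893) (tt N5626 (iv0 D17344)) (tt N17506 F51324) (tt N23618 (iv3 F91279)) (tt N23751 D35801) (tt N23752 D35802) (tt N11575 F28278) (tt N17507 (iv7 F51326)))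
theorem Q11731 : ∀ i, i < 11731 → P i := stepQ 11730 Q11730 (allL N11730 (tt N5626 (iv1 D17345)) (tt N17479 F298894) (tt N17507 F51327) (tt N17506 F298895) (tt N23753 D35804) (tt N23640 (iv5 F56304)) (tt N17487 (iv6 F43439)) (tt N17506 F51321))
theorem Q11732 : ∀ i, i < 11732 → P i := stepQ 11731 Q11731 (allL N11731 (tt N17507 (iv1 F43519)) (tt N17506 F43523) (tt N17479 (iv2 F297207)) (tt N23742 (iv3 F56457)) (tt N23750 (iv4 F56460)) (tt N11731 F28279) (tt N5700 F296332) (tt N5626 (iv7 D17346)))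
theorem Q11733 : ∀ i, i < 11733 → P i := stepQ 11732 Q11732 (allL N11732 (tt N11883 (iv1 F28575)) (tt N11882 F28572) (tt N5627 (iv2 D17347)) (tt N11891 (iv3 F28596)) (tt N23754 D35805) (tt N6063 F28280) (tt N23755 D35806) (tt N11881 (iv7 F28568)))
theorem Q11734 : ∀ i, i < 11734 → P i := stepQ 11733 Q11733 (allL N11733 (tt N23756 D35807) (tt N23757 D35808) (tt N23754 (iv2 F56464)) (tt N23758 D35809) (tt N5627 (iv4 D17348)) (tt N23759 D35810) (tt N23760 D35811) (tt N11884 (iv7 F28579)))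
theorem Q11735 : ∀ i, i < 11735 → P i := stepQ 11734 Q11734 (allL N11734 (tt N23761 D35812) (tt N23762 D35813) (tt N23755 (iv2 F56465)) (tt N5629 F28281) (tt N23760 (iv4 F56471)) (tt N6090 F28282) (tt N5627 (iv6 D17349)) (tt N23763 D35814))
theorem Q11736 : ∀ i, i < 11736 → P i := stepQ 11735 Q11735 (allL N11735 (tt N23764 D35815) (tt N23765 D35816) (tt N23766 D35817) (tt N5628 (iv3 D17350)) (tt N23758 (iv4 F56470)) (tt N11580 F28283) (tt N23767 D35818) (tt N11886 (iv7 F28582)))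
theorem Q11737 : ∀ i, i < 11737 → P i := stepQ 11736 Q11736 (allL N11736 (tt N17991 (iv1 F45064)) (tt N17994 (iv0 F45063)) (tt N11678 F28284) (tt N23767 (iv3 F56475)) (tt N5629 F28285) (tt N23768 D35819) (tt N5628 (iv6 D17351)) (tt N23769 D35820))
theorem Q11738 : ∀ i, i < 11738 → P i := stepQ 11737 Q11737 (allL N11737 (tt N11679 (iv1 F28289)) (tt N5629 (iv0 D17352)) (tt N11676 (iv2 F51268)) (tt N23621 (iv3 F91311)) (tt N12533 (iv4 F41677)) (tt N11981 (iv5 F28838)) (tt N23770 D35822) (tt N11677 (iv7 F51265)))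
theorem Q11739 : ∀ i, i < 11739 → P i := stepQ 11738 Q11738 (allL N11738 (tt N5629 (iv1 D17353)) (tt N11679 F28286) (tt N11677 (iv2 F51271)) (tt N11855 F299081) (tt N12534 F41676) (tt N11947 (iv5 F28744)) (tt N11855 (iv6 F43464)) (tt N11676 F51270))
theorem Q11740 : ∀ i, i < 11740 → P i := stepQ 11739 Q11739 (allL N11739 (tt N11677 (iv1 F28290)) (tt N11676 F28291) (tt N11679 F28287) (tt N23763 (iv3 F56472)) (tt N23769 (iv4 F56479)) (tt N6104 F28288) (tt N11890 (iv6 F28589)) (tt N5629 (iv7 D17354)))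
theorem Q11741 : ∀ i, i < 11741 → P i := stepQ 11740 Q11740 (allL N11740 (tt N23771 D35824) (tt N5630 (iv0 D17355)) (tt N23772 D35825) (tt N23773 D35826) (tt N23774 D35827) (tt N23775 D35828) (tt N23776 D35829) (tt N23777 D35830))
theorem Q11742 : ∀ i, i < 11742 → P i := stepQ 11741 Q11741 (allL N11741 (tt N5630 (iv1 D17356)) (tt N23771 F56490) (tt N23777 (iv2 F56492)) (tt N23778 D35831) (tt N23779 D35832) (tt N23780 D35833) (tt N23781 D35834) (tt N23772 F56491))
theorem Q11743 : ∀ i, i < 11743 → P i := stepQ 11742 Q11742 (allL N11742 (tt N23772 (iv1 F254378)) (tt N23777 F254374) (tt N5630 (iv2 D17357)) (tt N17510 (iv3 F43526)) (tt N23625 (iv4 F56265)) (tt N23782 D35837) (tt N23709 (iv6 F56416)) (tt N23771 (iv7 F56489)))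
theorem Q11744 : ∀ i, i < 11744 → P i := stepQ 11743 Q11743 (allL N11743 (tt N23783 D35838) (tt N23784 D35839) (tt N23782 (iv2 F56495)) (tt N5631 F28292) (tt N23785 D35840) (tt N5630 (iv5 D17358)) (tt N23786 D35841) (tt N5723 (iv7 F28293)))
theorem Q11745 : ∀ i, i < 11745 → P i := stepQ 11744 Q11744 (allL N11744 (tt N23777 F254375) (tt N23772 (iv0 F254377)) (tt N23771 F56487) (tt N5632 F28294) (tt N8963 F324026) (tt N5723 F28295) (tt N8962 F324027) (tt N5630 (iv7 D17359)))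
theorem Q11746 : ∀ i, i < 11746 → P i := stepQ 11745 Q11745 (allL N11745 (tt N23787 D35843) (tt N23788 D35844) (tt N15650 F321467) (tt N23786 (iv3 F56503)) (tt N5724 F28296) (tt N23714 (iv5 F56421)) (tt N5631 (iv6 D17360)) (tt N23789 D35845))
theorem Q11747 : ∀ i, i < 11747 → P i := stepQ 11746 Q11746 (allL N11746 (tt N23790 D35846) (tt N23791 D35847) (tt N12555 (iv2 F30128)) (tt N8962 (iv3 F322544)) (tt N5633 F28297) (tt N23792 D35848) (tt N5632 (iv6 D17361)) (tt N16014 F320747))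
theorem Q11748 : ∀ i, i < 11748 → P i := stepQ 11747 Q11747 (allL N11747 (tt N16013 (iv1 F320221)) (tt N5633 (iv0 D17362)) (tt N16012 (iv2 F319452)) (tt N23793 D35850) (tt N23794 D35851) (tt N15604 (iv5 F320739)) (tt N16015 F323064) (tt N16011 (iv7 F319447)))
theorem Q11749 : ∀ i, i < 11749 → P i := stepQ 11748 Q11748 (allL N11748 (tt N5633 (iv1 D17363)) (tt N16013 (iv0 F320220)) (tt N16011 (iv2 F319446)) (tt N23795 D35855) (tt N23796 D35856) (tt N15605 (iv5 F320736)) (tt N23797 D35858) (tt N16012 (iv7 F319453)))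
theorem Q11750 : ∀ i, i < 11750 → P i := stepQ 11749 Q11749 (allL N11749 (tt N6057 (iv1 F28303)) (tt N5834 F28302) (tt N5634 (iv2 D17364)) (tt N11227 F28298) (tt N11749 F28299) (tt N12075 F29164) (tt N5822 F28300) (tt N6056 F28301))
theorem Q11751 : ∀ i, i < 11751 → P i := stepQ 11750 Q11750 (allL N11750 (tt N11660 (iv1 F30570)) (tt N11618 (iv0 F30566)) (tt N11659 (iv2 F28311)) (tt N12715 (iv3 F30721)) (tt N5635 (iv4 D17365)) (tt N23798 D35859) (tt N11532 F28305) (tt N8503 F28306))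
theorem Q11752 : ∀ i, i < 11752 → P i := stepQ 11751 Q11751 (allL N11751 (tt N8508 F28319) (tt N11533 (iv0 F28320)) (tt N5637 F28317) (tt N11257 F28318) (tt N23799 D35860) (tt N5636 (iv5 D17366)) (tt N11241 F296121) (tt N17511 (iv7 F43541)))
theorem Q11753 : ∀ i, i < 11753 → P i := stepQ 11752 Q11752 (allL N11752 (tt N23800 D35862) (tt N23801 D35863) (tt N23799 (iv2 F56521)) (tt N23802 D35864) (tt N5637 (iv4 D17367)) (tt N23803 D35865) (tt N23804 D35866) (tt N17512 (iv7 F43544)))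
theorem Q11754 : ∀ i, i < 11754 → P i := stepQ 11753 Q11753 (allL N11753 (tt N11237 F296191) (tt N6039 F296192) (tt N11241 F296193) (tt N5639 F28321) (tt N23804 (iv4 F56528)) (tt N5834 F296194) (tt N5637 (iv6 D17368)) (tt N11240 F296195))
theorem Q11755 : ∀ i, i < 11755 → P i := stepQ 11754 Q11754 (allL N11754 (tt N23805 D35870) (tt N23806 D35871) (tt N23807 D35872) (tt N5638 (iv3 D17369)) (tt N23802 (iv4 F56527)) (tt N13351 (iv5 F32271)) (tt N23808 D35873) (tt N17514 (iv7 F43548)))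
theorem Q11756 : ∀ i, i < 11756 → P i := stepQ 11755 Q11755 (allL N11755 (tt N5701 (iv1 F297194)) (tt N23728 (iv0 F67504)) (tt N13352 (iv2 F32273)) (tt N23808 (iv3 F56530)) (tt N5639 F28322) (tt N18763 F321958) (tt N5638 (iv6 D17370)) (tt N23617 (iv7 F297536)))
theorem Q11757 : ∀ i, i < 11757 → P i := stepQ 11756 Q11756 (allL N11756 (tt N13355 (iv1 F32282)) (tt N5639 (iv0 D17371)) (tt N13353 F44685) (tt N8508 (iv3 F296588)) (tt N18867 F322582) (tt N8505 (iv5 F296492)) (tt N6033 F28323) (tt N13354 (iv7 F44686)))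
theorem Q11758 : ∀ i, i < 11758 → P i := stepQ 11757 Q11757 (allL N11757 (tt N5639 (iv1 D17372)) (tt N13355 F32281) (tt N13354 (iv2 F44688)) (tt N13136 F296308) (tt N23809 D35882) (tt N11598 F296309) (tt N23810 D35884) (tt N13353 F44687))
theorem Q11759 : ∀ i, i < 11759 → P i := stepQ 11758 Q11758 (allL N11758 (tt N17464 F43344) (tt N11228 (iv0 F30729)) (tt N15600 F324230) (tt N5640 (iv3 D17374)) (tt N11657 F28324) (tt N7834 F324231) (tt N5943 F28325) (tt N11247 F28326))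
theorem Q11760 : ∀ i, i < 11760 → P i := stepQ 11759 Q11759 (allL N11759 (tt N5945 F28330) (tt N5942 F28329) (tt N5642 F28327) (tt N17511 (iv3 F43540)) (tt N23811 D35885) (tt N5641 (iv5 D17375)) (tt N23812 D35886) (tt N11257 F28328))
theorem Q11761 : ∀ i, i < 11761 → P i := stepQ 11760 Q11760 (allL N11760 (tt N23813 D35887) (tt N12954 (iv0 F31251)) (tt N23811 (iv2 F56542)) (tt N23814 D35888) (tt N5642 (iv4 D17376)) (tt N23815 D35889) (tt N23816 D35890) (tt N13349 (iv7 F32268)))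
theorem Q11762 : ∀ i, i < 11762 → P i := stepQ 11761 Q11761 (allL N11761 (tt N23817 D35891) (tt N23818 D35892) (tt N23812 (iv2 F56546)) (tt N5644 F28331) (tt N23816 (iv4 F56553)) (tt N11761 F28332) (tt N5642 (iv6 D17377)) (tt N23819 D35893))
theorem Q11763 : ∀ i, i < 11763 → P i := stepQ 11762 Q11762 (allL N11762 (tt N23820 D35894) (tt N23821 D35895) (tt N23822 D35896) (tt N5643 (iv3 D17378)) (tt N23814 (iv4 F56552)) (tt N17514 (iv5 F43547)) (tt N23823 D35897) (tt N13351 (iv7 F32272)))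
theorem Q11764 : ∀ i, i < 11764 → P i := stepQ 11763 Q11763 (allL N11763 (tt N23751 (iv1 F115714)) (tt N23753 (iv0 F115715)) (tt N17515 (iv2 F43549)) (tt N23823 (iv3 F56556)) (tt N5644 F28333) (tt N12660 (iv5 F320256)) (tt N5643 (iv6 D17379)) (tt N23824 D35901))
theorem Q11765 : ∀ i, i < 11765 → P i := stepQ 11764 Q11764 (allL N11764 (tt N17518 (iv1 F43564)) (tt N5644 (iv0 D17380)) (tt N17516 F43552) (tt N23825 D35902) (tt N23529 F318844) (tt N23826 D35904) (tt N11539 F28334) (tt N17517 (iv7 F43555)))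
theorem Q11766 : ∀ i, i < 11766 → P i := stepQ 11765 Q11765 (allL N11765 (tt N5644 (iv1 D17381)) (tt N17518 F43563) (tt N17517 F43559) (tt N23827 D35905) (tt N23828 D35906) (tt N17992 (iv5 F45058)) (tt N17859 (iv6 F44624)) (tt N17516 F43553))
theorem Q11767 : ∀ i, i < 11767 → P i := stepQ 11766 Q11766 (allL N11766 (tt N17517 (iv1 F43554)) (tt N17516 (iv0 F43558)) (tt N17518 (iv2 F43560)) (tt N23819 (iv3 F56554)) (tt N23824 (iv4 F56557)) (tt N11766 F28335) (tt N13355 (iv6 F32279)) (tt N5644 (iv7 D17382)))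
theorem Q11768 : ∀ i, i < 11768 → P i := stepQ 11767 Q11767 (allL N11767 (tt N23829 D35907) (tt N23830 D35908) (tt N8483 F28336) (tt N21539 (iv3 F51472)) (tt N10476 F28337) (tt N15186 (iv5 F37994)) (tt N5645 (iv6 D17383)) (tt N23831 D35909))
theorem Q11769 : ∀ i, i < 11769 → P i := stepQ 11768 Q11768 (allL N11768 (tt N13377 F37010) (tt N16386 F40455) (tt N16379 (iv2 F40440)) (tt N5646 (iv3 D17384)) (tt N14732 F37008) (tt N23832 D35910) (tt N23833 D35911) (tt N16360 (iv7 F40385)))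
theorem Q11770 : ∀ i, i < 11770 → P i := stepQ 11769 Q11769 (allL N11769 (tt N10527 (iv1 F28340)) (tt N10512 (iv0 F40394)) (tt N8315 F28338) (tt N10536 (iv3 F28341)) (tt N5646 (iv4 D17385)) (tt N21769 (iv5 F51848)) (tt N23834 D35912) (tt N10528 F28339))
theorem Q11771 : ∀ i, i < 11771 → P i := stepQ 11770 Q11770 (allL N11770 (tt N10803 F28345) (tt N8045 F28346) (tt N10815 F28344) (tt N23832 (iv3 F56570)) (tt N23835 D35913) (tt N5646 (iv5 D17386)) (tt N23836 D35914) (tt N10814 (iv7 F28357)))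
theorem Q11772 : ∀ i, i < 11772 → P i := stepQ 11771 Q11771 (allL N11771 (tt N19433 F54425) (tt N11160 F54426) (tt N16363 (iv2 F40397)) (tt N23833 (iv3 F56572)) (tt N23834 (iv4 F56575)) (tt N23837 D35915) (tt N5646 (iv6 D17387)) (tt N23838 D35916))
theorem Q11773 : ∀ i, i < 11773 → P i := stepQ 11772 Q11772 (allL N11772 (tt N11450 F28350) (tt N11452 (iv0 F28348)) (tt N17535 (iv2 F43622)) (tt N5647 (iv3 D17388)) (tt N10532 F28347) (tt N23839 D35917) (tt N23840 D35918) (tt N16362 (iv7 F40391)))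
theorem Q11774 : ∀ i, i < 11774 → P i := stepQ 11773 Q11773 (allL N11773 (tt N8045 F28354) (tt N10803 F28358) (tt N10814 F28355) (tt N23839 (iv3 F56588)) (tt N23841 D35919) (tt N5647 (iv5 D17389)) (tt N23842 D35920) (tt N10815 F28353))
theorem Q11775 : ∀ i, i < 11775 → P i := stepQ 11774 Q11774 (allL N11774 (tt N20906 F50462) (tt N20905 F50463) (tt N16361 (iv2 F40389)) (tt N23840 (iv3 F56593)) (tt N10223 F50464) (tt N23843 D35921) (tt N5647 (iv6 D17390)) (tt N23844 D35922))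
theorem Q11776 : ∀ i, i < 11776 → P i := stepQ 11775 Q11775 (allL N11775 (tt N16366 (iv1 F40407)) (tt N16365 F40403) (tt N5649 F28360) (tt N16385 (iv3 F40451)) (tt N23845 D35923) (tt N5648 (iv5 D17391)) (tt N23846 D35924) (tt N16364 (iv7 F40399)))
theorem Q11777 : ∀ i, i < 11777 → P i := stepQ 11776 Q11776 (allL N11776 (tt N22042 (iv1 F52406)) (tt N22049 (iv0 F52416)) (tt N23845 (iv2 F56608)) (tt N23177 (iv3 F55133)) (tt N5649 (iv4 D17393)) (tt N23847 D35925) (tt N23848 D35926) (tt N16367 (iv7 F40411)))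
theorem Q11778 : ∀ i, i < 11778 → P i := stepQ 11777 Q11777 (allL N11777 (tt N23849 D35927) (tt N23850 D35928) (tt N23846 (iv2 F56609)) (tt N5651 F28361) (tt N23848 (iv4 F56612)) (tt N23851 D35929) (tt N5649 (iv6 D17394)) (tt N23852 D35930))
theorem Q11779 : ∀ i, i < 11779 → P i := stepQ 11778 Q11778 (allL N11778 (tt N8494 (iv1 F28364)) (tt N5650 (iv0 D17395)) (tt N10537 (iv2 F28363)) (tt N14732 (iv3 F37009)) (tt N10536 F28362) (tt N23853 D35931) (tt N23854 D35932) (tt N16382 (iv7 F40447)))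
theorem Q11780 : ∀ i, i < 11780 → P i := stepQ 11779 Q11779 (allL N11779 (tt N17165 (iv1 F46075)) (tt N17163 (iv0 F42407)) (tt N21499 (iv2 F51393)) (tt N5653 F28365) (tt N16509 F40618) (tt N5650 (iv5 D17396)) (tt N23851 (iv6 F56614)) (tt N21500 (iv7 F51397)))
theorem Q11781 : ∀ i, i < 11781 → P i := stepQ 11780 Q11780 (allL N11780 (tt N16395 (iv1 F40466)) (tt N5651 (iv0 D17397)) (tt N16392 F161671) (tt N23855 D35934) (tt N16372 F83209) (tt N23856 D35936) (tt N23857 D35937) (tt N16393 F161672))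
theorem Q11782 : ∀ i, i < 11782 → P i := stepQ 11781 Q11781 (allL N11781 (tt N5651 (iv1 D17398)) (tt N16395 F40465) (tt N16393 (iv2 F161663)) (tt N23858 D35939) (tt N16373 F83205) (tt N23859 D35941) (tt N23860 D35942) (tt N16392 (iv7 F161666)))
theorem Q11783 : ∀ i, i < 11783 → P i := stepQ 11782 Q11782 (allL N11782 (tt N23861 D35943) (tt N23858 (iv0 F290498)) (tt N16394 (iv2 F40460)) (tt N23851 (iv3 F56613)) (tt N23862 D35945) (tt N5651 (iv5 D17399)) (tt N5653 F28366) (tt N23863 D35946))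
theorem Q11784 : ∀ i, i < 11784 → P i := stepQ 11783 Q11783 (allL N11783 (tt N16393 (iv1 F40459)) (tt N16392 F40464) (tt N16395 (iv2 F40462)) (tt N23852 (iv3 F56615)) (tt N23180 (iv4 F55137)) (tt N23863 (iv5 F56627)) (tt N16375 (iv6 F40429)) (tt N5651 (iv7 D17400)))
theorem Q11785 : ∀ i, i < 11785 → P i := stepQ 11784 Q11784 (allL N11784 (tt N14888 (iv1 F37360)) (tt N14886 (iv0 F37389)) (tt N16358 (iv2 F40379)) (tt N21322 (iv3 F54191)) (tt N23864 D35947) (tt N5652 (iv5 D17401)) (tt N23865 D35948) (tt N16396 (iv7 F40468)))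
theorem Q11786 : ∀ i, i < 11786 → P i := stepQ 11785 Q11785 (allL N11785 (tt N16399 (iv1 F40478)) (tt N5653 (iv0 D17402)) (tt N7244 (iv2 F28368)) (tt N14928 (iv3 F37454)) (tt N23866 D35949) (tt N7243 F28367) (tt N23867 D35950) (tt N16397 (iv7 F40470)))
theorem Q11787 : ∀ i, i < 11787 → P i := stepQ 11786 Q11786 (allL N11786 (tt N23868 D35951) (tt N23869 D35952) (tt N16398 (iv2 F40473)) (tt N6762 F28370) (tt N5653 (iv4 D17403)) (tt N6761 F28369) (tt N23862 (iv6 F56625)) (tt N13722 (iv7 F33516)))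
theorem Q11788 : ∀ i, i < 11788 → P i := stepQ 11787 Q11787 (allL N11787 (tt N16397 (iv1 F40469)) (tt N7244 (iv0 F28372)) (tt N16399 (iv2 F40475)) (tt N21500 (iv3 F51396)) (tt N13722 (iv4 F33517)) (tt N5654 F28371) (tt N23870 D35953) (tt N5653 (iv7 D17404)))
theorem Q11789 : ∀ i, i < 11789 → P i := stepQ 11788 Q11788 (allL N11788 (tt N21750 (iv1 F51818)) (tt N21749 F51815) (tt N16400 (iv2 F40479)) (tt N11418 F28373) (tt N23871 D35954) (tt N5655 (iv5 D17405)) (tt N23872 D35955) (tt N11807 (iv7 F28414)))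
theorem Q11790 : ∀ i, i < 11790 → P i := stepQ 11789 Q11789 (allL N11789 (tt N13243 (iv1 F31843)) (tt N14721 (iv0 F36977)) (tt N16313 (iv2 F40320)) (tt N21158 (iv3 F50223)) (tt N5656 (iv4 D17406)) (tt N11437 F28374) (tt N15006 F37643) (tt N11808 (iv7 F28417)))
theorem Q11791 : ∀ i, i < 11791 → P i := stepQ 11790 Q11790 (allL N11790 (tt N5660 (iv1 F28376)) (tt N5657 (iv0 D17407)) (tt N17441 (iv2 F43262)) (tt N23196 (iv3 F55173)) (tt N11451 F28375) (tt N22041 (iv5 F52404)) (tt N21676 F55282) (tt N17440 F43257))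
theorem Q11792 : ∀ i, i < 11792 → P i := stepQ 11791 Q11791 (allL N11791 (tt N5657 (iv1 D17408)) (tt N5660 F28377) (tt N17440 F43256) (tt N8480 (iv3 F41868)) (tt N17007 (iv4 F41867)) (tt N16505 F41869) (tt N8480 F50917) (tt N17441 (iv7 F43259)))
theorem Q11793 : ∀ i, i < 11793 → P i := stepQ 11792 Q11792 (allL N11792 (tt N23873 D35956) (tt N23874 D35957) (tt N17443 (iv2 F43267)) (tt N16400 (iv3 F40480)) (tt N23875 D35958) (tt N5657 (iv5 D17409)) (tt N23876 D35959) (tt N17442 (iv7 F43265)))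
theorem Q11794 : ∀ i, i < 11794 → P i := stepQ 11793 Q11793 (allL N11793 (tt N23877 D35960) (tt N23878 D35961) (tt N10825 F28378) (tt N12260 F29543) (tt N5658 (iv4 D17410)) (tt N12259 (iv5 F29544)) (tt N23879 D35962) (tt N10822 F28379))
theorem Q11795 : ∀ i, i < 11795 → P i := stepQ 11794 Q11794 (allL N11794 (tt N23880 D35963) (tt N11209 (iv0 F130987)) (tt N10826 F28380) (tt N17029 (iv3 F41972)) (tt N23879 (iv4 F56663)) (tt N19435 (iv5 F47625)) (tt N5658 (iv6 D17411)) (tt N23881 D35965))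
theorem Q11796 : ∀ i, i < 11796 → P i := stepQ 11795 Q11795 (allL N11795 (tt N23874 (iv1 F56645)) (tt N23873 F56642) (tt N17442 (iv2 F43263)) (tt N11416 F28381) (tt N23882 D35966) (tt N5660 (iv5 D17412)) (tt N23883 D35967) (tt N17443 (iv7 F43269)))
theorem Q11797 : ∀ i, i < 11797 → P i := stepQ 11796 Q11796 (allL N11796 (tt N20900 (iv1 F49854)) (tt N20899 F49850) (tt N16270 (iv2 F40236)) (tt N11417 F28382) (tt N5662 F28383) (tt N23884 D35968) (tt N5660 (iv6 D17413)) (tt N20901 (iv7 F49853)))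
theorem Q11798 : ∀ i, i < 11798 → P i := stepQ 11797 Q11797 (allL N11797 (tt N23878 (iv1 F56658)) (tt N23877 F56655) (tt N10822 F28384) (tt N23885 D35969) (tt N5661 (iv4 D17414)) (tt N23886 D35970) (tt N23887 D35971) (tt N10825 F28385))
theorem Q11799 : ∀ i, i < 11799 → P i := stepQ 11798 Q11798 (allL N11798 (tt N11318 F130872) (tt N23888 D35973) (tt N10823 F28386) (tt N22190 (iv3 F52684)) (tt N23887 (iv4 F56685)) (tt N23889 D35974) (tt N5661 (iv6 D17415)) (tt N23890 D35975))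
theorem Q11800 : ∀ i, i < 11800 → P i := stepQ 11799 Q11799 (allL N11799 (tt N8276 (iv1 F41572)) (tt N8273 (iv0 F28388)) (tt N10354 F28387) (tt N10399 (iv3 F50752)) (tt N23891 D35976) (tt N5662 (iv5 D17416)) (tt N23889 (iv6 F56689)) (tt N20907 (iv7 F49866)))
theorem Q11801 : ∀ i, i < 11801 → P i := stepQ 11800 Q11800 (allL N11800 (tt N23892 D35977) (tt N17255 (iv0 F131159)) (tt N17543 (iv2 F43649)) (tt N22170 (iv3 F52622)) (tt N21714 (iv4 F51761)) (tt N21143 (iv5 F50201)) (tt N5663 (iv6 D17417)) (tt N22728 F307989))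
theorem Q11802 : ∀ i, i < 11802 → P i := stepQ 11801 Q11801 (allL N11801 (tt N17458 (iv1 F43309)) (tt N5665 (iv0 D17419)) (tt N10618 (iv2 F28393)) (tt N23893 D35983) (tt N8299 F28392) (tt N10449 F308647) (tt N22803 F308648) (tt N10448 (iv7 F309631)))
theorem Q11803 : ∀ i, i < 11803 → P i := stepQ 11802 Q11802 (allL N11802 (tt N23894 D35987) (tt N23895 D35988) (tt N23896 D35989) (tt N5665 (iv3 D17421)) (tt N17229 (iv4 F42553)) (tt N23367 (iv5 F55692)) (tt N22490 (iv6 F53228)) (tt N23366 F55690))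
theorem Q11804 : ∀ i, i < 11804 → P i := stepQ 11803 Q11803 (allL N11803 (tt N23897 D35990) (tt N23898 D35991) (tt N17545 (iv2 F43654)) (tt N5988 F28399) (tt N23368 (iv4 F55693)) (tt N17460 (iv5 F43317)) (tt N5666 (iv6 D17422)) (tt N22493 (iv7 F53240)))
theorem Q11805 : ∀ i, i < 11805 → P i := stepQ 11804 Q11804 (allL N11804 (tt N10498 (iv1 F28404)) (tt N10496 F28403) (tt N5667 (iv2 D17423)) (tt N10609 F28400) (tt N8538 F28401) (tt N18507 (iv5 F46092)) (tt N18216 (iv6 F45530)) (tt N10613 F28402))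
theorem Q11806 : ∀ i, i < 11806 → P i := stepQ 11805 Q11805 (allL N11805 (tt N8974 F28408) (tt N14903 F37392) (tt N14904 (iv2 F37393)) (tt N5668 (iv3 D17424)) (tt N23899 D35992) (tt N8943 F28405) (tt N9075 F28406) (tt N7205 F28407))
theorem Q11807 : ∀ i, i < 11807 → P i := stepQ 11806 Q11806 (allL N11806 (tt N23900 D35993) (tt N9088 F54166) (tt N23901 D35994) (tt N5669 (iv3 D17425)) (tt N10333 F28409) (tt N10586 F28410) (tt N11141 F28411) (tt N9353 F28412))
theorem Q11808 : ∀ i, i < 11808 → P i := stepQ 11807 Q11807 (allL N11807 (tt N23902 D35995) (tt N23903 D35996) (tt N10639 F28413) (tt N10756 F35193) (tt N23904 D35997) (tt N5670 (iv5 D17426)) (tt N23905 D35998) (tt N11788 F28414))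
theorem Q11809 : ∀ i, i < 11809 → P i := stepQ 11808 Q11808 (allL N11808 (tt N8003 F28418) (tt N23899 (iv0 F56709)) (tt N9340 F28415) (tt N19468 (iv3 F47732)) (tt N5671 (iv4 D17427)) (tt N13605 F33105) (tt N7906 F28416) (tt N11789 F28417))
theorem Q11810 : ∀ i, i < 11810 → P i := stepQ 11809 Q11809 (allL N11809 (tt N5672 (iv1 D17428)) (tt N10609 F28419) (tt N10497 (iv2 F42941)) (tt N10535 (iv3 F28420)) (tt N11463 F28421) (tt N23906 D35999) (tt N10579 F54153) (tt N10514 (iv7 F50857)))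
theorem Q11811 : ∀ i, i < 11811 → P i := stepQ 11810 Q11810 (allL N11810 (tt N23500 (iv1 F296186)) (tt N23503 (iv0 F296188)) (tt N12725 (iv2 F30745)) (tt N5678 F28422) (tt N13850 (iv4 F33969)) (tt N6645 F28423) (tt N5674 (iv6 D17429)) (tt N23907 D36002))
theorem Q11812 : ∀ i, i < 11812 → P i := stepQ 11811 Q11811 (allL N11811 (tt N5771 F28427) (tt N5770 F28428) (tt N5872 F28424) (tt N5886 F28425) (tt N11622 F28429) (tt N5675 (iv5 D17430)) (tt N23908 D36003) (tt N5898 F28426))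
theorem Q11813 : ∀ i, i < 11813 → P i := stepQ 11812 Q11812 (allL N11812 (tt N11228 F28433) (tt N17464 (iv0 F43343)) (tt N11247 F28430) (tt N11249 F28431) (tt N11519 F28432) (tt N15601 (iv5 F323642)) (tt N5675 (iv6 D17431)) (tt N15600 (iv7 F323644)))
theorem Q11814 : ∀ i, i < 11814 → P i := stepQ 11813 Q11813 (allL N11813 (tt N23909 D36005) (tt N11302 (iv0 F116629)) (tt N12018 (iv2 F29081)) (tt N12742 (iv3 F30792)) (tt N11930 (iv4 F28714)) (tt N11984 (iv5 F28845)) (tt N5677 (iv6 D17432)) (tt N23910 D36007))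
theorem Q11815 : ∀ i, i < 11815 → P i := stepQ 11814 Q11814 (allL N11814 (tt N11948 (iv1 F297834)) (tt N11946 F59726) (tt N11866 (iv2 F298509)) (tt N23907 (iv3 F56751)) (tt N21824 (iv4 F298519)) (tt N8649 (iv5 F298437)) (tt N11990 (iv6 F28875)) (tt N5678 (iv7 D17439)))
theorem Q11816 : ∀ i, i < 11816 → P i := stepQ 11815 Q11815 (allL N11815 (tt N12942 (iv1 F31227)) (tt N12918 (iv0 F31150)) (tt N12929 (iv2 F31186)) (tt N5683 F28437) (tt N22940 (iv4 F54693)) (tt N5679 (iv5 D17440)) (tt N13977 (iv6 F34456)) (tt N11840 (iv7 F28508)))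
theorem Q11817 : ∀ i, i < 11817 → P i := stepQ 11816 Q11816 (allL N11816 (tt N23911 D36031) (tt N23912 D36032) (tt N12135 (iv2 F29351)) (tt N6736 F28438) (tt N11933 (iv4 F28722)) (tt N15578 (iv5 F324268)) (tt N5680 (iv6 D17441)) (tt N23913 D36034))
theorem Q11818 : ∀ i, i < 11818 → P i := stepQ 11817 Q11817 (allL N11817 (tt N7834 F324951) (tt N15601 F324952) (tt N11837 (iv2 F28496)) (tt N11224 F28439) (tt N8965 F324953) (tt N5681 (iv5 D17442)) (tt N15578 F324954) (tt N11841 (iv7 F28511)))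
theorem Q11819 : ∀ i, i < 11819 → P i := stepQ 11818 Q11818 (allL N11818 (tt N5682 (iv1 D17447)) (tt N11990 F28877) (tt N11958 F59795) (tt N11925 F91242) (tt N23914 D36051) (tt N11689 (iv5 F299580)) (tt N11981 (iv6 F300760)) (tt N11949 F298262))
theorem Q11820 : ∀ i, i < 11820 → P i := stepQ 11819 Q11819 (allL N11819 (tt N23915 D36058) (tt N18954 F318103) (tt N11839 (iv2 F28503)) (tt N23916 D36060) (tt N5683 (iv4 D17450)) (tt N18846 (iv5 F320281)) (tt N12375 (iv6 F299649)) (tt N11842 (iv7 F28513)))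
theorem Q11821 : ∀ i, i < 11821 → P i := stepQ 11820 Q11820 (allL N11820 (tt N23617 (iv1 F56245)) (tt N13352 F296841) (tt N5701 F28451) (tt N23917 D36083) (tt N5684 (iv4 D17457)) (tt N9263 (iv5 F321726)) (tt N22526 (iv6 F298421)) (tt N23728 (iv7 F297198)))
theorem Q11822 : ∀ i, i < 11822 → P i := stepQ 11821 Q11821 (allL N11821 (tt N5689 (iv1 F28458)) (tt N5686 (iv0 D17459)) (tt N17466 F43349) (tt N23918 D36087) (tt N8719 F28457) (tt N21816 (iv5 F298516)) (tt N23689 (iv6 F300675)) (tt N8743 (iv7 F28459)))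
theorem Q11823 : ∀ i, i < 11823 → P i := stepQ 11822 Q11822 (allL N11822 (tt N5686 (iv1 D17460)) (tt N5689 F28460) (tt N8743 (iv2 F28462)) (tt N23919 D36089) (tt N8742 F28461) (tt N21815 (iv5 F297731)) (tt N7228 (iv6 F297732)) (tt N17466 (iv7 F43347)))
theorem Q11824 : ∀ i, i < 11824 → P i := stepQ 11823 Q11823 (allL N11823 (tt N12623 F30281) (tt N23920 D36091) (tt N23921 D36092) (tt N5686 (iv3 D17461)) (tt N12341 (iv4 F29668)) (tt N17159 (iv5 F42458)) (tt N23922 D36093) (tt N17467 (iv7 F43351)))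
theorem Q11825 : ∀ i, i < 11825 → P i := stepQ 11824 Q11824 (allL N11824 (tt N6026 (iv1 F300050)) (tt N6015 F298434) (tt N12493 F298435) (tt N23922 (iv3 F56839)) (tt N5687 F28463) (tt N23923 D36099) (tt N5686 (iv6 D17463)) (tt N10571 (iv7 F301067)))
theorem Q11826 : ∀ i, i < 11826 → P i := stepQ 11825 Q11825 (allL N11825 (tt N23924 D36115) (tt N23925 D36116) (tt N23926 D36117) (tt N5689 (iv3 D17468)) (tt N12190 (iv4 F29478)) (tt N19517 (iv5 F301115)) (tt N10567 (iv6 F301116)) (tt N17468 (iv7 F43369)))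
theorem Q11827 : ∀ i, i < 11827 → P i := stepQ 11826 Q11826 (allL N11826 (tt N23927 D36139) (tt N17258 (iv0 F298698)) (tt N23928 D36141) (tt N5690 (iv3 D17475)) (tt N23929 D36142) (tt N22030 (iv5 F298699)) (tt N23930 D36144) (tt N17469 (iv7 F43383)))
theorem Q11828 : ∀ i, i < 11828 → P i := stepQ 11827 Q11827 (allL N11827 (tt N5996 (iv1 F298701)) (tt N12661 F117297) (tt N12495 (iv2 F298686)) (tt N23930 (iv3 F56881)) (tt N6017 F296982) (tt N23067 (iv5 F298702)) (tt N5690 (iv6 D17477)) (tt N12496 (iv7 F298703)))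
theorem Q11829 : ∀ i, i < 11829 → P i := stepQ 11828 Q11828 (allL N11828 (tt N22292 (iv1 F302504)) (tt N22407 (iv0 F302506)) (tt N13938 (iv2 F34363)) (tt N5691 (iv3 D17478)) (tt N6215 F28470) (tt N6064 (iv5 F28471)) (tt N17274 (iv6 F302511)) (tt N13946 (iv7 F34396)))
theorem Q11830 : ∀ i, i < 11830 → P i := stepQ 11829 Q11829 (allL N11829 (tt N17463 (iv1 F43326)) (tt N5692 (iv0 D17481)) (tt N10786 (iv2 F300700)) (tt N23931 D36158) (tt N11922 (iv4 F28697)) (tt N8370 F298212) (tt N23932 D36159) (tt N10783 F298213))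
theorem Q11831 : ∀ i, i < 11831 → P i := stepQ 11830 Q11830 (allL N11830 (tt N5692 (iv1 D17482)) (tt N17463 (iv0 F43325)) (tt N10783 F298778) (tt N6076 (iv3 F28477)) (tt N11913 (iv4 F28675)) (tt N8369 F298779) (tt N23933 D36160) (tt N10786 (iv7 F300702)))
theorem Q11832 : ∀ i, i < 11832 → P i := stepQ 11831 Q11831 (allL N11831 (tt N23934 D36161) (tt N23935 D36162) (tt N22529 F301354) (tt N22433 (iv3 F53018)) (tt N23536 (iv4 F56076)) (tt N17310 (iv5 F304085)) (tt N5692 (iv6 D17483)) (tt N23936 D36164))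
theorem Q11833 : ∀ i, i < 11833 → P i := stepQ 11832 Q11832 (allL N11832 (tt N12663 (iv1 F298423)) (tt N5693 (iv0 D17498)) (tt N22504 F298410) (tt N23937 D36224) (tt N23938 D36225) (tt N11983 (iv5 F301030)) (tt N15671 F321505) (tt N11982 (iv7 F298422)))
theorem Q11834 : ∀ i, i < 11834 → P i := stepQ 11833 Q11833 (allL N11833 (tt N23939 D36233) (tt N23940 D36234) (tt N22526 F299299) (tt N23941 D36235) (tt N5693 (iv4 D17500)) (tt N19284 F319400) (tt N5701 F28481) (tt N22505 (iv7 F302161)))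
theorem Q11835 : ∀ i, i < 11835 → P i := stepQ 11834 Q11834 (allL N11834 (tt N13641 (iv1 F33412)) (tt N13640 F33411) (tt N12711 (iv2 F30706)) (tt N5696 F28484) (tt N23942 D36239) (tt N5694 (iv5 D17502)) (tt N11707 (iv6 F296284)) (tt N6713 F28485))
theorem Q11836 : ∀ i, i < 11836 → P i := stepQ 11835 Q11835 (allL N11835 (tt N5698 (iv1 F28488)) (tt N5695 (iv0 D17503)) (tt N5943 (iv2 F28487)) (tt N11566 (iv3 F28490)) (tt N8781 F28486) (tt N7593 (iv5 F325361)) (tt N15600 F324965) (tt N11260 F28489))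
theorem Q11837 : ∀ i, i < 11837 → P i := stepQ 11836 Q11836 (allL N11836 (tt N6232 F28494) (tt N6230 (iv0 F28495)) (tt N12574 (iv2 F30167)) (tt N5695 (iv3 D17504)) (tt N6151 F28491) (tt N23943 D36242) (tt N6107 F28492) (tt N6161 F28493))
theorem Q11838 : ∀ i, i < 11838 → P i := stepQ 11837 Q11837 (allL N11837 (tt N7625 F325382) (tt N16008 F325383) (tt N11817 F28496) (tt N23943 (iv3 F56952)) (tt N8925 F325384) (tt N5695 (iv5 D17505)) (tt N15985 F325385) (tt N16007 F325386))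
theorem Q11839 : ∀ i, i < 11839 → P i := stepQ 11838 Q11838 (allL N11838 (tt N5699 (iv1 F28500)) (tt N5696 (iv0 D17506)) (tt N8575 (iv2 F28499)) (tt N7841 (iv3 F324224)) (tt N23944 D36245) (tt N8558 F28498) (tt N7840 F323905) (tt N8557 F28501))
theorem Q11840 : ∀ i, i < 11840 → P i := stepQ 11839 Q11839 (allL N11839 (tt N23945 D36247) (tt N19364 F318824) (tt N11819 F28503) (tt N23946 D36249) (tt N5696 (iv4 D17507)) (tt N19288 (iv5 F320969)) (tt N11708 (iv6 F299396)) (tt N17590 (iv7 F43835)))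
theorem Q11841 : ∀ i, i < 11841 → P i := stepQ 11840 Q11840 (allL N11840 (tt N6268 F28509) (tt N13356 (iv0 F32315)) (tt N6799 F28506) (tt N5699 F28507) (tt N23947 D36255) (tt N5697 (iv5 D17509)) (tt N17572 (iv6 F296269)) (tt N11815 F28508))
theorem Q11842 : ∀ i, i < 11842 → P i := stepQ 11841 Q11841 (allL N11841 (tt N16008 F325389) (tt N7625 F325390) (tt N16007 F325391) (tt N5790 F28510) (tt N8924 F325392) (tt N5698 (iv5 D17510)) (tt N23948 D36256) (tt N11817 F28511))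
theorem Q11843 : ∀ i, i < 11843 → P i := stepQ 11842 Q11842 (allL N11842 (tt N19364 F318825) (tt N23945 F56973) (tt N17590 (iv2 F43834)) (tt N23949 D36257) (tt N5699 (iv4 D17511)) (tt N19291 (iv5 F320970)) (tt N17575 (iv6 F299340)) (tt N11819 F28513))
theorem Q11844 : ∀ i, i < 11844 → P i := stepQ 11843 Q11843 (allL N11843 (tt N13638 (iv1 F33403)) (tt N13637 (iv0 F33399)) (tt N23950 D36259) (tt N5700 (iv3 D17512)) (tt N23951 D36260) (tt N6143 F28514) (tt N23742 (iv6 F296052)) (tt N13339 F295940))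
theorem Q11845 : ∀ i, i < 11845 → P i := stepQ 11844 Q11844 (allL N11844 (tt N23727 (iv1 F296935)) (tt N19308 F320983) (tt N17478 (iv2 F43416)) (tt N23952 D36264) (tt N5700 (iv4 D17513)) (tt N18768 F320984) (tt N23750 (iv6 F297429)) (tt N17477 (iv7 F43412)))
theorem Q11846 : ∀ i, i < 11846 → P i := stepQ 11845 Q11845 (allL N11845 (tt N23728 (iv1 F297196)) (tt N5701 (iv0 D17518)) (tt N23617 (iv2 F56242)) (tt N23953 D36277) (tt N13355 F296936) (tt N18764 F320942) (tt N23824 (iv6 F298629)) (tt N13352 F296937))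
theorem Q11847 : ∀ i, i < 11847 → P i := stepQ 11846 Q11846 (allL N11846 (tt N23954 D36283) (tt N23955 D36284) (tt N23956 D36285) (tt N5701 (iv3 D17520)) (tt N5723 F28519) (tt N19283 (iv5 F323785)) (tt N23941 (iv6 F56936)) (tt N23785 (iv7 F56502)))
theorem Q11848 : ∀ i, i < 11848 → P i := stepQ 11847 Q11847 (allL N11847 (tt N13352 F296843) (tt N23617 (iv0 F56244)) (tt N23728 (iv2 F297197)) (tt N23785 (iv3 F56501)) (tt N5702 F28520) (tt N19287 (iv5 F321962)) (tt N23957 D36292) (tt N5701 (iv7 D17522)))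
theorem Q11849 : ∀ i, i < 11849 → P i := stepQ 11848 Q11848 (allL N11848 (tt N15703 F321413) (tt N15702 F321414) (tt N7860 F321415) (tt N5724 F28521) (tt N23957 (iv4 F57028)) (tt N16017 (iv5 F322503)) (tt N5702 (iv6 D17523)) (tt N15704 F321416))
theorem Q11850 : ∀ i, i < 11850 → P i := stepQ 11849 Q11849 (allL N11849 (tt N12611 F118102) (tt N5703 (iv0 D17530)) (tt N12613 (iv2 F118113)) (tt N12953 (iv3 F118114)) (tt N23958 D36297) (tt N23959 D36298) (tt N12604 (iv6 F118115)) (tt N12590 (iv7 F118116)))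
theorem Q11851 : ∀ i, i < 11851 → P i := stepQ 11850 Q11850 (allL N11850 (tt N12521 (iv1 F296888)) (tt N12619 F120711) (tt N12340 (iv2 F296860)) (tt N23960 D36310) (tt N5703 (iv4 D17533)) (tt N23961 D36311) (tt N6710 F296183) (tt N17576 (iv7 F43778)))
theorem Q11852 : ∀ i, i < 11852 → P i := stepQ 11851 Q11851 (allL N11851 (tt N23962 D36313) (tt N23963 D36314) (tt N13636 (iv2 F296320)) (tt N5705 F28530) (tt N23964 D36315) (tt N5703 (iv5 D17534)) (tt N6713 F296053) (tt N17577 (iv7 F43780)))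
theorem Q11853 : ∀ i, i < 11853 → P i := stepQ 11852 Q11852 (allL N11852 (tt N23965 D36320) (tt N12650 F190024) (tt N23966 D36322) (tt N5704 (iv3 D17539)) (tt N23960 (iv4 F57034)) (tt N23967 D36323) (tt N17467 F298479) (tt N10569 F41789))
theorem Q11854 : ∀ i, i < 11854 → P i := stepQ 11853 Q11853 (allL N11853 (tt N23968 D36325) (tt N18374 F315105) (tt N10568 F41794) (tt N23967 (iv3 F57047)) (tt N10465 F313169) (tt N5704 (iv5 D17540)) (tt N10463 (iv6 F313220)) (tt N10570 F41790))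
theorem Q11855 : ∀ i, i < 11855 → P i := stepQ 11854 Q11854 (allL N11854 (tt N5708 (iv1 F28542)) (tt N5705 (iv0 D17543)) (tt N17573 (iv2 F51280)) (tt N23552 (iv3 F299206)) (tt N23969 D36331) (tt N11576 F28538) (tt N23752 (iv6 F56463)) (tt N17574 F51279))
theorem Q11856 : ∀ i, i < 11856 → P i := stepQ 11855 Q11855 (allL N11855 (tt N5705 (iv1 D17544)) (tt N5708 F28539) (tt N17574 F51276) (tt N11738 (iv3 F299081)) (tt N23970 D36333) (tt N17596 F43886) (tt N11738 F43464) (tt N17573 (iv7 F51278)))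
theorem Q11857 : ∀ i, i < 11857 → P i := stepQ 11856 Q11856 (allL N11856 (tt N23971 D36334) (tt N23972 D36335) (tt N17575 (iv2 F43756)) (tt N23973 D36336) (tt N5705 (iv4 D17545)) (tt N23974 D36337) (tt N17590 F297440) (tt N17578 (iv7 F43785)))
theorem Q11858 : ∀ i, i < 11858 → P i := stepQ 11857 Q11857 (allL N11857 (tt N5706 (iv1 D17553)) (tt N6798 F296701) (tt N17571 (iv2 F120805)) (tt N12642 F296702) (tt N23975 D36349) (tt N23976 D36350) (tt N17489 F121272) (tt N12563 (iv7 F120812)))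
theorem Q11859 : ∀ i, i < 11859 → P i := stepQ 11858 Q11858 (allL N11858 (tt N12563 F120781) (tt N17571 F43737) (tt N5706 (iv2 D17554)) (tt N12611 F118106) (tt N23977 D36352) (tt N23978 D36353) (tt N23979 D36354) (tt N6798 F296704))
theorem Q11860 : ∀ i, i < 11860 → P i := stepQ 11859 Q11859 (allL N11859 (tt N12320 F298712) (tt N12318 F298713) (tt N23977 (iv2 F57095)) (tt N23980 D36357) (tt N5706 (iv4 D17555)) (tt N23981 D36358) (tt N12299 F298714) (tt N12191 F298715))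
theorem Q11861 : ∀ i, i < 11861 → P i := stepQ 11860 Q11860 (allL N11860 (tt N23982 D36360) (tt N23983 D36361) (tt N23978 (iv2 F57096)) (tt N5708 F28546) (tt N23984 D36362) (tt N5706 (iv5 D17556)) (tt N11704 (iv6 F28547)) (tt N17572 (iv7 F43745)))
theorem Q11862 : ∀ i, i < 11862 → P i := stepQ 11861 Q11861 (allL N11861 (tt N23985 D36363) (tt N12633 F296699) (tt N23979 (iv2 F57098)) (tt N5709 F28548) (tt N12299 (iv4 F298242)) (tt N23986 D36365) (tt N5706 (iv6 D17557)) (tt N6801 F296700))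
theorem Q11863 : ∀ i, i < 11863 → P i := stepQ 11862 Q11862 (allL N11862 (tt N9149 F188426) (tt N23987 D36368) (tt N23988 D36369) (tt N5707 (iv3 D17558)) (tt N23980 (iv4 F57099)) (tt N23989 D36370) (tt N23990 D36371) (tt N10567 (iv7 F41792)))
theorem Q11864 : ∀ i, i < 11864 → P i := stepQ 11863 Q11863 (allL N11863 (tt N18374 F315106) (tt N23968 F57052) (tt N10570 F41791) (tt N23989 (iv3 F57114)) (tt N23991 D36372) (tt N5707 (iv5 D17559)) (tt N23992 D36373) (tt N10568 (iv7 F41793)))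
theorem Q11865 : ∀ i, i < 11865 → P i := stepQ 11864 Q11864 (allL N11864 (tt N6015 F30420) (tt N6026 F30421) (tt N10571 (iv2 F41779)) (tt N23990 (iv3 F57116)) (tt N5709 F28549) (tt N23993 D36374) (tt N5707 (iv6 D17560)) (tt N12493 (iv7 F30431)))
theorem Q11866 : ∀ i, i < 11866 → P i := stepQ 11865 Q11865 (allL N11865 (tt N23972 (iv1 F57078)) (tt N23971 F57077) (tt N17578 (iv2 F43783)) (tt N23994 D36375) (tt N5708 (iv4 D17561)) (tt N23995 D36376) (tt N11705 F28550) (tt N17575 (iv7 F43757)))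
theorem Q11867 : ∀ i, i < 11867 → P i := stepQ 11866 Q11866 (allL N11866 (tt N11573 F28554) (tt N11592 (iv0 F28553)) (tt N11814 F298509) (tt N23986 (iv3 F57103)) (tt N23996 D36378) (tt N5709 (iv5 D17564)) (tt N11706 F28552) (tt N5777 F298510))
theorem Q11868 : ∀ i, i < 11868 → P i := stepQ 11867 Q11867 (allL N11867 (tt N23959 F118846) (tt N12612 F118847) (tt N23997 D36381) (tt N5710 (iv3 D17567)) (tt N23998 D36382) (tt N23999 D36383) (tt N24000 D36384) (tt N17580 (iv7 F43794)))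
theorem Q11869 : ∀ i, i < 11869 → P i := stepQ 11868 Q11868 (allL N11868 (tt N12413 F30470) (tt N8817 F41788) (tt N12409 F41785) (tt N24001 D36385) (tt N5710 (iv4 D17568)) (tt N21223 (iv5 F317589)) (tt N24002 D36387) (tt N12410 F41784))
theorem Q11870 : ∀ i, i < 11870 → P i := stepQ 11869 Q11869 (allL N11869 (tt N11971 (iv1 F28827)) (tt N11960 (iv0 F43750)) (tt N11972 (iv2 F28829)) (tt N23999 (iv3 F57136)) (tt N21871 (iv4 F52076)) (tt N5710 (iv5 D17569)) (tt N11983 (iv6 F28843)) (tt N8661 (iv7 F28796)))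
theorem Q11871 : ∀ i, i < 11871 → P i := stepQ 11870 Q11870 (allL N11870 (tt N7860 (iv1 F320726)) (tt N15704 (iv0 F320727)) (tt N15702 (iv2 F319438)) (tt N24000 (iv3 F57138)) (tt N24002 (iv4 F57139)) (tt N15671 (iv5 F319494)) (tt N5710 (iv6 D17570)) (tt N15703 (iv7 F319444)))
theorem Q11872 : ∀ i, i < 11872 → P i := stepQ 11871 Q11871 (allL N11871 (tt N23442 F121315) (tt N23976 F121316) (tt N24003 D36390) (tt N5711 (iv3 D17572)) (tt N24004 D36391) (tt N11964 F28771) (tt N24005 D36392) (tt N17579 (iv7 F43791)))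
theorem Q11873 : ∀ i, i < 11873 → P i := stepQ 11872 Q11872 (allL N11872 (tt N8817 (iv1 F30468)) (tt N12413 F30469) (tt N12410 F41783) (tt N24006 D36393) (tt N5711 (iv4 D17573)) (tt N24007 D36394) (tt N24008 D36395) (tt N12409 (iv7 F41787)))
theorem Q11874 : ∀ i, i < 11874 → P i := stepQ 11873 Q11873 (allL N11873 (tt N11572 F30533) (tt N11575 (iv0 F28784)) (tt N17474 F300427) (tt N24005 (iv3 F57140)) (tt N24008 (iv4 F57141)) (tt N11970 (iv5 F28782)) (tt N5711 (iv6 D17574)) (tt N17475 F300428))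
theorem Q11875 : ∀ i, i < 11875 → P i := stepQ 11874 Q11874 (allL N11874 (tt N17585 (iv1 F43816)) (tt N5712 (iv0 D17575)) (tt N17581 F43807) (tt N24009 D36396) (tt N5980 F43808) (tt N21132 F319411) (tt N24010 D36398) (tt N17582 F43809))
theorem Q11876 : ∀ i, i < 11876 → P i := stepQ 11875 Q11875 (allL N11875 (tt N5712 (iv1 D17576)) (tt N17585 F43815) (tt N17582 F43802) (tt N24011 D36399) (tt N5981 F42190) (tt N24012 D36400) (tt N24013 D36401) (tt N17581 (iv7 F43806)))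
theorem Q11877 : ∀ i, i < 11877 → P i := stepQ 11876 Q11876 (allL N11876 (tt N24014 D36402) (tt N24015 D36403) (tt N24016 D36404) (tt N5712 (iv3 D17577)) (tt N23941 (iv4 F56935)) (tt N24017 D36405) (tt N5723 F28557) (tt N24018 D36406))
theorem Q11878 : ∀ i, i < 11878 → P i := stepQ 11877 Q11877 (allL N11877 (tt N24019 D36407) (tt N24020 D36408) (tt N17584 (iv2 F43812)) (tt N24017 (iv3 F57149)) (tt N21219 F315541) (tt N5712 (iv5 D17578)) (tt N23792 (iv6 F56509)) (tt N24021 D36410))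
theorem Q11879 : ∀ i, i < 11879 → P i := stepQ 11878 Q11878 (allL N11878 (tt N17582 (iv1 F43800)) (tt N17581 F43810) (tt N17585 (iv2 F43813)) (tt N24018 (iv3 F57150)) (tt N5713 F28558) (tt N24021 (iv5 F57153)) (tt N23789 (iv6 F56508)) (tt N5712 (iv7 D17579)))
theorem Q11880 : ∀ i, i < 11880 → P i := stepQ 11879 Q11879 (allL N11879 (tt N15671 F321500) (tt N15670 F321501) (tt N7891 (iv2 F323038)) (tt N15704 F321502) (tt N23789 (iv4 F56507)) (tt N16013 F321503) (tt N5713 (iv6 D17580)) (tt N5724 F28559))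
theorem Q11881 : ∀ i, i < 11881 → P i := stepQ 11880 Q11880 (allL N11880 (tt N6571 F28563) (tt N6151 (iv0 F28564)) (tt N6328 F28560) (tt N6372 F28561) (tt N5714 (iv4 D17581)) (tt N24022 D36411) (tt N12922 (iv6 F31162)) (tt N6708 F28562))
theorem Q11882 : ∀ i, i < 11882 → P i := stepQ 11881 Q11881 (allL N11881 (tt N11722 F28570) (tt N11581 F28569) (tt N5716 F28566) (tt N11557 F28567) (tt N24023 D36412) (tt N5715 (iv5 D17583)) (tt N24024 D36413) (tt N11732 F28568))
theorem Q11883 : ∀ i, i < 11883 → P i := stepQ 11882 Q11882 (allL N11882 (tt N11732 (iv1 F28572)) (tt N5716 (iv0 D17584)) (tt N11722 (iv2 F28573)) (tt N13356 (iv3 F32312)) (tt N24025 D36414) (tt N6469 F28571) (tt N24026 D36415) (tt N11581 (iv7 F28574)))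
theorem Q11884 : ∀ i, i < 11884 → P i := stepQ 11883 Q11883 (allL N11883 (tt N5716 (iv1 D17585)) (tt N11732 F28575) (tt N11581 (iv2 F28578)) (tt N24027 D36416) (tt N24028 D36417) (tt N6254 F28577) (tt N24029 D36418) (tt N11722 F28576))
theorem Q11885 : ∀ i, i < 11885 → P i := stepQ 11884 Q11884 (allL N11884 (tt N24030 D36419) (tt N24031 D36420) (tt N24023 (iv2 F57160)) (tt N24032 D36421) (tt N5716 (iv4 D17586)) (tt N24033 D36422) (tt N24034 D36423) (tt N11733 F28579))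
theorem Q11886 : ∀ i, i < 11886 → P i := stepQ 11885 Q11885 (allL N11885 (tt N24035 D36424) (tt N24036 D36425) (tt N24024 (iv2 F57164)) (tt N5718 F28580) (tt N24034 (iv4 F57191)) (tt N5757 F28581) (tt N5716 (iv6 D17587)) (tt N24037 D36426))
theorem Q11887 : ∀ i, i < 11887 → P i := stepQ 11886 Q11886 (allL N11886 (tt N24038 D36427) (tt N24039 D36428) (tt N24040 D36429) (tt N5717 (iv3 D17588)) (tt N24032 (iv4 F57188)) (tt N11895 (iv5 F28609)) (tt N24041 D36430) (tt N11735 F28582))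
theorem Q11888 : ∀ i, i < 11888 → P i := stepQ 11887 Q11887 (allL N11887 (tt N23427 (iv1 F55891)) (tt N23429 (iv0 F55890)) (tt N11578 F28583) (tt N24041 (iv3 F57201)) (tt N5718 F28584) (tt N24042 D36431) (tt N5717 (iv6 D17589)) (tt N24043 D36432))
theorem Q11889 : ∀ i, i < 11889 → P i := stepQ 11888 Q11888 (allL N11888 (tt N11579 (iv1 F28590)) (tt N5718 (iv0 D17590)) (tt N8568 F297192) (tt N11616 (iv3 F299013)) (tt N23123 (iv4 F55008)) (tt N8555 (iv5 F298432)) (tt N8557 F297193) (tt N11577 F53083))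
theorem Q11890 : ∀ i, i < 11890 → P i := stepQ 11889 Q11889 (allL N11889 (tt N5718 (iv1 D17591)) (tt N11579 F28585) (tt N11577 (iv2 F53084)) (tt N8583 (iv3 F298891)) (tt N23124 (iv4 F55009)) (tt N8569 (iv5 F298472)) (tt N15606 F322717) (tt N8568 F297476))
theorem Q11891 : ∀ i, i < 11891 → P i := stepQ 11890 Q11890 (allL N11890 (tt N11577 (iv1 F28591)) (tt N8568 F297466) (tt N11579 F28587) (tt N24037 (iv3 F57192)) (tt N24043 (iv4 F57205)) (tt N5760 F28588) (tt N11739 F28589) (tt N5718 (iv7 D17592)))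
theorem Q11892 : ∀ i, i < 11892 → P i := stepQ 11891 Q11891 (allL N11891 (tt N11554 F28598) (tt N11569 (iv0 F28599)) (tt N5721 F28595) (tt N11732 F28596) (tt N24044 D36436) (tt N5720 (iv5 D17593)) (tt N23628 (iv6 F56280)) (tt N11557 F28597))
theorem Q11893 : ∀ i, i < 11893 → P i := stepQ 11892 Q11892 (allL N11892 (tt N11557 (iv1 F28601)) (tt N5721 (iv0 D17594)) (tt N11554 (iv2 F28602)) (tt N23392 (iv3 F55793)) (tt N24045 D36437) (tt N8553 F28600) (tt N24046 D36438) (tt N11569 (iv7 F28603)))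
theorem Q11894 : ∀ i, i < 11894 → P i := stepQ 11893 Q11893 (allL N11893 (tt N5721 (iv1 D17595)) (tt N11557 F28604) (tt N11569 F28607) (tt N13641 F33414) (tt N24047 D36439) (tt N8585 (iv5 F28606)) (tt N24048 D36440) (tt N11554 F28605))
theorem Q11895 : ∀ i, i < 11895 → P i := stepQ 11894 Q11894 (allL N11894 (tt N24049 D36441) (tt N24050 D36442) (tt N24044 (iv2 F57216)) (tt N24051 D36443) (tt N5721 (iv4 D17596)) (tt N24052 D36444) (tt N23638 (iv6 F56300)) (tt N11570 F28608))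
theorem Q11896 : ∀ i, i < 11896 → P i := stepQ 11895 Q11895 (allL N11895 (tt N24053 D36445) (tt N24054 D36446) (tt N24055 D36447) (tt N5722 (iv3 D17597)) (tt N24051 (iv4 F57236)) (tt N11886 F28609) (tt N23641 (iv6 F56306)) (tt N11580 F28610))
theorem Q11897 : ∀ i, i < 11897 → P i := stepQ 11896 Q11896 (allL N11896 (tt N23782 (iv1 F56498)) (tt N5723 (iv0 D17598)) (tt N23784 F258196) (tt N24056 D36449) (tt N24057 D36450) (tt N17586 F194345) (tt N24058 D36452) (tt N23783 (iv7 F258199)))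
theorem Q11898 : ∀ i, i < 11898 → P i := stepQ 11897 Q11897 (allL N11897 (tt N5723 (iv1 D17599)) (tt N23782 F56497) (tt N23783 (iv2 F258198)) (tt N24059 D36454) (tt N24060 D36455) (tt N17587 F194342) (tt N23955 (iv6 F330776)) (tt N23784 F258197))
theorem Q11899 : ∀ i, i < 11899 → P i := stepQ 11898 Q11898 (allL N11898 (tt N23784 (iv1 F56500)) (tt N23783 F56499) (tt N5723 (iv2 D17600)) (tt N17588 (iv3 F43822)) (tt N23956 (iv4 F57018)) (tt N23771 (iv5 F56488)) (tt N24016 (iv6 F57148)) (tt N23782 (iv7 F56496)))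
theorem Q11900 : ∀ i, i < 11900 → P i := stepQ 11899 Q11899 (allL N11899 (tt N5724 (iv1 D17601)) (tt N7891 (iv0 F323036)) (tt N15671 F321419) (tt N24061 D36458) (tt N24062 D36459) (tt N15702 F321420) (tt N22504 (iv6 F53256)) (tt N15670 F321421))
theorem Q11901 : ∀ i, i < 11901 → P i := stepQ 11900 Q11900 (allL N11900 (tt N17634 (iv1 F296130)) (tt N17616 (iv0 F44091)) (tt N11558 F28623) (tt N24063 D36469) (tt N5728 (iv4 D17606)) (tt N24064 D36470) (tt N22990 (iv6 F296163)) (tt N6842 F295978))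
theorem Q11902 : ∀ i, i < 11902 → P i := stepQ 11901 Q11901 (allL N11901 (tt N5761 F121355) (tt N6813 (iv0 F296164)) (tt N6814 (iv2 F296134)) (tt N12581 (iv3 F295994)) (tt N22990 (iv4 F296162)) (tt N11901 F28626) (tt N5728 (iv6 D17607)) (tt N6784 (iv7 F296147)))
theorem Q11903 : ∀ i, i < 11903 → P i := stepQ 11902 Q11902 (allL N11902 (tt N5729 (iv1 D17608)) (tt N11238 F28627) (tt N11595 F28631) (tt N6329 (iv3 F28630)) (tt N11595 (iv4 F28629)) (tt N23613 (iv5 F56219)) (tt N12934 (iv6 F31212)) (tt N7030 F28628))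
theorem Q11904 : ∀ i, i < 11904 → P i := stepQ 11903 Q11903 (allL N11903 (tt N24027 F57174) (tt N15618 F326996) (tt N17605 (iv2 F44034)) (tt N5733 F28632) (tt N24065 D36476) (tt N5729 (iv5 D17609)) (tt N23547 (iv6 F56120)) (tt N11596 F28633))
theorem Q11905 : ∀ i, i < 11905 → P i := stepQ 11904 Q11904 (allL N11904 (tt N5875 F28637) (tt N5886 F28638) (tt N5818 F28634) (tt N5731 F28635) (tt N23439 (iv4 F55925)) (tt N5730 (iv5 D17610)) (tt N5904 (iv6 F296140)) (tt N5844 F28636))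
theorem Q11906 : ∀ i, i < 11906 → P i := stepQ 11905 Q11905 (allL N11905 (tt N5940 F28643) (tt N11566 F28644) (tt N5819 F28639) (tt N5732 F28640) (tt N5819 F28641) (tt N22936 (iv5 F54682)) (tt N5730 (iv6 D17611)) (tt N11597 F28642))
theorem Q11907 : ∀ i, i < 11907 → P i := stepQ 11906 Q11906 (allL N11906 (tt N23119 F296672) (tt N17830 F44568) (tt N17567 (iv2 F43717)) (tt N22936 F54684) (tt N24066 D36483) (tt N5732 (iv5 D17613)) (tt N5976 (iv6 F298201)) (tt N11599 F28645))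
theorem Q11908 : ∀ i, i < 11908 → P i := stepQ 11907 Q11907 (allL N11907 (tt N24067 D36491) (tt N24068 D36492) (tt N22061 (iv2 F52427)) (tt N5736 (iv3 D17616)) (tt N17082 F299457) (tt N22033 (iv5 F302366)) (tt N22120 (iv6 F302368)) (tt N17078 F299458))
theorem Q11909 : ∀ i, i < 11909 → P i := stepQ 11908 Q11908 (allL N11908 (tt N24069 D36496) (tt N24069 F299459) (tt N5747 F28652) (tt N22120 (iv3 F302367)) (tt N5737 F28653) (tt N9676 (iv5 F302493)) (tt N5736 (iv6 D17618)) (tt N5747 F299460))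
theorem Q11910 : ∀ i, i < 11910 → P i := stepQ 11909 Q11909 (allL N11909 (tt N5737 (iv1 F298948)) (tt N5737 (iv0 D17619)) (tt N5748 (iv2 F91326)) (tt N24070 D36501) (tt N24071 D36502) (tt N11649 (iv5 F299282)) (tt N24072 D36504) (tt N5748 (iv7 F299006)))
theorem Q11911 : ∀ i, i < 11911 → P i := stepQ 11910 Q11910 (allL N11910 (tt N24073 D36509) (tt N24074 D36510) (tt N22909 (iv2 F54631)) (tt N5740 F28661) (tt N12092 (iv4 F29198)) (tt N17551 (iv5 F43680)) (tt N5738 (iv6 D17622)) (tt N24075 D36511))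
theorem Q11912 : ∀ i, i < 11912 → P i := stepQ 11911 Q11911 (allL N11911 (tt N5739 (iv1 D17623)) (tt N5742 F28662) (tt N11274 (iv2 F28665)) (tt N24076 D36512) (tt N11273 F28664) (tt N9559 (iv5 F299894)) (tt N18893 (iv6 F301592)) (tt N11600 F28663))
theorem Q11913 : ∀ i, i < 11913 → P i := stepQ 11912 Q11912 (allL N11912 (tt N11293 F28668) (tt N11265 F28670) (tt N5909 F28671) (tt N5739 (iv3 D17624)) (tt N6863 F28666) (tt N5878 (iv5 F28669)) (tt N24077 D36514) (tt N5912 F28667))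
theorem Q11914 : ∀ i, i < 11914 → P i := stepQ 11913 Q11913 (allL N11913 (tt N24078 D36515) (tt N24079 D36516) (tt N11607 F28672) (tt N5878 F28673) (tt N11830 F28675) (tt N5739 (iv5 D17625)) (tt N24080 D36517) (tt N5911 F28674))
theorem Q11915 : ∀ i, i < 11915 → P i := stepQ 11914 Q11914 (allL N11914 (tt N24081 D36518) (tt N24082 D36519) (tt N11608 F28676) (tt N24077 (iv3 F57349)) (tt N5740 F28677) (tt N23747 F318146) (tt N5739 (iv6 D17626)) (tt N24083 D36521))
theorem Q11916 : ∀ i, i < 11916 → P i := stepQ 11915 Q11915 (allL N11915 (tt N11610 (iv1 F28681)) (tt N5740 (iv0 D17627)) (tt N11591 F91229) (tt N11592 F297178) (tt N24084 D36524) (tt N11591 (iv5 F299043)) (tt N24085 D36526) (tt N11609 (iv7 F91261)))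
theorem Q11917 : ∀ i, i < 11917 → P i := stepQ 11916 Q11916 (allL N11916 (tt N5740 (iv1 D17628)) (tt N11610 F28678) (tt N11609 (iv2 F91260)) (tt N5753 F91217) (tt N24086 D36529) (tt N11609 (iv5 F299045)) (tt N11602 (iv6 F298980)) (tt N11591 (iv7 F91228)))
theorem Q11918 : ∀ i, i < 11918 → P i := stepQ 11917 Q11917 (allL N11917 (tt N11609 (iv1 F28682)) (tt N11591 F91257) (tt N11610 F28679) (tt N24075 (iv3 F57341)) (tt N24083 (iv4 F57367)) (tt N12658 F91171) (tt N11604 F28680) (tt N5740 (iv7 D17629)))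
theorem Q11919 : ∀ i, i < 11919 → P i := stepQ 11918 Q11918 (allL N11918 (tt N8700 (iv1 F28688)) (tt N8708 F28687) (tt N5741 (iv2 D17630)) (tt N6802 F28684) (tt N8711 (iv4 F28689)) (tt N8501 F28685) (tt N24087 D36532) (tt N8705 F28686))
theorem Q11920 : ∀ i, i < 11920 → P i := stepQ 11919 Q11919 (allL N11919 (tt N8512 F28692) (tt N8511 F28693) (tt N8711 F28690) (tt N24088 D36533) (tt N5741 (iv4 D17631)) (tt N17713 (iv5 F44381)) (tt N24089 D36534) (tt N8710 F28691))
theorem Q11921 : ∀ i, i < 11921 → P i := stepQ 11920 Q11920 (allL N11920 (tt N24090 D36535) (tt N24091 D36536) (tt N24087 (iv2 F57376)) (tt N5743 F28694) (tt N24089 (iv4 F57382)) (tt N24092 D36537) (tt N5741 (iv6 D17632)) (tt N24093 D36538))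
theorem Q11922 : ∀ i, i < 11922 → P i := stepQ 11921 Q11921 (allL N11921 (tt N24094 D36539) (tt N13033 (iv0 F299474)) (tt N24095 D36541) (tt N5742 (iv3 D17633)) (tt N24088 (iv4 F57379)) (tt N24096 D36542) (tt N24097 D36543) (tt N11606 F28695))
theorem Q11923 : ∀ i, i < 11923 → P i := stepQ 11922 Q11922 (allL N11922 (tt N24079 (iv1 F57357)) (tt N24078 F57354) (tt N5911 F28696) (tt N24096 (iv3 F57401)) (tt N11829 F28697) (tt N5742 (iv5 D17634)) (tt N24098 D36544) (tt N11607 F28698))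
theorem Q11924 : ∀ i, i < 11924 → P i := stepQ 11923 Q11923 (allL N11923 (tt N24099 D36545) (tt N24100 D36546) (tt N11601 F28699) (tt N24097 (iv3 F57405)) (tt N5743 F28700) (tt N24101 D36547) (tt N5742 (iv6 D17635)) (tt N24102 D36548))
theorem Q11925 : ∀ i, i < 11925 → P i := stepQ 11924 Q11924 (allL N11924 (tt N11604 (iv1 F28706)) (tt N5743 (iv0 D17636)) (tt N11602 F91274) (tt N5758 (iv3 F91234)) (tt N24103 D36551) (tt N21070 F323321) (tt N11609 (iv6 F299046)) (tt N11574 (iv7 F91240)))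
theorem Q11926 : ∀ i, i < 11926 → P i := stepQ 11925 Q11925 (allL N11925 (tt N5743 (iv1 D17637)) (tt N11604 F28701) (tt N11574 F91241) (tt N11818 (iv3 F91242)) (tt N24104 D36555) (tt N21067 F323451) (tt N24105 D36557) (tt N11602 F91276))
theorem Q11927 : ∀ i, i < 11927 → P i := stepQ 11926 Q11926 (allL N11926 (tt N11616 (iv1 F299012)) (tt N7839 F325087) (tt N11603 F28702) (tt N24092 (iv3 F57383)) (tt N7827 F325088) (tt N5743 (iv5 D17638)) (tt N8624 F28703) (tt N11653 (iv7 F299354)))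
theorem Q11928 : ∀ i, i < 11928 → P i := stepQ 11927 Q11927 (allL N11927 (tt N11574 (iv1 F91278)) (tt N11602 F28708) (tt N11604 F28704) (tt N24093 (iv3 F57385)) (tt N24102 (iv4 F57411)) (tt N11653 F300529) (tt N11610 F28705) (tt N5743 (iv7 D17639)))
theorem Q11929 : ∀ i, i < 11929 → P i := stepQ 11928 Q11928 (allL N11928 (tt N24106 D36562) (tt N24107 D36563) (tt N24108 D36564) (tt N5744 (iv3 D17640)) (tt N24109 D36565) (tt N24110 D36566) (tt N24111 D36567) (tt N17600 (iv7 F43927)))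
theorem Q11930 : ∀ i, i < 11930 → P i := stepQ 11929 Q11929 (allL N11929 (tt N11612 F28712) (tt N8636 F28713) (tt N11640 F28709) (tt N24110 (iv3 F57436)) (tt N10675 F300750) (tt N5744 (iv5 D17641)) (tt N24112 D36568) (tt N11639 F28710))
theorem Q11931 : ∀ i, i < 11931 → P i := stepQ 11930 Q11930 (allL N11930 (tt N24084 (iv1 F116614)) (tt N24086 (iv0 F116615)) (tt N17602 (iv2 F43930)) (tt N24111 (iv3 F57440)) (tt N11813 F28714) (tt N24113 D36571) (tt N5744 (iv6 D17642)) (tt N24114 D36572))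
theorem Q11932 : ∀ i, i < 11932 → P i := stepQ 11931 Q11931 (allL N11931 (tt N24115 D36573) (tt N24116 D36574) (tt N12425 (iv2 F29916)) (tt N5745 (iv3 D17643)) (tt N13836 (iv4 F33931)) (tt N8436 F28721) (tt N24117 D36575) (tt N12420 (iv7 F29913)))
theorem Q11933 : ∀ i, i < 11933 → P i := stepQ 11932 Q11932 (allL N11932 (tt N8636 F28718) (tt N11612 F28719) (tt N11639 F28715) (tt N8436 (iv3 F28720)) (tt N10678 F298518) (tt N5745 (iv5 D17644)) (tt N24118 D36576) (tt N11640 F28717))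
theorem Q11934 : ∀ i, i < 11934 → P i := stepQ 11933 Q11933 (allL N11933 (tt N24103 (iv1 F117081)) (tt N24104 (iv0 F117078)) (tt N17601 (iv2 F43928)) (tt N24117 (iv3 F57447)) (tt N11816 F28722) (tt N24119 D36579) (tt N5745 (iv6 D17645)) (tt N24120 D36580))
theorem Q11935 : ∀ i, i < 11935 → P i := stepQ 11934 Q11934 (allL N11934 (tt N5747 F299480) (tt N5747 (iv0 D17648)) (tt N24069 (iv2 F117038)) (tt N24121 D36588) (tt N22968 F117863) (tt N24122 D36590) (tt N24123 D36591) (tt N24069 F299481))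
theorem Q11936 : ∀ i, i < 11936 → P i := stepQ 11935 Q11935 (allL N11935 (tt N8707 F297082) (tt N6804 (iv0 F118884)) (tt N24124 D36609) (tt N5748 (iv3 D17653)) (tt N24125 D36610) (tt N24126 D36611) (tt N24127 D36612) (tt N24070 F297083))
theorem Q11937 : ∀ i, i < 11937 → P i := stepQ 11936 Q11936 (allL N11936 (tt N18893 F303859) (tt N18893 F303860) (tt N24071 (iv2 F91330)) (tt N24128 D36616) (tt N5748 (iv4 D17654)) (tt N24129 D36617) (tt N24130 D36618) (tt N24071 (iv7 F299281)))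
theorem Q11938 : ∀ i, i < 11938 → P i := stepQ 11937 Q11937 (allL N11937 (tt N24131 D36620) (tt N24131 F301695) (tt N11649 F301696) (tt N24126 (iv3 F57471)) (tt N24132 D36622) (tt N5748 (iv5 D17655)) (tt N11614 F301697) (tt N11649 (iv7 F91328)))
theorem Q11939 : ∀ i, i < 11939 → P i := stepQ 11938 Q11938 (allL N11938 (tt N24105 (iv1 F91210)) (tt N24085 F301698) (tt N24072 (iv2 F91332)) (tt N24127 (iv3 F57472)) (tt N24130 (iv4 F57475)) (tt N15970 F324119) (tt N5748 (iv6 D17656)) (tt N24133 D36628))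
theorem Q11940 : ∀ i, i < 11940 → P i := stepQ 11939 Q11939 (allL N11939 (tt N11270 F28731) (tt N11559 F28732) (tt N5750 F28729) (tt N24134 D36644) (tt N5749 (iv4 D17662)) (tt N23462 (iv5 F55959)) (tt N24135 D36645) (tt N11555 F28730))
theorem Q11941 : ∀ i, i < 11941 → P i := stepQ 11940 Q11940 (allL N11940 (tt N24136 D36646) (tt N24137 D36647) (tt N5751 F28733) (tt N11585 F28734) (tt N24135 (iv4 F57503)) (tt N12559 (iv5 F30132)) (tt N5749 (iv6 D17663)) (tt N24138 D36648))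
theorem Q11942 : ∀ i, i < 11942 → P i := stepQ 11941 Q11941 (allL N11941 (tt N24139 D36651) (tt N24140 D36652) (tt N23462 (iv2 F55957)) (tt N21517 (iv3 F51442)) (tt N23450 (iv4 F55933)) (tt N5750 (iv5 D17665)) (tt N24141 D36653) (tt N11560 F28739))
theorem Q11943 : ∀ i, i < 11943 → P i := stepQ 11942 Q11942 (allL N11942 (tt N24142 D36654) (tt N24143 D36655) (tt N24135 (iv2 F57502)) (tt N21518 (iv3 F51443)) (tt N5751 F28740) (tt N24144 D36656) (tt N5750 (iv6 D17666)) (tt N24145 D36657))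
theorem Q11944 : ∀ i, i < 11944 → P i := stepQ 11943 Q11943 (allL N11943 (tt N24138 (iv1 F57512)) (tt N5751 (iv0 D17667)) (tt N24136 (iv2 F115893)) (tt N24146 D36659) (tt N24147 D36660) (tt N23009 (iv5 F297185)) (tt N24148 D36662) (tt N24137 (iv7 F115890)))
theorem Q11945 : ∀ i, i < 11945 → P i := stepQ 11944 Q11944 (allL N11944 (tt N5751 (iv1 D17668)) (tt N24138 F57511) (tt N24137 (iv2 F115889)) (tt N24149 D36664) (tt N24150 D36665) (tt N23011 F296639) (tt N24151 D36667) (tt N24136 (iv7 F115894)))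
theorem Q11946 : ∀ i, i < 11946 → P i := stepQ 11945 Q11945 (allL N11945 (tt N24137 (iv1 F57505)) (tt N24136 F57510) (tt N24138 (iv2 F57507)) (tt N5754 F28741) (tt N24145 (iv4 F57527)) (tt N12568 (iv5 F30146)) (tt N11565 F28742) (tt N5751 (iv7 D17669)))
theorem Q11947 : ∀ i, i < 11947 → P i := stepQ 11946 Q11946 (allL N11946 (tt N11814 (iv1 F59726)) (tt N5777 (iv0 F59727)) (tt N11592 F298506) (tt N5752 (iv3 D17671)) (tt N17949 (iv4 F301189)) (tt N5752 F298507) (tt N17596 (iv6 F299597)) (tt N11573 F298508))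
theorem Q11948 : ∀ i, i < 11948 → P i := stepQ 11947 Q11947 (allL N11947 (tt N5768 F30417) (tt N17599 F43902) (tt N11593 (iv2 F51266)) (tt N17596 F300629) (tt N16976 F41666) (tt N11738 F28744) (tt N5752 (iv6 D17674)) (tt N17598 (iv7 F51269)))
theorem Q11949 : ∀ i, i < 11949 → P i := stepQ 11948 Q11948 (allL N11948 (tt N5777 F297833) (tt N11814 F297834) (tt N11573 (iv2 F51297)) (tt N11609 (iv3 F299044)) (tt N17365 (iv4 F42954)) (tt N5753 (iv5 D17678)) (tt N5758 F28746) (tt N11592 (iv7 F51308)))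
theorem Q11950 : ∀ i, i < 11950 → P i := stepQ 11949 Q11949 (allL N11949 (tt N11706 F43462) (tt N5774 F297924) (tt N11571 (iv2 F298260)) (tt N11602 (iv3 F298979)) (tt N17419 (iv4 F43091)) (tt N17486 (iv5 F43434)) (tt N5753 (iv6 D17679)) (tt N11818 (iv7 F298262)))
theorem Q11951 : ∀ i, i < 11951 → P i := stepQ 11950 Q11950 (allL N11950 (tt N8701 F28749) (tt N6744 (iv0 F296090)) (tt N5756 F28747) (tt N24152 D36680) (tt N5755 (iv4 D17680)) (tt N12691 (iv5 F30636)) (tt N24153 D36681) (tt N11584 F28748))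
theorem Q11952 : ∀ i, i < 11952 → P i := stepQ 11951 Q11951 (allL N11951 (tt N24154 D36682) (tt N24155 D36683) (tt N5757 F28751) (tt N11556 F28752) (tt N24153 (iv4 F57558)) (tt N24024 (iv5 F57166)) (tt N5755 (iv6 D17681)) (tt N24156 D36684))
theorem Q11953 : ∀ i, i < 11953 → P i := stepQ 11952 Q11952 (allL N11952 (tt N14618 (iv1 F36469)) (tt N14611 (iv0 F36436)) (tt N12691 (iv2 F30635)) (tt N21546 (iv3 F51483)) (tt N12676 (iv4 F30585)) (tt N5756 (iv5 D17682)) (tt N24157 D36685) (tt N11586 F28753))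
theorem Q11954 : ∀ i, i < 11954 → P i := stepQ 11953 Q11953 (allL N11953 (tt N24158 D36686) (tt N24159 D36687) (tt N24153 (iv2 F57557)) (tt N21547 (iv3 F51485)) (tt N5757 F28754) (tt N24160 D36688) (tt N5756 (iv6 D17683)) (tt N24161 D36689))
theorem Q11955 : ∀ i, i < 11955 → P i := stepQ 11954 Q11954 (allL N11954 (tt N24156 (iv1 F57566)) (tt N5757 (iv0 D17684)) (tt N24154 (iv2 F114035)) (tt N24151 (iv3 F296519)) (tt N24162 D36692) (tt N24163 D36693) (tt N24149 (iv6 F296522)) (tt N24155 (iv7 F114034)))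
theorem Q11956 : ∀ i, i < 11956 → P i := stepQ 11955 Q11955 (allL N11955 (tt N5757 (iv1 D17685)) (tt N24156 F57565) (tt N24155 (iv2 F114033)) (tt N24164 D36696) (tt N24165 D36697) (tt N24166 D36698) (tt N24167 D36699) (tt N24154 (iv7 F114037)))
theorem Q11957 : ∀ i, i < 11957 → P i := stepQ 11956 Q11956 (allL N11956 (tt N24155 (iv1 F57561)) (tt N24154 (iv0 F57560)) (tt N24156 (iv2 F57562)) (tt N5760 F28755) (tt N24161 (iv4 F57567)) (tt N24037 (iv5 F57193)) (tt N11590 F28756) (tt N5757 (iv7 D17686)))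
theorem Q11958 : ∀ i, i < 11958 → P i := stepQ 11957 Q11957 (allL N11957 (tt N17475 (iv1 F300109)) (tt N17474 (iv0 F300111)) (tt N11572 (iv2 F51322)) (tt N21070 (iv3 F321753)) (tt N24168 D36705) (tt N5758 (iv5 D17690)) (tt N17486 (iv6 F43435)) (tt N11575 (iv7 F51325)))
theorem Q11959 : ∀ i, i < 11959 → P i := stepQ 11958 Q11958 (allL N11958 (tt N5774 (iv1 F59737)) (tt N11706 (iv0 F298263)) (tt N11818 (iv2 F59795)) (tt N5759 (iv3 D17692)) (tt N21449 (iv4 F298783)) (tt N17487 (iv5 F300116)) (tt N17598 (iv6 F300118)) (tt N11571 F51319))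
theorem Q11960 : ∀ i, i < 11960 → P i := stepQ 11959 Q11959 (allL N11959 (tt N17474 (iv1 F300112)) (tt N17475 (iv0 F300108)) (tt N11575 F51323) (tt N17487 (iv3 F300115)) (tt N24169 D36712) (tt N5759 (iv5 D17694)) (tt N17506 (iv6 F43518)) (tt N11572 F51320))
theorem Q11961 : ∀ i, i < 11961 → P i := stepQ 11960 Q11960 (allL N11960 (tt N11869 F43750) (tt N5764 F43751) (tt N11576 (iv2 F51282)) (tt N17598 (iv3 F300117)) (tt N17368 (iv4 F42958)) (tt N17573 (iv5 F43748)) (tt N5759 (iv6 D17695)) (tt N17596 (iv7 F51283)))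
theorem Q11962 : ∀ i, i < 11962 → P i := stepQ 11961 Q11961 (allL N11961 (tt N6784 F296657) (tt N6814 F296658) (tt N5761 (iv2 D17704)) (tt N12580 F118875) (tt N12130 (iv4 F297041)) (tt N24170 D36724) (tt N24171 D36725) (tt N6813 F296659))
theorem Q11963 : ∀ i, i < 11963 → P i := stepQ 11962 Q11962 (allL N11962 (tt N11278 F296816) (tt N12108 F117810) (tt N12130 (iv2 F297040)) (tt N24172 D36728) (tt N5761 (iv4 D17705)) (tt N24173 D36729) (tt N24174 D36730) (tt N12129 (iv7 F297043)))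
theorem Q11964 : ∀ i, i < 11964 → P i := stepQ 11963 Q11963 (allL N11963 (tt N24175 D36731) (tt N24176 D36732) (tt N24170 (iv2 F57598)) (tt N5763 F28769) (tt N24177 D36733) (tt N5761 (iv5 D17706)) (tt N24178 D36734) (tt N11684 F28822))
theorem Q11965 : ∀ i, i < 11965 → P i := stepQ 11964 Q11964 (allL N11964 (tt N24179 D36735) (tt N24180 D36736) (tt N24171 (iv2 F57602)) (tt N5764 F28770) (tt N24174 (iv4 F57606)) (tt N11871 (iv5 F28771)) (tt N5761 (iv6 D17707)) (tt N24181 D36737))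
theorem Q11966 : ∀ i, i < 11966 → P i := stepQ 11965 Q11965 (allL N11965 (tt N24182 D36738) (tt N9139 (iv0 F188329)) (tt N24183 D36740) (tt N5762 (iv3 D17711)) (tt N24172 (iv4 F57604)) (tt N10075 F318568) (tt N24184 D36742) (tt N10703 (iv7 F41752)))
theorem Q11967 : ∀ i, i < 11967 → P i := stepQ 11966 Q11966 (allL N11966 (tt N21555 (iv1 F51602)) (tt N24185 D36746) (tt N10702 F41747) (tt N24184 (iv3 F57623)) (tt N5764 F28774) (tt N10076 F315753) (tt N5762 (iv6 D17713)) (tt N21637 (iv7 F51611)))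
theorem Q11968 : ∀ i, i < 11968 → P i := stepQ 11967 Q11967 (allL N11967 (tt N5767 F28780) (tt N5763 (iv0 D17715)) (tt N11692 F30389) (tt N6103 F300054) (tt N12461 (iv4 F30344)) (tt N6103 F28778) (tt N6101 F300055) (tt N6103 F30343))
theorem Q11969 : ∀ i, i < 11969 → P i := stepQ 11968 Q11968 (allL N11968 (tt N5763 (iv1 D17716)) (tt N5767 F28781) (tt N6103 (iv2 F30345)) (tt N24131 (iv3 F300802)) (tt N8835 (iv4 F30411)) (tt N11692 F30398) (tt N6053 F30399) (tt N11692 (iv7 F30382)))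
theorem Q11970 : ∀ i, i < 11970 → P i := stepQ 11969 Q11969 (allL N11969 (tt N12500 F41733) (tt N6025 F41734) (tt N17595 (iv2 F43880)) (tt N24186 D36749) (tt N5763 (iv4 D17717)) (tt N17052 (iv5 F42014)) (tt N18615 F46230) (tt N11687 (iv7 F28826)))
theorem Q11971 : ∀ i, i < 11971 → P i := stepQ 11970 Q11970 (allL N11970 (tt N8569 F300058) (tt N8555 F300059) (tt N8566 F300060) (tt N24178 (iv3 F57610)) (tt N18615 (iv4 F46229)) (tt N11873 F28782) (tt N5763 (iv6 D17718)) (tt N8567 F300061))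
theorem Q11972 : ∀ i, i < 11972 → P i := stepQ 11971 Q11971 (allL N11971 (tt N5764 (iv1 D17720)) (tt N11869 F28827) (tt N17596 F51277) (tt N24085 (iv3 F299241)) (tt N22152 (iv4 F52545)) (tt N17574 (iv5 F43754)) (tt N11592 (iv6 F28828)) (tt N11576 F51281))
theorem Q11973 : ∀ i, i < 11973 → P i := stepQ 11972 Q11972 (allL N11972 (tt N17596 (iv1 F43885)) (tt N11576 F30429) (tt N11869 F28829) (tt N24181 (iv3 F57613)) (tt N21637 (iv4 F51612)) (tt N8650 F28830) (tt N17599 (iv6 F43901)) (tt N5764 (iv7 D17721)))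
theorem Q11974 : ∀ i, i < 11974 → P i := stepQ 11973 Q11973 (allL N11973 (tt N5765 (iv1 D17723)) (tt N12580 (iv0 F118850)) (tt N12581 (iv2 F118854)) (tt N8707 (iv3 F296241)) (tt N24187 D36758) (tt N11973 F89728) (tt N6693 F296114) (tt N6789 (iv7 F118853)))
theorem Q11975 : ∀ i, i < 11975 → P i := stepQ 11974 Q11974 (allL N11974 (tt N6789 (iv1 F118870)) (tt N12581 (iv0 F118871)) (tt N5765 (iv2 D17724)) (tt N6813 (iv3 F296165)) (tt N12041 (iv4 F296563)) (tt N24188 D36762) (tt N24189 D36763) (tt N12580 (iv7 F118852)))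
theorem Q11976 : ∀ i, i < 11976 → P i := stepQ 11975 Q11975 (allL N11975 (tt N12044 F297153) (tt N12015 F297154) (tt N12041 F297155) (tt N24190 D36766) (tt N5765 (iv4 D17725)) (tt N24191 D36767) (tt N24192 D36768) (tt N12042 F297156))
theorem Q11977 : ∀ i, i < 11977 → P i := stepQ 11976 Q11976 (allL N11976 (tt N24193 D36769) (tt N24194 D36770) (tt N24188 (iv2 F57656)) (tt N5767 F28832) (tt N24195 D36771) (tt N5765 (iv5 D17726)) (tt N8576 (iv6 F28833)) (tt N17593 (iv7 F43877)))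
theorem Q11978 : ∀ i, i < 11978 → P i := stepQ 11977 Q11977 (allL N11977 (tt N24196 D36772) (tt N24197 D36773) (tt N24189 (iv2 F57659)) (tt N5768 F28834) (tt N24192 (iv4 F57662)) (tt N24198 D36774) (tt N5765 (iv6 D17727)) (tt N24199 D36775))
theorem Q11979 : ∀ i, i < 11979 → P i := stepQ 11978 Q11978 (allL N11978 (tt N21541 (iv1 F190059)) (tt N24200 D36777) (tt N24201 D36778) (tt N5766 (iv3 D17728)) (tt N24190 (iv4 F57660)) (tt N24202 D36779) (tt N24203 D36780) (tt N10701 F41749))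
theorem Q11980 : ∀ i, i < 11980 → P i := stepQ 11979 Q11979 (allL N11979 (tt N10078 (iv1 F317305)) (tt N10077 (iv0 F317302)) (tt N10079 F315193) (tt N24202 (iv3 F57674)) (tt N8187 (iv4 F317297)) (tt N5766 (iv5 D17729)) (tt N10053 F315194) (tt N8184 F315195))
theorem Q11981 : ∀ i, i < 11981 → P i := stepQ 11980 Q11980 (allL N11980 (tt N24204 D36783) (tt N11334 F46226) (tt N10704 (iv2 F41756)) (tt N24203 (iv3 F57676)) (tt N5768 F28835) (tt N18613 (iv5 F46224)) (tt N5766 (iv6 D17730)) (tt N24205 D36784))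
theorem Q11982 : ∀ i, i < 11982 → P i := stepQ 11981 Q11981 (allL N11981 (tt N17599 (iv1 F43903)) (tt N5768 (iv0 D17732)) (tt N17598 F51267) (tt N24105 (iv3 F303211)) (tt N16972 F41674) (tt N11737 F28838) (tt N11818 F300760) (tt N11593 F51264))
theorem Q11983 : ∀ i, i < 11983 → P i := stepQ 11982 Q11982 (allL N11982 (tt N11020 (iv1 F28961)) (tt N11008 (iv0 F28957)) (tt N11691 F28839) (tt N24198 (iv3 F57664)) (tt N24206 D36786) (tt N5768 (iv5 D17734)) (tt N8577 F28840) (tt N11832 F298422))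
theorem Q11984 : ∀ i, i < 11984 → P i := stepQ 11983 Q11983 (allL N11983 (tt N11593 (iv1 F28844)) (tt N17598 (iv0 F43899)) (tt N17599 (iv2 F43900)) (tt N24199 (iv3 F57666)) (tt N24205 (iv4 F57690)) (tt N11832 F301030) (tt N11869 F28843) (tt N5768 (iv7 D17735)))
theorem Q11985 : ∀ i, i < 11985 → P i := stepQ 11984 Q11984 (allL N11984 (tt N12309 (iv1 F296461)) (tt N5932 (iv0 F116651)) (tt N13823 (iv2 F33886)) (tt N12480 F296092) (tt N17558 (iv4 F43707)) (tt N11813 F28845) (tt N5770 (iv6 D17736)) (tt N24207 D36790))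
theorem Q11986 : ∀ i, i < 11986 → P i := stepQ 11985 Q11985 (allL N11985 (tt N15968 F324097) (tt N5900 (iv0 F296460)) (tt N17589 (iv2 F43827)) (tt N5788 F28846) (tt N17559 (iv4 F43709)) (tt N23948 (iv5 F56996)) (tt N5771 (iv6 D17737)) (tt N24208 D36793))
theorem Q11987 : ∀ i, i < 11987 → P i := stepQ 11986 Q11986 (allL N11986 (tt N24209 D36816) (tt N24210 D36817) (tt N12710 (iv2 F30705)) (tt N5774 F28858) (tt N12037 (iv4 F29101)) (tt N11707 (iv5 F296283)) (tt N5772 (iv6 D17745)) (tt N24211 D36818))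
theorem Q11988 : ∀ i, i < 11988 → P i := stepQ 11987 Q11987 (allL N11987 (tt N21546 (iv1 F51484)) (tt N21544 (iv0 F300103)) (tt N24212 D36824) (tt N5773 (iv3 D17748)) (tt N12035 (iv4 F29097)) (tt N12416 F29907) (tt N24213 D36825) (tt N10677 F297922))
theorem Q11989 : ∀ i, i < 11989 → P i := stepQ 11988 Q11988 (allL N11988 (tt N17730 (iv1 F44402)) (tt N24214 D36826) (tt N10675 (iv2 F298257)) (tt N12416 (iv3 F29905)) (tt N11640 F28870) (tt N5773 (iv5 D17749)) (tt N24215 D36827) (tt N10678 F297923))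
theorem Q11990 : ∀ i, i < 11990 → P i := stepQ 11989 Q11989 (allL N11989 (tt N11346 (iv1 F300282)) (tt N24216 D36829) (tt N10676 (iv2 F298258)) (tt N24213 (iv3 F57754)) (tt N5774 F28872) (tt N17025 (iv5 F300286)) (tt N5773 (iv6 D17750)) (tt N21722 (iv7 F300288)))
theorem Q11991 : ∀ i, i < 11991 → P i := stepQ 11990 Q11990 (allL N11990 (tt N11818 (iv1 F28877)) (tt N11571 F59793) (tt N11706 (iv2 F298264)) (tt N24211 (iv3 F57734)) (tt N21722 (iv4 F300287)) (tt N8580 (iv5 F298890)) (tt N11814 F28875) (tt N5774 (iv7 D17753)))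
theorem Q11992 : ∀ i, i < 11992 → P i := stepQ 11991 Q11991 (allL N11991 (tt N23009 (iv1 F59747)) (tt N23011 (iv0 F59758)) (tt N6808 F28879) (tt N5777 F28880) (tt N12119 (iv4 F29329)) (tt N6801 F28881) (tt N5775 (iv6 D17754)) (tt N23986 (iv7 F297190)))
theorem Q11993 : ∀ i, i < 11993 → P i := stepQ 11992 Q11992 (allL N11992 (tt N9125 (iv1 F299516)) (tt N24217 D36846) (tt N24218 D36847) (tt N5776 (iv3 D17755)) (tt N12117 (iv4 F29327)) (tt N24219 D36848) (tt N24220 D36849) (tt N10674 (iv7 F298256)))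
theorem Q11994 : ∀ i, i < 11994 → P i := stepQ 11993 Q11993 (allL N11993 (tt N24214 (iv1 F57755)) (tt N17730 (iv0 F44401)) (tt N10678 F298503) (tt N24219 (iv3 F57792)) (tt N11639 F28884) (tt N5776 (iv5 D17756)) (tt N24221 D36850) (tt N10675 F298504))
theorem Q11995 : ∀ i, i < 11995 → P i := stepQ 11994 Q11994 (allL N11994 (tt N11336 (iv1 F300704)) (tt N11347 (iv0 F300105)) (tt N10679 F298505) (tt N24220 (iv3 F57794)) (tt N5777 F28887) (tt N17969 (iv5 F301187)) (tt N5776 (iv6 D17757)) (tt N23996 (iv7 F301188)))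
theorem Q11996 : ∀ i, i < 11996 → P i := stepQ 11995 Q11995 (allL N11995 (tt N11620 F296070) (tt N5784 (iv0 D17879)) (tt N11657 F296071) (tt N8593 (iv3 F296120)) (tt N15600 (iv4 F323643)) (tt N17830 (iv5 F296400)) (tt N8781 (iv6 F296402)) (tt N11519 F296072))
theorem Q11997 : ∀ i, i < 11997 → P i := stepQ 11996 Q11996 (allL N11996 (tt N5784 (iv1 D17880)) (tt N11620 F296042) (tt N11519 F296043) (tt N6110 F296044) (tt N11247 (iv4 F296176)) (tt N23119 (iv5 F55002)) (tt N6108 (iv6 F296218)) (tt N11657 F296045))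
theorem Q11998 : ∀ i, i < 11998 → P i := stepQ 11997 Q11997 (allL N11997 (tt N24222 D37183) (tt N7107 (iv0 F66559)) (tt N6401 F29056) (tt N12109 (iv3 F29311)) (tt N7047 F29057) (tt N24223 D37185) (tt N5785 (iv6 D17882)) (tt N24224 D37186))
theorem Q11999 : ∀ i, i < 11999 → P i := stepQ 11998 Q11998 (allL N11998 (tt N13144 F31676) (tt N12887 F31077) (tt N6569 F29058) (tt N12110 (iv3 F29313)) (tt N14679 (iv4 F36831)) (tt N5786 (iv5 D17883)) (tt N24223 (iv6 F58140)) (tt N13146 (iv7 F31683)))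
theorem Q12000 : ∀ i, i < 12000 → P i := stepQ 11999 Q11999 (allL N11999 (tt N5792 (iv1 F29060)) (tt N5787 (iv0 D17884)) (tt N13633 (iv2 F33389)) (tt N24225 D37187) (tt N6697 F29059) (tt N24226 D37188) (tt N24227 D37189) (tt N13634 (iv7 F33394)))
theorem Q12001 : ∀ i, i < 12001 → P i := stepQ 12000 Q12000 (allL N12000 (tt N5787 (iv1 D17885)) (tt N5792 F29061) (tt N13634 (iv2 F33393)) (tt N17750 (iv3 F44416)) (tt N6696 F29062) (tt N24228 D37190) (tt N24229 D37191) (tt N13633 (iv7 F33390)))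
theorem Q12002 : ∀ i, i < 12002 → P i := stepQ 12001 Q12001 (allL N12001 (tt N16511 F40625) (tt N17245 (iv0 F42586)) (tt N24230 D37192) (tt N5787 (iv3 D17886)) (tt N17185 F42460) (tt N17200 (iv5 F42492)) (tt N24231 D37193) (tt N13824 (iv7 F33891)))
theorem Q12003 : ∀ i, i < 12003 → P i := stepQ 12002 Q12002 (allL N12002 (tt N24232 D37194) (tt N24233 D37195) (tt N13830 (iv2 F33912)) (tt N17200 (iv3 F42491)) (tt N6673 F29063) (tt N5787 (iv5 D17887)) (tt N24234 D37196) (tt N13825 (iv7 F33894)))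
theorem Q12004 : ∀ i, i < 12004 → P i := stepQ 12003 Q12003 (allL N12003 (tt N23958 (iv1 F296890)) (tt N12610 (iv0 F296469)) (tt N13831 (iv2 F33915)) (tt N24231 (iv3 F58155)) (tt N5788 F29064) (tt N24235 D37199) (tt N5787 (iv6 D17888)) (tt N24236 D37200))
theorem Q12005 : ∀ i, i < 12005 → P i := stepQ 12004 Q12004 (allL N12004 (tt N13833 (iv1 F33924)) (tt N5788 (iv0 D17889)) (tt N6030 (iv2 F126008)) (tt N17607 F125976) (tt N24237 D37203) (tt N24238 D37204) (tt N17703 (iv6 F296465)) (tt N12672 (iv7 F296447)))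
theorem Q12006 : ∀ i, i < 12006 → P i := stepQ 12005 Q12005 (allL N12005 (tt N24239 D37211) (tt N17993 F116795) (tt N13832 (iv2 F33918)) (tt N23948 (iv3 F56994)) (tt N24240 D37213) (tt N5788 (iv5 D17891)) (tt N5790 F29065) (tt N24241 D37214))
theorem Q12007 : ∀ i, i < 12007 → P i := stepQ 12006 Q12006 (allL N12006 (tt N12672 (iv1 F296445)) (tt N6030 (iv0 F126006)) (tt N13833 (iv2 F33920)) (tt N24208 (iv3 F57706)) (tt N24236 (iv4 F58163)) (tt N24241 (iv5 F58167)) (tt N6004 F116729) (tt N5788 (iv7 D17892)))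
theorem Q12008 : ∀ i, i < 12008 → P i := stepQ 12007 Q12007 (allL N12007 (tt N11231 F29069) (tt N11229 F29068) (tt N6037 F29066) (tt N11237 F29067) (tt N24242 D37215) (tt N5789 (iv5 D17893)) (tt N17871 (iv6 F44715)) (tt N13811 (iv7 F33808)))
theorem Q12009 : ∀ i, i < 12009 → P i := stepQ 12008 Q12008 (allL N12008 (tt N24243 D37216) (tt N24244 D37217) (tt N13835 (iv2 F33930)) (tt N24245 D37218) (tt N5790 (iv4 D17894)) (tt N24246 D37219) (tt N24240 (iv6 F58166)) (tt N22896 (iv7 F54614)))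
theorem Q12010 : ∀ i, i < 12010 → P i := stepQ 12009 Q12009 (allL N12009 (tt N12587 (iv1 F30214)) (tt N12589 (iv0 F30220)) (tt N12599 F30243) (tt N24247 D37220) (tt N5791 (iv4 D17895)) (tt N24248 D37221) (tt N24249 D37222) (tt N12598 F30240))
theorem Q12011 : ∀ i, i < 12011 → P i := stepQ 12010 Q12010 (allL N12010 (tt N6008 (iv1 F296449)) (tt N12477 (iv0 F296451)) (tt N12480 F296082) (tt N5793 F29070) (tt N24249 (iv4 F58179)) (tt N10890 F306678) (tt N5791 (iv6 D17896)) (tt N12481 (iv7 F296455)))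
theorem Q12012 : ∀ i, i < 12012 → P i := stepQ 12011 Q12011 (allL N12011 (tt N24250 D37226) (tt N24251 D37227) (tt N21355 F305646) (tt N5792 (iv3 D17897)) (tt N24247 (iv4 F58173)) (tt N21329 (iv5 F306562)) (tt N11167 (iv6 F307649)) (tt N13829 (iv7 F33911)))
theorem Q12013 : ∀ i, i < 12013 → P i := stepQ 12012 Q12012 (allL N12012 (tt N24233 (iv1 F58159)) (tt N24232 F58158) (tt N13825 (iv2 F33893)) (tt N21329 F308122) (tt N6672 F29071) (tt N5792 (iv5 D17898)) (tt N21327 (iv6 F310157)) (tt N13830 (iv7 F33914)))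
theorem Q12014 : ∀ i, i < 12014 → P i := stepQ 12013 Q12013 (allL N12013 (tt N19030 F309652) (tt N9525 F309653) (tt N13826 (iv2 F33896)) (tt N11167 F309654) (tt N5793 F29072) (tt N9331 (iv5 F310619)) (tt N5792 (iv6 D17899)) (tt N17975 (iv7 F116741)))
theorem Q12015 : ∀ i, i < 12015 → P i := stepQ 12014 Q12014 (allL N12014 (tt N24252 D37246) (tt N24253 D37247) (tt N21825 (iv2 F51983)) (tt N5794 (iv3 D17903)) (tt N17613 (iv4 F44066)) (tt N13898 (iv5 F34136)) (tt N24254 D37248) (tt N13817 (iv7 F33835)))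
theorem Q12016 : ∀ i, i < 12016 → P i := stepQ 12015 Q12015 (allL N12015 (tt N11975 (iv1 F297154)) (tt N24255 D37250) (tt N5805 F29073) (tt N24254 (iv3 F58195)) (tt N5795 F29074) (tt N24256 D37251) (tt N5794 (iv6 D17904)) (tt N17641 F296892))
theorem Q12017 : ∀ i, i < 12017 → P i := stepQ 12016 Q12016 (allL N12016 (tt N5808 (iv1 F29078)) (tt N5795 (iv0 D17905)) (tt N5806 (iv2 F116855)) (tt N5807 F296933) (tt N24257 D37255) (tt N24258 D37256) (tt N24259 D37257) (tt N5807 (iv7 F116864)))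
theorem Q12018 : ∀ i, i < 12018 → P i := stepQ 12017 Q12017 (allL N12017 (tt N5795 (iv1 D17906)) (tt N5808 F29075) (tt N5807 F116865) (tt N22968 (iv3 F297354)) (tt N24260 D37259) (tt N12353 (iv5 F29682)) (tt N23089 F116805) (tt N5806 F116866))
theorem Q12019 : ∀ i, i < 12019 → P i := stepQ 12018 Q12018 (allL N12018 (tt N22956 (iv1 F116617)) (tt N23028 (iv0 F116618)) (tt N11813 F29081) (tt N5798 F29082) (tt N17602 (iv4 F43931)) (tt N13823 (iv5 F33889)) (tt N5796 (iv6 D17908)) (tt N23027 (iv7 F116620)))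
theorem Q12020 : ∀ i, i < 12020 → P i := stepQ 12019 Q12019 (allL N12019 (tt N5800 (iv1 F29084)) (tt N5797 (iv0 D17909)) (tt N12585 (iv2 F295956)) (tt N24261 D37264) (tt N6694 F29083) (tt N24232 (iv5 F58156)) (tt N6840 (iv6 F295922)) (tt N13632 (iv7 F33384)))
theorem Q12021 : ∀ i, i < 12021 → P i := stepQ 12020 Q12020 (allL N12020 (tt N5797 (iv1 D17910)) (tt N5800 F29085) (tt N13632 (iv2 F33383)) (tt N24262 D37266) (tt N6693 F29086) (tt N24233 (iv5 F58160)) (tt N24187 (iv6 F296548)) (tt N12585 F296113))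
theorem Q12022 : ∀ i, i < 12022 → P i := stepQ 12021 Q12021 (allL N12021 (tt N24263 D37268) (tt N22997 (iv0 F54855)) (tt N24264 D37269) (tt N5797 (iv3 D17911)) (tt N12420 F29914) (tt N24265 D37270) (tt N24266 D37271) (tt N13836 (iv7 F33932)))
theorem Q12023 : ∀ i, i < 12023 → P i := stepQ 12022 Q12022 (allL N12022 (tt N24267 D37272) (tt N24268 D37273) (tt N13843 (iv2 F33950)) (tt N24265 (iv3 F58223)) (tt N6670 F29087) (tt N5797 (iv5 D17912)) (tt N24269 D37274) (tt N13837 (iv7 F33934)))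
theorem Q12024 : ∀ i, i < 12024 → P i := stepQ 12023 Q12023 (allL N12023 (tt N24270 D37275) (tt N24271 D37276) (tt N13844 (iv2 F33953)) (tt N24266 (iv3 F58228)) (tt N5798 F29088) (tt N22810 (iv5 F310156)) (tt N5797 (iv6 D17913)) (tt N23082 (iv7 F116657)))
theorem Q12025 : ∀ i, i < 12025 → P i := stepQ 12024 Q12024 (allL N12024 (tt N6788 F29089) (tt N6840 F29090) (tt N12578 F30190) (tt N24272 D37289) (tt N5799 (iv4 D17917)) (tt N10886 F304041) (tt N24273 D37291) (tt N10885 F304042))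
theorem Q12026 : ∀ i, i < 12026 → P i := stepQ 12025 Q12025 (allL N12025 (tt N17434 (iv1 F297841)) (tt N24274 D37293) (tt N13855 F296930) (tt N5801 F29091) (tt N24273 (iv4 F58251)) (tt N12358 F296931) (tt N5799 (iv6 D17918)) (tt N24275 D37295))
theorem Q12027 : ∀ i, i < 12027 → P i := stepQ 12026 Q12026 (allL N12026 (tt N24276 D37296) (tt N24277 D37297) (tt N24278 D37298) (tt N5800 (iv3 D17919)) (tt N24272 (iv4 F58245)) (tt N22394 (iv5 F306558)) (tt N22396 (iv6 F306559)) (tt N13842 (iv7 F33949)))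
theorem Q12028 : ∀ i, i < 12028 → P i := stepQ 12027 Q12027 (allL N12027 (tt N24268 (iv1 F58234)) (tt N24267 F58231) (tt N13837 (iv2 F33933)) (tt N22394 F308119) (tt N6667 F29092) (tt N5800 (iv5 D17920)) (tt N22385 (iv6 F310152)) (tt N13843 (iv7 F33952)))
theorem Q12029 : ∀ i, i < 12029 → P i := stepQ 12028 Q12028 (allL N12028 (tt N24279 D37302) (tt N24280 D37303) (tt N13838 (iv2 F33936)) (tt N22396 F308120) (tt N5801 F29093) (tt N22386 F308121) (tt N5800 (iv6 D17921)) (tt N24281 D37305))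
theorem Q12030 : ∀ i, i < 12030 → P i := stepQ 12029 Q12029 (allL N12029 (tt N5801 (iv1 D17923)) (tt N13841 F33944) (tt N11538 F116796) (tt N17620 F117312) (tt N24282 D37312) (tt N24283 D37313) (tt N24284 D37314) (tt N13839 F116797))
theorem Q12031 : ∀ i, i < 12031 → P i := stepQ 12030 Q12030 (allL N12030 (tt N23117 (iv1 F126093)) (tt N18206 F326196) (tt N13840 (iv2 F33939)) (tt N12358 (iv3 F296369)) (tt N24285 D37317) (tt N5801 (iv5 D17924)) (tt N12575 (iv6 F30174)) (tt N24286 D37318))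
theorem Q12032 : ∀ i, i < 12032 → P i := stepQ 12031 Q12031 (allL N12031 (tt N11538 (iv1 F116744)) (tt N13839 F33943) (tt N13841 (iv2 F33941)) (tt N24275 (iv3 F58253)) (tt N24281 (iv4 F58259)) (tt N24286 (iv5 F58263)) (tt N13846 (iv6 F33958)) (tt N5801 (iv7 D17925)))
theorem Q12033 : ∀ i, i < 12033 → P i := stepQ 12032 Q12032 (allL N12032 (tt N24287 D37319) (tt N24288 D37320) (tt N24289 D37321) (tt N5802 (iv3 D17926)) (tt N13968 (iv4 F34447)) (tt N24290 D37322) (tt N24291 D37323) (tt N13847 (iv7 F33963)))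
theorem Q12034 : ∀ i, i < 12034 → P i := stepQ 12033 Q12033 (allL N12033 (tt N7077 F29095) (tt N8806 F29096) (tt N12344 F29678) (tt N24290 (iv3 F58264)) (tt N6662 F29094) (tt N5802 (iv5 D17927)) (tt N24292 D37324) (tt N12343 F29674))
theorem Q12035 : ∀ i, i < 12035 → P i := stepQ 12034 Q12034 (allL N12034 (tt N22820 (iv1 F311411)) (tt N17433 (iv0 F59775)) (tt N13850 (iv2 F33968)) (tt N24291 (iv3 F58265)) (tt N12725 (iv4 F30747)) (tt N24293 D37327) (tt N5802 (iv6 D17928)) (tt N23084 (iv7 F61590)))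
theorem Q12036 : ∀ i, i < 12036 → P i := stepQ 12035 Q12035 (allL N12035 (tt N24294 D37329) (tt N24295 D37330) (tt N24296 D37331) (tt N5803 (iv3 D17929)) (tt N11987 F29097) (tt N24297 D37332) (tt N24298 D37333) (tt N13849 (iv7 F33967)))
theorem Q12037 : ∀ i, i < 12037 → P i := stepQ 12036 Q12036 (allL N12036 (tt N8806 F29099) (tt N7077 F29100) (tt N12343 F29673) (tt N24297 (iv3 F58268)) (tt N6657 F29098) (tt N5803 (iv5 D17930)) (tt N24299 D37334) (tt N12344 (iv7 F29676)))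
theorem Q12038 : ∀ i, i < 12038 → P i := stepQ 12037 Q12037 (allL N12037 (tt N15333 F309144) (tt N24282 (iv0 F116769)) (tt N13848 (iv2 F33964)) (tt N24298 (iv3 F58270)) (tt N11986 F29101) (tt N24300 D37337) (tt N5803 (iv6 D17931)) (tt N24301 D37338))
theorem Q12039 : ∀ i, i < 12039 → P i := stepQ 12038 Q12038 (allL N12038 (tt N6674 (iv1 F29104)) (tt N5804 (iv0 D17932)) (tt N13784 (iv2 F33708)) (tt N24302 D37339) (tt N6647 F29103) (tt N5950 F29102) (tt N24303 D37340) (tt N13770 (iv7 F33660)))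
theorem Q12040 : ∀ i, i < 12040 → P i := stepQ 12039 Q12039 (allL N12039 (tt N5804 (iv1 D17933)) (tt N6674 F29105) (tt N13770 (iv2 F33659)) (tt N24304 D37341) (tt N6636 (iv4 F29107)) (tt N5951 F29106) (tt N9091 (iv6 F312042)) (tt N13784 (iv7 F33710)))
theorem Q12041 : ∀ i, i < 12041 → P i := stepQ 12040 Q12040 (allL N12040 (tt N24305 D37343) (tt N24306 D37344) (tt N13899 (iv2 F34138)) (tt N21842 (iv3 F52029)) (tt N13821 (iv4 F33858)) (tt N24307 D37345) (tt N5804 (iv6 D17934)) (tt N24308 D37346))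
theorem Q12042 : ∀ i, i < 12042 → P i := stepQ 12041 Q12041 (allL N12041 (tt N17641 F296562) (tt N5805 (iv0 D17935)) (tt N11975 (iv2 F297155)) (tt N24309 D37348) (tt N11974 F296563) (tt N24310 D37350) (tt N24311 D37351) (tt N24255 (iv7 F89183)))
theorem Q12043 : ∀ i, i < 12043 → P i := stepQ 12042 Q12042 (allL N12042 (tt N5805 (iv1 D17936)) (tt N17641 F296560) (tt N24255 (iv2 F89182)) (tt N21868 (iv3 F297928)) (tt N8659 F296561) (tt N24312 D37355) (tt N24313 D37356) (tt N11975 (iv7 F297156)))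
theorem Q12044 : ∀ i, i < 12044 → P i := stepQ 12043 Q12043 (allL N12043 (tt N24314 D37357) (tt N24315 D37358) (tt N24256 (iv2 F58199)) (tt N21845 (iv3 F52031)) (tt N24316 D37359) (tt N5805 (iv5 D17937)) (tt N24307 (iv6 F58279)) (tt N24317 D37360))
theorem Q12045 : ∀ i, i < 12045 → P i := stepQ 12044 Q12044 (allL N12044 (tt N24255 (iv1 F58198)) (tt N11975 (iv0 F297153)) (tt N17641 F296515) (tt N21846 (iv3 F52032)) (tt N5808 F29108) (tt N24317 (iv5 F58283)) (tt N6163 F296516) (tt N5805 (iv7 D17938)))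
theorem Q12046 : ∀ i, i < 12046 → P i := stepQ 12045 Q12045 (allL N12045 (tt N22966 F296586) (tt N22966 F117824) (tt N22968 (iv2 F117862)) (tt N5806 (iv3 D17940)) (tt N24069 F57326) (tt N24318 D37370) (tt N24319 D37371) (tt N22968 (iv7 F297355)))
theorem Q12047 : ∀ i, i < 12047 → P i := stepQ 12046 Q12046 (allL N12046 (tt N12579 F297148) (tt N24187 F297149) (tt N24257 (iv2 F116859)) (tt N24320 D37375) (tt N5806 (iv4 D17941)) (tt N24321 D37376) (tt N24322 D37377) (tt N24260 (iv7 F116876)))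
theorem Q12048 : ∀ i, i < 12048 → P i := stepQ 12047 Q12047 (allL N12047 (tt N24323 D37379) (tt N8849 (iv0 F116826)) (tt N24258 F116853) (tt N24318 (iv3 F58293)) (tt N24324 D37381) (tt N5806 (iv5 D17942)) (tt N24325 D37382) (tt N12353 (iv7 F116857)))
theorem Q12049 : ∀ i, i < 12049 → P i := stepQ 12048 Q12048 (allL N12048 (tt N24284 (iv1 F116811)) (tt N23088 F116803) (tt N24259 (iv2 F116863)) (tt N24319 (iv3 F58294)) (tt N24322 (iv4 F58297)) (tt N24326 D37386) (tt N5806 (iv6 D17943)) (tt N24327 D37387))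
theorem Q12050 : ∀ i, i < 12050 → P i := stepQ 12049 Q12049 (allL N12049 (tt N24187 F297146) (tt N12579 F297147) (tt N24260 (iv2 F116875)) (tt N24328 D37395) (tt N5807 (iv4 D17946)) (tt N24329 D37396) (tt N24330 D37397) (tt N24257 (iv7 F116860)))
theorem Q12051 : ∀ i, i < 12051 → P i := stepQ 12050 Q12050 (allL N12050 (tt N8849 (iv1 F116827)) (tt N24323 F58306) (tt N12353 (iv2 F116856)) (tt N24258 (iv3 F297725)) (tt N24331 D37398) (tt N5807 (iv5 D17947)) (tt N12335 (iv6 F29659)) (tt N24258 F116854))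
theorem Q12052 : ∀ i, i < 12052 → P i := stepQ 12051 Q12051 (allL N12051 (tt N23091 F116830) (tt N23083 (iv0 F116834)) (tt N23089 F116879) (tt N24259 F297624) (tt N24330 (iv4 F58312)) (tt N24332 D37401) (tt N5807 (iv6 D17948)) (tt N23090 (iv7 F116890)))
theorem Q12053 : ∀ i, i < 12053 → P i := stepQ 12052 Q12052 (allL N12052 (tt N24333 D37416) (tt N17394 F121343) (tt N17630 (iv2 F298885)) (tt N22150 (iv3 F52538)) (tt N5809 (iv4 D17958)) (tt N24334 D37418) (tt N24335 D37419) (tt N17628 (iv7 F299003)))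
theorem Q12054 : ∀ i, i < 12054 → P i := stepQ 12053 Q12053 (allL N12053 (tt N12503 F301282) (tt N8775 (iv0 F121110)) (tt N12509 F301283) (tt N5810 F29119) (tt N24336 D37422) (tt N5809 (iv5 D17959)) (tt N8792 F301284) (tt N12363 (iv7 F29893)))
theorem Q12055 : ∀ i, i < 12055 → P i := stepQ 12054 Q12054 (allL N12054 (tt N24337 D37424) (tt N17425 F301285) (tt N17631 F301286) (tt N5811 F29120) (tt N24335 (iv4 F58321)) (tt N12407 (iv5 F29895)) (tt N5809 (iv6 D17960)) (tt N24338 D37426))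
theorem Q12056 : ∀ i, i < 12056 → P i := stepQ 12055 Q12055 (allL N12055 (tt N12461 (iv1 F30351)) (tt N8835 (iv0 F30408)) (tt N12460 (iv2 F30362)) (tt N24339 D37427) (tt N5810 (iv4 D17968)) (tt N10846 (iv5 F29130)) (tt N11013 F29129) (tt N10996 (iv7 F42340)))
theorem Q12057 : ∀ i, i < 12057 → P i := stepQ 12056 Q12056 (allL N12056 (tt N8855 F29127) (tt N12369 F29883) (tt N12371 (iv2 F29881)) (tt N8792 (iv3 F298939)) (tt N11013 (iv4 F29128)) (tt N12408 (iv5 F29896)) (tt N5810 (iv6 D17969)) (tt N8799 F29140))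
theorem Q12058 : ∀ i, i < 12058 → P i := stepQ 12057 Q12057 (allL N12057 (tt N17430 F43139) (tt N11540 F29887) (tt N12405 (iv2 F29842)) (tt N24338 (iv3 F58324)) (tt N22153 (iv4 F52549)) (tt N8815 (iv5 F29890)) (tt N17431 F43214) (tt N5811 (iv7 D17972)))
theorem Q12059 : ∀ i, i < 12059 → P i := stepQ 12058 Q12058 (allL N12058 (tt N6812 (iv1 F118895)) (tt N22990 F118892) (tt N22977 F117766) (tt N22154 (iv3 F52552)) (tt N5812 (iv4 D17977)) (tt N24340 D37442) (tt N24341 D37443) (tt N17632 (iv7 F44120)))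
theorem Q12060 : ∀ i, i < 12060 → P i := stepQ 12059 Q12059 (allL N12059 (tt N12179 (iv1 F117732)) (tt N12316 (iv0 F117733)) (tt N12207 F117691) (tt N5813 F29144) (tt N24342 D37446) (tt N5812 (iv5 D17978)) (tt N8796 (iv6 F29145)) (tt N12315 (iv7 F117731)))
theorem Q12061 : ∀ i, i < 12061 → P i := stepQ 12060 Q12060 (allL N12060 (tt N23026 (iv1 F117792)) (tt N22959 (iv0 F117793)) (tt N22978 F117759) (tt N5814 F29146) (tt N24341 (iv4 F58343)) (tt N24343 D37449) (tt N5812 (iv6 D17979)) (tt N23024 (iv7 F117791)))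
theorem Q12062 : ∀ i, i < 12062 → P i := stepQ 12061 Q12061 (allL N12061 (tt N8835 (iv1 F30409)) (tt N12461 F30350) (tt N10996 (iv2 F42338)) (tt N24344 D37450) (tt N5813 (iv4 D17980)) (tt N10847 (iv5 F30352)) (tt N8459 (iv6 F30355)) (tt N12460 (iv7 F30364)))
theorem Q12063 : ∀ i, i < 12063 → P i := stepQ 12062 Q12062 (allL N12062 (tt N8857 F29151) (tt N8854 F29150) (tt N12366 (iv2 F29884)) (tt N24343 (iv3 F58345)) (tt N24345 D37451) (tt N5814 (iv5 D17983)) (tt N8797 F29149) (tt N12524 (iv7 F30089)))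
theorem Q12064 : ∀ i, i < 12064 → P i := stepQ 12063 Q12063 (allL N12063 (tt N24346 D37452) (tt N12637 (iv0 F91155)) (tt N17551 (iv2 F43678)) (tt N23554 (iv3 F56130)) (tt N12385 (iv4 F29811)) (tt N22909 (iv5 F54634)) (tt N5815 (iv6 D17985)) (tt N24347 D37454))
theorem Q12065 : ∀ i, i < 12065 → P i := stepQ 12064 Q12064 (allL N12064 (tt N5820 (iv1 F29152)) (tt N5816 (iv0 D17986)) (tt N12930 (iv2 F31190)) (tt N24348 D37455) (tt N12586 (iv4 F30209)) (tt N14147 (iv5 F34899)) (tt N24349 D37456) (tt N12606 (iv7 F30256)))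
theorem Q12066 : ∀ i, i < 12066 → P i := stepQ 12065 Q12065 (allL N12065 (tt N5816 (iv1 D17987)) (tt N5820 F29153) (tt N12606 (iv2 F30255)) (tt N14254 (iv3 F35129)) (tt N12605 F30254) (tt N14148 (iv5 F34906)) (tt N17807 (iv6 F298305)) (tt N12930 (iv7 F31192)))
theorem Q12067 : ∀ i, i < 12067 → P i := stepQ 12066 Q12066 (allL N12066 (tt N17796 (iv1 F298959)) (tt N24350 D37459) (tt N17612 (iv2 F44057)) (tt N13947 (iv3 F34398)) (tt N5817 F29154) (tt N24351 D37460) (tt N5816 (iv6 D17988)) (tt N17960 F117187))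
theorem Q12068 : ∀ i, i < 12068 → P i := stepQ 12067 Q12067 (allL N12067 (tt N12562 (iv1 F30141)) (tt N12560 (iv0 F30135)) (tt N23439 F55926) (tt N24352 D37472) (tt N5818 (iv4 D17992)) (tt N24353 D37473) (tt N24354 D37474) (tt N17610 (iv7 F44049)))
theorem Q12069 : ∀ i, i < 12069 → P i := stepQ 12068 Q12068 (allL N12068 (tt N5907 (iv1 F296223)) (tt N5877 (iv0 F296224)) (tt N5904 (iv2 F296139)) (tt N5821 F29155) (tt N24354 (iv4 F58360)) (tt N24355 D37477) (tt N5818 (iv6 D17993)) (tt N5905 (iv7 F296225)))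
theorem Q12070 : ∀ i, i < 12070 → P i := stepQ 12069 Q12069 (allL N12069 (tt N22934 (iv1 F54681)) (tt N22938 F54688) (tt N22936 F54683) (tt N5823 F29156) (tt N24356 D37479) (tt N5819 (iv5 D17994)) (tt N24355 (iv6 F58362)) (tt N22910 (iv7 F54636)))
theorem Q12071 : ∀ i, i < 12071 → P i := stepQ 12070 Q12070 (allL N12070 (tt N24357 D37480) (tt N24358 D37481) (tt N14318 (iv2 F35260)) (tt N5820 (iv3 D17995)) (tt N24352 (iv4 F58357)) (tt N24359 D37482) (tt N24360 D37483) (tt N17611 (iv7 F44056)))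
theorem Q12072 : ∀ i, i < 12072 → P i := stepQ 12071 Q12071 (allL N12071 (tt N13943 F34387) (tt N13942 F34385) (tt N12976 (iv2 F31281)) (tt N24359 (iv3 F58371)) (tt N12093 F29202) (tt N5820 (iv5 D17996)) (tt N24361 D37484) (tt N13944 (iv7 F34390)))
theorem Q12073 : ∀ i, i < 12073 → P i := stepQ 12072 Q12072 (allL N12072 (tt N17764 (iv1 F298738)) (tt N17685 (iv0 F298740)) (tt N17606 (iv2 F44036)) (tt N24360 (iv3 F58373)) (tt N5821 F29157) (tt N24362 D37487) (tt N5820 (iv6 D17997)) (tt N17741 (iv7 F298743)))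
theorem Q12074 : ∀ i, i < 12074 → P i := stepQ 12073 Q12073 (allL N12073 (tt N17990 F117295) (tt N24363 D37500) (tt N17608 (iv2 F44040)) (tt N24355 (iv3 F58361)) (tt N24364 D37501) (tt N5821 (iv5 D18000)) (tt N5823 F29158) (tt N17742 (iv7 F298749)))
theorem Q12075 : ∀ i, i < 12075 → P i := stepQ 12074 Q12074 (allL N12074 (tt N11241 F29161) (tt N11240 F29162) (tt N6039 F29159) (tt N13811 (iv3 F33807)) (tt N24365 D37503) (tt N5822 (iv5 D18002)) (tt N24366 D37504) (tt N11237 F29160))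
theorem Q12076 : ∀ i, i < 12076 → P i := stepQ 12075 Q12075 (allL N12075 (tt N5823 (iv1 D18003)) (tt N11239 F29163) (tt N6042 F29165) (tt N13834 F33929) (tt N24367 D37505) (tt N11749 (iv5 F29164)) (tt N24368 D37506) (tt N12570 (iv7 F30156)))
theorem Q12077 : ∀ i, i < 12077 → P i := stepQ 12076 Q12076 (allL N12076 (tt N24369 D37507) (tt N24370 D37508) (tt N17609 (iv2 F44047)) (tt N24371 D37509) (tt N5823 (iv4 D18004)) (tt N24372 D37510) (tt N24364 (iv6 F58377)) (tt N22911 (iv7 F54638)))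
theorem Q12078 : ∀ i, i < 12078 → P i := stepQ 12077 Q12077 (allL N12077 (tt N24373 D37511) (tt N24374 D37512) (tt N21765 (iv2 F51838)) (tt N5824 (iv3 D18005)) (tt N13817 (iv4 F33833)) (tt N24375 D37513) (tt N17384 (iv6 F297839)) (tt N17613 (iv7 F44068)))
theorem Q12079 : ∀ i, i < 12079 → P i := stepQ 12078 Q12078 (allL N12078 (tt N6288 F29169) (tt N6822 F29170) (tt N5832 F29166) (tt N24375 (iv3 F58392)) (tt N8687 F29168) (tt N5824 (iv5 D18006)) (tt N24376 D37515) (tt N6821 F29167))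
theorem Q12080 : ∀ i, i < 12080 → P i := stepQ 12079 Q12079 (allL N12079 (tt N5828 (iv1 F29185)) (tt N5825 (iv0 D18014)) (tt N6803 (iv2 F29186)) (tt N24377 D37539) (tt N6787 F29184) (tt N13942 (iv5 F34384)) (tt N24333 (iv6 F296255)) (tt N12582 (iv7 F30194)))
theorem Q12081 : ∀ i, i < 12081 → P i := stepQ 12080 Q12080 (allL N12080 (tt N5825 (iv1 D18015)) (tt N5828 F29187) (tt N12582 (iv2 F30193)) (tt N22982 (iv3 F54811)) (tt N6805 F29189) (tt N13943 (iv5 F34386)) (tt N8715 (iv6 F296127)) (tt N6803 F29188))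
theorem Q12082 : ∀ i, i < 12082 → P i := stepQ 12081 Q12081 (allL N12081 (tt N24378 D37542) (tt N24379 D37543) (tt N17619 (iv2 F44098)) (tt N12847 (iv3 F30988)) (tt N5826 F29190) (tt N24380 D37544) (tt N5825 (iv6 D18016)) (tt N24381 D37545))
theorem Q12083 : ∀ i, i < 12083 → P i := stepQ 12082 Q12082 (allL N12082 (tt N17622 (iv1 F44107)) (tt N5826 (iv0 D18017)) (tt N11536 (iv2 F117324)) (tt N13839 (iv3 F117325)) (tt N24382 D37548) (tt N24383 D37549) (tt N17381 F298599) (tt N17620 (iv7 F117351)))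
theorem Q12084 : ∀ i, i < 12084 → P i := stepQ 12083 Q12083 (allL N12083 (tt N8740 F297482) (tt N23120 F124345) (tt N17621 (iv2 F44101)) (tt N8801 (iv3 F298780)) (tt N24384 D37558) (tt N5826 (iv5 D18019)) (tt N11239 F29191) (tt N12372 (iv7 F299640)))
theorem Q12085 : ∀ i, i < 12085 → P i := stepQ 12084 Q12084 (allL N12084 (tt N17620 (iv1 F44100)) (tt N11536 (iv0 F117265)) (tt N17622 (iv2 F44103)) (tt N12373 F300690) (tt N24381 (iv4 F58438)) (tt N12372 F300691) (tt N17423 F117219) (tt N5826 (iv7 D18020)))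
theorem Q12086 : ∀ i, i < 12086 → P i := stepQ 12085 Q12085 (allL N12085 (tt N6842 F295977) (tt N11558 F29193) (tt N17634 (iv2 F296131)) (tt N24385 D37560) (tt N5827 (iv4 D18021)) (tt N24386 D37561) (tt N24387 D37562) (tt N17616 (iv7 F44090)))
theorem Q12087 : ∀ i, i < 12087 → P i := stepQ 12086 Q12086 (allL N12086 (tt N22958 (iv1 F296227)) (tt N22960 (iv0 F117258)) (tt N17635 (iv2 F296143)) (tt N5829 F29194) (tt N24387 (iv4 F58448)) (tt N12302 (iv5 F296137)) (tt N5827 (iv6 D18022)) (tt N23018 (iv7 F117230)))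
theorem Q12088 : ∀ i, i < 12088 → P i := stepQ 12087 Q12087 (allL N12087 (tt N24388 D37566) (tt N24389 D37567) (tt N12837 (iv2 F30973)) (tt N5828 (iv3 D18023)) (tt N24385 (iv4 F58445)) (tt N12835 F30970) (tt N24390 D37568) (tt N17618 (iv7 F44097)))
theorem Q12089 : ∀ i, i < 12089 → P i := stepQ 12088 Q12088 (allL N12088 (tt N12844 (iv1 F30986)) (tt N12843 F30982) (tt N6888 F29195) (tt N12835 (iv3 F30969)) (tt N6899 F29196) (tt N5828 (iv5 D18024)) (tt N24391 D37569) (tt N12845 (iv7 F30985)))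
theorem Q12090 : ∀ i, i < 12090 → P i := stepQ 12089 Q12089 (allL N12089 (tt N24392 D37570) (tt N24393 D37571) (tt N17615 (iv2 F44079)) (tt N24390 (iv3 F58453)) (tt N5829 F29197) (tt N24394 D37572) (tt N5828 (iv6 D18025)) (tt N23097 (iv7 F117241)))
theorem Q12091 : ∀ i, i < 12091 → P i := stepQ 12090 Q12090 (allL N12090 (tt N14221 (iv1 F35072)) (tt N14220 F35069) (tt N14075 (iv2 F34698)) (tt N5830 (iv3 D18029)) (tt N17651 (iv4 F44238)) (tt N14074 F34697) (tt N24395 D37583) (tt N14218 (iv7 F35063)))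
theorem Q12092 : ∀ i, i < 12092 → P i := stepQ 12091 Q12091 (allL N12091 (tt N24382 (iv1 F117327)) (tt N23113 (iv0 F91497)) (tt N14169 (iv2 F34949)) (tt N24395 (iv3 F58459)) (tt N13962 (iv4 F34427)) (tt N24396 D37586) (tt N5830 (iv6 D18030)) (tt N24397 D37587))
theorem Q12093 : ∀ i, i < 12093 → P i := stepQ 12092 Q12092 (allL N12092 (tt N17424 F91443) (tt N23098 (iv0 F91444)) (tt N17623 (iv2 F44108)) (tt N14085 (iv3 F34738)) (tt N11910 F29198) (tt N24398 D37590) (tt N5831 (iv6 D18031)) (tt N23099 (iv7 F91397)))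
theorem Q12094 : ∀ i, i < 12094 → P i := stepQ 12093 Q12093 (allL N12093 (tt N6821 (iv1 F29201)) (tt N5832 (iv0 D18032)) (tt N6288 (iv2 F29200)) (tt N6846 F29204) (tt N12071 (iv4 F29202)) (tt N5969 F29199) (tt N24399 D37592) (tt N6822 F29203))
theorem Q12095 : ∀ i, i < 12095 → P i := stepQ 12094 Q12094 (allL N12094 (tt N24400 D37593) (tt N24401 D37594) (tt N24376 (iv2 F58395)) (tt N21786 (iv3 F51893)) (tt N14003 (iv4 F34494)) (tt N17668 (iv5 F301731)) (tt N5832 (iv6 D18033)) (tt N24402 D37596))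
theorem Q12096 : ∀ i, i < 12096 → P i := stepQ 12095 Q12095 (allL N12095 (tt N11558 (iv1 F296132)) (tt N6842 (iv0 F117930)) (tt N17616 (iv2 F296129)) (tt N22021 (iv3 F52373)) (tt N5838 (iv4 D18075)) (tt N24403 D37714) (tt N24404 D37715) (tt N17634 (iv7 F44151)))
theorem Q12097 : ∀ i, i < 12097 → P i := stepQ 12096 Q12096 (allL N12096 (tt N22962 (iv1 F117875)) (tt N23037 (iv0 F117874)) (tt N17617 (iv2 F296141)) (tt N5839 F29258) (tt N24404 (iv4 F58574)) (tt N12211 (iv5 F117883)) (tt N5838 (iv6 D18077)) (tt N23035 F117872))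
theorem Q12098 : ∀ i, i < 12098 → P i := stepQ 12097 Q12097 (allL N12097 (tt N24405 D37786) (tt N24406 D37787) (tt N17214 (iv2 F42509)) (tt N5841 (iv3 D18122)) (tt N17636 (iv4 F44181)) (tt N6976 F29285) (tt N24407 D37788) (tt N5880 F29286))
theorem Q12099 : ∀ i, i < 12099 → P i := stepQ 12098 Q12098 (allL N12098 (tt N23975 (iv1 F297331)) (tt N23441 (iv0 F297333)) (tt N5928 F29287) (tt N24407 (iv3 F58635)) (tt N5842 F29288) (tt N24408 D37791) (tt N5841 (iv6 D18123)) (tt N24409 D37792))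
theorem Q12100 : ∀ i, i < 12100 → P i := stepQ 12099 Q12099 (allL N12099 (tt N5936 (iv1 F29294)) (tt N5842 (iv0 D18124)) (tt N5937 (iv2 F125822)) (tt N15968 F324127) (tt N24410 D37795) (tt N15967 F324128) (tt N24411 D37797) (tt N5938 (iv7 F125828)))
theorem Q12101 : ∀ i, i < 12101 → P i := stepQ 12100 Q12100 (allL N12100 (tt N5842 (iv1 D18125)) (tt N5936 F29289) (tt N5938 F125829) (tt N5877 F296290) (tt N24412 D37800) (tt N24413 D37801) (tt N5875 F296291) (tt N5937 F125830))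
theorem Q12102 : ∀ i, i < 12102 → P i := stepQ 12101 Q12101 (allL N12101 (tt N24414 D37803) (tt N23025 (iv0 F54890)) (tt N5939 F29290) (tt N17638 (iv3 F44187)) (tt N24415 D37804) (tt N5842 (iv5 D18126)) (tt N5843 F29291) (tt N24416 D37805))
theorem Q12103 : ∀ i, i < 12103 → P i := stepQ 12102 Q12102 (allL N12102 (tt N5938 (iv1 F29295)) (tt N5937 F29296) (tt N5936 F29292) (tt N5973 (iv3 F297329)) (tt N24409 (iv4 F58640)) (tt N24416 (iv5 F58652)) (tt N5885 F29293) (tt N5842 (iv7 D18127)))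
theorem Q12104 : ∀ i, i < 12104 → P i := stepQ 12103 Q12103 (allL N12103 (tt N23049 (iv1 F54917)) (tt N23048 F54914) (tt N5947 F29297) (tt N24417 D37806) (tt N5843 (iv4 D18128)) (tt N24418 D37807) (tt N24415 (iv6 F58650)) (tt N22932 (iv7 F54663)))
theorem Q12105 : ∀ i, i < 12105 → P i := stepQ 12104 Q12104 (allL N12104 (tt N12560 (iv1 F30136)) (tt N12562 (iv0 F30140)) (tt N17610 (iv2 F44048)) (tt N23929 (iv3 F56877)) (tt N5844 (iv4 D18129)) (tt N24419 D37808) (tt N24420 D37809) (tt N23439 (iv7 F55924)))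
theorem Q12106 : ∀ i, i < 12106 → P i := stepQ 12105 Q12105 (allL N12105 (tt N5929 (iv1 F117226)) (tt N12177 (iv0 F296221)) (tt N12302 (iv2 F296136)) (tt N6017 (iv3 F296216)) (tt N24420 (iv4 F58661)) (tt N17635 (iv5 F296144)) (tt N5844 (iv6 D18130)) (tt N12303 (iv7 F296222)))
theorem Q12107 : ∀ i, i < 12107 → P i := stepQ 12106 Q12106 (allL N12106 (tt N24421 D37822) (tt N24422 D37823) (tt N24423 D37824) (tt N5846 (iv3 D18134)) (tt N5859 F29303) (tt N22073 (iv5 F52455)) (tt N24424 D37825) (tt N22963 (iv7 F54734)))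
theorem Q12108 : ∀ i, i < 12108 → P i := stepQ 12107 Q12107 (allL N12107 (tt N11671 F29304) (tt N23630 (iv0 F56292)) (tt N23460 (iv2 F55950)) (tt N22073 (iv3 F52456)) (tt N22986 F296654) (tt N5846 (iv5 D18135)) (tt N24425 D37826) (tt N22964 (iv7 F54735)))
theorem Q12109 : ∀ i, i < 12109 → P i := stepQ 12108 Q12108 (allL N12108 (tt N11962 (iv1 F117810)) (tt N13985 (iv0 F296817)) (tt N22976 F296697) (tt N24424 (iv3 F58675)) (tt N5847 F29305) (tt N24426 D37829) (tt N5846 (iv6 D18136)) (tt N5861 (iv7 F297052)))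
theorem Q12110 : ∀ i, i < 12110 → P i := stepQ 12109 Q12109 (allL N12109 (tt N7104 (iv1 F66561)) (tt N13155 (iv0 F290698)) (tt N6522 F29310) (tt N11997 F29311) (tt N14072 (iv4 F34687)) (tt N24427 D37843) (tt N5849 (iv6 D18141)) (tt N24428 D37844))
theorem Q12111 : ∀ i, i < 12111 → P i := stepQ 12110 Q12110 (allL N12110 (tt N12665 (iv1 F30554)) (tt N13390 F32435) (tt N6450 F29312) (tt N11998 F29313) (tt N12944 F31235) (tt N5850 (iv5 D18142)) (tt N24427 (iv6 F58683)) (tt N13386 (iv7 F32425)))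
theorem Q12112 : ∀ i, i < 12112 → P i := stepQ 12111 Q12111 (allL N12111 (tt N6593 (iv1 F66215)) (tt N24429 D37846) (tt N12685 (iv2 F30620)) (tt N5854 F29314) (tt N13686 (iv4 F33473)) (tt N12111 F29315) (tt N5851 (iv6 D18143)) (tt N24430 D37847))
theorem Q12113 : ∀ i, i < 12113 → P i := stepQ 12112 Q12112 (allL N12112 (tt N12697 F35847) (tt N24431 D37848) (tt N6383 F29316) (tt N13361 (iv3 F32360)) (tt N12981 (iv4 F31297)) (tt N12734 (iv5 F30771)) (tt N5852 (iv6 D18144)) (tt N24432 D37849))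
theorem Q12114 : ∀ i, i < 12114 → P i := stepQ 12113 Q12113 (allL N12113 (tt N24433 D37850) (tt N24434 D37851) (tt N24435 D37852) (tt N5853 (iv3 D18145)) (tt N13685 (iv4 F33470)) (tt N6972 F29317) (tt N24436 D37853) (tt N6299 F29318))
theorem Q12115 : ∀ i, i < 12115 → P i := stepQ 12114 Q12114 (allL N12114 (tt N6831 (iv1 F66219)) (tt N6691 (iv0 F66220)) (tt N6304 F29319) (tt N24436 (iv3 F58718)) (tt N5854 F29320) (tt N24437 D37856) (tt N5853 (iv6 D18146)) (tt N13503 (iv7 F292128)))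
theorem Q12116 : ∀ i, i < 12116 → P i := stepQ 12115 Q12115 (allL N12115 (tt N12738 (iv1 F30781)) (tt N5854 (iv0 D18147)) (tt N12736 F66238) (tt N13565 (iv3 F66213)) (tt N13001 (iv4 F66214)) (tt N24438 D37861) (tt N24439 D37862) (tt N12737 (iv7 F66243)))
theorem Q12117 : ∀ i, i < 12117 → P i := stepQ 12116 Q12116 (allL N12116 (tt N12737 (iv1 F30774)) (tt N12736 F30779) (tt N12738 (iv2 F30775)) (tt N24430 (iv3 F58690)) (tt N13503 (iv4 F292127)) (tt N12116 F29321) (tt N12949 (iv6 F292679)) (tt N5854 (iv7 D18149)))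
theorem Q12118 : ∀ i, i < 12118 → P i := stepQ 12117 Q12117 (allL N12117 (tt N22192 (iv1 F297361)) (tt N24440 D37873) (tt N24441 D37874) (tt N5857 (iv3 D18152)) (tt N11992 F29327) (tt N24442 D37875) (tt N24443 D37876) (tt N13973 (iv7 F34452)))
theorem Q12119 : ∀ i, i < 12119 → P i := stepQ 12118 Q12118 (allL N12118 (tt N12150 (iv1 F29405)) (tt N12157 (iv0 F29426)) (tt N12199 F29497) (tt N24442 (iv3 F58741)) (tt N6902 F29328) (tt N5857 (iv5 D18153)) (tt N24444 D37877) (tt N12198 F29492))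
theorem Q12120 : ∀ i, i < 12120 → P i := stepQ 12119 Q12119 (allL N12119 (tt N22957 (iv1 F72463)) (tt N22961 (iv0 F59725)) (tt N13969 (iv2 F34449)) (tt N24443 (iv3 F58742)) (tt N11991 F29329) (tt N24445 D37880) (tt N5857 (iv6 D18154)) (tt N23021 (iv7 F59785)))
theorem Q12121 : ∀ i, i < 12121 → P i := stepQ 12120 Q12120 (allL N12120 (tt N17204 F42496) (tt N23571 (iv0 F56158)) (tt N24446 D37882) (tt N5858 (iv3 D18155)) (tt N13847 (iv4 F33962)) (tt N24106 (iv5 F57430)) (tt N24447 D37883) (tt N13968 (iv7 F34448)))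
theorem Q12122 : ∀ i, i < 12122 → P i := stepQ 12121 Q12121 (allL N12121 (tt N12157 (iv1 F29427)) (tt N12150 (iv0 F29404)) (tt N12198 F29491) (tt N24106 (iv3 F57431)) (tt N6903 F29330) (tt N5858 (iv5 D18156)) (tt N24448 D37884) (tt N12199 (iv7 F29494)))
theorem Q12123 : ∀ i, i < 12123 → P i := stepQ 12122 Q12122 (allL N12122 (tt N23039 (iv1 F72489)) (tt N23042 (iv0 F113038)) (tt N13974 (iv2 F34453)) (tt N24447 (iv3 F58746)) (tt N12928 (iv4 F31185)) (tt N24449 D37887) (tt N5858 (iv6 D18157)) (tt N24450 D37888))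
theorem Q12124 : ∀ i, i < 12124 → P i := stepQ 12123 Q12123 (allL N12123 (tt N5859 (iv1 D18158)) (tt N22116 F52498) (tt N17077 F51500) (tt N24451 D37889) (tt N22087 (iv4 F52464)) (tt N17071 (iv5 F51499)) (tt N24452 D37890) (tt N22062 (iv7 F52429)))
theorem Q12125 : ∀ i, i < 12125 → P i := stepQ 12124 Q12124 (allL N12124 (tt N22062 (iv1 F52431)) (tt N17077 F42139) (tt N5859 (iv2 D18159)) (tt N22971 (iv3 F54783)) (tt N24423 (iv4 F58674)) (tt N17266 (iv5 F42622)) (tt N24453 D37891) (tt N22116 (iv7 F52499)))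
theorem Q12126 : ∀ i, i < 12126 → P i := stepQ 12125 Q12125 (allL N12125 (tt N24454 D37892) (tt N24455 D37893) (tt N24453 (iv2 F58748)) (tt N5861 F29331) (tt N24424 (iv4 F58676)) (tt N24456 D37894) (tt N5859 (iv6 D18160)) (tt N24424 F298919))
theorem Q12127 : ∀ i, i < 12127 → P i := stepQ 12126 Q12126 (allL N12126 (tt N5870 (iv1 F29333)) (tt N5860 (iv0 D18161)) (tt N13955 (iv2 F34405)) (tt N24457 D37896) (tt N12983 (iv4 F31300)) (tt N5889 F29332) (tt N24458 D37897) (tt N13960 (iv7 F34420)))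
theorem Q12128 : ∀ i, i < 12128 → P i := stepQ 12127 Q12127 (allL N12127 (tt N5860 (iv1 D18162)) (tt N5870 F29334) (tt N13960 (iv2 F34418)) (tt N23567 (iv3 F56155)) (tt N12984 (iv4 F31307)) (tt N5890 F29335) (tt N24459 D37898) (tt N13955 (iv7 F34406)))
theorem Q12129 : ∀ i, i < 12129 → P i := stepQ 12128 Q12128 (allL N12128 (tt N24460 D37899) (tt N24461 D37900) (tt N22974 (iv2 F54792)) (tt N22463 (iv3 F53183)) (tt N6975 F29336) (tt N24462 D37901) (tt N5860 (iv6 D18163)) (tt N24463 D37902))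
theorem Q12130 : ∀ i, i < 12130 → P i := stepQ 12129 Q12129 (allL N12129 (tt N22976 (iv1 F54801)) (tt N5861 (iv0 D18164)) (tt N13985 F118914) (tt N21872 (iv3 F298880)) (tt N8662 F297042) (tt N24464 D37906) (tt N24465 D37907) (tt N11962 F297043))
theorem Q12131 : ∀ i, i < 12131 → P i := stepQ 12130 Q12130 (allL N12130 (tt N5861 (iv1 D18165)) (tt N22976 F54800) (tt N11962 F297040) (tt N24466 D37909) (tt N11961 F297041) (tt N24467 D37911) (tt N24468 D37912) (tt N13985 F118900))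
theorem Q12132 : ∀ i, i < 12132 → P i := stepQ 12131 Q12131 (allL N12131 (tt N24469 D37913) (tt N24470 D37914) (tt N22975 (iv2 F54795)) (tt N24456 (iv3 F58749)) (tt N24471 D37915) (tt N5861 (iv5 D18166)) (tt N24462 (iv6 F58752)) (tt N24426 F298920))
theorem Q12133 : ∀ i, i < 12133 → P i := stepQ 12132 Q12132 (allL N12132 (tt N22990 F118893) (tt N6812 (iv0 F118894)) (tt N17632 (iv2 F117795)) (tt N24472 D37932) (tt N5862 (iv4 D18170)) (tt N24473 D37933) (tt N24474 D37934) (tt N22977 (iv7 F59619)))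
theorem Q12134 : ∀ i, i < 12134 → P i := stepQ 12133 Q12133 (allL N12133 (tt N12316 F29611) (tt N12179 F29636) (tt N12315 (iv2 F59615)) (tt N12509 (iv3 F298887)) (tt N24475 D37936) (tt N5862 (iv5 D18171)) (tt N12186 F297046) (tt N12207 F59612))
theorem Q12135 : ∀ i, i < 12135 → P i := stepQ 12134 Q12134 (allL N12134 (tt N23044 (iv1 F113021)) (tt N23020 (iv0 F298214)) (tt N17633 F117771) (tt N17631 (iv3 F298888)) (tt N24474 (iv4 F58769)) (tt N12238 F29526) (tt N5862 (iv6 D18172)) (tt N24476 D37940))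
theorem Q12136 : ∀ i, i < 12136 → P i := stepQ 12135 Q12135 (allL N12135 (tt N23030 (iv1 F297343)) (tt N23041 (iv0 F116781)) (tt N11816 F29351) (tt N13855 (iv3 F296398)) (tt N17601 (iv4 F43929)) (tt N15985 (iv5 F324194)) (tt N5864 (iv6 D18183)) (tt N24477 D37969))
theorem Q12137 : ∀ i, i < 12137 → P i := stepQ 12136 Q12136 (allL N12136 (tt N24478 D37970) (tt N24479 D37971) (tt N24480 D37972) (tt N5865 (iv3 D18184)) (tt N5869 F29352) (tt N24481 D37973) (tt N23516 F296292) (tt N22967 (iv7 F54772)))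
theorem Q12138 : ∀ i, i < 12138 → P i := stepQ 12137 Q12137 (allL N12137 (tt N11629 F29353) (tt N6841 F29354) (tt N19515 F299890) (tt N24481 (iv3 F58810)) (tt N9387 (iv4 F300275)) (tt N5865 (iv5 D18185)) (tt N19333 (iv6 F302706)) (tt N9384 F299891))
theorem Q12139 : ∀ i, i < 12139 → P i := stepQ 12138 Q12138 (allL N12138 (tt N22236 (iv1 F52830)) (tt N24482 D37996) (tt N24483 D37997) (tt N5866 (iv3 D18192)) (tt N12682 (iv4 F30601)) (tt N6974 F29360) (tt N13504 (iv6 F294655)) (tt N6302 F29361))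
theorem Q12140 : ∀ i, i < 12140 → P i := stepQ 12139 Q12139 (allL N12139 (tt N5867 (iv1 D18195)) (tt N12949 F293234) (tt N6621 F62888) (tt N24022 F293235) (tt N12986 (iv4 F62915)) (tt N6372 F293236) (tt N24484 D38010) (tt N12948 F293237))
theorem Q12141 : ∀ i, i < 12141 → P i := stepQ 12140 Q12140 (allL N12140 (tt N22971 (iv1 F54785)) (tt N5869 (iv0 D18200)) (tt N22970 (iv2 F58968)) (tt N14265 (iv3 F35141)) (tt N12225 F29519) (tt N24485 D38019) (tt N24486 D38020) (tt N22969 (iv7 F58967)))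
theorem Q12142 : ∀ i, i < 12142 → P i := stepQ 12141 Q12141 (allL N12141 (tt N5869 (iv1 D18201)) (tt N22971 F54787) (tt N22969 (iv2 F58965)) (tt N17183 (iv3 F51523)) (tt N22113 (iv4 F52494)) (tt N24487 D38022) (tt N24488 D38023) (tt N22970 (iv7 F58969)))
theorem Q12143 : ∀ i, i < 12143 → P i := stepQ 12142 Q12142 (allL N12142 (tt N22970 (iv1 F54786)) (tt N22969 F54782) (tt N5869 (iv2 D18202)) (tt N22116 (iv3 F52500)) (tt N24480 (iv4 F58809)) (tt N22461 (iv5 F53182)) (tt N24489 D38024) (tt N22971 (iv7 F54784)))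
theorem Q12144 : ∀ i, i < 12144 → P i := stepQ 12143 Q12143 (allL N12143 (tt N24490 D38025) (tt N24491 D38026) (tt N22461 (iv2 F53180)) (tt N5870 F29373) (tt N24492 D38027) (tt N5869 (iv5 D18203)) (tt N24493 D38028) (tt N22972 (iv7 F54789)))
theorem Q12145 : ∀ i, i < 12145 → P i := stepQ 12144 Q12144 (allL N12144 (tt N24494 D38029) (tt N24495 D38030) (tt N24489 (iv2 F58856)) (tt N5871 F29374) (tt N23516 (iv4 F296118)) (tt N24496 D38031) (tt N5869 (iv6 D18204)) (tt N23459 (iv7 F296228)))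
theorem Q12146 : ∀ i, i < 12146 → P i := stepQ 12145 Q12145 (allL N12145 (tt N24497 D38033) (tt N24498 D38034) (tt N22965 (iv2 F54743)) (tt N24493 (iv3 F58863)) (tt N6973 F29375) (tt N24499 D38035) (tt N5870 (iv6 D18205)) (tt N24500 D38036))
theorem Q12147 : ∀ i, i < 12147 → P i := stepQ 12146 Q12146 (allL N12146 (tt N23630 (iv1 F296229)) (tt N11671 (iv0 F296230)) (tt N22964 (iv2 F296145)) (tt N24496 (iv3 F58864)) (tt N24064 (iv4 F296160)) (tt N5871 (iv5 D18208)) (tt N24499 (iv6 F58866)) (tt N23460 (iv7 F296159)))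
theorem Q12148 : ∀ i, i < 12148 → P i := stepQ 12147 Q12147 (allL N12147 (tt N8632 F29397) (tt N8629 F29398) (tt N11622 F29395) (tt N24501 D38123) (tt N5872 (iv4 D18230)) (tt N24078 (iv5 F57351)) (tt N24502 D38124) (tt N5899 F29396))
theorem Q12149 : ∀ i, i < 12149 → P i := stepQ 12148 Q12148 (allL N12148 (tt N23589 F118583) (tt N21072 F325861) (tt N23908 (iv2 F56753)) (tt N5874 F29399) (tt N24502 (iv4 F58947)) (tt N15581 F325862) (tt N5872 (iv6 D18231)) (tt N15580 F325863))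
theorem Q12150 : ∀ i, i < 12150 → P i := stepQ 12149 Q12149 (allL N12149 (tt N24492 F58861) (tt N24503 D38129) (tt N24504 D38130) (tt N5873 (iv3 D18232)) (tt N24501 (iv4 F58944)) (tt N24505 D38131) (tt N24506 D38132) (tt N5901 F29400))
theorem Q12151 : ∀ i, i < 12151 → P i := stepQ 12150 Q12150 (allL N12150 (tt N12121 F29404) (tt N12118 F29405) (tt N5892 F29401) (tt N24505 (iv3 F58962)) (tt N6869 F29403) (tt N5873 (iv5 D18233)) (tt N24507 D38133) (tt N5902 F29402))
theorem Q12152 : ∀ i, i < 12152 → P i := stepQ 12151 Q12151 (allL N12151 (tt N24508 D38134) (tt N24509 D38135) (tt N5893 F29406) (tt N24506 (iv3 F58971)) (tt N5874 F29407) (tt N24510 D38136) (tt N5873 (iv6 D18234)) (tt N24511 D38137))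
theorem Q12153 : ∀ i, i < 12153 → P i := stepQ 12152 Q12152 (allL N12152 (tt N5874 (iv1 D18236)) (tt N5897 F29409) (tt N5895 (iv2 F59631)) (tt N17673 F121067) (tt N24512 D38144) (tt N24513 D38145) (tt N17850 F298921) (tt N5894 F59623))
theorem Q12154 : ∀ i, i < 12154 → P i := stepQ 12153 Q12153 (allL N12153 (tt N17864 F117881) (tt N24514 D38148) (tt N5896 F29410) (tt N15581 F325602) (tt N24515 D38149) (tt N5874 (iv5 D18237)) (tt N11248 F29411) (tt N15577 F325603))
theorem Q12155 : ∀ i, i < 12155 → P i := stepQ 12154 Q12154 (allL N12154 (tt N5895 (iv1 F29415)) (tt N5894 F29416) (tt N5897 F29412) (tt N15580 F325600) (tt N24511 (iv4 F58977)) (tt N15577 F325601) (tt N5907 F29413) (tt N5874 (iv7 D18238)))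
theorem Q12156 : ∀ i, i < 12156 → P i := stepQ 12155 Q12155 (allL N12155 (tt N6050 F29419) (tt N11668 F29420) (tt N11670 F29417) (tt N24516 D38151) (tt N5875 (iv4 D18239)) (tt N24140 (iv5 F57523)) (tt N24412 (iv6 F296719)) (tt N5887 F29418))
theorem Q12157 : ∀ i, i < 12157 → P i := stepQ 12156 Q12156 (allL N12156 (tt N17268 (iv1 F42625)) (tt N22456 F53168) (tt N22464 F53186) (tt N5876 (iv3 D18241)) (tt N24516 (iv4 F59000)) (tt N10828 F29429) (tt N24517 D38157) (tt N5891 F29422))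
theorem Q12158 : ∀ i, i < 12158 → P i := stepQ 12157 Q12157 (allL N12157 (tt N12118 F29426) (tt N12121 F29427) (tt N5902 F29423) (tt N10828 (iv3 F29428)) (tt N6866 F29424) (tt N5876 (iv5 D18242)) (tt N24518 D38158) (tt N5892 F29425))
theorem Q12159 : ∀ i, i < 12159 → P i := stepQ 12158 Q12158 (allL N12158 (tt N11672 F296998) (tt N24519 D38160) (tt N5903 F29430) (tt N24517 (iv3 F59009)) (tt N5877 F29431) (tt N24520 D38161) (tt N5876 (iv6 D18243)) (tt N24521 D38162))
theorem Q12160 : ∀ i, i < 12160 → P i := stepQ 12159 Q12159 (allL N12159 (tt N24522 D38172) (tt N17892 F117739) (tt N5906 F29433) (tt N24413 F296587) (tt N24523 D38174) (tt N5877 (iv5 D18246)) (tt N5942 F29434) (tt N24524 D38175))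
theorem Q12161 : ∀ i, i < 12161 → P i := stepQ 12160 Q12160 (allL N12160 (tt N5905 (iv1 F29438)) (tt N5904 F29439) (tt N5907 F29435) (tt N5937 (iv3 F297053)) (tt N24521 (iv4 F59016)) (tt N24524 (iv5 F59029)) (tt N5897 F29436) (tt N5877 (iv7 D18247)))
theorem Q12162 : ∀ i, i < 12162 → P i := stepQ 12161 Q12161 (allL N12161 (tt N17857 (iv1 F118801)) (tt N24512 (iv0 F118802)) (tt N5910 F29440) (tt N24080 (iv3 F57362)) (tt N12597 (iv4 F30237)) (tt N24525 D38178) (tt N5878 (iv6 D18248)) (tt N24526 D38179))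
theorem Q12163 : ∀ i, i < 12163 → P i := stepQ 12162 Q12162 (allL N12162 (tt N24527 D38180) (tt N24528 D38181) (tt N24096 (iv2 F57400)) (tt N5879 (iv3 D18249)) (tt N14254 (iv4 F35131)) (tt N24095 F57398) (tt N24529 D38182) (tt N5908 F29441))
theorem Q12164 : ∀ i, i < 12164 → P i := stepQ 12163 Q12163 (allL N12163 (tt N11265 F29445) (tt N11293 F29446) (tt N5912 F29442) (tt N24095 (iv3 F57394)) (tt N6858 F29443) (tt N5879 (iv5 D18250)) (tt N24530 D38183) (tt N5909 F29444))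
theorem Q12165 : ∀ i, i < 12165 → P i := stepQ 12164 Q12164 (allL N12164 (tt N24354 F296732) (tt N17888 F118120) (tt N5913 F29447) (tt N24529 (iv3 F59043)) (tt N12939 (iv4 F31218)) (tt N24531 D38186) (tt N5879 (iv6 D18251)) (tt N23634 (iv7 F298131)))
theorem Q12166 : ∀ i, i < 12166 → P i := stepQ 12165 Q12165 (allL N12165 (tt N17214 (iv1 F42514)) (tt N5880 (iv0 D18252)) (tt N24406 (iv2 F122971)) (tt N24532 D38189) (tt N24533 D38190) (tt N24534 D38191) (tt N24535 D38192) (tt N24405 (iv7 F122976)))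
theorem Q12167 : ∀ i, i < 12167 → P i := stepQ 12166 Q12166 (allL N12166 (tt N5880 (iv1 D18253)) (tt N17214 F42512) (tt N24405 (iv2 F122974)) (tt N24536 D38194) (tt N24537 D38195) (tt N24538 D38196) (tt N24539 D38197) (tt N24406 (iv7 F122973)))
theorem Q12168 : ∀ i, i < 12168 → P i := stepQ 12167 Q12167 (allL N12167 (tt N24406 (iv1 F58634)) (tt N24405 F58633) (tt N5880 (iv2 D18254)) (tt N5916 F29448) (tt N17688 (iv4 F44346)) (tt N24540 D38198) (tt N24541 D38199) (tt N17214 (iv7 F42511)))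
theorem Q12169 : ∀ i, i < 12169 → P i := stepQ 12168 Q12168 (allL N12168 (tt N24542 D38200) (tt N24543 D38201) (tt N24540 (iv2 F59056)) (tt N5881 F29449) (tt N12853 (iv4 F30989)) (tt N5880 (iv5 D18255)) (tt N24544 D38202) (tt N6976 F29450))
theorem Q12170 : ∀ i, i < 12170 → P i := stepQ 12169 Q12169 (allL N12169 (tt N24545 D38203) (tt N24546 D38204) (tt N24541 (iv2 F59061)) (tt N5882 F29451) (tt N17690 (iv4 F44351)) (tt N24547 D38205) (tt N5880 (iv6 D18256)) (tt N24548 D38206))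
theorem Q12171 : ∀ i, i < 12171 → P i := stepQ 12170 Q12170 (allL N12170 (tt N24549 D38207) (tt N24550 D38208) (tt N5922 F29452) (tt N24544 (iv3 F59065)) (tt N6982 F29453) (tt N24551 D38209) (tt N5881 (iv6 D18257)) (tt N24552 D38210))
theorem Q12172 : ∀ i, i < 12172 → P i := stepQ 12171 Q12171 (allL N12171 (tt N5927 (iv1 F29458)) (tt N5882 (iv0 D18258)) (tt N5924 (iv2 F61151)) (tt N18857 F308936) (tt N12633 (iv4 F30441)) (tt N24553 D38213) (tt N18853 (iv6 F310681)) (tt N5925 (iv7 F61150)))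
theorem Q12173 : ∀ i, i < 12173 → P i := stepQ 12172 Q12172 (allL N12172 (tt N5882 (iv1 D18259)) (tt N5927 F29454) (tt N5925 F61156) (tt N24554 D38216) (tt N23985 F298294) (tt N24555 D38218) (tt N24556 D38219) (tt N5924 F61157))
theorem Q12174 : ∀ i, i < 12174 → P i := stepQ 12173 Q12173 (allL N12173 (tt N24557 D38220) (tt N24558 D38221) (tt N5926 F29455) (tt N24547 (iv3 F59066)) (tt N24559 D38222) (tt N5882 (iv5 D18260)) (tt N24551 (iv6 F59070)) (tt N24560 D38223))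
theorem Q12175 : ∀ i, i < 12175 → P i := stepQ 12174 Q12174 (allL N12174 (tt N5925 (iv1 F29459)) (tt N5924 F29460) (tt N5927 F29456) (tt N24548 (iv3 F59067)) (tt N5885 F29457) (tt N24560 (iv5 F59083)) (tt N24409 (iv6 F58641)) (tt N5882 (iv7 D18261)))
theorem Q12176 : ∀ i, i < 12176 → P i := stepQ 12175 Q12175 (allL N12175 (tt N24207 (iv1 F116640)) (tt N13823 F116633) (tt N12309 F296572) (tt N5883 (iv3 D18263)) (tt N23749 F322036) (tt N12307 (iv5 F296574)) (tt N12309 F29604) (tt N5932 F29627))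
theorem Q12177 : ∀ i, i < 12177 → P i := stepQ 12176 Q12176 (allL N12176 (tt N24561 D38229) (tt N13961 (iv0 F59721)) (tt N5930 F29628) (tt N24562 D38231) (tt N5883 (iv4 D18264)) (tt N24563 D38232) (tt N12314 (iv6 F29607)) (tt N5933 F29629))
theorem Q12178 : ∀ i, i < 12178 → P i := stepQ 12177 Q12177 (allL N12177 (tt N12105 F296221) (tt N12236 F59571) (tt N5931 F29630) (tt N12307 (iv3 F296573)) (tt N24564 D38233) (tt N5883 (iv5 D18265)) (tt N12316 (iv6 F29610)) (tt N5934 F29631))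
theorem Q12179 : ∀ i, i < 12179 → P i := stepQ 12178 Q12178 (allL N12178 (tt N13961 (iv1 F59722)) (tt N24561 F59096) (tt N5933 F29620) (tt N24565 D38239) (tt N5884 (iv4 D18268)) (tt N24566 D38240) (tt N24567 D38241) (tt N5930 F29621))
theorem Q12180 : ∀ i, i < 12180 → P i := stepQ 12179 Q12179 (allL N12179 (tt N12133 (iv1 F29636)) (tt N12059 F117732) (tt N5935 F29617) (tt N12305 F298737) (tt N24567 (iv4 F59116)) (tt N12305 (iv5 F29591)) (tt N5884 (iv6 D18269)) (tt N12305 (iv7 F29597)))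
theorem Q12181 : ∀ i, i < 12181 → P i := stepQ 12180 Q12180 (allL N12180 (tt N11668 F29465) (tt N6050 F29466) (tt N5887 F29463) (tt N24568 D38242) (tt N5886 (iv4 D18270)) (tt N24139 (iv5 F57517)) (tt N24569 D38243) (tt N11670 F29464))
theorem Q12182 : ∀ i, i < 12182 → P i := stepQ 12181 Q12181 (allL N12181 (tt N24570 D38244) (tt N17850 F117851) (tt N5888 F29467) (tt N23908 (iv3 F56754)) (tt N24569 (iv4 F59120)) (tt N24571 D38246) (tt N5886 (iv6 D18271)) (tt N24411 (iv7 F297338)))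
theorem Q12183 : ∀ i, i < 12183 → P i := stepQ 12182 Q12182 (allL N12182 (tt N5887 (iv1 D18272)) (tt N11670 F29468) (tt N6050 (iv2 F29471)) (tt N24572 D38248) (tt N6047 F29470) (tt N23630 (iv5 F56291)) (tt N24573 D38249) (tt N11668 F29469))
theorem Q12184 : ∀ i, i < 12184 → P i := stepQ 12183 Q12183 (allL N12183 (tt N24574 D38250) (tt N24575 D38251) (tt N24576 D38252) (tt N5887 (iv3 D18273)) (tt N5891 F29472) (tt N23835 (iv5 F56581)) (tt N24577 D38253) (tt N24516 (iv7 F59002)))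
theorem Q12185 : ∀ i, i < 12185 → P i := stepQ 12184 Q12184 (allL N12184 (tt N11560 F29473) (tt N23462 (iv0 F55960)) (tt N24139 F57519) (tt N23835 (iv3 F56582)) (tt N23440 (iv4 F55927)) (tt N5887 (iv5 D18274)) (tt N24578 D38254) (tt N24140 (iv7 F57522)))
theorem Q12186 : ∀ i, i < 12186 → P i := stepQ 12185 Q12185 (allL N12185 (tt N11682 (iv1 F117742)) (tt N24579 D38256) (tt N24569 (iv2 F59119)) (tt N24577 (iv3 F59136)) (tt N5888 F29474) (tt N24580 D38257) (tt N5887 (iv6 D18275)) (tt N24581 D38258))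
theorem Q12187 : ∀ i, i < 12187 → P i := stepQ 12186 Q12186 (allL N12186 (tt N24411 (iv1 F297336)) (tt N5888 (iv0 D18276)) (tt N24570 (iv2 F117848)) (tt N17839 (iv3 F117826)) (tt N24582 D38261) (tt N24583 D38262) (tt N12133 (iv6 F297046)) (tt N17850 (iv7 F117827)))
theorem Q12188 : ∀ i, i < 12188 → P i := stepQ 12187 Q12187 (allL N12187 (tt N5888 (iv1 D18277)) (tt N24411 (iv0 F297335)) (tt N17850 F117828) (tt N5962 (iv3 F298688)) (tt N24584 D38266) (tt N24585 D38267) (tt N5895 (iv6 F297322)) (tt N24570 (iv7 F117850)))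
theorem Q12189 : ∀ i, i < 12189 → P i := stepQ 12188 Q12188 (allL N12188 (tt N24586 D38269) (tt N11309 (iv0 F296296)) (tt N24571 (iv2 F59123)) (tt N5896 F29475) (tt N24587 D38271) (tt N5888 (iv5 D18278)) (tt N11252 F29476) (tt N24588 D38272))
theorem Q12190 : ∀ i, i < 12190 → P i := stepQ 12189 Q12189 (allL N12189 (tt N17850 (iv1 F117847)) (tt N24570 F59126) (tt N24411 (iv2 F297337)) (tt N5897 F29477) (tt N24581 (iv4 F59138)) (tt N24588 (iv5 F59144)) (tt N5937 (iv6 F297054)) (tt N5888 (iv7 D18279)))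
theorem Q12191 : ∀ i, i < 12191 → P i := stepQ 12190 Q12190 (allL N12190 (tt N24589 D38273) (tt N24590 D38274) (tt N24591 D38275) (tt N5889 (iv3 D18280)) (tt N11825 F29478) (tt N24457 (iv5 F58751)) (tt N21625 (iv6 F299286)) (tt N13959 (iv7 F34417)))
theorem Q12192 : ∀ i, i < 12192 → P i := stepQ 12191 Q12191 (allL N12191 (tt N24410 (iv1 F121894)) (tt N24412 (iv0 F121886)) (tt N13956 (iv2 F34410)) (tt N21625 (iv3 F299285)) (tt N8645 F297184) (tt N24592 D38279) (tt N5889 (iv6 D18281)) (tt N11859 (iv7 F298715)))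
theorem Q12193 : ∀ i, i < 12193 → P i := stepQ 12192 Q12192 (allL N12192 (tt N17229 F42555) (tt N23581 (iv0 F57353)) (tt N24593 D38281) (tt N5890 (iv3 D18282)) (tt N13769 (iv4 F33657)) (tt N23567 (iv5 F56154)) (tt N24594 D38282) (tt N13954 (iv7 F34403)))
theorem Q12194 : ∀ i, i < 12194 → P i := stepQ 12193 Q12193 (allL N12193 (tt N5930 (iv1 F59686)) (tt N5933 (iv0 F59687)) (tt N13961 (iv2 F34424)) (tt N24594 (iv3 F59151)) (tt N13527 (iv4 F32909)) (tt N24595 D38285) (tt N5890 (iv6 D18283)) (tt N24561 (iv7 F59724)))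
theorem Q12195 : ∀ i, i < 12195 → P i := stepQ 12194 Q12194 (allL N12194 (tt N5891 (iv1 D18284)) (tt N22464 F53187) (tt N17268 F52454) (tt N24596 D38287) (tt N23847 (iv4 F56610)) (tt N17264 (iv5 F52453)) (tt N24597 D38288) (tt N22456 (iv7 F53166)))
theorem Q12196 : ∀ i, i < 12196 → P i := stepQ 12195 Q12195 (allL N12195 (tt N22456 (iv1 F53167)) (tt N17268 F42626) (tt N5891 (iv2 D18285)) (tt N24504 (iv3 F58956)) (tt N24576 (iv4 F59134)) (tt N10827 (iv5 F29486)) (tt N24598 D38289) (tt N22464 (iv7 F53188)))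
theorem Q12197 : ∀ i, i < 12197 → P i := stepQ 12196 Q12196 (allL N12196 (tt N8363 F29484) (tt N10805 F29482) (tt N10827 F29485) (tt N5892 F29480) (tt N10529 (iv4 F29483)) (tt N5891 (iv5 D18286)) (tt N24599 D38290) (tt N10828 F29481))
theorem Q12198 : ∀ i, i < 12198 → P i := stepQ 12197 Q12197 (allL N12197 (tt N24600 D38291) (tt N24601 D38292) (tt N24598 (iv2 F59152)) (tt N5893 F29487) (tt N24577 (iv4 F59137)) (tt N24602 D38293) (tt N5891 (iv6 D18287)) (tt N24603 D38294))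
theorem Q12199 : ∀ i, i < 12199 → P i := stepQ 12198 Q12198 (allL N12198 (tt N5902 (iv1 F29490)) (tt N5892 (iv0 D18288)) (tt N12121 (iv2 F29491)) (tt N24604 D38295) (tt N6816 F29489) (tt N6809 F29488) (tt N24605 D38296) (tt N12118 (iv7 F29492)))
theorem Q12200 : ∀ i, i < 12200 → P i := stepQ 12199 Q12199 (allL N12199 (tt N5892 (iv1 D18289)) (tt N5902 F29493) (tt N12118 (iv2 F29497)) (tt N24606 D38297) (tt N6819 F29496) (tt N6807 F29495) (tt N24607 D38298) (tt N12121 F29494))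
theorem Q12201 : ∀ i, i < 12201 → P i := stepQ 12200 Q12200 (allL N12200 (tt N24608 D38299) (tt N24609 D38300) (tt N24507 (iv2 F58972)) (tt N24599 (iv3 F59154)) (tt N6957 F29498) (tt N24610 D38301) (tt N5892 (iv6 D18290)) (tt N24611 D38302))
theorem Q12202 : ∀ i, i < 12202 → P i := stepQ 12201 Q12201 (allL N12201 (tt N24511 (iv1 F58981)) (tt N5893 (iv0 D18291)) (tt N24508 (iv2 F118626)) (tt N24612 D38304) (tt N24178 F299431) (tt N24613 D38306) (tt N24177 F299432) (tt N24509 (iv7 F118625)))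
theorem Q12203 : ∀ i, i < 12203 → P i := stepQ 12202 Q12202 (allL N12202 (tt N5893 (iv1 D18292)) (tt N24511 F58980) (tt N24509 (iv2 F118624)) (tt N24614 D38309) (tt N24615 D38310) (tt N24616 D38311) (tt N24579 F299433) (tt N24508 (iv7 F118627)))
theorem Q12204 : ∀ i, i < 12204 → P i := stepQ 12203 Q12203 (allL N12203 (tt N24617 D38313) (tt N24618 D38314) (tt N24510 (iv2 F58975)) (tt N24602 (iv3 F59156)) (tt N24619 D38315) (tt N5893 (iv5 D18293)) (tt N24610 (iv6 F59168)) (tt N24620 D38316))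
theorem Q12205 : ∀ i, i < 12205 → P i := stepQ 12204 Q12204 (allL N12204 (tt N24509 (iv1 F58974)) (tt N24508 F58979) (tt N24511 (iv2 F58976)) (tt N24603 (iv3 F59157)) (tt N5897 F29499) (tt N24620 (iv5 F59173)) (tt N24521 (iv6 F59017)) (tt N5893 (iv7 D18294)))
theorem Q12206 : ∀ i, i < 12206 → P i := stepQ 12205 Q12205 (allL N12205 (tt N24526 (iv1 F118799)) (tt N5910 F118787) (tt N17857 (iv2 F117683)) (tt N24621 D38332) (tt N5894 (iv4 D18297)) (tt N24622 D38333) (tt N24623 D38334) (tt N24512 (iv7 F59635)))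
theorem Q12207 : ∀ i, i < 12207 → P i := stepQ 12206 Q12206 (allL N12206 (tt N23036 F54896) (tt N24624 D38336) (tt N17858 (iv2 F117687)) (tt N17721 F121108) (tt N24625 D38337) (tt N5894 (iv5 D18298)) (tt N24626 D38338) (tt N24513 (iv7 F59637)))
theorem Q12208 : ∀ i, i < 12208 → P i := stepQ 12207 Q12207 (allL N12207 (tt N5935 F29635) (tt N12305 (iv0 F29592)) (tt N12059 (iv2 F117691)) (tt N17722 F121109) (tt N24623 (iv4 F59189)) (tt N11279 F29501) (tt N5894 (iv6 D18299)) (tt N12133 (iv7 F59612)))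
theorem Q12209 : ∀ i, i < 12209 → P i := stepQ 12208 Q12208 (allL N12208 (tt N5910 F118788) (tt N24526 (iv0 F118798)) (tt N24512 (iv2 F59634)) (tt N22479 (iv3 F117679)) (tt N5895 (iv4 D18302)) (tt N24627 D38349) (tt N24584 F299361) (tt N17857 (iv7 F117684)))
theorem Q12210 : ∀ i, i < 12210 → P i := stepQ 12209 Q12209 (allL N12209 (tt N24624 (iv1 F59193)) (tt N23036 F59200) (tt N24513 (iv2 F59636)) (tt N5961 (iv3 F117675)) (tt N24628 D38351) (tt N5895 (iv5 D18303)) (tt N15941 F324019) (tt N17858 (iv7 F117688)))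
theorem Q12211 : ∀ i, i < 12211 → P i := stepQ 12210 Q12210 (allL N12210 (tt N15577 F325599) (tt N5896 (iv0 D18305)) (tt N17864 F117876) (tt N17726 F120682) (tt N24629 D38359) (tt N24630 D38360) (tt N12235 F29525) (tt N24514 (iv7 F59598)))
theorem Q12212 : ∀ i, i < 12212 → P i := stepQ 12211 Q12211 (allL N12211 (tt N5896 (iv1 D18306)) (tt N15577 F325598) (tt N24514 (iv2 F59597)) (tt N5964 F117882) (tt N24631 D38363) (tt N12096 F117883) (tt N23514 F296226) (tt N17864 F117884))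
theorem Q12213 : ∀ i, i < 12213 → P i := stepQ 12212 Q12212 (allL N12212 (tt N24632 D38365) (tt N24633 D38366) (tt N24515 (iv2 F58992)) (tt N24634 D38367) (tt N5896 (iv4 D18307)) (tt N24635 D38368) (tt N11258 F29504) (tt N24636 D38369))
theorem Q12214 : ∀ i, i < 12214 → P i := stepQ 12213 Q12213 (allL N12213 (tt N24514 (iv1 F58990)) (tt N17864 F117880) (tt N15577 (iv2 F324509)) (tt N24588 (iv3 F59143)) (tt N24636 (iv4 F59229)) (tt N5897 F29505) (tt N15576 F323994) (tt N5896 (iv7 D18308)))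
theorem Q12215 : ∀ i, i < 12215 → P i := stepQ 12214 Q12214 (allL N12214 (tt N8629 F29508) (tt N8632 F29509) (tt N5899 F29506) (tt N24637 D38371) (tt N5898 (iv4 D18309)) (tt N24079 (iv5 F57359)) (tt N24638 D38372) (tt N11622 F29507))
theorem Q12216 : ∀ i, i < 12216 → P i := stepQ 12215 Q12215 (allL N12215 (tt N17589 F296570) (tt N24208 (iv0 F297312)) (tt N5900 F29510) (tt N5938 F296571) (tt N24638 (iv4 F59235)) (tt N15969 F324131) (tt N5898 (iv6 D18310)) (tt N15968 F324132))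
theorem Q12217 : ∀ i, i < 12217 → P i := stepQ 12216 Q12216 (allL N12216 (tt N24639 D38377) (tt N24640 D38378) (tt N24641 D38379) (tt N5899 (iv3 D18311)) (tt N5901 F29511) (tt N24642 D38380) (tt N24643 D38381) (tt N24501 (iv7 F58945)))
theorem Q12218 : ∀ i, i < 12218 → P i := stepQ 12217 Q12217 (allL N12217 (tt N11607 F29512) (tt N5911 F29513) (tt N24079 F57360) (tt N24642 (iv3 F59244)) (tt N21816 F301197) (tt N5899 (iv5 D18312)) (tt N24644 D38382) (tt N24078 F57356))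
theorem Q12219 : ∀ i, i < 12219 → P i := stepQ 12218 Q12218 (allL N12218 (tt N11623 F297717) (tt N24645 D38384) (tt N24638 (iv2 F59234)) (tt N24643 (iv3 F59245)) (tt N5900 F29514) (tt N24646 D38385) (tt N5899 (iv6 D18313)) (tt N24647 D38386))
theorem Q12220 : ∀ i, i < 12220 → P i := stepQ 12219 Q12219 (allL N12219 (tt N5900 (iv1 D18315)) (tt N15968 F324098) (tt N24208 (iv2 F297314)) (tt N17870 (iv3 F118401)) (tt N17561 F118399) (tt N24648 D38395) (tt N24207 F296579) (tt N17589 F296580))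
theorem Q12221 : ∀ i, i < 12221 → P i := stepQ 12220 Q12220 (allL N12220 (tt N15669 F323836) (tt N15707 F323837) (tt N15969 F323838) (tt N5906 F29515) (tt N7610 F323839) (tt N5900 (iv5 D18316)) (tt N11262 F29516) (tt N7607 F323840))
theorem Q12222 : ∀ i, i < 12222 → P i := stepQ 12221 Q12221 (allL N12221 (tt N24208 (iv1 F297313)) (tt N17589 F296577) (tt N15968 F324116) (tt N5907 F29517) (tt N24647 (iv4 F59247)) (tt N7607 F324117) (tt N15580 (iv6 F325331)) (tt N5900 (iv7 D18317)))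
theorem Q12223 : ∀ i, i < 12223 → P i := stepQ 12222 Q12222 (allL N12222 (tt N24504 (iv1 F58958)) (tt N5901 (iv0 D18318)) (tt N24503 F58953) (tt N24649 D38401) (tt N22972 F54790) (tt N24490 (iv5 F58857)) (tt N24650 D38402) (tt N24492 (iv7 F58860)))
theorem Q12224 : ∀ i, i < 12224 → P i := stepQ 12223 Q12223 (allL N12223 (tt N5901 (iv1 D18319)) (tt N24504 F58959) (tt N24492 (iv2 F58858)) (tt N17223 (iv3 F46076)) (tt N22461 (iv4 F53181)) (tt N24491 (iv5 F87067)) (tt N24651 D38404) (tt N24503 (iv7 F58952)))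
theorem Q12225 : ∀ i, i < 12225 → P i := stepQ 12224 Q12224 (allL N12224 (tt N24503 (iv1 F58955)) (tt N24492 F58862) (tt N5901 (iv2 D18320)) (tt N22464 (iv3 F53189)) (tt N24641 (iv4 F59243)) (tt N24652 D38405) (tt N24653 D38406) (tt N24504 (iv7 F58957)))
theorem Q12226 : ∀ i, i < 12226 → P i := stepQ 12225 Q12225 (allL N12225 (tt N24654 D38407) (tt N24655 D38408) (tt N24652 (iv2 F59255)) (tt N5902 F29518) (tt N12140 (iv4 F29519)) (tt N5901 (iv5 D18321)) (tt N24656 D38409) (tt N24505 (iv7 F58963)))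
theorem Q12227 : ∀ i, i < 12227 → P i := stepQ 12226 Q12226 (allL N12226 (tt N24657 D38410) (tt N24658 D38411) (tt N24653 (iv2 F59262)) (tt N5903 F29520) (tt N24643 (iv4 F59246)) (tt N24659 D38412) (tt N5901 (iv6 D18322)) (tt N24660 D38413))
theorem Q12228 : ∀ i, i < 12228 → P i := stepQ 12227 Q12227 (allL N12227 (tt N24661 D38414) (tt N24662 D38415) (tt N24518 (iv2 F59010)) (tt N24656 (iv3 F59271)) (tt N6947 F29521) (tt N24663 D38416) (tt N5902 (iv6 D18323)) (tt N24664 D38417))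
theorem Q12229 : ∀ i, i < 12229 → P i := stepQ 12228 Q12228 (allL N12228 (tt N24521 (iv1 F59020)) (tt N5903 (iv0 D18324)) (tt N11672 (iv2 F296630)) (tt N24665 D38419) (tt N11669 F296148) (tt N24666 D38421) (tt N11668 F296149) (tt N24519 (iv7 F118375)))
theorem Q12230 : ∀ i, i < 12230 → P i := stepQ 12229 Q12229 (allL N12229 (tt N5903 (iv1 D18325)) (tt N24521 F59019) (tt N24519 (iv2 F118372)) (tt N18590 (iv3 F300602)) (tt N11675 F298126) (tt N24667 D38426) (tt N24668 D38427) (tt N11672 F298127))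
theorem Q12231 : ∀ i, i < 12231 → P i := stepQ 12230 Q12230 (allL N12230 (tt N24669 D38428) (tt N24670 D38429) (tt N24520 (iv2 F59014)) (tt N24659 (iv3 F59273)) (tt N24671 D38430) (tt N5903 (iv5 D18326)) (tt N24663 (iv6 F59275)) (tt N24672 D38431))
theorem Q12232 : ∀ i, i < 12232 → P i := stepQ 12231 Q12231 (allL N12231 (tt N24519 (iv1 F59013)) (tt N11672 F296997) (tt N24521 (iv2 F59015)) (tt N24660 (iv3 F59274)) (tt N5907 F29522) (tt N24672 (iv5 F59280)) (tt N24511 (iv6 F58978)) (tt N5903 (iv7 D18327)))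
theorem Q12233 : ∀ i, i < 12233 → P i := stepQ 12232 Q12232 (allL N12232 (tt N23634 (iv1 F298129)) (tt N5913 F113495) (tt N24354 F296673) (tt N22444 (iv3 F118003)) (tt N5904 (iv4 D18330)) (tt N24673 D38448) (tt N23439 F296674) (tt N17888 F117967))
theorem Q12234 : ∀ i, i < 12234 → P i := stepQ 12233 Q12233 (allL N12233 (tt N24674 D38451) (tt N24675 D38452) (tt N24355 F296675) (tt N5976 (iv3 F117936)) (tt N24676 D38453) (tt N5904 (iv5 D18331)) (tt N22936 F296676) (tt N17889 F117902))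
theorem Q12235 : ∀ i, i < 12235 → P i := stepQ 12234 Q12234 (allL N12234 (tt N5913 F113496) (tt N23634 (iv0 F298128)) (tt N17888 F117964) (tt N24677 D38465) (tt N5905 (iv4 D18335)) (tt N24678 D38466) (tt N24679 D38467) (tt N24354 F296996))
theorem Q12236 : ∀ i, i < 12236 → P i := stepQ 12235 Q12235 (allL N12235 (tt N24675 (iv1 F59297)) (tt N24674 F59300) (tt N17889 F117893) (tt N17742 F120625) (tt N24680 D38468) (tt N5905 (iv5 D18336)) (tt N12210 (iv6 F29525)) (tt N24355 F297001))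
theorem Q12237 : ∀ i, i < 12237 → P i := stepQ 12236 Q12236 (allL N12236 (tt N12177 (iv1 F59571)) (tt N5929 F296667) (tt N12303 F59222) (tt N6018 (iv3 F297061)) (tt N24679 (iv4 F59306)) (tt N23018 F296668) (tt N5905 (iv6 D18337)) (tt N12302 (iv7 F59219)))
theorem Q12238 : ∀ i, i < 12238 → P i := stepQ 12237 Q12237 (allL N12237 (tt N24524 (iv1 F59032)) (tt N5906 (iv0 D18338)) (tt N24522 (iv2 F59647)) (tt N5980 (iv3 F117789)) (tt N24681 D38473) (tt N24682 D38474) (tt N15964 F324585) (tt N17892 F117741))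
theorem Q12239 : ∀ i, i < 12239 → P i := stepQ 12238 Q12238 (allL N12238 (tt N5906 (iv1 D18339)) (tt N24524 F59031) (tt N17892 F117740) (tt N17744 F121123) (tt N24683 D38478) (tt N12134 (iv5 F29526)) (tt N24583 (iv6 F298710)) (tt N24522 (iv7 F59649)))
theorem Q12240 : ∀ i, i < 12240 → P i := stepQ 12239 Q12239 (allL N12239 (tt N24684 D38480) (tt N24685 D38481) (tt N24523 (iv2 F59026)) (tt N24686 D38482) (tt N5906 (iv4 D18340)) (tt N24687 D38483) (tt N11263 F29527) (tt N24688 D38484))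
theorem Q12241 : ∀ i, i < 12241 → P i := stepQ 12240 Q12240 (allL N12240 (tt N17892 (iv1 F117706)) (tt N24522 F59030) (tt N24524 (iv2 F59028)) (tt N7607 F324115) (tt N24688 (iv4 F59323)) (tt N5907 F29528) (tt N7606 (iv6 F324508)) (tt N5906 (iv7 D18341)))
theorem Q12242 : ∀ i, i < 12242 → P i := stepQ 12241 Q12241 (allL N12241 (tt N24096 (iv1 F57404)) (tt N5908 (iv0 D18342)) (tt N24528 (iv2 F59333)) (tt N24689 D38487) (tt N24690 D38488) (tt N24691 D38489) (tt N24692 D38490) (tt N24527 F59329))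
theorem Q12243 : ∀ i, i < 12243 → P i := stepQ 12242 Q12242 (allL N12242 (tt N5908 (iv1 D18343)) (tt N24096 F57403) (tt N24527 (iv2 F59332)) (tt N24693 D38491) (tt N24694 D38492) (tt N24695 D38493) (tt N24696 D38494) (tt N24528 (iv7 F59335)))
theorem Q12244 : ∀ i, i < 12244 → P i := stepQ 12243 Q12243 (allL N12243 (tt N24528 (iv1 F59042)) (tt N24527 F59041) (tt N5908 (iv2 D18344)) (tt N11607 F29529) (tt N14258 F35134) (tt N11606 (iv5 F29530)) (tt N24697 D38495) (tt N24096 (iv7 F57402)))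
theorem Q12245 : ∀ i, i < 12245 → P i := stepQ 12244 Q12244 (allL N12244 (tt N14336 (iv1 F35288)) (tt N13011 (iv0 F34423)) (tt N14258 (iv2 F35133)) (tt N12930 (iv3 F31191)) (tt N5908 (iv4 D18345)) (tt N14096 (iv5 F34781)) (tt N24698 D38496) (tt N14254 (iv7 F35130)))
theorem Q12246 : ∀ i, i < 12246 → P i := stepQ 12245 Q12245 (allL N12245 (tt N13033 (iv1 F299475)) (tt N24094 F57387) (tt N11606 F29531) (tt N5909 F29532) (tt N24699 D38497) (tt N5908 (iv5 D18346)) (tt N24700 D38498) (tt N24095 (iv7 F57395)))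
theorem Q12247 : ∀ i, i < 12247 → P i := stepQ 12246 Q12246 (allL N12246 (tt N24701 D38499) (tt N24702 D38500) (tt N24697 (iv2 F59343)) (tt N5910 F29533) (tt N24698 (iv4 F59345)) (tt N24703 D38501) (tt N5908 (iv6 D18347)) (tt N24704 D38502))
theorem Q12248 : ∀ i, i < 12248 → P i := stepQ 12247 Q12247 (allL N12247 (tt N24705 D38503) (tt N24706 D38504) (tt N24077 (iv2 F57348)) (tt N24700 (iv3 F59349)) (tt N6928 F29534) (tt N24707 D38505) (tt N5909 (iv6 D18348)) (tt N24708 D38506))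
theorem Q12249 : ∀ i, i < 12249 → P i := stepQ 12248 Q12248 (allL N12248 (tt N24709 D38517) (tt N24710 D38518) (tt N24525 (iv2 F59034)) (tt N24703 (iv3 F59350)) (tt N24711 D38519) (tt N5910 (iv5 D18351)) (tt N24707 (iv6 F59352)) (tt N24712 D38520))
theorem Q12250 : ∀ i, i < 12250 → P i := stepQ 12249 Q12249 (allL N12249 (tt N24512 (iv1 F118803)) (tt N17857 (iv0 F118800)) (tt N24526 (iv2 F59035)) (tt N24704 (iv3 F59351)) (tt N12938 (iv4 F31216)) (tt N24712 (iv5 F59356)) (tt N23634 F299362) (tt N5910 (iv7 D18352)))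
theorem Q12251 : ∀ i, i < 12251 → P i := stepQ 12250 Q12250 (allL N12250 (tt N5911 (iv1 D18353)) (tt N11607 F29535) (tt N24078 F57355) (tt N24713 D38521) (tt N21815 F299957) (tt N11622 F29536) (tt N24714 D38522) (tt N24079 (iv7 F57358)))
theorem Q12252 : ∀ i, i < 12252 → P i := stepQ 12251 Q12251 (allL N12251 (tt N24715 D38523) (tt N24716 D38524) (tt N24098 (iv2 F57406)) (tt N5913 F29537) (tt N22028 F304353) (tt N24717 D38525) (tt N5911 (iv6 D18354)) (tt N24718 D38526))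
theorem Q12253 : ∀ i, i < 12253 → P i := stepQ 12252 Q12252 (allL N12252 (tt N24719 D38527) (tt N24720 D38528) (tt N24530 (iv2 F59044)) (tt N11601 F29538) (tt N6904 F29539) (tt N24721 D38529) (tt N5912 (iv6 D18355)) (tt N24722 D38530))
theorem Q12254 : ∀ i, i < 12254 → P i := stepQ 12253 Q12253 (allL N12253 (tt N24723 D38541) (tt N24724 D38542) (tt N24531 (iv2 F59047)) (tt N24717 (iv3 F59359)) (tt N24725 D38543) (tt N5913 (iv5 D18358)) (tt N24721 (iv6 F59363)) (tt N24726 D38544))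
theorem Q12255 : ∀ i, i < 12255 → P i := stepQ 12254 Q12254 (allL N12254 (tt N17888 (iv1 F118117)) (tt N24354 F296730) (tt N23634 (iv2 F298130)) (tt N24718 (iv3 F59361)) (tt N12953 (iv4 F31250)) (tt N24726 (iv5 F59368)) (tt N24526 (iv6 F59036)) (tt N5913 (iv7 D18359)))
theorem Q12256 : ∀ i, i < 12256 → P i := stepQ 12255 Q12255 (allL N12255 (tt N24713 F59358) (tt N24727 D38545) (tt N24728 D38546) (tt N5914 (iv3 D18361)) (tt N23925 F56865) (tt N24729 D38547) (tt N24730 D38548) (tt N17235 F42873))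
theorem Q12257 : ∀ i, i < 12257 → P i := stepQ 12256 Q12256 (allL N12256 (tt N18497 (iv1 F46073)) (tt N17017 F41922) (tt N17240 F42898) (tt N18568 (iv3 F46190)) (tt N5914 (iv4 D18362)) (tt N17011 F41890) (tt N24731 D38549) (tt N17236 F42874))
theorem Q12258 : ∀ i, i < 12258 → P i := stepQ 12257 Q12257 (allL N12257 (tt N24732 D38550) (tt N11290 (iv0 F41892)) (tt N17241 (iv2 F42871)) (tt N24729 (iv3 F59372)) (tt N24733 D38551) (tt N5914 (iv5 D18363)) (tt N24734 D38552) (tt N17237 F42872))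
theorem Q12259 : ∀ i, i < 12259 → P i := stepQ 12258 Q12258 (allL N12258 (tt N24735 D38553) (tt N22479 F189968) (tt N17242 (iv2 F42946)) (tt N24730 (iv3 F59373)) (tt N24731 (iv4 F59374)) (tt N24736 D38555) (tt N5914 (iv6 D18364)) (tt N24737 D38556))
theorem Q12260 : ∀ i, i < 12260 → P i := stepQ 12259 Q12259 (allL N12259 (tt N24738 D38557) (tt N24689 (iv0 F71635)) (tt N22108 (iv2 F52490)) (tt N5915 (iv3 D18366)) (tt N18562 (iv4 F46187)) (tt N11793 F29544) (tt N24739 D38559) (tt N17239 (iv7 F42945)))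
theorem Q12261 : ∀ i, i < 12261 → P i := stepQ 12260 Q12260 (allL N12260 (tt N11290 F29542) (tt N24732 F59377) (tt N17237 F42870) (tt N11793 (iv3 F29543)) (tt N21841 (iv4 F52023)) (tt N5915 (iv5 D18367)) (tt N24740 D38560) (tt N17241 (iv7 F42865)))
theorem Q12262 : ∀ i, i < 12262 → P i := stepQ 12261 Q12261 (allL N12261 (tt N22444 (iv1 F188448)) (tt N24741 D38562) (tt N17238 F42944) (tt N24739 (iv3 F59385)) (tt N18559 (iv4 F46182)) (tt N24742 D38563) (tt N5915 (iv6 D18368)) (tt N24743 D38564))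
theorem Q12263 : ∀ i, i < 12263 → P i := stepQ 12262 Q12262 (allL N12262 (tt N17244 (iv1 F42577)) (tt N17243 F42576) (tt N5917 F29545) (tt N24540 (iv3 F59057)) (tt N16511 (iv4 F40624)) (tt N5916 (iv5 D18369)) (tt N24744 D38565) (tt N17215 (iv7 F42517)))
theorem Q12264 : ∀ i, i < 12264 → P i := stepQ 12263 Q12263 (allL N12263 (tt N24745 D38566) (tt N24746 D38567) (tt N5918 F29546) (tt N24541 (iv3 F59062)) (tt N5989 F29547) (tt N24747 D38568) (tt N5916 (iv6 D18370)) (tt N24748 D38569))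
theorem Q12265 : ∀ i, i < 12265 → P i := stepQ 12264 Q12264 (allL N12264 (tt N17215 (iv1 F42519)) (tt N5917 (iv0 D18371)) (tt N17244 (iv2 F42582)) (tt N24749 D38570) (tt N24750 D38571) (tt N17356 (iv5 F42850)) (tt N24751 D38572) (tt N17243 F42583))
theorem Q12266 : ∀ i, i < 12266 → P i := stepQ 12265 Q12265 (allL N12265 (tt N5917 (iv1 D18372)) (tt N17215 F42518) (tt N17243 F42581) (tt N10795 (iv3 F29548)) (tt N24752 D38573) (tt N17357 (iv5 F42856)) (tt N24753 D38574) (tt N17244 (iv7 F42580)))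
theorem Q12267 : ∀ i, i < 12267 → P i := stepQ 12266 Q12266 (allL N12266 (tt N13824 F33892) (tt N24230 (iv0 F71081)) (tt N16511 (iv2 F40623)) (tt N24754 D38576) (tt N5917 (iv4 D18373)) (tt N16500 (iv5 F40614)) (tt N24755 D38577) (tt N17245 (iv7 F42585)))
theorem Q12268 : ∀ i, i < 12268 → P i := stepQ 12267 Q12267 (allL N12267 (tt N24756 D38578) (tt N24757 D38579) (tt N24744 (iv2 F59387)) (tt N5922 F29549) (tt N24755 (iv4 F59403)) (tt N24758 D38580) (tt N5917 (iv6 D18374)) (tt N24759 D38581))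
theorem Q12269 : ∀ i, i < 12269 → P i := stepQ 12268 Q12268 (allL N12268 (tt N24748 (iv1 F59394)) (tt N5918 (iv0 D18375)) (tt N24745 F201096) (tt N24760 D38583) (tt N24761 D38584) (tt N24762 D38585) (tt N24763 D38586) (tt N24746 (iv7 F201103)))
theorem Q12270 : ∀ i, i < 12270 → P i := stepQ 12269 Q12269 (allL N12269 (tt N5918 (iv1 D18376)) (tt N24748 F59393) (tt N24746 (iv2 F201102)) (tt N24764 D38588) (tt N24765 D38589) (tt N24766 D38590) (tt N24767 D38591) (tt N24745 F201101))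
theorem Q12271 : ∀ i, i < 12271 → P i := stepQ 12270 Q12270 (allL N12270 (tt N24768 D38592) (tt N24769 D38593) (tt N24747 (iv2 F59389)) (tt N5926 F29550) (tt N24770 D38594) (tt N5918 (iv5 D18377)) (tt N24758 (iv6 F59405)) (tt N24771 D38595))
theorem Q12272 : ∀ i, i < 12272 → P i := stepQ 12271 Q12271 (allL N12271 (tt N24746 (iv1 F59388)) (tt N24745 F59392) (tt N24748 (iv2 F59390)) (tt N5927 F29551) (tt N5993 F29552) (tt N24771 (iv5 F59410)) (tt N17250 (iv6 F42591)) (tt N5918 (iv7 D18378)))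
theorem Q12273 : ∀ i, i < 12273 → P i := stepQ 12272 Q12272 (allL N12272 (tt N24691 (iv1 F59337)) (tt N24695 F59340) (tt N11628 F29553) (tt N5919 (iv3 D18379)) (tt N24772 D38596) (tt N6811 F29554) (tt N24773 D38597) (tt N22983 (iv7 F54819)))
theorem Q12274 : ∀ i, i < 12274 → P i := stepQ 12273 Q12273 (allL N12273 (tt N24774 D38598) (tt N24775 D38599) (tt N22988 (iv2 F54836)) (tt N24773 (iv3 F59416)) (tt N6849 F29555) (tt N24776 D38600) (tt N5919 (iv6 D18380)) (tt N24777 D38601))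
theorem Q12275 : ∀ i, i < 12275 → P i := stepQ 12274 Q12274 (allL N12274 (tt N24778 D38602) (tt N24779 D38603) (tt N22985 (iv2 F54821)) (tt N11623 F29556) (tt N6826 F29557) (tt N24780 D38604) (tt N5920 (iv6 D18381)) (tt N24781 D38605))
theorem Q12276 : ∀ i, i < 12276 → P i := stepQ 12275 Q12275 (allL N12275 (tt N24782 D38606) (tt N24783 D38607) (tt N12784 (iv2 F30908)) (tt N5921 (iv3 D18382)) (tt N24754 (iv4 F59401)) (tt N6778 F29558) (tt N24784 D38608) (tt N6874 F29559))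
theorem Q12277 : ∀ i, i < 12277 → P i := stepQ 12276 Q12276 (allL N12276 (tt N24785 D38609) (tt N24786 D38610) (tt N6982 F29560) (tt N24784 (iv3 F59425)) (tt N5922 F29561) (tt N24787 D38611) (tt N5921 (iv6 D18383)) (tt N24788 D38612))
theorem Q12278 : ∀ i, i < 12278 → P i := stepQ 12277 Q12277 (allL N12277 (tt N24552 (iv1 F59076)) (tt N5922 (iv0 D18384)) (tt N24549 F274532) (tt N22985 (iv3 F309553)) (tt N24789 D38615) (tt N24790 D38616) (tt N22983 F307511) (tt N24550 (iv7 F274537)))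
theorem Q12279 : ∀ i, i < 12279 → P i := stepQ 12278 Q12278 (allL N12278 (tt N5922 (iv1 D18385)) (tt N24552 F59075) (tt N24550 (iv2 F274536)) (tt N24645 (iv3 F311744)) (tt N24791 D38620) (tt N24792 D38621) (tt N24793 D38622) (tt N24549 F274533))
theorem Q12280 : ∀ i, i < 12280 → P i := stepQ 12279 Q12279 (allL N12279 (tt N24794 D38623) (tt N24795 D38624) (tt N24551 (iv2 F59069)) (tt N24758 (iv3 F59404)) (tt N24796 D38625) (tt N5922 (iv5 D18386)) (tt N5926 F29562) (tt N24797 D38626))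
theorem Q12281 : ∀ i, i < 12281 → P i := stepQ 12280 Q12280 (allL N12280 (tt N24550 (iv1 F59068)) (tt N24549 F59074) (tt N24552 (iv2 F59071)) (tt N24759 (iv3 F59406)) (tt N24788 (iv4 F59430)) (tt N24797 (iv5 F59438)) (tt N24798 D38627) (tt N5922 (iv7 D18387)))
theorem Q12282 : ∀ i, i < 12282 → P i := stepQ 12281 Q12281 (allL N12281 (tt N24799 D38628) (tt N24800 D38629) (tt N6977 F29563) (tt N17246 (iv3 F42587)) (tt N6876 F29564) (tt N24801 D38630) (tt N5923 (iv6 D18388)) (tt N24798 (iv7 F59441)))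
theorem Q12283 : ∀ i, i < 12283 → P i := stepQ 12282 Q12282 (allL N12282 (tt N24802 D38637) (tt N24696 F318051) (tt N24803 D38639) (tt N5924 (iv3 D18390)) (tt N24804 D38640) (tt N24805 D38641) (tt N24806 D38642) (tt N24554 (iv7 F61158)))
theorem Q12284 : ∀ i, i < 12284 → P i := stepQ 12283 Q12283 (allL N12283 (tt N23979 (iv1 F296862)) (tt N6801 (iv0 F59748)) (tt N12633 F61147) (tt N24346 (iv3 F91153)) (tt N5924 (iv4 D18391)) (tt N24807 D38647) (tt N12566 F296698) (tt N23985 (iv7 F296728)))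
theorem Q12285 : ∀ i, i < 12285 → P i := stepQ 12284 Q12284 (allL N12284 (tt N24808 D38650) (tt N24809 D38651) (tt N24553 (iv2 F61153)) (tt N24805 (iv3 F59456)) (tt N24810 D38652) (tt N5924 (iv5 D18392)) (tt N24811 D38653) (tt N24555 (iv7 F61160)))
theorem Q12286 : ∀ i, i < 12286 → P i := stepQ 12285 Q12285 (allL N12285 (tt N24679 (iv1 F59660)) (tt N24420 F296724) (tt N18853 F312947) (tt N24806 (iv3 F59457)) (tt N12566 F296725) (tt N18851 (iv5 F315288)) (tt N5924 (iv6 D18393)) (tt N24812 D38658))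
theorem Q12287 : ∀ i, i < 12287 → P i := stepQ 12286 Q12286 (allL N12286 (tt N24644 F308920) (tt N24813 D38661) (tt N24814 D38662) (tt N5925 (iv3 D18395)) (tt N19035 F308921) (tt N24815 D38664) (tt N24816 D38665) (tt N18857 F308922))
theorem Q12288 : ∀ i, i < 12288 → P i := stepQ 12287 Q12287 (allL N12287 (tt N6801 F59749) (tt N23979 (iv0 F296861)) (tt N23985 (iv2 F296727)) (tt N12595 (iv3 F30230)) (tt N5925 (iv4 D18396)) (tt N24817 D38666) (tt N23657 (iv6 F298246)) (tt N12633 F61143))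
theorem Q12289 : ∀ i, i < 12289 → P i := stepQ 12288 Q12288 (allL N12288 (tt N24809 (iv1 F59471)) (tt N24808 F59474) (tt N24555 (iv2 F61159)) (tt N24815 (iv3 F59480)) (tt N24818 D38668) (tt N5925 (iv5 D18397)) (tt N24819 D38669) (tt N24553 (iv7 F61154)))
theorem Q12290 : ∀ i, i < 12290 → P i := stepQ 12289 Q12289 (allL N12289 (tt N24820 D38670) (tt N24623 (iv0 F118931)) (tt N24556 (iv2 F61161)) (tt N24816 (iv3 F59481)) (tt N23657 F299434) (tt N24821 D38672) (tt N5925 (iv6 D18398)) (tt N24822 D38673))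
theorem Q12291 : ∀ i, i < 12291 → P i := stepQ 12290 Q12290 (allL N12290 (tt N24560 (iv1 F59086)) (tt N5926 (iv0 D18399)) (tt N24557 (iv2 F114045)) (tt N24823 D38675) (tt N24824 D38676) (tt N24147 F299435) (tt N24825 D38678) (tt N24558 (iv7 F114044)))
theorem Q12292 : ∀ i, i < 12292 → P i := stepQ 12291 Q12291 (allL N12291 (tt N5926 (iv1 D18400)) (tt N24560 F59085) (tt N24558 (iv2 F114043)) (tt N24826 D38680) (tt N24827 D38681) (tt N24150 F299436) (tt N24828 D38683) (tt N24557 (iv7 F114046)))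
theorem Q12293 : ∀ i, i < 12293 → P i := stepQ 12292 Q12292 (allL N12292 (tt N24829 D38684) (tt N24830 D38685) (tt N24559 (iv2 F59081)) (tt N24831 D38686) (tt N5926 (iv4 D18401)) (tt N24832 D38687) (tt N24796 (iv6 F59437)) (tt N24833 D38688))
theorem Q12294 : ∀ i, i < 12294 → P i := stepQ 12293 Q12293 (allL N12293 (tt N24558 (iv1 F59080)) (tt N24557 F59084) (tt N24560 (iv2 F59082)) (tt N24771 (iv3 F59409)) (tt N24833 (iv4 F59488)) (tt N5927 F29567) (tt N24834 D38689) (tt N5926 (iv7 D18402)))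
theorem Q12295 : ∀ i, i < 12295 → P i := stepQ 12294 Q12294 (allL N12294 (tt N23441 F298926) (tt N23975 F298927) (tt N24409 (iv2 F58639)) (tt N17250 (iv3 F42589)) (tt N5936 F29568) (tt N24835 D38690) (tt N5927 (iv6 D18403)) (tt N5928 F29569))
theorem Q12296 : ∀ i, i < 12296 → P i := stepQ 12295 Q12295 (allL N12295 (tt N24409 (iv1 F58644)) (tt N5928 (iv0 D18404)) (tt N23975 F298922) (tt N24836 D38692) (tt N17571 F298923) (tt N24837 D38694) (tt N23644 F298924) (tt N23441 F298925))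
theorem Q12297 : ∀ i, i < 12297 → P i := stepQ 12296 Q12296 (allL N12296 (tt N5928 (iv1 D18405)) (tt N24409 F58643) (tt N23441 (iv2 F297334)) (tt N24838 D38697) (tt N12563 F296717) (tt N24839 D38699) (tt N12562 F296718) (tt N23975 (iv7 F297332)))
theorem Q12298 : ∀ i, i < 12298 → P i := stepQ 12297 Q12297 (allL N12297 (tt N24840 D38701) (tt N24841 D38702) (tt N24408 (iv2 F58637)) (tt N17249 (iv3 F42588)) (tt N24842 D38703) (tt N5928 (iv5 D18406)) (tt N24801 (iv6 F59447)) (tt N24835 (iv7 F59489)))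
theorem Q12299 : ∀ i, i < 12299 → P i := stepQ 12298 Q12298 (allL N12298 (tt N24668 F296987) (tt N24573 (iv0 F59133)) (tt N12314 F296988) (tt N24843 D38718) (tt N5929 (iv4 D18416)) (tt N24844 D38719) (tt N5930 (iv6 F297323)) (tt N12304 F296989))
theorem Q12300 : ∀ i, i < 12300 → P i := stepQ 12299 Q12299 (allL N12299 (tt N5933 (iv1 F29588)) (tt N5930 (iv0 D18420)) (tt N24561 (iv2 F59723)) (tt N24845 D38728) (tt N11861 F298242) (tt N24846 D38730) (tt N11859 (iv6 F298714)) (tt N13961 (iv7 F59688)))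
theorem Q12301 : ∀ i, i < 12301 → P i := stepQ 12300 Q12300 (allL N12300 (tt N24847 D38737) (tt N24597 (iv0 F315502)) (tt N24848 D38739) (tt N5930 (iv3 D18422)) (tt N24843 (iv4 F59504)) (tt N24849 D38740) (tt N24843 F299437) (tt N24565 (iv7 F59112)))
theorem Q12302 : ∀ i, i < 12302 → P i := stepQ 12301 Q12301 (allL N12301 (tt N24144 F298823) (tt N24850 D38743) (tt N24563 (iv2 F59099)) (tt N24849 (iv3 F59517)) (tt N24851 D38744) (tt N5930 (iv5 D18423)) (tt N24852 D38745) (tt N24566 (iv7 F59114)))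
theorem Q12303 : ∀ i, i < 12303 → P i := stepQ 12302 Q12302 (allL N12302 (tt N5934 (iv1 F29595)) (tt N5931 (iv0 D18426)) (tt N12105 F296136) (tt N8678 (iv3 F296238)) (tt N24853 D38751) (tt N12086 F296137) (tt N8676 F296138) (tt N12236 F59219))
theorem Q12304 : ∀ i, i < 12304 → P i := stepQ 12303 Q12303 (allL N12303 (tt N5931 (iv1 D18427)) (tt N5934 F29590) (tt N12236 (iv2 F59222)) (tt N6014 (iv3 F117905)) (tt N24854 D38754) (tt N24855 D38755) (tt N8813 (iv6 F117901)) (tt N12105 F296222))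
theorem Q12305 : ∀ i, i < 12305 → P i := stepQ 12304 Q12304 (allL N12304 (tt N12565 F296721) (tt N24856 D38757) (tt N24564 (iv2 F59101)) (tt N19635 (iv3 F317490)) (tt N5931 (iv4 D18428)) (tt N19633 (iv5 F317493)) (tt N24857 D38760) (tt N12298 (iv7 F296989)))
theorem Q12306 : ∀ i, i < 12306 → P i := stepQ 12305 Q12305 (allL N12305 (tt N12207 F29592) (tt N12315 (iv0 F29609)) (tt N12316 (iv2 F29615)) (tt N12179 (iv3 F298737)) (tt N24857 (iv4 F59665)) (tt N12179 F29591) (tt N5931 (iv6 D18429)) (tt N12179 F29597))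
theorem Q12307 : ∀ i, i < 12307 → P i := stepQ 12306 Q12306 (allL N12306 (tt N5932 (iv1 D18436)) (tt N12309 F296576) (tt N24207 (iv2 F116641)) (tt N6004 F60792) (tt N23580 (iv4 F116664)) (tt N23027 (iv5 F91402)) (tt N24208 (iv6 F116665)) (tt N13823 F116635))
theorem Q12308 : ∀ i, i < 12308 → P i := stepQ 12307 Q12307 (allL N12307 (tt N13823 F116634) (tt N24207 (iv0 F116639)) (tt N5932 (iv2 D18437)) (tt N12177 F296573) (tt N24858 D38772) (tt N12175 F296574) (tt N24859 D38774) (tt N12309 F296575))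
theorem Q12309 : ∀ i, i < 12309 → P i := stepQ 12308 Q12308 (allL N12308 (tt N11630 (iv1 F91188)) (tt N24860 D38776) (tt N24858 (iv2 F59670)) (tt N24861 D38777) (tt N5932 (iv4 D18438)) (tt N23750 F320981) (tt N24862 D38779) (tt N23749 F320982))
theorem Q12310 : ∀ i, i < 12310 → P i := stepQ 12309 Q12309 (allL N12309 (tt N12306 (iv1 F296576)) (tt N11984 F296461) (tt N12175 (iv2 F296572)) (tt N5934 F29603) (tt N23562 (iv4 F297720)) (tt N5932 (iv5 D18439)) (tt N12175 (iv6 F29604)) (tt N12307 (iv7 F296575)))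
theorem Q12311 : ∀ i, i < 12311 → P i := stepQ 12310 Q12310 (allL N12310 (tt N24863 D38783) (tt N24863 (iv0 F299482)) (tt N24859 (iv2 F59674)) (tt N5935 F29605) (tt N24862 (iv4 F59677)) (tt N24859 (iv5 F297961)) (tt N5932 (iv6 D18440)) (tt N24859 (iv7 F297962)))
theorem Q12312 : ∀ i, i < 12312 → P i := stepQ 12311 Q12311 (allL N12311 (tt N24650 F155162) (tt N24864 D38787) (tt N24865 D38788) (tt N5933 (iv3 D18441)) (tt N24861 (iv4 F59676)) (tt N24866 D38789) (tt N24867 D38790) (tt N24562 (iv7 F59098)))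
theorem Q12313 : ∀ i, i < 12313 → P i := stepQ 12312 Q12312 (allL N12312 (tt N24850 (iv1 F59520)) (tt N24144 F298822) (tt N24566 (iv2 F59113)) (tt N24866 (iv3 F59682)) (tt N24868 D38791) (tt N5933 (iv5 D18442)) (tt N24869 D38792) (tt N24563 (iv7 F59100)))
theorem Q12314 : ∀ i, i < 12314 → P i := stepQ 12313 Q12313 (allL N12313 (tt N24870 D38793) (tt N24177 F299438) (tt N24567 (iv2 F59115)) (tt N24867 (iv3 F59683)) (tt N5935 F29606) (tt N24871 D38795) (tt N5933 (iv6 D18443)) (tt N24872 D38796))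
theorem Q12315 : ∀ i, i < 12315 → P i := stepQ 12314 Q12314 (allL N12314 (tt N24856 (iv1 F59662)) (tt N12565 F296720) (tt N12298 (iv2 F296988)) (tt N24873 D38797) (tt N5934 (iv4 D18444)) (tt N24874 D38798) (tt N12176 F29607) (tt N24564 (iv7 F59102)))
theorem Q12316 : ∀ i, i < 12316 → P i := stepQ 12315 Q12315 (allL N12315 (tt N12305 F29609) (tt N5935 (iv0 D18445)) (tt N12133 F59615) (tt N6027 (iv3 F117752)) (tt N24820 (iv4 F118934)) (tt N8691 (iv5 F117763)) (tt N24570 (iv6 F298193)) (tt N12059 F117731))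
theorem Q12317 : ∀ i, i < 12317 → P i := stepQ 12316 Q12316 (allL N12316 (tt N12059 F117733) (tt N12133 (iv0 F29611)) (tt N12305 F29615) (tt N24859 (iv3 F297960)) (tt N24872 (iv4 F59818)) (tt N5935 (iv5 D18447)) (tt N12177 F29610) (tt N5935 (iv7 F29612)))
theorem Q12318 : ∀ i, i < 12318 → P i := stepQ 12317 Q12317 (allL N12317 (tt N23025 F54891) (tt N24414 F58653) (tt N24416 (iv2 F58651)) (tt N6029 F29637) (tt N24875 D38801) (tt N5936 (iv5 D18448)) (tt N23038 (iv6 F54898)) (tt N5939 F29638))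
theorem Q12319 : ∀ i, i < 12319 → P i := stepQ 12318 Q12318 (allL N12318 (tt N11859 (iv1 F298713)) (tt N13956 F121802) (tt N24410 (iv2 F125823)) (tt N24876 D38817) (tt N5937 (iv4 D18451)) (tt N24877 D38818) (tt N24581 (iv6 F298708)) (tt N24412 (iv7 F125834)))
theorem Q12320 : ∀ i, i < 12320 → P i := stepQ 12319 Q12319 (allL N12319 (tt N24626 F59197) (tt N24878 D38821) (tt N15967 F324126) (tt N24524 (iv3 F297992)) (tt N24879 D38822) (tt N5937 (iv5 D18452)) (tt N15966 (iv6 F325158)) (tt N24413 (iv7 F125836)))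
theorem Q12321 : ∀ i, i < 12321 → P i := stepQ 12320 Q12320 (allL N12320 (tt N13956 F121803) (tt N11859 (iv0 F298712)) (tt N24412 (iv2 F125833)) (tt N24880 D38834) (tt N5938 (iv4 D18456)) (tt N24881 D38835) (tt N11670 F296983) (tt N24410 (iv7 F125824)))
theorem Q12322 : ∀ i, i < 12322 → P i := stepQ 12321 Q12321 (allL N12321 (tt N24878 (iv1 F59845)) (tt N24626 (iv0 F59195)) (tt N24413 (iv2 F125835)) (tt N15969 F324129) (tt N24882 D38837) (tt N5938 (iv5 D18457)) (tt N23438 F296210) (tt N15967 F324130))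
theorem Q12323 : ∀ i, i < 12323 → P i := stepQ 12322 Q12322 (allL N12322 (tt N24416 (iv1 F58655)) (tt N5939 (iv0 D18459)) (tt N24414 (iv2 F113059)) (tt N24674 F298928) (tt N24883 D38843) (tt N23026 (iv5 F113011)) (tt N24884 D38844) (tt N23025 (iv7 F113009)))
theorem Q12324 : ∀ i, i < 12324 → P i := stepQ 12323 Q12323 (allL N12323 (tt N5939 (iv1 D18460)) (tt N24416 F58654) (tt N23025 (iv2 F113008)) (tt N24885 D38846) (tt N24886 D38847) (tt N22959 (iv5 F54728)) (tt N24675 (iv6 F112993)) (tt N24414 (iv7 F113060)))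
theorem Q12325 : ∀ i, i < 12325 → P i := stepQ 12324 Q12324 (allL N12324 (tt N24887 D38849) (tt N24888 D38850) (tt N24415 (iv2 F58649)) (tt N24889 D38851) (tt N5939 (iv4 D18461)) (tt N24890 D38852) (tt N5947 F29641) (tt N24875 (iv7 F59827)))
theorem Q12326 : ∀ i, i < 12326 → P i := stepQ 12325 Q12325 (allL N12325 (tt N24891 D38853) (tt N13350 F296003) (tt N23438 (iv2 F55919)) (tt N5942 F29642) (tt N24892 D38854) (tt N5940 (iv5 D18462)) (tt N24413 (iv6 F296202)) (tt N23046 (iv7 F54904)))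
theorem Q12327 : ∀ i, i < 12327 → P i := stepQ 12326 Q12326 (allL N12326 (tt N24893 D38856) (tt N24894 D38857) (tt N11263 F29645) (tt N24895 D38858) (tt N5942 (iv4 D18464)) (tt N24896 D38859) (tt N24523 (iv6 F59027)) (tt N23047 (iv7 F54908)))
theorem Q12328 : ∀ i, i < 12328 → P i := stepQ 12327 Q12327 (allL N12327 (tt N24894 (iv1 F59878)) (tt N24893 F59875) (tt N23047 (iv2 F54907)) (tt N15927 (iv3 F326392)) (tt N5945 (iv4 D18467)) (tt N24897 D38864) (tt N15925 F325558) (tt N11263 F29651))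
theorem Q12329 : ∀ i, i < 12329 → P i := stepQ 12328 Q12328 (allL N12328 (tt N13958 (iv1 F34416)) (tt N22940 F54694) (tt N22943 (iv2 F54696)) (tt N16000 F325262) (tt N5946 (iv4 D18470)) (tt N24898 D38869) (tt N15998 F325263) (tt N22933 (iv7 F54672)))
theorem Q12330 : ∀ i, i < 12330 → P i := stepQ 12329 Q12329 (allL N12329 (tt N22932 (iv1 F54666)) (tt N5947 (iv0 D18472)) (tt N23049 F54920) (tt N24899 D38874) (tt N6268 F29655) (tt N24900 D38875) (tt N24901 D38876) (tt N23048 F54916))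
theorem Q12331 : ∀ i, i < 12331 → P i := stepQ 12330 Q12330 (allL N12330 (tt N5947 (iv1 D18473)) (tt N22932 (iv0 F54665)) (tt N23048 F54915) (tt N24902 D38877) (tt N13356 F32316) (tt N24903 D38878) (tt N24904 D38879) (tt N23049 (iv7 F54918)))
theorem Q12332 : ∀ i, i < 12332 → P i := stepQ 12331 Q12331 (allL N12331 (tt N24905 D38880) (tt N24906 D38881) (tt N24907 D38882) (tt N5947 (iv3 D18474)) (tt N6046 F29656) (tt N24908 D38883) (tt N24889 (iv6 F59862)) (tt N23050 (iv7 F54922)))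
theorem Q12333 : ∀ i, i < 12333 → P i := stepQ 12332 Q12332 (allL N12332 (tt N24909 D38884) (tt N24910 D38885) (tt N24418 (iv2 F58656)) (tt N24908 (iv3 F59909)) (tt N24911 D38886) (tt N5947 (iv5 D18475)) (tt N24912 D38887) (tt N23051 (iv7 F54924)))
theorem Q12334 : ∀ i, i < 12334 → P i := stepQ 12333 Q12333 (allL N12333 (tt N24913 D38888) (tt N24914 D38889) (tt N17028 (iv2 F41970)) (tt N5948 (iv3 D18476)) (tt N17837 (iv4 F44573)) (tt N14577 (iv5 F36286)) (tt N24915 D38890) (tt N17868 (iv7 F44709)))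
theorem Q12335 : ∀ i, i < 12335 → P i := stepQ 12334 Q12334 (allL N12334 (tt N24916 D38891) (tt N24917 D38892) (tt N5953 F29657) (tt N24915 (iv3 F59923)) (tt N5949 F29658) (tt N24918 D38893) (tt N5948 (iv6 D18477)) (tt N24919 D38894))
theorem Q12336 : ∀ i, i < 12336 → P i := stepQ 12335 Q12335 (allL N12335 (tt N5957 (iv1 F29664)) (tt N5949 (iv0 D18478)) (tt N5954 (iv2 F116867)) (tt N17700 F121173) (tt N24920 D38897) (tt N24921 D38898) (tt N12050 F29659) (tt N5955 (iv7 F116873)))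
theorem Q12337 : ∀ i, i < 12337 → P i := stepQ 12336 Q12336 (allL N12336 (tt N5949 (iv1 D18479)) (tt N5957 F29660) (tt N5955 F116877) (tt N21072 (iv3 F324777)) (tt N24922 D38900) (tt N21071 (iv5 F324554)) (tt N17701 (iv6 F296463)) (tt N5954 F116878))
theorem Q12338 : ∀ i, i < 12338 → P i := stepQ 12337 Q12337 (allL N12337 (tt N24923 D38903) (tt N24924 D38904) (tt N5956 F29661) (tt N17840 (iv3 F44581)) (tt N24925 D38905) (tt N5949 (iv5 D18480)) (tt N11226 F29662) (tt N18138 F324011))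
theorem Q12339 : ∀ i, i < 12339 → P i := stepQ 12338 Q12338 (allL N12338 (tt N5955 (iv1 F29665)) (tt N5954 F29666) (tt N5957 F29663) (tt N17821 (iv3 F297564)) (tt N24919 (iv4 F59929)) (tt N18138 F324010) (tt N17818 (iv6 F296482)) (tt N5949 (iv7 D18481)))
theorem Q12340 : ∀ i, i < 12340 → P i := stepQ 12339 Q12339 (allL N12339 (tt N24926 D38907) (tt N24927 D38908) (tt N24928 D38909) (tt N5950 (iv3 D18482)) (tt N13954 (iv4 F34402)) (tt N24302 (iv5 F58274)) (tt N24929 D38910) (tt N13769 (iv7 F33658)))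
theorem Q12341 : ∀ i, i < 12341 → P i := stepQ 12340 Q12340 (allL N12340 (tt N24237 F126043) (tt N17987 F121781) (tt N11850 F296860) (tt N24929 (iv3 F59951)) (tt N6630 F29667) (tt N24930 D38913) (tt N5950 (iv6 D18483)) (tt N24931 D38914))
theorem Q12342 : ∀ i, i < 12342 → P i := stepQ 12341 Q12341 (allL N12341 (tt N24932 D38915) (tt N24933 D38916) (tt N24934 D38917) (tt N5951 (iv3 D18484)) (tt N11823 F29668) (tt N24304 (iv5 F58277)) (tt N19469 (iv6 F309054)) (tt N13794 (iv7 F33745)))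
theorem Q12343 : ∀ i, i < 12343 → P i := stepQ 12342 Q12342 (allL N12342 (tt N6006 F59762) (tt N17976 F59763) (tt N13771 (iv2 F33664)) (tt N19469 F311207) (tt N6645 F29669) (tt N15321 (iv5 F311256)) (tt N5951 (iv6 D18485)) (tt N15327 F311208))
theorem Q12344 : ∀ i, i < 12344 → P i := stepQ 12343 Q12343 (allL N12343 (tt N7050 (iv1 F29672)) (tt N5952 (iv0 D18486)) (tt N12036 (iv2 F29673)) (tt N24935 D38920) (tt N6756 F29671) (tt N6740 F29670) (tt N18594 (iv6 F313532)) (tt N12033 (iv7 F29674)))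
theorem Q12345 : ∀ i, i < 12345 → P i := stepQ 12344 Q12344 (allL N12344 (tt N5952 (iv1 D18487)) (tt N7050 F29675) (tt N12033 (iv2 F29678)) (tt N24936 D38922) (tt N6749 (iv4 F29679)) (tt N6741 F29677) (tt N24937 D38923) (tt N12036 F29676))
theorem Q12346 : ∀ i, i < 12346 → P i := stepQ 12345 Q12345 (allL N12345 (tt N24938 D38924) (tt N24939 D38925) (tt N14578 (iv2 F36288)) (tt N21673 (iv3 F51667)) (tt N14558 (iv4 F36226)) (tt N24940 D38926) (tt N5952 (iv6 D18488)) (tt N24941 D38927))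
theorem Q12347 : ∀ i, i < 12347 → P i := stepQ 12346 Q12346 (allL N12346 (tt N24919 (iv1 F59931)) (tt N5953 (iv0 D18489)) (tt N24916 (iv2 F89174)) (tt N24942 D38929) (tt N24943 D38930) (tt N24944 D38931) (tt N24945 D38932) (tt N24917 (iv7 F89177)))
theorem Q12348 : ∀ i, i < 12348 → P i := stepQ 12347 Q12347 (allL N12347 (tt N5953 (iv1 D18490)) (tt N24919 F59930) (tt N24917 (iv2 F89176)) (tt N24946 D38934) (tt N11697 F297477) (tt N24947 D38936) (tt N11695 (iv6 F297799)) (tt N24916 (iv7 F89175)))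
theorem Q12349 : ∀ i, i < 12349 → P i := stepQ 12348 Q12348 (allL N12348 (tt N24948 D38938) (tt N24160 F297846) (tt N24918 (iv2 F59927)) (tt N21718 (iv3 F51766)) (tt N24949 D38940) (tt N5953 (iv5 D18491)) (tt N24940 (iv6 F59966)) (tt N24950 D38941))
theorem Q12350 : ∀ i, i < 12350 → P i := stepQ 12349 Q12349 (allL N12349 (tt N24917 (iv1 F59926)) (tt N24916 (iv0 F59925)) (tt N24919 (iv2 F59928)) (tt N21719 (iv3 F51767)) (tt N5957 F29680) (tt N24950 (iv5 F59970)) (tt N17876 (iv6 F44726)) (tt N5953 (iv7 D18492)))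
theorem Q12351 : ∀ i, i < 12351 → P i := stepQ 12350 Q12350 (allL N12350 (tt N15580 (iv1 F325329)) (tt N23908 (iv0 F117852)) (tt N23589 (iv2 F116881)) (tt N5954 (iv3 D18494)) (tt N23537 F56083) (tt N21073 F324932) (tt N24863 (iv6 F299484)) (tt N21072 F324933))
theorem Q12352 : ∀ i, i < 12352 → P i := stepQ 12351 Q12351 (allL N12351 (tt N24951 D38954) (tt N24229 (iv0 F121221)) (tt N24920 (iv2 F116869)) (tt N24952 D38956) (tt N5954 (iv4 D18495)) (tt N20677 F320557) (tt N24953 D38958) (tt N24922 (iv7 F116884)))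
theorem Q12353 : ∀ i, i < 12353 → P i := stepQ 12352 Q12352 (allL N12352 (tt N24954 D38960) (tt N24955 D38961) (tt N24921 (iv2 F116871)) (tt N21073 F324930) (tt N24956 D38962) (tt N5954 (iv5 D18496)) (tt N24957 D38963) (tt N21071 F324931))
theorem Q12354 : ∀ i, i < 12354 → P i := stepQ 12353 Q12353 (allL N12353 (tt N17977 F116808) (tt N12483 F116809) (tt N12050 F116856) (tt N24863 (iv3 F299483)) (tt N24953 (iv4 F59986)) (tt N12017 F29682) (tt N5954 (iv6 D18497)) (tt N12047 F116857))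
theorem Q12355 : ∀ i, i < 12355 → P i := stepQ 12354 Q12354 (allL N12354 (tt N12667 F121058) (tt N17703 F121059) (tt N17701 F121177) (tt N5955 (iv3 D18499)) (tt N24958 D38972) (tt N24959 D38973) (tt N5955 F297690) (tt N17700 F121178))
theorem Q12356 : ∀ i, i < 12356 → P i := stepQ 12355 Q12355 (allL N12355 (tt N24229 (iv1 F121222)) (tt N24951 F59989) (tt N24922 (iv2 F116883)) (tt N24960 D38975) (tt N5955 (iv4 D18500)) (tt N24961 D38976) (tt N24958 (iv6 F299064)) (tt N24920 (iv7 F116870)))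
theorem Q12357 : ∀ i, i < 12357 → P i := stepQ 12356 Q12356 (allL N12356 (tt N24955 (iv1 F59990)) (tt N24954 F59994) (tt N21071 (iv2 F324553)) (tt N24959 (iv3 F60001)) (tt N24962 D38978) (tt N5955 (iv5 D18501)) (tt N21074 F324013) (tt N24921 (iv7 F116872)))
theorem Q12358 : ∀ i, i < 12358 → P i := stepQ 12357 Q12357 (allL N12357 (tt N18138 F324009) (tt N5956 (iv0 D18503)) (tt N24923 (iv2 F116995)) (tt N15579 F326060) (tt N24963 D38986) (tt N24964 D38987) (tt N24965 D38988) (tt N24924 (iv7 F116994)))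
theorem Q12359 : ∀ i, i < 12359 → P i := stepQ 12358 Q12358 (allL N12358 (tt N5956 (iv1 D18504)) (tt N18138 F324008) (tt N24924 (iv2 F116993)) (tt N12030 F296369) (tt N24966 D38991) (tt N12025 (iv5 F296931)) (tt N24967 D38993) (tt N24923 (iv7 F116996)))
theorem Q12360 : ∀ i, i < 12360 → P i := stepQ 12359 Q12359 (allL N12359 (tt N24968 D38994) (tt N24034 F296368) (tt N24925 (iv2 F59943)) (tt N24969 D38996) (tt N5956 (iv4 D18505)) (tt N24970 D38997) (tt N11232 F29684) (tt N24971 D38998))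
theorem Q12361 : ∀ i, i < 12361 → P i := stepQ 12360 Q12360 (allL N12360 (tt N24924 (iv1 F59941)) (tt N24923 F59947) (tt N18138 (iv2 F322530)) (tt N5966 F29685) (tt N24971 (iv4 F60011)) (tt N5957 F29686) (tt N18134 F320744) (tt N5956 (iv7 D18506)))
theorem Q12362 : ∀ i, i < 12362 → P i := stepQ 12361 Q12361 (allL N12361 (tt N17755 F121197) (tt N17682 F121198) (tt N17720 (iv2 F121079)) (tt N22337 F190620) (tt N5958 (iv4 D18516)) (tt N24972 D39015) (tt N24973 D39016) (tt N17723 (iv7 F121076)))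
theorem Q12363 : ∀ i, i < 12363 → P i := stepQ 12362 Q12362 (allL N12362 (tt N24383 (iv1 F301252)) (tt N23114 (iv0 F301322)) (tt N17721 (iv2 F121085)) (tt N5959 F29697) (tt N24974 D39019) (tt N5958 (iv5 D18517)) (tt N24975 D39020) (tt N17724 (iv7 F121077)))
theorem Q12364 : ∀ i, i < 12364 → P i := stepQ 12363 Q12363 (allL N12363 (tt N17697 (iv1 F121091)) (tt N6022 (iv0 F301521)) (tt N17722 (iv2 F121086)) (tt N5960 F29698) (tt N24973 (iv4 F60026)) (tt N8689 F299881) (tt N5958 (iv6 D18518)) (tt N12053 F29893))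
theorem Q12365 : ∀ i, i < 12365 → P i := stepQ 12364 Q12364 (allL N12364 (tt N5959 (iv1 D18526)) (tt N5961 F29706) (tt N17859 (iv2 F44623)) (tt N24955 (iv3 F116835)) (tt N24976 D39024) (tt N17439 (iv5 F43250)) (tt N17517 F43556) (tt N17438 F43248))
theorem Q12366 : ∀ i, i < 12366 → P i := stepQ 12365 Q12365 (allL N12365 (tt N23664 (iv1 F56349)) (tt N23665 (iv0 F56350)) (tt N17860 (iv2 F44625)) (tt N24977 D39025) (tt N5959 (iv4 D18527)) (tt N23711 (iv5 F56419)) (tt N23940 F304729) (tt N17861 (iv7 F44638)))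
theorem Q12367 : ∀ i, i < 12367 → P i := stepQ 12366 Q12366 (allL N12366 (tt N6033 F29708) (tt N6031 (iv0 F29713)) (tt N12062 F29884) (tt N24975 (iv3 F60028)) (tt N23940 (iv4 F302158)) (tt N8693 F29707) (tt N5959 (iv6 D18528)) (tt N17984 (iv7 F45033)))
theorem Q12368 : ∀ i, i < 12368 → P i := stepQ 12367 Q12367 (allL N12367 (tt N23665 (iv1 F56351)) (tt N23664 (iv0 F56348)) (tt N17861 (iv2 F44637)) (tt N24978 D39052) (tt N5961 (iv4 D18541)) (tt N23712 (iv5 F56420)) (tt N23787 (iv6 F56505)) (tt N17860 (iv7 F44626)))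
theorem Q12369 : ∀ i, i < 12369 → P i := stepQ 12368 Q12368 (allL N12368 (tt N17897 F44800) (tt N6041 (iv0 F29722)) (tt N17862 (iv2 F44639)) (tt N15941 (iv3 F322538)) (tt N23787 F56506) (tt N24979 D39053) (tt N5961 (iv6 D18542)) (tt N18001 (iv7 F45076)))
theorem Q12370 : ∀ i, i < 12370 → P i := stepQ 12369 Q12369 (allL N12369 (tt N12056 (iv1 F29883)) (tt N5962 (iv0 D18543)) (tt N17669 (iv2 F298197)) (tt N12667 F296976) (tt N18616 (iv4 F46233)) (tt N11357 F29723) (tt N12666 F296977) (tt N6032 F44669))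
theorem Q12371 : ∀ i, i < 12371 → P i := stepQ 12370 Q12370 (allL N12370 (tt N11539 F29892) (tt N11537 (iv0 F29724)) (tt N17863 (iv2 F44692)) (tt N24585 F299819) (tt N24980 D39055) (tt N5962 (iv5 D18545)) (tt N24979 (iv6 F60050)) (tt N17893 (iv7 F44790)))
theorem Q12372 : ∀ i, i < 12372 → P i := stepQ 12371 Q12371 (allL N12371 (tt N6032 F29726) (tt N17669 F299817) (tt N12056 F29881) (tt N24570 F299818) (tt N17304 (iv4 F42733)) (tt N17893 (iv5 F44787)) (tt N6027 F29725) (tt N5962 (iv7 D18546)))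
theorem Q12373 : ∀ i, i < 12373 → P i := stepQ 12372 Q12372 (allL N12372 (tt N17728 (iv1 F120663)) (tt N17674 (iv0 F120664)) (tt N17726 (iv2 F120627)) (tt N5963 (iv3 D18548)) (tt N24981 D39059) (tt N12084 (iv5 F300691)) (tt N12403 F29836) (tt N12083 F299640))
theorem Q12374 : ∀ i, i < 12374 → P i := stepQ 12373 Q12373 (allL N12373 (tt N11350 (iv1 F43193)) (tt N8535 (iv0 F30018)) (tt N11348 (iv2 F29758)) (tt N12084 (iv3 F300690)) (tt N22485 (iv4 F53213)) (tt N5963 (iv5 D18550)) (tt N11335 F29731) (tt N8694 (iv7 F29753)))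
theorem Q12375 : ∀ i, i < 12375 → P i := stepQ 12374 Q12374 (allL N12374 (tt N17867 (iv1 F44706)) (tt N5965 (iv0 D18554)) (tt N11705 (iv2 F41955)) (tt N24982 D39066) (tt N8580 F41956) (tt N24983 D39067) (tt N17578 (iv6 F43784)) (tt N11708 F41957))
theorem Q12376 : ∀ i, i < 12376 → P i := stepQ 12375 Q12375 (allL N12375 (tt N5965 (iv1 D18555)) (tt N17867 F44705) (tt N11708 (iv2 F41953)) (tt N24984 D39068) (tt N8581 F41952) (tt N24985 D39069) (tt N11819 F299649) (tt N11705 (iv7 F41954)))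
theorem Q12377 : ∀ i, i < 12377 → P i := stepQ 12376 Q12376 (allL N12376 (tt N24986 D39071) (tt N24987 D39072) (tt N24988 D39073) (tt N5965 (iv3 D18556)) (tt N24969 (iv4 F60009)) (tt N24989 D39074) (tt N11233 F29792) (tt N24990 D39075))
theorem Q12378 : ∀ i, i < 12378 → P i := stepQ 12377 Q12377 (allL N12377 (tt N24991 D39076) (tt N22538 (iv0 F309216)) (tt N17866 (iv2 F44702)) (tt N24989 (iv3 F60072)) (tt N24992 D39078) (tt N5965 (iv5 D18557)) (tt N24993 D39079) (tt N24994 D39080))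
theorem Q12379 : ∀ i, i < 12379 → P i := stepQ 12378 Q12378 (allL N12378 (tt N11708 (iv1 F41763)) (tt N11705 (iv0 F41764)) (tt N17867 (iv2 F44703)) (tt N24990 (iv3 F60073)) (tt N5966 F29793) (tt N24994 (iv5 F60081)) (tt N24995 D39081) (tt N5965 (iv7 D18558)))
theorem Q12380 : ∀ i, i < 12380 → P i := stepQ 12379 Q12379 (allL N12379 (tt N12552 (iv1 F30121)) (tt N12551 F30125) (tt N12553 (iv2 F30122)) (tt N18134 (iv3 F318607)) (tt N24995 (iv4 F60084)) (tt N17897 (iv5 F44798)) (tt N5966 (iv6 D18559)) (tt N8865 F29794))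
theorem Q12381 : ∀ i, i < 12381 → P i := stepQ 12380 Q12380 (allL N12380 (tt N24996 D39082) (tt N24997 D39083) (tt N21582 (iv2 F51542)) (tt N5967 (iv3 D18560)) (tt N17868 (iv4 F44707)) (tt N24998 D39084) (tt N24999 D39085) (tt N17837 (iv7 F44575)))
theorem Q12382 : ∀ i, i < 12382 → P i := stepQ 12381 Q12381 (allL N12381 (tt N6862 (iv1 F29799)) (tt N6899 F29798) (tt N5971 F29795) (tt N24998 (iv3 F60087)) (tt N8790 F29797) (tt N5967 (iv5 D18561)) (tt N25000 D39086) (tt N6898 F29796))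
theorem Q12383 : ∀ i, i < 12383 → P i := stepQ 12382 Q12382 (allL N12382 (tt N17705 F297777) (tt N25001 D39088) (tt N5972 F29800) (tt N24999 (iv3 F60089)) (tt N5968 F29801) (tt N25002 D39089) (tt N5967 (iv6 D18562)) (tt N17819 (iv7 F300028)))
theorem Q12384 : ∀ i, i < 12384 → P i := stepQ 12383 Q12383 (allL N12383 (tt N25003 D39099) (tt N24975 (iv0 F297501)) (tt N5974 F29803) (tt N17871 (iv3 F44714)) (tt N25004 D39101) (tt N5968 (iv5 D18565)) (tt N11237 F29804) (tt N17820 (iv7 F297502)))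
theorem Q12385 : ∀ i, i < 12385 → P i := stepQ 12384 Q12384 (allL N12384 (tt N25005 D39103) (tt N25006 D39104) (tt N6847 F29809) (tt N5969 (iv3 D18567)) (tt N17706 (iv4 F44373)) (tt N6846 F29810) (tt N25007 D39105) (tt N17841 (iv7 F44591)))
theorem Q12386 : ∀ i, i < 12386 → P i := stepQ 12385 Q12385 (allL N12385 (tt N17813 (iv1 F300018)) (tt N6020 (iv0 F91157)) (tt N17842 (iv2 F44599)) (tt N25007 (iv3 F60122)) (tt N12063 F29811) (tt N25008 D39108) (tt N5969 (iv6 D18568)) (tt N17961 (iv7 F91428)))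
theorem Q12387 : ∀ i, i < 12387 → P i := stepQ 12386 Q12386 (allL N12386 (tt N17740 (iv1 F297161)) (tt N17678 (iv0 F297162)) (tt N17737 (iv2 F297067)) (tt N6826 F29812) (tt N11621 F29813) (tt N25009 D39112) (tt N5970 (iv6 D18569)) (tt N17738 (iv7 F297163)))
theorem Q12388 : ∀ i, i < 12388 → P i := stepQ 12387 Q12387 (allL N12387 (tt N6898 (iv1 F29816)) (tt N5971 (iv0 D18570)) (tt N6862 (iv2 F29815)) (tt N6925 F29818) (tt N12845 (iv4 F30983)) (tt N8686 F29814) (tt N25010 D39114) (tt N6899 F29817))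
theorem Q12389 : ∀ i, i < 12389 → P i := stepQ 12388 Q12388 (allL N12388 (tt N25011 D39115) (tt N25012 D39116) (tt N25000 (iv2 F60090)) (tt N21597 (iv3 F51568)) (tt N14167 (iv4 F34947)) (tt N25013 D39117) (tt N5971 (iv6 D18571)) (tt N25014 D39118))
theorem Q12390 : ∀ i, i < 12390 → P i := stepQ 12389 Q12389 (allL N12389 (tt N17819 (iv1 F300026)) (tt N5972 (iv0 D18572)) (tt N17705 F298097) (tt N25015 D39120) (tt N17643 F298098) (tt N25016 D39122) (tt N17642 F298099) (tt N25001 (iv7 F91561)))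
theorem Q12391 : ∀ i, i < 12391 → P i := stepQ 12390 Q12390 (allL N12390 (tt N5972 (iv1 D18573)) (tt N17819 (iv0 F300025)) (tt N25001 (iv2 F91560)) (tt N24791 F312605) (tt N25017 D39126) (tt N25018 D39127) (tt N17810 (iv6 F300016)) (tt N17705 F299026))
theorem Q12392 : ∀ i, i < 12392 → P i := stepQ 12391 Q12391 (allL N12391 (tt N25019 D39129) (tt N25020 D39130) (tt N25002 (iv2 F60095)) (tt N21600 (iv3 F51569)) (tt N25021 D39131) (tt N5972 (iv5 D18574)) (tt N25013 (iv6 F60130)) (tt N25022 D39132))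
theorem Q12393 : ∀ i, i < 12393 → P i := stepQ 12392 Q12392 (allL N12392 (tt N25001 (iv1 F60094)) (tt N17705 F299025) (tt N17819 (iv2 F300027)) (tt N21601 (iv3 F51570)) (tt N5975 F29819) (tt N25022 (iv5 F60134)) (tt N17847 (iv6 F44604)) (tt N5972 (iv7 D18575)))
theorem Q12394 : ∀ i, i < 12394 → P i := stepQ 12393 Q12393 (allL N12393 (tt N17807 F299440) (tt N17806 F299441) (tt N17805 F299442) (tt N25023 D39166) (tt N5973 (iv4 D18583)) (tt N25024 D39167) (tt N17695 (iv6 F300011)) (tt N17637 F299443))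
theorem Q12395 : ∀ i, i < 12395 → P i := stepQ 12394 Q12394 (allL N12394 (tt N17823 (iv1 F299683)) (tt N17822 (iv0 F299682)) (tt N17817 (iv2 F299685)) (tt N24416 F297561) (tt N25025 D39169) (tt N5973 (iv5 D18584)) (tt N25026 D39170) (tt N17638 F297562))
theorem Q12396 : ∀ i, i < 12396 → P i := stepQ 12395 Q12395 (allL N12395 (tt N17820 F298649) (tt N5974 (iv0 D18586)) (tt N25003 (iv2 F117427)) (tt N17984 F298650) (tt N25027 D39177) (tt N25028 D39178) (tt N25029 D39179) (tt N24975 F298651))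
theorem Q12397 : ∀ i, i < 12397 → P i := stepQ 12396 Q12396 (allL N12396 (tt N5974 (iv1 D18587)) (tt N17820 F298652) (tt N24975 F298653) (tt N24626 F298654) (tt N25030 D39182) (tt N25031 D39183) (tt N17721 (iv6 F299937)) (tt N25003 (iv7 F117428)))
theorem Q12398 : ∀ i, i < 12398 → P i := stepQ 12397 Q12397 (allL N12397 (tt N25032 D39185) (tt N25033 D39186) (tt N25004 (iv2 F60105)) (tt N25034 D39187) (tt N5974 (iv4 D18588)) (tt N25035 D39188) (tt N11242 F29822) (tt N25036 D39189))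
theorem Q12399 : ∀ i, i < 12399 → P i := stepQ 12398 Q12398 (allL N12398 (tt N24975 F298655) (tt N25003 F60109) (tt N17820 F298656) (tt N5983 F29823) (tt N25036 (iv4 F60165)) (tt N5975 F29824) (tt N25037 D39190) (tt N5974 (iv7 D18589)))
theorem Q12400 : ∀ i, i < 12400 → P i := stepQ 12399 Q12399 (allL N12399 (tt N5978 (iv1 F29831)) (tt N5976 (iv0 D18601)) (tt N17885 F44745) (tt N25038 D39214) (tt N25039 D39215) (tt N11540 F29830) (tt N23826 (iv6 F56560)) (tt N17886 (iv7 F44748)))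
theorem Q12401 : ∀ i, i < 12401 → P i := stepQ 12400 Q12400 (allL N12400 (tt N5976 (iv1 D18602)) (tt N5978 F29833) (tt N17886 (iv2 F44750)) (tt N17823 F300686) (tt N25040 D39217) (tt N17430 F43137) (tt N6035 F43138) (tt N17885 F44746))
theorem Q12402 : ∀ i, i < 12402 → P i := stepQ 12401 Q12401 (allL N12401 (tt N23969 (iv1 F57071)) (tt N23970 (iv0 F57074)) (tt N17887 (iv2 F44752)) (tt N25041 D39218) (tt N5976 (iv4 D18603)) (tt N24019 (iv5 F57151)) (tt N24066 F300687) (tt N17890 (iv7 F44779)))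
theorem Q12403 : ∀ i, i < 12403 → P i := stepQ 12402 Q12402 (allL N12402 (tt N17685 (iv1 F120795)) (tt N17764 F120792) (tt N17741 (iv2 F120579)) (tt N22316 F190763) (tt N5977 (iv4 D18610)) (tt N19706 F327857) (tt N17960 (iv6 F300097)) (tt N17606 F299533))
theorem Q12404 : ∀ i, i < 12404 → P i := stepQ 12403 Q12403 (allL N12403 (tt N24363 (iv1 F298745)) (tt N17990 (iv0 F298744)) (tt N17742 (iv2 F120609)) (tt N5978 F29835) (tt N25042 D39240) (tt N5977 (iv5 D18611)) (tt N12372 (iv6 F29836)) (tt N17608 F297552))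
theorem Q12405 : ∀ i, i < 12405 → P i := stepQ 12404 Q12404 (allL N12404 (tt N23970 (iv1 F57075)) (tt N23969 (iv0 F57070)) (tt N17890 (iv2 F44777)) (tt N25043 D39243) (tt N5978 (iv4 D18616)) (tt N24020 (iv5 F57152)) (tt N11709 (iv6 F43480)) (tt N17887 (iv7 F44753)))
theorem Q12406 : ∀ i, i < 12406 → P i := stepQ 12405 Q12405 (allL N12405 (tt N11337 (iv1 F29847)) (tt N11356 (iv0 F43165)) (tt N12057 F29842) (tt N24682 (iv3 F117787)) (tt N22453 (iv4 F53147)) (tt N5980 (iv5 D18620)) (tt N11338 F29843) (tt N8692 (iv7 F29864)))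
theorem Q12407 : ∀ i, i < 12407 → P i := stepQ 12406 Q12406 (allL N12406 (tt N23810 F56541) (tt N17986 (iv0 F45040)) (tt N17891 (iv2 F44781)) (tt N15964 (iv3 F323157)) (tt N24010 (iv4 F57144)) (tt N18001 F45077) (tt N5980 (iv6 D18621)) (tt N24979 (iv7 F60051)))
theorem Q12408 : ∀ i, i < 12408 → P i := stepQ 12407 Q12407 (allL N12407 (tt N17679 (iv1 F121169)) (tt N17746 (iv0 F121132)) (tt N17744 F121121) (tt N5981 (iv3 D18622)) (tt N25044 D39253) (tt N12054 F29895) (tt N17849 (iv6 F301579)) (tt N17743 F121122))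
theorem Q12409 : ∀ i, i < 12409 → P i := stepQ 12408 Q12408 (allL N12408 (tt N11537 F29898) (tt N11539 (iv0 F29897)) (tt N17893 (iv2 F44786)) (tt N17849 (iv3 F301578)) (tt N24013 (iv4 F57145)) (tt N12056 F29896) (tt N5981 (iv6 D18624)) (tt N17863 (iv7 F44693)))
theorem Q12410 : ∀ i, i < 12410 → P i := stepQ 12409 Q12409 (allL N12409 (tt N17896 (iv1 F44796)) (tt N5982 (iv0 D18625)) (tt N11868 (iv2 F41785)) (tt N25045 D39255) (tt N8650 F41786) (tt N25046 D39256) (tt N25047 D39257) (tt N11872 F41787))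
theorem Q12411 : ∀ i, i < 12411 → P i := stepQ 12410 Q12410 (allL N12410 (tt N5982 (iv1 D18626)) (tt N17896 F44795) (tt N11872 (iv2 F41783)) (tt N25048 D39258) (tt N8651 F41782) (tt N25049 D39259) (tt N25050 D39260) (tt N11868 (iv7 F41784)))
theorem Q12412 : ∀ i, i < 12412 → P i := stepQ 12411 Q12411 (allL N12411 (tt N25051 D39261) (tt N25052 D39262) (tt N25053 D39263) (tt N5982 (iv3 D18627)) (tt N25034 (iv4 F60163)) (tt N25054 D39264) (tt N11243 F29899) (tt N25055 D39265))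
theorem Q12413 : ∀ i, i < 12413 → P i := stepQ 12412 Q12412 (allL N12412 (tt N25056 D39266) (tt N25057 D39267) (tt N17895 (iv2 F44792)) (tt N25054 (iv3 F60225)) (tt N21128 F315540) (tt N5982 (iv5 D18628)) (tt N25058 D39269) (tt N25059 D39270))
theorem Q12414 : ∀ i, i < 12414 → P i := stepQ 12413 Q12413 (allL N12413 (tt N11872 (iv1 F30469)) (tt N11868 (iv0 F30470)) (tt N17896 (iv2 F44793)) (tt N25055 (iv3 F60226)) (tt N5983 F29900) (tt N25059 (iv5 F60234)) (tt N25060 D39271) (tt N5982 (iv7 D18629)))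
theorem Q12415 : ∀ i, i < 12415 → P i := stepQ 12414 Q12414 (allL N12414 (tt N18001 (iv1 F45075)) (tt N17862 (iv0 F44640)) (tt N17897 (iv2 F44797)) (tt N25037 (iv3 F60166)) (tt N25060 (iv4 F60237)) (tt N12553 (iv5 F30123)) (tt N5983 (iv6 D18630)) (tt N6041 F29901))
theorem Q12416 : ∀ i, i < 12416 → P i := stepQ 12415 Q12415 (allL N12415 (tt N5984 (iv1 D18632)) (tt N17220 F42534) (tt N17102 (iv2 F42221)) (tt N10645 F29903) (tt N25061 D39272) (tt N10644 (iv5 F29902)) (tt N25062 D39273) (tt N17153 (iv7 F42377)))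
theorem Q12417 : ∀ i, i < 12417 → P i := stepQ 12416 Q12416 (allL N12416 (tt N7225 F29906) (tt N12622 (iv0 F30278)) (tt N12620 F30274) (tt N11988 F29905) (tt N5984 (iv4 D18633)) (tt N11987 (iv5 F29907)) (tt N25063 D39274) (tt N12621 (iv7 F30272)))
theorem Q12418 : ∀ i, i < 12418 → P i := stepQ 12417 Q12417 (allL N12417 (tt N25064 D39275) (tt N25065 D39276) (tt N17287 (iv2 F42686)) (tt N5986 F29908) (tt N25063 (iv4 F60244)) (tt N17280 (iv5 F42674)) (tt N5984 (iv6 D18634)) (tt N25066 D39277))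
theorem Q12419 : ∀ i, i < 12419 → P i := stepQ 12418 Q12418 (allL N12418 (tt N5987 (iv1 F29910)) (tt N5985 (iv0 D18635)) (tt N17223 F42543) (tt N25067 D39278) (tt N10551 F29909) (tt N23575 (iv5 F56160)) (tt N25068 D39279) (tt N17222 F42539))
theorem Q12420 : ∀ i, i < 12420 → P i := stepQ 12419 Q12419 (allL N12419 (tt N5985 (iv1 D18636)) (tt N5987 F29911) (tt N17222 (iv2 F42540)) (tt N24503 F58954) (tt N25069 D39280) (tt N23576 (iv5 F56161)) (tt N25070 D39281) (tt N17223 (iv7 F42542)))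
theorem Q12421 : ∀ i, i < 12421 → P i := stepQ 12420 Q12420 (allL N12420 (tt N25071 D39282) (tt N25072 D39283) (tt N17230 (iv2 F42556)) (tt N8668 F29912) (tt N12021 (iv4 F29914)) (tt N5985 (iv5 D18637)) (tt N25073 D39284) (tt N11931 F29913))
theorem Q12422 : ∀ i, i < 12422 → P i := stepQ 12421 Q12421 (allL N12421 (tt N25074 D39285) (tt N25075 D39286) (tt N17231 (iv2 F42558)) (tt N23583 (iv3 F56165)) (tt N5986 F29915) (tt N25076 D39287) (tt N5985 (iv6 D18638)) (tt N25077 D39288))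
theorem Q12423 : ∀ i, i < 12423 → P i := stepQ 12422 Q12422 (allL N12422 (tt N17234 (iv1 F42567)) (tt N5986 (iv0 D18639)) (tt N17232 (iv2 F53235)) (tt N17904 F190549) (tt N24735 F189972) (tt N25078 D39290) (tt N25079 D39291) (tt N17233 F53234))
theorem Q12424 : ∀ i, i < 12424 → P i := stepQ 12423 Q12423 (allL N12423 (tt N17233 (iv1 F42560)) (tt N17232 F42565) (tt N17234 (iv2 F42561)) (tt N25066 (iv3 F60247)) (tt N25077 (iv4 F60269)) (tt N22460 (iv5 F53176)) (tt N17228 (iv6 F42549)) (tt N5986 (iv7 D18641)))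
theorem Q12425 : ∀ i, i < 12425 → P i := stepQ 12424 Q12424 (allL N12424 (tt N24593 (iv1 F59149)) (tt N13954 (iv0 F34404)) (tt N23581 (iv2 F56163)) (tt N5987 (iv3 D18642)) (tt N23366 F55689) (tt N25080 D39292) (tt N25081 D39293) (tt N17229 (iv7 F42554)))
theorem Q12426 : ∀ i, i < 12426 → P i := stepQ 12425 Q12425 (allL N12425 (tt N25072 (iv1 F60261)) (tt N25071 F60258) (tt N11931 F29916) (tt N25080 (iv3 F60272)) (tt N25082 D39294) (tt N5987 (iv5 D18643)) (tt N25083 D39295) (tt N17230 (iv7 F42557)))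
theorem Q12427 : ∀ i, i < 12427 → P i := stepQ 12426 Q12426 (allL N12426 (tt N25084 D39296) (tt N25085 D39297) (tt N17224 (iv2 F42544)) (tt N25081 (iv3 F60277)) (tt N5988 F29917) (tt N25086 D39298) (tt N5987 (iv6 D18644)) (tt N25087 D39299))
theorem Q12428 : ∀ i, i < 12428 → P i := stepQ 12427 Q12427 (allL N12427 (tt N5988 (iv1 D18646)) (tt N17228 F42551) (tt N17226 F131601) (tt N17912 F190381) (tt N24741 F188453) (tt N25088 D39308) (tt N25089 D39309) (tt N17225 (iv7 F131612)))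
theorem Q12429 : ∀ i, i < 12429 → P i := stepQ 12428 Q12428 (allL N12428 (tt N22452 F130248) (tt N25090 D39311) (tt N17227 (iv2 F42547)) (tt N17460 (iv3 F43316)) (tt N25091 D39312) (tt N5988 (iv5 D18647)) (tt N17453 F43298) (tt N25092 D39313))
theorem Q12430 : ∀ i, i < 12430 → P i := stepQ 12429 Q12429 (allL N12429 (tt N17226 (iv1 F42546)) (tt N17225 F42550) (tt N17228 (iv2 F42548)) (tt N22493 (iv3 F53239)) (tt N25087 (iv4 F60284)) (tt N25092 (iv5 F60287)) (tt N17234 (iv6 F42564)) (tt N5988 (iv7 D18648)))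
theorem Q12431 : ∀ i, i < 12431 → P i := stepQ 12430 Q12430 (allL N12430 (tt N5993 (iv1 F29921)) (tt N5989 (iv0 D18649)) (tt N5990 (iv2 F130145)) (tt N19000 F311326) (tt N25093 D39316) (tt N18999 F311327) (tt N25094 D39318) (tt N5991 (iv7 F130151)))
theorem Q12432 : ∀ i, i < 12432 → P i := stepQ 12431 Q12431 (allL N12431 (tt N5989 (iv1 D18650)) (tt N5993 F29918) (tt N5991 F130152) (tt N25095 D39320) (tt N25096 D39321) (tt N25097 D39322) (tt N25098 D39323) (tt N5990 F130153))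
theorem Q12433 : ∀ i, i < 12433 → P i := stepQ 12432 Q12432 (allL N12432 (tt N5991 (iv1 F29922)) (tt N5990 F29923) (tt N5993 F29920) (tt N17918 (iv3 F44864)) (tt N24748 (iv4 F59391)) (tt N22733 F312166) (tt N17219 (iv6 F42525)) (tt N5989 (iv7 D18652)))
theorem Q12434 : ∀ i, i < 12434 → P i := stepQ 12433 Q12433 (allL N12433 (tt N25099 D39334) (tt N25062 (iv0 F232469)) (tt N25100 D39336) (tt N5990 (iv3 D18654)) (tt N19057 F307940) (tt N25101 D39338) (tt N19056 (iv6 F309867)) (tt N25095 (iv7 F130154)))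
theorem Q12435 : ∀ i, i < 12435 → P i := stepQ 12434 Q12434 (allL N12434 (tt N25102 D39341) (tt N25070 F155154) (tt N25093 (iv2 F130147)) (tt N18817 F308933) (tt N5990 (iv4 D18655)) (tt N25103 D39344) (tt N18813 (iv6 F311090)) (tt N25096 (iv7 F130156)))
theorem Q12436 : ∀ i, i < 12436 → P i := stepQ 12435 Q12435 (allL N12435 (tt N25104 D39347) (tt N25105 D39348) (tt N18999 F311325) (tt N25101 (iv3 F60306)) (tt N25106 D39349) (tt N5990 (iv5 D18656)) (tt N25107 D39350) (tt N25097 (iv7 F130158)))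
theorem Q12437 : ∀ i, i < 12437 → P i := stepQ 12436 Q12436 (allL N12436 (tt N25089 (iv1 F113748)) (tt N23930 F301361) (tt N25094 (iv2 F130144)) (tt N19056 F312062) (tt N18813 F312063) (tt N25108 D39354) (tt N5990 (iv6 D18657)) (tt N25109 D39355))
theorem Q12438 : ∀ i, i < 12438 → P i := stepQ 12437 Q12437 (allL N12437 (tt N9915 F311248) (tt N9912 F311249) (tt N19012 F311250) (tt N5991 (iv3 D18659)) (tt N9524 F311251) (tt N9974 F311252) (tt N25110 D39362) (tt N19000 F311253))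
theorem Q12439 : ∀ i, i < 12439 → P i := stepQ 12438 Q12438 (allL N12438 (tt N25070 F155155) (tt N25102 F60313) (tt N25096 (iv2 F130155)) (tt N25111 D39363) (tt N5991 (iv4 D18660)) (tt N25112 D39364) (tt N25113 D39365) (tt N25093 (iv7 F130148)))
theorem Q12440 : ∀ i, i < 12440 → P i := stepQ 12439 Q12439 (allL N12439 (tt N25105 (iv1 F60314)) (tt N25104 F60317) (tt N25097 (iv2 F130157)) (tt N9974 F311246) (tt N25114 D39366) (tt N5991 (iv5 D18661)) (tt N20511 (iv6 F313603)) (tt N18999 F311247))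
theorem Q12441 : ∀ i, i < 12441 → P i := stepQ 12440 Q12440 (allL N12440 (tt N25115 D39368) (tt N25079 (iv0 F120250)) (tt N25098 (iv2 F130159)) (tt N25110 (iv3 F60322)) (tt N25113 (iv4 F60323)) (tt N25116 D39370) (tt N5991 (iv6 D18662)) (tt N25117 D39371))
theorem Q12442 : ∀ i, i < 12442 → P i := stepQ 12441 Q12441 (allL N12441 (tt N25118 D39382) (tt N25119 D39383) (tt N22736 (iv2 F316079)) (tt N25120 D39384) (tt N5992 (iv4 D18665)) (tt N25121 D39385) (tt N17263 (iv6 F42606)) (tt N22734 (iv7 F316077)))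
theorem Q12443 : ∀ i, i < 12443 → P i := stepQ 12442 Q12442 (allL N12442 (tt N17940 (iv1 F44904)) (tt N5994 (iv0 D18672)) (tt N17939 (iv2 F199640)) (tt N9912 F313135) (tt N25122 D39390) (tt N9911 F313136) (tt N17297 (iv6 F199865)) (tt N17067 F199835))
theorem Q12444 : ∀ i, i < 12444 → P i := stepQ 12443 Q12443 (allL N12443 (tt N17939 (iv1 F44905)) (tt N17067 F199843) (tt N5994 (iv2 D18674)) (tt N17932 (iv3 F44875)) (tt N25123 D39398) (tt N25124 D39399) (tt N25125 D39400) (tt N17940 (iv7 F44903)))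
theorem Q12445 : ∀ i, i < 12445 → P i := stepQ 12444 Q12444 (allL N12444 (tt N25126 D39401) (tt N22463 F155141) (tt N25123 (iv2 F60331)) (tt N12660 (iv3 F30365)) (tt N5994 (iv4 D18675)) (tt N23823 F321959) (tt N25127 D39404) (tt N17941 (iv7 F44907)))
theorem Q12446 : ∀ i, i < 12446 → P i := stepQ 12445 Q12445 (allL N12445 (tt N11146 F311243) (tt N25128 D39406) (tt N25124 (iv2 F60332)) (tt N5995 F29934) (tt N25129 D39407) (tt N5994 (iv5 D18676)) (tt N25130 D39408) (tt N17942 (iv7 F44909)))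
theorem Q12447 : ∀ i, i < 12447 → P i := stepQ 12446 Q12446 (allL N12446 (tt N25131 D39409) (tt N25132 D39410) (tt N25125 (iv2 F60333)) (tt N5996 F29935) (tt N25127 (iv4 F60334)) (tt N25133 D39411) (tt N5994 (iv6 D18677)) (tt N25134 D39412))
theorem Q12448 : ∀ i, i < 12448 → P i := stepQ 12447 Q12447 (allL N12447 (tt N5998 (iv1 F29951)) (tt N5995 (iv0 D18679)) (tt N17935 F44887) (tt N25135 D39413) (tt N25136 D39414) (tt N10787 (iv5 F29946)) (tt N25137 D39415) (tt N17936 (iv7 F44890)))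
theorem Q12449 : ∀ i, i < 12449 → P i := stepQ 12448 Q12448 (allL N12448 (tt N5995 (iv1 D18680)) (tt N5998 F29948) (tt N17936 F44891) (tt N25105 (iv3 F110344)) (tt N25138 D39417) (tt N25139 D39418) (tt N22545 F60350) (tt N17935 F44888))
theorem Q12450 : ∀ i, i < 12450 → P i := stepQ 12449 Q12449 (allL N12449 (tt N25140 D39419) (tt N25141 D39420) (tt N17937 (iv2 F44892)) (tt N25142 D39421) (tt N5995 (iv4 D18681)) (tt N23076 (iv5 F54947)) (tt N25143 D39422) (tt N17944 (iv7 F44912)))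
theorem Q12451 : ∀ i, i < 12451 → P i := stepQ 12450 Q12450 (allL N12450 (tt N25144 D39423) (tt N25145 D39424) (tt N17938 (iv2 F44894)) (tt N25130 (iv3 F60335)) (tt N25143 (iv4 F60357)) (tt N25146 D39425) (tt N5995 (iv6 D18682)) (tt N25147 D39426))
theorem Q12452 : ∀ i, i < 12452 → P i := stepQ 12451 Q12451 (allL N12451 (tt N8526 F29952) (tt N11326 (iv0 F29954)) (tt N11324 F30422) (tt N25133 (iv3 F60336)) (tt N25148 D39428) (tt N5996 (iv5 D18686)) (tt N25146 (iv6 F60359)) (tt N11323 (iv7 F30427)))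
theorem Q12453 : ∀ i, i < 12453 → P i := stepQ 12452 Q12452 (allL N12452 (tt N12495 F30423) (tt N12496 F30424) (tt N12661 F300053) (tt N25134 (iv3 F60338)) (tt N6099 F30425) (tt N11323 F30426) (tt N17946 (iv6 F44919)) (tt N5996 (iv7 D18687)))
theorem Q12454 : ∀ i, i < 12454 → P i := stepQ 12453 Q12453 (allL N12453 (tt N5997 (iv1 D18690)) (tt N17932 F44879) (tt N17931 F133070) (tt N25099 F133058) (tt N25149 D39436) (tt N25150 D39437) (tt N17306 F210889) (tt N17107 (iv7 F232342)))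
theorem Q12455 : ∀ i, i < 12455 → P i := stepQ 12454 Q12454 (allL N12454 (tt N17107 (iv1 F232341)) (tt N17931 F44874) (tt N5997 (iv2 D18691)) (tt N17940 (iv3 F44902)) (tt N25151 D39439) (tt N25152 D39440) (tt N25153 D39441) (tt N17932 (iv7 F44876)))
theorem Q12456 : ∀ i, i < 12456 → P i := stepQ 12455 Q12455 (allL N12455 (tt N22429 F199746) (tt N22440 (iv0 F304126)) (tt N25151 (iv2 F60366)) (tt N12661 (iv3 F30539)) (tt N5997 (iv4 D18692)) (tt N25154 D39444) (tt N25155 D39445) (tt N17933 (iv7 F44880)))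
theorem Q12457 : ∀ i, i < 12457 → P i := stepQ 12456 Q12456 (allL N12456 (tt N25156 D39446) (tt N25157 D39447) (tt N25152 (iv2 F60367)) (tt N5998 F29961) (tt N25158 D39448) (tt N5997 (iv5 D18693)) (tt N25159 D39449) (tt N17934 (iv7 F44882)))
theorem Q12458 : ∀ i, i < 12458 → P i := stepQ 12457 Q12457 (allL N12457 (tt N25160 D39450) (tt N25161 D39451) (tt N25153 (iv2 F60368)) (tt N5999 F29962) (tt N25155 (iv4 F60369)) (tt N20635 (iv5 F318388)) (tt N5997 (iv6 D18694)) (tt N25155 (iv7 F304130)))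
theorem Q12459 : ∀ i, i < 12459 → P i := stepQ 12458 Q12458 (allL N12458 (tt N25141 (iv1 F60355)) (tt N25140 F60354) (tt N17944 (iv2 F44911)) (tt N25162 D39454) (tt N5998 (iv4 D18695)) (tt N23073 (iv5 F54944)) (tt N25163 D39455) (tt N17937 (iv7 F44893)))
theorem Q12460 : ∀ i, i < 12460 → P i := stepQ 12459 Q12459 (allL N12459 (tt N16837 F316185) (tt N21056 F316186) (tt N17945 (iv2 F44913)) (tt N25159 (iv3 F60370)) (tt N25163 (iv4 F60373)) (tt N20636 (iv5 F316834)) (tt N5998 (iv6 D18696)) (tt N21054 (iv7 F318336)))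
theorem Q12461 : ∀ i, i < 12461 → P i := stepQ 12460 Q12460 (allL N12460 (tt N17946 (iv1 F44921)) (tt N5999 (iv0 D18697)) (tt N12055 F30362) (tt N25115 (iv3 F130163)) (tt N6027 F30363) (tt N17145 (iv5 F42330)) (tt N17304 F42734) (tt N12061 F30364))
theorem Q12462 : ∀ i, i < 12462 → P i := stepQ 12461 Q12461 (allL N12461 (tt N12061 (iv1 F30350)) (tt N12055 F30351) (tt N17946 (iv2 F44917)) (tt N25155 (iv3 F304129)) (tt N11967 F30344) (tt N16743 (iv5 F313837)) (tt N12661 F301366) (tt N5999 (iv7 D18700)))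
theorem Q12463 : ∀ i, i < 12463 → P i := stepQ 12462 Q12462 (allL N12462 (tt N9911 F311892) (tt N22055 F131007) (tt N22730 F311893) (tt N6000 (iv3 D18702)) (tt N25164 D39465) (tt N25165 D39466) (tt N10085 F318406) (tt N17951 (iv7 F51314)))
theorem Q12464 : ∀ i, i < 12464 → P i := stepQ 12463 Q12463 (allL N12463 (tt N25166 D39468) (tt N12657 (iv0 F43243)) (tt N17948 (iv2 F51310)) (tt N25167 D39469) (tt N6000 (iv4 D18703)) (tt N23070 (iv5 F54942)) (tt N25168 D39470) (tt N17952 (iv7 F51311)))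
theorem Q12465 : ∀ i, i < 12465 → P i := stepQ 12464 Q12464 (allL N12464 (tt N22029 (iv1 F52387)) (tt N17093 (iv0 F42202)) (tt N17949 (iv2 F51306)) (tt N25165 (iv3 F60383)) (tt N11592 F29965) (tt N6000 (iv5 D18704)) (tt N22152 F52546) (tt N17365 (iv7 F51307)))
theorem Q12466 : ∀ i, i < 12466 → P i := stepQ 12465 Q12465 (allL N12465 (tt N25169 D39471) (tt N25170 D39472) (tt N17950 F51313) (tt N10085 F316690) (tt N25168 (iv4 F60389)) (tt N21694 F51717) (tt N6000 (iv6 D18705)) (tt N25171 D39473))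
theorem Q12467 : ∀ i, i < 12467 → P i := stepQ 12466 Q12466 (allL N12466 (tt N21922 F232408) (tt N25150 F200371) (tt N25172 D39476) (tt N6001 (iv3 D18707)) (tt N25173 D39477) (tt N22872 F54559) (tt N25174 D39478) (tt N17947 F51302))
theorem Q12468 : ∀ i, i < 12468 → P i := stepQ 12467 Q12467 (allL N12467 (tt N12657 (iv1 F30333)) (tt N25166 F60387) (tt N17952 F51312) (tt N25175 D39479) (tt N6001 (iv4 D18708)) (tt N23068 (iv5 F54939)) (tt N23698 F311428) (tt N17948 F51303))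
theorem Q12469 : ∀ i, i < 12469 → P i := stepQ 12468 Q12468 (allL N12468 (tt N25176 D39481) (tt N25177 D39482) (tt N17953 (iv2 F51315)) (tt N25174 (iv3 F60390)) (tt N23698 F311426) (tt N22489 F311427) (tt N6001 (iv6 D18709)) (tt N25178 D39483))
theorem Q12470 : ∀ i, i < 12470 → P i := stepQ 12469 Q12469 (allL N12469 (tt N17958 (iv1 F44937)) (tt N6002 (iv0 D18710)) (tt N17954 F46257) (tt N7431 (iv3 F315103)) (tt N7436 F312644) (tt N23106 (iv5 F54989)) (tt N9030 (iv6 F315104)) (tt N17955 F46255))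
theorem Q12471 : ∀ i, i < 12471 → P i := stepQ 12470 Q12470 (allL N12470 (tt N6002 (iv1 D18711)) (tt N17958 F44936) (tt N17955 (iv2 F46256)) (tt N25179 D39486) (tt N18622 F46263) (tt N23095 (iv5 F54973)) (tt N23704 F313767) (tt N17954 (iv7 F46258)))
theorem Q12472 : ∀ i, i < 12472 → P i := stepQ 12471 Q12471 (allL N12471 (tt N25180 D39488) (tt N25181 D39489) (tt N25182 D39490) (tt N6002 (iv3 D18712)) (tt N25120 (iv4 F60326)) (tt N25183 D39491) (tt N17326 (iv6 F42791)) (tt N25184 D39492))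
theorem Q12473 : ∀ i, i < 12473 → P i := stepQ 12472 Q12472 (allL N12472 (tt N23079 (iv1 F54953)) (tt N23078 F54952) (tt N17957 (iv2 F44930)) (tt N25183 (iv3 F60392)) (tt N17422 (iv4 F43100)) (tt N6002 (iv5 D18713)) (tt N25185 D39493) (tt N17421 F43098))
theorem Q12474 : ∀ i, i < 12474 → P i := stepQ 12473 Q12473 (allL N12473 (tt N17955 (iv1 F44928)) (tt N17954 F44927) (tt N17958 (iv2 F44933)) (tt N25184 (iv3 F60393)) (tt N6003 F29967) (tt N17421 (iv5 F43097)) (tt N25186 D39494) (tt N6002 (iv7 D18714)))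
theorem Q12475 : ∀ i, i < 12475 → P i := stepQ 12474 Q12474 (allL N12474 (tt N21471 (iv1 F51352)) (tt N21470 F51351) (tt N17959 (iv2 F44938)) (tt N22735 F318263) (tt N25186 (iv4 F60395)) (tt N16978 (iv5 F41680)) (tt N6003 (iv6 D18715)) (tt N16981 (iv7 F41688)))
theorem Q12476 : ∀ i, i < 12476 → P i := stepQ 12475 Q12475 (allL N12475 (tt N9525 (iv1 F308559)) (tt N19030 (iv0 F308528)) (tt N17975 (iv2 F61089)) (tt N25187 D39510) (tt N6004 (iv4 D18718)) (tt N9332 (iv5 F308560)) (tt N24236 (iv6 F116767)) (tt N13826 F116728))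
theorem Q12477 : ∀ i, i < 12477 → P i := stepQ 12476 Q12476 (allL N12476 (tt N15327 F310460) (tt N13771 (iv0 F59766)) (tt N6006 F29970) (tt N25188 D39538) (tt N6005 (iv4 D18726)) (tt N19481 F310461) (tt N17809 F296871) (tt N17976 (iv7 F44992)))
theorem Q12478 : ∀ i, i < 12478 → P i := stepQ 12477 Q12477 (allL N12477 (tt N12010 F296451) (tt N12484 F29983) (tt N6007 F29971) (tt N8729 (iv3 F297699)) (tt N12629 (iv4 F296502)) (tt N6005 (iv5 D18727)) (tt N24323 (iv6 F116765)) (tt N8771 F296452))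
theorem Q12479 : ∀ i, i < 12479 → P i := stepQ 12478 Q12478 (allL N12478 (tt N17976 (iv1 F44994)) (tt N6006 (iv0 D18729)) (tt N15327 F311362) (tt N25189 D39543) (tt N13772 F59760) (tt N15324 F311363) (tt N24931 (iv6 F59953)) (tt N13771 (iv7 F59761)))
theorem Q12480 : ∀ i, i < 12480 → P i := stepQ 12479 Q12479 (allL N12479 (tt N25190 D39554) (tt N6085 F296499) (tt N17809 F296500) (tt N19488 F308000) (tt N6008 F29976) (tt N19485 (iv5 F309994)) (tt N6006 (iv6 D18733)) (tt N12482 (iv7 F29979)))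
theorem Q12481 : ∀ i, i < 12481 → P i := stepQ 12480 Q12480 (allL N12480 (tt N8771 (iv1 F296095)) (tt N6007 (iv0 D18734)) (tt N12010 (iv2 F296082)) (tt N11984 (iv3 F296092)) (tt N25191 D39559) (tt N12742 (iv5 F296096)) (tt N6642 F295955) (tt N12484 (iv7 F116947)))
theorem Q12482 : ∀ i, i < 12482 → P i := stepQ 12481 Q12481 (allL N12481 (tt N6007 (iv1 D18735)) (tt N8771 F296453) (tt N12484 (iv2 F116946)) (tt N8846 F296454) (tt N25192 D39564) (tt N22229 F308526) (tt N8809 (iv6 F116825)) (tt N12010 F296455))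
theorem Q12483 : ∀ i, i < 12483 → P i := stepQ 12482 Q12482 (allL N12482 (tt N12593 F296476) (tt N12631 (iv0 F296503)) (tt N12629 (iv2 F296501)) (tt N25193 D39569) (tt N6007 (iv4 D18736)) (tt N25194 D39570) (tt N25195 D39571) (tt N12479 F29979))
theorem Q12484 : ∀ i, i < 12484 → P i := stepQ 12483 Q12483 (allL N12483 (tt N12353 (iv1 F116809)) (tt N24258 (iv0 F116806)) (tt N24323 (iv2 F116762)) (tt N6016 F29980) (tt N25195 (iv4 F60445)) (tt N8849 F29981) (tt N6007 (iv6 D18737)) (tt N8849 F29982))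
theorem Q12485 : ∀ i, i < 12485 → P i := stepQ 12484 Q12484 (allL N12484 (tt N12477 (iv1 F29983)) (tt N6008 (iv0 D18738)) (tt N12481 F116946) (tt N24207 (iv3 F296462)) (tt N25196 D39576) (tt N23087 F113903) (tt N17870 F116926) (tt N12480 F116947))
theorem Q12486 : ∀ i, i < 12486 → P i := stepQ 12485 Q12485 (allL N12485 (tt N25197 D39584) (tt N25198 D39585) (tt N25199 D39586) (tt N6009 (iv3 D18741)) (tt N25200 D39587) (tt N25201 D39588) (tt N14870 (iv6 F37324)) (tt N6096 (iv7 F30057)))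
theorem Q12487 : ∀ i, i < 12487 → P i := stepQ 12486 Q12486 (allL N12486 (tt N18622 (iv1 F46259)) (tt N7436 F312259) (tt N17965 (iv2 F44962)) (tt N25201 (iv3 F60459)) (tt N25202 D39589) (tt N6009 (iv5 D18743)) (tt N25203 D39590) (tt N6097 (iv7 F30058)))
theorem Q12488 : ∀ i, i < 12488 → P i := stepQ 12487 Q12487 (allL N12487 (tt N11108 (iv1 F310501)) (tt N11116 (iv0 F310502)) (tt N6010 (iv2 D18752)) (tt N17967 (iv3 F44968)) (tt N9363 F309003) (tt N9441 (iv5 F309240)) (tt N25204 D39602) (tt N17979 (iv7 F45005)))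
theorem Q12489 : ∀ i, i < 12489 → P i := stepQ 12488 Q12488 (allL N12488 (tt N25205 D39607) (tt N25206 D39608) (tt N25204 (iv2 F60472)) (tt N6012 F29988) (tt N19488 F308805) (tt N20942 (iv5 F199739)) (tt N6010 (iv6 D18754)) (tt N12498 (iv7 F30024)))
theorem Q12490 : ∀ i, i < 12490 → P i := stepQ 12489 Q12489 (allL N12489 (tt N6024 (iv1 F29989)) (tt N6011 (iv0 D18755)) (tt N17969 F44977) (tt N25207 D39610) (tt N25208 D39611) (tt N10679 F30060) (tt N25209 D39612) (tt N17970 (iv7 F44980)))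
theorem Q12491 : ∀ i, i < 12491 → P i := stepQ 12490 Q12490 (allL N12490 (tt N6011 (iv1 D18756)) (tt N6024 F29990) (tt N17970 F44981) (tt N25210 D39613) (tt N25211 D39614) (tt N23996 (iv5 F57132)) (tt N21856 F57135) (tt N17969 F44978))
theorem Q12492 : ∀ i, i < 12492 → P i := stepQ 12491 Q12491 (allL N12491 (tt N25136 (iv1 F60342)) (tt N25138 (iv0 F60344)) (tt N17971 (iv2 F44982)) (tt N18789 F313981) (tt N6011 (iv4 D18757)) (tt N23079 F54955) (tt N25212 D39616) (tt N17981 (iv7 F45013)))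
theorem Q12493 : ∀ i, i < 12493 → P i := stepQ 12492 Q12492 (allL N12492 (tt N25213 D39617) (tt N25214 D39618) (tt N17972 (iv2 F44984)) (tt N18802 F313982) (tt N25212 (iv4 F60485)) (tt N25215 D39619) (tt N6011 (iv6 D18758)) (tt N25216 D39620))
theorem Q12494 : ∀ i, i < 12494 → P i := stepQ 12493 Q12493 (allL N12493 (tt N6012 (iv1 D18760)) (tt N8845 F29992) (tt N11824 (iv2 F298435)) (tt N25217 D39621) (tt N8561 F298238) (tt N23094 (iv5 F54971)) (tt N8560 F298239) (tt N11864 F30431))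
theorem Q12495 : ∀ i, i < 12495 → P i := stepQ 12494 Q12494 (allL N12494 (tt N10672 F30059) (tt N21527 F51454) (tt N12519 (iv2 F30066)) (tt N20942 F199788) (tt N25218 D39622) (tt N6012 (iv5 D18761)) (tt N25215 (iv6 F60486)) (tt N12499 (iv7 F30025)))
theorem Q12496 : ∀ i, i < 12496 → P i := stepQ 12495 Q12495 (allL N12495 (tt N8832 F29997) (tt N12452 (iv0 F30423)) (tt N11827 F298686) (tt N25219 D39628) (tt N6013 (iv4 D18763)) (tt N25220 D39629) (tt N8563 F298687) (tt N10983 (iv7 F42189)))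
theorem Q12497 : ∀ i, i < 12497 → P i := stepQ 12496 Q12496 (allL N12496 (tt N12452 (iv1 F30424)) (tt N8832 F30010) (tt N10983 (iv2 F42187)) (tt N25221 D39635) (tt N6014 (iv4 D18766)) (tt N25222 D39636) (tt N8453 (iv6 F42642)) (tt N11827 F298703))
theorem Q12498 : ∀ i, i < 12498 → P i := stepQ 12497 Q12497 (allL N12497 (tt N8534 (iv1 F30017)) (tt N8530 (iv0 F30014)) (tt N11335 F30011) (tt N24855 (iv3 F117871)) (tt N25139 (iv4 F60348)) (tt N6014 (iv5 D18767)) (tt N11348 F30012) (tt N8696 F30013))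
theorem Q12499 : ∀ i, i < 12499 → P i := stepQ 12498 Q12498 (allL N12498 (tt N25223 D39639) (tt N25224 D39640) (tt N25225 D39641) (tt N6015 (iv3 D18770)) (tt N25193 (iv4 F60442)) (tt N21118 (iv5 F199845)) (tt N25226 D39643) (tt N12488 F30024))
theorem Q12500 : ∀ i, i < 12500 → P i := stepQ 12499 Q12499 (allL N12499 (tt N21812 (iv1 F51953)) (tt N10507 F30056) (tt N17974 (iv2 F44986)) (tt N21118 F199875) (tt N23078 (iv4 F54951)) (tt N6015 (iv5 D18771)) (tt N25227 D39644) (tt N12494 F30025))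
theorem Q12501 : ∀ i, i < 12501 → P i := stepQ 12500 Q12500 (allL N12500 (tt N10629 (iv1 F41944)) (tt N11969 (iv0 F41733)) (tt N12517 (iv2 F30061)) (tt N25226 (iv3 F60533)) (tt N6016 F30026) (tt N16739 (iv5 F315177)) (tt N6015 (iv6 D18772)) (tt N8852 F30027))
theorem Q12502 : ∀ i, i < 12502 → P i := stepQ 12501 Q12501 (allL N12501 (tt N24350 (iv1 F117232)) (tt N17796 (iv0 F298958)) (tt N17960 (iv2 F61276)) (tt N25228 D39684) (tt N6018 (iv4 D18781)) (tt N25229 D39685) (tt N17741 F298947) (tt N17612 F117183))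
theorem Q12503 : ∀ i, i < 12503 → P i := stepQ 12502 Q12502 (allL N12502 (tt N17842 (iv1 F91430)) (tt N17961 F44952) (tt N6020 F30031) (tt N25230 D39693) (tt N6019 (iv4 D18784)) (tt N25231 D39694) (tt N25232 D39695) (tt N17813 (iv7 F300020)))
theorem Q12504 : ∀ i, i < 12504 → P i := stepQ 12503 Q12503 (allL N12503 (tt N17722 (iv1 F299522)) (tt N12053 (iv0 F301282)) (tt N6022 F30035) (tt N17977 (iv3 F44996)) (tt N25232 (iv4 F60568)) (tt N17697 (iv5 F299874)) (tt N6019 (iv6 D18786)) (tt N17697 (iv7 F299875)))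
theorem Q12505 : ∀ i, i < 12505 → P i := stepQ 12504 Q12504 (allL N12504 (tt N6020 (iv1 D18788)) (tt N17813 (iv0 F300017)) (tt N17961 (iv2 F91426)) (tt N25233 D39706) (tt N25234 D39707) (tt N25235 D39708) (tt N17738 F298956) (tt N17842 (iv7 F91158)))
theorem Q12506 : ∀ i, i < 12506 → P i := stepQ 12505 Q12505 (allL N12505 (tt N21595 (iv1 F232490)) (tt N25236 D39711) (tt N25237 D39712) (tt N6020 (iv3 D18789)) (tt N6023 F30036) (tt N25238 D39713) (tt N25239 D39714) (tt N17962 (iv7 F44955)))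
theorem Q12507 : ∀ i, i < 12507 → P i := stepQ 12506 Q12506 (allL N12506 (tt N25240 D39715) (tt N25241 D39716) (tt N25231 (iv2 F60566)) (tt N25238 (iv3 F60584)) (tt N25242 D39717) (tt N6020 (iv5 D18790)) (tt N25243 D39718) (tt N17963 (iv7 F44956)))
theorem Q12508 : ∀ i, i < 12508 → P i := stepQ 12507 Q12507 (allL N12507 (tt N25244 D39719) (tt N25245 D39720) (tt N25232 (iv2 F60567)) (tt N25239 (iv3 F60585)) (tt N6022 F30037) (tt N25246 D39721) (tt N6020 (iv6 D18791)) (tt N17816 F302113))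
theorem Q12509 : ∀ i, i < 12509 → P i := stepQ 12508 Q12508 (allL N12508 (tt N25247 D39733) (tt N23557 F300012) (tt N8772 F300013) (tt N25248 D39735) (tt N6021 (iv4 D18794)) (tt N25249 D39736) (tt N8841 F30038) (tt N8774 F300014))
theorem Q12510 : ∀ i, i < 12510 → P i := stepQ 12509 Q12509 (allL N12509 (tt N6022 (iv1 D18796)) (tt N17697 (iv0 F299872)) (tt N12053 (iv2 F301283)) (tt N12133 F298887) (tt N25250 D39744) (tt N8690 (iv5 F117160)) (tt N17839 F117154) (tt N17722 (iv7 F299523)))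
theorem Q12511 : ∀ i, i < 12511 → P i := stepQ 12510 Q12510 (allL N12510 (tt N6023 (iv1 D18799)) (tt N17967 F44972) (tt N17966 F131838) (tt N25251 D39753) (tt N25252 D39754) (tt N15311 F312689) (tt N18617 F184584) (tt N17018 F155118))
theorem Q12512 : ∀ i, i < 12512 → P i := stepQ 12511 Q12511 (allL N12511 (tt N17018 F155112) (tt N17966 F44967) (tt N6023 (iv2 D18800)) (tt N17979 (iv3 F45004)) (tt N25237 (iv4 F60583)) (tt N22666 (iv5 F311550)) (tt N25253 D39758) (tt N17967 (iv7 F44969)))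
theorem Q12513 : ∀ i, i < 12513 → P i := stepQ 12512 Q12512 (allL N12512 (tt N25254 D39759) (tt N25255 D39760) (tt N22666 F313976) (tt N6024 F30042) (tt N25256 D39761) (tt N6023 (iv5 D18801)) (tt N25257 D39762) (tt N17968 (iv7 F44974)))
theorem Q12514 : ∀ i, i < 12514 → P i := stepQ 12513 Q12513 (allL N12513 (tt N25258 D39763) (tt N25259 D39764) (tt N25253 (iv2 F60600)) (tt N6025 F30043) (tt N25239 (iv4 F60586)) (tt N25260 D39765) (tt N6023 (iv6 D18802)) (tt N25261 D39766))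
theorem Q12515 : ∀ i, i < 12515 → P i := stepQ 12514 Q12514 (allL N12514 (tt N25138 (iv1 F60345)) (tt N25136 (iv0 F60341)) (tt N17981 (iv2 F45012)) (tt N25262 D39767) (tt N6024 (iv4 D18803)) (tt N23078 (iv5 F54950)) (tt N25263 D39768) (tt N17971 (iv7 F44983)))
theorem Q12516 : ∀ i, i < 12516 → P i := stepQ 12515 Q12515 (allL N12515 (tt N10017 F316869) (tt N21861 (iv0 F52046)) (tt N17982 (iv2 F45014)) (tt N25257 (iv3 F60601)) (tt N25263 (iv4 F60605)) (tt N25264 D39770) (tt N6024 (iv6 D18804)) (tt N25265 D39771))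
theorem Q12517 : ∀ i, i < 12517 → P i := stepQ 12516 Q12516 (allL N12516 (tt N10079 F315190) (tt N8184 F315191) (tt N10077 (iv2 F317303)) (tt N25260 (iv3 F60602)) (tt N14797 (iv4 F317413)) (tt N6025 (iv5 D18807)) (tt N25264 (iv6 F60606)) (tt N10078 (iv7 F317307)))
theorem Q12518 : ∀ i, i < 12518 → P i := stepQ 12517 Q12517 (allL N12517 (tt N11687 (iv1 F41738)) (tt N17595 (iv0 F43883)) (tt N12500 F30061) (tt N25261 (iv3 F60603)) (tt N6028 F30062) (tt N10078 (iv5 F317306)) (tt N8845 F30063) (tt N6025 (iv7 D18808)))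
theorem Q12519 : ∀ i, i < 12519 → P i := stepQ 12518 Q12518 (allL N12518 (tt N25266 D39773) (tt N25267 D39774) (tt N25268 D39775) (tt N6026 (iv3 D18809)) (tt N25248 (iv4 F60591)) (tt N25269 D39776) (tt N8843 F30065) (tt N17973 (iv7 F44985)))
theorem Q12520 : ∀ i, i < 12520 → P i := stepQ 12519 Q12519 (allL N12519 (tt N10507 F30443) (tt N21812 F51952) (tt N12494 F30066) (tt N25269 (iv3 F60611)) (tt N23079 (iv4 F54954)) (tt N6026 (iv5 D18810)) (tt N25270 D39777) (tt N17974 (iv7 F44987)))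
theorem Q12521 : ∀ i, i < 12521 → P i := stepQ 12520 Q12520 (allL N12520 (tt N17996 (iv1 F45067)) (tt N17995 F45066) (tt N17983 (iv2 F45018)) (tt N25271 D39782) (tt N6029 (iv4 D18813)) (tt N21438 (iv5 F51195)) (tt N23110 (iv6 F54996)) (tt N6036 F30071))
theorem Q12522 : ∀ i, i < 12522 → P i := stepQ 12521 Q12521 (allL N12521 (tt N24931 F121722) (tt N11850 F296888) (tt N24237 F126038) (tt N18610 (iv3 F46221)) (tt N6030 (iv4 D18823)) (tt N25272 D39798) (tt N25273 D39799) (tt N17987 (iv7 F45047)))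
theorem Q12523 : ∀ i, i < 12523 → P i := stepQ 12522 Q12522 (allL N12522 (tt N24957 F126039) (tt N25274 D39801) (tt N24238 F126040) (tt N6031 F30080) (tt N25275 D39802) (tt N6030 (iv5 D18824)) (tt N25276 D39803) (tt N17988 (iv7 F45049)))
theorem Q12524 : ∀ i, i < 12524 → P i := stepQ 12523 Q12523 (allL N12523 (tt N17701 F297691) (tt N17700 F297692) (tt N17703 F297693) (tt N6032 F30081) (tt N25273 (iv4 F60628)) (tt N23428 (iv5 F55886)) (tt N6030 (iv6 D18825)) (tt N12667 F297694))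
theorem Q12525 : ∀ i, i < 12525 → P i := stepQ 12524 Q12524 (allL N12524 (tt N6031 (iv1 D18833)) (tt N6033 F30088) (tt N17984 (iv2 F45035)) (tt N24878 (iv3 F117756)) (tt N23939 (iv4 F301332)) (tt N11338 (iv5 F30090)) (tt N18001 F45078) (tt N12062 F30089))
theorem Q12526 : ∀ i, i < 12526 → P i := stepQ 12525 Q12525 (allL N12525 (tt N24206 (iv1 F57699)) (tt N25277 D39808) (tt N17985 (iv2 F45037)) (tt N24821 (iv3 F319786)) (tt N6031 (iv4 D18834)) (tt N24816 F317563) (tt N25278 D39811) (tt N17989 (iv7 F45052)))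
theorem Q12527 : ∀ i, i < 12527 → P i := stepQ 12526 Q12526 (allL N12526 (tt N17891 F44783) (tt N24979 (iv0 F60052)) (tt N17986 (iv2 F45039)) (tt N25276 (iv3 F60629)) (tt N25278 (iv4 F60638)) (tt N23430 (iv5 F55893)) (tt N6031 (iv6 D18835)) (tt N23810 (iv7 F56540)))
theorem Q12528 : ∀ i, i < 12528 → P i := stepQ 12527 Q12527 (allL N12527 (tt N25277 (iv1 F60633)) (tt N24206 (iv0 F57698)) (tt N17989 (iv2 F45051)) (tt N25279 D39835) (tt N6033 (iv4 D18848)) (tt N18866 F318675) (tt N18867 (iv6 F320830)) (tt N17985 (iv7 F45038)))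
theorem Q12529 : ∀ i, i < 12529 → P i := stepQ 12528 Q12528 (allL N12528 (tt N24241 F116793) (tt N13832 F116794) (tt N24239 (iv2 F116814)) (tt N6034 (iv3 D18852)) (tt N25280 D39840) (tt N23091 (iv5 F54967)) (tt N25281 D39841) (tt N17993 (iv7 F45060)))
theorem Q12530 : ∀ i, i < 12530 → P i := stepQ 12529 Q12529 (allL N12529 (tt N23769 (iv1 F56481)) (tt N11678 F45056) (tt N17991 (iv2 F45054)) (tt N22989 (iv3 F320639)) (tt N6034 (iv4 D18853)) (tt N22987 F318518) (tt N25282 D39844) (tt N17994 (iv7 F45062)))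
theorem Q12531 : ∀ i, i < 12531 → P i := stepQ 12530 Q12530 (allL N12530 (tt N25283 D39845) (tt N25284 D39846) (tt N17992 (iv2 F45057)) (tt N25281 (iv3 F60649)) (tt N25282 (iv4 F60650)) (tt N17517 F43557) (tt N6034 (iv6 D18854)) (tt N23826 (iv7 F56561)))
theorem Q12532 : ∀ i, i < 12532 → P i := stepQ 12531 Q12531 (allL N12531 (tt N17608 F117291) (tt N17742 (iv0 F298747)) (tt N24363 (iv2 F117266)) (tt N6035 (iv3 D18856)) (tt N25285 D39850) (tt N17425 F43116) (tt N17823 (iv6 F299684)) (tt N17990 (iv7 F45053)))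
theorem Q12533 : ∀ i, i < 12533 → P i := stepQ 12532 Q12532 (allL N12532 (tt N11678 (iv1 F43126)) (tt N23769 F56480) (tt N17994 (iv2 F45061)) (tt N25286 D39851) (tt N6035 (iv4 D18857)) (tt N25287 D39852) (tt N25040 (iv6 F60185)) (tt N17991 (iv7 F45055)))
theorem Q12534 : ∀ i, i < 12534 → P i := stepQ 12533 Q12533 (allL N12533 (tt N17983 (iv1 F45020)) (tt N6036 (iv0 D18859)) (tt N17995 (iv2 F51274)) (tt N25288 D39853) (tt N11737 F41677) (tt N25289 D39854) (tt N25290 D39855) (tt N17996 F51275))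
theorem Q12535 : ∀ i, i < 12535 → P i := stepQ 12534 Q12534 (allL N12534 (tt N6036 (iv1 D18860)) (tt N17983 F45021) (tt N17996 F51273) (tt N25291 D39856) (tt N11738 (iv4 F41676)) (tt N25292 D39857) (tt N23970 (iv6 F57073)) (tt N17995 (iv7 F51272)))
theorem Q12536 : ∀ i, i < 12536 → P i := stepQ 12535 Q12535 (allL N12535 (tt N25293 D39858) (tt N25294 D39859) (tt N25295 D39860) (tt N6036 (iv3 D18861)) (tt N24889 (iv4 F59861)) (tt N25296 D39861) (tt N6046 F30101) (tt N25271 (iv7 F60622)))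
theorem Q12537 : ∀ i, i < 12537 → P i := stepQ 12536 Q12536 (allL N12536 (tt N25297 D39862) (tt N19284 (iv0 F317140)) (tt N17998 (iv2 F45070)) (tt N25296 (iv3 F60653)) (tt N19027 F315014) (tt N6036 (iv5 D18862)) (tt N23433 (iv6 F55904)) (tt N21438 F51196))
theorem Q12538 : ∀ i, i < 12538 → P i := stepQ 12537 Q12537 (allL N12537 (tt N13811 (iv1 F33810)) (tt N6037 (iv0 D18863)) (tt N11231 (iv2 F30103)) (tt N15675 F326233) (tt N25298 D39864) (tt N11225 F30102) (tt N25299 D39865) (tt N11229 (iv7 F30104)))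
theorem Q12539 : ∀ i, i < 12539 → P i := stepQ 12538 Q12538 (allL N12538 (tt N6037 (iv1 D18864)) (tt N13811 (iv0 F33809)) (tt N11229 (iv2 F30107)) (tt N25300 D39866) (tt N25301 D39867) (tt N6440 F30106) (tt N25300 (iv6 F295841)) (tt N11231 F30105))
theorem Q12540 : ∀ i, i < 12540 → P i := stepQ 12539 Q12539 (allL N12539 (tt N25302 D39869) (tt N25303 D39870) (tt N24242 (iv2 F58168)) (tt N25304 D39871) (tt N6037 (iv4 D18865)) (tt N25305 D39872) (tt N17883 (iv6 F44729)) (tt N14677 (iv7 F36809)))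
theorem Q12541 : ∀ i, i < 12541 → P i := stepQ 12540 Q12540 (allL N12540 (tt N25306 D39873) (tt N25307 D39874) (tt N25308 D39875) (tt N6038 (iv3 D18866)) (tt N25304 (iv4 F60670)) (tt N12549 (iv5 F30119)) (tt N17894 (iv6 F44791)) (tt N17999 (iv7 F45072)))
theorem Q12542 : ∀ i, i < 12542 → P i := stepQ 12541 Q12541 (allL N12541 (tt N6039 (iv1 D18867)) (tt N11237 F30108) (tt N11240 F30111) (tt N24891 F59867) (tt N25309 D39876) (tt N6057 (iv5 F30110)) (tt N25310 D39877) (tt N11241 F30109))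
theorem Q12543 : ∀ i, i < 12543 → P i := stepQ 12542 Q12542 (allL N12542 (tt N25311 D39878) (tt N25312 D39879) (tt N24365 (iv2 F58379)) (tt N25313 D39880) (tt N6039 (iv4 D18868)) (tt N25314 D39881) (tt N25315 D39882) (tt N11242 F30112))
theorem Q12544 : ∀ i, i < 12544 → P i := stepQ 12543 Q12543 (allL N12543 (tt N25316 D39883) (tt N25317 D39884) (tt N24366 (iv2 F58383)) (tt N6041 F30113) (tt N25315 (iv4 F60687)) (tt N12548 (iv5 F30118)) (tt N6039 (iv6 D18869)) (tt N25037 (iv7 F60167)))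
theorem Q12545 : ∀ i, i < 12545 → P i := stepQ 12544 Q12544 (allL N12544 (tt N25318 D39885) (tt N25319 D39886) (tt N25320 D39887) (tt N6040 (iv3 D18870)) (tt N25313 (iv4 F60684)) (tt N11233 F30114) (tt N25321 D39888) (tt N11243 F30115))
theorem Q12546 : ∀ i, i < 12546 → P i := stepQ 12545 Q12545 (allL N12545 (tt N25322 D39889) (tt N25323 D39890) (tt N18000 (iv2 F45073)) (tt N25321 (iv3 F60694)) (tt N6041 F30116) (tt N24993 (iv5 F60080)) (tt N6040 (iv6 D18871)) (tt N25060 (iv7 F60238)))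
theorem Q12547 : ∀ i, i < 12547 → P i := stepQ 12546 Q12546 (allL N12546 (tt N6041 (iv1 D18872)) (tt N17897 F44801) (tt N18001 (iv2 F45079)) (tt N25029 F299284) (tt N23788 (iv4 F88492)) (tt N17891 (iv5 F44782)) (tt N17984 (iv6 F45036)) (tt N17862 F44642))
theorem Q12548 : ∀ i, i < 12548 → P i := stepQ 12547 Q12547 (allL N12547 (tt N25324 D39893) (tt N23513 (iv0 F56026)) (tt N24367 (iv2 F58384)) (tt N25325 D39894) (tt N6042 (iv4 D18873)) (tt N25326 D39895) (tt N25327 D39896) (tt N12572 (iv7 F30165)))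
theorem Q12549 : ∀ i, i < 12549 → P i := stepQ 12548 Q12548 (allL N12548 (tt N25328 D39897) (tt N25329 D39898) (tt N24368 (iv2 F58386)) (tt N6044 F30117) (tt N25327 (iv4 F60709)) (tt N12543 F30118) (tt N6042 (iv6 D18874)) (tt N25330 D39899))
theorem Q12550 : ∀ i, i < 12550 → P i := stepQ 12549 Q12549 (allL N12549 (tt N25331 D39900) (tt N25332 D39901) (tt N25333 D39902) (tt N6043 (iv3 D18875)) (tt N25325 (iv4 F60708)) (tt N12540 F30119) (tt N25334 D39903) (tt N12573 (iv7 F30166)))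
theorem Q12551 : ∀ i, i < 12551 → P i := stepQ 12550 Q12550 (allL N12550 (tt N23794 (iv1 F92087)) (tt N23796 F60704) (tt N18004 (iv2 F45086)) (tt N25334 (iv3 F60714)) (tt N6044 F30120) (tt N25335 D39905) (tt N6043 (iv6 D18876)) (tt N25336 D39906))
theorem Q12552 : ∀ i, i < 12552 → P i := stepQ 12551 Q12551 (allL N12551 (tt N12379 (iv1 F30125)) (tt N6044 (iv0 D18877)) (tt N18005 (iv2 F132023)) (tt N16004 (iv3 F320741)) (tt N25337 D39909) (tt N25338 D39910) (tt N25339 D39911) (tt N18006 F132020))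
theorem Q12553 : ∀ i, i < 12553 → P i := stepQ 12552 Q12552 (allL N12552 (tt N6044 (iv1 D18878)) (tt N12379 F30121) (tt N18006 F132017) (tt N25340 D39913) (tt N25341 D39914) (tt N25342 D39915) (tt N25283 (iv6 F60729)) (tt N18005 (iv7 F132024)))
theorem Q12554 : ∀ i, i < 12554 → P i := stepQ 12553 Q12553 (allL N12553 (tt N18006 (iv1 F45089)) (tt N18005 F45088) (tt N12379 F30122) (tt N25330 (iv3 F60710)) (tt N25336 (iv4 F60718)) (tt N12414 F30123) (tt N8803 F30124) (tt N6044 (iv7 D18879)))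
theorem Q12555 : ∀ i, i < 12555 → P i := stepQ 12554 Q12554 (allL N12554 (tt N23775 F248739) (tt N23780 (iv0 F248740)) (tt N25343 D39918) (tt N6045 (iv3 D18880)) (tt N25344 D39919) (tt N8654 F30126) (tt N25345 D39920) (tt N8590 F30127))
theorem Q12556 : ∀ i, i < 12556 → P i := stepQ 12555 Q12555 (allL N12555 (tt N25337 (iv1 F88510)) (tt N25341 (iv0 F88494)) (tt N11746 F30128) (tt N25345 (iv3 F60739)) (tt N8592 F30129) (tt N25346 D39923) (tt N6045 (iv6 D18881)) (tt N25347 D39924))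
theorem Q12557 : ∀ i, i < 12557 → P i := stepQ 12556 Q12556 (allL N12556 (tt N23129 (iv1 F55015)) (tt N6046 (iv0 D18882)) (tt N23128 F254276) (tt N25348 D39926) (tt N25349 D39927) (tt N25350 D39928) (tt N25351 D39929) (tt N23127 F254277))
theorem Q12558 : ∀ i, i < 12558 → P i := stepQ 12557 Q12557 (allL N12557 (tt N6046 (iv1 D18883)) (tt N23129 F55017) (tt N23127 (iv2 F254274)) (tt N25352 D39931) (tt N25353 D39932) (tt N25354 D39933) (tt N25355 D39934) (tt N23128 (iv7 F254275)))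
theorem Q12559 : ∀ i, i < 12559 → P i := stepQ 12558 Q12558 (allL N12558 (tt N23128 (iv1 F55016)) (tt N23127 F55012) (tt N6046 (iv2 D18884)) (tt N18009 (iv3 F45090)) (tt N24907 (iv4 F59908)) (tt N23437 (iv5 F55912)) (tt N25295 (iv6 F60652)) (tt N23129 (iv7 F55014)))
theorem Q12560 : ∀ i, i < 12560 → P i := stepQ 12559 Q12559 (allL N12559 (tt N24817 (iv1 F296622)) (tt N24807 (iv0 F296625)) (tt N6051 F30130) (tt N6074 F30131) (tt N24573 (iv4 F59132)) (tt N11940 F30132) (tt N6047 (iv6 D18885)) (tt N25356 D39937))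
theorem Q12561 : ∀ i, i < 12561 → P i := stepQ 12560 Q12560 (allL N12560 (tt N12067 F30135) (tt N12104 F30136) (tt N11552 F30133) (tt N25357 D39938) (tt N6048 (iv4 D18886)) (tt N25358 D39939) (tt N25359 D39940) (tt N11548 F30134))
theorem Q12562 : ∀ i, i < 12562 → P i := stepQ 12561 Q12561 (allL N12561 (tt N11681 (iv1 F121248)) (tt N8578 (iv0 F121249)) (tt N11553 F30137) (tt N23391 (iv3 F55790)) (tt N25359 (iv4 F60766)) (tt N24046 (iv5 F57223)) (tt N6048 (iv6 D18887)) (tt N11680 F121219))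
theorem Q12563 : ∀ i, i < 12563 → P i := stepQ 12562 Q12562 (allL N12562 (tt N12104 F30140) (tt N12067 F30141) (tt N11548 F30138) (tt N25360 D39944) (tt N6049 (iv4 D18888)) (tt N25361 D39945) (tt N12296 (iv6 F296718)) (tt N11552 F30139))
theorem Q12564 : ∀ i, i < 12564 → P i := stepQ 12563 Q12563 (allL N12563 (tt N8645 F120780) (tt N11858 (iv0 F120781)) (tt N11549 F30142) (tt N13768 (iv3 F33656)) (tt N12296 (iv4 F296717)) (tt N23480 (iv5 F55973)) (tt N6049 (iv6 D18889)) (tt N11857 F120812))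
theorem Q12565 : ∀ i, i < 12565 → P i := stepQ 12564 Q12564 (allL N12564 (tt N23460 (iv1 F55952)) (tt N22964 (iv0 F54736)) (tt N23630 (iv2 F56289)) (tt N18586 (iv3 F46209)) (tt N23627 (iv4 F56273)) (tt N6050 (iv5 D18890)) (tt N25362 D39950) (tt N11671 F30143))
theorem Q12566 : ∀ i, i < 12566 → P i := stepQ 12565 Q12565 (allL N12565 (tt N12314 (iv1 F296720)) (tt N12304 (iv0 F296721)) (tt N24573 (iv2 F59131)) (tt N18591 (iv3 F46213)) (tt N6051 F30144) (tt N25363 D39951) (tt N6050 (iv6 D18891)) (tt N24668 (iv7 F296723)))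
theorem Q12567 : ∀ i, i < 12567 → P i := stepQ 12566 Q12566 (allL N12566 (tt N25356 (iv1 F60759)) (tt N6051 (iv0 D18892)) (tt N24817 (iv2 F296623)) (tt N25364 D39953) (tt N12285 (iv4 F296725)) (tt N23985 (iv5 F120899)) (tt N12283 (iv6 F296698)) (tt N24807 (iv7 F296628)))
theorem Q12568 : ∀ i, i < 12568 → P i := stepQ 12567 Q12567 (allL N12567 (tt N6051 (iv1 D18893)) (tt N25356 F60758) (tt N24807 (iv2 F296627)) (tt N12635 (iv3 F296181)) (tt N19305 F310677) (tt N12633 (iv5 F296504)) (tt N24176 (iv6 F121391)) (tt N24817 (iv7 F296624)))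
theorem Q12569 : ∀ i, i < 12569 → P i := stepQ 12568 Q12568 (allL N12568 (tt N24807 (iv1 F296626)) (tt N24817 (iv0 F296621)) (tt N25356 (iv2 F60753)) (tt N6054 F30145) (tt N24668 (iv4 F296722)) (tt N11945 F30146) (tt N11675 F30147) (tt N6051 (iv7 D18894)))
theorem Q12570 : ∀ i, i < 12570 → P i := stepQ 12569 Q12569 (allL N12569 (tt N8630 (iv1 F91194)) (tt N11632 (iv0 F91191)) (tt N11631 F91175) (tt N6053 (iv3 D18898)) (tt N25365 D39966) (tt N12659 (iv5 F298952)) (tt N24131 (iv6 F300803)) (tt N6098 F30397))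
theorem Q12571 : ∀ i, i < 12571 → P i := stepQ 12570 Q12570 (allL N12570 (tt N11236 F30157) (tt N8675 (iv0 F30158)) (tt N6058 F30154) (tt N11226 F30155) (tt N25366 D39967) (tt N6056 (iv5 D18900)) (tt N17840 (iv6 F44582)) (tt N12075 F30156))
theorem Q12572 : ∀ i, i < 12572 → P i := stepQ 12571 Q12571 (allL N12571 (tt N11249 (iv1 F30163)) (tt N11253 F30164) (tt N11251 F30159) (tt N6057 (iv3 D18901)) (tt N11251 F30160) (tt N24891 (iv5 F59863)) (tt N12571 F30161) (tt N11250 F30162))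
theorem Q12573 : ∀ i, i < 12573 → P i := stepQ 12572 Q12572 (allL N12572 (tt N25367 D39968) (tt N24065 (iv0 F57289)) (tt N25366 (iv2 F60812)) (tt N25368 D39969) (tt N6058 (iv4 D18902)) (tt N25369 D39970) (tt N17855 (iv6 F44608)) (tt N12547 F30165))
theorem Q12574 : ∀ i, i < 12574 → P i := stepQ 12573 Q12573 (allL N12573 (tt N25370 D39971) (tt N25371 D39972) (tt N25372 D39973) (tt N6059 (iv3 D18903)) (tt N25368 (iv4 F60820)) (tt N17999 (iv5 F45071)) (tt N17865 (iv6 F44701)) (tt N12549 F30166))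
theorem Q12575 : ∀ i, i < 12575 → P i := stepQ 12574 Q12574 (allL N12574 (tt N6360 (iv1 F30172)) (tt N6114 (iv0 F30171)) (tt N11836 F30167) (tt N6061 F30168) (tt N6370 F30169) (tt N24967 (iv5 F296067)) (tt N6060 (iv6 D18904)) (tt N6731 F30170))
theorem Q12576 : ∀ i, i < 12576 → P i := stepQ 12575 Q12575 (allL N12575 (tt N8863 F30176) (tt N11226 (iv0 F30177)) (tt N11224 F30173) (tt N24967 (iv3 F296066)) (tt N25373 D39975) (tt N6061 (iv5 D18905)) (tt N12030 F30174) (tt N6734 F30175))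
theorem Q12577 : ∀ i, i < 12577 → P i := stepQ 12576 Q12576 (allL N12576 (tt N6082 F30181) (tt N6081 F30182) (tt N6086 F30178) (tt N25374 D39976) (tt N6062 (iv4 D18906)) (tt N6216 F30179) (tt N17873 (iv6 F296104)) (tt N6073 F30180))
theorem Q12578 : ∀ i, i < 12578 → P i := stepQ 12577 Q12577 (allL N12577 (tt N25375 D39978) (tt N13768 (iv0 F296105)) (tt N6090 F30183) (tt N11669 F30184) (tt N17873 (iv4 F296103)) (tt N23755 (iv5 F56467)) (tt N6062 (iv6 D18907)) (tt N25376 D39980))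
theorem Q12579 : ∀ i, i < 12579 → P i := stepQ 12578 Q12578 (allL N12578 (tt N6064 (iv1 D18909)) (tt N6068 F30188) (tt N12024 (iv2 F30190)) (tt N25377 D39983) (tt N6745 (iv4 F296086)) (tt N22026 F302079) (tt N25378 D39984) (tt N12741 (iv7 F30789)))
theorem Q12580 : ∀ i, i < 12580 → P i := stepQ 12579 Q12579 (allL N12579 (tt N12049 (iv1 F297147)) (tt N12046 (iv0 F297148)) (tt N13939 (iv2 F34366)) (tt N22032 F304929) (tt N6065 F30191) (tt N25379 D39987) (tt N6064 (iv6 D18910)) (tt N25380 D39988))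
theorem Q12581 : ∀ i, i < 12581 → P i := stepQ 12580 Q12580 (allL N12580 (tt N11973 F118850) (tt N6065 (iv0 D18911)) (tt N8659 F118851) (tt N11961 (iv3 F118875)) (tt N24255 (iv4 F297150)) (tt N25381 D39992) (tt N25382 D39993) (tt N11974 F118852))
theorem Q12582 : ∀ i, i < 12582 → P i := stepQ 12581 Q12581 (allL N12581 (tt N11974 F118871) (tt N8659 (iv0 F118880)) (tt N11973 F118854) (tt N11901 F295994) (tt N25380 (iv4 F60861)) (tt N12581 F30192) (tt N6627 F295995) (tt N6065 (iv7 D18913)))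
theorem Q12583 : ∀ i, i < 12583 → P i := stepQ 12582 Q12582 (allL N12582 (tt N8684 F30195) (tt N8681 F30196) (tt N12080 F30193) (tt N25383 D39999) (tt N6066 (iv4 D18914)) (tt N25384 D40000) (tt N8514 (iv6 F296031)) (tt N12079 F30194))
theorem Q12584 : ∀ i, i < 12584 → P i := stepQ 12583 Q12583 (allL N12583 (tt N25385 D40006) (tt N17189 (iv0 F303439)) (tt N22030 F301357) (tt N6068 (iv3 D18917)) (tt N25383 (iv4 F60864)) (tt N23928 F56876) (tt N25386 D40008) (tt N13937 (iv7 F34362)))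
theorem Q12585 : ∀ i, i < 12585 → P i := stepQ 12584 Q12584 (allL N12584 (tt N22407 (iv1 F302507)) (tt N22292 (iv0 F302503)) (tt N13946 (iv2 F34393)) (tt N23928 (iv3 F56875)) (tt N6214 F30202) (tt N6068 (iv5 D18918)) (tt N25387 D40009) (tt N13938 (iv7 F34364)))
theorem Q12586 : ∀ i, i < 12586 → P i := stepQ 12585 Q12585 (allL N12585 (tt N6735 (iv1 F296109)) (tt N6738 (iv0 F296110)) (tt N12019 F295956) (tt N25386 (iv3 F60877)) (tt N6069 F30203) (tt N25388 D40012) (tt N6068 (iv6 D18919)) (tt N12020 (iv7 F296113)))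
theorem Q12587 : ∀ i, i < 12587 → P i := stepQ 12586 Q12586 (allL N12586 (tt N8671 (iv1 F30211)) (tt N8628 (iv0 F30210)) (tt N6261 F30206) (tt N6071 (iv3 D18925)) (tt N12064 F30209) (tt N6253 F30207) (tt N25389 D40032) (tt N6078 F30208))
theorem Q12588 : ∀ i, i < 12588 → P i := stepQ 12587 Q12587 (allL N12587 (tt N12739 (iv1 F30785)) (tt N12009 F30214) (tt N6076 F30212) (tt N25390 D40033) (tt N6071 (iv4 D18926)) (tt N10884 F303692) (tt N25391 D40034) (tt N6079 F30213))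
theorem Q12589 : ∀ i, i < 12589 → P i := stepQ 12588 Q12588 (allL N12588 (tt N8576 (iv1 F118774)) (tt N11694 (iv0 F118775)) (tt N6077 F30215) (tt N25389 (iv3 F60895)) (tt N25391 (iv4 F60902)) (tt N24029 (iv5 F57179)) (tt N6071 (iv6 D18927)) (tt N11693 (iv7 F118778)))
theorem Q12590 : ∀ i, i < 12590 → P i := stepQ 12589 Q12589 (allL N12589 (tt N12009 F30220) (tt N12739 (iv0 F30784)) (tt N6079 F30216) (tt N10786 (iv3 F300701)) (tt N6072 (iv4 D18928)) (tt N10785 F299257) (tt N25392 D40038) (tt N6076 F30218))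
theorem Q12591 : ∀ i, i < 12591 → P i := stepQ 12590 Q12590 (allL N12590 (tt N6630 F296243) (tt N8647 (iv0 F118072)) (tt N6080 F30221) (tt N6274 F30222) (tt N25392 (iv4 F60912)) (tt N25393 D40041) (tt N6072 (iv6 D18929)) (tt N11849 F118116))
theorem Q12592 : ∀ i, i < 12592 → P i := stepQ 12591 Q12591 (allL N12591 (tt N6073 (iv1 D18930)) (tt N6086 F30223) (tt N6082 (iv2 F30226)) (tt N25394 D40043) (tt N6355 F30225) (tt N14618 (iv5 F36466)) (tt N17987 (iv6 F296467)) (tt N6081 F30224))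
theorem Q12593 : ∀ i, i < 12593 → P i := stepQ 12592 Q12592 (allL N12592 (tt N25395 D40045) (tt N25396 D40046) (tt N25397 D40047) (tt N6073 (iv3 D18931)) (tt N24572 (iv4 F59129)) (tt N14321 (iv5 F35275)) (tt N25398 D40048) (tt N25374 (iv7 F60842)))
theorem Q12594 : ∀ i, i < 12594 → P i := stepQ 12593 Q12593 (allL N12593 (tt N17809 F44490) (tt N12482 (iv0 F296476)) (tt N6085 F30227) (tt N25398 (iv3 F60928)) (tt N6074 F30228) (tt N22818 (iv5 F309071)) (tt N6073 (iv6 D18932)) (tt N25190 (iv7 F297102)))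
theorem Q12595 : ∀ i, i < 12595 → P i := stepQ 12594 Q12594 (allL N12594 (tt N6089 (iv1 F30232)) (tt N6074 (iv0 D18933)) (tt N6087 (iv2 F61133)) (tt N25399 D40053) (tt N25400 D40054) (tt N13667 (iv5 F296855)) (tt N12639 F30306) (tt N6088 (iv7 F61137)))
theorem Q12596 : ∀ i, i < 12596 → P i := stepQ 12595 Q12595 (allL N12595 (tt N6074 (iv1 D18934)) (tt N6089 F30229) (tt N6088 F61138) (tt N12287 F30230) (tt N25401 D40057) (tt N12636 (iv5 F30304)) (tt N24193 (iv6 F118812)) (tt N6087 F61139))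
theorem Q12597 : ∀ i, i < 12597 → P i := stepQ 12596 Q12596 (allL N12596 (tt N6088 (iv1 F30233)) (tt N6087 F30234) (tt N6089 F30231) (tt N25356 (iv3 F60754)) (tt N25190 (iv4 F297101)) (tt N23499 (iv5 F56002)) (tt N25376 (iv6 F60850)) (tt N6074 (iv7 D18935)))
theorem Q12598 : ∀ i, i < 12598 → P i := stepQ 12597 Q12597 (allL N12597 (tt N24178 (iv1 F297793)) (tt N24615 (iv0 F119010)) (tt N6264 F30235) (tt N6077 F30236) (tt N12161 F30237) (tt N25402 D40061) (tt N6075 (iv6 D18936)) (tt N25403 D40062))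
theorem Q12599 : ∀ i, i < 12599 → P i := stepQ 12598 Q12598 (allL N12598 (tt N6079 (iv1 F30239)) (tt N6076 (iv0 D18937)) (tt N12739 (iv2 F30782)) (tt N25404 D40063) (tt N6730 F30238) (tt N22292 F304231) (tt N25405 D40064) (tt N12009 (iv7 F30240)))
theorem Q12600 : ∀ i, i < 12600 → P i := stepQ 12599 Q12599 (allL N12599 (tt N6076 (iv1 D18938)) (tt N6079 F30241) (tt N12009 (iv2 F30243)) (tt N25406 D40065) (tt N6642 F30242) (tt N22407 F304232) (tt N25191 (iv6 F296094)) (tt N12739 (iv7 F30783)))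
theorem Q12601 : ∀ i, i < 12601 → P i := stepQ 12600 Q12600 (allL N12600 (tt N10886 (iv1 F301431)) (tt N10855 (iv0 F301432)) (tt N10884 (iv2 F300975)) (tt N8369 F298776) (tt N6212 F30246) (tt N6076 (iv5 D18939)) (tt N25407 D40068) (tt N10785 F298777))
theorem Q12602 : ∀ i, i < 12602 → P i := stepQ 12601 Q12601 (allL N12601 (tt N25408 D40069) (tt N25409 D40070) (tt N25391 (iv2 F60901)) (tt N23933 (iv3 F56894)) (tt N6077 F30247) (tt N25410 D40071) (tt N6076 (iv6 D18940)) (tt N25411 D40072))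
theorem Q12603 : ∀ i, i < 12603 → P i := stepQ 12602 Q12602 (allL N12602 (tt N11693 F118792) (tt N6077 (iv0 D18941)) (tt N8576 (iv2 F118818)) (tt N11681 (iv3 F118819)) (tt N25412 D40075) (tt N25413 D40076) (tt N24188 (iv6 F118828)) (tt N11694 (iv7 F118829)))
theorem Q12604 : ∀ i, i < 12604 → P i := stepQ 12603 Q12603 (allL N12603 (tt N25414 D40083) (tt N11707 F118085) (tt N24029 (iv2 F57178)) (tt N25402 (iv3 F60950)) (tt N25415 D40085) (tt N6077 (iv5 D18943)) (tt N11581 F30248) (tt N25416 D40086))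
theorem Q12605 : ∀ i, i < 12605 → P i := stepQ 12604 Q12604 (allL N12604 (tt N11694 F118789) (tt N8576 F118790) (tt N11693 F118791) (tt N25403 (iv3 F60953)) (tt N25411 (iv4 F60973)) (tt N25416 (iv5 F60979)) (tt N11849 F118115) (tt N6077 (iv7 D18944)))
theorem Q12606 : ∀ i, i < 12606 → P i := stepQ 12605 Q12605 (allL N12605 (tt N8628 (iv1 F30253)) (tt N8671 F30252) (tt N6078 (iv2 D18945)) (tt N6265 F30249) (tt N12065 (iv4 F30254)) (tt N6263 F30250) (tt N25417 D40087) (tt N6261 F30251))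
theorem Q12607 : ∀ i, i < 12607 → P i := stepQ 12606 Q12606 (allL N12606 (tt N8677 F30257) (tt N8673 F30258) (tt N12065 F30255) (tt N25418 D40088) (tt N6078 (iv4 D18946)) (tt N12843 (iv5 F30981)) (tt N25419 D40089) (tt N12064 F30256))
theorem Q12608 : ∀ i, i < 12608 → P i := stepQ 12607 Q12607 (allL N12607 (tt N17643 (iv1 F296615)) (tt N25017 (iv0 F118419)) (tt N25417 (iv2 F60980)) (tt N6080 F30259) (tt N25419 (iv4 F60986)) (tt N25420 D40092) (tt N6078 (iv6 D18947)) (tt N25421 D40093))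
theorem Q12609 : ∀ i, i < 12609 → P i := stepQ 12608 Q12608 (allL N12608 (tt N25422 D40094) (tt N25423 D40095) (tt N23931 (iv2 F56892)) (tt N6079 (iv3 D18948)) (tt N25418 (iv4 F60983)) (tt N25424 D40096) (tt N25425 D40097) (tt N25390 (iv7 F60900)))
theorem Q12610 : ∀ i, i < 12610 → P i := stepQ 12609 Q12609 (allL N12609 (tt N10855 (iv1 F301433)) (tt N10886 (iv0 F301430)) (tt N10785 F299255) (tt N25424 (iv3 F60993)) (tt N6209 F30261) (tt N6079 (iv5 D18949)) (tt N25426 D40098) (tt N10884 (iv7 F300977)))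
theorem Q12611 : ∀ i, i < 12611 → P i := stepQ 12610 Q12610 (allL N12610 (tt N12003 F296469) (tt N25427 D40100) (tt N25392 (iv2 F60910)) (tt N25425 (iv3 F60997)) (tt N6080 F30262) (tt N25428 D40101) (tt N6079 (iv6 D18950)) (tt N25429 D40102))
theorem Q12612 : ∀ i, i < 12612 → P i := stepQ 12611 Q12611 (allL N12611 (tt N6080 (iv1 D18952)) (tt N11849 (iv0 F118102)) (tt N8647 (iv2 F118105)) (tt N11858 (iv3 F118106)) (tt N24931 (iv4 F297802)) (tt N25430 D40111) (tt N13772 F296493) (tt N6630 F296494))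
theorem Q12613 : ∀ i, i < 12613 → P i := stepQ 12612 Q12612 (allL N12612 (tt N11867 (iv1 F118847)) (tt N25431 D40114) (tt N25393 (iv2 F60914)) (tt N25420 (iv3 F60987)) (tt N25432 D40115) (tt N6080 (iv5 D18953)) (tt N11583 F30263) (tt N25433 D40116))
theorem Q12614 : ∀ i, i < 12614 → P i := stepQ 12613 Q12613 (allL N12613 (tt N8647 F118079) (tt N6630 F296495) (tt N11849 F118113) (tt N25421 (iv3 F60989)) (tt N25429 (iv4 F61000)) (tt N25433 (iv5 F61006)) (tt N11693 F118797) (tt N6080 (iv7 D18954)))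
theorem Q12615 : ∀ i, i < 12615 → P i := stepQ 12614 Q12614 (allL N12614 (tt N25434 D40117) (tt N25435 D40118) (tt N25436 D40119) (tt N6081 (iv3 D18955)) (tt N25437 D40120) (tt N21738 F300219) (tt N21739 F305355) (tt N25394 (iv7 F60924)))
theorem Q12616 : ∀ i, i < 12616 → P i := stepQ 12615 Q12615 (allL N12615 (tt N12691 (iv1 F30638)) (tt N11586 F30265) (tt N14611 (iv2 F36432)) (tt N21738 F300218) (tt N6203 F30264) (tt N6081 (iv5 D18956)) (tt N21735 (iv6 F302974)) (tt N14618 (iv7 F36467)))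
theorem Q12617 : ∀ i, i < 12617 → P i := stepQ 12616 Q12616 (allL N12616 (tt N25412 (iv1 F121050)) (tt N11695 F121049) (tt N17699 (iv2 F44366)) (tt N21739 F305352) (tt N12667 (iv4 F30573)) (tt N21736 (iv5 F307344)) (tt N6081 (iv6 D18957)) (tt N25273 (iv7 F297807)))
theorem Q12618 : ∀ i, i < 12618 → P i := stepQ 12617 Q12617 (allL N12617 (tt N25438 D40128) (tt N25439 D40129) (tt N21983 (iv2 F52308)) (tt N6082 (iv3 D18958)) (tt N17676 (iv4 F44314)) (tt N11467 F30269) (tt N25440 D40130) (tt N17698 (iv7 F44365)))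
theorem Q12619 : ∀ i, i < 12619 → P i := stepQ 12618 Q12618 (allL N12618 (tt N11586 F30267) (tt N12691 (iv0 F30637)) (tt N14618 (iv2 F36465)) (tt N11467 (iv3 F30268)) (tt N6195 F30266) (tt N6082 (iv5 D18959)) (tt N25441 D40131) (tt N14611 (iv7 F36434)))
theorem Q12620 : ∀ i, i < 12620 → P i := stepQ 12619 Q12619 (allL N12619 (tt N11850 (iv1 F120711)) (tt N24931 (iv0 F297800)) (tt N17987 F296496) (tt N25440 (iv3 F61023)) (tt N12672 (iv4 F30581)) (tt N25442 D40134) (tt N6082 (iv6 D18960)) (tt N24237 (iv7 F297320)))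
theorem Q12621 : ∀ i, i < 12621 → P i := stepQ 12620 Q12620 (allL N12620 (tt N14857 (iv1 F37303)) (tt N6083 (iv0 D18961)) (tt N12416 (iv2 F30274)) (tt N25443 D40136) (tt N8616 F30275) (tt N24212 (iv5 F57750)) (tt N25444 D40137) (tt N14865 (iv7 F37318)))
theorem Q12622 : ∀ i, i < 12622 → P i := stepQ 12621 Q12621 (allL N12621 (tt N6083 (iv1 D18962)) (tt N14857 (iv0 F37302)) (tt N14865 F37316) (tt N10678 F298512) (tt N8435 (iv4 F30271)) (tt N10677 F298513) (tt N25445 D40138) (tt N12416 F30272))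
theorem Q12623 : ∀ i, i < 12623 → P i := stepQ 12622 Q12622 (allL N12622 (tt N12416 F30278) (tt N14865 F37317) (tt N6083 (iv2 D18963)) (tt N25397 (iv3 F60927)) (tt N6095 F30277) (tt N25446 D40139) (tt N25447 D40140) (tt N14857 (iv7 F37301)))
theorem Q12624 : ∀ i, i < 12624 → P i := stepQ 12623 Q12623 (allL N12623 (tt N25448 D40141) (tt N11823 (iv0 F30281)) (tt N25446 (iv2 F61033)) (tt N6084 F30280) (tt N25449 D40142) (tt N6083 (iv5 D18964)) (tt N25450 D40143) (tt N14866 (iv7 F37320)))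
theorem Q12625 : ∀ i, i < 12625 → P i := stepQ 12624 Q12624 (allL N12624 (tt N25451 D40144) (tt N25452 D40145) (tt N25447 (iv2 F61037)) (tt N6085 F30282) (tt N6096 F30283) (tt N25453 D40146) (tt N6083 (iv6 D18965)) (tt N25200 (iv7 F60457)))
theorem Q12626 : ∀ i, i < 12626 → P i := stepQ 12625 Q12625 (allL N12625 (tt N6216 (iv1 F30286)) (tt N6084 (iv0 D18966)) (tt N14320 F35267) (tt N25454 D40147) (tt N6182 F30285) (tt N6163 F30284) (tt N25455 D40148) (tt N13854 F296497))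
theorem Q12627 : ∀ i, i < 12627 → P i := stepQ 12626 Q12626 (allL N12626 (tt N6084 (iv1 D18967)) (tt N6216 F30287) (tt N13854 F296498) (tt N10733 (iv3 F30289)) (tt N6167 (iv4 F30297)) (tt N6178 F30288) (tt N25456 D40149) (tt N14320 F35268))
theorem Q12628 : ∀ i, i < 12628 → P i := stepQ 12627 Q12627 (allL N12627 (tt N25457 D40150) (tt N25458 D40151) (tt N14322 (iv2 F35277)) (tt N25450 (iv3 F61045)) (tt N14313 (iv4 F35250)) (tt N25459 D40152) (tt N6084 (iv6 D18968)) (tt N25460 D40153))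
theorem Q12629 : ∀ i, i < 12629 → P i := stepQ 12628 Q12628 (allL N12628 (tt N13854 (iv1 F296459)) (tt N14320 F35266) (tt N6216 F30298) (tt N14866 (iv3 F37319)) (tt N6186 F30299) (tt N6086 F30300) (tt N22376 (iv6 F303925)) (tt N6084 (iv7 D18969)))
theorem Q12630 : ∀ i, i < 12630 → P i := stepQ 12629 Q12629 (allL N12629 (tt N6085 (iv1 D18971)) (tt N25190 (iv0 F297099)) (tt N12482 F296501) (tt N25461 D40158) (tt N12477 F296502) (tt N25462 D40159) (tt N25463 D40160) (tt N17809 (iv7 F44546)))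
theorem Q12631 : ∀ i, i < 12631 → P i := stepQ 12630 Q12630 (allL N12630 (tt N22814 (iv1 F309074)) (tt N22822 (iv0 F309076)) (tt N22818 (iv2 F309070)) (tt N25453 (iv3 F61047)) (tt N18526 (iv4 F309073)) (tt N6085 (iv5 D18972)) (tt N25459 (iv6 F61054)) (tt N18525 (iv7 F309080)))
theorem Q12632 : ∀ i, i < 12632 → P i := stepQ 12631 Q12631 (allL N12631 (tt N12482 F296503) (tt N17809 (iv0 F44489)) (tt N25190 (iv2 F297100)) (tt N25200 (iv3 F60456)) (tt N6089 F30301) (tt N18525 (iv5 F309079)) (tt N17874 (iv6 F297111)) (tt N6085 (iv7 D18973)))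
theorem Q12633 : ∀ i, i < 12633 → P i := stepQ 12632 Q12632 (allL N12632 (tt N17876 (iv1 F296487)) (tt N17869 (iv0 F296489)) (tt N17873 F296244) (tt N14867 (iv3 F37321)) (tt N6090 F30302) (tt N25464 D40168) (tt N6086 (iv6 D18974)) (tt N17874 (iv7 F297112)))
theorem Q12634 : ∀ i, i < 12634 → P i := stepQ 12633 Q12633 (allL N12633 (tt N11861 (iv1 F296699)) (tt N13527 (iv0 F59750)) (tt N12283 (iv2 F61147)) (tt N6087 (iv3 D18976)) (tt N12171 F30441) (tt N12567 F296504) (tt N24817 F59483) (tt N12287 (iv7 F61143)))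
theorem Q12635 : ∀ i, i < 12635 → P i := stepQ 12634 Q12634 (allL N12634 (tt N25192 (iv1 F297697)) (tt N25191 F296471) (tt N25400 (iv2 F61134)) (tt N9350 (iv3 F308937)) (tt N6087 (iv4 D18977)) (tt N25465 D40181) (tt N9348 (iv6 F309746)) (tt N25401 (iv7 F61145)))
theorem Q12636 : ∀ i, i < 12636 → P i := stepQ 12635 Q12635 (allL N12635 (tt N6699 F296180) (tt N13668 (iv0 F296857)) (tt N13667 (iv2 F296854)) (tt N12567 F296181) (tt N9525 F310643) (tt N6087 (iv5 D18978)) (tt N25466 D40187) (tt N12636 (iv7 F61142)))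
theorem Q12637 : ∀ i, i < 12637 → P i := stepQ 12636 Q12636 (allL N12636 (tt N13772 F296505) (tt N6645 F296506) (tt N12639 F61141) (tt N24817 (iv3 F59482)) (tt N9348 F310628) (tt N12595 F30304) (tt N6087 (iv6 D18979)) (tt N12635 F61142))
theorem Q12638 : ∀ i, i < 12638 → P i := stepQ 12637 Q12637 (allL N12637 (tt N12063 F91155) (tt N25234 (iv0 F61172)) (tt N25467 D40194) (tt N6088 (iv3 D18981)) (tt N25468 D40195) (tt N17794 (iv5 F296873)) (tt N25469 D40197) (tt N25399 (iv7 F61132)))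
theorem Q12639 : ∀ i, i < 12639 → P i := stepQ 12638 Q12638 (allL N12638 (tt N25191 F296472) (tt N25192 (iv0 F297696)) (tt N25401 (iv2 F61144)) (tt N25470 D40198) (tt N6088 (iv4 D18982)) (tt N19039 (iv5 F309774)) (tt N25471 D40200) (tt N25400 (iv7 F61135)))
theorem Q12640 : ∀ i, i < 12640 → P i := stepQ 12639 Q12639 (allL N12639 (tt N13668 (iv1 F296858)) (tt N6699 F296179) (tt N12636 (iv2 F61141)) (tt N17794 (iv3 F296872)) (tt N19030 F310627) (tt N6088 (iv5 D18983)) (tt N12594 (iv6 F30306)) (tt N13667 (iv7 F296856)))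
theorem Q12641 : ∀ i, i < 12641 → P i := stepQ 12640 Q12640 (allL N12640 (tt N17593 (iv1 F118869)) (tt N24188 F118841) (tt N24193 (iv2 F118809)) (tt N25469 (iv3 F61181)) (tt N25471 (iv4 F61182)) (tt N24194 (iv5 F118815)) (tt N6088 (iv6 D18984)) (tt N24194 (iv7 F118817)))
theorem Q12642 : ∀ i, i < 12642 → P i := stepQ 12641 Q12641 (allL N12641 (tt N13768 F296248) (tt N25375 F60851) (tt N25376 (iv2 F60848)) (tt N6104 F30307) (tt N17874 (iv4 F297110)) (tt N23763 (iv5 F56473)) (tt N6089 (iv6 D18985)) (tt N6090 F30308))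
theorem Q12643 : ∀ i, i < 12643 → P i := stepQ 12642 Q12642 (allL N12642 (tt N25376 (iv1 F60853)) (tt N6090 (iv0 D18986)) (tt N25375 (iv2 F124469)) (tt N11857 (iv3 F296702)) (tt N25472 D40206) (tt N25473 D40207) (tt N25474 D40208) (tt N13768 F296245))
theorem Q12644 : ∀ i, i < 12644 → P i := stepQ 12643 Q12643 (allL N12643 (tt N6090 (iv1 D18987)) (tt N25376 F60852) (tt N13768 F296246) (tt N23389 (iv3 F297073)) (tt N25475 D40211) (tt N25476 D40212) (tt N6628 F296247) (tt N25375 (iv7 F124470)))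
theorem Q12645 : ∀ i, i < 12645 → P i := stepQ 12644 Q12644 (allL N12644 (tt N11723 F30312) (tt N6470 (iv0 F30313)) (tt N11583 F30309) (tt N6275 F30310) (tt N25477 D40214) (tt N6091 (iv5 D18988)) (tt N25393 (iv6 F60916)) (tt N11724 (iv7 F30320)))
theorem Q12646 : ∀ i, i < 12646 → P i := stepQ 12645 Q12645 (allL N12645 (tt N6470 F30316) (tt N11723 F30321) (tt N11724 (iv2 F30317)) (tt N23511 (iv3 F56021)) (tt N25478 D40215) (tt N6092 (iv5 D18989)) (tt N25479 D40216) (tt N11583 F30315))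
theorem Q12647 : ∀ i, i < 12647 → P i := stepQ 12646 Q12646 (allL N12646 (tt N21928 (iv1 F52194)) (tt N25061 (iv0 F60240)) (tt N14863 F42925) (tt N22360 (iv3 F52940)) (tt N6093 (iv4 D18991)) (tt N25480 D40217) (tt N25481 D40218) (tt N14860 (iv7 F42927)))
theorem Q12648 : ∀ i, i < 12648 → P i := stepQ 12647 Q12647 (allL N12647 (tt N21728 (iv1 F189890)) (tt N11698 (iv0 F189891)) (tt N14864 F42926) (tt N18575 F50907) (tt N25481 (iv4 F61206)) (tt N18570 (iv5 F50909)) (tt N6093 (iv6 D18992)) (tt N21727 (iv7 F189994)))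
theorem Q12649 : ∀ i, i < 12649 → P i := stepQ 12648 Q12648 (allL N12648 (tt N21590 (iv1 F51561)) (tt N17015 F51496) (tt N21556 (iv2 F51489)) (tt N6094 (iv3 D18994)) (tt N22044 (iv4 F52407)) (tt N11451 F30326) (tt N25482 D40222) (tt N14862 F42918))
theorem Q12650 : ∀ i, i < 12650 → P i := stepQ 12649 Q12649 (allL N12649 (tt N25061 (iv1 F60241)) (tt N21928 (iv0 F52193)) (tt N14860 F42928) (tt N25483 D40223) (tt N6094 (iv4 D18995)) (tt N25484 D40224) (tt N25485 D40225) (tt N14863 F42924))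
theorem Q12651 : ∀ i, i < 12651 → P i := stepQ 12650 Q12650 (allL N12650 (tt N11852 (iv1 F190024)) (tt N21630 (iv0 F190023)) (tt N14861 (iv2 F42938)) (tt N25482 (iv3 F61207)) (tt N25485 (iv4 F61210)) (tt N25486 D40228) (tt N6094 (iv6 D18996)) (tt N21629 F191155))
theorem Q12652 : ∀ i, i < 12652 → P i := stepQ 12651 Q12651 (allL N12651 (tt N25198 (iv1 F60454)) (tt N25197 F60451) (tt N6096 F30327) (tt N18490 (iv3 F46056)) (tt N25447 (iv4 F61038)) (tt N25487 D40230) (tt N6095 (iv6 D18997)) (tt N25199 (iv7 F60452)))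
theorem Q12653 : ∀ i, i < 12653 → P i := stepQ 12652 Q12652 (allL N12652 (tt N25199 (iv1 F60453)) (tt N6096 (iv0 D18998)) (tt N25198 F191208) (tt N25488 D40232) (tt N25489 D40233) (tt N25490 D40234) (tt N25491 D40235) (tt N25197 F191209))
theorem Q12654 : ∀ i, i < 12654 → P i := stepQ 12653 Q12653 (allL N12653 (tt N6096 (iv1 D18999)) (tt N25199 F60455) (tt N25197 F191217) (tt N25492 D40237) (tt N25493 D40238) (tt N25494 D40239) (tt N25495 D40240) (tt N25198 F191218))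
theorem Q12655 : ∀ i, i < 12655 → P i := stepQ 12654 Q12654 (allL N12654 (tt N25496 D40241) (tt N25497 D40242) (tt N25487 (iv2 F61212)) (tt N6097 F30328) (tt N19969 (iv4 F310004)) (tt N6096 (iv5 D19000)) (tt N11376 F30329) (tt N25201 (iv7 F60460)))
theorem Q12656 : ∀ i, i < 12656 → P i := stepQ 12655 Q12655 (allL N12655 (tt N17965 (iv1 F44965)) (tt N6097 (iv0 D19011)) (tt N7436 F312257) (tt N15313 F312258) (tt N17954 (iv4 F44926)) (tt N17429 (iv5 F43133)) (tt N9047 (iv6 F314594)) (tt N18622 (iv7 F46260)))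
theorem Q12657 : ∀ i, i < 12657 → P i := stepQ 12656 Q12656 (allL N12656 (tt N6097 (iv1 D19012)) (tt N17965 (iv0 F44964)) (tt N18622 (iv2 F46262)) (tt N7438 F309150) (tt N17955 F44966) (tt N15337 F309151) (tt N25498 D40247) (tt N7436 (iv7 F310467)))
theorem Q12658 : ∀ i, i < 12658 → P i := stepQ 12657 Q12657 (allL N12657 (tt N12463 F43243) (tt N12467 F30333) (tt N18623 (iv2 F46264)) (tt N25499 D40248) (tt N6097 (iv4 D19013)) (tt N25500 D40249) (tt N11378 F30332) (tt N25202 (iv7 F60462)))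
theorem Q12659 : ∀ i, i < 12659 → P i := stepQ 12658 Q12658 (allL N12658 (tt N11631 (iv1 F91165)) (tt N6098 (iv0 D19019)) (tt N11632 (iv2 F91166)) (tt N25234 F60582) (tt N24860 F59675) (tt N11917 (iv5 F91171)) (tt N8638 F298954) (tt N8630 (iv7 F91173)))
theorem Q12660 : ∀ i, i < 12660 → P i := stepQ 12659 Q12659 (allL N12659 (tt N11632 (iv1 F91192)) (tt N8630 (iv0 F91193)) (tt N6098 (iv2 D19021)) (tt N6100 F298951) (tt N25501 D40258) (tt N12569 F298952) (tt N6098 F298953) (tt N11631 F91182))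
theorem Q12661 : ∀ i, i < 12661 → P i := stepQ 12660 Q12660 (allL N12660 (tt N25502 D40261) (tt N11638 F116662) (tt N25501 (iv2 F61225)) (tt N12444 F30365) (tt N6098 (iv4 D19022)) (tt N11763 F320256) (tt N25501 F297958) (tt N25365 (iv7 F60810)))
theorem Q12662 : ∀ i, i < 12662 → P i := stepQ 12661 Q12661 (allL N12661 (tt N11827 (iv1 F117297)) (tt N10983 (iv0 F301340)) (tt N12452 (iv2 F300053)) (tt N12455 F30539) (tt N6101 (iv4 D19033)) (tt N17420 (iv5 F301365)) (tt N12461 (iv6 F301366)) (tt N8832 (iv7 F300056)))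
theorem Q12663 : ∀ i, i < 12663 → P i := stepQ 12662 Q12662 (allL N12662 (tt N8638 F299021) (tt N8633 (iv0 F125926)) (tt N8640 F299022) (tt N6105 (iv3 D19037)) (tt N25503 D40284) (tt N7682 (iv5 F324431)) (tt N11617 (iv6 F301596)) (tt N8626 F299023))
theorem Q12664 : ∀ i, i < 12664 → P i := stepQ 12663 Q12663 (allL N12663 (tt N11691 F30544) (tt N11832 F298423) (tt N11008 (iv2 F53115)) (tt N7682 (iv3 F324430)) (tt N25504 D40287) (tt N6105 (iv5 D19039)) (tt N7681 F323030) (tt N11020 F53114))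
theorem Q12665 : ∀ i, i < 12665 → P i := stepQ 12664 Q12664 (allL N12664 (tt N8567 F299077) (tt N8566 F299078) (tt N8569 F299079) (tt N11617 (iv3 F301594)) (tt N8465 F41670) (tt N11577 F30545) (tt N6105 (iv6 D19040)) (tt N8555 F299080))
theorem Q12666 : ∀ i, i < 12666 → P i := stepQ 12665 Q12665 (allL N12665 (tt N6500 F30555) (tt N12110 F30554) (tt N11255 F30552) (tt N6111 F30553) (tt N13090 (iv4 F31468)) (tt N6106 (iv5 D19046)) (tt N7083 (iv6 F291032)) (tt N13138 (iv7 F31645)))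
theorem Q12667 : ∀ i, i < 12667 → P i := stepQ 12666 Q12666 (allL N12666 (tt N8665 F30559) (tt N8664 F30560) (tt N8719 F30556) (tt N6109 F30557) (tt N17466 (iv4 F43348)) (tt N6108 (iv5 D19047)) (tt N12369 (iv6 F296977)) (tt N8742 F30558))
theorem Q12668 : ∀ i, i < 12668 → P i := stepQ 12667 Q12667 (allL N12667 (tt N24325 (iv1 F297687)) (tt N12354 (iv0 F121058)) (tt N8732 F30572) (tt N12369 (iv3 F296976)) (tt N12616 F30573) (tt N23117 F296443) (tt N6109 (iv6 D19049)) (tt N12523 (iv7 F297694)))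
theorem Q12669 : ∀ i, i < 12669 → P i := stepQ 12668 Q12668 (allL N12668 (tt N6471 (iv1 F30576)) (tt N6110 (iv0 D19050)) (tt N12773 (iv2 F30874)) (tt N8570 F30575) (tt N6255 F30574) (tt N22899 (iv5 F295938)) (tt N6180 (iv6 F30577)) (tt N12717 (iv7 F30727)))
theorem Q12670 : ∀ i, i < 12670 → P i := stepQ 12669 Q12669 (allL N12669 (tt N23943 (iv1 F56955)) (tt N13828 (iv0 F33909)) (tt N13133 (iv2 F31630)) (tt N23119 (iv3 F296303)) (tt N23756 (iv4 F56468)) (tt N6110 (iv5 D19051)) (tt N23117 (iv6 F296306)) (tt N13336 (iv7 F32111)))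
theorem Q12671 : ∀ i, i < 12671 → P i := stepQ 12670 Q12670 (allL N12670 (tt N25505 D40302) (tt N25506 D40303) (tt N13134 (iv2 F31633)) (tt N25507 D40304) (tt N6111 (iv4 D19052)) (tt N25508 D40305) (tt N7084 (iv6 F292525)) (tt N13139 (iv7 F31649)))
theorem Q12672 : ∀ i, i < 12672 → P i := stepQ 12671 Q12671 (allL N12671 (tt N13497 (iv1 F32694)) (tt N6285 (iv0 F292877)) (tt N13151 (iv2 F31689)) (tt N6115 F30578) (tt N25509 D40306) (tt N6112 (iv5 D19053)) (tt N12817 (iv6 F30958)) (tt N6774 (iv7 F292522)))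
theorem Q12673 : ∀ i, i < 12673 → P i := stepQ 12672 Q12672 (allL N12672 (tt N6733 F296444) (tt N12006 F296445) (tt N8856 F296446) (tt N8723 F30580) (tt N12619 F30581) (tt N25510 D40309) (tt N6113 (iv6 D19054)) (tt N12004 F296447))
theorem Q12674 : ∀ i, i < 12674 → P i := stepQ 12673 Q12673 (allL N12673 (tt N22900 (iv1 F54626)) (tt N22899 F296046) (tt N12885 (iv2 F31069)) (tt N8780 F30582) (tt N23736 F56454) (tt N6114 (iv5 D19055)) (tt N25510 (iv6 F61365)) (tt N12886 (iv7 F31074)))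
theorem Q12675 : ∀ i, i < 12675 → P i := stepQ 12674 Q12674 (allL N12674 (tt N25511 D40311) (tt N12769 (iv0 F293899)) (tt N6772 F293878) (tt N25512 D40313) (tt N6115 (iv4 D19056)) (tt N25513 D40314) (tt N12831 (iv6 F30967)) (tt N6775 F293879))
theorem Q12676 : ∀ i, i < 12676 → P i := stepQ 12675 Q12675 (allL N12675 (tt N12959 (iv1 F31257)) (tt N12958 F31253) (tt N12911 (iv2 F31123)) (tt N6116 (iv3 D19057)) (tt N12675 F30583) (tt N25514 D40315) (tt N25515 D40316) (tt N12960 (iv7 F31256)))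
theorem Q12677 : ∀ i, i < 12677 → P i := stepQ 12676 Q12676 (allL N12676 (tt N6889 F30586) (tt N6961 F30587) (tt N6124 F30584) (tt N25514 (iv3 F61374)) (tt N11952 F30585) (tt N6116 (iv5 D19058)) (tt N25516 D40317) (tt N12839 (iv7 F30980)))
theorem Q12678 : ∀ i, i < 12678 → P i := stepQ 12677 Q12677 (allL N12677 (tt N13057 F31424) (tt N25517 D40318) (tt N6125 F30588) (tt N25515 (iv3 F61375)) (tt N6117 F30589) (tt N25518 D40319) (tt N6116 (iv6 D19059)) (tt N25519 D40320))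
theorem Q12679 : ∀ i, i < 12679 → P i := stepQ 12678 Q12678 (allL N12678 (tt N6128 (iv1 F30594)) (tt N6117 (iv0 D19060)) (tt N6126 (iv2 F63444)) (tt N13362 (iv3 F63437)) (tt N25520 D40323) (tt N14551 (iv5 F293181)) (tt N13589 (iv6 F66196)) (tt N6127 (iv7 F63450)))
theorem Q12680 : ∀ i, i < 12680 → P i := stepQ 12679 Q12679 (allL N12679 (tt N6117 (iv1 D19061)) (tt N6128 F30590) (tt N6127 F63451) (tt N13044 F31408) (tt N25521 D40326) (tt N13098 (iv5 F31488)) (tt N7088 (iv6 F292251)) (tt N6126 F63452))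
theorem Q12681 : ∀ i, i < 12681 → P i := stepQ 12680 Q12680 (allL N12680 (tt N6127 (iv1 F30595)) (tt N6126 F30596) (tt N6128 F30591) (tt N12680 F30592) (tt N25519 (iv4 F61382)) (tt N6190 F30593) (tt N13094 (iv6 F31484)) (tt N6117 (iv7 D19062)))
theorem Q12682 : ∀ i, i < 12682 → P i := stepQ 12681 Q12681 (allL N12681 (tt N6118 (iv1 D19063)) (tt N6121 F30597) (tt N6164 (iv2 F30600)) (tt N12996 F31347) (tt N6251 F30599) (tt N12803 (iv5 F30943)) (tt N25522 D40328) (tt N6165 F30598))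
theorem Q12683 : ∀ i, i < 12683 → P i := stepQ 12682 Q12682 (allL N12682 (tt N10660 F30603) (tt N21785 (iv0 F51891)) (tt N25523 D40329) (tt N6118 (iv3 D19064)) (tt N12138 F30601) (tt N10555 (iv5 F30604)) (tt N25524 D40330) (tt N6166 F30602))
theorem Q12684 : ∀ i, i < 12684 → P i := stepQ 12683 Q12683 (allL N12683 (tt N13665 (iv1 F33444)) (tt N14609 (iv0 F36428)) (tt N6182 F30605) (tt N10555 F30606) (tt N14320 (iv4 F35265)) (tt N6118 (iv5 D19065)) (tt N25525 D40331) (tt N6167 F30607))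
theorem Q12685 : ∀ i, i < 12685 → P i := stepQ 12684 Q12684 (allL N12684 (tt N25509 F293881) (tt N25526 D40333) (tt N6183 F30608) (tt N25524 (iv3 F61395)) (tt N6119 F30609) (tt N25527 D40334) (tt N6118 (iv6 D19066)) (tt N12729 (iv7 F294154)))
theorem Q12686 : ∀ i, i < 12686 → P i := stepQ 12685 Q12685 (allL N12685 (tt N13565 (iv1 F66247)) (tt N13537 (iv0 F66236)) (tt N12111 F30620) (tt N6122 F30621) (tt N13857 (iv4 F34009)) (tt N12685 F30622) (tt N6120 (iv6 D19071)) (tt N13564 (iv7 F66203)))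
theorem Q12687 : ∀ i, i < 12687 → P i := stepQ 12686 Q12686 (allL N12686 (tt N13996 (iv1 F34489)) (tt N12980 (iv0 F31294)) (tt N13995 F34483) (tt N6121 (iv3 D19072)) (tt N13856 (iv4 F34006)) (tt N25528 D40353) (tt N25529 D40354) (tt N6181 F30623))
theorem Q12688 : ∀ i, i < 12688 → P i := stepQ 12687 Q12687 (allL N12687 (tt N14609 (iv1 F36429)) (tt N13665 (iv0 F33443)) (tt N6167 F30624) (tt N25528 (iv3 F61434)) (tt N13854 F297712) (tt N6121 (iv5 D19073)) (tt N25530 D40355) (tt N6182 F30625))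
theorem Q12689 : ∀ i, i < 12689 → P i := stepQ 12688 Q12688 (allL N12688 (tt N25531 D40356) (tt N13755 (iv0 F66211)) (tt N6168 F30626) (tt N25529 (iv3 F61437)) (tt N6122 F30627) (tt N25532 D40358) (tt N6121 (iv6 D19074)) (tt N13582 (iv7 F66206)))
theorem Q12690 : ∀ i, i < 12690 → P i := stepQ 12689 Q12689 (allL N12689 (tt N25533 D40368) (tt N25534 D40369) (tt N24359 (iv2 F58370)) (tt N6123 (iv3 D19078)) (tt N13158 (iv4 F31709)) (tt N14318 (iv5 F35261)) (tt N25535 D40370) (tt N13023 (iv7 F31390)))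
theorem Q12691 : ∀ i, i < 12691 → P i := stepQ 12690 Q12690 (allL N12690 (tt N12728 (iv1 F293504)) (tt N6625 (iv0 F62664)) (tt N12731 (iv2 F293870)) (tt N25535 (iv3 F61454)) (tt N12975 (iv4 F31277)) (tt N25536 D40373) (tt N6123 (iv6 D19079)) (tt N12730 F294743))
theorem Q12692 : ∀ i, i < 12692 → P i := stepQ 12691 Q12691 (allL N12691 (tt N12618 F30637) (tt N12615 F30638) (tt N11952 F30635) (tt N25537 D40375) (tt N6124 (iv4 D19080)) (tt N11950 F30636) (tt N25538 D40376) (tt N13026 (iv7 F31397)))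
theorem Q12693 : ∀ i, i < 12693 → P i := stepQ 12692 Q12692 (allL N12692 (tt N22263 (iv1 F304409)) (tt N22150 (iv0 F304410)) (tt N25516 (iv2 F61377)) (tt N13038 (iv3 F31405)) (tt N25538 (iv4 F61458)) (tt N25539 D40379) (tt N6124 (iv6 D19081)) (tt N22851 (iv7 F303362)))
theorem Q12694 : ∀ i, i < 12694 → P i := stepQ 12693 Q12693 (allL N12693 (tt N25519 (iv1 F61384)) (tt N6125 (iv0 D19082)) (tt N13057 (iv2 F63500)) (tt N25540 D40382) (tt N13056 (iv4 F63499)) (tt N25541 D40384) (tt N25542 D40385) (tt N25517 (iv7 F63520)))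
theorem Q12695 : ∀ i, i < 12695 → P i := stepQ 12694 Q12694 (allL N12694 (tt N6125 (iv1 D19083)) (tt N25519 F61383) (tt N25517 (iv2 F63519)) (tt N25543 D40387) (tt N12972 (iv4 F31273)) (tt N25544 D40388) (tt N25545 D40389) (tt N13057 (iv7 F63501)))
theorem Q12696 : ∀ i, i < 12696 → P i := stepQ 12695 Q12695 (allL N12695 (tt N25546 D40390) (tt N25547 D40391) (tt N25518 (iv2 F61380)) (tt N13054 (iv3 F31413)) (tt N25548 D40392) (tt N6125 (iv5 D19084)) (tt N25539 (iv6 F61459)) (tt N25549 D40393))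
theorem Q12697 : ∀ i, i < 12697 → P i := stepQ 12696 Q12696 (allL N12696 (tt N25517 (iv1 F61379)) (tt N13057 (iv0 F31422)) (tt N25519 (iv2 F61381)) (tt N13051 (iv3 F31410)) (tt N6128 F30639) (tt N25549 (iv5 F61464)) (tt N13031 (iv6 F31402)) (tt N6125 (iv7 D19085)))
theorem Q12698 : ∀ i, i < 12698 → P i := stepQ 12697 Q12697 (allL N12697 (tt N13178 (iv1 F35656)) (tt N12112 (iv0 F35847)) (tt N13040 (iv2 F63484)) (tt N6126 (iv3 D19087)) (tt N12964 F31268) (tt N25550 D40401) (tt N25551 D40402) (tt N13044 (iv7 F63454)))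
theorem Q12699 : ∀ i, i < 12699 → P i := stepQ 12698 Q12698 (allL N12698 (tt N25552 D40404) (tt N25522 (iv0 F63120)) (tt N25520 (iv2 F63445)) (tt N25553 D40406) (tt N6126 (iv4 D19088)) (tt N25554 D40407) (tt N25555 D40408) (tt N25521 (iv7 F63456)))
theorem Q12700 : ∀ i, i < 12700 → P i := stepQ 12699 Q12699 (allL N12699 (tt N25556 D40410) (tt N6626 F62497) (tt N14551 (iv2 F293179)) (tt N25550 (iv3 F61474)) (tt N25557 D40412) (tt N6126 (iv5 D19089)) (tt N14508 F293040) (tt N13098 (iv7 F63458)))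
theorem Q12701 : ∀ i, i < 12701 → P i := stepQ 12700 Q12700 (allL N12700 (tt N13584 (iv1 F66151)) (tt N13117 (iv0 F291417)) (tt N13589 (iv2 F66194)) (tt N25551 (iv3 F61475)) (tt N25555 (iv4 F61482)) (tt N14509 F291207) (tt N6126 (iv6 D19090)) (tt N13588 (iv7 F66193)))
theorem Q12702 : ∀ i, i < 12702 → P i := stepQ 12701 Q12701 (allL N12701 (tt N13361 F61486) (tt N13364 F61491) (tt N13363 F61478) (tt N6127 (iv3 D19092)) (tt N13878 (iv4 F63199)) (tt N25558 D40420) (tt N25559 D40421) (tt N13362 (iv7 F63443)))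
theorem Q12703 : ∀ i, i < 12703 → P i := stepQ 12702 Q12702 (allL N12702 (tt N25522 (iv1 F63121)) (tt N25552 F61485) (tt N25521 (iv2 F63455)) (tt N25560 D40422) (tt N6127 (iv4 D19093)) (tt N25561 D40423) (tt N25562 D40424) (tt N25520 (iv7 F63446)))
theorem Q12704 : ∀ i, i < 12704 → P i := stepQ 12703 Q12703 (allL N12703 (tt N6626 F62498) (tt N25556 F61497) (tt N13098 (iv2 F63457)) (tt N25558 (iv3 F61501)) (tt N25563 D40425) (tt N6127 (iv5 D19094)) (tt N13092 (iv6 F31476)) (tt N14551 (iv7 F293182)))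
theorem Q12705 : ∀ i, i < 12705 → P i := stepQ 12704 Q12704 (allL N12704 (tt N7091 (iv1 F292378)) (tt N7071 (iv0 F292377)) (tt N7088 (iv2 F292249)) (tt N25559 (iv3 F61504)) (tt N25562 (iv4 F61505)) (tt N13333 (iv5 F66097)) (tt N6127 (iv6 D19095)) (tt N7089 F292176))
theorem Q12706 : ∀ i, i < 12706 → P i := stepQ 12705 Q12705 (allL N12705 (tt N13544 F63209) (tt N6613 F63210) (tt N13382 (iv2 F35814)) (tt N13102 (iv3 F31495)) (tt N6129 (iv4 D19104)) (tt N25564 D40432) (tt N25565 D40433) (tt N12708 (iv7 F30700)))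
theorem Q12707 : ∀ i, i < 12707 → P i := stepQ 12706 Q12706 (allL N12706 (tt N25566 D40434) (tt N6623 F35682) (tt N13383 (iv2 F35806)) (tt N6130 F30691) (tt N25567 D40435) (tt N6129 (iv5 D19105)) (tt N6913 (iv6 F291168)) (tt N12709 (iv7 F30702)))
theorem Q12708 : ∀ i, i < 12708 → P i := stepQ 12707 Q12707 (allL N12707 (tt N13539 F35686) (tt N13581 F35767) (tt N13384 (iv2 F35723)) (tt N6131 F30692) (tt N25565 (iv4 F61511)) (tt N6914 F290876) (tt N6129 (iv6 D19106)) (tt N13580 (iv7 F35715)))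
theorem Q12709 : ∀ i, i < 12709 → P i := stepQ 12708 Q12708 (allL N12708 (tt N6584 F63171) (tt N13608 (iv0 F63213)) (tt N13187 F35704) (tt N13103 (iv3 F31505)) (tt N6132 (iv4 D19110)) (tt N25568 D40438) (tt N14245 (iv6 F292113)) (tt N12705 F30700))
theorem Q12710 : ∀ i, i < 12710 → P i := stepQ 12709 Q12709 (allL N12709 (tt N13088 (iv1 F290840)) (tt N13483 F35807) (tt N13171 F35705) (tt N6133 F30701) (tt N25569 D40440) (tt N6132 (iv5 D19111)) (tt N6336 (iv6 F30703)) (tt N12706 F30702))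
theorem Q12711 : ∀ i, i < 12711 → P i := stepQ 12710 Q12710 (allL N12710 (tt N23504 (iv1 F296184)) (tt N23470 (iv0 F115866)) (tt N11986 F30705) (tt N12928 (iv3 F31184)) (tt N13848 (iv4 F33965)) (tt N23699 (iv5 F296054)) (tt N6134 (iv6 D19113)) (tt N25570 D40445))
theorem Q12712 : ∀ i, i < 12712 → P i := stepQ 12711 Q12711 (allL N12711 (tt N13798 (iv1 F33766)) (tt N13797 F33762) (tt N11834 F30706) (tt N12929 (iv3 F31187)) (tt N22903 (iv4 F54628)) (tt N6135 (iv5 D19114)) (tt N23699 (iv6 F296055)) (tt N6633 F30707))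
theorem Q12713 : ∀ i, i < 12713 → P i := stepQ 12712 Q12712 (allL N12712 (tt N13814 (iv1 F33828)) (tt N13813 F33825) (tt N12727 (iv2 F30752)) (tt N25571 D40446) (tt N6136 (iv4 D19115)) (tt N25572 D40447) (tt N13871 (iv6 F34042)) (tt N6641 F30708))
theorem Q12714 : ∀ i, i < 12714 → P i := stepQ 12713 Q12713 (allL N12713 (tt N12724 F30743) (tt N13639 F33409) (tt N6143 F30709) (tt N6446 F30710) (tt N6137 (iv4 D19116)) (tt N23950 (iv5 F57001)) (tt N12713 F30711) (tt N6141 F30712))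
theorem Q12715 : ∀ i, i < 12715 → P i := stepQ 12714 Q12714 (allL N12714 (tt N13152 (iv1 F31695)) (tt N14679 F36833) (tt N6145 F30713) (tt N25573 D40448) (tt N6138 (iv4 D19117)) (tt N25574 D40449) (tt N13513 (iv6 F292470)) (tt N13812 (iv7 F33818)))
theorem Q12716 : ∀ i, i < 12716 → P i := stepQ 12715 Q12715 (allL N12715 (tt N6143 (iv1 F30722)) (tt N6141 (iv0 D19119)) (tt N13639 (iv2 F33404)) (tt N11750 F30721) (tt N6438 F30720) (tt N13798 (iv5 F33768)) (tt N6712 (iv6 F30723)) (tt N12724 (iv7 F30742)))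
theorem Q12717 : ∀ i, i < 12717 → P i := stepQ 12716 Q12716 (allL N12716 (tt N13637 (iv1 F33400)) (tt N13638 (iv0 F33402)) (tt N13339 (iv2 F295893)) (tt N12940 (iv3 F31220)) (tt N25575 D40451) (tt N6141 (iv5 D19120)) (tt N13337 F295888) (tt N23950 (iv7 F57002)))
theorem Q12718 : ∀ i, i < 12718 → P i := stepQ 12717 Q12717 (allL N12717 (tt N6357 (iv1 F30730)) (tt N6467 (iv0 F30728)) (tt N11230 F30725) (tt N17464 (iv3 F43340)) (tt N6142 (iv4 D19123)) (tt N25576 D40460) (tt N12717 F30726) (tt N12668 F30727))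
theorem Q12719 : ∀ i, i < 12719 → P i := stepQ 12718 Q12718 (allL N12718 (tt N24022 (iv1 F57157)) (tt N6618 (iv0 F292640)) (tt N12924 (iv2 F31171)) (tt N6144 F30733) (tt N13914 (iv4 F292887)) (tt N6142 (iv5 D19124)) (tt N13564 F291827) (tt N6176 (iv7 F292889)))
theorem Q12720 : ∀ i, i < 12720 → P i := stepQ 12719 Q12719 (allL N12719 (tt N25526 F293860) (tt N25509 (iv0 F61362)) (tt N12729 (iv2 F30755)) (tt N25577 D40463) (tt N6144 (iv4 D19125)) (tt N25578 D40464) (tt N13582 F293861) (tt N6183 (iv7 F294144)))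
theorem Q12721 : ∀ i, i < 12721 → P i := stepQ 12720 Q12720 (allL N12720 (tt N13812 (iv1 F33820)) (tt N6145 (iv0 D19127)) (tt N13152 (iv2 F31692)) (tt N25579 D40469) (tt N13146 (iv4 F31685)) (tt N25580 D40470) (tt N14315 (iv6 F291780)) (tt N14679 (iv7 F36834)))
theorem Q12722 : ∀ i, i < 12722 → P i := stepQ 12721 Q12721 (allL N12721 (tt N6145 (iv1 D19128)) (tt N13812 (iv0 F33819)) (tt N14679 F36832) (tt N25581 D40472) (tt N6569 (iv4 F30736)) (tt N25582 D40473) (tt N25583 D40474) (tt N13152 (iv7 F31693)))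
theorem Q12723 : ∀ i, i < 12723 → P i := stepQ 12722 Q12722 (allL N12722 (tt N14131 (iv1 F294396)) (tt N14394 (iv0 F294398)) (tt N14194 (iv2 F294399)) (tt N6145 (iv3 D19129)) (tt N6146 F30737) (tt N25584 D40478) (tt N7064 (iv6 F294114)) (tt N13764 F293488))
theorem Q12724 : ∀ i, i < 12724 → P i := stepQ 12723 Q12723 (allL N12723 (tt N25536 (iv1 F294300)) (tt N25585 D40480) (tt N25574 (iv2 F61540)) (tt N25584 (iv3 F61576)) (tt N25586 D40481) (tt N6145 (iv5 D19130)) (tt N25587 D40482) (tt N14680 (iv7 F36837)))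
theorem Q12725 : ∀ i, i < 12725 → P i := stepQ 12724 Q12724 (allL N12724 (tt N6777 (iv1 F30744)) (tt N12713 (iv0 F30743)) (tt N11551 F30739) (tt N8503 F30740) (tt N6356 F30741) (tt N13640 (iv5 F33410)) (tt N6147 (iv6 D19134)) (tt N12715 F30742))
theorem Q12726 : ∀ i, i < 12726 → P i := stepQ 12725 Q12725 (allL N12725 (tt N25588 D40493) (tt N24149 (iv0 F113856)) (tt N11810 F30745) (tt N6808 F30746) (tt N12034 F30747) (tt N6699 F30748) (tt N6149 (iv6 D19135)) (tt N25589 D40495))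
theorem Q12727 : ∀ i, i < 12727 → P i := stepQ 12726 Q12726 (allL N12726 (tt N25590 D40496) (tt N6257 (iv0 F30751)) (tt N13153 (iv2 F31696)) (tt N6152 F30749) (tt N25505 (iv4 F61356)) (tt N6151 (iv5 D19136)) (tt N7107 F291581) (tt N6709 F30750))
theorem Q12728 : ∀ i, i < 12728 → P i := stepQ 12727 Q12727 (allL N12727 (tt N13661 (iv1 F33433)) (tt N13660 F33432) (tt N12712 F30752) (tt N25591 D40497) (tt N6152 (iv4 D19137)) (tt N25592 D40498) (tt N7108 F292534) (tt N6722 F30753))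
theorem Q12729 : ∀ i, i < 12729 → P i := stepQ 12728 Q12728 (allL N12728 (tt N13498 (iv1 F32700)) (tt N12690 F293504) (tt N6155 F30754) (tt N25593 D40499) (tt N6153 (iv4 D19138)) (tt N25594 D40500) (tt N14564 (iv6 F36239)) (tt N12782 F293505))
theorem Q12730 : ∀ i, i < 12730 → P i := stepQ 12729 Q12729 (allL N12729 (tt N12780 F294151) (tt N12779 F294152) (tt N12719 F30755) (tt N25595 D40503) (tt N6154 (iv4 D19139)) (tt N25596 D40504) (tt N12760 F294153) (tt N12684 F294154))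
theorem Q12731 : ∀ i, i < 12731 → P i := stepQ 12730 Q12730 (allL N12730 (tt N12782 (iv1 F294742)) (tt N6155 (iv0 D19144)) (tt N13498 (iv2 F32697)) (tt N25597 D40516) (tt N13497 F32696) (tt N25598 D40517) (tt N13506 F293864) (tt N12690 (iv7 F294743)))
theorem Q12732 : ∀ i, i < 12732 → P i := stepQ 12731 Q12731 (allL N12731 (tt N6155 (iv1 D19145)) (tt N12782 F293869) (tt N12690 F293870) (tt N25599 D40519) (tt N6285 F293871) (tt N25600 D40520) (tt N6284 F293872) (tt N13498 (iv7 F32698)))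
theorem Q12733 : ∀ i, i < 12733 → P i := stepQ 12732 Q12732 (allL N12732 (tt N25580 (iv1 F61570)) (tt N25582 (iv0 F61572)) (tt N25594 (iv2 F61612)) (tt N13762 (iv3 F294427)) (tt N25601 D40526) (tt N6155 (iv5 D19147)) (tt N25602 D40527) (tt N13630 F293489))
theorem Q12734 : ∀ i, i < 12734 → P i := stepQ 12733 Q12733 (allL N12733 (tt N12926 (iv1 F31177)) (tt N13140 F31653) (tt N6234 F30768) (tt N25603 D40538) (tt N6156 (iv4 D19151)) (tt N25604 D40539) (tt N14623 (iv6 F36498)) (tt N13135 (iv7 F31636)))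
theorem Q12735 : ∀ i, i < 12735 → P i := stepQ 12734 Q12734 (allL N12734 (tt N6222 F35586) (tt N14129 F35587) (tt N6410 F30769) (tt N12764 (iv3 F30833)) (tt N6897 F30770) (tt N12112 F30771) (tt N6157 (iv6 D19152)) (tt N14378 (iv7 F35829)))
theorem Q12736 : ∀ i, i < 12736 → P i := stepQ 12735 Q12735 (allL N12735 (tt N13095 (iv1 F63481)) (tt N25605 D40541) (tt N6498 F30772) (tt N12766 (iv3 F30849)) (tt N6820 F30773) (tt N13593 F291228) (tt N6158 (iv6 D19153)) (tt N25606 D40543))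
theorem Q12737 : ∀ i, i < 12737 → P i := stepQ 12736 Q12736 (allL N12736 (tt N12116 (iv1 F30779)) (tt N6159 (iv0 D19154)) (tt N12115 (iv2 F66238)) (tt N6580 (iv3 F66239)) (tt N6827 (iv4 F66240)) (tt N14682 F294488) (tt N25607 D40548) (tt N6597 (iv7 F66241)))
theorem Q12738 : ∀ i, i < 12738 → P i := stepQ 12737 Q12737 (allL N12737 (tt N6159 (iv1 D19155)) (tt N12116 F30774) (tt N6597 F66242) (tt N24429 (iv3 F66280)) (tt N6828 (iv4 F66244)) (tt N25608 D40552) (tt N25609 D40553) (tt N12115 F66243))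
theorem Q12739 : ∀ i, i < 12739 → P i := stepQ 12738 Q12738 (allL N12738 (tt N6597 F66161) (tt N12115 F30781) (tt N12116 F30775) (tt N6170 F30776) (tt N13022 (iv4 F31388)) (tt N12738 F30777) (tt N6448 (iv6 F292022)) (tt N6159 (iv7 D19156)))
theorem Q12740 : ∀ i, i < 12740 → P i := stepQ 12739 Q12739 (allL N12739 (tt N12589 F30784) (tt N12587 F30785) (tt N12598 F30782) (tt N23570 (iv3 F56156)) (tt N6160 (iv4 D19157)) (tt N10965 F302080) (tt N17877 (iv6 F296474)) (tt N12599 F30783))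
theorem Q12741 : ∀ i, i < 12741 → P i := stepQ 12740 Q12740 (allL N12740 (tt N13133 (iv1 F31632)) (tt N13336 (iv0 F32112)) (tt N13828 (iv2 F33907)) (tt N16007 F325941) (tt N25610 D40560) (tt N6161 (iv5 D19159)) (tt N17878 (iv6 F296406)) (tt N23943 (iv7 F56953)))
theorem Q12742 : ∀ i, i < 12742 → P i := stepQ 12741 Q12741 (allL N12741 (tt N6840 F30790) (tt N6788 F30791) (tt N10885 F304043) (tt N24109 (iv3 F57434)) (tt N6162 (iv4 D19161)) (tt N10855 F304044) (tt N10856 (iv6 F306146)) (tt N12578 F30789))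
theorem Q12743 : ∀ i, i < 12743 → P i := stepQ 12742 Q12742 (allL N12742 (tt N17405 (iv1 F116642)) (tt N15332 F308116) (tt N10890 F308117) (tt N11813 F30792) (tt N10856 F308118) (tt N12480 F296096) (tt N6162 (iv6 D19162)) (tt N23087 (iv7 F296478)))
theorem Q12744 : ∀ i, i < 12744 → P i := stepQ 12743 Q12743 (allL N12743 (tt N9553 F302710) (tt N22765 F302711) (tt N22764 F302712) (tt N6163 (iv3 D19163)) (tt N17034 (iv4 F297835)) (tt N25454 (iv5 F61049)) (tt N21846 (iv6 F297836)) (tt N13852 F296514))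
theorem Q12745 : ∀ i, i < 12745 → P i := stepQ 12744 Q12744 (allL N12744 (tt N25611 D40590) (tt N25612 D40591) (tt N14044 (iv2 F34596)) (tt N6164 (iv3 D19170)) (tt N6755 F30800) (tt N25613 D40592) (tt N25614 D40593) (tt N13697 (iv7 F33493)))
theorem Q12746 : ∀ i, i < 12746 → P i := stepQ 12745 Q12745 (allL N12745 (tt N7099 F30801) (tt N7095 F30802) (tt N12803 F30944) (tt N25613 (iv3 F61713)) (tt N10886 F302011) (tt N6164 (iv5 D19171)) (tt N25615 D40594) (tt N10882 F302012))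
theorem Q12747 : ∀ i, i < 12747 → P i := stepQ 12746 Q12746 (allL N12746 (tt N25520 (iv1 F63562)) (tt N25521 (iv0 F63561)) (tt N25522 (iv2 F61387)) (tt N25614 (iv3 F61714)) (tt N6754 F30803) (tt N25616 D40597) (tt N6164 (iv6 D19172)) (tt N25552 (iv7 F63157)))
theorem Q12748 : ∀ i, i < 12748 → P i := stepQ 12747 Q12747 (allL N12747 (tt N7095 F30804) (tt N7099 F30805) (tt N10882 F301659) (tt N14047 (iv3 F34598)) (tt N10855 F301660) (tt N6165 (iv5 D19173)) (tt N10854 (iv6 F303350)) (tt N12803 (iv7 F30942)))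
theorem Q12749 : ∀ i, i < 12749 → P i := stepQ 12748 Q12748 (allL N12748 (tt N13096 (iv1 F63552)) (tt N13100 (iv0 F63711)) (tt N13698 (iv2 F33494)) (tt N14048 (iv3 F34599)) (tt N6790 F30806) (tt N25617 D40602) (tt N6165 (iv6 D19174)) (tt N25618 D40603))
theorem Q12750 : ∀ i, i < 12750 → P i := stepQ 12749 Q12749 (allL N12749 (tt N25523 (iv1 F61393)) (tt N6166 (iv0 D19175)) (tt N21785 (iv2 F51888)) (tt N8687 (iv3 F30808)) (tt N12750 F30810) (tt N8340 F30807) (tt N25619 D40604) (tt N10660 (iv7 F30809)))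
theorem Q12751 : ∀ i, i < 12751 → P i := stepQ 12750 Q12750 (allL N12750 (tt N6166 (iv1 D19176)) (tt N25523 F61394) (tt N10660 (iv2 F30812)) (tt N25620 D40605) (tt N12749 (iv4 F30810)) (tt N10650 F30811) (tt N25621 D40606) (tt N21785 (iv7 F51889)))
theorem Q12752 : ∀ i, i < 12752 → P i := stepQ 12751 Q12751 (allL N12751 (tt N21785 (iv1 F51892)) (tt N10660 F30813) (tt N6166 (iv2 D19177)) (tt N13995 (iv3 F34485)) (tt N13017 (iv4 F31379)) (tt N10554 (iv5 F30814)) (tt N25622 D40607) (tt N25523 (iv7 F61392)))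
theorem Q12753 : ∀ i, i < 12753 → P i := stepQ 12752 Q12752 (allL N12752 (tt N8322 F30820) (tt N10545 F30818) (tt N10554 F30815) (tt N6167 F30816) (tt N10728 (iv4 F30819)) (tt N6166 (iv5 D19178)) (tt N25623 D40608) (tt N10555 F30817))
theorem Q12754 : ∀ i, i < 12754 → P i := stepQ 12753 Q12753 (allL N12753 (tt N25624 D40609) (tt N25625 D40610) (tt N25622 (iv2 F61724)) (tt N6168 F30821) (tt N13019 (iv4 F31386)) (tt N25626 D40611) (tt N6166 (iv6 D19179)) (tt N25627 D40612))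
theorem Q12755 : ∀ i, i < 12755 → P i := stepQ 12754 Q12754 (allL N12754 (tt N6182 (iv1 F30823)) (tt N6167 (iv0 D19180)) (tt N14609 (iv2 F36426)) (tt N25628 D40613) (tt N24248 (iv4 F58176)) (tt N6192 F30822) (tt N25629 D40614) (tt N13665 (iv7 F33442)))
theorem Q12756 : ∀ i, i < 12756 → P i := stepQ 12755 Q12755 (allL N12755 (tt N6167 (iv1 D19181)) (tt N6182 F30824) (tt N13665 (iv2 F33441)) (tt N14051 (iv3 F44594)) (tt N10965 F301610) (tt N6193 F30825) (tt N10963 (iv6 F304368)) (tt N14609 (iv7 F36427)))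
theorem Q12757 : ∀ i, i < 12757 → P i := stepQ 12756 Q12756 (allL N12756 (tt N25630 D40616) (tt N25631 D40617) (tt N25530 (iv2 F61438)) (tt N25623 (iv3 F61726)) (tt N25456 (iv4 F61053)) (tt N25632 D40618) (tt N6167 (iv6 D19182)) (tt N25633 D40619))
theorem Q12758 : ∀ i, i < 12758 → P i := stepQ 12757 Q12757 (allL N12757 (tt N13582 F66222) (tt N6168 (iv0 D19183)) (tt N25531 (iv2 F66307)) (tt N25634 D40621) (tt N6794 (iv4 F66226)) (tt N25635 D40623) (tt N25636 D40624) (tt N13755 (iv7 F66228)))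
theorem Q12759 : ∀ i, i < 12759 → P i := stepQ 12758 Q12758 (allL N12758 (tt N6168 (iv1 D19184)) (tt N13582 F66223) (tt N13755 (iv2 F66227)) (tt N14055 (iv3 F66229)) (tt N6795 (iv4 F66230)) (tt N25637 D40628) (tt N25638 D40629) (tt N25531 (iv7 F66309)))
theorem Q12760 : ∀ i, i < 12760 → P i := stepQ 12759 Q12759 (allL N12759 (tt N25639 D40630) (tt N25640 D40631) (tt N25532 (iv2 F61440)) (tt N25626 (iv3 F61728)) (tt N25641 D40632) (tt N6168 (iv5 D19185)) (tt N25632 (iv6 F61731)) (tt N25642 D40633))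
theorem Q12761 : ∀ i, i < 12761 → P i := stepQ 12760 Q12760 (allL N12760 (tt N13755 (iv1 F66212)) (tt N25531 F61444) (tt N13582 (iv2 F66204)) (tt N25627 (iv3 F61729)) (tt N6170 F30826) (tt N25642 (iv5 F61734)) (tt N12729 (iv6 F294153)) (tt N6168 (iv7 D19186)))
theorem Q12762 : ∀ i, i < 12762 → P i := stepQ 12761 Q12761 (allL N12761 (tt N13585 (iv1 F66209)) (tt N13024 (iv0 F66208)) (tt N6556 F294329) (tt N25643 D40649) (tt N6169 (iv4 D19189)) (tt N25644 D40650) (tt N25645 D40651) (tt N13583 F66172))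
theorem Q12763 : ∀ i, i < 12763 → P i := stepQ 12762 Q12762 (allL N12762 (tt N6475 (iv1 F292971)) (tt N6474 (iv0 F292879)) (tt N6477 F292737) (tt N12762 F66148) (tt N25646 D40653) (tt N6169 (iv5 D19190)) (tt N13658 F291775) (tt N6476 (iv7 F292885)))
theorem Q12764 : ∀ i, i < 12764 → P i := stepQ 12763 Q12763 (allL N12763 (tt N13101 (iv1 F63073)) (tt N14508 F292159) (tt N6567 F294253) (tt N12763 F66210) (tt N25645 (iv4 F61747)) (tt N12830 F30966) (tt N6169 (iv6 D19191)) (tt N14542 F292160))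
theorem Q12765 : ∀ i, i < 12765 → P i := stepQ 12764 Q12764 (allL N12764 (tt N14379 F35589) (tt N6226 F35590) (tt N6516 F30832) (tt N12734 F30833) (tt N7074 F30834) (tt N13361 (iv5 F32362)) (tt N6171 (iv6 D19198)) (tt N14646 (iv7 F36641)))
theorem Q12766 : ∀ i, i < 12766 → P i := stepQ 12765 Q12765 (allL N12765 (tt N6618 (iv1 F62687)) (tt N24022 (iv0 F292825)) (tt N6176 F30835) (tt N6443 (iv3 F293250)) (tt N13858 (iv4 F34011)) (tt N6442 (iv5 F293253)) (tt N6172 (iv6 D19199)) (tt N12924 (iv7 F292842)))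
theorem Q12767 : ∀ i, i < 12767 → P i := stepQ 12766 Q12766 (allL N12766 (tt N25647 D40686) (tt N13099 (iv0 F63709)) (tt N6367 F30848) (tt N12735 F30849) (tt N6760 F30850) (tt N25648 D40688) (tt N6174 (iv6 D19204)) (tt N25649 D40689))
theorem Q12768 : ∀ i, i < 12768 → P i := stepQ 12767 Q12767 (allL N12767 (tt N25650 D40690) (tt N25651 D40691) (tt N25652 D40692) (tt N6175 (iv3 D19205)) (tt N6181 F30851) (tt N25653 D40693) (tt N25654 D40694) (tt N13856 (iv7 F34007)))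
theorem Q12769 : ∀ i, i < 12769 → P i := stepQ 12768 Q12768 (allL N12768 (tt N6647 F30852) (tt N6636 F30853) (tt N13783 F33707) (tt N25653 (iv3 F61808)) (tt N25655 D40695) (tt N6175 (iv5 D19206)) (tt N25656 D40696) (tt N13782 F33703))
theorem Q12770 : ∀ i, i < 12770 → P i := stepQ 12769 Q12769 (allL N12769 (tt N12674 F293899) (tt N13137 F293900) (tt N13858 (iv2 F34010)) (tt N25654 (iv3 F61809)) (tt N6176 F30854) (tt N25657 D40699) (tt N6175 (iv6 D19207)) (tt N13914 (iv7 F62598)))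
theorem Q12771 : ∀ i, i < 12771 → P i := stepQ 12770 Q12770 (allL N12770 (tt N12924 F293692) (tt N6176 (iv0 D19208)) (tt N6618 F62905) (tt N12948 F293693) (tt N6768 (iv4 F62906)) (tt N6708 F293694) (tt N25658 D40705) (tt N24022 F293695))
theorem Q12772 : ∀ i, i < 12772 → P i := stepQ 12771 Q12771 (allL N12771 (tt N6176 (iv1 D19209)) (tt N12924 (iv0 F292840)) (tt N24022 (iv2 F292826)) (tt N6330 F292087) (tt N6769 (iv4 F62902)) (tt N6328 (iv5 F292652)) (tt N25659 D40710) (tt N6618 (iv7 F62903)))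
theorem Q12773 : ∀ i, i < 12773 → P i := stepQ 12772 Q12772 (allL N12772 (tt N25660 D40718) (tt N25661 D40719) (tt N25662 D40720) (tt N6178 (iv3 D19214)) (tt N17384 (iv4 F42996)) (tt N10733 F30867) (tt N13817 F296517) (tt N17640 (iv7 F44204)))
theorem Q12774 : ∀ i, i < 12774 → P i := stepQ 12773 Q12773 (allL N12773 (tt N6467 (iv1 F30878)) (tt N6357 (iv0 F30877)) (tt N12668 F30874) (tt N6440 F30875) (tt N6442 F30876) (tt N25300 (iv5 F60658)) (tt N6179 (iv6 D19221)) (tt N11230 F30879))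
theorem Q12775 : ∀ i, i < 12775 → P i := stepQ 12774 Q12774 (allL N12774 (tt N13995 (iv1 F34486)) (tt N6181 (iv0 D19224)) (tt N12980 (iv2 F31295)) (tt N13990 (iv3 F34476)) (tt N13714 (iv4 F33509)) (tt N25663 D40744) (tt N25664 D40745) (tt N13996 (iv7 F34488)))
theorem Q12776 : ∀ i, i < 12776 → P i := stepQ 12775 Q12775 (allL N12775 (tt N12980 (iv1 F34484)) (tt N13996 F34490) (tt N6181 (iv2 D19225)) (tt N25523 (iv3 F61389)) (tt N25652 (iv4 F61807)) (tt N25665 D40746) (tt N25666 D40747) (tt N13995 (iv7 F34482)))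
theorem Q12777 : ∀ i, i < 12777 → P i := stepQ 12776 Q12776 (allL N12776 (tt N25667 D40748) (tt N14011 (iv0 F34500)) (tt N25665 (iv2 F61855)) (tt N6182 F30888) (tt N25668 D40749) (tt N6181 (iv5 D19226)) (tt N25669 D40750) (tt N25528 (iv7 F61435)))
theorem Q12778 : ∀ i, i < 12778 → P i := stepQ 12777 Q12777 (allL N12777 (tt N25670 D40751) (tt N14020 (iv0 F66245)) (tt N25666 (iv2 F61859)) (tt N6183 F30889) (tt N25654 (iv4 F61810)) (tt N25671 D40753) (tt N6181 (iv6 D19227)) (tt N25577 F294929))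
theorem Q12779 : ∀ i, i < 12779 → P i := stepQ 12778 Q12778 (allL N12778 (tt N25672 D40755) (tt N10927 (iv0 F307086)) (tt N25525 (iv2 F61397)) (tt N25669 (iv3 F61865)) (tt N25455 (iv4 F61051)) (tt N25673 D40757) (tt N6182 (iv6 D19228)) (tt N25674 D40758))
theorem Q12780 : ∀ i, i < 12780 → P i := stepQ 12779 Q12779 (allL N12779 (tt N12729 (iv1 F294152)) (tt N6183 (iv0 D19229)) (tt N25509 F293591) (tt N25675 D40760) (tt N13151 F293592) (tt N25676 D40762) (tt N25677 D40763) (tt N25526 (iv7 F62846)))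
theorem Q12781 : ∀ i, i < 12781 → P i := stepQ 12780 Q12780 (allL N12780 (tt N6183 (iv1 D19230)) (tt N12729 (iv0 F294151)) (tt N25526 (iv2 F62845)) (tt N25678 D40765) (tt N6774 (iv4 F62621)) (tt N25679 D40767) (tt N25680 D40768) (tt N25509 F293593))
theorem Q12782 : ∀ i, i < 12782 → P i := stepQ 12781 Q12781 (allL N12781 (tt N25681 D40769) (tt N25682 D40770) (tt N25527 (iv2 F61400)) (tt N25671 (iv3 F61866)) (tt N25683 D40771) (tt N6183 (iv5 D19231)) (tt N25673 (iv6 F61868)) (tt N25578 F293624))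
theorem Q12783 : ∀ i, i < 12783 → P i := stepQ 12782 Q12782 (allL N12782 (tt N12731 (iv1 F293869)) (tt N12730 F294742) (tt N6625 F62565) (tt N25684 D40807) (tt N6184 (iv4 D19240)) (tt N25685 D40808) (tt N25686 D40809) (tt N12728 (iv7 F293505)))
theorem Q12784 : ∀ i, i < 12784 → P i := stepQ 12783 Q12783 (allL N12783 (tt N14551 (iv1 F293178)) (tt N13098 (iv0 F62443)) (tt N6626 F62499) (tt N12783 F62181) (tt N25686 (iv4 F61898)) (tt N12873 (iv5 F31013)) (tt N6184 (iv6 D19242)) (tt N25556 (iv7 F62048)))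
theorem Q12785 : ∀ i, i < 12785 → P i := stepQ 12784 Q12784 (allL N12784 (tt N14114 (iv1 F34811)) (tt N14113 F34810) (tt N12275 F30908) (tt N6186 F30909) (tt N25687 D40843) (tt N6185 (iv5 D19253)) (tt N22375 (iv6 F306346)) (tt N14111 (iv7 F34806)))
theorem Q12786 : ∀ i, i < 12786 → P i := stepQ 12785 Q12785 (allL N12785 (tt N25688 D40845) (tt N25689 D40846) (tt N13924 (iv2 F34312)) (tt N6187 F30910) (tt N12785 F30911) (tt N25690 D40847) (tt N6185 (iv6 D19254)) (tt N25691 D40848))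
theorem Q12787 : ∀ i, i < 12787 → P i := stepQ 12786 Q12786 (allL N12786 (tt N6187 (iv1 D19256)) (tt N6221 F30913) (tt N6219 (iv2 F30915)) (tt N25692 D40853) (tt N13932 (iv4 F63102)) (tt N25693 D40854) (tt N13311 F293662) (tt N6218 F30914))
theorem Q12788 : ∀ i, i < 12788 → P i := stepQ 12787 Q12787 (allL N12787 (tt N25694 D40856) (tt N25695 D40857) (tt N6220 F30916) (tt N25690 (iv3 F61943)) (tt N25696 D40858) (tt N6187 (iv5 D19257)) (tt N22377 (iv6 F306348)) (tt N25697 D40859))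
theorem Q12789 : ∀ i, i < 12789 → P i := stepQ 12788 Q12788 (allL N12788 (tt N6219 (iv1 F30919)) (tt N6218 F30920) (tt N6221 F30917) (tt N25691 (iv3 F61944)) (tt N6190 F30918) (tt N25697 (iv5 F61960)) (tt N14317 (iv6 F35255)) (tt N6187 (iv7 D19258)))
theorem Q12790 : ∀ i, i < 12790 → P i := stepQ 12789 Q12789 (allL N12789 (tt N14646 F36643) (tt N6516 F35638) (tt N14379 (iv2 F35309)) (tt N6188 (iv3 D19260)) (tt N13786 (iv4 F63174)) (tt N25698 D40860) (tt N12879 F31031) (tt N6226 F31054))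
theorem Q12791 : ∀ i, i < 12791 → P i := stepQ 12790 Q12790 (allL N12790 (tt N25699 D40861) (tt N13666 (iv0 F63095)) (tt N6223 F31055) (tt N25700 D40862) (tt N6188 (iv4 D19261)) (tt N25701 D40863) (tt N12884 (iv6 F31034)) (tt N6227 F31056))
theorem Q12792 : ∀ i, i < 12792 → P i := stepQ 12791 Q12791 (allL N12791 (tt N7137 (iv1 F292757)) (tt N12829 (iv0 F62075)) (tt N6224 F31057) (tt N25698 (iv3 F61964)) (tt N25702 D40864) (tt N6188 (iv5 D19262)) (tt N6475 F293959) (tt N6228 F31058))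
theorem Q12793 : ∀ i, i < 12793 → P i := stepQ 12792 Q12792 (allL N12792 (tt N13666 (iv1 F63096)) (tt N25699 F61968) (tt N6227 F31047) (tt N14390 (iv3 F35338)) (tt N6189 (iv4 D19264)) (tt N25703 D40865) (tt N13346 F294766) (tt N6223 F31048))
theorem Q12794 : ∀ i, i < 12794 → P i := stepQ 12793 Q12793 (allL N12793 (tt N14272 (iv1 F35152)) (tt N6191 (iv0 D19266)) (tt N14271 (iv2 F66057)) (tt N6393 (iv3 F66072)) (tt N6905 (iv4 F66073)) (tt N25704 D40870) (tt N13574 (iv6 F66077)) (tt N6432 (iv7 F66062)))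
theorem Q12795 : ∀ i, i < 12795 → P i := stepQ 12794 Q12794 (allL N12794 (tt N6191 (iv1 D19267)) (tt N14272 F35151) (tt N6432 (iv2 F66061)) (tt N25705 D40872) (tt N6906 (iv4 F66068)) (tt N25706 D40874) (tt N25707 D40875) (tt N14271 (iv7 F66058)))
theorem Q12796 : ∀ i, i < 12796 → P i := stepQ 12795 Q12795 (allL N12795 (tt N6432 F66042) (tt N14271 F35150) (tt N14272 (iv2 F35148)) (tt N6198 F30925) (tt N14095 (iv4 F34776)) (tt N6920 (iv5 F291588)) (tt N13475 (iv6 F62773)) (tt N6191 (iv7 D19269)))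
theorem Q12797 : ∀ i, i < 12797 → P i := stepQ 12796 Q12796 (allL N12796 (tt N25708 D40880) (tt N25709 D40881) (tt N14215 (iv2 F35056)) (tt N6192 (iv3 D19270)) (tt N6714 F30926) (tt N25628 (iv5 F61730)) (tt N25710 D40882) (tt N13664 (iv7 F33440)))
theorem Q12798 : ∀ i, i < 12798 → P i := stepQ 12797 Q12797 (allL N12797 (tt N14622 (iv1 F66875)) (tt N13871 (iv0 F291928)) (tt N14610 (iv2 F36430)) (tt N25710 (iv3 F61986)) (tt N6707 F30927) (tt N25711 D40885) (tt N6192 (iv6 D19271)) (tt N14625 (iv7 F66741)))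
theorem Q12799 : ∀ i, i < 12799 → P i := stepQ 12798 Q12798 (allL N12798 (tt N6223 (iv1 F63093)) (tt N6227 (iv0 F63094)) (tt N13666 (iv2 F33445)) (tt N14217 (iv3 F35059)) (tt N6785 F30928) (tt N25712 D40889) (tt N6193 (iv6 D19272)) (tt N25699 (iv7 F63098)))
theorem Q12800 : ∀ i, i < 12800 → P i := stepQ 12799 Q12799 (allL N12799 (tt N14287 F35171) (tt N6194 (iv0 D19273)) (tt N14289 (iv2 F35176)) (tt N8790 F30930) (tt N12800 (iv4 F30932)) (tt N8322 F30929) (tt N25713 D40891) (tt N10556 (iv7 F30931)))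
theorem Q12801 : ∀ i, i < 12801 → P i := stepQ 12800 Q12800 (allL N12800 (tt N6194 (iv1 D19274)) (tt N14287 (iv0 F35169)) (tt N10556 (iv2 F30933)) (tt N25714 D40892) (tt N12799 F30932) (tt N10545 (iv5 F30934)) (tt N25715 D40893) (tt N14289 (iv7 F35174)))
theorem Q12802 : ∀ i, i < 12802 → P i := stepQ 12801 Q12801 (allL N12801 (tt N14289 (iv1 F35173)) (tt N10556 F30935) (tt N6194 (iv2 D19275)) (tt N14162 F34938) (tt N14091 (iv4 F34762)) (tt N17040 (iv5 F41993)) (tt N25716 D40894) (tt N14287 (iv7 F35167)))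
theorem Q12803 : ∀ i, i < 12803 → P i := stepQ 12802 Q12802 (allL N12802 (tt N25717 D40895) (tt N25718 D40896) (tt N25716 (iv2 F61998)) (tt N6196 F30936) (tt N14092 (iv4 F34771)) (tt N25719 D40897) (tt N6194 (iv6 D19276)) (tt N25720 D40898))
theorem Q12804 : ∀ i, i < 12804 → P i := stepQ 12803 Q12803 (allL N12803 (tt N6195 (iv1 D19278)) (tt N6203 F30941) (tt N12745 (iv2 F30944)) (tt N14221 F35075) (tt N22026 (iv4 F299256)) (tt N12681 F30943) (tt N22262 (iv6 F302014)) (tt N12747 F30942))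
theorem Q12805 : ∀ i, i < 12805 → P i := stepQ 12804 Q12804 (allL N12804 (tt N25721 D40902) (tt N25722 D40903) (tt N14619 (iv2 F36471)) (tt N21784 (iv3 F51887)) (tt N25441 (iv4 F61025)) (tt N25723 D40904) (tt N6195 (iv6 D19279)) (tt N25724 D40905))
theorem Q12806 : ∀ i, i < 12806 → P i := stepQ 12805 Q12805 (allL N12805 (tt N13326 F66054) (tt N6196 (iv0 D19280)) (tt N14620 (iv2 F66346)) (tt N25725 D40907) (tt N6891 (iv4 F66125)) (tt N25726 D40909) (tt N25727 D40910) (tt N14544 (iv7 F66122)))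
theorem Q12807 : ∀ i, i < 12807 → P i := stepQ 12806 Q12806 (allL N12806 (tt N6196 (iv1 D19281)) (tt N13326 F66053) (tt N14544 (iv2 F66121)) (tt N14225 (iv3 F66123)) (tt N6892 (iv4 F66124)) (tt N25728 D40914) (tt N25729 D40915) (tt N14620 (iv7 F66349)))
theorem Q12808 : ∀ i, i < 12808 → P i := stepQ 12807 Q12807 (allL N12807 (tt N25730 D40916) (tt N25731 D40917) (tt N14621 (iv2 F36473)) (tt N25719 (iv3 F61999)) (tt N25732 D40918) (tt N6196 (iv5 D19282)) (tt N25723 (iv6 F62005)) (tt N25733 D40919))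
theorem Q12809 : ∀ i, i < 12809 → P i := stepQ 12808 Q12808 (allL N12808 (tt N14544 (iv1 F66120)) (tt N14620 F36477) (tt N13326 F66051) (tt N25720 (iv3 F62000)) (tt N6198 F30945) (tt N25733 (iv5 F62009)) (tt N13512 (iv6 F62506)) (tt N6196 (iv7 D19283)))
theorem Q12810 : ∀ i, i < 12810 → P i := stepQ 12809 Q12809 (allL N12809 (tt N13330 (iv1 F66091)) (tt N6210 (iv0 F66090)) (tt N6459 (iv2 F66092)) (tt N25734 D40935) (tt N6197 (iv4 D19286)) (tt N25735 D40936) (tt N13313 F294351) (tt N13327 (iv7 F66084)))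
theorem Q12811 : ∀ i, i < 12811 → P i := stepQ 12810 Q12810 (allL N12810 (tt N13333 (iv1 F66095)) (tt N6683 F291399) (tt N6460 (iv2 F66102)) (tt N12810 F66114) (tt N25736 D40940) (tt N6197 (iv5 D19287)) (tt N6664 F291400) (tt N13328 (iv7 F66086)))
theorem Q12812 : ∀ i, i < 12812 → P i := stepQ 12811 Q12811 (allL N12811 (tt N6541 (iv1 F62632)) (tt N25737 D40971) (tt N6201 F30952) (tt N13385 (iv3 F32421)) (tt N13776 (iv4 F33681)) (tt N25738 D40972) (tt N6199 (iv6 D19298)) (tt N25739 D40973))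
theorem Q12813 : ∀ i, i < 12813 → P i := stepQ 12812 Q12812 (allL N12812 (tt N25740 D40974) (tt N25741 D40975) (tt N25742 D40976) (tt N6200 (iv3 D19299)) (tt N6202 F30953) (tt N25743 D40977) (tt N25744 D40978) (tt N13773 (iv7 F33673)))
theorem Q12814 : ∀ i, i < 12814 → P i := stepQ 12813 Q12813 (allL N12813 (tt N6756 F30954) (tt N6749 F30955) (tt N13692 F33487) (tt N25743 (iv3 F62124)) (tt N24267 (iv4 F58230)) (tt N6200 (iv5 D19300)) (tt N25745 D40979) (tt N13691 F33483))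
theorem Q12815 : ∀ i, i < 12815 → P i := stepQ 12814 Q12814 (allL N12814 (tt N14562 (iv1 F63076)) (tt N14563 (iv0 F63075)) (tt N13776 (iv2 F33680)) (tt N25744 (iv3 F62125)) (tt N6201 F30956) (tt N25746 D40982) (tt N6200 (iv6 D19301)) (tt N14592 (iv7 F62534)))
theorem Q12816 : ∀ i, i < 12816 → P i := stepQ 12815 Q12815 (allL N12815 (tt N25739 (iv1 F62121)) (tt N6201 (iv0 D19302)) (tt N6541 (iv2 F62964)) (tt N14233 F62963) (tt N7079 (iv4 F62965)) (tt N6887 F292302) (tt N12921 F292303) (tt N25737 (iv7 F62966)))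
theorem Q12817 : ∀ i, i < 12817 → P i := stepQ 12816 Q12816 (allL N12816 (tt N6201 (iv1 D19303)) (tt N25739 F62120) (tt N25737 F62967) (tt N6512 (iv3 F62969)) (tt N7080 (iv4 F62970)) (tt N6893 F292509) (tt N25747 D40993) (tt N6541 F62968))
theorem Q12818 : ∀ i, i < 12818 → P i := stepQ 12817 Q12817 (allL N12817 (tt N25748 D40994) (tt N25749 D40995) (tt N25738 (iv2 F62115)) (tt N6206 F30957) (tt N25750 D40996) (tt N6201 (iv5 D19304)) (tt N12671 F30958) (tt N25751 D40997))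
theorem Q12819 : ∀ i, i < 12819 → P i := stepQ 12818 Q12818 (allL N12818 (tt N25737 (iv1 F62114)) (tt N6541 F62650) (tt N25739 (iv2 F62118)) (tt N6207 F30959) (tt N14592 (iv4 F62533)) (tt N25751 (iv5 F62132)) (tt N13267 F66023) (tt N6201 (iv7 D19305)))
theorem Q12820 : ∀ i, i < 12820 → P i := stepQ 12819 Q12819 (allL N12819 (tt N14162 (iv1 F34941)) (tt N6202 (iv0 D19306)) (tt N14071 (iv2 F34685)) (tt N14158 (iv3 F34932)) (tt N14512 (iv4 F36063)) (tt N25667 (iv5 F64075)) (tt N25752 D40999) (tt N14163 (iv7 F34942)))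
theorem Q12821 : ∀ i, i < 12821 → P i := stepQ 12820 Q12820 (allL N12820 (tt N14071 (iv1 F34940)) (tt N14163 F34944) (tt N6202 (iv2 D19307)) (tt N14287 (iv3 F35168)) (tt N25742 (iv4 F62123)) (tt N21782 (iv5 F51885)) (tt N25753 D41000) (tt N14162 (iv7 F34937)))
theorem Q12822 : ∀ i, i < 12822 → P i := stepQ 12821 Q12821 (allL N12821 (tt N25754 D41001) (tt N14176 (iv0 F34959)) (tt N21782 (iv2 F51884)) (tt N6203 F30960) (tt N25385 (iv4 F60876)) (tt N6202 (iv5 D19308)) (tt N25755 D41002) (tt N14616 (iv7 F36463)))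
theorem Q12823 : ∀ i, i < 12823 → P i := stepQ 12822 Q12822 (allL N12822 (tt N25756 D41003) (tt N14185 (iv0 F65947)) (tt N25753 (iv2 F62133)) (tt N6204 F30961) (tt N25744 (iv4 F62126)) (tt N25757 D41005) (tt N6202 (iv6 D19309)) (tt N25758 D41006))
theorem Q12824 : ∀ i, i < 12824 → P i := stepQ 12823 Q12823 (allL N12823 (tt N25759 D41007) (tt N25760 D41008) (tt N14612 (iv2 F36438)) (tt N25755 (iv3 F62137)) (tt N21735 (iv4 F302973)) (tt N25761 D41009) (tt N6203 (iv6 D19310)) (tt N25762 D41010))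
theorem Q12825 : ∀ i, i < 12825 → P i := stepQ 12824 Q12824 (allL N12824 (tt N13512 (iv1 F62504)) (tt N6204 (iv0 D19311)) (tt N14613 (iv2 F62944)) (tt N25763 D41012) (tt N14209 (iv4 F62778)) (tt N25764 D41014) (tt N13813 F292514) (tt N14614 (iv7 F62747)))
theorem Q12826 : ∀ i, i < 12826 → P i := stepQ 12825 Q12825 (allL N12825 (tt N6204 (iv1 D19312)) (tt N13512 F62547) (tt N14614 (iv2 F62746)) (tt N25765 D41017) (tt N7085 (iv4 F62578)) (tt N25766 D41019) (tt N25767 D41020) (tt N14613 (iv7 F62946)))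
theorem Q12827 : ∀ i, i < 12827 → P i := stepQ 12826 Q12826 (allL N12826 (tt N25768 D41021) (tt N25769 D41022) (tt N14615 (iv2 F36440)) (tt N25757 (iv3 F62138)) (tt N25770 D41023) (tt N6204 (iv5 D19313)) (tt N25761 (iv6 F62140)) (tt N25771 D41024))
theorem Q12828 : ∀ i, i < 12828 → P i := stepQ 12827 Q12827 (allL N12827 (tt N14614 (iv1 F36439)) (tt N14613 F36444) (tt N13512 (iv2 F62505)) (tt N25758 (iv3 F62139)) (tt N6207 F30962) (tt N25771 (iv5 F62144)) (tt N13326 (iv6 F66033)) (tt N6204 (iv7 D19314)))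
theorem Q12829 : ∀ i, i < 12829 → P i := stepQ 12828 Q12828 (allL N12828 (tt N6213 F62729) (tt N13514 (iv0 F62514)) (tt N6563 F62492) (tt N25772 D41048) (tt N6205 (iv4 D19322)) (tt N25773 D41049) (tt N25774 D41050) (tt N13513 (iv7 F62515)))
theorem Q12830 : ∀ i, i < 12830 → P i := stepQ 12829 Q12829 (allL N12829 (tt N12791 F62075) (tt N6225 F62076) (tt N6564 F62471) (tt N12829 F62168) (tt N25774 (iv4 F62156)) (tt N25556 (iv5 F61492)) (tt N6205 (iv6 D19324)) (tt N12873 (iv7 F62050)))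
theorem Q12831 : ∀ i, i < 12831 → P i := stepQ 12830 Q12830 (allL N12830 (tt N6206 (iv1 D19326)) (tt N13130 F292803) (tt N6566 F66154) (tt N12830 F66174) (tt N25775 D41058) (tt N12763 (iv5 F30966)) (tt N25776 D41059) (tt N13122 F292804))
theorem Q12832 : ∀ i, i < 12832 → P i := stepQ 12831 Q12831 (allL N12831 (tt N25777 D41060) (tt N25778 D41061) (tt N13917 (iv2 F293246)) (tt N25779 D41062) (tt N6206 (iv4 D19327)) (tt N25780 D41063) (tt N12674 F30967) (tt N25781 D41064))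
theorem Q12833 : ∀ i, i < 12833 → P i := stepQ 12832 Q12832 (allL N12832 (tt N6566 (iv1 F66126)) (tt N13122 F292835) (tt N13130 F292836) (tt N25751 (iv3 F62131)) (tt N25781 (iv4 F62301)) (tt N6207 F30968) (tt N13128 F292837) (tt N6206 (iv7 D19328)))
theorem Q12834 : ∀ i, i < 12834 → P i := stepQ 12833 Q12833 (allL N12833 (tt N14308 (iv1 F35232)) (tt N6208 (iv0 D19329)) (tt N14307 F44843) (tt N14090 F34769) (tt N25782 D41066) (tt N24358 (iv5 F58369)) (tt N25783 D41067) (tt N14284 (iv7 F44842)))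
theorem Q12835 : ∀ i, i < 12835 → P i := stepQ 12834 Q12834 (allL N12834 (tt N6208 (iv1 D19330)) (tt N14308 F35234) (tt N14284 (iv2 F44844)) (tt N25784 D41068) (tt N25785 D41069) (tt N24357 (iv5 F62305)) (tt N25786 D41070) (tt N14307 F44845))
theorem Q12836 : ∀ i, i < 12836 → P i := stepQ 12835 Q12835 (allL N12835 (tt N14307 (iv1 F35233)) (tt N14284 F35164) (tt N6208 (iv2 D19331)) (tt N12088 F30969) (tt N13436 (iv4 F32574)) (tt N12087 (iv5 F30970)) (tt N25787 D41071) (tt N14308 (iv7 F35231)))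
theorem Q12837 : ∀ i, i < 12837 → P i := stepQ 12836 Q12836 (allL N12836 (tt N6411 F30972) (tt N13437 F32580) (tt N13436 F32572) (tt N6402 F30971) (tt N6208 (iv4 D19332)) (tt N16369 F40414) (tt N25788 D41072) (tt N13425 (iv7 F32539)))
theorem Q12838 : ∀ i, i < 12838 → P i := stepQ 12837 Q12837 (allL N12837 (tt N25789 D41073) (tt N25790 D41074) (tt N12087 F30973) (tt N6209 F30974) (tt N25791 D41075) (tt N6208 (iv5 D19333)) (tt N25792 D41076) (tt N14309 (iv7 F35236)))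
theorem Q12839 : ∀ i, i < 12839 → P i := stepQ 12838 Q12838 (allL N12838 (tt N25793 D41077) (tt N25794 D41078) (tt N25787 (iv2 F62306)) (tt N6210 F30975) (tt N25788 (iv4 F62309)) (tt N25795 D41079) (tt N6208 (iv6 D19334)) (tt N25796 D41080))
theorem Q12840 : ∀ i, i < 12840 → P i := stepQ 12839 Q12839 (allL N12839 (tt N6212 (iv1 F30979)) (tt N6209 (iv0 D19335)) (tt N6307 (iv2 F30978)) (tt N25797 D41081) (tt N11586 F30977) (tt N6306 F30976) (tt N11197 (iv6 F300569)) (tt N12676 F30980))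
theorem Q12841 : ∀ i, i < 12841 → P i := stepQ 12840 Q12840 (allL N12840 (tt N25798 D41083) (tt N25799 D41084) (tt N14150 (iv2 F34916)) (tt N25792 (iv3 F62321)) (tt N25426 (iv4 F60999)) (tt N25800 D41085) (tt N6209 (iv6 D19336)) (tt N25801 D41086))
theorem Q12842 : ∀ i, i < 12842 → P i := stepQ 12841 Q12841 (allL N12841 (tt N25802 D41097) (tt N14605 F293361) (tt N14151 (iv2 F34918)) (tt N25795 (iv3 F62322)) (tt N25803 D41099) (tt N6210 (iv5 D19339)) (tt N25800 (iv6 F62329)) (tt N25804 D41100))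
theorem Q12843 : ∀ i, i < 12843 → P i := stepQ 12842 Q12842 (allL N12842 (tt N13327 F65805) (tt N6459 F65806) (tt N13330 (iv2 F65650)) (tt N25796 (iv3 F62323)) (tt N14146 (iv4 F34895)) (tt N25804 (iv5 F62332)) (tt N13514 (iv6 F62733)) (tt N6210 (iv7 D19340)))
theorem Q12844 : ∀ i, i < 12844 → P i := stepQ 12843 Q12843 (allL N12843 (tt N12088 (iv1 F30982)) (tt N6211 (iv0 D19341)) (tt N14148 F34908) (tt N25805 D41101) (tt N14147 (iv4 F34900)) (tt N12606 F30981) (tt N25806 D41102) (tt N14147 F34903))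
theorem Q12845 : ∀ i, i < 12845 → P i := stepQ 12844 Q12844 (allL N12844 (tt N6211 (iv1 D19342)) (tt N12088 F30986) (tt N14147 F34902) (tt N14096 F34783) (tt N14148 (iv4 F34907)) (tt N12930 (iv5 F31193)) (tt N25807 D41103) (tt N14148 (iv7 F34905)))
theorem Q12846 : ∀ i, i < 12846 → P i := stepQ 12845 Q12845 (allL N12845 (tt N14148 (iv1 F34904)) (tt N14147 F34901) (tt N6211 (iv2 D19343)) (tt N14308 (iv3 F35229)) (tt N12387 F30983) (tt N8684 F30984) (tt N25808 D41104) (tt N12088 F30985))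
theorem Q12847 : ∀ i, i < 12847 → P i := stepQ 12846 Q12846 (allL N12846 (tt N25809 D41105) (tt N25810 D41106) (tt N25808 (iv2 F62334)) (tt N6213 F30987) (tt N14084 (iv4 F34736)) (tt N25811 D41107) (tt N6211 (iv6 D19344)) (tt N25812 D41108))
theorem Q12848 : ∀ i, i < 12848 → P i := stepQ 12847 Q12847 (allL N12847 (tt N25813 D41109) (tt N25814 D41110) (tt N14311 (iv2 F35241)) (tt N12081 F30988) (tt N25407 (iv4 F60972)) (tt N25815 D41111) (tt N6212 (iv6 D19345)) (tt N25816 D41112))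
theorem Q12849 : ∀ i, i < 12849 → P i := stepQ 12848 Q12848 (allL N12848 (tt N25817 D41123) (tt N25818 D41124) (tt N14312 (iv2 F35243)) (tt N25811 (iv3 F62336)) (tt N25819 D41125) (tt N6213 (iv5 D19348)) (tt N25815 (iv6 F62340)) (tt N25820 D41126))
theorem Q12850 : ∀ i, i < 12850 → P i := stepQ 12849 Q12849 (allL N12849 (tt N6563 (iv1 F62725)) (tt N13513 (iv0 F62726)) (tt N13514 (iv2 F62732)) (tt N25812 (iv3 F62338)) (tt N13286 F293487) (tt N25820 (iv5 F62344)) (tt N13330 (iv6 F65652)) (tt N6213 (iv7 D19349)))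
theorem Q12851 : ∀ i, i < 12851 → P i := stepQ 12850 Q12850 (allL N12850 (tt N24358 (iv1 F58367)) (tt N24357 F58366) (tt N17611 (iv2 F44055)) (tt N6214 (iv3 D19350)) (tt N25821 D41127) (tt N13023 (iv5 F31389)) (tt N25822 D41128) (tt N14318 (iv7 F35262)))
theorem Q12852 : ∀ i, i < 12852 → P i := stepQ 12851 Q12851 (allL N12851 (tt N25823 D41129) (tt N25824 D41130) (tt N13947 (iv2 F34397)) (tt N25822 (iv3 F62345)) (tt N25387 (iv4 F60878)) (tt N25825 D41131) (tt N6214 (iv6 D19351)) (tt N25826 D41132))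
theorem Q12853 : ∀ i, i < 12853 → P i := stepQ 12852 Q12852 (allL N12852 (tt N22356 (iv1 F302512)) (tt N17771 (iv0 F302513)) (tt N14319 (iv2 F35263)) (tt N17606 (iv3 F44037)) (tt N17274 (iv4 F302510)) (tt N25827 D41135) (tt N6215 (iv6 D19352)) (tt N22316 (iv7 F302514)))
theorem Q12854 : ∀ i, i < 12854 → P i := stepQ 12853 Q12853 (allL N12853 (tt N25828 D41137) (tt N25829 D41138) (tt N25830 D41139) (tt N6216 (iv3 D19353)) (tt N12168 F30989) (tt N25374 (iv5 F60841)) (tt N25831 D41140) (tt N14321 (iv7 F35276)))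
theorem Q12855 : ∀ i, i < 12855 → P i := stepQ 12854 Q12854 (allL N12854 (tt N25832 D41141) (tt N25833 D41142) (tt N22376 F304944) (tt N25831 (iv3 F62350)) (tt N6217 F30990) (tt N25834 D41143) (tt N6216 (iv6 D19354)) (tt N22373 (iv7 F306896)))
theorem Q12856 : ∀ i, i < 12856 → P i := stepQ 12855 Q12855 (allL N12855 (tt N25835 D41155) (tt N25836 D41156) (tt N22377 (iv2 F306347)) (tt N14372 (iv3 F35303)) (tt N25837 D41157) (tt N6217 (iv5 D19357)) (tt N6220 F30991) (tt N22374 (iv7 F306897)))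
theorem Q12857 : ∀ i, i < 12857 → P i := stepQ 12856 Q12856 (allL N12856 (tt N25838 D41159) (tt N25786 F290202) (tt N25839 D41161) (tt N6218 (iv3 D19359)) (tt N25840 D41162) (tt N25841 D41163) (tt N25842 D41164) (tt N25692 (iv7 F61953)))
theorem Q12858 : ∀ i, i < 12858 → P i := stepQ 12857 Q12857 (allL N12857 (tt N25843 D41165) (tt N25844 D41166) (tt N14421 (iv2 F35396)) (tt N25841 (iv3 F62358)) (tt N25845 D41167) (tt N6218 (iv5 D19360)) (tt N25846 D41168) (tt N25693 (iv7 F61955)))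
theorem Q12859 : ∀ i, i < 12859 → P i := stepQ 12858 Q12858 (allL N12858 (tt N25774 (iv1 F62379)) (tt N14681 F293440) (tt N14422 (iv2 F35398)) (tt N25842 (iv3 F62359)) (tt N14419 (iv4 F35391)) (tt N25847 D41171) (tt N6218 (iv6 D19361)) (tt N25848 D41172))
theorem Q12860 : ∀ i, i < 12860 → P i := stepQ 12859 Q12859 (allL N12859 (tt N25806 F289633) (tt N25849 D41174) (tt N25850 D41175) (tt N6219 (iv3 D19362)) (tt N14142 (iv4 F34884)) (tt N25851 D41176) (tt N25852 D41177) (tt N14420 (iv7 F35395)))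
theorem Q12861 : ∀ i, i < 12861 → P i := stepQ 12860 Q12860 (allL N12860 (tt N25844 (iv1 F62371)) (tt N25843 F62363) (tt N25693 (iv2 F61954)) (tt N25851 (iv3 F62380)) (tt N25853 D41178) (tt N6219 (iv5 D19363)) (tt N25854 D41179) (tt N14421 (iv7 F35397)))
theorem Q12862 : ∀ i, i < 12862 → P i := stepQ 12861 Q12861 (allL N12861 (tt N13315 F293484) (tt N13313 (iv0 F293889)) (tt N13311 F293485) (tt N25852 (iv3 F62381)) (tt N14141 (iv4 F34883)) (tt N25855 D41182) (tt N6219 (iv6 D19364)) (tt N13312 (iv7 F293961)))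
theorem Q12863 : ∀ i, i < 12863 → P i := stepQ 12862 Q12862 (allL N12862 (tt N25697 (iv1 F61963)) (tt N6220 (iv0 D19365)) (tt N25694 (iv2 F64347)) (tt N25856 D41185) (tt N25857 D41186) (tt N25858 D41187) (tt N25859 D41188) (tt N25695 (iv7 F64345)))
theorem Q12864 : ∀ i, i < 12864 → P i := stepQ 12863 Q12863 (allL N12863 (tt N6220 (iv1 D19366)) (tt N25697 F61962) (tt N25695 (iv2 F64344)) (tt N25860 D41190) (tt N25861 D41191) (tt N25862 D41192) (tt N25863 D41193) (tt N25694 (iv7 F64348)))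
theorem Q12865 : ∀ i, i < 12865 → P i := stepQ 12864 Q12864 (allL N12864 (tt N25864 D41194) (tt N25865 D41195) (tt N25696 (iv2 F61958)) (tt N25866 D41196) (tt N6220 (iv4 D19367)) (tt N25867 D41197) (tt N25837 (iv6 F62355)) (tt N25868 D41198))
theorem Q12866 : ∀ i, i < 12866 → P i := stepQ 12865 Q12865 (allL N12865 (tt N25695 (iv1 F61957)) (tt N25694 F61961) (tt N25697 (iv2 F61959)) (tt N14409 (iv3 F35347)) (tt N25868 (iv4 F62386)) (tt N6221 F30992) (tt N25869 D41199) (tt N6220 (iv7 D19368)))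
theorem Q12867 : ∀ i, i < 12867 → P i := stepQ 12866 Q12866 (allL N12866 (tt N14129 (iv1 F34835)) (tt N6222 (iv0 D19375)) (tt N14378 F35830) (tt N6240 F34853) (tt N7004 F34854) (tt N13178 F35621) (tt N13435 F35622) (tt N6410 F35623))
theorem Q12868 : ∀ i, i < 12868 → P i := stepQ 12867 Q12867 (allL N12867 (tt N14486 (iv1 F291626)) (tt N25870 D41201) (tt N14380 (iv2 F35320)) (tt N6224 F31003) (tt N25871 D41202) (tt N6222 (iv5 D19378)) (tt N25872 D41203) (tt N12868 (iv7 F31060)))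
theorem Q12869 : ∀ i, i < 12869 → P i := stepQ 12868 Q12868 (allL N12868 (tt N13478 (iv1 F62998)) (tt N25873 D41205) (tt N14381 (iv2 F35321)) (tt N6225 F31004) (tt N14127 (iv4 F34828)) (tt N6988 (iv5 F31005)) (tt N6222 (iv6 D19379)) (tt N12867 F31060))
theorem Q12870 : ∀ i, i < 12870 → P i := stepQ 12869 Q12869 (allL N12869 (tt N6227 (iv1 F31012)) (tt N6223 (iv0 D19381)) (tt N25699 F61967) (tt N25874 D41206) (tt N6999 (iv4 F35319)) (tt N25875 D41207) (tt N14625 (iv6 F66740)) (tt N13666 (iv7 F63097)))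
theorem Q12871 : ∀ i, i < 12871 → P i := stepQ 12870 Q12870 (allL N12870 (tt N25876 D41212) (tt N25715 F289749) (tt N25877 D41214) (tt N6223 (iv3 D19383)) (tt N14125 (iv4 F34823)) (tt N25878 D41215) (tt N25879 D41216) (tt N14390 (iv7 F35339)))
theorem Q12872 : ∀ i, i < 12872 → P i := stepQ 12871 Q12871 (allL N12871 (tt N25880 D41217) (tt N25881 D41218) (tt N25701 (iv2 F61971)) (tt N25878 (iv3 F62411)) (tt N25882 D41219) (tt N6223 (iv5 D19384)) (tt N25882 F329915) (tt N25703 (iv7 F61976)))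
theorem Q12873 : ∀ i, i < 12873 → P i := stepQ 12872 Q12872 (allL N12872 (tt N25767 (iv1 F63248)) (tt N25883 D41222) (tt N12884 F31059) (tt N25879 (iv3 F62412)) (tt N6225 F31009) (tt N25884 D41223) (tt N6223 (iv6 D19385)) (tt N12874 F31061))
theorem Q12874 : ∀ i, i < 12874 → P i := stepQ 12873 Q12873 (allL N12873 (tt N6228 (iv1 F31019)) (tt N6224 (iv0 D19387)) (tt N7137 F293452) (tt N12873 F62182) (tt N25885 D41224) (tt N12783 F31013) (tt N6721 F293453) (tt N12829 F62050))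
theorem Q12875 : ∀ i, i < 12875 → P i := stepQ 12874 Q12874 (allL N12874 (tt N25886 D41229) (tt N25887 D41230) (tt N25702 (iv2 F61973)) (tt N25888 D41231) (tt N6224 (iv4 D19389)) (tt N25889 D41232) (tt N25890 D41233) (tt N12872 (iv7 F31061)))
theorem Q12876 : ∀ i, i < 12876 → P i := stepQ 12875 Q12875 (allL N12875 (tt N6476 (iv1 F292884)) (tt N6477 F292735) (tt N6475 (iv2 F292972)) (tt N25872 (iv3 F62396)) (tt N25890 (iv4 F62456)) (tt N6474 (iv5 F292881)) (tt N6224 (iv6 D19390)) (tt N6474 (iv7 F292882)))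
theorem Q12877 : ∀ i, i < 12877 → P i := stepQ 12876 Q12876 (allL N12876 (tt N6226 (iv1 D19397)) (tt N14379 F35312) (tt N14646 (iv2 F36640)) (tt N6235 F35313) (tt N7130 F35314) (tt N13364 F35594) (tt N13208 F35595) (tt N6516 F35596))
theorem Q12878 : ∀ i, i < 12878 → P i := stepQ 12877 Q12877 (allL N12877 (tt N6516 F35639) (tt N14646 F36644) (tt N6226 (iv2 D19398)) (tt N14129 F34834) (tt N13787 (iv4 F63179)) (tt N25891 D41235) (tt N25892 D41236) (tt N14379 (iv7 F35310)))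
theorem Q12879 : ∀ i, i < 12879 → P i := stepQ 12878 Q12878 (allL N12878 (tt N6648 F63149) (tt N7115 (iv0 F31029)) (tt N13787 (iv2 F63178)) (tt N25893 D41237) (tt N6226 (iv4 D19399)) (tt N25894 D41238) (tt N25895 D41239) (tt N13786 (iv7 F63176)))
theorem Q12880 : ∀ i, i < 12880 → P i := stepQ 12879 Q12879 (allL N12879 (tt N25896 D41240) (tt N25897 D41241) (tt N25891 (iv2 F62460)) (tt N6228 F31030) (tt N25898 D41242) (tt N6226 (iv5 D19400)) (tt N12789 (iv6 F31031)) (tt N25698 (iv7 F61965)))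
theorem Q12881 : ∀ i, i < 12881 → P i := stepQ 12880 Q12880 (allL N12880 (tt N25899 D41243) (tt N13271 F66272) (tt N25892 (iv2 F62463)) (tt N6229 F31032) (tt N25895 (iv4 F62465)) (tt N13347 (iv5 F293955)) (tt N6226 (iv6 D19401)) (tt N13347 (iv7 F293956)))
theorem Q12882 : ∀ i, i < 12882 → P i := stepQ 12881 Q12881 (allL N12881 (tt N25752 (iv1 F73265)) (tt N25900 D41247) (tt N25901 D41248) (tt N6227 (iv3 D19402)) (tt N25893 (iv4 F62464)) (tt N25902 D41249) (tt N25903 D41250) (tt N25700 (iv7 F61970)))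
theorem Q12883 : ∀ i, i < 12883 → P i := stepQ 12882 Q12882 (allL N12882 (tt N25881 (iv1 F62414)) (tt N25880 F62413) (tt N25703 (iv2 F61975)) (tt N25902 (iv3 F63089)) (tt N25904 D41251) (tt N6227 (iv5 D19403)) (tt N25905 D41252) (tt N25701 (iv7 F61972)))
theorem Q12884 : ∀ i, i < 12884 → P i := stepQ 12883 Q12883 (allL N12883 (tt N25906 D41253) (tt N25727 (iv0 F66267)) (tt N13346 (iv2 F293886)) (tt N25903 (iv3 F63090)) (tt N6229 F31033) (tt N25907 D41255) (tt N6227 (iv6 D19404)) (tt N13348 (iv7 F293958)))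
theorem Q12885 : ∀ i, i < 12885 → P i := stepQ 12884 Q12884 (allL N12884 (tt N25887 (iv1 F62451)) (tt N25886 F62449) (tt N12872 (iv2 F31059)) (tt N25908 D41257) (tt N6228 (iv4 D19405)) (tt N25909 D41258) (tt N12790 F31034) (tt N25702 (iv7 F61974)))
theorem Q12886 : ∀ i, i < 12886 → P i := stepQ 12885 Q12885 (allL N12885 (tt N25576 (iv1 F61560)) (tt N25300 F60661) (tt N12673 F31069) (tt N13353 (iv3 F296073)) (tt N25910 D41261) (tt N6230 (iv5 D19409)) (tt N17988 (iv6 F296074)) (tt N13136 (iv7 F31640)))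
theorem Q12887 : ∀ i, i < 12887 → P i := stepQ 12886 Q12886 (allL N12886 (tt N25300 F60660) (tt N25576 (iv0 F61559)) (tt N13136 (iv2 F31639)) (tt N11533 F31073) (tt N25911 D41267) (tt N6232 (iv5 D19412)) (tt N25912 D41268) (tt N12673 F31074))
theorem Q12888 : ∀ i, i < 12888 → P i := stepQ 12887 Q12887 (allL N12887 (tt N11998 (iv1 F31077)) (tt N6369 (iv0 F31078)) (tt N13520 (iv2 F32898)) (tt N6233 (iv3 D19415)) (tt N13814 (iv4 F33830)) (tt N6438 F31076) (tt N14423 (iv6 F291583)) (tt N13132 (iv7 F31628)))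
theorem Q12889 : ∀ i, i < 12889 → P i := stepQ 12888 Q12888 (allL N12888 (tt N25506 (iv1 F61359)) (tt N25505 F61357) (tt N13139 (iv2 F31648)) (tt N25913 D41274) (tt N6233 (iv4 D19416)) (tt N25914 D41275) (tt N14660 (iv6 F292818)) (tt N13134 (iv7 F31634)))
theorem Q12890 : ∀ i, i < 12890 → P i := stepQ 12889 Q12889 (allL N12889 (tt N13135 (iv1 F31638)) (tt N6234 (iv0 D19418)) (tt N12926 (iv2 F31175)) (tt N25915 D41280) (tt N12921 (iv4 F31158)) (tt N25916 D41281) (tt N7079 (iv6 F291934)) (tt N13140 (iv7 F31654)))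
theorem Q12891 : ∀ i, i < 12891 → P i := stepQ 12890 Q12890 (allL N12890 (tt N6234 (iv1 D19419)) (tt N13135 (iv0 F31637)) (tt N13140 F31652) (tt N25917 D41283) (tt N12927 (iv4 F31180)) (tt N25918 D41284) (tt N14654 (iv6 F291937)) (tt N12926 F31178))
theorem Q12892 : ∀ i, i < 12892 → P i := stepQ 12891 Q12891 (allL N12891 (tt N14529 (iv1 F291916)) (tt N25919 D41287) (tt N25920 D41288) (tt N6234 (iv3 D19420)) (tt N6244 F31080) (tt N25921 D41289) (tt N7124 F291204) (tt N7133 (iv7 F291915)))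
theorem Q12893 : ∀ i, i < 12893 → P i := stepQ 12892 Q12892 (allL N12892 (tt N13905 (iv1 F291939)) (tt N13908 (iv0 F291942)) (tt N25604 (iv2 F61664)) (tt N25921 (iv3 F63608)) (tt N25922 D41292) (tt N6234 (iv5 D19421)) (tt N25923 D41293) (tt N13141 (iv7 F31657)))
theorem Q12894 : ∀ i, i < 12894 → P i := stepQ 12893 Q12893 (allL N12893 (tt N7014 F31083) (tt N13230 F35598) (tt N12903 (iv2 F35624)) (tt N25924 D41294) (tt N6235 (iv4 D19424)) (tt N25925 D41295) (tt N13218 F35600) (tt N6521 F35601))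
theorem Q12895 : ∀ i, i < 12895 → P i := stepQ 12894 Q12894 (allL N12894 (tt N12906 (iv1 F31118)) (tt N6530 F63136) (tt N6237 F31085) (tt N25926 D41296) (tt N6236 (iv4 D19432)) (tt N25927 D41297) (tt N25928 D41298) (tt N12904 (iv7 F31110)))
theorem Q12896 : ∀ i, i < 12896 → P i := stepQ 12895 Q12895 (allL N12895 (tt N7035 F291627) (tt N12902 F31100) (tt N6238 F31086) (tt N12895 F31087) (tt N25929 D41299) (tt N6236 (iv5 D19433)) (tt N7139 (iv6 F292492)) (tt N12896 F31091))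
theorem Q12897 : ∀ i, i < 12897 → P i := stepQ 12896 Q12896 (allL N12896 (tt N6546 F35619) (tt N12900 F31094) (tt N6239 F31088) (tt N12896 F31089) (tt N25928 (iv4 F63619)) (tt N6241 (iv5 F31090)) (tt N6236 (iv6 D19434)) (tt N12895 (iv7 F31091)))
theorem Q12898 : ∀ i, i < 12898 → P i := stepQ 12897 Q12897 (allL N12897 (tt N12904 (iv1 F31112)) (tt N6237 (iv0 D19435)) (tt N12906 F35365) (tt N25930 D41300) (tt N13591 F63138) (tt N25931 D41301) (tt N13240 F63139) (tt N6530 F63140))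
theorem Q12899 : ∀ i, i < 12899 → P i := stepQ 12898 Q12898 (allL N12898 (tt N25932 D41302) (tt N25933 D41303) (tt N25927 (iv2 F63617)) (tt N14636 (iv3 F36549)) (tt N25934 D41304) (tt N6237 (iv5 D19437)) (tt N25935 D41305) (tt N12907 (iv7 F31120)))
theorem Q12900 : ∀ i, i < 12900 → P i := stepQ 12899 Q12899 (allL N12899 (tt N25936 D41306) (tt N14494 F291872) (tt N25928 (iv2 F63618)) (tt N14470 F291046) (tt N6239 F31093) (tt N25937 D41308) (tt N6237 (iv6 D19438)) (tt N12901 (iv7 F31096)))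
theorem Q12901 : ∀ i, i < 12901 → P i := stepQ 12900 Q12900 (allL N12900 (tt N12896 (iv1 F31094)) (tt N6238 (iv0 D19439)) (tt N7035 F291304) (tt N25897 F63080) (tt N25938 D41309) (tt N13088 F291305) (tt N6271 F291306) (tt N12902 (iv7 F35938)))
theorem Q12902 : ∀ i, i < 12902 → P i := stepQ 12901 Q12901 (allL N12901 (tt N25939 D41310) (tt N13466 (iv0 F63331)) (tt N25929 (iv2 F63621)) (tt N7029 F290751) (tt N6238 (iv4 D19441)) (tt N25940 D41312) (tt N7038 F291697) (tt N12899 F31096))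
theorem Q12903 : ∀ i, i < 12903 → P i := stepQ 12902 Q12902 (allL N12902 (tt N12895 (iv1 F31100)) (tt N6239 (iv0 D19443)) (tt N6546 F35936) (tt N25747 (iv3 F62973)) (tt N25941 D41314) (tt N25566 (iv5 F61512)) (tt N6512 F35937) (tt N12900 F35938))
theorem Q12904 : ∀ i, i < 12904 → P i := stepQ 12903 Q12903 (allL N12903 (tt N13432 (iv1 F35631)) (tt N13431 (iv0 F35634)) (tt N12893 F35624) (tt N25942 D41320) (tt N6240 (iv4 D19454)) (tt N25943 D41321) (tt N13444 F35625) (tt N6413 F35626))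
theorem Q12905 : ∀ i, i < 12905 → P i := stepQ 12904 Q12904 (allL N12904 (tt N6419 F63160) (tt N12897 F31112) (tt N6242 F31109) (tt N25944 D41322) (tt N6241 (iv4 D19457)) (tt N25945 D41323) (tt N25946 D41324) (tt N12894 F31110))
theorem Q12906 : ∀ i, i < 12906 → P i := stepQ 12905 Q12905 (allL N12905 (tt N7138 F293529) (tt N6431 F35608) (tt N6243 F31113) (tt N12905 F31114) (tt N25946 (iv4 F63672)) (tt N7139 F293530) (tt N6241 (iv6 D19458)) (tt N7139 F293531))
theorem Q12907 : ∀ i, i < 12907 → P i := stepQ 12906 Q12906 (allL N12906 (tt N6242 (iv1 D19460)) (tt N12894 F31118) (tt N12897 (iv2 F35365)) (tt N25947 D41325) (tt N7012 (iv4 F34857)) (tt N25948 D41326) (tt N13456 F63161) (tt N6419 F63162))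
theorem Q12908 : ∀ i, i < 12908 → P i := stepQ 12907 Q12907 (allL N12907 (tt N25949 D41327) (tt N25950 D41328) (tt N25945 (iv2 F63667)) (tt N14637 (iv3 F36589)) (tt N25951 D41329) (tt N6242 (iv5 D19461)) (tt N25952 D41330) (tt N12898 F31120))
theorem Q12909 : ∀ i, i < 12909 → P i := stepQ 12908 Q12908 (allL N12908 (tt N25953 D41331) (tt N25954 D41332) (tt N25946 (iv2 F63671)) (tt N6331 F291748) (tt N6243 F31121) (tt N25955 D41333) (tt N6242 (iv6 D19462)) (tt N7038 F291749))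
theorem Q12910 : ∀ i, i < 12910 → P i := stepQ 12909 Q12909 (allL N12909 (tt N6244 (iv1 D19466)) (tt N7129 F293029) (tt N6682 F293030) (tt N13949 (iv3 F294004)) (tt N25956 D41341) (tt N6652 (iv5 F294008)) (tt N14552 (iv6 F294009)) (tt N6686 F293031))
theorem Q12911 : ∀ i, i < 12911 → P i := stepQ 12910 Q12910 (allL N12910 (tt N6686 (iv1 F293027)) (tt N6682 (iv0 F293026)) (tt N6244 (iv2 D19467)) (tt N12910 F31122) (tt N25920 (iv4 F63607)) (tt N7129 (iv5 F293024)) (tt N7117 F293015) (tt N7129 (iv7 F293025)))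
theorem Q12912 : ∀ i, i < 12912 → P i := stepQ 12911 Q12911 (allL N12911 (tt N25957 D41344) (tt N25958 D41345) (tt N12675 F31123) (tt N6245 (iv3 D19468)) (tt N12911 F31124) (tt N14273 (iv5 F35153)) (tt N25959 D41346) (tt N6277 F31125))
theorem Q12913 : ∀ i, i < 12913 → P i := stepQ 12912 Q12912 (allL N12912 (tt N25960 D41347) (tt N25961 D41348) (tt N6316 F31126) (tt N25959 (iv3 F63690)) (tt N6246 F31127) (tt N25962 D41349) (tt N6245 (iv6 D19469)) (tt N25963 D41350))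
theorem Q12914 : ∀ i, i < 12914 → P i := stepQ 12913 Q12913 (allL N12913 (tt N6325 F31129) (tt N6246 (iv0 D19470)) (tt N6326 F63538) (tt N13391 (iv3 F63476)) (tt N25964 D41351) (tt N13581 (iv5 F291257)) (tt N6323 F31128) (tt N6327 F63539))
theorem Q12915 : ∀ i, i < 12915 → P i := stepQ 12914 Q12914 (allL N12914 (tt N6246 (iv1 D19471)) (tt N6325 F31130) (tt N6327 F63541) (tt N13700 F63427) (tt N25965 D41353) (tt N13539 (iv5 F291177)) (tt N6430 (iv6 F291158)) (tt N6326 F63542))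
theorem Q12916 : ∀ i, i < 12916 → P i := stepQ 12915 Q12915 (allL N12915 (tt N6327 (iv1 F31137)) (tt N6326 F31138) (tt N6325 F31134) (tt N12915 F31135) (tt N25963 (iv4 F63719)) (tt N6406 F290746) (tt N6282 F31136) (tt N6246 (iv7 D19473)))
theorem Q12917 : ∀ i, i < 12917 → P i := stepQ 12916 Q12916 (allL N12916 (tt N7037 (iv1 F31142)) (tt N7036 F31141) (tt N6331 F31139) (tt N25966 D41359) (tt N6247 (iv4 D19474)) (tt N24911 (iv5 F59917)) (tt N13445 F291606) (tt N6783 F31140))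
theorem Q12918 : ∀ i, i < 12918 → P i := stepQ 12917 Q12917 (allL N12917 (tt N6373 F31145) (tt N6551 (iv0 F31146)) (tt N13366 (iv2 F32368)) (tt N6250 F31143) (tt N13406 (iv4 F32495)) (tt N6248 (iv5 D19475)) (tt N13415 F291509) (tt N7033 F31144))
theorem Q12919 : ∀ i, i < 12919 → P i := stepQ 12918 Q12918 (allL N12918 (tt N11815 F31150) (tt N6799 F31149) (tt N6268 F31147) (tt N11581 F31148) (tt N23049 (iv4 F54919)) (tt N6249 (iv5 D19476)) (tt N25402 (iv6 F60951)) (tt N13356 (iv7 F32313)))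
theorem Q12920 : ∀ i, i < 12920 → P i := stepQ 12919 Q12919 (allL N12919 (tt N25967 D41360) (tt N13298 (iv0 F31958)) (tt N6270 F31151) (tt N25968 D41361) (tt N6250 (iv4 D19477)) (tt N25969 D41362) (tt N13416 (iv6 F290993)) (tt N7034 F31152))
theorem Q12921 : ∀ i, i < 12921 → P i := stepQ 12920 Q12920 (allL N12920 (tt N6317 F63105) (tt N25970 D41363) (tt N6754 F31153) (tt N6489 F31154) (tt N25522 (iv4 F61388)) (tt N6785 F31155) (tt N6251 (iv6 D19478)) (tt N25971 D41364))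
theorem Q12922 : ∀ i, i < 12922 → P i := stepQ 12921 Q12921 (allL N12921 (tt N13153 F31700) (tt N6709 F31157) (tt N6257 F31156) (tt N13366 (iv3 F32369)) (tt N12889 F31158) (tt N6252 (iv5 D19479)) (tt N12815 (iv6 F292303)) (tt N25590 (iv7 F61607)))
theorem Q12923 : ∀ i, i < 12923 → P i := stepQ 12922 Q12922 (allL N12922 (tt N6256 (iv1 F31163)) (tt N6255 F31164) (tt N6258 F31159) (tt N6441 F31160) (tt N6469 F31161) (tt N25590 (iv5 F61602)) (tt N11880 F31162) (tt N6252 (iv7 D19480)))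
theorem Q12924 : ∀ i, i < 12924 → P i := stepQ 12923 Q12923 (allL N12923 (tt N11655 (iv1 F31170)) (tt N11619 (iv0 F31169)) (tt N6262 F31165) (tt N6254 F31166) (tt N6262 F31167) (tt N24027 (iv5 F57172)) (tt N6253 (iv6 D19481)) (tt N11654 (iv7 F31206)))
theorem Q12925 : ∀ i, i < 12925 → P i := stepQ 12924 Q12924 (allL N12924 (tt N12771 F292840) (tt N12770 (iv0 F293692)) (tt N12718 F31171) (tt N12949 (iv3 F31244)) (tt N25511 (iv4 F61369)) (tt N6256 (iv5 D19482)) (tt N24430 F292841) (tt N12765 F292842))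
theorem Q12926 : ∀ i, i < 12926 → P i := stepQ 12925 Q12925 (allL N12925 (tt N6257 (iv1 D19483)) (tt N25590 F61606) (tt N6709 (iv2 F31173)) (tt N6573 (iv3 F31174)) (tt N25506 F61360) (tt N6571 F31172) (tt N25972 D41366) (tt N13153 (iv7 F31698)))
theorem Q12927 : ∀ i, i < 12927 → P i := stepQ 12926 Q12926 (allL N12926 (tt N6363 F31176) (tt N12733 F31177) (tt N12889 F31175) (tt N25973 D41367) (tt N6257 (iv4 D19484)) (tt N13911 (iv5 F291223)) (tt N13471 (iv6 F291224)) (tt N12890 (iv7 F31178)))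
theorem Q12928 : ∀ i, i < 12928 → P i := stepQ 12927 Q12927 (allL N12927 (tt N6709 (iv1 F31182)) (tt N13153 (iv0 F31699)) (tt N25590 F61605) (tt N6271 F31179) (tt N12890 F31180) (tt N6258 F31181) (tt N25897 (iv6 F292086)) (tt N6257 (iv7 D19485)))
theorem Q12929 : ∀ i, i < 12929 → P i := stepQ 12928 Q12928 (allL N12928 (tt N24151 (iv1 F296518)) (tt N25974 D41371) (tt N6810 F31183) (tt N12710 F31184) (tt N12122 F31185) (tt N25975 D41372) (tt N6259 (iv6 D19486)) (tt N25976 D41373))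
theorem Q12930 : ∀ i, i < 12930 → P i := stepQ 12929 Q12929 (allL N12929 (tt N13356 (iv1 F32314)) (tt N6268 F31189) (tt N11815 F31186) (tt N12711 F31187) (tt N25977 D41374) (tt N6260 (iv5 D19487)) (tt N25975 (iv6 F63796)) (tt N6799 F31188))
theorem Q12931 : ∀ i, i < 12931 → P i := stepQ 12930 Q12930 (allL N12930 (tt N8673 F31194) (tt N8677 F31195) (tt N12064 F31190) (tt N12244 F31191) (tt N6261 (iv4 D19488)) (tt N12844 F31193) (tt N25978 D41375) (tt N12065 F31192))
theorem Q12932 : ∀ i, i < 12932 → P i := stepQ 12931 Q12931 (allL N12931 (tt N11646 (iv1 F118760)) (tt N25979 D41377) (tt N25389 (iv2 F60894)) (tt N6264 F31196) (tt N25978 (iv4 F63810)) (tt N25980 D41378) (tt N6261 (iv6 D19489)) (tt N25981 D41379))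
theorem Q12933 : ∀ i, i < 12933 → P i := stepQ 12932 Q12932 (allL N12932 (tt N6262 (iv1 D19490)) (tt N11654 (iv0 F31203)) (tt N11619 F31201) (tt N11660 (iv3 F31200)) (tt N11662 (iv4 F31199)) (tt N25982 D41380) (tt N12932 F31202) (tt N11655 F31198))
theorem Q12934 : ∀ i, i < 12934 → P i := stepQ 12933 Q12933 (allL N12933 (tt N11596 F31208) (tt N17605 (iv0 F44035)) (tt N24027 (iv2 F57171)) (tt N6268 F31207) (tt N24369 (iv4 F58388)) (tt N6262 (iv5 D19491)) (tt N25980 (iv6 F63812)) (tt N15618 F327000))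
theorem Q12935 : ∀ i, i < 12935 → P i := stepQ 12934 Q12934 (allL N12934 (tt N11619 (iv1 F31213)) (tt N11655 F31214) (tt N11654 F31209) (tt N6269 F31210) (tt N11654 F31211) (tt N15618 F326999) (tt N11902 F31212) (tt N6262 (iv7 D19492)))
theorem Q12936 : ∀ i, i < 12936 → P i := stepQ 12935 Q12935 (allL N12935 (tt N25403 (iv1 F60958)) (tt N6264 (iv0 D19493)) (tt N24178 (iv2 F297794)) (tt N24943 (iv3 F119071)) (tt N24508 (iv4 F119075)) (tt N25983 D41384) (tt N24170 (iv6 F298189)) (tt N24615 (iv7 F118780)))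
theorem Q12937 : ∀ i, i < 12937 → P i := stepQ 12936 Q12936 (allL N12936 (tt N6264 (iv1 D19494)) (tt N25403 F60957) (tt N24615 (iv2 F118779)) (tt N8567 (iv3 F118781)) (tt N24509 (iv4 F118782)) (tt N25984 D41389) (tt N8578 F297255) (tt N24178 (iv7 F297795)))
theorem Q12938 : ∀ i, i < 12938 → P i := stepQ 12937 Q12937 (allL N12937 (tt N25985 D41391) (tt N11564 (iv0 F296154)) (tt N25402 (iv2 F60949)) (tt N25980 (iv3 F63811)) (tt N24901 (iv4 F59905)) (tt N6264 (iv5 D19495)) (tt N6268 F31215) (tt N25986 D41393))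
theorem Q12939 : ∀ i, i < 12939 → P i := stepQ 12938 Q12938 (allL N12938 (tt N24615 (iv1 F119011)) (tt N24178 (iv0 F297792)) (tt N25403 (iv2 F60952)) (tt N25981 (iv3 F63813)) (tt N12249 F31216) (tt N25986 (iv5 F63824)) (tt N11673 F297256) (tt N6264 (iv7 D19496)))
theorem Q12940 : ∀ i, i < 12940 → P i := stepQ 12939 Q12939 (allL N12939 (tt N11669 F296151) (tt N11675 (iv0 F296634)) (tt N6274 F31217) (tt N25417 (iv3 F60981)) (tt N12164 F31218) (tt N14483 (iv5 F36005)) (tt N6265 (iv6 D19497)) (tt N11673 (iv7 F296633)))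
theorem Q12941 : ∀ i, i < 12941 → P i := stepQ 12940 Q12940 (allL N12940 (tt N6275 F31221) (tt N13086 (iv0 F31458)) (tt N11718 (iv2 F295926)) (tt N12716 F31220) (tt N24894 (iv4 F59880)) (tt N6266 (iv5 D19498)) (tt N11715 (iv6 F295875)) (tt N13292 (iv7 F31934)))
theorem Q12942 : ∀ i, i < 12942 → P i := stepQ 12941 Q12941 (allL N12941 (tt N13086 (iv1 F31459)) (tt N6275 (iv0 F31224)) (tt N13292 (iv2 F31933)) (tt N8573 F31222) (tt N24893 (iv4 F59874)) (tt N6267 (iv5 D19499)) (tt N25987 D41398) (tt N11718 F296039))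
theorem Q12943 : ∀ i, i < 12943 → P i := stepQ 12942 Q12942 (allL N12942 (tt N6799 (iv1 F31226)) (tt N11815 F31227) (tt N13356 (iv2 F32311)) (tt N15618 (iv3 F326166)) (tt N23048 (iv4 F54913)) (tt N6269 F31225) (tt N15615 F325236) (tt N6268 (iv7 D19500)))
theorem Q12944 : ∀ i, i < 12944 → P i := stepQ 12943 Q12943 (allL N12943 (tt N7034 (iv1 F31233)) (tt N6270 (iv0 D19503)) (tt N25967 F63764) (tt N25988 D41405) (tt N6500 F31232) (tt N25989 D41406) (tt N13442 F290707) (tt N13298 (iv7 F31957)))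
theorem Q12945 : ∀ i, i < 12945 → P i := stepQ 12944 Q12944 (allL N12944 (tt N6270 (iv1 D19504)) (tt N7034 F31234) (tt N13298 (iv2 F31956)) (tt N25990 D41408) (tt N12110 (iv4 F31235)) (tt N25991 D41409) (tt N25992 D41410) (tt N25967 (iv7 F63766)))
theorem Q12946 : ∀ i, i < 12946 → P i := stepQ 12945 Q12945 (allL N12945 (tt N25993 D41411) (tt N25994 D41412) (tt N25995 D41413) (tt N6270 (iv3 D19505)) (tt N25973 (iv4 F63786)) (tt N25996 D41414) (tt N13473 (iv6 F291035)) (tt N25997 D41415))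
theorem Q12947 : ∀ i, i < 12947 → P i := stepQ 12946 Q12946 (allL N12946 (tt N14037 (iv1 F291039)) (tt N25998 D41417) (tt N25969 (iv2 F63768)) (tt N25996 (iv3 F63858)) (tt N24903 (iv4 F59906)) (tt N6270 (iv5 D19506)) (tt N25999 D41418) (tt N26000 D41419))
theorem Q12948 : ∀ i, i < 12948 → P i := stepQ 12947 Q12947 (allL N12947 (tt N13298 (iv1 F31959)) (tt N25967 F63765) (tt N7034 F31236) (tt N25997 (iv3 F63859)) (tt N6271 F31237) (tt N26000 (iv5 F63866)) (tt N25938 (iv6 F290995)) (tt N6270 (iv7 D19507)))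
theorem Q12949 : ∀ i, i < 12949 → P i := stepQ 12948 Q12948 (allL N12948 (tt N6448 F31240) (tt N6443 F31241) (tt N6273 F31239) (tt N12770 (iv3 F293693)) (tt N6850 F293136) (tt N6272 (iv5 D19509)) (tt N14200 (iv6 F35025)) (tt N12139 (iv7 F293237)))
theorem Q12950 : ∀ i, i < 12950 → P i := stepQ 12949 Q12949 (allL N12949 (tt N12139 (iv1 F293234)) (tt N6273 (iv0 D19510)) (tt N6448 (iv2 F31243)) (tt N12924 F31244) (tt N6554 (iv4 F31246)) (tt N6399 F31242) (tt N12116 F292679) (tt N6443 F31245))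
theorem Q12951 : ∀ i, i < 12951 → P i := stepQ 12950 Q12950 (allL N12950 (tt N6449 F31247) (tt N6290 (iv0 F292912)) (tt N6850 (iv2 F292680)) (tt N26001 D41424) (tt N6273 (iv4 D19511)) (tt N26002 D41425) (tt N14213 (iv6 F35053)) (tt N6851 (iv7 F292913)))
theorem Q12952 : ∀ i, i < 12952 → P i := stepQ 12951 Q12951 (allL N12951 (tt N6274 (iv1 D19513)) (tt N11673 (iv0 F296631)) (tt N11675 (iv2 F296636)) (tt N25376 F296152) (tt N24519 (iv4 F118373)) (tt N26003 D41434) (tt N25356 (iv6 F296629)) (tt N11669 F296153))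
theorem Q12953 : ∀ i, i < 12953 → P i := stepQ 12952 Q12952 (allL N12952 (tt N26004 D41436) (tt N26005 D41437) (tt N14483 (iv2 F36004)) (tt N25393 (iv3 F60915)) (tt N26006 D41438) (tt N6274 (iv5 D19514)) (tt N6275 F31249) (tt N26007 D41439))
theorem Q12954 : ∀ i, i < 12954 → P i := stepQ 12953 Q12953 (allL N12953 (tt N11675 (iv1 F296635)) (tt N11669 F296150) (tt N11673 (iv2 F296632)) (tt N11849 F118114) (tt N12254 F31250) (tt N26007 (iv5 F63883)) (tt N25403 (iv6 F60955)) (tt N6274 (iv7 D19515)))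
theorem Q12955 : ∀ i, i < 12955 → P i := stepQ 12954 Q12954 (allL N12954 (tt N11760 F31251) (tt N22939 (iv0 F54690)) (tt N14482 (iv2 F36002)) (tt N26008 D41440) (tt N6275 (iv4 D19516)) (tt N26009 D41441) (tt N26006 (iv6 F63882)) (tt N14484 (iv7 F36012)))
theorem Q12956 : ∀ i, i < 12956 → P i := stepQ 12955 Q12955 (allL N12955 (tt N13087 (iv1 F31463)) (tt N6276 (iv0 D19517)) (tt N13294 (iv2 F31941)) (tt N26010 D41442) (tt N13291 (iv4 F31932)) (tt N25998 (iv5 F63864)) (tt N26011 D41443) (tt N13160 F291307))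
theorem Q12957 : ∀ i, i < 12957 → P i := stepQ 12956 Q12956 (allL N12956 (tt N26012 D41446) (tt N26013 D41447) (tt N26014 D41448) (tt N6276 (iv3 D19519)) (tt N26001 (iv4 F63875)) (tt N26015 D41449) (tt N14250 (iv6 F35126)) (tt N13627 F292461))
theorem Q12958 : ∀ i, i < 12958 → P i := stepQ 12957 Q12957 (allL N12957 (tt N26016 D41450) (tt N26017 D41451) (tt N13624 F290996) (tt N26015 (iv3 F63891)) (tt N26018 D41452) (tt N6276 (iv5 D19520)) (tt N26019 D41453) (tt N13628 F290997))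
theorem Q12959 : ∀ i, i < 12959 → P i := stepQ 12958 Q12958 (allL N12958 (tt N12675 (iv1 F31253)) (tt N6277 (iv0 D19521)) (tt N25958 (iv2 F68965)) (tt N26020 D41455) (tt N26021 D41456) (tt N24782 (iv5 F72118)) (tt N26022 D41458) (tt N25957 (iv7 F68968)))
theorem Q12960 : ∀ i, i < 12960 → P i := stepQ 12959 Q12959 (allL N12959 (tt N6277 (iv1 D19522)) (tt N12675 F31257) (tt N25957 (iv2 F68967)) (tt N26023 D41460) (tt N26024 D41461) (tt N24783 (iv5 F74232)) (tt N26025 D41463) (tt N25958 (iv7 F68966)))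
theorem Q12961 : ∀ i, i < 12961 → P i := stepQ 12960 Q12960 (allL N12960 (tt N25958 (iv1 F63688)) (tt N25957 F63687) (tt N6277 (iv2 D19523)) (tt N6306 F31254) (tt N12960 F31255) (tt N25797 (iv5 F62325)) (tt N26026 D41464) (tt N12675 F31256))
theorem Q12962 : ∀ i, i < 12962 → P i := stepQ 12961 Q12961 (allL N12961 (tt N14105 (iv1 F72918)) (tt N14109 (iv0 F72920)) (tt N25797 (iv2 F62324)) (tt N6278 F31258) (tt N26027 D41467) (tt N6277 (iv5 D19524)) (tt N26028 D41468) (tt N14273 (iv7 F35154)))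
theorem Q12963 : ∀ i, i < 12963 → P i := stepQ 12962 Q12962 (allL N12962 (tt N26029 D41469) (tt N26030 D41470) (tt N26026 (iv2 F63909)) (tt N6279 F31259) (tt N12962 F31260) (tt N26031 D41471) (tt N6277 (iv6 D19525)) (tt N26032 D41472))
theorem Q12964 : ∀ i, i < 12964 → P i := stepQ 12963 Q12963 (allL N12963 (tt N26033 D41473) (tt N26034 D41474) (tt N6310 F31261) (tt N26028 (iv3 F63915)) (tt N23007 (iv4 F54862)) (tt N26035 D41475) (tt N6278 (iv6 D19526)) (tt N26036 D41476))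
theorem Q12965 : ∀ i, i < 12965 → P i := stepQ 12964 Q12964 (allL N12964 (tt N6315 (iv1 F31266)) (tt N6279 (iv0 D19527)) (tt N6312 F63482) (tt N26037 D41477) (tt N12697 (iv4 F31268)) (tt N26038 D41478) (tt N26039 D41479) (tt N6313 F63483))
theorem Q12966 : ∀ i, i < 12966 → P i := stepQ 12965 Q12965 (allL N12965 (tt N6279 (iv1 D19528)) (tt N6315 F31262) (tt N6313 F63486) (tt N26040 D41480) (tt N24431 F58693) (tt N26041 D41481) (tt N13491 F292111) (tt N6312 F63487))
theorem Q12967 : ∀ i, i < 12967 → P i := stepQ 12966 Q12966 (allL N12966 (tt N26042 D41483) (tt N14386 (iv0 F35335)) (tt N6314 F31263) (tt N26031 (iv3 F63916)) (tt N26043 D41484) (tt N6279 (iv5 D19529)) (tt N26035 (iv6 F63921)) (tt N26044 D41485))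
theorem Q12968 : ∀ i, i < 12968 → P i := stepQ 12967 Q12967 (allL N12967 (tt N6313 (iv1 F31267)) (tt N6312 F31269) (tt N6315 F31264) (tt N26032 (iv3 F63917)) (tt N6282 F31265) (tt N26044 (iv5 F63946)) (tt N25963 (iv6 F63720)) (tt N6279 (iv7 D19530)))
theorem Q12969 : ∀ i, i < 12969 → P i := stepQ 12968 Q12968 (allL N12968 (tt N13368 F63163) (tt N6384 F63164) (tt N13367 F63512) (tt N6280 (iv3 D19532)) (tt N13378 (iv4 F35864)) (tt N26045 D41486) (tt N26046 D41487) (tt N6321 F63513))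
theorem Q12970 : ∀ i, i < 12970 → P i := stepQ 12969 Q12969 (allL N12969 (tt N26047 D41488) (tt N6817 F63435) (tt N6318 F63514) (tt N26048 D41489) (tt N6280 (iv4 D19533)) (tt N26049 D41490) (tt N26050 D41491) (tt N6322 F63515))
theorem Q12971 : ∀ i, i < 12971 → P i := stepQ 12970 Q12970 (allL N12970 (tt N13118 (iv1 F62658)) (tt N6854 (iv0 F34631)) (tt N6319 F63516) (tt N26045 (iv3 F63949)) (tt N26051 D41492) (tt N6280 (iv5 D19534)) (tt N6434 F291441) (tt N6323 F63517))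
theorem Q12972 : ∀ i, i < 12972 → P i := stepQ 12971 Q12971 (allL N12971 (tt N6692 F65755) (tt N13170 F290681) (tt N6320 F63518) (tt N26046 (iv3 F63951)) (tt N26050 (iv4 F63963)) (tt N6435 F290682) (tt N6280 (iv6 D19535)) (tt N13490 F290683))
theorem Q12973 : ∀ i, i < 12973 → P i := stepQ 12972 Q12972 (allL N12972 (tt N6754 F63558) (tt N25971 F63779) (tt N25970 (iv2 F63773)) (tt N6281 (iv3 D19537)) (tt N12694 F31273) (tt N26052 D41496) (tt N13484 F291826) (tt N6317 F63502))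
theorem Q12974 : ∀ i, i < 12974 → P i := stepQ 12973 Q12973 (allL N12973 (tt N6817 F35815) (tt N26047 F63956) (tt N6322 F63504) (tt N24401 F335617) (tt N6281 (iv4 D19538)) (tt N26053 D41499) (tt N13485 F291853) (tt N6318 F63505))
theorem Q12975 : ∀ i, i < 12975 → P i := stepQ 12974 Q12974 (allL N12974 (tt N6854 F35494) (tt N13118 (iv0 F62657)) (tt N6323 F63506) (tt N26052 (iv3 F63980)) (tt N26054 D41501) (tt N6281 (iv5 D19539)) (tt N6326 F31274) (tt N6319 F63507))
theorem Q12976 : ∀ i, i < 12976 → P i := stepQ 12975 Q12975 (allL N12975 (tt N13151 (iv1 F292517)) (tt N6774 F62628) (tt N6285 F31275) (tt N6834 F31276) (tt N12690 F31277) (tt N6439 (iv5 F292539)) (tt N6283 (iv6 D19541)) (tt N13497 (iv7 F292858)))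
theorem Q12977 : ∀ i, i < 12977 → P i := stepQ 12976 Q12976 (allL N12976 (tt N25384 (iv1 F60870)) (tt N13964 (iv0 F34435)) (tt N12071 F31281) (tt N6284 (iv3 D19542)) (tt N6288 F31278) (tt N8673 F31279) (tt N25599 (iv6 F294748)) (tt N6791 F31280))
theorem Q12978 : ∀ i, i < 12978 → P i := stepQ 12977 Q12977 (allL N12977 (tt N6285 (iv1 D19545)) (tt N13497 (iv0 F292856)) (tt N6774 F62877) (tt N13293 F292064) (tt N25526 F62879) (tt N6568 F292065) (tt N26055 D41511) (tt N13151 (iv7 F292519)))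
theorem Q12979 : ∀ i, i < 12979 → P i := stepQ 12978 Q12978 (allL N12978 (tt N26056 D41516) (tt N26057 D41517) (tt N26058 D41518) (tt N6286 (iv3 D19548)) (tt N6503 F31288) (tt N14174 (iv5 F34954)) (tt N26059 D41519) (tt N6815 F31289))
theorem Q12980 : ∀ i, i < 12980 → P i := stepQ 12979 Q12979 (allL N12979 (tt N25964 F63727) (tt N25965 (iv0 F63735)) (tt N6820 F31290) (tt N26059 (iv3 F64049)) (tt N6498 F31291) (tt N26060 D41520) (tt N6286 (iv6 D19549)) (tt N26061 D41521))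
theorem Q12981 : ∀ i, i < 12981 → P i := stepQ 12980 Q12980 (allL N12980 (tt N12686 F31294) (tt N12775 F34484) (tt N12774 F31295) (tt N6287 (iv3 D19550)) (tt N6666 F31292) (tt N14176 (iv5 F34957)) (tt N26062 D41522) (tt N6818 F31293))
theorem Q12982 : ∀ i, i < 12982 → P i := stepQ 12981 Q12981 (allL N12981 (tt N6318 F35659) (tt N6322 F35660) (tt N6817 F31296) (tt N26062 (iv3 F64058)) (tt N12112 F31297) (tt N26063 D41523) (tt N6287 (iv6 D19551)) (tt N26047 (iv7 F63957)))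
theorem Q12983 : ∀ i, i < 12983 → P i := stepQ 12982 Q12982 (allL N12982 (tt N26064 D41524) (tt N26065 D41525) (tt N24399 (iv2 F58461)) (tt N6290 F31298) (tt N25599 (iv4 F294747)) (tt N26066 D41526) (tt N6288 (iv6 D19552)) (tt N13499 (iv7 F294147)))
theorem Q12984 : ∀ i, i < 12984 → P i := stepQ 12983 Q12983 (allL N12983 (tt N6295 (iv1 F31301)) (tt N6289 (iv0 D19553)) (tt N6825 (iv2 F31302)) (tt N26067 D41528) (tt N12126 F31300) (tt N6409 F31299) (tt N26068 D41529) (tt N6824 (iv7 F31303)))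
theorem Q12985 : ∀ i, i < 12985 → P i := stepQ 12984 Q12984 (allL N12984 (tt N6289 (iv1 D19554)) (tt N6295 F31304) (tt N6824 (iv2 F31308)) (tt N26069 D41530) (tt N12127 F31307) (tt N6856 F31306) (tt N26070 D41531) (tt N6825 F31305))
theorem Q12986 : ∀ i, i < 12986 → P i := stepQ 12985 Q12985 (allL N12985 (tt N26071 D41532) (tt N26072 D41533) (tt N6849 F31309) (tt N17842 (iv3 F44600)) (tt N22988 (iv4 F54838)) (tt N26073 D41534) (tt N6289 (iv6 D19555)) (tt N25233 (iv7 F91588)))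
theorem Q12987 : ∀ i, i < 12987 → P i := stepQ 12986 Q12986 (allL N12986 (tt N6290 (iv1 D19557)) (tt N6449 F293702) (tt N6851 F62914) (tt N26074 D41539) (tt N12139 F62915) (tt N26075 D41540) (tt N26076 D41541) (tt N6850 F62916))
theorem Q12988 : ∀ i, i < 12988 → P i := stepQ 12987 Q12987 (allL N12987 (tt N26077 D41542) (tt N26078 D41543) (tt N6852 F31311) (tt N26066 (iv3 F64063)) (tt N13316 F295145) (tt N6290 (iv5 D19558)) (tt N26073 (iv6 F64080)) (tt N13500 (iv7 F294150)))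
theorem Q12989 : ∀ i, i < 12989 → P i := stepQ 12988 Q12988 (allL N12988 (tt N6680 (iv1 F65822)) (tt N13951 (iv0 F65854)) (tt N6293 F31333) (tt N6786 F31334) (tt N13370 (iv4 F32385)) (tt N12988 F31335) (tt N6291 (iv6 D19574)) (tt N26079 D41559))
theorem Q12990 : ∀ i, i < 12990 → P i := stepQ 12989 Q12989 (allL N12989 (tt N26080 D41560) (tt N26081 D41561) (tt N26082 D41562) (tt N6292 (iv3 D19575)) (tt N6294 F31336) (tt N26083 D41563) (tt N26084 D41564) (tt N6835 F31337))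
theorem Q12991 : ∀ i, i < 12991 → P i := stepQ 12990 Q12990 (allL N12990 (tt N6524 F31340) (tt N6520 F31341) (tt N13213 F31798) (tt N26083 (iv3 F64160)) (tt N6836 F31339) (tt N6292 (iv5 D19576)) (tt N26085 D41565) (tt N6836 F31338))
theorem Q12992 : ∀ i, i < 12992 → P i := stepQ 12991 Q12991 (allL N12991 (tt N13536 (iv1 F65962)) (tt N13538 (iv0 F65958)) (tt N13370 (iv2 F32384)) (tt N26084 (iv3 F64162)) (tt N6293 F31342) (tt N26086 D41568) (tt N6292 (iv6 D19577)) (tt N13569 (iv7 F65792)))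
theorem Q12993 : ∀ i, i < 12993 → P i := stepQ 12992 Q12992 (allL N12992 (tt N26079 (iv1 F64144)) (tt N6293 (iv0 D19578)) (tt N6680 F65914) (tt N13934 (iv3 F65916)) (tt N6589 (iv4 F65917)) (tt N14456 (iv5 F64145)) (tt N26087 D41573) (tt N13951 F65915))
theorem Q12994 : ∀ i, i < 12994 → P i := stepQ 12993 Q12993 (allL N12993 (tt N6293 (iv1 D19579)) (tt N26079 F64143) (tt N13951 (iv2 F65908)) (tt N6653 (iv3 F65909)) (tt N6590 F65907) (tt N14457 (iv5 F65929)) (tt N26088 D41578) (tt N6680 (iv7 F65913)))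
theorem Q12995 : ∀ i, i < 12995 → P i := stepQ 12994 Q12994 (allL N12994 (tt N13951 (iv1 F65855)) (tt N6680 F65823) (tt N26079 (iv2 F64138)) (tt N6298 F31343) (tt N13569 (iv4 F65790)) (tt N12994 F31344) (tt N6447 (iv6 F291885)) (tt N6293 (iv7 D19580)))
theorem Q12996 : ∀ i, i < 12996 → P i := stepQ 12995 Q12995 (allL N12995 (tt N6846 (iv1 F31346)) (tt N6294 (iv0 D19581)) (tt N6845 (iv2 F31350)) (tt N26089 D41579) (tt N13600 (iv4 F33088)) (tt N14220 (iv5 F35068)) (tt N26090 D41580) (tt N6844 (iv7 F31353)))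
theorem Q12997 : ∀ i, i < 12997 → P i := stepQ 12996 Q12996 (allL N12996 (tt N6294 (iv1 D19582)) (tt N6846 F31354) (tt N6844 F31351) (tt N12681 (iv3 F31347)) (tt N6583 (iv4 F31348)) (tt N14221 F35076) (tt N26091 D41581) (tt N6845 F31349))
theorem Q12998 : ∀ i, i < 12998 → P i := stepQ 12997 Q12997 (allL N12997 (tt N6845 (iv1 F31358)) (tt N6844 F31357) (tt N6294 (iv2 D19583)) (tt N6822 F31355) (tt N26082 (iv4 F64156)) (tt N17841 (iv5 F44590)) (tt N26092 D41582) (tt N6846 F31356))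
theorem Q12999 : ∀ i, i < 12999 → P i := stepQ 12998 Q12998 (allL N12998 (tt N25006 (iv1 F60117)) (tt N25005 F60114) (tt N17841 (iv2 F44589)) (tt N6295 F31359) (tt N22328 (iv4 F52917)) (tt N6294 (iv5 D19584)) (tt N26093 D41583) (tt N6847 F31360))
theorem Q13000 : ∀ i, i < 13000 → P i := stepQ 12999 Q12999 (allL N12999 (tt N26094 D41584) (tt N26095 D41585) (tt N26092 (iv2 F64178)) (tt N6296 F31361) (tt N26084 (iv4 F64163)) (tt N26096 D41586) (tt N6294 (iv6 D19585)) (tt N26097 D41587))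
theorem Q13001 : ∀ i, i < 13001 → P i := stepQ 13000 Q13000 (allL N13000 (tt N26098 D41588) (tt N26099 D41589) (tt N6826 F31362) (tt N26093 (iv3 F64180)) (tt N22985 (iv4 F54822)) (tt N26100 D41590) (tt N6295 (iv6 D19586)) (tt N26101 D41591))
theorem Q13002 : ∀ i, i < 13002 → P i := stepQ 13001 Q13001 (allL N13001 (tt N6830 (iv1 F31368)) (tt N6296 (iv0 D19587)) (tt N6827 F65839) (tt N26102 D41593) (tt N12115 F66214) (tt N26103 D41595) (tt N26104 D41596) (tt N6828 (iv7 F65843)))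
theorem Q13003 : ∀ i, i < 13003 → P i := stepQ 13002 Q13002 (allL N13002 (tt N6296 (iv1 D19588)) (tt N6830 F31363) (tt N6828 (iv2 F65842)) (tt N26105 D41598) (tt N6597 (iv4 F65815)) (tt N26106 D41600) (tt N26107 D41601) (tt N6827 F65841))
theorem Q13004 : ∀ i, i < 13004 → P i := stepQ 13003 Q13003 (allL N13003 (tt N26108 D41602) (tt N26109 D41603) (tt N6829 F31364) (tt N26096 (iv3 F64181)) (tt N26110 D41604) (tt N6296 (iv5 D19589)) (tt N26100 (iv6 F64186)) (tt N26111 D41605))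
theorem Q13005 : ∀ i, i < 13005 → P i := stepQ 13004 Q13004 (allL N13004 (tt N6828 (iv1 F31369)) (tt N6827 F31370) (tt N6830 F31365) (tt N26097 (iv3 F64182)) (tt N6298 F31366) (tt N26111 (iv5 F64201)) (tt N6449 (iv6 F292908)) (tt N6296 (iv7 D19590)))
theorem Q13006 : ∀ i, i < 13006 → P i := stepQ 13005 Q13005 (allL N13005 (tt N6304 F66225) (tt N13503 (iv0 F292124)) (tt N6691 F65751) (tt N26112 D41621) (tt N6297 (iv4 D19597)) (tt N26113 D41622) (tt N26114 D41623) (tt N6831 F35514))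
theorem Q13007 : ∀ i, i < 13007 → P i := stepQ 13006 Q13006 (allL N13006 (tt N13490 F290664) (tt N6320 F35515) (tt N6692 F65752) (tt N13006 F65780) (tt N26114 (iv4 F64233)) (tt N6506 F290665) (tt N6297 (iv6 D19598)) (tt N13170 F290666))
theorem Q13008 : ∀ i, i < 13008 → P i := stepQ 13007 Q13007 (allL N13007 (tt N24435 (iv1 F58711)) (tt N6299 (iv0 D19599)) (tt N24434 F58713) (tt N13964 (iv3 F34432)) (tt N26115 D41624) (tt N13963 F34430) (tt N26116 D41625) (tt N24433 F58706))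
theorem Q13009 : ∀ i, i < 13009 → P i := stepQ 13008 Q13008 (allL N13008 (tt N6299 (iv1 D19600)) (tt N24435 F58717) (tt N24433 (iv2 F58715)) (tt N26117 D41626) (tt N26118 D41627) (tt N14264 F58716) (tt N26119 D41628) (tt N24434 F58714))
theorem Q13010 : ∀ i, i < 13010 → P i := stepQ 13009 Q13009 (allL N13009 (tt N24434 (iv1 F58712)) (tt N24433 F58705) (tt N6299 (iv2 D19601)) (tt N24483 (iv3 F58828)) (tt N13702 (iv4 F33500)) (tt N26120 D41629) (tt N26121 D41630) (tt N24435 (iv7 F58710)))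
theorem Q13011 : ∀ i, i < 13011 → P i := stepQ 13010 Q13010 (allL N13010 (tt N6755 F31374) (tt N13703 F34055) (tt N13702 F33499) (tt N6747 F31373) (tt N6299 (iv4 D19602)) (tt N26122 D41631) (tt N26123 D41632) (tt N13685 (iv7 F33471)))
theorem Q13012 : ∀ i, i < 13012 → P i := stepQ 13011 Q13011 (allL N13011 (tt N12244 F34423) (tt N26124 D41633) (tt N26120 (iv2 F64236)) (tt N6300 F31375) (tt N24649 (iv4 F59253)) (tt N6299 (iv5 D19603)) (tt N26125 D41634) (tt N6972 F31376))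
theorem Q13013 : ∀ i, i < 13013 → P i := stepQ 13012 Q13012 (allL N13012 (tt N26126 D41635) (tt N26127 D41636) (tt N26121 (iv2 F64241)) (tt N6301 F31377) (tt N26123 (iv4 F64245)) (tt N26128 D41637) (tt N6299 (iv6 D19604)) (tt N13501 (iv7 F294224)))
theorem Q13014 : ∀ i, i < 13014 → P i := stepQ 13013 Q13013 (allL N13013 (tt N26129 D41639) (tt N26130 D41640) (tt N6975 F31378) (tt N26125 (iv3 F64257)) (tt N22974 (iv4 F54793)) (tt N26131 D41641) (tt N6300 (iv6 D19605)) (tt N26132 D41642))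
theorem Q13015 : ∀ i, i < 13015 → P i := stepQ 13014 Q13014 (allL N13014 (tt N13317 F293943) (tt N6456 F293944) (tt N13505 (iv2 F294656)) (tt N26128 (iv3 F64258)) (tt N13297 (iv4 F294823)) (tt N6301 (iv5 D19608)) (tt N26131 (iv6 F64262)) (tt N13502 (iv7 F294228)))
theorem Q13016 : ∀ i, i < 13016 → P i := stepQ 13015 Q13015 (allL N13015 (tt N24483 (iv1 F58831)) (tt N6302 (iv0 D19610)) (tt N24482 F58826) (tt N26133 D41647) (tt N22236 (iv4 F52828)) (tt N14292 F35211) (tt N26134 D41648) (tt N22236 (iv7 F52827)))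
theorem Q13017 : ∀ i, i < 13017 → P i := stepQ 13016 Q13016 (allL N13016 (tt N6302 (iv1 D19611)) (tt N24483 F58832) (tt N22236 (iv2 F52826)) (tt N26135 D41649) (tt N24482 (iv4 F58825)) (tt N14293 (iv5 F35214)) (tt N26136 D41650) (tt N24482 (iv7 F58823)))
theorem Q13018 : ∀ i, i < 13018 → P i := stepQ 13017 Q13017 (allL N13017 (tt N24482 F58827) (tt N22236 (iv0 F52829)) (tt N6302 (iv2 D19612)) (tt N24435 (iv3 F58707)) (tt N12751 F31379) (tt N10552 (iv5 F31380)) (tt N26137 D41651) (tt N24483 (iv7 F58830)))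
theorem Q13019 : ∀ i, i < 13019 → P i := stepQ 13018 Q13018 (allL N13018 (tt N17907 (iv1 F44837)) (tt N22321 (iv0 F52908)) (tt N10552 F31381) (tt N6303 F31382) (tt N8320 F31384) (tt N6302 (iv5 D19613)) (tt N26138 D41652) (tt N6974 F31383))
theorem Q13020 : ∀ i, i < 13020 → P i := stepQ 13019 Q13019 (allL N13019 (tt N26139 D41653) (tt N26140 D41654) (tt N26137 (iv2 F64275)) (tt N6304 F31385) (tt N12753 F31386) (tt N26141 D41655) (tt N6302 (iv6 D19614)) (tt N26142 D41656))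
theorem Q13021 : ∀ i, i < 13021 → P i := stepQ 13020 Q13020 (allL N13020 (tt N26143 D41657) (tt N26144 D41658) (tt N6973 F31387) (tt N26138 (iv3 F64278)) (tt N22965 (iv4 F54744)) (tt N26145 D41659) (tt N6303 (iv6 D19615)) (tt N26146 D41660))
theorem Q13022 : ∀ i, i < 13022 → P i := stepQ 13021 Q13021 (allL N13021 (tt N26147 D41671) (tt N26148 D41672) (tt N24437 (iv2 F58720)) (tt N26141 (iv3 F64280)) (tt N26149 D41673) (tt N6304 (iv5 D19618)) (tt N26145 (iv6 F64285)) (tt N26150 D41674))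
theorem Q13023 : ∀ i, i < 13023 → P i := stepQ 13022 Q13022 (allL N13022 (tt N6691 (iv1 F66221)) (tt N6831 (iv0 F66218)) (tt N13503 (iv2 F292126)) (tt N26142 (iv3 F64281)) (tt N12738 F31388) (tt N26150 (iv5 F64294)) (tt N13295 (iv6 F292907)) (tt N6304 (iv7 D19619)))
theorem Q13024 : ∀ i, i < 13024 → P i := stepQ 13023 Q13023 (allL N13023 (tt N26135 F64274) (tt N26151 D41675) (tt N26152 D41676) (tt N6305 (iv3 D19620)) (tt N13369 (iv4 F32380)) (tt N12850 F31389) (tt N26153 D41677) (tt N12689 F31390))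
theorem Q13025 : ∀ i, i < 13025 → P i := stepQ 13024 Q13024 (allL N13024 (tt N12761 F66208) (tt N6603 F65821) (tt N6793 F31391) (tt N26153 (iv3 F64307)) (tt N6786 F31392) (tt N26154 D41680) (tt N6305 (iv6 D19621)) (tt N13506 F293866))
theorem Q13026 : ∀ i, i < 13026 → P i := stepQ 13025 Q13025 (allL N13025 (tt N26155 D41682) (tt N26156 D41683) (tt N6308 F31393) (tt N26026 (iv3 F63910)) (tt N6332 F31394) (tt N26157 D41684) (tt N6306 (iv6 D19622)) (tt N26158 D41685))
theorem Q13027 : ∀ i, i < 13027 → P i := stepQ 13026 Q13026 (allL N13026 (tt N14611 (iv1 F36437)) (tt N14618 (iv0 F36468)) (tt N11586 F31395) (tt N26159 D41686) (tt N6307 (iv4 D19623)) (tt N11584 F31396) (tt N9120 (iv6 F301837)) (tt N12691 F31397))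
theorem Q13028 : ∀ i, i < 13028 → P i := stepQ 13027 Q13027 (allL N13027 (tt N10876 (iv1 F300570)) (tt N8516 F299056) (tt N11197 (iv2 F300568)) (tt N6310 F31398) (tt N9120 (iv4 F301836)) (tt N10950 (iv5 F301838)) (tt N6307 (iv6 D19624)) (tt N11196 (iv7 F300567)))
theorem Q13029 : ∀ i, i < 13029 → P i := stepQ 13028 Q13028 (allL N13028 (tt N26158 (iv1 F64332)) (tt N6308 (iv0 D19625)) (tt N26155 F64320) (tt N26160 D41692) (tt N13699 F63712) (tt N26161 D41693) (tt N26162 D41694) (tt N26156 (iv7 F64323)))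
theorem Q13030 : ∀ i, i < 13030 → P i := stepQ 13029 Q13029 (allL N13029 (tt N6308 (iv1 D19626)) (tt N26158 F64331) (tt N26156 (iv2 F64325)) (tt N26163 D41695) (tt N13700 (iv4 F63426)) (tt N26164 D41696) (tt N26165 D41697) (tt N26155 F64321))
theorem Q13031 : ∀ i, i < 13031 → P i := stepQ 13030 Q13030 (allL N13030 (tt N26166 D41698) (tt N26167 D41699) (tt N26157 (iv2 F64327)) (tt N6314 F31399) (tt N26168 D41700) (tt N6308 (iv5 D19627)) (tt N10950 F304524) (tt N26169 D41701))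
theorem Q13032 : ∀ i, i < 13032 → P i := stepQ 13031 Q13031 (allL N13031 (tt N26156 (iv1 F64322)) (tt N26155 (iv0 F64319)) (tt N26158 (iv2 F64328)) (tt N6315 F31400) (tt N6335 F31401) (tt N26169 (iv5 F64350)) (tt N12696 F31402) (tt N6308 (iv7 D19628)))
theorem Q13033 : ∀ i, i < 13033 → P i := stepQ 13032 Q13032 (allL N13032 (tt N26170 D41702) (tt N26171 D41703) (tt N26172 D41704) (tt N6309 (iv3 D19629)) (tt N26159 (iv4 F64333)) (tt N22926 (iv5 F54649)) (tt N23878 (iv6 F302400)) (tt N22951 (iv7 F54716)))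
theorem Q13034 : ∀ i, i < 13034 → P i := stepQ 13033 Q13033 (allL N13033 (tt N11921 F299474) (tt N12245 F299475) (tt N23007 (iv2 F54861)) (tt N23878 (iv3 F302399)) (tt N6310 F31403) (tt N22979 (iv5 F302401)) (tt N6309 (iv6 D19630)) (tt N23525 F299476))
theorem Q13035 : ∀ i, i < 13035 → P i := stepQ 13034 Q13034 (allL N13034 (tt N26036 (iv1 F63925)) (tt N6310 (iv0 D19631)) (tt N26033 (iv2 F156378)) (tt N26173 D41711) (tt N26174 D41712) (tt N26175 D41713) (tt N26176 D41714) (tt N26034 F156377))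
theorem Q13036 : ∀ i, i < 13036 → P i := stepQ 13035 Q13035 (allL N13035 (tt N6310 (iv1 D19632)) (tt N26036 F63924) (tt N26034 F156371) (tt N26177 D41716) (tt N26178 D41717) (tt N26179 D41718) (tt N26180 D41719) (tt N26033 (iv7 F156379)))
theorem Q13037 : ∀ i, i < 13037 → P i := stepQ 13036 Q13036 (allL N13036 (tt N26181 D41720) (tt N26182 D41721) (tt N26035 (iv2 F63920)) (tt N10950 F304523) (tt N26183 D41722) (tt N6310 (iv5 D19633)) (tt N6314 F31404) (tt N26184 D41723))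
theorem Q13038 : ∀ i, i < 13038 → P i := stepQ 13037 Q13037 (allL N13037 (tt N26034 (iv1 F63919)) (tt N26033 F63923) (tt N26036 (iv2 F63922)) (tt N11196 (iv3 F300566)) (tt N23525 F300406) (tt N26184 (iv5 F64357)) (tt N26185 D41724) (tt N6310 (iv7 D19634)))
theorem Q13039 : ∀ i, i < 13039 → P i := stepQ 13038 Q13038 (allL N13038 (tt N26186 D41725) (tt N26187 D41726) (tt N14274 (iv2 F35155)) (tt N12692 F31405) (tt N22953 (iv4 F54719)) (tt N26188 D41727) (tt N6311 (iv6 D19635)) (tt N26185 (iv7 F64359)))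
theorem Q13040 : ∀ i, i < 13040 → P i := stepQ 13039 Q13039 (allL N13039 (tt N26189 D41728) (tt N26119 F289521) (tt N26190 D41730) (tt N6312 (iv3 D19637)) (tt N26191 D41731) (tt N26192 D41732) (tt N26193 D41733) (tt N26040 (iv7 F63933)))
theorem Q13041 : ∀ i, i < 13041 → P i := stepQ 13040 Q13040 (allL N13040 (tt N24432 (iv1 F58702)) (tt N6383 F35826) (tt N12697 F63484) (tt N26194 D41734) (tt N6312 (iv4 D19638)) (tt N26195 D41735) (tt N26196 D41736) (tt N24431 F63485))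
theorem Q13042 : ∀ i, i < 13042 → P i := stepQ 13041 Q13041 (allL N13041 (tt N26197 D41737) (tt N26198 D41738) (tt N26038 (iv2 F63928)) (tt N26192 (iv3 F64362)) (tt N26199 D41739) (tt N6312 (iv5 D19639)) (tt N26200 D41740) (tt N26041 (iv7 F63935)))
theorem Q13043 : ∀ i, i < 13043 → P i := stepQ 13042 Q13042 (allL N13042 (tt N26114 (iv1 F64385)) (tt N26201 D41742) (tt N26039 (iv2 F63930)) (tt N26193 (iv3 F64363)) (tt N26196 (iv4 F64373)) (tt N26202 D41743) (tt N6312 (iv6 D19640)) (tt N26203 D41744))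
theorem Q13044 : ∀ i, i < 13044 → P i := stepQ 13043 Q13043 (allL N13043 (tt N26134 F337226) (tt N26204 D41746) (tt N26205 D41747) (tt N6313 (iv3 D19642)) (tt N26206 D41748) (tt N26207 D41749) (tt N26208 D41750) (tt N26037 (iv7 F63927)))
theorem Q13045 : ∀ i, i < 13045 → P i := stepQ 13044 Q13044 (allL N13044 (tt N6383 F58698) (tt N24432 F58699) (tt N24431 F63453) (tt N12679 (iv3 F31408)) (tt N6313 (iv4 D19643)) (tt N26209 D41751) (tt N14598 F292021) (tt N12697 F63454))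
theorem Q13046 : ∀ i, i < 13046 → P i := stepQ 13045 Q13045 (allL N13045 (tt N26198 (iv1 F64376)) (tt N26197 F64375) (tt N26041 (iv2 F63934)) (tt N26207 (iv3 F64388)) (tt N26210 D41753) (tt N6313 (iv5 D19644)) (tt N26211 D41754) (tt N26038 (iv7 F63929)))
theorem Q13047 : ∀ i, i < 13047 → P i := stepQ 13046 Q13046 (allL N13046 (tt N13495 F291854) (tt N13419 F291855) (tt N13491 (iv2 F292026)) (tt N26208 (iv3 F64389)) (tt N14598 F291856) (tt N26212 D41757) (tt N6313 (iv6 D19645)) (tt N13492 F291857))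
theorem Q13048 : ∀ i, i < 13048 → P i := stepQ 13047 Q13047 (allL N13047 (tt N26044 (iv1 F63948)) (tt N6314 (iv0 D19646)) (tt N26042 F63938) (tt N26213 D41759) (tt N26214 D41760) (tt N14387 (iv5 F58700)) (tt N26215 D41761) (tt N14386 F58701))
theorem Q13049 : ∀ i, i < 13049 → P i := stepQ 13048 Q13048 (allL N13048 (tt N6314 (iv1 D19647)) (tt N26044 F63947) (tt N14386 (iv2 F35334)) (tt N26216 D41762) (tt N26217 D41763) (tt N14127 (iv5 F34829)) (tt N26218 D41764) (tt N26042 (iv7 F63939)))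
theorem Q13050 : ∀ i, i < 13050 → P i := stepQ 13049 Q13049 (allL N13049 (tt N26219 D41765) (tt N26220 D41766) (tt N26043 (iv2 F63941)) (tt N26221 D41767) (tt N6314 (iv4 D19648)) (tt N26222 D41768) (tt N26183 (iv6 F64356)) (tt N26223 D41769))
theorem Q13051 : ∀ i, i < 13051 → P i := stepQ 13050 Q13050 (allL N13050 (tt N14386 (iv1 F35336)) (tt N26042 F63940) (tt N26044 (iv2 F63944)) (tt N26169 (iv3 F64349)) (tt N26223 (iv4 F64416)) (tt N6315 F31409) (tt N26224 D41770) (tt N6314 (iv7 D19649)))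
theorem Q13052 : ∀ i, i < 13052 → P i := stepQ 13051 Q13051 (allL N13051 (tt N25961 (iv1 F63713)) (tt N25960 (iv0 F63693)) (tt N25963 (iv2 F63718)) (tt N12696 F31410) (tt N6325 F31411) (tt N26225 D41771) (tt N6315 (iv6 D19650)) (tt N6316 F31412))
theorem Q13053 : ∀ i, i < 13053 → P i := stepQ 13052 Q13052 (allL N13052 (tt N25963 (iv1 F63722)) (tt N6316 (iv0 D19651)) (tt N25960 (iv2 F63696)) (tt N26226 D41772) (tt N13387 F63697) (tt N26227 D41773) (tt N26228 D41774) (tt N25961 (iv7 F63714)))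
theorem Q13054 : ∀ i, i < 13054 → P i := stepQ 13053 Q13053 (allL N13053 (tt N6316 (iv1 D19652)) (tt N25963 F63721) (tt N25961 (iv2 F63716)) (tt N26229 D41775) (tt N13388 (iv4 F61803)) (tt N26230 D41776) (tt N26231 D41777) (tt N25960 (iv7 F63695)))
theorem Q13055 : ∀ i, i < 13055 → P i := stepQ 13054 Q13054 (allL N13054 (tt N26232 D41778) (tt N26233 D41779) (tt N25962 (iv2 F63717)) (tt N12695 F31413) (tt N26234 D41780) (tt N6316 (iv5 D19653)) (tt N26188 (iv6 F64361)) (tt N26225 (iv7 F64419)))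
theorem Q13056 : ∀ i, i < 13056 → P i := stepQ 13055 Q13055 (allL N13055 (tt N25970 (iv1 F63770)) (tt N6317 (iv0 D19660)) (tt N25971 (iv2 F63775)) (tt N6348 F61487) (tt N25552 F61488) (tt N6999 F61489) (tt N13701 F63126) (tt N6754 F63127))
theorem Q13057 : ∀ i, i < 13057 → P i := stepQ 13056 Q13056 (allL N13056 (tt N25971 (iv1 F63780)) (tt N6754 F63497) (tt N6317 (iv2 D19662)) (tt N13367 F63498) (tt N12693 F63499) (tt N26235 D41781) (tt N26236 D41782) (tt N25970 (iv7 F63771)))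
theorem Q13058 : ∀ i, i < 13058 → P i := stepQ 13057 Q13057 (allL N13057 (tt N12696 F31422) (tt N12677 (iv0 F31424)) (tt N12693 F63500) (tt N26237 D41783) (tt N6317 (iv4 D19663)) (tt N26238 D41784) (tt N26239 D41785) (tt N12694 F63501))
theorem Q13059 : ∀ i, i < 13059 → P i := stepQ 13058 Q13058 (allL N13058 (tt N26240 D41786) (tt N26055 (iv0 F68710)) (tt N26235 (iv2 F64427)) (tt N6319 F31425) (tt N26241 D41788) (tt N6317 (iv5 D19664)) (tt N26242 D41789) (tt N26052 (iv7 F63981)))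
theorem Q13060 : ∀ i, i < 13060 → P i := stepQ 13059 Q13059 (allL N13059 (tt N13757 F72328) (tt N26243 D41791) (tt N26236 (iv2 F64429)) (tt N6320 F31426) (tt N26239 (iv4 F64436)) (tt N26244 D41792) (tt N6317 (iv6 D19665)) (tt N26245 D41793))
theorem Q13061 : ∀ i, i < 13061 → P i := stepQ 13060 Q13060 (allL N13060 (tt N6322 (iv1 F31432)) (tt N6318 (iv0 D19667)) (tt N26047 F63955) (tt N26246 D41794) (tt N13178 F35657) (tt N26247 D41795) (tt N26061 (iv6 F64054)) (tt N6817 F35658))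
theorem Q13062 : ∀ i, i < 13062 → P i := stepQ 13061 Q13061 (allL N13061 (tt N24402 F335597) (tt N24376 F335598) (tt N24400 (iv2 F335614)) (tt N6318 (iv3 D19669)) (tt N26237 (iv4 F64431)) (tt N26248 D41799) (tt N26249 D41800) (tt N24401 (iv7 F335611)))
theorem Q13063 : ∀ i, i < 13063 → P i := stepQ 13062 Q13062 (allL N13062 (tt N26250 D41801) (tt N26251 D41802) (tt N26049 (iv2 F63960)) (tt N26248 (iv3 F64457)) (tt N26252 D41803) (tt N6318 (iv5 D19670)) (tt N26253 D41804) (tt N26053 (iv7 F63990)))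
theorem Q13064 : ∀ i, i < 13064 → P i := stepQ 13063 Q13063 (allL N13063 (tt N26107 (iv1 F65935)) (tt N26254 D41806) (tt N26050 (iv2 F63962)) (tt N26249 (iv3 F64458)) (tt N6320 F31429) (tt N26255 D41807) (tt N6318 (iv6 D19671)) (tt N26256 D41808))
theorem Q13065 : ∀ i, i < 13065 → P i := stepQ 13064 Q13064 (allL N13064 (tt N6323 (iv1 F31438)) (tt N6319 (iv0 D19673)) (tt N13118 (iv2 F62659)) (tt N13064 F62218) (tt N26257 D41809) (tt N6934 F31433) (tt N13420 F291694) (tt N6854 F35009))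
theorem Q13066 : ∀ i, i < 13066 → P i := stepQ 13065 Q13065 (allL N13065 (tt N26258 D41810) (tt N26076 F64097) (tt N26051 (iv2 F63964)) (tt N26259 D41811) (tt N6319 (iv4 D19675)) (tt N26260 D41812) (tt N26261 D41813) (tt N26054 (iv7 F63995)))
theorem Q13067 : ∀ i, i < 13067 → P i := stepQ 13066 Q13066 (allL N13066 (tt N6833 F31435) (tt N13325 (iv0 F290856)) (tt N6434 (iv2 F290907)) (tt N26242 (iv3 F64446)) (tt N26261 (iv4 F64475)) (tt N6394 F290769) (tt N6319 (iv6 D19676)) (tt N6430 (iv7 F291159)))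
theorem Q13068 : ∀ i, i < 13068 → P i := stepQ 13067 Q13067 (allL N13067 (tt N6320 (iv1 D19679)) (tt N13490 F290668) (tt N13170 F290669) (tt N6337 (iv3 F290853)) (tt N26201 (iv4 F64382)) (tt N6336 F290670) (tt N13325 (iv6 F290858)) (tt N6692 F65758))
theorem Q13069 : ∀ i, i < 13069 → P i := stepQ 13068 Q13068 (allL N13068 (tt N6781 F31439) (tt N7022 (iv0 F31440)) (tt N6435 (iv2 F290606)) (tt N26244 (iv3 F64447)) (tt N26262 D41815) (tt N6320 (iv5 D19680)) (tt N6394 (iv6 F290639)) (tt N7028 F63522))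
theorem Q13070 : ∀ i, i < 13070 → P i := stepQ 13069 Q13069 (allL N13069 (tt N13170 (iv1 F290637)) (tt N6692 F65754) (tt N13490 (iv2 F290632)) (tt N26245 (iv3 F64451)) (tt N26256 (iv4 F64465)) (tt N7028 F63524) (tt N13418 (iv6 F290638)) (tt N6320 (iv7 D19681)))
theorem Q13071 : ∀ i, i < 13071 → P i := stepQ 13070 Q13070 (allL N13070 (tt N6321 (iv1 D19684)) (tt N13367 F63165) (tt N13368 F63166) (tt N6339 F35867) (tt N13608 (iv4 F63215)) (tt N7012 F35825) (tt N13394 F63167) (tt N6384 F63168))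
theorem Q13072 : ∀ i, i < 13072 → P i := stepQ 13071 Q13071 (allL N13071 (tt N6384 F63530) (tt N13368 F63531) (tt N6321 (iv2 D19685)) (tt N25970 F63772) (tt N13379 (iv4 F63532)) (tt N26263 D41816) (tt N26264 D41817) (tt N13367 (iv7 F63495)))
theorem Q13073 : ∀ i, i < 13073 → P i := stepQ 13072 Q13072 (allL N13072 (tt N6387 F35822) (tt N13381 F35823) (tt N13379 F63533) (tt N26265 D41818) (tt N6321 (iv4 D19686)) (tt N26266 D41819) (tt N26267 D41820) (tt N13378 F63529))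
theorem Q13074 : ∀ i, i < 13074 → P i := stepQ 13073 Q13073 (allL N13073 (tt N26268 D41821) (tt N26269 D41822) (tt N26263 (iv2 F64480)) (tt N6323 F31442) (tt N26270 D41823) (tt N6321 (iv5 D19687)) (tt N13391 F63477) (tt N26045 (iv7 F63950)))
theorem Q13075 : ∀ i, i < 13075 → P i := stepQ 13074 Q13074 (allL N13074 (tt N26271 D41824) (tt N13913 F71736) (tt N26264 (iv2 F64483)) (tt N6324 F31443) (tt N26267 (iv4 F64485)) (tt N26272 D41826) (tt N6321 (iv6 D19688)) (tt N13487 (iv7 F291077)))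
theorem Q13076 : ∀ i, i < 13076 → P i := stepQ 13075 Q13075 (allL N13075 (tt N26090 (iv1 F64493)) (tt N26273 D41829) (tt N26274 D41830) (tt N6322 (iv3 D19689)) (tt N26265 (iv4 F64484)) (tt N26275 D41831) (tt N26276 D41832) (tt N26048 (iv7 F63959)))
theorem Q13077 : ∀ i, i < 13077 → P i := stepQ 13076 Q13076 (allL N13076 (tt N26251 (iv1 F64461)) (tt N26250 F64460) (tt N26053 (iv2 F63989)) (tt N26275 (iv3 F64494)) (tt N26277 D41833) (tt N6322 (iv5 D19690)) (tt N26278 D41834) (tt N26049 (iv7 F63961)))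
theorem Q13078 : ∀ i, i < 13078 → P i := stepQ 13077 Q13077 (allL N13077 (tt N26279 D41835) (tt N14213 F291691) (tt N13485 F291692) (tt N26276 (iv3 F64495)) (tt N6324 F31444) (tt N26280 D41837) (tt N6322 (iv6 D19691)) (tt N13488 F291693))
theorem Q13079 : ∀ i, i < 13079 → P i := stepQ 13078 Q13078 (allL N13078 (tt N26076 F64096) (tt N26258 F64469) (tt N26054 (iv2 F63993)) (tt N26281 D41839) (tt N6323 (iv4 D19692)) (tt N26282 D41840) (tt N25964 (iv6 F63724)) (tt N26051 (iv7 F63965)))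
theorem Q13080 : ∀ i, i < 13080 → P i := stepQ 13079 Q13079 (allL N13079 (tt N6913 (iv1 F34992)) (tt N6910 (iv0 F31445)) (tt N13486 (iv2 F291171)) (tt N26272 (iv3 F64489)) (tt N26283 D41841) (tt N6324 (iv5 D19695)) (tt N13581 (iv6 F291258)) (tt N13489 (iv7 F291081)))
theorem Q13081 : ∀ i, i < 13081 → P i := stepQ 13080 Q13080 (allL N13080 (tt N13701 F63555) (tt N6790 F63556) (tt N13699 F63544) (tt N6326 (iv3 D19699)) (tt N26155 (iv4 F64317)) (tt N26284 D41844) (tt N26052 (iv6 F63983)) (tt N13700 F63543))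
theorem Q13082 : ∀ i, i < 13082 → P i := stepQ 13081 Q13081 (allL N13081 (tt N26061 (iv1 F64056)) (tt N6820 F63557) (tt N25964 (iv2 F63723)) (tt N26285 D41845) (tt N6326 (iv4 D19700)) (tt N26286 D41846) (tt N26054 (iv6 F63994)) (tt N25965 (iv7 F63734)))
theorem Q13083 : ∀ i, i < 13083 → P i := stepQ 13082 Q13082 (allL N13082 (tt N13384 F291518) (tt N13580 F291519) (tt N13581 F291520) (tt N26284 (iv3 F64511)) (tt N26287 D41849) (tt N6326 (iv5 D19701)) (tt N13486 F291521) (tt N13539 F291522))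
theorem Q13084 : ∀ i, i < 13084 → P i := stepQ 13083 Q13083 (allL N13083 (tt N6371 F63702) (tt N13394 F63703) (tt N13392 F63546) (tt N6327 (iv3 D19703)) (tt N13401 (iv4 F35855)) (tt N13575 (iv5 F290654)) (tt N25704 (iv6 F290656)) (tt N13391 F63540))
theorem Q13085 : ∀ i, i < 13085 → P i := stepQ 13084 Q13084 (allL N13084 (tt N6820 F63705) (tt N26061 F64055) (tt N25965 (iv2 F63733)) (tt N26288 D41852) (tt N6327 (iv4 D19704)) (tt N26289 D41853) (tt N26290 D41854) (tt N25964 (iv7 F63725)))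
theorem Q13086 : ∀ i, i < 13086 → P i := stepQ 13085 Q13085 (allL N13085 (tt N13325 (iv1 F290857)) (tt N6833 F63007) (tt N6430 (iv2 F291157)) (tt N25704 F290814) (tt N26290 (iv4 F64523)) (tt N6393 (iv5 F290909)) (tt N6327 (iv6 D19706)) (tt N6434 (iv7 F290908)))
theorem Q13087 : ∀ i, i < 13087 → P i := stepQ 13086 Q13086 (allL N13086 (tt N12940 F31458) (tt N12941 F31459) (tt N7032 F31456) (tt N23613 F56221) (tt N23813 (iv4 F56548)) (tt N6329 (iv5 D19711)) (tt N26291 D41870) (tt N7031 F31457))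
theorem Q13088 : ∀ i, i < 13088 → P i := stepQ 13087 Q13087 (allL N13087 (tt N6837 (iv1 F291229)) (tt N12955 F31463) (tt N6622 (iv2 F291044)) (tt N26292 D41871) (tt N6330 (iv4 D19712)) (tt N26293 D41872) (tt N26294 D41873) (tt N6619 (iv7 F291042)))
theorem Q13089 : ∀ i, i < 13089 → P i := stepQ 13088 Q13088 (allL N13088 (tt N13383 (iv1 F291301)) (tt N12709 F290840) (tt N6623 (iv2 F291275)) (tt N25659 (iv3 F291303)) (tt N26294 (iv4 F64546)) (tt N12900 (iv5 F291305)) (tt N6330 (iv6 D19713)) (tt N25566 (iv7 F291277)))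
theorem Q13090 : ∀ i, i < 13090 → P i := stepQ 13089 Q13089 (allL N13089 (tt N6783 (iv1 F31466)) (tt N6331 (iv0 D19714)) (tt N7037 F31472) (tt N26295 D41877) (tt N13390 (iv4 F32433)) (tt N13619 (iv5 F291591)) (tt N25939 F292549) (tt N7036 F31470))
theorem Q13091 : ∀ i, i < 13091 → P i := stepQ 13090 Q13090 (allL N13090 (tt N6331 (iv1 D19715)) (tt N6783 F31467) (tt N7036 (iv2 F31469)) (tt N26296 D41880) (tt N12665 F31468) (tt N13620 (iv5 F291586)) (tt N13411 (iv6 F291587)) (tt N7037 (iv7 F31471)))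
theorem Q13092 : ∀ i, i < 13092 → P i := stepQ 13091 Q13091 (allL N13091 (tt N26297 D41886) (tt N26298 D41887) (tt N24911 (iv2 F59916)) (tt N25955 (iv3 F292770)) (tt N24418 (iv4 F58657)) (tt N6331 (iv5 D19717)) (tt N26299 D41888) (tt N7039 F31475))
theorem Q13093 : ∀ i, i < 13093 → P i := stepQ 13092 Q13092 (allL N13092 (tt N6335 F31477) (tt N6332 (iv0 D19718)) (tt N6333 F63461) (tt N13147 F61503) (tt N26300 D41889) (tt N13115 F291364) (tt N12703 F31476) (tt N6334 F63462))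
theorem Q13094 : ∀ i, i < 13094 → P i := stepQ 13093 Q13093 (allL N13093 (tt N6332 (iv1 D19719)) (tt N6335 F31478) (tt N6334 F63464) (tt N13388 F61804) (tt N26301 D41891) (tt N13114 (iv5 F291679)) (tt N7058 (iv6 F292154)) (tt N6333 F63465))
theorem Q13095 : ∀ i, i < 13095 → P i := stepQ 13094 Q13094 (allL N13094 (tt N6334 (iv1 F31485)) (tt N6333 F31486) (tt N6335 F31482) (tt N13094 F31483) (tt N26158 (iv4 F64329)) (tt N6638 F291361) (tt N12680 F31484) (tt N6332 (iv7 D19721)))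
theorem Q13096 : ∀ i, i < 13096 → P i := stepQ 13095 Q13095 (allL N13095 (tt N13389 F63480) (tt N12735 F63481) (tt N13387 F63467) (tt N6333 (iv3 D19723)) (tt N25960 F63694) (tt N26302 D41897) (tt N26209 (iv6 F64394)) (tt N13388 F63466))
theorem Q13097 : ∀ i, i < 13097 → P i := stepQ 13096 Q13096 (allL N13096 (tt N26303 D41898) (tt N12748 F63552) (tt N26300 (iv2 F64589)) (tt N26304 D41899) (tt N6333 (iv4 D19724)) (tt N26305 D41900) (tt N26306 D41901) (tt N26301 (iv7 F64600)))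
theorem Q13098 : ∀ i, i < 13098 → P i := stepQ 13097 Q13097 (allL N13097 (tt N13107 (iv1 F292155)) (tt N13116 F291800) (tt N13115 F291801) (tt N26302 (iv3 F64627)) (tt N26307 D41904) (tt N6333 (iv5 D19725)) (tt N13322 (iv6 F66132)) (tt N13114 F291802))
theorem Q13099 : ∀ i, i < 13099 → P i := stepQ 13098 Q13098 (allL N13098 (tt N12783 F62443) (tt N13518 (iv0 F62476)) (tt N12703 F63457) (tt N26209 (iv3 F64390)) (tt N26306 (iv4 F64634)) (tt N12679 F31488) (tt N6333 (iv6 D19726)) (tt N12699 F63458))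
theorem Q13100 : ∀ i, i < 13100 → P i := stepQ 13099 Q13099 (allL N13099 (tt N12766 F63709) (tt N13150 F63710) (tt N13148 F63469) (tt N6334 (iv3 D19728)) (tt N13708 (iv4 F63429)) (tt N13757 (iv5 F290860)) (tt N14152 (iv6 F290861)) (tt N13147 F63463))
theorem Q13101 : ∀ i, i < 13101 → P i := stepQ 13100 Q13100 (allL N13100 (tt N12748 F63711) (tt N26303 F64630) (tt N26301 (iv2 F64599)) (tt N26308 D41908) (tt N6334 (iv4 D19729)) (tt N26309 D41909) (tt N26310 D41910) (tt N26300 (iv7 F64591)))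
theorem Q13102 : ∀ i, i < 13102 → P i := stepQ 13101 Q13101 (allL N13101 (tt N13131 (iv1 F292158)) (tt N12763 F63073) (tt N7058 (iv2 F292153)) (tt N14152 F291363) (tt N26310 (iv4 F64653)) (tt N7043 (iv5 F292161)) (tt N6334 (iv6 D19731)) (tt N7062 (iv7 F292162)))
theorem Q13103 : ∀ i, i < 13103 → P i := stepQ 13102 Q13102 (allL N13102 (tt N13603 F63424) (tt N6586 F63425) (tt N13169 F35800) (tt N12705 F31495) (tt N6336 (iv4 D19739)) (tt N26311 D41927) (tt N25569 (iv6 F61528)) (tt N13103 (iv7 F31506)))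
theorem Q13104 : ∀ i, i < 13104 → P i := stepQ 13103 Q13103 (allL N13103 (tt N6611 F63358) (tt N13547 F63359) (tt N13404 F35675) (tt N12708 F31505) (tt N6338 (iv4 D19745)) (tt N26312 D41931) (tt N14554 (iv6 F291319)) (tt N13102 F31506))
theorem Q13105 : ∀ i, i < 13105 → P i := stepQ 13104 Q13104 (allL N13104 (tt N13878 F63223) (tt N13877 F63224) (tt N13119 (iv2 F35883)) (tt N26313 D41958) (tt N6339 (iv4 D19760)) (tt N26314 D41959) (tt N13868 F63225) (tt N6658 F63226))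
theorem Q13106 : ∀ i, i < 13106 → P i := stepQ 13105 Q13105 (allL N13105 (tt N13123 (iv1 F31575)) (tt N6668 F35821) (tt N6341 F31543) (tt N26315 D41960) (tt N6340 (iv4 D19768)) (tt N26316 D41961) (tt N26317 D41962) (tt N13120 (iv7 F31563)))
theorem Q13107 : ∀ i, i < 13107 → P i := stepQ 13106 Q13106 (allL N13106 (tt N13128 (iv1 F31581)) (tt N13127 F31580) (tt N6342 F31544) (tt N13106 F31545) (tt N26318 D41963) (tt N6340 (iv5 D19769)) (tt N13328 (iv6 F292222)) (tt N13121 (iv7 F31568)))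
theorem Q13108 : ∀ i, i < 13108 → P i := stepQ 13107 Q13107 (allL N13107 (tt N6687 F63297) (tt N13097 F292155) (tt N6343 F31546) (tt N13107 F31547) (tt N26317 (iv4 F64734)) (tt N13329 F292156) (tt N6340 (iv6 D19770)) (tt N25776 F292157))
theorem Q13109 : ∀ i, i < 13109 → P i := stepQ 13108 Q13108 (allL N13108 (tt N13120 (iv1 F31565)) (tt N6341 (iv0 D19771)) (tt N13123 F35859) (tt N26319 D41967) (tt N26320 D41968) (tt N26321 D41969) (tt N13887 F35860) (tt N6668 F35861))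
theorem Q13110 : ∀ i, i < 13110 → P i := stepQ 13109 Q13109 (allL N13109 (tt N13887 F35801) (tt N6671 F35802) (tt N13869 (iv2 F63256)) (tt N6341 (iv3 D19773)) (tt N6344 F31548) (tt N26322 D41970) (tt N13129 (iv6 F31583)) (tt N13124 (iv7 F31577)))
theorem Q13111 : ∀ i, i < 13111 → P i := stepQ 13110 Q13110 (allL N13110 (tt N26323 D41971) (tt N26324 D41972) (tt N26316 (iv2 F64732)) (tt N26322 (iv3 F64759)) (tt N26325 D41973) (tt N6341 (iv5 D19774)) (tt N26326 D41974) (tt N13125 (iv7 F31578)))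
theorem Q13112 : ∀ i, i < 13112 → P i := stepQ 13111 Q13111 (allL N13111 (tt N26327 D41975) (tt N26328 D41976) (tt N26317 (iv2 F64733)) (tt N13129 (iv3 F31582)) (tt N6343 F31549) (tt N26329 D41977) (tt N6341 (iv6 D19775)) (tt N26330 D41978))
theorem Q13113 : ∀ i, i < 13113 → P i := stepQ 13112 Q13112 (allL N13112 (tt N13121 (iv1 F31571)) (tt N6342 (iv0 D19776)) (tt N13128 (iv2 F63316)) (tt N26269 (iv3 F67696)) (tt N26331 D41980) (tt N7125 F63313) (tt N13130 (iv6 F63319)) (tt N13127 F63314))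
theorem Q13114 : ∀ i, i < 13114 → P i := stepQ 13113 Q13113 (allL N13113 (tt N26332 D41981) (tt N13909 (iv0 F62929)) (tt N26318 (iv2 F64735)) (tt N26330 (iv3 F64763)) (tt N6342 (iv4 D19778)) (tt N26333 D41982) (tt N13334 F291428) (tt N13129 (iv7 F31584)))
theorem Q13115 : ∀ i, i < 13115 → P i := stepQ 13114 Q13114 (allL N13114 (tt N25776 (iv1 F291772)) (tt N6343 (iv0 D19780)) (tt N6687 F63387) (tt N26088 (iv3 F65911)) (tt N26334 D41986) (tt N13093 F291679) (tt N6653 F63237) (tt N13097 (iv7 F291802)))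
theorem Q13116 : ∀ i, i < 13116 → P i := stepQ 13115 Q13115 (allL N13115 (tt N6343 (iv1 D19781)) (tt N25776 (iv0 F291771)) (tt N13097 (iv2 F291801)) (tt N26335 D41987) (tt N26336 D41988) (tt N13092 (iv5 F291364)) (tt N13333 (iv6 F291803)) (tt N6687 F63407))
theorem Q13117 : ∀ i, i < 13117 → P i := stepQ 13116 Q13116 (allL N13116 (tt N13097 (iv1 F291800)) (tt N6687 F63240) (tt N25776 (iv2 F291773)) (tt N6347 F31551) (tt N26330 (iv4 F64764)) (tt N7134 F31552) (tt N6566 F293303) (tt N6343 (iv7 D19782)))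
theorem Q13118 : ∀ i, i < 13118 → P i := stepQ 13117 Q13117 (allL N13117 (tt N12700 F291417) (tt N14602 F63281) (tt N13870 (iv2 F63274)) (tt N6345 F31554) (tt N26337 D41991) (tt N6344 (iv5 D19786)) (tt N13131 (iv6 F31586)) (tt N6604 F291418))
theorem Q13119 : ∀ i, i < 13119 → P i := stepQ 13118 Q13118 (allL N13118 (tt N12974 F62657) (tt N12970 F62658) (tt N13064 F62659) (tt N6346 (iv3 D19788)) (tt N26338 D41993) (tt N7009 (iv5 F62685)) (tt N6550 F291166) (tt N6559 (iv7 F291866)))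
theorem Q13120 : ∀ i, i < 13120 → P i := stepQ 13119 Q13119 (allL N13119 (tt N13695 F63200) (tt N13694 F63201) (tt N13104 F35883) (tt N26339 D41998) (tt N6348 (iv4 D19797)) (tt N26340 D41999) (tt N13710 F63202) (tt N6757 F63203))
theorem Q13121 : ∀ i, i < 13121 → P i := stepQ 13120 Q13120 (allL N13120 (tt N6763 F35863) (tt N13108 F31565) (tt N6350 F31562) (tt N26341 D42000) (tt N6349 (iv4 D19800)) (tt N26342 D42001) (tt N26343 D42002) (tt N13105 F31563))
theorem Q13122 : ∀ i, i < 13122 → P i := stepQ 13121 Q13121 (allL N13121 (tt N6776 F63252) (tt N13112 F31571) (tt N6351 F31566) (tt N13121 F31567) (tt N26344 D42003) (tt N6349 (iv5 D19801)) (tt N6751 (iv6 F63238)) (tt N13106 F31568))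
theorem Q13123 : ∀ i, i < 13123 → P i := stepQ 13122 Q13122 (allL N13122 (tt N12832 (iv1 F292835)) (tt N6773 F63360) (tt N6352 F31572) (tt N13122 F31573) (tt N26343 (iv4 F64813)) (tt N14542 F63198) (tt N6349 (iv6 D19802)) (tt N12830 (iv7 F292804)))
theorem Q13124 : ∀ i, i < 13124 → P i := stepQ 13123 Q13123 (allL N13123 (tt N6350 (iv1 D19804)) (tt N13105 F31575) (tt N13108 (iv2 F35859)) (tt N26345 D42006) (tt N13364 F35818) (tt N26346 D42007) (tt N13726 F35819) (tt N6763 F35820))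
theorem Q13125 : ∀ i, i < 13125 → P i := stepQ 13124 Q13124 (allL N13124 (tt N6760 F35853) (tt N13726 F35854) (tt N13711 (iv2 F63263)) (tt N6350 (iv3 D19805)) (tt N6353 F31576) (tt N26347 D42008) (tt N13324 (iv6 F290678)) (tt N13109 F31577))
theorem Q13126 : ∀ i, i < 13126 → P i := stepQ 13125 Q13125 (allL N13125 (tt N26348 D42010) (tt N26349 D42011) (tt N26342 (iv2 F64808)) (tt N26347 (iv3 F64840)) (tt N26350 D42012) (tt N6350 (iv5 D19806)) (tt N26351 D42013) (tt N13110 F31578))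
theorem Q13127 : ∀ i, i < 13127 → P i := stepQ 13126 Q13126 (allL N13126 (tt N26352 D42014) (tt N26353 D42015) (tt N26343 (iv2 F64812)) (tt N13324 F290894) (tt N6352 F31579) (tt N26354 D42016) (tt N6350 (iv6 D19807)) (tt N13519 (iv7 F291434)))
theorem Q13128 : ∀ i, i < 13128 → P i := stepQ 13127 Q13127 (allL N13127 (tt N13106 (iv1 F31580)) (tt N6351 (iv0 D19808)) (tt N6776 F63285) (tt N14039 F63286) (tt N26355 D42018) (tt N7123 F63284) (tt N6361 (iv6 F292069)) (tt N13112 (iv7 F63314)))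
theorem Q13129 : ∀ i, i < 13129 → P i := stepQ 13128 Q13128 (allL N13128 (tt N6351 (iv1 D19809)) (tt N13106 F31581) (tt N13112 F63316) (tt N26240 F64439) (tt N26356 D42019) (tt N7087 F63242) (tt N12832 (iv6 F292837)) (tt N6776 F63317))
theorem Q13130 : ∀ i, i < 13130 → P i := stepQ 13129 Q13129 (allL N13129 (tt N26357 D42020) (tt N26358 D42021) (tt N26344 (iv2 F64814)) (tt N13111 F31582) (tt N6351 (iv4 D19810)) (tt N26359 D42022) (tt N13109 F31583) (tt N13113 F31584))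
theorem Q13131 : ∀ i, i < 13131 → P i := stepQ 13130 Q13130 (allL N13130 (tt N12830 (iv1 F292803)) (tt N6352 (iv0 D19811)) (tt N12832 (iv2 F292836)) (tt N26360 D42023) (tt N26361 D42024) (tt N6560 (iv5 F293108)) (tt N13112 F63319) (tt N6773 F63320))
theorem Q13132 : ∀ i, i < 13132 → P i := stepQ 13131 Q13131 (allL N13131 (tt N14508 (iv1 F63399)) (tt N13101 F292158) (tt N14542 F63272) (tt N6354 F31585) (tt N26362 D42026) (tt N6352 (iv5 D19813)) (tt N13117 F31586) (tt N6567 (iv7 F293190)))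
theorem Q13133 : ∀ i, i < 13133 → P i := stepQ 13132 Q13132 (allL N13132 (tt N13146 (iv1 F31684)) (tt N6569 (iv0 F31629)) (tt N13144 (iv2 F31673)) (tt N6358 F31627) (tt N13660 (iv4 F33431)) (tt N6356 (iv5 D19832)) (tt N14082 (iv6 F291830)) (tt N12887 F31628))
theorem Q13134 : ∀ i, i < 13134 → P i := stepQ 13133 Q13133 (allL N13133 (tt N24967 (iv1 F296065)) (tt N12740 F31632) (tt N12669 F31630) (tt N8504 F31631) (tt N24031 (iv4 F57186)) (tt N6357 (iv5 D19833)) (tt N17702 (iv6 F44369)) (tt N13340 (iv7 F32167)))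
theorem Q13135 : ∀ i, i < 13135 → P i := stepQ 13134 Q13134 (allL N13134 (tt N26363 D42059) (tt N13793 (iv0 F33743)) (tt N12670 F31633) (tt N26364 D42060) (tt N6358 (iv4 D19834)) (tt N26365 D42061) (tt N14562 (iv6 F293076)) (tt N12888 F31634))
theorem Q13136 : ∀ i, i < 13136 → P i := stepQ 13135 Q13135 (allL N13135 (tt N12890 F31637) (tt N12889 F31638) (tt N6363 F31635) (tt N26366 D42062) (tt N6359 (iv4 D19835)) (tt N26367 D42063) (tt N13809 (iv6 F291200)) (tt N12733 F31636))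
theorem Q13137 : ∀ i, i < 13137 → P i := stepQ 13136 Q13136 (allL N13136 (tt N22899 F296047) (tt N22900 (iv0 F54625)) (tt N12886 F31639) (tt N11757 (iv3 F296308)) (tt N23735 (iv4 F56453)) (tt N6360 (iv5 D19836)) (tt N18209 F324420) (tt N12885 F31640))
theorem Q13138 : ∀ i, i < 13138 → P i := stepQ 13137 Q13137 (allL N13137 (tt N12769 (iv1 F293900)) (tt N25511 F61370) (tt N6775 (iv2 F293326)) (tt N26368 D42065) (tt N6361 (iv4 D19837)) (tt N26369 D42066) (tt N26355 F293170) (tt N6772 (iv7 F293638)))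
theorem Q13139 : ∀ i, i < 13139 → P i := stepQ 13138 Q13138 (allL N13138 (tt N6450 (iv1 F31647)) (tt N13386 (iv0 F32426)) (tt N13390 F32434) (tt N6362 (iv3 D19839)) (tt N7037 F31646) (tt N6444 F31644) (tt N14454 (iv6 F291296)) (tt N12665 F31645))
theorem Q13140 : ∀ i, i < 13140 → P i := stepQ 13139 Q13139 (allL N13139 (tt N13793 (iv1 F33744)) (tt N26363 F64937) (tt N12888 F31648) (tt N26370 D42072) (tt N6362 (iv4 D19840)) (tt N26371 D42073) (tt N14656 F294091) (tt N12670 F31649))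
theorem Q13141 : ∀ i, i < 13141 → P i := stepQ 13140 Q13140 (allL N13140 (tt N12733 (iv1 F31653)) (tt N6363 (iv0 D19842)) (tt N12890 (iv2 F31652)) (tt N26372 D42077) (tt N25590 (iv4 F61603)) (tt N13910 (iv5 F291225)) (tt N14657 F291957) (tt N12889 F31654))
theorem Q13142 : ∀ i, i < 13142 → P i := stepQ 13141 Q13141 (allL N13141 (tt N26373 D42084) (tt N26374 D42085) (tt N26367 (iv2 F64944)) (tt N14675 (iv3 F293033)) (tt N26375 D42086) (tt N6363 (iv5 D19844)) (tt N26376 D42087) (tt N12892 F31657))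
theorem Q13143 : ∀ i, i < 13143 → P i := stepQ 13142 Q13142 (allL N13142 (tt N6428 F66016) (tt N25705 (iv0 F66063)) (tt N7097 F31665) (tt N6945 F31666) (tt N13644 (iv4 F33417)) (tt N14209 F291768) (tt N6364 (iv6 D19848)) (tt N26377 D42101))
theorem Q13144 : ∀ i, i < 13144 → P i := stepQ 13143 Q13143 (allL N13143 (tt N6365 (iv1 D19849)) (tt N6438 F31667) (tt N6398 F31671) (tt N6445 (iv3 F31670)) (tt N11225 (iv4 F31669)) (tt N13497 (iv5 F32692)) (tt N13143 F31672) (tt N6439 F31668))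
theorem Q13145 : ∀ i, i < 13145 → P i := stepQ 13144 Q13144 (allL N13144 (tt N6369 F31675) (tt N11998 (iv0 F31676)) (tt N13132 F31673) (tt N11255 F31674) (tt N13813 (iv4 F33824)) (tt N6365 (iv5 D19850)) (tt N14209 (iv6 F291582)) (tt N13520 (iv7 F32895)))
theorem Q13146 : ∀ i, i < 13146 → P i := stepQ 13145 Q13145 (allL N13145 (tt N6398 (iv1 F31680)) (tt N6439 F31681) (tt N6438 F31677) (tt N11256 F31678) (tt N13639 (iv4 F33406)) (tt N13520 (iv5 F32896)) (tt N6568 F31679) (tt N6365 (iv7 D19851)))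
theorem Q13147 : ∀ i, i < 13147 → P i := stepQ 13146 Q13146 (allL N13146 (tt N13520 (iv1 F32894)) (tt N13132 F31684) (tt N6369 F31682) (tt N13386 (iv3 F32424)) (tt N12720 F31685) (tt N6366 (iv5 D19852)) (tt N25648 (iv6 F61796)) (tt N11998 F31683))
theorem Q13148 : ∀ i, i < 13148 → P i := stepQ 13147 Q13147 (allL N13147 (tt N25649 (iv1 F61805)) (tt N6367 (iv0 D19853)) (tt N25647 (iv2 F63699)) (tt N13092 (iv3 F61503)) (tt N13865 (iv4 F63428)) (tt N26335 F290862) (tt N25558 F61502) (tt N13099 (iv7 F63463)))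
theorem Q13149 : ∀ i, i < 13149 → P i := stepQ 13148 Q13148 (allL N13148 (tt N6367 (iv1 D19854)) (tt N25649 F61802) (tt N13099 (iv2 F63469)) (tt N25605 F63474) (tt N13866 (iv4 F63473)) (tt N13953 F290859) (tt N26378 D42104) (tt N25647 (iv7 F63700)))
theorem Q13150 : ∀ i, i < 13150 → P i := stepQ 13149 Q13149 (allL N13149 (tt N6707 (iv1 F291130)) (tt N26379 D42106) (tt N25648 (iv2 F61794)) (tt N6379 F31686) (tt N6969 (iv4 F291370)) (tt N6367 (iv5 D19855)) (tt N6369 F31687) (tt N7023 F290866))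
theorem Q13151 : ∀ i, i < 13151 → P i := stepQ 13150 Q13150 (allL N13150 (tt N13099 (iv1 F63710)) (tt N25647 F61801) (tt N25649 (iv2 F61798)) (tt N6380 F31688) (tt N13726 (iv4 F33520)) (tt N7023 (iv5 F290671)) (tt N13364 (iv6 F32364)) (tt N6367 (iv7 D19856)))
theorem Q13152 : ∀ i, i < 13152 → P i := stepQ 13151 Q13151 (allL N13151 (tt N6552 F31691) (tt N12975 F292517) (tt N12671 F31689) (tt N6838 F292518) (tt N12779 (iv4 F293592)) (tt N6368 (iv5 D19857)) (tt N25738 (iv6 F62117)) (tt N12977 F292519))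
theorem Q13153 : ∀ i, i < 13153 → P i := stepQ 13152 Q13152 (allL N13152 (tt N7136 F31694) (tt N12714 F31695) (tt N12720 F31692) (tt N26380 D42109) (tt N6369 (iv4 D19858)) (tt N26381 D42110) (tt N6969 F292175) (tt N12721 F31693))
theorem Q13154 : ∀ i, i < 13154 → P i := stepQ 13153 Q13153 (allL N13153 (tt N12927 F31699) (tt N12921 (iv0 F31700)) (tt N12726 F31696) (tt N6373 F31697) (tt N26363 (iv4 F64935)) (tt N6370 (iv5 D19859)) (tt N13206 F291135) (tt N12925 F31698))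
theorem Q13155 : ∀ i, i < 13155 → P i := stepQ 13154 Q13154 (allL N13154 (tt N13394 (iv1 F32446)) (tt N6371 (iv0 D19860)) (tt N13391 (iv2 F63706)) (tt N13699 (iv3 F63707)) (tt N13400 (iv4 F63708)) (tt N26382 D42111) (tt N26263 (iv6 F64482)) (tt N13392 F63704))
theorem Q13156 : ∀ i, i < 13156 → P i := stepQ 13155 Q13155 (allL N13155 (tt N12109 F290698) (tt N13435 F290699) (tt N13393 (iv2 F32438)) (tt N13206 (iv3 F290970)) (tt N13307 (iv4 F31972)) (tt N6371 (iv5 D19862)) (tt N6373 F31701) (tt N13434 (iv7 F290929)))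
theorem Q13157 : ∀ i, i < 13157 → P i := stepQ 13156 Q13156 (allL N13156 (tt N13392 (iv1 F32437)) (tt N13391 F32444) (tt N13394 (iv2 F32441)) (tt N13941 (iv3 F34380)) (tt N13603 (iv4 F33098)) (tt N13434 (iv5 F290928)) (tt N13368 (iv6 F32376)) (tt N6371 (iv7 D19863)))
theorem Q13158 : ∀ i, i < 13158 → P i := stepQ 13157 Q13157 (allL N13157 (tt N6551 (iv1 F31708)) (tt N6373 (iv0 D19865)) (tt N7033 (iv2 F31707)) (tt N25590 (iv3 F61604)) (tt N13405 (iv4 F32489)) (tt N6441 F31706) (tt N25873 (iv6 F292398)) (tt N13366 (iv7 F32370)))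
theorem Q13159 : ∀ i, i < 13159 → P i := stepQ 13158 Q13158 (allL N13158 (tt N6385 F31710) (tt N13396 F32454) (tt N13395 F32447) (tt N6374 (iv3 D19866)) (tt N12689 F31709) (tt N21250 (iv5 F50402)) (tt N26383 D42117) (tt N13369 (iv7 F32381)))
theorem Q13160 : ∀ i, i < 13160 → P i := stepQ 13159 Q13159 (allL N13159 (tt N6520 F31712) (tt N6524 F31713) (tt N6836 F31711) (tt N21250 (iv3 F50403)) (tt N13213 (iv4 F31797)) (tt N6374 (iv5 D19867)) (tt N26384 D42118) (tt N13213 (iv7 F31795)))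
theorem Q13161 : ∀ i, i < 13161 → P i := stepQ 13160 Q13160 (allL N13160 (tt N6619 F62850) (tt N6622 F62851) (tt N6837 F31714) (tt N26383 (iv3 F65038)) (tt N6834 F31715) (tt N26385 D42119) (tt N6374 (iv6 D19868)) (tt N12955 (iv7 F291307)))
theorem Q13162 : ∀ i, i < 13162 → P i := stepQ 13161 Q13161 (allL N13161 (tt N13373 (iv1 F32390)) (tt N6375 (iv0 D19869)) (tt N13372 F40023) (tt N13371 F33476) (tt N13860 (iv4 F34015)) (tt N16312 (iv5 F40315)) (tt N26386 D42121) (tt N13371 F40021))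
theorem Q13163 : ∀ i, i < 13163 → P i := stepQ 13162 Q13162 (allL N13162 (tt N6375 (iv1 D19870)) (tt N13373 F32392) (tt N13371 (iv2 F40017)) (tt N26387 D42122) (tt N13859 (iv4 F34013)) (tt N16129 (iv5 F39969)) (tt N26388 D42123) (tt N13372 (iv7 F40022)))
theorem Q13164 : ∀ i, i < 13164 → P i := stepQ 13163 Q13163 (allL N13163 (tt N26389 D42124) (tt N26390 D42125) (tt N16374 (iv2 F40427)) (tt N6377 F31716) (tt N13723 (iv4 F33519)) (tt N14734 (iv5 F37018)) (tt N6375 (iv6 D19871)) (tt N26391 D42126))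
theorem Q13165 : ∀ i, i < 13165 → P i := stepQ 13164 Q13164 (allL N13164 (tt N6376 (iv1 D19872)) (tt N6386 F31717) (tt N13375 F32398) (tt N16369 (iv3 F40413)) (tt N13376 (iv4 F32403)) (tt N6402 F31718) (tt N26392 D42127) (tt N13376 (iv7 F32401)))
theorem Q13166 : ∀ i, i < 13166 → P i := stepQ 13165 Q13165 (allL N13165 (tt N13403 (iv1 F32475)) (tt N6377 (iv0 D19873)) (tt N13400 F63548) (tt N26393 D42128) (tt N13391 (iv4 F63475)) (tt N26394 D42129) (tt N26270 (iv6 F64487)) (tt N13401 F63545))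
theorem Q13167 : ∀ i, i < 13167 → P i := stepQ 13166 Q13166 (allL N13166 (tt N6377 (iv1 D19874)) (tt N13403 F32474) (tt N13401 (iv2 F63547)) (tt N26395 D42130) (tt N13392 F63550) (tt N26396 D42131) (tt N26397 D42132) (tt N13400 (iv7 F63549)))
theorem Q13168 : ∀ i, i < 13168 → P i := stepQ 13167 Q13167 (allL N13167 (tt N26398 D42133) (tt N26399 D42134) (tt N13402 (iv2 F32469)) (tt N14734 (iv3 F37016)) (tt N26400 D42135) (tt N6377 (iv5 D19875)) (tt N14733 (iv6 F37013)) (tt N26401 D42136))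
theorem Q13169 : ∀ i, i < 13169 → P i := stepQ 13168 Q13168 (allL N13168 (tt N13401 (iv1 F32468)) (tt N13400 F32473) (tt N13403 (iv2 F32470)) (tt N26391 (iv3 F65051)) (tt N6380 F31719) (tt N26401 (iv5 F65053)) (tt N13381 (iv6 F32412)) (tt N6377 (iv7 D19876)))
theorem Q13170 : ∀ i, i < 13170 → P i := stepQ 13169 Q13169 (allL N13169 (tt N13547 F63356) (tt N6611 F63357) (tt N13102 (iv2 F35800)) (tt N26402 D42137) (tt N6378 (iv4 D19879)) (tt N26403 D42138) (tt N26404 D42139) (tt N13404 F35799))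
theorem Q13171 : ∀ i, i < 13171 → P i := stepQ 13170 Q13170 (allL N13170 (tt N12971 (iv1 F290681)) (tt N13069 F290637) (tt N13067 (iv2 F290669)) (tt N13170 F35695) (tt N26405 D42140) (tt N6378 (iv5 D19880)) (tt N13276 F31889) (tt N13006 (iv7 F290666)))
theorem Q13172 : ∀ i, i < 13172 → P i := stepQ 13171 Q13171 (allL N13171 (tt N6623 F35809) (tt N25566 F61515) (tt N12709 (iv2 F35705)) (tt N13171 F35692) (tt N26404 (iv4 F65057)) (tt N6388 F31721) (tt N6378 (iv6 D19881)) (tt N13383 (iv7 F35702)))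
theorem Q13173 : ∀ i, i < 13173 → P i := stepQ 13172 Q13172 (allL N13172 (tt N6895 (iv1 F290974)) (tt N26406 D42151) (tt N7027 (iv2 F290973)) (tt N25012 (iv3 F291372)) (tt N6379 (iv4 D19889)) (tt N26407 D42153) (tt N6382 F31723) (tt N7024 F290868))
theorem Q13174 : ∀ i, i < 13174 → P i := stepQ 13173 Q13173 (allL N13173 (tt N6454 F31733) (tt N6453 F31734) (tt N6457 F31731) (tt N26408 D42159) (tt N6381 (iv4 D19893)) (tt N13317 (iv5 F31983)) (tt N14441 (iv6 F293274)) (tt N6400 F31732))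
theorem Q13175 : ∀ i, i < 13175 → P i := stepQ 13174 Q13174 (allL N13174 (tt N6451 (iv1 F31739)) (tt N6382 (iv0 D19895)) (tt N13405 F32491) (tt N26409 D42164) (tt N7033 F31738) (tt N26077 (iv5 F292625)) (tt N14443 (iv6 F292627)) (tt N13406 (iv7 F32494)))
theorem Q13176 : ∀ i, i < 13176 → P i := stepQ 13175 Q13175 (allL N13175 (tt N6382 (iv1 D19896)) (tt N6451 F31740) (tt N13406 F32496) (tt N26410 D42167) (tt N13366 (iv4 F32373)) (tt N26078 (iv5 F293263)) (tt N6929 (iv6 F292306)) (tt N13405 F32492))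
theorem Q13177 : ∀ i, i < 13177 → P i := stepQ 13176 Q13176 (allL N13176 (tt N26411 D42170) (tt N26412 D42171) (tt N26413 D42172) (tt N6382 (iv3 D19897)) (tt N26380 (iv4 F65027)) (tt N26414 D42173) (tt N25012 F292178) (tt N13525 (iv7 F32904)))
theorem Q13178 : ∀ i, i < 13178 → P i := stepQ 13177 Q13177 (allL N13177 (tt N14065 (iv1 F293265)) (tt N14062 (iv0 F293267)) (tt N13408 (iv2 F32498)) (tt N26414 (iv3 F65101)) (tt N13309 (iv4 F31973)) (tt N6382 (iv5 D19898)) (tt N26415 D42176) (tt N13526 (iv7 F32906)))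
theorem Q13179 : ∀ i, i < 13179 → P i := stepQ 13178 Q13178 (allL N13178 (tt N24431 (iv1 F58692)) (tt N12697 F35656) (tt N24432 (iv2 F58695)) (tt N6389 F31741) (tt N13060 (iv4 F35657)) (tt N12866 (iv5 F35621)) (tt N13389 (iv6 F32431)) (tt N6383 (iv7 D19901)))
theorem Q13180 : ∀ i, i < 13180 → P i := stepQ 13179 Q13179 (allL N13179 (tt N13396 (iv1 F32453)) (tt N6385 (iv0 D19905)) (tt N13369 (iv2 F32383)) (tt N26082 (iv3 F64155)) (tt N26152 (iv4 F64296)) (tt N21251 (iv5 F50659)) (tt N26416 D42177) (tt N13395 (iv7 F32449)))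
theorem Q13181 : ∀ i, i < 13181 → P i := stepQ 13180 Q13180 (allL N13180 (tt N13369 (iv1 F32450)) (tt N13395 F32448) (tt N6385 (iv2 D19906)) (tt N13373 (iv3 F32387)) (tt N13990 (iv4 F34477)) (tt N16371 (iv5 F40425)) (tt N26417 D42178) (tt N13396 (iv7 F32452)))
theorem Q13182 : ∀ i, i < 13182 → P i := stepQ 13181 Q13181 (allL N13181 (tt N16370 (iv1 F40419)) (tt N16369 (iv0 F40415)) (tt N16371 (iv2 F40422)) (tt N6386 F31743) (tt N8495 F31853) (tt N6385 (iv5 D19907)) (tt N8494 (iv6 F31854)) (tt N13397 (iv7 F32458)))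
theorem Q13183 : ∀ i, i < 13183 → P i := stepQ 13182 Q13182 (allL N13182 (tt N26418 D42179) (tt N26395 (iv0 F65052)) (tt N26417 (iv2 F65109)) (tt N6387 F31744) (tt N13992 (iv4 F34480)) (tt N26419 D42180) (tt N6385 (iv6 D19908)) (tt N26420 D42181))
theorem Q13184 : ∀ i, i < 13184 → P i := stepQ 13183 Q13183 (allL N13183 (tt N16360 F40388) (tt N16379 (iv0 F40442)) (tt N13377 (iv2 F32405)) (tt N8494 F31855) (tt N13248 (iv4 F31858)) (tt N26421 D42182) (tt N6386 (iv6 D19909)) (tt N16386 (iv7 F40454)))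
theorem Q13185 : ∀ i, i < 13185 → P i := stepQ 13184 Q13184 (allL N13184 (tt N13381 (iv1 F32415)) (tt N6387 (iv0 D19910)) (tt N13378 (iv2 F63535)) (tt N26422 D42183) (tt N13367 (iv4 F63433)) (tt N26423 D42184) (tt N26424 D42185) (tt N13379 F63534))
theorem Q13186 : ∀ i, i < 13186 → P i := stepQ 13185 Q13185 (allL N13185 (tt N26425 D42186) (tt N26426 D42187) (tt N13380 (iv2 F32409)) (tt N26419 (iv3 F65110)) (tt N26427 D42188) (tt N6387 (iv5 D19912)) (tt N26421 (iv6 F65115)) (tt N26428 D42189))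
theorem Q13187 : ∀ i, i < 13187 → P i := stepQ 13186 Q13186 (allL N13186 (tt N13379 (iv1 F32408)) (tt N13378 F32413) (tt N13381 (iv2 F32410)) (tt N26420 (iv3 F65112)) (tt N6389 F31745) (tt N26428 (iv5 F65118)) (tt N13403 (iv6 F32472)) (tt N6387 (iv7 D19913)))
theorem Q13188 : ∀ i, i < 13188 → P i := stepQ 13187 Q13187 (allL N13187 (tt N6613 F63211) (tt N13544 F63212) (tt N12708 (iv2 F35704)) (tt N26429 D42190) (tt N6388 (iv4 D19921)) (tt N26430 D42191) (tt N26431 D42192) (tt N13382 (iv7 F35701)))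
theorem Q13189 : ∀ i, i < 13189 → P i := stepQ 13188 Q13188 (allL N13188 (tt N6938 (iv1 F291309)) (tt N6620 F35724) (tt N6935 (iv2 F291326)) (tt N13188 F35693) (tt N26431 (iv4 F65122)) (tt N13276 (iv5 F31888)) (tt N6388 (iv6 D19922)) (tt N6936 (iv7 F291381)))
theorem Q13190 : ∀ i, i < 13190 → P i := stepQ 13189 Q13189 (allL N13189 (tt N6390 (iv1 F31748)) (tt N6390 (iv0 D19923)) (tt N13409 (iv2 F65139)) (tt N26432 D42196) (tt N26433 D42197) (tt N26434 D42198) (tt N26435 D42199) (tt N13409 (iv7 F65140)))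
theorem Q13191 : ∀ i, i < 13191 → P i := stepQ 13190 Q13190 (allL N13190 (tt N26436 D42200) (tt N26436 F65143) (tt N13249 (iv2 F31859)) (tt N6391 F31749) (tt N13249 (iv4 F31860)) (tt N6390 (iv5 D19924)) (tt N26437 D42201) (tt N13249 (iv7 F31862)))
theorem Q13192 : ∀ i, i < 13192 → P i := stepQ 13191 Q13191 (allL N13191 (tt N26438 D42202) (tt N26439 D42203) (tt N13410 (iv2 F32501)) (tt N6392 F31750) (tt N13191 F31751) (tt N26440 D42204) (tt N6390 (iv6 D19925)) (tt N26441 D42205))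
theorem Q13193 : ∀ i, i < 13193 → P i := stepQ 13192 Q13192 (allL N13192 (tt N26442 D42206) (tt N26443 D42207) (tt N6423 F31752) (tt N26437 (iv3 F65146)) (tt N6536 F31753) (tt N26444 D42208) (tt N6391 (iv6 D19926)) (tt N26445 D42209))
theorem Q13194 : ∀ i, i < 13194 → P i := stepQ 13193 Q13193 (allL N13193 (tt N6427 (iv1 F31758)) (tt N6392 (iv0 D19927)) (tt N6424 F63401) (tt N26446 D42210) (tt N7056 (iv4 F31760)) (tt N26447 D42211) (tt N25954 (iv6 F63682)) (tt N6425 F63402))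
theorem Q13195 : ∀ i, i < 13195 → P i := stepQ 13194 Q13194 (allL N13194 (tt N6392 (iv1 D19928)) (tt N6427 F31754) (tt N6425 F63403) (tt N26448 D42212) (tt N14153 (iv4 F65773)) (tt N26449 D42214) (tt N26450 D42215) (tt N6424 F63404))
theorem Q13196 : ∀ i, i < 13196 → P i := stepQ 13195 Q13195 (allL N13195 (tt N26451 D42216) (tt N26452 D42217) (tt N6426 F31755) (tt N26440 (iv3 F65147)) (tt N26453 D42218) (tt N6392 (iv5 D19929)) (tt N26444 (iv6 F65152)) (tt N26454 D42219))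
theorem Q13197 : ∀ i, i < 13197 → P i := stepQ 13196 Q13196 (allL N13196 (tt N6425 (iv1 F31759)) (tt N6424 F31761) (tt N6427 F31756) (tt N26441 (iv3 F65148)) (tt N6396 F31757) (tt N26454 (iv5 F65178)) (tt N13414 (iv6 F32508)) (tt N6392 (iv7 D19930)))
theorem Q13198 : ∀ i, i < 13198 → P i := stepQ 13197 Q13197 (allL N13197 (tt N26455 D42225) (tt N13424 (iv0 F65691)) (tt N6429 F35742) (tt N26456 D42227) (tt N6393 (iv4 D19933)) (tt N26457 D42228) (tt N13579 (iv6 F32996)) (tt N6433 F35743))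
theorem Q13199 : ∀ i, i < 13199 → P i := stepQ 13198 Q13198 (allL N13198 (tt N7097 F66027) (tt N26377 F66028) (tt N25705 (iv2 F66065)) (tt N6394 (iv3 D19936)) (tt N7053 F31764) (tt N26242 (iv5 F291148)) (tt N26244 F290766) (tt N6428 F35753))
theorem Q13200 : ∀ i, i < 13200 → P i := stepQ 13199 Q13199 (allL N13199 (tt N13424 (iv1 F65692)) (tt N26455 F65198) (tt N6433 F35754) (tt N26458 D42236) (tt N6394 (iv4 D19937)) (tt N26459 D42237) (tt N26262 F290598) (tt N6429 F35755))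
theorem Q13201 : ∀ i, i < 13201 → P i := stepQ 13200 Q13200 (allL N13200 (tt N6959 (iv1 F292989)) (tt N6870 (iv0 F292791)) (tt N6437 F31768) (tt N26460 D42246) (tt N6395 (iv4 D19942)) (tt N26461 D42247) (tt N6400 F31769) (tt N6933 (iv7 F292299)))
theorem Q13202 : ∀ i, i < 13202 → P i := stepQ 13201 Q13201 (allL N13201 (tt N6457 (iv1 F31777)) (tt N6400 (iv0 D19944)) (tt N6453 (iv2 F31778)) (tt N26462 D42249) (tt N6502 F31776) (tt N26463 D42250) (tt N6997 F291721) (tt N6454 (iv7 F31779)))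
theorem Q13203 : ∀ i, i < 13203 → P i := stepQ 13202 Q13202 (allL N13202 (tt N6400 (iv1 D19945)) (tt N6457 F31780) (tt N6454 (iv2 F31783)) (tt N26464 D42252) (tt N6573 F31782) (tt N26465 D42253) (tt N26466 D42254) (tt N6453 F31781))
theorem Q13204 : ∀ i, i < 13204 → P i := stepQ 13203 Q13203 (allL N13203 (tt N26467 D42255) (tt N26468 D42256) (tt N26469 D42257) (tt N6400 (iv3 D19946)) (tt N13203 F31784) (tt N26470 D42258) (tt N26460 (iv6 F65249)) (tt N26408 (iv7 F65083)))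
theorem Q13205 : ∀ i, i < 13205 → P i := stepQ 13204 Q13204 (allL N13204 (tt N13505 (iv1 F32751)) (tt N13502 (iv0 F32745)) (tt N6456 F31785) (tt N26470 (iv3 F65276)) (tt N13319 (iv4 F31988)) (tt N6400 (iv5 D19947)) (tt N26471 D42259) (tt N13317 (iv7 F31986)))
theorem Q13206 : ∀ i, i < 13206 → P i := stepQ 13205 Q13205 (allL N13205 (tt N24224 (iv1 F58146)) (tt N6401 (iv0 D19948)) (tt N24222 F66616) (tt N7101 (iv3 F66618)) (tt N13652 (iv4 F66726)) (tt N13701 (iv5 F291131)) (tt N26472 D42264) (tt N7107 F66617))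
theorem Q13207 : ∀ i, i < 13207 → P i := stepQ 13206 Q13206 (allL N13206 (tt N6401 (iv1 D19949)) (tt N24224 F58145) (tt N7107 (iv2 F66613)) (tt N13155 F290970) (tt N13653 (iv4 F66743)) (tt N6790 F290971) (tt N13153 (iv6 F291135)) (tt N24222 (iv7 F66615)))
theorem Q13208 : ∀ i, i < 13208 → P i := stepQ 13207 Q13207 (allL N13207 (tt N26473 D42270) (tt N14155 F290713) (tt N24223 (iv2 F58139)) (tt N6407 F31786) (tt N25583 (iv4 F61573)) (tt N6401 (iv5 D19950)) (tt N6569 F31787) (tt N14471 (iv7 F290865)))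
theorem Q13209 : ∀ i, i < 13209 → P i := stepQ 13208 Q13208 (allL N13208 (tt N7107 F66560) (tt N24222 F58144) (tt N24224 (iv2 F58141)) (tt N6408 F31788) (tt N14576 (iv4 F36280)) (tt N14471 F291371) (tt N12876 (iv6 F35595)) (tt N6401 (iv7 D19951)))
theorem Q13210 : ∀ i, i < 13210 → P i := stepQ 13209 Q13209 (allL N13209 (tt N6429 F65637) (tt N6433 (iv0 F65638)) (tt N13424 (iv2 F32536)) (tt N25788 (iv3 F62308)) (tt N13365 (iv4 F32367)) (tt N26474 D42275) (tt N6402 (iv6 D19952)) (tt N26455 (iv7 F65870)))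
theorem Q13211 : ∀ i, i < 13211 → P i := stepQ 13210 Q13210 (allL N13210 (tt N13428 (iv1 F32552)) (tt N13427 F32545) (tt N6403 (iv2 D19954)) (tt N13437 (iv3 F32577)) (tt N14573 (iv4 F36271)) (tt N18414 (iv5 F45925)) (tt N26475 D42277) (tt N13429 (iv7 F32555)))
theorem Q13212 : ∀ i, i < 13212 → P i := stepQ 13211 Q13211 (allL N13211 (tt N16154 F40018) (tt N18413 F45921) (tt N18414 (iv2 F45922)) (tt N6404 F31789) (tt N7998 (iv4 F31791)) (tt N6403 (iv5 D19955)) (tt N14879 F37344) (tt N7996 F31790))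
theorem Q13213 : ∀ i, i < 13213 → P i := stepQ 13212 Q13212 (allL N13212 (tt N26476 D42278) (tt N26477 D42279) (tt N26475 (iv2 F65283)) (tt N6405 F31793) (tt N14574 (iv4 F36276)) (tt N26478 D42280) (tt N6403 (iv6 D19956)) (tt N26479 D42281))
theorem Q13214 : ∀ i, i < 13214 → P i := stepQ 13213 Q13213 (allL N13213 (tt N6404 (iv1 D19957)) (tt N6412 F31794) (tt N12990 (iv2 F31798)) (tt N26480 D42282) (tt N13159 F31797) (tt N6490 F31796) (tt N26481 D42283) (tt N13159 F31795))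
theorem Q13215 : ∀ i, i < 13215 → P i := stepQ 13214 Q13214 (allL N13214 (tt N26482 D42284) (tt N26483 D42285) (tt N13440 (iv2 F32584)) (tt N14879 (iv3 F37345)) (tt N13245 (iv4 F31846)) (tt N26484 D42286) (tt N6404 (iv6 D19958)) (tt N26485 D42287))
theorem Q13216 : ∀ i, i < 13216 → P i := stepQ 13215 Q13215 (allL N13215 (tt N13444 (iv1 F32592)) (tt N6405 (iv0 D19959)) (tt N13441 (iv2 F66846)) (tt N26486 D42289) (tt N13592 (iv4 F66839)) (tt N26487 D42291) (tt N26488 D42292) (tt N13442 (iv7 F66842)))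
theorem Q13217 : ∀ i, i < 13217 → P i := stepQ 13216 Q13216 (allL N13216 (tt N6405 (iv1 D19960)) (tt N13444 F32591) (tt N13442 (iv2 F66841)) (tt N26489 D42294) (tt N13593 (iv4 F66845)) (tt N26490 D42296) (tt N25967 F290692) (tt N13441 (iv7 F66847)))
theorem Q13218 : ∀ i, i < 13218 → P i := stepQ 13217 Q13217 (allL N13217 (tt N26491 D42298) (tt N26492 D42299) (tt N13443 (iv2 F32586)) (tt N26478 (iv3 F65284)) (tt N26493 D42300) (tt N6405 (iv5 D19961)) (tt N26484 (iv6 F65307)) (tt N26494 D42301))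
theorem Q13219 : ∀ i, i < 13219 → P i := stepQ 13218 Q13218 (allL N13218 (tt N13442 (iv1 F32585)) (tt N13441 F32590) (tt N13444 (iv2 F32587)) (tt N26479 (iv3 F65285)) (tt N6408 F31799) (tt N26494 (iv5 F65314)) (tt N12893 (iv6 F35600)) (tt N6405 (iv7 D19962)))
theorem Q13220 : ∀ i, i < 13220 → P i := stepQ 13219 Q13219 (allL N13219 (tt N13456 F66787) (tt N6416 (iv0 F66790)) (tt N7112 F66490) (tt N26495 D42316) (tt N6406 (iv4 D19965)) (tt N26496 D42317) (tt N26497 D42318) (tt N13445 (iv7 F65350)))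
theorem Q13221 : ∀ i, i < 13221 → P i := stepQ 13220 Q13220 (allL N13220 (tt N6435 F35760) (tt N7028 F290587) (tt N7022 (iv2 F290629)) (tt N13220 F66507) (tt N26497 (iv4 F65356)) (tt N6782 (iv5 F290633)) (tt N6406 (iv6 D19967)) (tt N6781 (iv7 F290631)))
theorem Q13222 : ∀ i, i < 13222 → P i := stepQ 13221 Q13221 (allL N13221 (tt N13304 (iv1 F31969)) (tt N6407 (iv0 D19973)) (tt N7114 (iv2 F35699)) (tt N13221 F35700) (tt N26498 D42333) (tt N14247 (iv5 F290966)) (tt N6832 (iv6 F290967)) (tt N13303 (iv7 F35719)))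
theorem Q13223 : ∀ i, i < 13223 → P i := stepQ 13222 Q13222 (allL N13222 (tt N26499 D42336) (tt N14187 F291064) (tt N13302 (iv2 F31962)) (tt N26500 D42338) (tt N6407 (iv4 D19975)) (tt N26501 D42339) (tt N6574 F31803) (tt N14474 F291065))
theorem Q13224 : ∀ i, i < 13224 → P i := stepQ 13223 Q13223 (allL N13223 (tt N26502 D42341) (tt N26503 D42342) (tt N26504 D42343) (tt N6409 (iv3 D19977)) (tt N6411 F31806) (tt N26067 (iv5 F64066)) (tt N26505 D42344) (tt N6894 F31807))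
theorem Q13225 : ∀ i, i < 13225 → P i := stepQ 13224 Q13224 (allL N13224 (tt N6882 F35614) (tt N6885 F35615) (tt N6897 F31808) (tt N26505 (iv3 F65392)) (tt N6410 F31809) (tt N26506 D42345) (tt N6409 (iv6 D19978)) (tt N7004 F35585))
theorem Q13226 : ∀ i, i < 13226 → P i := stepQ 13225 Q13225 (allL N13225 (tt N13437 (iv1 F32579)) (tt N6411 (iv0 D19982)) (tt N13425 (iv2 F32541)) (tt N14204 (iv3 F35030)) (tt N14308 (iv4 F35230)) (tt N16370 (iv5 F40421)) (tt N26507 D42346) (tt N13436 (iv7 F32575)))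
theorem Q13227 : ∀ i, i < 13227 → P i := stepQ 13226 Q13226 (allL N13226 (tt N13425 (iv1 F32576)) (tt N13436 F32573) (tt N6411 (iv2 D19983)) (tt N13429 (iv3 F32553)) (tt N26504 (iv4 F65388)) (tt N10376 F31815) (tt N26508 D42347) (tt N13437 (iv7 F32578)))
theorem Q13228 : ∀ i, i < 13228 → P i := stepQ 13227 Q13227 (allL N13227 (tt N26509 D42348) (tt N26480 (iv0 F65289)) (tt N10376 (iv2 F31813)) (tt N6412 F31812) (tt N10372 F31814) (tt N6411 (iv5 D19984)) (tt N10370 F31816) (tt N13438 (iv7 F32582)))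
theorem Q13229 : ∀ i, i < 13229 → P i := stepQ 13228 Q13228 (allL N13228 (tt N26510 D42349) (tt N26489 (iv0 F66848)) (tt N26508 (iv2 F65397)) (tt N6413 F31817) (tt N26505 (iv4 F65393)) (tt N26511 D42351) (tt N6411 (iv6 D19985)) (tt N25942 (iv7 F63662)))
theorem Q13230 : ∀ i, i < 13230 → P i := stepQ 13229 Q13229 (allL N13229 (tt N26512 D42352) (tt N26513 D42353) (tt N7994 F31818) (tt N10370 F31819) (tt N13238 (iv4 F31835)) (tt N26514 D42354) (tt N6412 (iv6 D19986)) (tt N26515 D42355))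
theorem Q13231 : ∀ i, i < 13231 → P i := stepQ 13230 Q13230 (allL N13230 (tt N12893 (iv1 F35598)) (tt N6413 (iv0 D19987)) (tt N13431 (iv2 F35644)) (tt N25840 (iv3 F62357)) (tt N13590 (iv4 F63116)) (tt N26516 D42356) (tt N26517 D42357) (tt N13432 F35646))
theorem Q13232 : ∀ i, i < 13232 → P i := stepQ 13231 Q13231 (allL N13231 (tt N26518 D42358) (tt N26519 D42359) (tt N13433 (iv2 F32560)) (tt N26511 (iv3 F65406)) (tt N26520 D42360) (tt N6413 (iv5 D19989)) (tt N26514 (iv6 F65422)) (tt N25943 (iv7 F63664)))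
theorem Q13233 : ∀ i, i < 13233 → P i := stepQ 13232 Q13232 (allL N13232 (tt N13448 (iv1 F32608)) (tt N6414 (iv0 D20001)) (tt N13447 F32604) (tt N11432 (iv3 F31826)) (tt N26521 D42361) (tt N11425 F31825) (tt N26522 D42362) (tt N13446 F32602))
theorem Q13234 : ∀ i, i < 13234 → P i := stepQ 13233 Q13233 (allL N13233 (tt N6414 (iv1 D20002)) (tt N13448 F32609) (tt N13446 F32600) (tt N26523 D42363) (tt N14107 (iv4 F34803)) (tt N11424 (iv5 F32535)) (tt N26524 D42364) (tt N13447 (iv7 F32603)))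
theorem Q13235 : ∀ i, i < 13235 → P i := stepQ 13234 Q13234 (allL N13234 (tt N13447 (iv1 F32605)) (tt N13446 F32599) (tt N6414 (iv2 D20003)) (tt N13453 (iv3 F32622)) (tt N6923 (iv4 F31830)) (tt N16898 F41511) (tt N26525 D42365) (tt N13448 (iv7 F32607)))
theorem Q13236 : ∀ i, i < 13236 → P i := stepQ 13235 Q13235 (allL N13235 (tt N6857 F31831) (tt N6925 F34692) (tt N6923 F31829) (tt N7094 F31827) (tt N6414 (iv4 D20004)) (tt N25005 (iv5 F60112)) (tt N26526 D42366) (tt N6924 F31828))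
theorem Q13237 : ∀ i, i < 13237 → P i := stepQ 13236 Q13236 (allL N13236 (tt N19468 F47735) (tt N21970 (iv0 F52298)) (tt N16898 (iv2 F41508)) (tt N6415 F31832) (tt N16894 (iv4 F41494)) (tt N6414 (iv5 D20005)) (tt N16892 F41485) (tt N13449 (iv7 F32611)))
theorem Q13238 : ∀ i, i < 13238 → P i := stepQ 13237 Q13237 (allL N13237 (tt N26527 D42367) (tt N26528 D42368) (tt N26525 (iv2 F65443)) (tt N6416 F31833) (tt N26526 (iv4 F65447)) (tt N26529 D42369) (tt N6414 (iv6 D20006)) (tt N26530 D42370))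
theorem Q13239 : ∀ i, i < 13239 → P i := stepQ 13238 Q13238 (allL N13238 (tt N26531 D42371) (tt N26532 D42372) (tt N8001 F31834) (tt N16892 (iv3 F41482)) (tt N13229 F31835) (tt N26533 D42373) (tt N6415 (iv6 D20007)) (tt N21173 (iv7 F50263)))
theorem Q13240 : ∀ i, i < 13240 → P i := stepQ 13239 Q13239 (allL N13239 (tt N26534 D42384) (tt N26535 D42385) (tt N13455 (iv2 F32628)) (tt N26529 (iv3 F65448)) (tt N26536 D42386) (tt N6416 (iv5 D20010)) (tt N26533 (iv6 F65454)) (tt N26537 D42387))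
theorem Q13241 : ∀ i, i < 13241 → P i := stepQ 13240 Q13240 (allL N13240 (tt N13445 F66728) (tt N7112 F66729) (tt N13456 (iv2 F32629)) (tt N26530 (iv3 F65449)) (tt N13524 (iv4 F32903)) (tt N26537 (iv5 F65458)) (tt N12897 (iv6 F63139)) (tt N6416 (iv7 D20011)))
theorem Q13242 : ∀ i, i < 13242 → P i := stepQ 13241 Q13241 (allL N13241 (tt N6417 (iv1 D20012)) (tt N13453 F32625) (tt N11435 (iv2 F31837)) (tt N13446 F32601) (tt N14572 F36262) (tt N8549 (iv5 F31838)) (tt N26538 D42388) (tt N11432 F31836))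
theorem Q13243 : ∀ i, i < 13243 → P i := stepQ 13242 Q13242 (allL N13242 (tt N11432 (iv1 F31840)) (tt N11435 F31839) (tt N6417 (iv2 D20013)) (tt N13448 (iv3 F32606)) (tt N13779 (iv4 F33692)) (tt N23899 (iv5 F56708)) (tt N26539 D42389) (tt N13453 (iv7 F32623)))
theorem Q13244 : ∀ i, i < 13244 → P i := stepQ 13243 Q13243 (allL N13243 (tt N9340 (iv1 F31844)) (tt N11789 F31843) (tt N23899 (iv2 F56705)) (tt N6418 F31841) (tt N14904 (iv4 F37395)) (tt N6417 (iv5 D20014)) (tt N23194 (iv6 F55165)) (tt N8003 F31842))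
theorem Q13245 : ∀ i, i < 13245 → P i := stepQ 13244 Q13244 (allL N13244 (tt N26540 D42390) (tt N26541 D42391) (tt N26539 (iv2 F65460)) (tt N6419 F31845) (tt N13781 (iv4 F33699)) (tt N26542 D42392) (tt N6417 (iv6 D20015)) (tt N25947 (iv7 F63674)))
theorem Q13246 : ∀ i, i < 13246 → P i := stepQ 13245 Q13245 (allL N13245 (tt N26543 D42393) (tt N26544 D42394) (tt N13451 (iv2 F32613)) (tt N23194 (iv3 F55164)) (tt N13214 F31846) (tt N26545 D42395) (tt N6418 (iv6 D20016)) (tt N26546 D42396))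
theorem Q13247 : ∀ i, i < 13247 → P i := stepQ 13246 Q13246 (allL N13246 (tt N26547 D42397) (tt N26548 D42398) (tt N13452 (iv2 F32616)) (tt N26542 (iv3 F65462)) (tt N26549 D42399) (tt N6419 (iv5 D20019)) (tt N26545 (iv6 F65471)) (tt N25948 (iv7 F63676)))
theorem Q13248 : ∀ i, i < 13248 → P i := stepQ 13247 Q13247 (allL N13247 (tt N11425 (iv1 F31852)) (tt N11424 F31856) (tt N11427 F31847) (tt N6420 (iv3 D20021)) (tt N11485 (iv4 F31850)) (tt N6610 F31848) (tt N11408 (iv6 F31851)) (tt N11421 F31849))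
theorem Q13249 : ∀ i, i < 13249 → P i := stepQ 13248 Q13248 (allL N13248 (tt N23169 F55118) (tt N23172 (iv0 F55120)) (tt N13457 (iv2 F32634)) (tt N11408 F31857) (tt N13183 F31858) (tt N26550 D42400) (tt N6420 (iv6 D20022)) (tt N21536 (iv7 F51467)))
theorem Q13250 : ∀ i, i < 13250 → P i := stepQ 13249 Q13249 (allL N13249 (tt N26551 D42401) (tt N26551 F65484) (tt N13190 F31859) (tt N6422 (iv3 D20023)) (tt N13190 F31860) (tt N6509 F31861) (tt N26552 D42402) (tt N13190 F31862))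
theorem Q13251 : ∀ i, i < 13251 → P i := stepQ 13250 Q13250 (allL N13250 (tt N26553 D42403) (tt N26554 D42404) (tt N6536 F31863) (tt N26552 (iv3 F65489)) (tt N6423 F31864) (tt N26555 D42405) (tt N6422 (iv6 D20024)) (tt N26556 D42406))
theorem Q13252 : ∀ i, i < 13252 → P i := stepQ 13251 Q13251 (allL N13251 (tt N26445 (iv1 F65158)) (tt N6423 (iv0 D20025)) (tt N26442 (iv2 F82983)) (tt N26557 D42408) (tt N26558 D42409) (tt N26559 D42410) (tt N26560 D42411) (tt N26443 (iv7 F82976)))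
theorem Q13253 : ∀ i, i < 13253 → P i := stepQ 13252 Q13252 (allL N13252 (tt N6423 (iv1 D20026)) (tt N26445 F65157) (tt N26443 (iv2 F82975)) (tt N14878 (iv3 F82977)) (tt N26561 D42414) (tt N26562 D42415) (tt N14877 (iv6 F82982)) (tt N26442 (iv7 F82984)))
theorem Q13254 : ∀ i, i < 13254 → P i := stepQ 13253 Q13253 (allL N13253 (tt N26563 D42417) (tt N26564 D42418) (tt N26444 (iv2 F65151)) (tt N13460 (iv3 F32637)) (tt N26565 D42419) (tt N6423 (iv5 D20027)) (tt N6426 F31865) (tt N26566 D42420))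
theorem Q13255 : ∀ i, i < 13255 → P i := stepQ 13254 Q13254 (allL N13254 (tt N26443 (iv1 F65150)) (tt N26442 F65156) (tt N26445 (iv2 F65154)) (tt N13461 (iv3 F32639)) (tt N26556 (iv4 F65495)) (tt N26566 (iv5 F65527)) (tt N13461 (iv6 F32640)) (tt N6423 (iv7 D20028)))
theorem Q13256 : ∀ i, i < 13256 → P i := stepQ 13255 Q13255 (allL N13255 (tt N26567 D42421) (tt N26524 F177383) (tt N26568 D42423) (tt N6424 (iv3 D20030)) (tt N26569 D42424) (tt N26570 D42425) (tt N26571 D42426) (tt N26448 (iv7 F65163)))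
theorem Q13257 : ∀ i, i < 13257 → P i := stepQ 13256 Q13256 (allL N13256 (tt N26572 D42427) (tt N6855 (iv0 F65861)) (tt N7056 F63405) (tt N14145 (iv3 F65644)) (tt N6424 (iv4 D20031)) (tt N26573 D42430) (tt N26574 D42431) (tt N14153 (iv7 F65774)))
theorem Q13258 : ∀ i, i < 13258 → P i := stepQ 13257 Q13257 (allL N13257 (tt N26575 D42432) (tt N26576 D42433) (tt N26447 (iv2 F65161)) (tt N26570 (iv3 F65531)) (tt N26577 D42434) (tt N6424 (iv5 D20032)) (tt N26578 D42435) (tt N26449 (iv7 F65172)))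
theorem Q13259 : ∀ i, i < 13259 → P i := stepQ 13258 Q13258 (allL N13258 (tt N25946 (iv1 F65552)) (tt N7038 F291695) (tt N25954 F63683) (tt N26571 (iv3 F65532)) (tt N26574 (iv4 F65548)) (tt N26579 D42436) (tt N6424 (iv6 D20033)) (tt N25953 (iv7 F65923)))
theorem Q13260 : ∀ i, i < 13260 → P i := stepQ 13259 Q13259 (allL N13259 (tt N21678 (iv1 F157738)) (tt N26580 D42439) (tt N26581 D42440) (tt N6425 (iv3 D20035)) (tt N26582 D42441) (tt N26583 D42442) (tt N26584 D42443) (tt N26446 (iv7 F65160)))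
theorem Q13261 : ∀ i, i < 13261 → P i := stepQ 13260 Q13260 (allL N13260 (tt N6855 F65862) (tt N26572 F65533) (tt N14153 (iv2 F65772)) (tt N7044 (iv3 F31868)) (tt N6425 (iv4 D20036)) (tt N26585 D42444) (tt N26586 D42445) (tt N7056 F63390))
theorem Q13262 : ∀ i, i < 13262 → P i := stepQ 13261 Q13261 (allL N13261 (tt N26576 (iv1 F65553)) (tt N26575 F65551) (tt N26449 (iv2 F65171)) (tt N26583 (iv3 F65559)) (tt N26587 D42446) (tt N6425 (iv5 D20037)) (tt N26588 D42447) (tt N26447 (iv7 F65162)))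
theorem Q13263 : ∀ i, i < 13263 → P i := stepQ 13262 Q13262 (allL N13262 (tt N7029 F290739) (tt N26497 (iv0 F67897)) (tt N26450 (iv2 F65173)) (tt N26584 (iv3 F65560)) (tt N26586 (iv4 F65564)) (tt N26589 D42450) (tt N6425 (iv6 D20038)) (tt N26590 D42451))
theorem Q13264 : ∀ i, i < 13264 → P i := stepQ 13263 Q13263 (allL N13263 (tt N26454 (iv1 F65181)) (tt N6426 (iv0 D20039)) (tt N26451 (iv2 F65576)) (tt N26591 D42453) (tt N26592 D42454) (tt N26593 D42455) (tt N26594 D42456) (tt N26452 (iv7 F65574)))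
theorem Q13265 : ∀ i, i < 13265 → P i := stepQ 13264 Q13264 (allL N13264 (tt N6426 (iv1 D20040)) (tt N26454 F65180) (tt N26452 (iv2 F65573)) (tt N26595 D42458) (tt N26596 D42459) (tt N26597 D42460) (tt N26598 D42461) (tt N26451 (iv7 F65577)))
theorem Q13266 : ∀ i, i < 13266 → P i := stepQ 13265 Q13265 (allL N13265 (tt N26599 D42462) (tt N26600 D42463) (tt N26453 (iv2 F65176)) (tt N26601 D42464) (tt N6426 (iv4 D20041)) (tt N26602 D42465) (tt N26565 (iv6 F65526)) (tt N26603 D42466))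
theorem Q13267 : ∀ i, i < 13267 → P i := stepQ 13266 Q13266 (allL N13266 (tt N26452 (iv1 F65174)) (tt N26451 F65179) (tt N26454 (iv2 F65177)) (tt N13470 (iv3 F32644)) (tt N26603 (iv4 F65578)) (tt N6427 F31869) (tt N26604 D42467) (tt N6426 (iv7 D20042)))
theorem Q13268 : ∀ i, i < 13268 → P i := stepQ 13267 Q13267 (allL N13267 (tt N25705 (iv1 F66064)) (tt N6428 (iv0 D20049)) (tt N26377 (iv2 F66022)) (tt N6462 F65544) (tt N14538 F65545) (tt N7085 (iv5 F292795)) (tt N12818 (iv6 F66023)) (tt N7097 (iv7 F66024)))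
theorem Q13269 : ∀ i, i < 13269 → P i := stepQ 13268 Q13268 (allL N13268 (tt N26377 F66029) (tt N7097 F66030) (tt N6428 (iv2 D20051)) (tt N14271 (iv3 F66039)) (tt N7052 (iv4 F35765)) (tt N26605 D42474) (tt N26606 D42475) (tt N25705 (iv7 F66067)))
theorem Q13270 : ∀ i, i < 13270 → P i := stepQ 13269 Q13269 (allL N13269 (tt N7055 F31878) (tt N7042 (iv0 F31879)) (tt N7052 F35764) (tt N26607 D42476) (tt N6428 (iv4 D20052)) (tt N26608 D42477) (tt N14674 (iv6 F36758)) (tt N7053 F35763))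
theorem Q13271 : ∀ i, i < 13271 → P i := stepQ 13270 Q13270 (allL N13270 (tt N26609 D42478) (tt N26610 D42479) (tt N26605 (iv2 F65620)) (tt N6430 F31880) (tt N26165 (iv4 F292855)) (tt N6428 (iv5 D20053)) (tt N13700 F291807) (tt N26242 F291808))
theorem Q13272 : ∀ i, i < 13272 → P i := stepQ 13271 Q13271 (allL N13271 (tt N12880 (iv1 F66272)) (tt N26611 D42483) (tt N26606 (iv2 F65621)) (tt N6431 F31881) (tt N14674 F36757) (tt N13537 (iv5 F32942)) (tt N6428 (iv6 D20054)) (tt N13567 (iv7 F35770)))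
theorem Q13273 : ∀ i, i < 13273 → P i := stepQ 13272 Q13272 (allL N13272 (tt N6433 (iv1 F31887)) (tt N6429 (iv0 D20056)) (tt N26455 (iv2 F65868)) (tt N26612 D42485) (tt N13477 (iv4 F290912)) (tt N26613 D42486) (tt N13472 (iv6 F65973)) (tt N13424 (iv7 F65639)))
theorem Q13274 : ∀ i, i < 13274 → P i := stepQ 13273 Q13273 (allL N13273 (tt N26614 D42492) (tt N23261 F205428) (tt N26615 D42494) (tt N6429 (iv3 D20058)) (tt N26607 (iv4 F65623)) (tt N26616 D42495) (tt N26617 D42496) (tt N26458 (iv7 F65228)))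
theorem Q13275 : ∀ i, i < 13275 → P i := stepQ 13274 Q13274 (allL N13274 (tt N26618 D42497) (tt N26619 D42498) (tt N26457 (iv2 F65203)) (tt N26616 (iv3 F65632)) (tt N26620 D42499) (tt N6429 (iv5 D20059)) (tt N26621 D42500) (tt N26459 (iv7 F65230)))
theorem Q13276 : ∀ i, i < 13276 → P i := stepQ 13275 Q13275 (allL N13275 (tt N14452 F65972) (tt N26622 D42501) (tt N13579 F35774) (tt N26617 (iv3 F65633)) (tt N6431 F31884) (tt N26623 D42502) (tt N6429 (iv6 D20060)) (tt N13573 (iv7 F35780)))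
theorem Q13277 : ∀ i, i < 13277 → P i := stepQ 13276 Q13276 (allL N13276 (tt N6434 F31890) (tt N6430 (iv0 D20062)) (tt N13325 F35707) (tt N13276 F35694) (tt N26624 D42503) (tt N13188 F31888) (tt N13170 (iv6 F31889)) (tt N6833 (iv7 F291160)))
theorem Q13278 : ∀ i, i < 13278 → P i := stepQ 13277 Q13277 (allL N13277 (tt N26625 D42505) (tt N26104 (iv0 F292066)) (tt N26290 F291842) (tt N26626 D42507) (tt N6430 (iv4 D20064)) (tt N26627 D42508) (tt N25965 F291843) (tt N26261 F291844))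
theorem Q13279 : ∀ i, i < 13279 → P i := stepQ 13278 Q13278 (allL N13278 (tt N6859 F65666) (tt N6908 F65667) (tt N6906 F65778) (tt N26628 D42516) (tt N6432 (iv4 D20074)) (tt N26629 D42517) (tt N26630 D42518) (tt N6905 F65779))
theorem Q13280 : ∀ i, i < 13280 → P i := stepQ 13279 Q13279 (allL N13279 (tt N26087 (iv1 F291238)) (tt N26631 D42520) (tt N25706 (iv2 F66069)) (tt N6434 F31896) (tt N26632 D42521) (tt N6432 (iv5 D20075)) (tt N26045 (iv6 F291265)) (tt N25704 (iv7 F66075)))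
theorem Q13281 : ∀ i, i < 13281 → P i := stepQ 13280 Q13280 (allL N13280 (tt N13523 (iv1 F290760)) (tt N14624 (iv0 F73907)) (tt N25707 (iv2 F66070)) (tt N6435 F31897) (tt N26630 (iv4 F66003)) (tt N26046 (iv5 F290904)) (tt N6432 (iv6 D20076)) (tt N26633 D42526))
theorem Q13282 : ∀ i, i < 13282 → P i := stepQ 13281 Q13281 (allL N13281 (tt N26507 (iv1 F68094)) (tt N26634 D42528) (tt N26635 D42529) (tt N6433 (iv3 D20077)) (tt N26628 (iv4 F65997)) (tt N26636 D42530) (tt N26637 D42531) (tt N26456 (iv7 F65202)))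
theorem Q13283 : ∀ i, i < 13283 → P i := stepQ 13282 Q13282 (allL N13282 (tt N26619 (iv1 F65983)) (tt N26618 F65634) (tt N26459 (iv2 F65229)) (tt N26636 (iv3 F66007)) (tt N26638 D42532) (tt N6433 (iv5 D20078)) (tt N26639 D42533) (tt N26457 (iv7 F65204)))
theorem Q13284 : ∀ i, i < 13284 → P i := stepQ 13283 Q13283 (allL N13283 (tt N25992 F290575) (tt N26488 (iv0 F69099)) (tt N26262 F290576) (tt N26637 (iv3 F66008)) (tt N6435 F31898) (tt N26640 D42536) (tt N6433 (iv6 D20079)) (tt N26641 D42537))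
theorem Q13285 : ∀ i, i < 13285 → P i := stepQ 13284 Q13284 (allL N13284 (tt N26104 (iv1 F292067)) (tt N26625 F65987) (tt N26261 F291445) (tt N26642 D42538) (tt N6434 (iv4 D20080)) (tt N26643 D42539) (tt N26051 (iv6 F292290)) (tt N26290 F291446))
theorem Q13286 : ∀ i, i < 13286 → P i := stepQ 13285 Q13285 (allL N13285 (tt N7022 (iv1 F290628)) (tt N6781 (iv0 F290630)) (tt N7028 F290585) (tt N26633 (iv3 F66006)) (tt N26641 (iv4 F66010)) (tt N13490 (iv5 F32934)) (tt N7138 F293538) (tt N6435 (iv7 D20085)))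
theorem Q13287 : ∀ i, i < 13287 → P i := stepQ 13286 Q13286 (allL N13286 (tt N7085 (iv1 F292794)) (tt N14209 F292510) (tt N26644 D42546) (tt N6436 (iv3 D20087)) (tt N12849 (iv4 F293487)) (tt N26645 D42548) (tt N6893 F292511) (tt N6861 (iv7 F292793)))
theorem Q13288 : ∀ i, i < 13288 → P i := stepQ 13287 Q13287 (allL N13287 (tt N6930 F293340) (tt N6929 F293341) (tt N6932 F293342) (tt N26646 D42551) (tt N6436 (iv4 D20088)) (tt N26647 D42552) (tt N6908 F293343) (tt N6864 F293344))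
theorem Q13289 : ∀ i, i < 13289 → P i := stepQ 13288 Q13288 (allL N13288 (tt N6936 F292048) (tt N6935 F292049) (tt N6938 F292050) (tt N26645 (iv3 F66372)) (tt N26648 D42554) (tt N6436 (iv5 D20089)) (tt N25566 (iv6 F61513)) (tt N6620 F35915))
theorem Q13290 : ∀ i, i < 13290 → P i := stepQ 13289 Q13289 (allL N13289 (tt N6933 F293001) (tt N6437 (iv0 D20096)) (tt N6959 F293002) (tt N26649 D42567) (tt N26650 D42568) (tt N26651 D42569) (tt N6949 F293003) (tt N6870 F293004))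
theorem Q13291 : ∀ i, i < 13291 → P i := stepQ 13290 Q13290 (allL N13290 (tt N26652 D42581) (tt N26653 D42582) (tt N26461 (iv2 F65250)) (tt N13321 (iv3 F294352)) (tt N26654 D42583) (tt N6437 (iv5 D20099)) (tt N26655 D42584) (tt N14607 F293350))
theorem Q13292 : ∀ i, i < 13292 → P i := stepQ 13291 Q13291 (allL N13291 (tt N6839 F292071) (tt N6838 (iv0 F292407)) (tt N6447 F31929) (tt N13497 (iv3 F32691)) (tt N12955 F31932) (tt N6445 (iv5 D20115)) (tt N26079 F292072) (tt N6834 F292073))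
theorem Q13293 : ∀ i, i < 13293 → P i := stepQ 13292 Q13292 (allL N13292 (tt N7032 F31935) (tt N7031 F31936) (tt N12941 F31933) (tt N23950 (iv3 F57000)) (tt N22944 (iv4 F54712)) (tt N6446 (iv5 D20116)) (tt N26656 D42619) (tt N12940 F31934))
theorem Q13294 : ∀ i, i < 13294 → P i := stepQ 13293 Q13293 (allL N13293 (tt N6834 F291594) (tt N6447 (iv0 D20117)) (tt N6839 F291595) (tt N12977 (iv3 F292064)) (tt N13358 (iv4 F32324)) (tt N6499 F31937) (tt N26268 F291596) (tt N6838 (iv7 F292409)))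
theorem Q13295 : ∀ i, i < 13295 → P i := stepQ 13294 Q13294 (allL N13294 (tt N6622 F291179) (tt N6619 F291180) (tt N12955 F31941) (tt N26657 D42621) (tt N6447 (iv4 D20118)) (tt N26658 D42622) (tt N13569 F291181) (tt N6837 (iv7 F291230)))
theorem Q13296 : ∀ i, i < 13296 → P i := stepQ 13295 Q13295 (allL N13295 (tt N6558 F31949) (tt N6515 F31950) (tt N6554 F31947) (tt N26659 D42627) (tt N6448 (iv4 D20120)) (tt N13316 (iv5 F31981)) (tt N13022 F292907) (tt N6555 F31948))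
theorem Q13297 : ∀ i, i < 13297 → P i := stepQ 13296 Q13296 (allL N13296 (tt N26660 D42632) (tt N26661 D42633) (tt N26662 D42634) (tt N6449 (iv3 D20122)) (tt N26657 (iv4 F66451)) (tt N26663 D42635) (tt N26097 F292997) (tt N6848 (iv7 F293119)))
theorem Q13298 : ∀ i, i < 13298 → P i := stepQ 13297 Q13297 (allL N13297 (tt N26078 F293673) (tt N26077 F293674) (tt N13500 (iv2 F32712)) (tt N26663 (iv3 F66469)) (tt N13014 F294823) (tt N6449 (iv5 D20123)) (tt N26664 D42637) (tt N6852 (iv7 F294375)))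
theorem Q13299 : ∀ i, i < 13299 → P i := stepQ 13298 Q13298 (allL N13298 (tt N12919 F31958) (tt N12947 F31959) (tt N12944 F31956) (tt N26665 D42645) (tt N6450 (iv4 D20128)) (tt N26017 (iv5 F63896)) (tt N26666 D42646) (tt N12943 F31957))
theorem Q13300 : ∀ i, i < 13300 → P i := stepQ 13299 Q13299 (allL N13299 (tt N26667 D42647) (tt N26586 (iv0 F290685)) (tt N24427 (iv2 F58681)) (tt N6452 F31960) (tt N26666 (iv4 F66480)) (tt N6522 F31961) (tt N6450 (iv6 D20129)) (tt N26668 D42649))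
theorem Q13301 : ∀ i, i < 13301 → P i := stepQ 13300 Q13300 (allL N13300 (tt N26669 D42650) (tt N26670 D42651) (tt N26671 D42652) (tt N6451 (iv3 D20130)) (tt N26665 (iv4 F66477)) (tt N26672 D42653) (tt N26673 D42654) (tt N13407 (iv7 F32497)))
theorem Q13302 : ∀ i, i < 13302 → P i := stepQ 13301 Q13301 (allL N13301 (tt N14062 (iv1 F293268)) (tt N14065 (iv0 F293264)) (tt N13526 (iv2 F32905)) (tt N26672 (iv3 F66695)) (tt N13306 (iv4 F31970)) (tt N6451 (iv5 D20131)) (tt N26674 D42655) (tt N13408 (iv7 F32499)))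
theorem Q13303 : ∀ i, i < 13303 → P i := stepQ 13302 Q13302 (allL N13302 (tt N26675 D42656) (tt N26630 F290941) (tt N13222 F31962) (tt N26673 (iv3 F66696)) (tt N6452 F31963) (tt N26676 D42658) (tt N6451 (iv6 D20132)) (tt N26677 D42659))
theorem Q13304 : ∀ i, i < 13304 → P i := stepQ 13303 Q13303 (allL N13303 (tt N6452 (iv1 D20134)) (tt N7025 F290869) (tt N6914 F290870) (tt N13303 F35721) (tt N26678 D42660) (tt N13384 (iv5 F32417)) (tt N6860 (iv6 F291346)) (tt N13221 F35719))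
theorem Q13305 : ∀ i, i < 13305 → P i := stepQ 13304 Q13304 (allL N13304 (tt N6914 (iv1 F290697)) (tt N13221 F31969) (tt N7025 (iv2 F290672)) (tt N26668 (iv3 F66693)) (tt N26677 (iv4 F66701)) (tt N6527 F31966) (tt N6780 (iv6 F290663)) (tt N6452 (iv7 D20135)))
theorem Q13306 : ∀ i, i < 13306 → P i := stepQ 13305 Q13305 (allL N13305 (tt N26679 D42661) (tt N26680 D42662) (tt N26681 D42663) (tt N6453 (iv3 D20136)) (tt N26682 D42664) (tt N26683 D42665) (tt N26684 D42666) (tt N26464 (iv7 F65266)))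
theorem Q13307 : ∀ i, i < 13307 → P i := stepQ 13306 Q13306 (allL N13306 (tt N13508 (iv1 F32756)) (tt N6557 F31971) (tt N26463 (iv2 F65259)) (tt N26683 (iv3 F66889)) (tt N13301 F31970) (tt N6453 (iv5 D20137)) (tt N26685 D42667) (tt N26465 (iv7 F65269)))
theorem Q13308 : ∀ i, i < 13308 → P i := stepQ 13307 Q13307 (allL N13307 (tt N6779 (iv1 F291055)) (tt N6995 (iv0 F291050)) (tt N6997 (iv2 F291100)) (tt N26684 (iv3 F66890)) (tt N13155 F31972) (tt N26686 D42668) (tt N6453 (iv6 D20138)) (tt N6996 (iv7 F291102)))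
theorem Q13309 : ∀ i, i < 13309 → P i := stepQ 13308 Q13308 (allL N13308 (tt N26687 D42670) (tt N26688 D42671) (tt N26689 D42672) (tt N6454 (iv3 D20139)) (tt N13662 (iv4 F33435)) (tt N26690 D42673) (tt N26691 D42674) (tt N26462 (iv7 F65258)))
theorem Q13310 : ∀ i, i < 13310 → P i := stepQ 13309 Q13309 (allL N13309 (tt N6557 F31974) (tt N13508 (iv0 F32755)) (tt N26465 (iv2 F65267)) (tt N26690 (iv3 F66894)) (tt N13177 F31973) (tt N6454 (iv5 D20140)) (tt N26692 D42675) (tt N26463 (iv7 F65260)))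
theorem Q13311 : ∀ i, i < 13311 → P i := stepQ 13310 Q13310 (allL N13310 (tt N14638 F63434) (tt N26678 F66707) (tt N26466 (iv2 F65272)) (tt N26691 (iv3 F66895)) (tt N13496 (iv4 F32689)) (tt N26693 D42676) (tt N6454 (iv6 D20141)) (tt N26694 D42677))
theorem Q13312 : ∀ i, i < 13312 → P i := stepQ 13311 Q13311 (allL N13311 (tt N25646 (iv1 F293660)) (tt N6455 (iv0 D20142)) (tt N12861 (iv2 F293485)) (tt N26695 D42680) (tt N26696 D42681) (tt N26697 D42682) (tt N12786 (iv6 F293662)) (tt N26698 D42684))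
theorem Q13313 : ∀ i, i < 13313 → P i := stepQ 13312 Q13312 (allL N13312 (tt N6455 (iv1 D20143)) (tt N25646 F293960) (tt N26698 (iv2 F66904)) (tt N26699 D42685) (tt N14426 (iv4 F294370)) (tt N26700 D42687) (tt N14425 (iv6 F294840)) (tt N12861 F293961))
theorem Q13314 : ∀ i, i < 13314 → P i := stepQ 13313 Q13313 (allL N13313 (tt N12861 F293889) (tt N26698 (iv0 F135694)) (tt N6455 (iv2 D20144)) (tt N26469 (iv3 F65274)) (tt N6476 F31975) (tt N26701 D42691) (tt N12809 (iv6 F294351)) (tt N25646 F293890))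
theorem Q13315 : ∀ i, i < 13315 → P i := stepQ 13314 Q13314 (allL N13314 (tt N26154 (iv1 F294740)) (tt N26702 D42693) (tt N26701 (iv2 F66909)) (tt N6456 F31976) (tt N26703 D42694) (tt N6455 (iv5 D20145)) (tt N26704 D42695) (tt N26705 D42696))
theorem Q13316 : ∀ i, i < 13316 → P i := stepQ 13315 Q13315 (allL N13315 (tt N26698 (iv1 F135695)) (tt N12861 (iv0 F293484)) (tt N25646 (iv2 F293661)) (tt N6457 F31977) (tt N6477 F31978) (tt N26705 (iv5 F66912)) (tt N14676 (iv6 F293371)) (tt N6455 (iv7 D20146)))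
theorem Q13317 : ∀ i, i < 13317 → P i := stepQ 13316 Q13316 (allL N13316 (tt N6456 (iv1 D20148)) (tt N13317 (iv0 F31984)) (tt N13502 (iv2 F32742)) (tt N26706 D42700) (tt N12987 (iv4 F295145)) (tt N13295 F31981) (tt N26707 D42701) (tt N13505 (iv7 F32749)))
theorem Q13318 : ∀ i, i < 13318 → P i := stepQ 13317 Q13317 (allL N13317 (tt N13316 F31984) (tt N13014 (iv0 F293943)) (tt N13319 (iv2 F31987)) (tt N26708 D42702) (tt N6456 (iv4 D20149)) (tt N13173 F31983) (tt N26709 D42703) (tt N13204 F31986))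
theorem Q13319 : ∀ i, i < 13319 → P i := stepQ 13318 Q13318 (allL N13318 (tt N26710 D42704) (tt N26711 D42705) (tt N26471 (iv2 F65277)) (tt N26704 (iv3 F66910)) (tt N26709 (iv4 F66921)) (tt N26655 (iv5 F66418)) (tt N6456 (iv6 D20150)) (tt N26712 D42706))
theorem Q13320 : ∀ i, i < 13320 → P i := stepQ 13319 Q13319 (allL N13319 (tt N13502 (iv1 F32746)) (tt N13505 (iv0 F32750)) (tt N13317 F31987) (tt N26705 (iv3 F66911)) (tt N13204 F31988) (tt N6457 F31989) (tt N26713 D42707) (tt N6456 (iv7 D20151)))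
theorem Q13321 : ∀ i, i < 13321 → P i := stepQ 13320 Q13320 (allL N13320 (tt N6986 F292741) (tt N25871 F292742) (tt N14441 (iv2 F293273)) (tt N14676 (iv3 F293370)) (tt N6458 F31990) (tt N26198 (iv5 F293372)) (tt N6457 (iv6 D20152)) (tt N14442 (iv7 F292965)))
theorem Q13322 : ∀ i, i < 13322 → P i := stepQ 13321 Q13321 (allL N13321 (tt N26714 D42721) (tt N26715 D42722) (tt N25735 (iv2 F66117)) (tt N13290 F294352) (tt N26716 D42723) (tt N6459 (iv5 D20170)) (tt N26717 D42724) (tt N13331 (iv7 F32038)))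
theorem Q13323 : ∀ i, i < 13323 → P i := stepQ 13322 Q13322 (allL N13322 (tt N13328 (iv1 F32033)) (tt N6460 (iv0 D20172)) (tt N13333 (iv2 F66096)) (tt N26631 (iv3 F66361)) (tt N26718 D42726) (tt N7088 (iv5 F292250)) (tt N13097 F66132) (tt N6683 F291419))
theorem Q13324 : ∀ i, i < 13324 → P i := stepQ 13323 Q13323 (allL N13323 (tt N6460 (iv1 D20173)) (tt N13328 F32032) (tt N6683 F291420) (tt N13950 (iv3 F291810)) (tt N26719 D42728) (tt N7089 (iv5 F291924)) (tt N6652 (iv6 F291925)) (tt N13333 F66338))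
theorem Q13325 : ∀ i, i < 13325 → P i := stepQ 13324 Q13324 (allL N13324 (tt N26720 D42729) (tt N26721 D42730) (tt N25736 (iv2 F66352)) (tt N13126 (iv3 F290894)) (tt N6460 (iv4 D20174)) (tt N26722 D42732) (tt N13124 F290678) (tt N13334 (iv7 F32042)))
theorem Q13326 : ∀ i, i < 13326 → P i := stepQ 13325 Q13325 (allL N13325 (tt N13066 F290856) (tt N13085 F290857) (tt N13276 (iv2 F35707)) (tt N6461 (iv3 D20178)) (tt N26723 D42734) (tt N6935 (iv5 F291327)) (tt N13067 F290858) (tt N6690 (iv7 F291358)))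
theorem Q13327 : ∀ i, i < 13327 → P i := stepQ 13326 Q13326 (allL N13326 (tt N12806 (iv1 F66053)) (tt N12805 (iv0 F66054)) (tt N12808 (iv2 F66051)) (tt N26724 D42747) (tt N6462 (iv4 D20193)) (tt N26725 D42748) (tt N12827 F66033) (tt N7100 (iv7 F66055)))
theorem Q13328 : ∀ i, i < 13328 → P i := stepQ 13327 Q13327 (allL N13327 (tt N6890 F65776) (tt N12842 (iv0 F65805)) (tt N6464 F32025) (tt N26726 D42750) (tt N6463 (iv4 D20196)) (tt N26727 D42751) (tt N26728 D42752) (tt N12809 F66084))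
theorem Q13329 : ∀ i, i < 13329 → P i := stepQ 13328 Q13328 (allL N13328 (tt N13323 (iv1 F32032)) (tt N13322 F32033) (tt N6465 F32029) (tt N13328 F32030) (tt N26729 D42753) (tt N6463 (iv5 D20197)) (tt N13106 F292222) (tt N12810 F66086))
theorem Q13330 : ∀ i, i < 13330 → P i := stepQ 13329 Q13329 (allL N13329 (tt N6718 F291729) (tt N7106 F66087) (tt N6466 F32034) (tt N13329 F32035) (tt N26728 (iv4 F66981)) (tt N13107 (iv5 F292156)) (tt N6463 (iv6 D20198)) (tt N13658 F291730))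
theorem Q13331 : ∀ i, i < 13331 → P i := stepQ 13330 Q13330 (allL N13330 (tt N6464 (iv1 D20200)) (tt N12809 F66091) (tt N12842 F65650) (tt N26730 D42755) (tt N6893 F65651) (tt N26731 D42756) (tt N12849 F65652) (tt N6890 F65653))
theorem Q13332 : ∀ i, i < 13332 → P i := stepQ 13331 Q13331 (allL N13331 (tt N26732 D42757) (tt N26733 D42758) (tt N26727 (iv2 F66976)) (tt N14607 (iv3 F36388)) (tt N26734 D42759) (tt N6464 (iv5 D20201)) (tt N26735 D42760) (tt N13321 F32038))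
theorem Q13333 : ∀ i, i < 13333 → P i := stepQ 13332 Q13332 (allL N13332 (tt N26736 D42761) (tt N26737 D42762) (tt N26728 (iv2 F66980)) (tt N14442 (iv3 F62696)) (tt N6466 F32039) (tt N26738 D42763) (tt N6464 (iv6 D20202)) (tt N14676 (iv7 F291461)))
theorem Q13334 : ∀ i, i < 13334 → P i := stepQ 13333 Q13333 (allL N13333 (tt N6465 (iv1 D20204)) (tt N12810 F66095) (tt N13322 F66096) (tt N26609 F66368) (tt N26739 D42769) (tt N12704 F66097) (tt N13115 F291803) (tt N13323 (iv7 F66338)))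
theorem Q13335 : ∀ i, i < 13335 → P i := stepQ 13334 Q13334 (allL N13334 (tt N13739 (iv1 F291402)) (tt N26740 D42771) (tt N26729 (iv2 F66982)) (tt N13519 F292242) (tt N6465 (iv4 D20205)) (tt N26741 D42773) (tt N13113 (iv6 F291428)) (tt N13324 F32042))
theorem Q13336 : ∀ i, i < 13336 → P i := stepQ 13335 Q13335 (allL N13335 (tt N6466 (iv1 D20208)) (tt N13658 (iv0 F291117)) (tt N7106 F66591) (tt N26472 (iv3 F66621)) (tt N26742 D42779) (tt N6719 (iv5 F291120)) (tt N7101 F66107) (tt N6718 (iv7 F291122)))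
theorem Q13337 : ∀ i, i < 13337 → P i := stepQ 13336 Q13336 (allL N13336 (tt N12740 F32112) (tt N24967 (iv0 F296064)) (tt N13340 (iv2 F32165)) (tt N23515 (iv3 F56040)) (tt N24030 (iv4 F57180)) (tt N6467 (iv5 D20248)) (tt N8967 F325249) (tt N12669 F32111))
theorem Q13338 : ∀ i, i < 13338 → P i := stepQ 13337 Q13337 (allL N13337 (tt N11583 F32116) (tt N11724 F32117) (tt N6470 F32113) (tt N11715 F32114) (tt N26743 D42862) (tt N6468 (iv5 D20249)) (tt N12716 (iv6 F295888)) (tt N11723 F32115))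
theorem Q13339 : ∀ i, i < 13339 → P i := stepQ 13338 Q13338 (allL N13338 (tt N25910 (iv1 F63578)) (tt N25911 (iv0 F63589)) (tt N26743 (iv2 F67158)) (tt N26744 D42869) (tt N6470 (iv4 D20252)) (tt N26745 D42870) (tt N25303 F296013) (tt N11725 F32122))
theorem Q13340 : ∀ i, i < 13340 → P i := stepQ 13339 Q13339 (allL N13339 (tt N13795 (iv1 F295990)) (tt N13796 (iv0 F295941)) (tt N12716 F295893) (tt N8571 (iv3 F295989)) (tt N25303 (iv4 F295991)) (tt N6777 F295894) (tt N6470 (iv6 D20253)) (tt N11843 (iv7 F295940)))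
theorem Q13341 : ∀ i, i < 13341 → P i := stepQ 13340 Q13340 (allL N13340 (tt N13828 F33910) (tt N23943 (iv0 F56954)) (tt N13336 F32165) (tt N11534 F32166) (tt N23757 F56469) (tt N6471 (iv5 D20277)) (tt N18142 F325241) (tt N13133 F32167))
theorem Q13342 : ∀ i, i < 13342 → P i := stepQ 13341 Q13341 (allL N13341 (tt N6769 F292264) (tt N6768 (iv0 F293062)) (tt N6473 F32168) (tt N26746 D42931) (tt N6472 (iv4 D20278)) (tt N26747 D42932) (tt N13682 F292265) (tt N6726 F292266))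
theorem Q13343 : ∀ i, i < 13343 → P i := stepQ 13342 Q13342 (allL N13342 (tt N6726 F291962) (tt N6473 (iv0 D20280)) (tt N6769 F291963) (tt N26748 D42935) (tt N24022 (iv4 F57158)) (tt N26373 (iv5 F64994)) (tt N26357 F291964) (tt N6768 (iv7 F293064)))
theorem Q13344 : ∀ i, i < 13344 → P i := stepQ 13343 Q13343 (allL N13343 (tt N6473 (iv1 D20281)) (tt N6726 F291958) (tt N6768 (iv2 F293063)) (tt N26749 D42937) (tt N6618 (iv4 F292641)) (tt N26374 (iv5 F65000)) (tt N26353 F291959) (tt N6769 F291960))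
theorem Q13345 : ∀ i, i < 13345 → P i := stepQ 13344 Q13344 (allL N13344 (tt N25916 (iv1 F63603)) (tt N25918 (iv0 F63606)) (tt N26747 (iv2 F67267)) (tt N13746 (iv3 F294014)) (tt N26750 D42944) (tt N6473 (iv5 D20283)) (tt N26751 D42945) (tt N6770 F293052))
theorem Q13346 : ∀ i, i < 13346 → P i := stepQ 13345 Q13345 (allL N13345 (tt N14682 F133935) (tt N25608 F293882) (tt N26752 D42994) (tt N6474 (iv3 D20303)) (tt N6990 F293883) (tt N25872 F293884) (tt N6988 (iv6 F294761)) (tt N25872 F293885))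
theorem Q13347 : ∀ i, i < 13347 → P i := stepQ 13346 Q13346 (allL N13346 (tt N26753 D42999) (tt N26754 D43000) (tt N12883 F293886) (tt N26755 D43001) (tt N6474 (iv4 D20304)) (tt N26756 D43002) (tt N12792 (iv6 F294766)) (tt N25890 F293887))
theorem Q13348 : ∀ i, i < 13348 → P i := stepQ 13347 Q13347 (allL N13347 (tt N26606 F293953) (tt N13567 F293954) (tt N26611 (iv2 F294484)) (tt N6475 (iv3 D20308)) (tt N26757 D43018) (tt N12880 F293955) (tt N25698 (iv6 F294833)) (tt N12880 F293956))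
theorem Q13349 : ∀ i, i < 13349 → P i := stepQ 13348 Q13348 (allL N13348 (tt N26754 (iv1 F67366)) (tt N26753 F67370) (tt N25890 F293957) (tt N26758 D43021) (tt N6475 (iv4 D20309)) (tt N26759 D43022) (tt N25702 (iv6 F294836)) (tt N12883 F293958))
theorem Q13350 : ∀ i, i < 13350 → P i := stepQ 13349 Q13349 (allL N13349 (tt N14482 (iv1 F36003)) (tt N14484 (iv0 F36013)) (tt N22939 (iv2 F54689)) (tt N26760 D43100) (tt N6478 (iv4 D20335)) (tt N26761 D43101) (tt N26762 D43102) (tt N11760 F32268))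
theorem Q13351 : ∀ i, i < 13351 → P i := stepQ 13350 Q13350 (allL N13350 (tt N12325 (iv1 F296003)) (tt N15530 F326965) (tt N22917 (iv2 F295901)) (tt N6480 F32269) (tt N26762 (iv4 F67478)) (tt N11658 F295900) (tt N6478 (iv6 D20336)) (tt N22935 (iv7 F296005)))
theorem Q13352 : ∀ i, i < 13352 → P i := stepQ 13351 Q13351 (allL N13351 (tt N26763 D43106) (tt N26764 D43107) (tt N26765 D43108) (tt N6479 (iv3 D20337)) (tt N26760 (iv4 F67475)) (tt N11754 F32271) (tt N26766 D43109) (tt N11762 F32272))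
theorem Q13353 : ∀ i, i < 13353 → P i := stepQ 13352 Q13352 (allL N13352 (tt N11820 (iv1 F296841)) (tt N11847 (iv0 F296843)) (tt N11755 F32273) (tt N26766 (iv3 F67490)) (tt N6480 F32274) (tt N18957 F321730) (tt N6479 (iv6 D20338)) (tt N11845 (iv7 F296937)))
theorem Q13354 : ∀ i, i < 13354 → P i := stepQ 13353 Q13353 (allL N13353 (tt N11663 (iv1 F296382)) (tt N6480 (iv0 D20339)) (tt N11756 (iv2 F44685)) (tt N12885 F296073) (tt N19308 F322052) (tt N11261 (iv5 F296102)) (tt N8857 F32275) (tt N11757 (iv7 F44687)))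
theorem Q13355 : ∀ i, i < 13355 → P i := stepQ 13354 Q13354 (allL N13354 (tt N6480 (iv1 D20340)) (tt N11663 (iv0 F296381)) (tt N11757 F44688) (tt N8783 (iv3 F296417)) (tt N23727 (iv4 F92679)) (tt N8781 (iv5 F296401)) (tt N26767 D43118) (tt N11756 F44686))
theorem Q13356 : ∀ i, i < 13356 → P i := stepQ 13355 Q13355 (allL N13355 (tt N11757 (iv1 F32281)) (tt N11756 F32282) (tt N11663 (iv2 F296383)) (tt N22935 F296200) (tt N11845 (iv4 F296936)) (tt N11620 F296201) (tt N11766 F32279) (tt N6480 (iv7 D20341)))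
theorem Q13357 : ∀ i, i < 13357 → P i := stepQ 13356 Q13356 (allL N13356 (tt N11840 F32315) (tt N12929 F32314) (tt N12942 F32311) (tt N11882 F32312) (tt N12330 (iv4 F32316)) (tt N6482 (iv5 D20361)) (tt N26768 D43167) (tt N12918 F32313))
theorem Q13358 : ∀ i, i < 13358 → P i := stepQ 13357 Q13357 (allL N13357 (tt N6616 (iv1 F292070)) (tt N6615 (iv0 F292783)) (tt N6484 F32317) (tt N26769 D43168) (tt N6483 (iv4 D20362)) (tt N26770 D43169) (tt N13535 F291873) (tt N6609 (iv7 F292982)))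
theorem Q13359 : ∀ i, i < 13359 → P i := stepQ 13358 Q13358 (allL N13358 (tt N6609 (iv1 F292981)) (tt N6484 (iv0 D20364)) (tt N6616 F292143) (tt N26771 D43173) (tt N13293 F32324) (tt N26297 (iv5 F64580)) (tt N26772 D43174) (tt N6615 (iv7 F292785)))
theorem Q13360 : ∀ i, i < 13360 → P i := stepQ 13359 Q13359 (allL N13359 (tt N6484 (iv1 D20365)) (tt N6609 (iv0 F292980)) (tt N6615 (iv2 F292784)) (tt N26773 D43175) (tt N6771 F292552) (tt N26298 (iv5 F64587)) (tt N26597 F292553) (tt N6616 F292554))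
theorem Q13361 : ∀ i, i < 13361 → P i := stepQ 13360 Q13360 (allL N13360 (tt N14491 (iv1 F36025)) (tt N14493 (iv0 F36027)) (tt N26770 (iv2 F67598)) (tt N13563 (iv3 F293658)) (tt N26774 D43182) (tt N6484 (iv5 D20367)) (tt N26775 D43183) (tt N6617 F292614))
theorem Q13362 : ∀ i, i < 13362 → P i := stepQ 13361 Q13361 (allL N13361 (tt N26194 F64369) (tt N12701 (iv0 F61486)) (tt N6486 F32359) (tt N12112 F32360) (tt N6668 F32361) (tt N12764 F32362) (tt N6485 (iv6 D20381)) (tt N26320 (iv7 F64753)))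
theorem Q13363 : ∀ i, i < 13363 → P i := stepQ 13362 Q13362 (allL N13362 (tt N26320 F64756) (tt N6486 (iv0 D20382)) (tt N26194 (iv2 F64364)) (tt N12678 F63437) (tt N13694 (iv4 F63436)) (tt N26776 D43217) (tt N26777 D43218) (tt N12701 F63443))
theorem Q13364 : ∀ i, i < 13364 → P i := stepQ 13363 Q13363 (allL N13363 (tt N6486 (iv1 D20383)) (tt N26320 F64757) (tt N12701 (iv2 F61478)) (tt N24431 (iv3 F58694)) (tt N13695 (iv4 F63438)) (tt N26778 D43219) (tt N26779 D43220) (tt N26194 (iv7 F64365)))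
theorem Q13365 : ∀ i, i < 13365 → P i := stepQ 13364 Q13364 (allL N13364 (tt N12701 (iv1 F61491)) (tt N26194 (iv0 F64366)) (tt N26320 (iv2 F64751)) (tt N6495 F32363) (tt N13123 (iv4 F35818)) (tt N12876 (iv5 F35594)) (tt N13150 F32364) (tt N6486 (iv7 D20384)))
theorem Q13366 : ∀ i, i < 13366 → P i := stepQ 13365 Q13365 (allL N13365 (tt N7056 F65640) (tt N14153 (iv0 F65770)) (tt N6855 F32365) (tt N6887 F32366) (tt N13209 F32367) (tt N14233 (iv5 F291448)) (tt N6487 (iv6 D20385)) (tt N26572 (iv7 F65863)))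
theorem Q13367 : ∀ i, i < 13367 → P i := stepQ 13366 Q13366 (allL N13366 (tt N6502 F32371) (tt N6573 F32372) (tt N12917 F32368) (tt N12921 F32369) (tt N13175 F32373) (tt N6488 (iv5 D20386)) (tt N14233 F291786) (tt N13157 F32370))
theorem Q13368 : ∀ i, i < 13368 → P i := stepQ 13367 Q13367 (allL N13367 (tt N13070 (iv1 F63165)) (tt N6489 (iv0 D20387)) (tt N12968 (iv2 F63512)) (tt N13056 (iv3 F63498)) (tt N13184 F63433) (tt N26780 D43222) (tt N26781 D43223) (tt N13071 F63495))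
theorem Q13369 : ∀ i, i < 13369 → P i := stepQ 13368 Q13368 (allL N13368 (tt N13071 (iv1 F63531)) (tt N12968 (iv0 F63163)) (tt N13070 (iv2 F63166)) (tt N25971 (iv3 F63776)) (tt N13544 (iv4 F32948)) (tt N13591 (iv5 F33041)) (tt N13156 F32376) (tt N6489 (iv7 D20389)))
theorem Q13370 : ∀ i, i < 13370 → P i := stepQ 13369 Q13369 (allL N13369 (tt N6503 F32382) (tt N13180 F32450) (tt N13179 F32383) (tt N6490 (iv3 D20390)) (tt N13023 F32380) (tt N26480 (iv5 F65287)) (tt N26013 F294392) (tt N13158 F32381))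
theorem Q13371 : ∀ i, i < 13371 → P i := stepQ 13370 Q13370 (allL N13370 (tt N6594 F65889) (tt N6598 F65890) (tt N12991 F32384) (tt N26013 F293540) (tt N12988 F32385) (tt N26782 D43225) (tt N6490 (iv6 D20391)) (tt N26011 (iv7 F291092)))
theorem Q13372 : ∀ i, i < 13372 → P i := stepQ 13371 Q13371 (allL N13371 (tt N8028 (iv1 F32386)) (tt N6491 (iv0 D20392)) (tt N13162 F40017) (tt N13161 (iv3 F33476)) (tt N13688 (iv4 F33475)) (tt N16154 (iv5 F40016)) (tt N26783 D43227) (tt N13161 (iv7 F40021)))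
theorem Q13373 : ∀ i, i < 13373 → P i := stepQ 13372 Q13372 (allL N13372 (tt N6491 (iv1 D20393)) (tt N8028 F32391) (tt N13161 (iv2 F40023)) (tt N26784 D43228) (tt N13687 (iv4 F33474)) (tt N18413 (iv5 F45916)) (tt N26785 D43229) (tt N13162 F40022))
theorem Q13374 : ∀ i, i < 13374 → P i := stepQ 13373 Q13373 (allL N13373 (tt N13162 (iv1 F32392)) (tt N13161 F32390) (tt N6491 (iv2 D20394)) (tt N13180 F32387) (tt N13890 (iv4 F34114)) (tt N8029 F32388) (tt N26786 D43230) (tt N8028 F32389))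
theorem Q13375 : ∀ i, i < 13375 → P i := stepQ 13374 Q13374 (allL N13374 (tt N26787 D43231) (tt N26788 D43232) (tt N26786 (iv2 F67729)) (tt N6493 F32393) (tt N13891 (iv4 F34119)) (tt N26789 D43233) (tt N6491 (iv6 D20395)) (tt N26790 D43234))
theorem Q13376 : ∀ i, i < 13376 → P i := stepQ 13375 Q13375 (allL N13375 (tt N6504 (iv1 F32397)) (tt N6492 (iv0 D20396)) (tt N13164 (iv2 F32398)) (tt N11490 F32396) (tt N6917 F32395) (tt N6517 F32394) (tt N26791 D43235) (tt N6917 (iv7 F32399)))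
theorem Q13377 : ∀ i, i < 13377 → P i := stepQ 13376 Q13376 (allL N13376 (tt N6492 (iv1 D20397)) (tt N6504 F32400) (tt N6917 (iv2 F32404)) (tt N26792 D43236) (tt N13164 F32403) (tt N6518 F32402) (tt N26793 D43237) (tt N13164 F32401))
theorem Q13378 : ∀ i, i < 13378 → P i := stepQ 13377 Q13377 (allL N13377 (tt N26794 D43238) (tt N11768 (iv0 F37010)) (tt N13183 F32405) (tt N8040 F32406) (tt N13457 (iv4 F32636)) (tt N26795 D43239) (tt N6492 (iv6 D20398)) (tt N8036 F32407))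
theorem Q13379 : ∀ i, i < 13379 → P i := stepQ 13378 Q13378 (allL N13378 (tt N13186 (iv1 F32413)) (tt N6493 (iv0 D20399)) (tt N13184 F63535) (tt N26796 D43240) (tt N12968 F35864) (tt N26797 D43241) (tt N26798 D43242) (tt N13072 (iv7 F63529)))
theorem Q13380 : ∀ i, i < 13380 → P i := stepQ 13379 Q13379 (allL N13379 (tt N6493 (iv1 D20400)) (tt N13186 F32408) (tt N13072 (iv2 F63533)) (tt N26799 D43243) (tt N13071 F63532) (tt N26800 D43244) (tt N14248 (iv6 F290850)) (tt N13184 (iv7 F63534)))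
theorem Q13381 : ∀ i, i < 13381 → P i := stepQ 13380 Q13380 (allL N13380 (tt N26801 D43246) (tt N26802 D43247) (tt N13185 F32409) (tt N26789 (iv3 F67733)) (tt N26803 D43248) (tt N6493 (iv5 D20401)) (tt N26795 (iv6 F67756)) (tt N26804 D43249))
theorem Q13382 : ∀ i, i < 13382 → P i := stepQ 13381 Q13381 (allL N13381 (tt N13072 (iv1 F35823)) (tt N13184 F32415) (tt N13186 F32410) (tt N26790 (iv3 F67735)) (tt N6495 F32411) (tt N26804 (iv5 F67776)) (tt N13168 F32412) (tt N6493 (iv7 D20402)))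
theorem Q13383 : ∀ i, i < 13383 → P i := stepQ 13382 Q13382 (allL N13382 (tt N13608 (iv1 F63214)) (tt N6584 F63170) (tt N12705 F35814) (tt N26805 D43250) (tt N6494 (iv4 D20405)) (tt N26806 D43251) (tt N26807 D43252) (tt N13187 F35701))
theorem Q13384 : ∀ i, i < 13384 → P i := stepQ 13383 Q13383 (allL N13383 (tt N13483 F32677) (tt N13088 F291301) (tt N12706 F35806) (tt N13383 F35703) (tt N26808 D43253) (tt N6494 (iv5 D20406)) (tt N14081 F291302) (tt N13171 F35702))
theorem Q13385 : ∀ i, i < 13385 → P i := stepQ 13384 Q13384 (allL N13384 (tt N6600 F35811) (tt N13082 (iv0 F291518)) (tt N12707 F35723) (tt N13384 F35722) (tt N26807 (iv4 F67789)) (tt N13303 F32417) (tt N6494 (iv6 D20407)) (tt N14247 F291254))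
theorem Q13386 : ∀ i, i < 13386 → P i := stepQ 13385 Q13385 (allL N13385 (tt N14233 F62960) (tt N6543 F62617) (tt N6956 F32420) (tt N12811 F32421) (tt N6870 F32422) (tt N14038 F292304) (tt N6496 (iv6 D20413)) (tt N26650 F292305))
theorem Q13387 : ∀ i, i < 13387 → P i := stepQ 13386 Q13386 (allL N13386 (tt N13138 F32426) (tt N11255 F32427) (tt N6500 F32423) (tt N13146 F32424) (tt N25967 (iv4 F63763)) (tt N6497 (iv5 D20414)) (tt N13593 (iv6 F290935)) (tt N12110 F32425))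
theorem Q13388 : ∀ i, i < 13388 → P i := stepQ 13387 Q13387 (allL N13387 (tt N25606 (iv1 F61674)) (tt N6498 (iv0 D20415)) (tt N13095 (iv2 F63467)) (tt N25647 F63698) (tt N13052 (iv4 F63697)) (tt N26809 D43257) (tt N26810 D43258) (tt N25605 F63479))
theorem Q13389 : ∀ i, i < 13389 → P i := stepQ 13388 Q13388 (allL N13388 (tt N6498 (iv1 D20416)) (tt N25606 F61673) (tt N25605 (iv2 F63478)) (tt N13093 (iv3 F61804)) (tt N13053 F61803) (tt N26088 F291227) (tt N14537 (iv6 F291983)) (tt N13095 (iv7 F63466)))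
theorem Q13390 : ∀ i, i < 13390 → P i := stepQ 13389 Q13389 (allL N13389 (tt N25605 (iv1 F61666)) (tt N13095 (iv0 F63480)) (tt N25606 (iv2 F61669)) (tt N6507 F32430) (tt N26061 (iv4 F64053)) (tt N13592 F290661) (tt N13178 F32431) (tt N6498 (iv7 D20418)))
theorem Q13391 : ∀ i, i < 13391 → P i := stepQ 13390 Q13390 (allL N13390 (tt N12110 (iv1 F32435)) (tt N6500 (iv0 D20419)) (tt N13138 (iv2 F32434)) (tt N13520 F32897) (tt N13089 F32433) (tt N11256 F32432) (tt N26811 D43264) (tt N11255 F32436))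
theorem Q13392 : ∀ i, i < 13392 → P i := stepQ 13391 Q13391 (allL N13391 (tt N13156 (iv1 F32444)) (tt N6501 (iv0 D20420)) (tt N13154 F63706) (tt N12913 F63476) (tt N13165 F63475) (tt N26812 D43265) (tt N13073 (iv6 F63477)) (tt N13083 (iv7 F63540)))
theorem Q13393 : ∀ i, i < 13393 → P i := stepQ 13392 Q13392 (allL N13392 (tt N6501 (iv1 D20421)) (tt N13156 F32437) (tt N13083 (iv2 F63546)) (tt N13940 F63551) (tt N13166 (iv4 F63550)) (tt N25609 (iv5 F290804)) (tt N26813 D43267) (tt N13154 (iv7 F63704)))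
theorem Q13394 : ∀ i, i < 13394 → P i := stepQ 13393 Q13393 (allL N13393 (tt N6522 F290925) (tt N24428 F290926) (tt N13155 F32438) (tt N6752 F32439) (tt N6997 (iv4 F291101)) (tt N6501 (iv5 D20422)) (tt N6502 F32440) (tt N7104 F290927))
theorem Q13395 : ∀ i, i < 13395 → P i := stepQ 13394 Q13394 (allL N13394 (tt N13083 (iv1 F63703)) (tt N13154 F32446) (tt N13156 F32441) (tt N6753 F32442) (tt N13547 (iv4 F32950)) (tt N7104 (iv5 F290700)) (tt N13070 (iv6 F63167)) (tt N6501 (iv7 D20423)))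
theorem Q13396 : ∀ i, i < 13396 → P i := stepQ 13395 Q13395 (allL N13395 (tt N13180 (iv1 F32448)) (tt N6503 (iv0 D20424)) (tt N13158 (iv2 F32447)) (tt N14033 (iv3 F34540)) (tt N24359 F58372) (tt N26509 (iv5 F65399)) (tt N26814 D43271) (tt N13179 F32449))
theorem Q13397 : ∀ i, i < 13397 → P i := stepQ 13396 Q13396 (allL N13396 (tt N13158 (iv1 F32454)) (tt N13179 F32453) (tt N6503 (iv2 D20425)) (tt N8028 F32451) (tt N26058 (iv4 F64044)) (tt N8024 (iv5 F32455)) (tt N26815 D43272) (tt N13180 F32452))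
theorem Q13398 : ∀ i, i < 13398 → P i := stepQ 13397 Q13397 (allL N13397 (tt N21615 F51581) (tt N26792 (iv0 F67744)) (tt N8024 F32456) (tt N6504 F32457) (tt N8541 (iv4 F32459)) (tt N6503 (iv5 D20426)) (tt N8022 (iv6 F32460)) (tt N13181 F32458))
theorem Q13399 : ∀ i, i < 13399 → P i := stepQ 13398 Q13398 (allL N13398 (tt N26816 D43273) (tt N26799 (iv0 F67766)) (tt N26815 (iv2 F67850)) (tt N6505 F32461) (tt N26059 (iv4 F64050)) (tt N26817 D43274) (tt N6503 (iv6 D20427)) (tt N26818 D43275))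
theorem Q13400 : ∀ i, i < 13400 → P i := stepQ 13399 Q13399 (allL N13399 (tt N8033 (iv1 F32467)) (tt N8032 (iv0 F32466)) (tt N7164 F32462) (tt N8022 F32463) (tt N11390 F32464) (tt N26819 D43276) (tt N6504 (iv6 D20428)) (tt N8034 (iv7 F32465)))
theorem Q13401 : ∀ i, i < 13401 → P i := stepQ 13400 Q13400 (allL N13400 (tt N13168 (iv1 F32473)) (tt N6505 (iv0 D20429)) (tt N13165 (iv2 F63548)) (tt N26820 D43277) (tt N13154 F63708) (tt N26821 D43278) (tt N26822 D43279) (tt N13166 F63549))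
theorem Q13402 : ∀ i, i < 13402 → P i := stepQ 13401 Q13401 (allL N13401 (tt N6505 (iv1 D20430)) (tt N13168 F32468) (tt N13166 F63547) (tt N26823 D43280) (tt N13083 F35855) (tt N26824 D43281) (tt N26825 D43282) (tt N13165 (iv7 F63545)))
theorem Q13403 : ∀ i, i < 13403 → P i := stepQ 13402 Q13402 (allL N13402 (tt N26826 D43283) (tt N26827 D43284) (tt N13167 F32469) (tt N26817 (iv3 F67855)) (tt N26828 D43285) (tt N6505 (iv5 D20431)) (tt N26819 (iv6 F67862)) (tt N26829 D43286))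
theorem Q13404 : ∀ i, i < 13404 → P i := stepQ 13403 Q13403 (allL N13403 (tt N13166 (iv1 F32474)) (tt N13165 F32475) (tt N13168 F32470) (tt N26818 (iv3 F67857)) (tt N6507 F32471) (tt N26829 (iv5 F67886)) (tt N13186 F32472) (tt N6505 (iv7 D20432)))
theorem Q13405 : ∀ i, i < 13405 → P i := stepQ 13404 Q13404 (allL N13404 (tt N6586 F63422) (tt N13603 F63423) (tt N13103 (iv2 F35675)) (tt N26830 D43287) (tt N6506 (iv4 D20439)) (tt N26831 D43288) (tt N14195 (iv6 F290851)) (tt N13169 (iv7 F35799)))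
theorem Q13406 : ∀ i, i < 13406 → P i := stepQ 13405 Q13405 (allL N13405 (tt N6574 (iv1 F32490)) (tt N6508 (iv0 D20446)) (tt N13174 (iv2 F32491)) (tt N26832 D43299) (tt N13157 F32489) (tt N14067 (iv5 F293448)) (tt N14439 (iv6 F292992)) (tt N13175 (iv7 F32492)))
theorem Q13407 : ∀ i, i < 13407 → P i := stepQ 13406 Q13406 (allL N13406 (tt N6508 (iv1 D20447)) (tt N6574 F32493) (tt N13175 (iv2 F32496)) (tt N26833 D43302) (tt N12917 F32495) (tt N14068 (iv5 F293449)) (tt N14086 F292399) (tt N13174 F32494))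
theorem Q13408 : ∀ i, i < 13408 → P i := stepQ 13407 Q13407 (allL N13407 (tt N26834 D43305) (tt N26835 D43306) (tt N26836 D43307) (tt N6508 (iv3 D20448)) (tt N25988 (iv4 F63851)) (tt N26837 D43308) (tt N14475 F291472) (tt N13300 F32497))
theorem Q13409 : ∀ i, i < 13409 → P i := stepQ 13408 Q13408 (allL N13408 (tt N26075 (iv1 F293451)) (tt N26002 (iv0 F63876)) (tt N13177 F32498) (tt N26837 (iv3 F67967)) (tt N26465 (iv4 F65268)) (tt N6508 (iv5 D20449)) (tt N26838 D43309) (tt N13301 F32499))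
theorem Q13410 : ∀ i, i < 13410 → P i := stepQ 13409 Q13409 (allL N13409 (tt N6509 (iv1 F32500)) (tt N6509 (iv0 D20450)) (tt N13189 F65139) (tt N25785 (iv3 F62304)) (tt N26839 D43310) (tt N26840 D43311) (tt N26841 D43312) (tt N13189 F65140))
theorem Q13411 : ∀ i, i < 13411 → P i := stepQ 13410 Q13410 (allL N13410 (tt N26842 D43313) (tt N26843 D43314) (tt N13191 F32501) (tt N6510 F32502) (tt N13410 F32503) (tt N26844 D43315) (tt N6509 (iv6 D20451)) (tt N26845 D43316))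
theorem Q13412 : ∀ i, i < 13412 → P i := stepQ 13411 Q13411 (allL N13411 (tt N6540 (iv1 F32509)) (tt N6510 (iv0 D20452)) (tt N6537 F62794) (tt N26846 D43317) (tt N7083 (iv4 F32511)) (tt N26847 D43318) (tt N13090 F291587) (tt N6538 F62795))
theorem Q13413 : ∀ i, i < 13413 → P i := stepQ 13412 Q13412 (allL N13412 (tt N6510 (iv1 D20453)) (tt N6540 F32504) (tt N6538 (iv2 F62792)) (tt N26848 D43320) (tt N14199 (iv4 F62754)) (tt N26849 D43321) (tt N25936 F63628) (tt N6537 F62791))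
theorem Q13414 : ∀ i, i < 13414 → P i := stepQ 13413 Q13413 (allL N13413 (tt N26850 D43322) (tt N26851 D43323) (tt N6539 F32505) (tt N26844 (iv3 F67978)) (tt N26852 D43324) (tt N6510 (iv5 D20454)) (tt N26555 (iv6 F65493)) (tt N26853 D43325))
theorem Q13415 : ∀ i, i < 13415 → P i := stepQ 13414 Q13414 (allL N13414 (tt N6538 (iv1 F32510)) (tt N6537 F32512) (tt N6540 F32506) (tt N26845 (iv3 F67980)) (tt N6514 F32507) (tt N26853 (iv5 F68001)) (tt N13196 F32508) (tt N6510 (iv7 D20455)))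
theorem Q13416 : ∀ i, i < 13416 → P i := stepQ 13415 Q13415 (allL N13415 (tt N26650 (iv1 F291887)) (tt N6956 F62750) (tt N14233 F62755) (tt N6511 (iv3 D20457)) (tt N14086 F62751) (tt N6855 F291182) (tt N12917 (iv6 F291509)) (tt N6543 F35929))
theorem Q13417 : ∀ i, i < 13417 → P i := stepQ 13416 Q13416 (allL N13416 (tt N26854 D43328) (tt N6918 F63001) (tt N6542 F35930) (tt N26855 D43329) (tt N6511 (iv4 D20458)) (tt N26856 D43330) (tt N12919 F290993) (tt N6544 F35931))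
theorem Q13418 : ∀ i, i < 13418 → P i := stepQ 13417 Q13417 (allL N13417 (tt N6918 F63000) (tt N26854 F68010) (tt N6544 F35922) (tt N26857 D43334) (tt N6512 (iv4 D20463)) (tt N26858 D43335) (tt N25941 (iv6 F63644)) (tt N6542 F35923))
theorem Q13419 : ∀ i, i < 13419 → P i := stepQ 13418 Q13418 (allL N13418 (tt N6513 (iv1 D20466)) (tt N6550 F32517) (tt N6548 F35775) (tt N25749 (iv3 F66316)) (tt N26859 D43339) (tt N6596 (iv5 F32518)) (tt N13069 F290638) (tt N6547 F35776))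
theorem Q13420 : ∀ i, i < 13420 → P i := stepQ 13419 Q13419 (allL N13419 (tt N13046 (iv1 F291855)) (tt N26860 D43341) (tt N6549 F32519) (tt N26861 D43342) (tt N6513 (iv4 D20467)) (tt N26862 D43343) (tt N6515 F32520) (tt N26863 D43344))
theorem Q13421 : ∀ i, i < 13421 → P i := stepQ 13420 Q13420 (allL N13420 (tt N6548 (iv1 F32525)) (tt N6547 F32526) (tt N6550 F32521) (tt N13420 F32522) (tt N26863 (iv4 F68048)) (tt N6514 F32523) (tt N13064 (iv6 F291694)) (tt N6513 (iv7 D20468)))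
theorem Q13422 : ∀ i, i < 13422 → P i := stepQ 13421 Q13421 (allL N13421 (tt N26864 D43345) (tt N26865 D43346) (tt N25643 (iv2 F293941)) (tt N6515 (iv3 D20469)) (tt N13421 F32527) (tt N26866 D43348) (tt N26861 (iv6 F68045)) (tt N14069 (iv7 F293942)))
theorem Q13423 : ∀ i, i < 13423 → P i := stepQ 13422 Q13422 (allL N13422 (tt N26463 (iv1 F65263)) (tt N26465 (iv0 F65270)) (tt N6557 F32528) (tt N26866 (iv3 F68062)) (tt N13510 (iv4 F32759)) (tt N6515 (iv5 D20470)) (tt N26867 D43349) (tt N13508 (iv7 F32757)))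
theorem Q13424 : ∀ i, i < 13424 → P i := stepQ 13423 Q13423 (allL N13423 (tt N26868 D43350) (tt N26869 D43351) (tt N26870 D43352) (tt N6517 (iv3 D20474)) (tt N6857 F32532) (tt N11490 F32533) (tt N26871 D43353) (tt N6916 F32534))
theorem Q13425 : ∀ i, i < 13425 → P i := stepQ 13424 Q13424 (allL N13424 (tt N13197 F65691) (tt N13199 F65692) (tt N13209 F32536) (tt N26871 (iv3 F68084)) (tt N6855 F32537) (tt N26872 D43354) (tt N6517 (iv6 D20475)) (tt N13272 F65639))
theorem Q13426 : ∀ i, i < 13426 → P i := stepQ 13425 Q13425 (allL N13425 (tt N6523 F32540) (tt N13226 F32576) (tt N13225 F32541) (tt N6518 (iv3 D20476)) (tt N6960 F32538) (tt N26792 (iv5 F67742)) (tt N26873 D43355) (tt N12836 F32539))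
theorem Q13427 : ∀ i, i < 13427 → P i := stepQ 13426 Q13426 (allL N13426 (tt N6542 F62744) (tt N6544 F62745) (tt N6918 F32542) (tt N26873 (iv3 F68090)) (tt N6915 F32543) (tt N26874 D43356) (tt N6518 (iv6 D20477)) (tt N26854 (iv7 F68011)))
theorem Q13428 : ∀ i, i < 13428 → P i := stepQ 13427 Q13427 (allL N13427 (tt N13210 (iv1 F32545)) (tt N6519 (iv0 D20478)) (tt N11444 (iv2 F32546)) (tt N11441 (iv3 F32547)) (tt N13778 F33688) (tt N8027 F32544) (tt N26875 D43357) (tt N11441 (iv7 F32548)))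
theorem Q13429 : ∀ i, i < 13429 → P i := stepQ 13428 Q13428 (allL N13428 (tt N6519 (iv1 D20479)) (tt N13210 F32552) (tt N11441 (iv2 F32551)) (tt N26876 D43358) (tt N13777 (iv4 F33682)) (tt N8026 F32550) (tt N26877 D43359) (tt N11444 F32549))
theorem Q13430 : ∀ i, i < 13430 → P i := stepQ 13429 Q13429 (allL N13429 (tt N11444 (iv1 F32557)) (tt N11441 F32556) (tt N6519 (iv2 D20480)) (tt N13226 F32553) (tt N14518 (iv4 F36068)) (tt N9077 F32554) (tt N26878 D43360) (tt N13210 F32555))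
theorem Q13431 : ∀ i, i < 13431 → P i := stepQ 13430 Q13430 (allL N13430 (tt N26879 D43361) (tt N26880 D43362) (tt N26878 (iv2 F68105)) (tt N6521 F32558) (tt N14519 (iv4 F36070)) (tt N16311 (iv5 F40314)) (tt N6519 (iv6 D20481)) (tt N25924 (iv7 F63614)))
theorem Q13432 : ∀ i, i < 13432 → P i := stepQ 13431 Q13431 (allL N13431 (tt N12903 F35634) (tt N6521 (iv0 D20482)) (tt N13230 F35644) (tt N26881 D43363) (tt N6881 F35635) (tt N26882 D43364) (tt N14455 F35636) (tt N7014 F35637))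
theorem Q13433 : ∀ i, i < 13433 → P i := stepQ 13432 Q13432 (allL N13432 (tt N6521 (iv1 D20483)) (tt N12903 F35631) (tt N7014 F35632) (tt N26883 D43365) (tt N7013 F35633) (tt N26884 D43366) (tt N26885 D43367) (tt N13230 (iv7 F35646)))
theorem Q13434 : ∀ i, i < 13434 → P i := stepQ 13433 Q13433 (allL N13433 (tt N26886 D43368) (tt N26887 D43369) (tt N13231 F32560) (tt N16311 (iv3 F40313)) (tt N26888 D43370) (tt N6521 (iv5 D20484)) (tt N16310 (iv6 F40312)) (tt N25925 (iv7 F63615)))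
theorem Q13435 : ∀ i, i < 13435 → P i := stepQ 13434 Q13434 (allL N13434 (tt N24428 (iv1 F58689)) (tt N6522 (iv0 D20494)) (tt N7104 F66645) (tt N24222 F66646) (tt N6996 F66647) (tt N13156 F290928) (tt N26889 D43372) (tt N13155 F290929))
theorem Q13436 : ∀ i, i < 13436 → P i := stepQ 13435 Q13435 (allL N13435 (tt N13155 (iv1 F290699)) (tt N7104 F66562) (tt N24428 (iv2 F58684)) (tt N6527 F32570) (tt N14161 (iv4 F34936)) (tt N26668 (iv5 F66694)) (tt N12866 (iv6 F35622)) (tt N6522 (iv7 D20496)))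
theorem Q13437 : ∀ i, i < 13437 → P i := stepQ 13436 Q13436 (allL N13436 (tt N13226 (iv1 F32573)) (tt N6523 (iv0 D20497)) (tt N12836 (iv2 F32572)) (tt N26870 (iv3 F68074)) (tt N12835 F32574) (tt N21615 F51580) (tt N26890 D43375) (tt N13225 F32575))
theorem Q13438 : ∀ i, i < 13438 → P i := stepQ 13437 Q13437 (allL N13437 (tt N12836 (iv1 F32580)) (tt N13225 F32579) (tt N6523 (iv2 D20498)) (tt N13210 F32577) (tt N14158 (iv4 F34933)) (tt N16927 F41583) (tt N26891 D43376) (tt N13226 F32578))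
theorem Q13439 : ∀ i, i < 13439 → P i := stepQ 13438 Q13438 (allL N13438 (tt N21251 (iv1 F50656)) (tt N21250 F50405) (tt N16927 (iv2 F41580)) (tt N6524 F32581) (tt N16925 (iv4 F41575)) (tt N6523 (iv5 D20499)) (tt N16921 (iv6 F41567)) (tt N13227 F32582))
theorem Q13440 : ∀ i, i < 13440 → P i := stepQ 13439 Q13439 (allL N13439 (tt N26892 D43377) (tt N26883 (iv0 F68115)) (tt N26891 (iv2 F68140)) (tt N6525 F32583) (tt N14159 (iv4 F34935)) (tt N26893 D43378) (tt N6523 (iv6 D20500)) (tt N26894 D43379))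
theorem Q13441 : ∀ i, i < 13441 → P i := stepQ 13440 Q13440 (allL N13440 (tt N21242 F65414) (tt N26895 D43380) (tt N13214 F32584) (tt N16921 F41568) (tt N13451 (iv4 F32614)) (tt N26896 D43381) (tt N6524 (iv6 D20501)) (tt N16919 (iv7 F41569)))
theorem Q13442 : ∀ i, i < 13442 → P i := stepQ 13441 Q13441 (allL N13441 (tt N13218 (iv1 F32590)) (tt N6525 (iv0 D20502)) (tt N13215 F66846) (tt N26897 D43382) (tt N13522 (iv4 F66802)) (tt N26898 D43383) (tt N26899 D43384) (tt N13216 F66847))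
theorem Q13443 : ∀ i, i < 13443 → P i := stepQ 13442 Q13442 (allL N13442 (tt N6525 (iv1 D20503)) (tt N13218 F32585) (tt N13216 F66841) (tt N26900 D43385) (tt N7026 F66505) (tt N26901 D43386) (tt N12943 (iv6 F290707)) (tt N13215 F66842))
theorem Q13444 : ∀ i, i < 13444 → P i := stepQ 13443 Q13443 (allL N13443 (tt N26902 D43388) (tt N26903 D43389) (tt N13217 F32586) (tt N26893 (iv3 F68144)) (tt N26904 D43390) (tt N6525 (iv5 D20504)) (tt N26896 (iv6 F68153)) (tt N26905 D43391))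
theorem Q13445 : ∀ i, i < 13445 → P i := stepQ 13444 Q13444 (allL N13444 (tt N13216 (iv1 F32591)) (tt N13215 F32592) (tt N13218 F32587) (tt N26894 (iv3 F68145)) (tt N6527 F32588) (tt N26905 (iv5 F68181)) (tt N12903 (iv6 F35625)) (tt N6525 (iv7 D20505)))
theorem Q13446 : ∀ i, i < 13446 → P i := stepQ 13445 Q13445 (allL N13445 (tt N6533 F66710) (tt N13240 (iv0 F66728)) (tt N7113 F66499) (tt N26906 D43392) (tt N6526 (iv4 D20513)) (tt N26907 D43393) (tt N12916 (iv6 F291606)) (tt N13219 F65350))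
theorem Q13447 : ∀ i, i < 13447 → P i := stepQ 13446 Q13446 (allL N13446 (tt N13234 (iv1 F32599)) (tt N6528 (iv0 D20516)) (tt N13233 (iv2 F32600)) (tt N13241 (iv3 F32601)) (tt N26908 D43396) (tt N10581 F32598) (tt N26909 D43397) (tt N13232 (iv7 F32602)))
theorem Q13448 : ∀ i, i < 13448 → P i := stepQ 13447 Q13447 (allL N13447 (tt N6528 (iv1 D20517)) (tt N13234 F32605) (tt N13232 (iv2 F32604)) (tt N26910 D43398) (tt N26911 D43399) (tt N23227 (iv5 F55260)) (tt N26912 D43400) (tt N13233 F32603))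
theorem Q13449 : ∀ i, i < 13449 → P i := stepQ 13448 Q13448 (allL N13448 (tt N13233 (iv1 F32609)) (tt N13232 F32608) (tt N6528 (iv2 D20518)) (tt N13242 F32606) (tt N14073 (iv4 F34690)) (tt N26913 D43401) (tt N26914 D43402) (tt N13234 F32607))
theorem Q13450 : ∀ i, i < 13450 → P i := stepQ 13449 Q13449 (allL N13449 (tt N21158 (iv1 F50228)) (tt N26915 D43403) (tt N26913 (iv2 F68220)) (tt N6529 F32610) (tt N26916 D43404) (tt N6528 (iv5 D20519)) (tt N14722 F41552) (tt N13236 F32611))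
theorem Q13451 : ∀ i, i < 13451 → P i := stepQ 13450 Q13450 (allL N13450 (tt N26917 D43405) (tt N26918 D43406) (tt N26914 (iv2 F68227)) (tt N6530 F32612) (tt N14217 (iv4 F35060)) (tt N26919 D43407) (tt N6528 (iv6 D20520)) (tt N25930 (iv7 F63623)))
theorem Q13452 : ∀ i, i < 13452 → P i := stepQ 13451 Q13451 (allL N13451 (tt N26920 D43408) (tt N26921 D43409) (tt N13245 F32613) (tt N14722 (iv3 F41553)) (tt N13440 F32614) (tt N26922 D43410) (tt N6529 (iv6 D20521)) (tt N26923 D43411))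
theorem Q13453 : ∀ i, i < 13453 → P i := stepQ 13452 Q13452 (allL N13452 (tt N26924 D43412) (tt N26925 D43413) (tt N13246 F32616) (tt N26919 (iv3 F68241)) (tt N26926 D43414) (tt N6530 (iv5 D20524)) (tt N26922 (iv6 F68249)) (tt N25931 (iv7 F63624)))
theorem Q13454 : ∀ i, i < 13454 → P i := stepQ 13453 Q13453 (allL N13453 (tt N13241 (iv1 F32625)) (tt N10597 F32624) (tt N6531 (iv2 D20526)) (tt N13234 F32622) (tt N13647 (iv4 F33420)) (tt N14721 F36975) (tt N26927 D43415) (tt N13242 F32623))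
theorem Q13455 : ∀ i, i < 13455 → P i := stepQ 13454 Q13454 (allL N13454 (tt N26928 D43416) (tt N26929 D43417) (tt N26927 (iv2 F68266)) (tt N6533 F32626) (tt N13649 (iv4 F33423)) (tt N16321 (iv5 F40335)) (tt N6531 (iv6 D20527)) (tt N26930 D43418))
theorem Q13456 : ∀ i, i < 13456 → P i := stepQ 13455 Q13455 (allL N13455 (tt N26931 D43419) (tt N26932 D43420) (tt N13239 F32628) (tt N16321 (iv3 F40334)) (tt N26933 D43421) (tt N6533 (iv5 D20530)) (tt N16320 (iv6 F40333)) (tt N26934 D43422))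
theorem Q13457 : ∀ i, i < 13457 → P i := stepQ 13456 Q13456 (allL N13456 (tt N7113 (iv1 F66786)) (tt N13219 (iv0 F66787)) (tt N13240 F32629) (tt N26930 (iv3 F68268)) (tt N13594 (iv4 F33049)) (tt N26934 (iv5 F68275)) (tt N12906 (iv6 F63161)) (tt N6533 (iv7 D20531)))
theorem Q13458 : ∀ i, i < 13458 → P i := stepQ 13457 Q13457 (allL N13457 (tt N23168 F55115) (tt N26935 D43423) (tt N13248 F32634) (tt N10638 F32635) (tt N13377 F32636) (tt N26936 D43424) (tt N6535 (iv6 D20532)) (tt N14917 (iv7 F37430)))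
theorem Q13459 : ∀ i, i < 13459 → P i := stepQ 13458 Q13458 (allL N13458 (tt N26556 (iv1 F65499)) (tt N6536 (iv0 D20533)) (tt N26553 (iv2 F83000)) (tt N26937 D43426) (tt N26938 D43427) (tt N26939 D43428) (tt N26940 D43429) (tt N26554 (iv7 F83006)))
theorem Q13460 : ∀ i, i < 13460 → P i := stepQ 13459 Q13459 (allL N13459 (tt N6536 (iv1 D20534)) (tt N26556 F65498) (tt N26554 (iv2 F83005)) (tt N23193 (iv3 F82974)) (tt N26941 D43432) (tt N26942 D43433) (tt N23191 (iv6 F83004)) (tt N26553 (iv7 F83001)))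
theorem Q13461 : ∀ i, i < 13461 → P i := stepQ 13460 Q13460 (allL N13460 (tt N26943 D43435) (tt N26944 D43436) (tt N26555 (iv2 F65492)) (tt N13253 F32637) (tt N26945 D43437) (tt N6536 (iv5 D20535)) (tt N6539 F32638) (tt N26946 D43438))
theorem Q13462 : ∀ i, i < 13462 → P i := stepQ 13461 Q13461 (allL N13461 (tt N26554 (iv1 F65491)) (tt N26553 F65497) (tt N26556 (iv2 F65494)) (tt N13254 F32639) (tt N26445 (iv4 F65155)) (tt N26946 (iv5 F68294)) (tt N13254 F32640) (tt N6536 (iv7 D20536)))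
theorem Q13463 : ∀ i, i < 13463 → P i := stepQ 13462 Q13462 (allL N13462 (tt N26947 D43439) (tt N26912 (iv0 F157712)) (tt N26948 D43441) (tt N6537 (iv3 D20538)) (tt N25763 (iv4 F62984)) (tt N26949 D43442) (tt N14490 F292773) (tt N26848 (iv7 F67994)))
theorem Q13464 : ∀ i, i < 13464 → P i := stepQ 13463 Q13463 (allL N13463 (tt N26950 D43444) (tt N26951 D43445) (tt N26847 (iv2 F67988)) (tt N26949 (iv3 F68295)) (tt N26952 D43446) (tt N6537 (iv5 D20540)) (tt N26953 D43447) (tt N26849 (iv7 F67996)))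
theorem Q13465 : ∀ i, i < 13465 → P i := stepQ 13464 Q13464 (allL N13464 (tt N23251 F177333) (tt N26954 D43453) (tt N26955 D43454) (tt N6538 (iv3 D20543)) (tt N26956 D43455) (tt N26957 D43456) (tt N26958 D43457) (tt N26846 (iv7 F67987)))
theorem Q13466 : ∀ i, i < 13466 → P i := stepQ 13465 Q13465 (allL N13465 (tt N26951 (iv1 F68299)) (tt N26950 F68298) (tt N26849 (iv2 F67995)) (tt N26957 (iv3 F68313)) (tt N26959 D43458) (tt N6538 (iv5 D20545)) (tt N26960 D43459) (tt N26847 (iv7 F67989)))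
theorem Q13467 : ∀ i, i < 13467 → P i := stepQ 13466 Q13466 (allL N13466 (tt N12901 F63331) (tt N25928 (iv0 F63620)) (tt N25936 F63627) (tt N26958 (iv3 F68314)) (tt N14210 F62983) (tt N26961 D43460) (tt N6538 (iv6 D20546)) (tt N14494 F291882))
theorem Q13468 : ∀ i, i < 13468 → P i := stepQ 13467 Q13467 (allL N13467 (tt N26853 (iv1 F68004)) (tt N6539 (iv0 D20547)) (tt N26850 (iv2 F68327)) (tt N26962 D43462) (tt N26963 D43463) (tt N26964 D43464) (tt N26965 D43465) (tt N26851 (iv7 F68325)))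
theorem Q13469 : ∀ i, i < 13469 → P i := stepQ 13468 Q13468 (allL N13468 (tt N6539 (iv1 D20548)) (tt N26853 F68003) (tt N26851 (iv2 F68324)) (tt N26966 D43467) (tt N26967 D43468) (tt N26968 D43469) (tt N26969 D43470) (tt N26850 (iv7 F68328)))
theorem Q13470 : ∀ i, i < 13470 → P i := stepQ 13469 Q13469 (allL N13469 (tt N26970 D43471) (tt N26971 D43472) (tt N26852 (iv2 F67999)) (tt N26972 D43473) (tt N6539 (iv4 D20549)) (tt N26973 D43474) (tt N26945 (iv6 F68292)) (tt N26974 D43475))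
theorem Q13471 : ∀ i, i < 13471 → P i := stepQ 13470 Q13470 (allL N13470 (tt N26851 (iv1 F67997)) (tt N26850 F68002) (tt N26853 (iv2 F68000)) (tt N13266 F32644) (tt N26974 (iv4 F68330)) (tt N6540 F32645) (tt N26975 D43476) (tt N6539 (iv7 D20550)))
theorem Q13472 : ∀ i, i < 13472 → P i := stepQ 13471 Q13471 (allL N13471 (tt N7082 F32654) (tt N7068 (iv0 F32655)) (tt N7079 F35944) (tt N26976 D43477) (tt N6541 (iv4 D20560)) (tt N26977 D43478) (tt N12926 F291224) (tt N7080 F35943))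
theorem Q13473 : ∀ i, i < 13473 → P i := stepQ 13472 Q13472 (allL N13472 (tt N6544 (iv1 F32663)) (tt N6542 (iv0 D20564)) (tt N26854 F68009) (tt N26978 D43487) (tt N6922 F62723) (tt N26979 D43488) (tt N13272 F65973) (tt N6918 F62724))
theorem Q13474 : ∀ i, i < 13474 → P i := stepQ 13473 Q13473 (allL N13473 (tt N26980 D43489) (tt N26877 F205450) (tt N26981 D43491) (tt N6542 (iv3 D20566)) (tt N26976 (iv4 F68333)) (tt N26982 D43492) (tt N12945 F291035) (tt N26857 (iv7 F68029)))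
theorem Q13475 : ∀ i, i < 13475 → P i := stepQ 13474 Q13474 (allL N13474 (tt N26983 D43494) (tt N26984 D43495) (tt N26856 (iv2 F68017)) (tt N26982 (iv3 F68351)) (tt N26985 D43496) (tt N6542 (iv5 D20567)) (tt N26986 D43497) (tt N26858 (iv7 F68031)))
theorem Q13476 : ∀ i, i < 13476 → P i := stepQ 13475 Q13475 (allL N13475 (tt N6543 (iv1 D20581)) (tt N14233 F62958) (tt N26650 F292287) (tt N6560 F62771) (tt N6959 F62772) (tt N26360 F292288) (tt N12795 F62773) (tt N6956 F62774))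
theorem Q13477 : ∀ i, i < 13477 → P i := stepQ 13476 Q13476 (allL N13476 (tt N6956 F62951) (tt N26650 (iv0 F291886)) (tt N6543 (iv2 D20582)) (tt N25737 F62952) (tt N14087 F62953) (tt N26572 F291186) (tt N25870 (iv6 F63016)) (tt N14233 (iv7 F62956)))
theorem Q13478 : ∀ i, i < 13478 → P i := stepQ 13477 Q13477 (allL N13477 (tt N14153 F290910) (tt N7056 (iv0 F291447)) (tt N26572 F290911) (tt N6545 F32674) (tt N13272 F290912) (tt N6543 (iv5 D20584)) (tt N6922 (iv6 F291455)) (tt N6855 F290913))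
theorem Q13479 : ∀ i, i < 13479 → P i := stepQ 13478 Q13478 (allL N13478 (tt N14380 F62997) (tt N12868 F62998) (tt N25870 F63013) (tt N6546 F32675) (tt N14237 (iv4 F62994)) (tt N26987 D43516) (tt N6543 (iv6 D20585)) (tt N14486 F292092))
theorem Q13480 : ∀ i, i < 13480 → P i := stepQ 13479 Q13479 (allL N13479 (tt N26890 (iv1 F68395)) (tt N26988 D43518) (tt N26989 D43519) (tt N6544 (iv3 D20586)) (tt N14235 (iv4 F62993)) (tt N26990 D43520) (tt N26991 D43521) (tt N26855 (iv7 F68015)))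
theorem Q13481 : ∀ i, i < 13481 → P i := stepQ 13480 Q13480 (allL N13480 (tt N26984 (iv1 F68355)) (tt N26983 F68354) (tt N26858 (iv2 F68030)) (tt N26990 (iv3 F68396)) (tt N26992 D43522) (tt N6544 (iv5 D20587)) (tt N26993 D43523) (tt N26856 (iv7 F68018)))
theorem Q13482 : ∀ i, i < 13482 → P i := stepQ 13481 Q13481 (allL N13481 (tt N26994 D43524) (tt N14455 (iv0 F62999)) (tt N25941 (iv2 F63643)) (tt N26991 (iv3 F68397)) (tt N6546 F32676) (tt N26995 D43525) (tt N6544 (iv6 D20588)) (tt N14489 (iv7 F291628)))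
theorem Q13483 : ∀ i, i < 13483 → P i := stepQ 13482 Q13482 (allL N13482 (tt N6906 F292030) (tt N6905 F292031) (tt N6908 (iv2 F292280)) (tt N26996 D43526) (tt N6545 (iv4 D20589)) (tt N26997 D43527) (tt N6932 (iv6 F292988)) (tt N6859 F292032))
theorem Q13484 : ∀ i, i < 13484 → P i := stepQ 13483 Q13483 (allL N13483 (tt N12709 (iv1 F35807)) (tt N13383 (iv0 F32677)) (tt N25566 F61514) (tt N26987 (iv3 F68386)) (tt N26998 D43528) (tt N6546 (iv5 D20591)) (tt N6938 (iv6 F291310)) (tt N6623 F35941))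
theorem Q13485 : ∀ i, i < 13485 → P i := stepQ 13484 Q13484 (allL N13484 (tt N25751 (iv1 F75595)) (tt N25738 (iv0 F68408)) (tt N25748 F66319) (tt N6547 (iv3 D20594)) (tt N25545 (iv4 F291818)) (tt N26999 D43532) (tt N12972 (iv6 F291826)) (tt N25749 F66317))
theorem Q13486 : ∀ i, i < 13486 → P i := stepQ 13485 Q13485 (allL N13485 (tt N27000 D43534) (tt N14063 (iv0 F291685)) (tt N13077 (iv2 F291692)) (tt N27001 D43536) (tt N6547 (iv4 D20595)) (tt N27002 D43537) (tt N12973 (iv6 F291853)) (tt N26859 (iv7 F68040)))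
theorem Q13487 : ∀ i, i < 13487 → P i := stepQ 13486 Q13486 (allL N13486 (tt N14081 F291169) (tt N7065 F291170) (tt N13079 F291171) (tt N26999 (iv3 F68412)) (tt N27003 D43539) (tt N6547 (iv5 D20596)) (tt N13082 (iv6 F291521)) (tt N6596 F35777))
theorem Q13488 : ∀ i, i < 13488 → P i := stepQ 13487 Q13487 (allL N13487 (tt N14038 (iv1 F291680)) (tt N26360 (iv0 F291681)) (tt N27004 D43542) (tt N6548 (iv3 D20599)) (tt N14249 F68059) (tt N25607 F66301) (tt N27005 D43543) (tt N13074 F291077))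
theorem Q13489 : ∀ i, i < 13489 → P i := stepQ 13488 Q13488 (allL N13488 (tt N14063 (iv1 F291686)) (tt N27000 F68416) (tt N26859 (iv2 F68039)) (tt N27006 D43544) (tt N6548 (iv4 D20600)) (tt N27007 D43545) (tt N27008 D43546) (tt N13077 (iv7 F291693)))
theorem Q13490 : ∀ i, i < 13490 → P i := stepQ 13489 Q13489 (allL N13489 (tt N7065 F291079) (tt N14081 F291080) (tt N6596 F35736) (tt N25607 (iv3 F66300)) (tt N27009 D43547) (tt N6548 (iv5 D20601)) (tt N6580 F32680) (tt N13079 F291081))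
theorem Q13491 : ∀ i, i < 13491 → P i := stepQ 13490 Q13490 (allL N13490 (tt N13067 (iv1 F290668)) (tt N13006 (iv0 F290664)) (tt N13069 F290632) (tt N27005 (iv3 F68436)) (tt N27008 (iv4 F68441)) (tt N13285 F32934) (tt N6548 (iv6 D20602)) (tt N12971 (iv7 F290683)))
theorem Q13492 : ∀ i, i < 13492 → P i := stepQ 13491 Q13491 (allL N13491 (tt N26863 (iv1 F68058)) (tt N6549 (iv0 D20603)) (tt N13046 F292026) (tt N27010 D43548) (tt N14211 F68056) (tt N27011 D43549) (tt N12965 (iv6 F292111)) (tt N26860 F68057))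
theorem Q13493 : ∀ i, i < 13493 → P i := stepQ 13492 Q13492 (allL N13492 (tt N6549 (iv1 D20604)) (tt N26863 F68050) (tt N26860 F68054) (tt N27012 D43551) (tt N14212 (iv4 F65904)) (tt N27013 D43552) (tt N27014 D43553) (tt N13046 (iv7 F291857)))
theorem Q13494 : ∀ i, i < 13494 → P i := stepQ 13493 Q13493 (allL N13493 (tt N27015 D43554) (tt N27016 D43555) (tt N25645 (iv2 F293709)) (tt N6549 (iv3 D20605)) (tt N6567 F32681) (tt N27017 D43557) (tt N6556 F32682) (tt N26362 F292860))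
theorem Q13495 : ∀ i, i < 13495 → P i := stepQ 13494 Q13494 (allL N13494 (tt N6948 (iv1 F293214)) (tt N27018 D43560) (tt N26862 (iv2 F68046)) (tt N27017 (iv3 F68447)) (tt N27019 D43561) (tt N6549 (iv5 D20606)) (tt N27020 D43562) (tt N27021 D43563))
theorem Q13496 : ∀ i, i < 13496 → P i := stepQ 13495 Q13495 (allL N13495 (tt N26860 (iv1 F68043)) (tt N13046 (iv0 F291854)) (tt N26863 (iv2 F68047)) (tt N26362 F292954) (tt N6550 F32683) (tt N27021 (iv5 F68451)) (tt N26338 F292955) (tt N6549 (iv7 D20607)))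
theorem Q13497 : ∀ i, i < 13497 → P i := stepQ 13496 Q13496 (allL N13496 (tt N26633 F290731) (tt N25707 (iv0 F290901)) (tt N13523 (iv2 F32901)) (tt N6639 F32688) (tt N13310 F32689) (tt N6607 F32690) (tt N6551 (iv6 D20609)) (tt N14624 (iv7 F290900)))
theorem Q13498 : ∀ i, i < 13498 → P i := stepQ 13497 Q13497 (allL N13497 (tt N12977 F292856) (tt N12671 F32694) (tt N6552 (iv2 D20610)) (tt N13291 F32691) (tt N12730 (iv4 F32696)) (tt N13143 F32692) (tt N13935 F292857) (tt N12975 F292858))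
theorem Q13499 : ∀ i, i < 13499 → P i := stepQ 13498 Q13498 (allL N13498 (tt N6625 F294229) (tt N12728 F32700) (tt N12730 F32697) (tt N27022 D43569) (tt N6552 (iv4 D20611)) (tt N25585 (iv5 F61578)) (tt N13585 F294230) (tt N12731 F32698))
theorem Q13500 : ∀ i, i < 13500 → P i := stepQ 13499 Q13499 (allL N13499 (tt N27023 D43577) (tt N27024 D43578) (tt N27025 D43579) (tt N6553 (iv3 D20615)) (tt N27022 (iv4 F68473)) (tt N27026 D43580) (tt N14008 F294146) (tt N12982 F294147))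
theorem Q13501 : ∀ i, i < 13501 → P i := stepQ 13500 Q13500 (allL N13500 (tt N14068 F294148) (tt N14067 F294149) (tt N13297 F32712) (tt N27026 (iv3 F68496)) (tt N13505 (iv4 F32748)) (tt N6553 (iv5 D20616)) (tt N27027 D43582) (tt N12987 F294150))
theorem Q13502 : ∀ i, i < 13502 → P i := stepQ 13501 Q13501 (allL N13501 (tt N27028 D43604) (tt N27029 D43605) (tt N27030 D43606) (tt N6554 (iv3 D20629)) (tt N27031 D43607) (tt N27032 D43608) (tt N27033 D43609) (tt N13012 F294224))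
theorem Q13503 : ∀ i, i < 13503 → P i := stepQ 13502 Q13502 (allL N13502 (tt N13204 F32745) (tt N13319 F32746) (tt N13316 F32742) (tt N27032 (iv3 F68553)) (tt N6852 F295031) (tt N6554 (iv5 D20630)) (tt N27034 D43610) (tt N13014 F294228))
theorem Q13504 : ∀ i, i < 13504 → P i := stepQ 13503 Q13503 (allL N13503 (tt N13005 F292124) (tt N6688 F292125) (tt N13022 F292126) (tt N27033 (iv3 F68555)) (tt N12116 F292127) (tt N27035 D43613) (tt N6554 (iv6 D20631)) (tt N12114 F292128))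
theorem Q13505 : ∀ i, i < 13505 → P i := stepQ 13504 Q13504 (allL N13504 (tt N27036 D43615) (tt N27037 D43616) (tt N27038 D43617) (tt N6555 (iv3 D20632)) (tt N25524 (iv4 F294760)) (tt N27039 D43618) (tt N12138 F294655) (tt N26659 (iv7 F66462)))
theorem Q13506 : ∀ i, i < 13506 → P i := stepQ 13505 Q13505 (allL N13505 (tt N13319 F32750) (tt N13204 F32751) (tt N13014 F294656) (tt N27039 (iv3 F68560)) (tt N13500 F32748) (tt N6555 (iv5 D20633)) (tt N14347 (iv6 F295147)) (tt N13316 F32749))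
theorem Q13507 : ∀ i, i < 13507 → P i := stepQ 13506 Q13506 (allL N13506 (tt N13583 (iv1 F294659)) (tt N6556 (iv0 D20635)) (tt N13585 (iv2 F293862)) (tt N27040 D43624) (tt N13935 (iv4 F294660)) (tt N27041 D43626) (tt N12730 (iv6 F293864)) (tt N13024 (iv7 F293866)))
theorem Q13508 : ∀ i, i < 13508 → P i := stepQ 13507 Q13507 (allL N13507 (tt N26697 (iv1 F140190)) (tt N26700 (iv0 F133756)) (tt N25644 (iv2 F294997)) (tt N6557 F32753) (tt N27042 D43636) (tt N6556 (iv5 D20638)) (tt N27043 D43637) (tt N13586 (iv7 F294666)))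
theorem Q13509 : ∀ i, i < 13509 → P i := stepQ 13508 Q13508 (allL N13508 (tt N13309 F32755) (tt N13306 F32756) (tt N13510 (iv2 F32758)) (tt N27044 D43638) (tt N6557 (iv4 D20639)) (tt N6853 F293447) (tt N27045 D43639) (tt N13422 F32757))
theorem Q13510 : ∀ i, i < 13510 → P i := stepQ 13509 Q13509 (allL N13509 (tt N27046 D43640) (tt N27047 D43641) (tt N26867 (iv2 F68063)) (tt N27043 (iv3 F68569)) (tt N27045 (iv4 F68572)) (tt N27020 (iv5 F68450)) (tt N6557 (iv6 D20640)) (tt N27048 D43642))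
theorem Q13511 : ∀ i, i < 13511 → P i := stepQ 13510 Q13510 (allL N13510 (tt N26465 (iv1 F65271)) (tt N26463 (iv0 F65262)) (tt N13508 F32758) (tt N13586 (iv3 F294665)) (tt N13422 F32759) (tt N6558 F32760) (tt N27049 D43643) (tt N6557 (iv7 D20641)))
theorem Q13512 : ∀ i, i < 13512 → P i := stepQ 13511 Q13511 (allL N13511 (tt N14397 F292962) (tt N14401 F292963) (tt N14070 (iv2 F293233)) (tt N13587 (iv3 F293949)) (tt N6559 F32761) (tt N27050 D43646) (tt N6558 (iv6 D20642)) (tt N26338 F292964))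
theorem Q13513 : ∀ i, i < 13513 → P i := stepQ 13512 Q13512 (allL N13512 (tt N12825 (iv1 F62547)) (tt N12824 F62504) (tt N12827 F62505) (tt N27051 D43651) (tt N6560 (iv4 D20647)) (tt N27052 D43652) (tt N12808 F62506) (tt N7096 F62507))
theorem Q13514 : ∀ i, i < 13514 → P i := stepQ 13513 Q13513 (allL N13513 (tt N12849 F62726) (tt N6962 (iv0 F62730)) (tt N6562 F32765) (tt N27053 D43654) (tt N6561 (iv4 D20655)) (tt N27054 D43655) (tt N12714 F292470) (tt N12828 F62515))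
theorem Q13515 : ∀ i, i < 13515 → P i := stepQ 13514 Q13514 (allL N13514 (tt N12828 F62514) (tt N6562 (iv0 D20658)) (tt N12849 F62732) (tt N27055 D43659) (tt N26644 F293007) (tt N27056 D43661) (tt N12842 F62733) (tt N6962 F62734))
theorem Q13516 : ∀ i, i < 13516 → P i := stepQ 13515 Q13515 (allL N13515 (tt N27057 D43662) (tt N27058 D43663) (tt N27054 (iv2 F68596)) (tt N14553 (iv3 F36141)) (tt N27059 D43664) (tt N6562 (iv5 D20660)) (tt N27060 D43665) (tt N13516 (iv7 F32819)))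
theorem Q13517 : ∀ i, i < 13517 → P i := stepQ 13516 Q13516 (allL N13516 (tt N27061 D43698) (tt N27062 D43699) (tt N25773 F63074) (tt N14196 (iv3 F65705)) (tt N27063 D43700) (tt N6563 (iv5 D20694)) (tt N27064 D43701) (tt N13515 F32819))
theorem Q13518 : ∀ i, i < 13518 → P i := stepQ 13517 Q13517 (allL N13517 (tt N25848 F62472) (tt N14422 F62473) (tt N25774 F62474) (tt N14197 (iv3 F65707)) (tt N6564 F32820) (tt N27065 D43702) (tt N6563 (iv6 D20695)) (tt N14681 F293503))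
theorem Q13519 : ∀ i, i < 13519 → P i := stepQ 13518 Q13518 (allL N13518 (tt N13098 F62476) (tt N14551 (iv0 F293177)) (tt N25556 F62478) (tt N6565 F32825) (tt N27066 D43711) (tt N6564 (iv5 D20701)) (tt N7091 (iv6 F292379)) (tt N6626 F32827))
theorem Q13520 : ∀ i, i < 13520 → P i := stepQ 13519 Q13519 (allL N13519 (tt N13906 (iv1 F292234)) (tt N27067 D43734) (tt N25775 F66335) (tt N13334 (iv3 F292242)) (tt N6566 (iv4 D20716)) (tt N27068 D43736) (tt N26330 (iv6 F292063)) (tt N13126 F291434))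
theorem Q13521 : ∀ i, i < 13521 → P i := stepQ 13520 Q13520 (allL N13520 (tt N6569 (iv1 D20746)) (tt N13146 F32894) (tt N12887 F32898) (tt N13390 (iv3 F32897)) (tt N13661 (iv4 F33434)) (tt N13145 F32896) (tt N14428 (iv6 F291590)) (tt N13144 F32895))
theorem Q13522 : ∀ i, i < 13522 → P i := stepQ 13521 Q13521 (allL N13521 (tt N7023 F66797) (tt N25648 (iv0 F291126)) (tt N6707 F32899) (tt N6572 F32900) (tt N14610 (iv4 F36431)) (tt N25972 (iv5 F63785)) (tt N6570 (iv6 D20747)) (tt N26379 (iv7 F290978)))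
theorem Q13523 : ∀ i, i < 13523 → P i := stepQ 13522 Q13522 (allL N13522 (tt N13594 (iv1 F33053)) (tt N6572 (iv0 D20748)) (tt N13592 (iv2 F66837)) (tt N13790 (iv3 F66803)) (tt N13441 F66802) (tt N25606 (iv5 F290847)) (tt N27069 D43826) (tt N13593 (iv7 F66844)))
theorem Q13524 : ∀ i, i < 13524 → P i := stepQ 13523 Q13523 (allL N13523 (tt N27070 D43827) (tt N13280 F290760) (tt N13496 F32901) (tt N25972 (iv3 F63784)) (tt N26466 (iv4 F65273)) (tt N6572 (iv5 D20750)) (tt N6573 F32902) (tt N26889 F290761))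
theorem Q13525 : ∀ i, i < 13525 → P i := stepQ 13524 Q13524 (allL N13524 (tt N13593 (iv1 F33046)) (tt N13592 F33051) (tt N13594 (iv2 F33047)) (tt N26379 (iv3 F290977)) (tt N13240 F32903) (tt N26889 (iv5 F290730)) (tt N13591 (iv6 F33042)) (tt N6572 (iv7 D20751)))
theorem Q13526 : ∀ i, i < 13526 → P i := stepQ 13525 Q13525 (allL N13525 (tt N27071 D43829) (tt N27072 D43830) (tt N27073 D43831) (tt N6574 (iv3 D20752)) (tt N25581 (iv4 F61571)) (tt N27074 D43832) (tt N26500 (iv6 F65377)) (tt N13176 F32904))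
theorem Q13527 : ∀ i, i < 13527 → P i := stepQ 13526 Q13526 (allL N13526 (tt N26002 (iv1 F63877)) (tt N26075 (iv0 F293450)) (tt N13301 F32905) (tt N27074 (iv3 F68898)) (tt N26463 (iv4 F65261)) (tt N6574 (iv5 D20753)) (tt N27075 D43833) (tt N13177 F32906))
theorem Q13528 : ∀ i, i < 13528 → P i := stepQ 13527 Q13527 (allL N13527 (tt N12633 F59750) (tt N23985 (iv0 F296726)) (tt N6801 F32907) (tt N6699 F32908) (tt N12193 F32909) (tt N6808 F32910) (tt N6575 (iv6 D20754)) (tt N23979 (iv7 F296865)))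
theorem Q13529 : ∀ i, i < 13529 → P i := stepQ 13528 Q13528 (allL N13528 (tt N6577 (iv1 F32914)) (tt N6577 (iv0 D20758)) (tt N13595 F68082) (tt N27076 D43834) (tt N27077 D43835) (tt N26551 F68080) (tt N27078 D43836) (tt N13595 F68083))
theorem Q13530 : ∀ i, i < 13530 → P i := stepQ 13529 Q13529 (allL N13529 (tt N26434 (iv1 F77512)) (tt N26434 (iv0 F77511)) (tt N13548 (iv2 F32951)) (tt N6578 F32915) (tt N13548 (iv4 F32952)) (tt N6577 (iv5 D20759)) (tt N27079 D43838) (tt N13548 (iv7 F32954)))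
theorem Q13531 : ∀ i, i < 13531 → P i := stepQ 13530 Q13530 (allL N13530 (tt N27080 D43839) (tt N27081 D43840) (tt N13596 (iv2 F33055)) (tt N6579 F32916) (tt N13530 F32917) (tt N27082 D43841) (tt N6577 (iv6 D20760)) (tt N27083 D43842))
theorem Q13532 : ∀ i, i < 13532 → P i := stepQ 13531 Q13531 (allL N13531 (tt N19443 F65507) (tt N21936 F65519) (tt N6588 F32918) (tt N27079 (iv3 F68907)) (tt N6614 F32919) (tt N27084 D43843) (tt N6578 (iv6 D20761)) (tt N27085 D43844))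
theorem Q13533 : ∀ i, i < 13533 → P i := stepQ 13532 Q13532 (allL N13532 (tt N6592 (iv1 F32924)) (tt N6579 (iv0 D20762)) (tt N6589 F63408) (tt N27086 D43845) (tt N6680 (iv4 F32926)) (tt N27087 D43846) (tt N26968 (iv6 F68320)) (tt N6590 F63409))
theorem Q13534 : ∀ i, i < 13534 → P i := stepQ 13533 Q13533 (allL N13533 (tt N6579 (iv1 D20763)) (tt N6592 F32920) (tt N6590 F63411) (tt N27088 D43847) (tt N13951 (iv4 F65857)) (tt N27089 D43848) (tt N27090 D43849) (tt N6589 F63412))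
theorem Q13535 : ∀ i, i < 13535 → P i := stepQ 13534 Q13534 (allL N13534 (tt N27091 D43850) (tt N26579 (iv0 F65555)) (tt N6591 F32921) (tt N27082 (iv3 F68908)) (tt N27092 D43851) (tt N6579 (iv5 D20764)) (tt N27084 (iv6 F68912)) (tt N27093 D43852))
theorem Q13536 : ∀ i, i < 13536 → P i := stepQ 13535 Q13535 (allL N13535 (tt N6590 (iv1 F32925)) (tt N6589 F32927) (tt N6592 F32922) (tt N27083 (iv3 F68909)) (tt N6582 F32923) (tt N27093 (iv5 F68934)) (tt N13357 (iv6 F291873)) (tt N6579 (iv7 D20765)))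
theorem Q13537 : ∀ i, i < 13537 → P i := stepQ 13536 Q13536 (allL N13536 (tt N26011 (iv1 F291090)) (tt N12991 F65962) (tt N6594 F35734) (tt N27094 D43853) (tt N6580 (iv4 D20768)) (tt N27095 D43854) (tt N27009 (iv6 F68444)) (tt N6598 F35735))
theorem Q13538 : ∀ i, i < 13538 → P i := stepQ 13537 Q13537 (allL N13537 (tt N12685 F66236) (tt N24430 F66237) (tt N24429 F66281) (tt N6581 (iv3 D20771)) (tt N6677 F32943) (tt N13271 F32942) (tt N27096 D43856) (tt N6593 F35747))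
theorem Q13539 : ∀ i, i < 13539 → P i := stepQ 13538 Q13538 (allL N13538 (tt N12991 F65958) (tt N26011 F291175) (tt N6598 F35748) (tt N27097 D43857) (tt N6581 (iv4 D20772)) (tt N27098 D43858) (tt N27099 D43859) (tt N6594 F35749))
theorem Q13540 : ∀ i, i < 13540 → P i := stepQ 13539 Q13539 (allL N13539 (tt N14247 F291176) (tt N12707 (iv0 F35686)) (tt N6600 F35750) (tt N27096 (iv3 F68948)) (tt N27099 (iv4 F68957)) (tt N12914 F291177) (tt N6581 (iv6 D20773)) (tt N13082 (iv7 F291522)))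
theorem Q13541 : ∀ i, i < 13541 → P i := stepQ 13540 Q13540 (allL N13540 (tt N13600 (iv1 F33091)) (tt N6583 (iv0 D20774)) (tt N13599 F34106) (tt N13605 F33513) (tt N27100 D43860) (tt N19468 F47734) (tt N27101 D43861) (tt N13598 F34102))
theorem Q13542 : ∀ i, i < 13542 → P i := stepQ 13541 Q13541 (allL N13541 (tt N6583 (iv1 D20775)) (tt N13600 F33093) (tt N13598 (iv2 F34105)) (tt N27102 D43862) (tt N27103 D43863) (tt N21970 (iv5 F52297)) (tt N27104 D43864) (tt N13599 (iv7 F34107)))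
theorem Q13543 : ∀ i, i < 13543 → P i := stepQ 13542 Q13542 (allL N13542 (tt N27105 D43865) (tt N27106 D43866) (tt N23232 (iv2 F55271)) (tt N6584 F32947) (tt N26091 (iv4 F64177)) (tt N23226 (iv5 F55257)) (tt N6583 (iv6 D20776)) (tt N27107 D43867))
theorem Q13544 : ∀ i, i < 13544 → P i := stepQ 13543 Q13543 (allL N13543 (tt N27108 D43868) (tt N25937 (iv0 F63632)) (tt N13607 (iv2 F33114)) (tt N23226 (iv3 F55256)) (tt N27109 D43869) (tt N6584 (iv5 D20779)) (tt N23174 (iv6 F55126)) (tt N27110 D43870))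
theorem Q13545 : ∀ i, i < 13545 → P i := stepQ 13544 Q13544 (allL N13544 (tt N13187 (iv1 F63212)) (tt N12705 (iv0 F63209)) (tt N13608 (iv2 F33117)) (tt N27107 (iv3 F68969)) (tt N13368 F32948) (tt N27110 (iv5 F68972)) (tt N13603 (iv6 F33099)) (tt N6584 (iv7 D20780)))
theorem Q13546 : ∀ i, i < 13546 → P i := stepQ 13545 Q13545 (allL N13545 (tt N27111 D43871) (tt N27112 D43872) (tt N23257 (iv2 F55314)) (tt N6586 F32949) (tt N13863 (iv4 F34026)) (tt N27113 D43873) (tt N6585 (iv6 D20781)) (tt N27114 D43874))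
theorem Q13547 : ∀ i, i < 13547 → P i := stepQ 13546 Q13546 (allL N13546 (tt N14480 F291097) (tt N27115 D43876) (tt N13602 (iv2 F33096)) (tt N27113 (iv3 F68975)) (tt N27116 D43877) (tt N6586 (iv5 D20784)) (tt N26936 (iv6 F68287)) (tt N27117 D43878))
theorem Q13548 : ∀ i, i < 13548 → P i := stepQ 13547 Q13547 (allL N13547 (tt N13103 (iv1 F63359)) (tt N13169 (iv0 F63356)) (tt N13603 (iv2 F33097)) (tt N27114 (iv3 F68977)) (tt N13394 F32950) (tt N27117 (iv5 F68981)) (tt N13608 (iv6 F33119)) (tt N6586 (iv7 D20785)))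
theorem Q13549 : ∀ i, i < 13549 → P i := stepQ 13548 Q13548 (allL N13548 (tt N26840 (iv1 F77510)) (tt N26840 (iv0 F77509)) (tt N13529 F32951) (tt N6587 (iv3 D20786)) (tt N13529 F32952) (tt N6608 F32953) (tt N27118 D43880) (tt N13529 F32954))
theorem Q13550 : ∀ i, i < 13550 → P i := stepQ 13549 Q13549 (allL N13549 (tt N15010 F65523) (tt N27119 D43881) (tt N6614 F32955) (tt N27118 (iv3 F68984)) (tt N6588 F32956) (tt N27120 D43882) (tt N6587 (iv6 D20787)) (tt N27121 D43883))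
theorem Q13551 : ∀ i, i < 13551 → P i := stepQ 13550 Q13550 (allL N13550 (tt N27085 (iv1 F68916)) (tt N6588 (iv0 D20788)) (tt N19443 (iv2 F65516)) (tt N21941 F65518) (tt N27122 D43884) (tt N27123 D43885) (tt N27124 D43886) (tt N21936 (iv7 F65517)))
theorem Q13552 : ∀ i, i < 13552 → P i := stepQ 13551 Q13551 (allL N13551 (tt N6588 (iv1 D20789)) (tt N27085 F68915) (tt N21936 F65511) (tt N7171 F65512) (tt N7922 F65513) (tt N27125 D43887) (tt N7169 F65514) (tt N19443 F65515))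
theorem Q13553 : ∀ i, i < 13553 → P i := stepQ 13552 Q13552 (allL N13552 (tt N27126 D43888) (tt N27127 D43889) (tt N27084 (iv2 F68911)) (tt N13611 (iv3 F33123)) (tt N27128 D43890) (tt N6588 (iv5 D20790)) (tt N6591 F32957) (tt N27129 D43891))
theorem Q13554 : ∀ i, i < 13554 → P i := stepQ 13553 Q13553 (allL N13553 (tt N21936 (iv1 F65520)) (tt N19443 F65522) (tt N27085 (iv2 F68913)) (tt N13612 (iv3 F33125)) (tt N27121 (iv4 F68995)) (tt N27129 (iv5 F69010)) (tt N13612 (iv6 F33126)) (tt N6588 (iv7 D20791)))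
theorem Q13555 : ∀ i, i < 13555 → P i := stepQ 13554 Q13554 (allL N13554 (tt N27130 D43892) (tt N27104 F157249) (tt N27131 D43894) (tt N6589 (iv3 D20793)) (tt N26661 F294675) (tt N27132 D43896) (tt N27133 D43897) (tt N27088 (iv7 F68924)))
theorem Q13556 : ∀ i, i < 13556 → P i := stepQ 13555 Q13555 (allL N13555 (tt N27134 D43898) (tt N14497 F292768) (tt N27087 (iv2 F68920)) (tt N27132 (iv3 F69016)) (tt N27135 D43900) (tt N6589 (iv5 D20795)) (tt N27136 D43901) (tt N27089 (iv7 F68926)))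
theorem Q13557 : ∀ i, i < 13557 → P i := stepQ 13556 Q13556 (allL N13556 (tt N14195 F291336) (tt N14198 (iv0 F291868)) (tt N26968 F68321) (tt N27133 (iv3 F69017)) (tt N26087 (iv4 F65918)) (tt N26851 F67998) (tt N6589 (iv6 D20796)) (tt N26964 (iv7 F68326)))
theorem Q13558 : ∀ i, i < 13558 → P i := stepQ 13557 Q13557 (allL N13557 (tt N23255 (iv1 F157586)) (tt N27137 D43904) (tt N27138 D43905) (tt N6590 (iv3 D20798)) (tt N27139 D43906) (tt N27140 D43907) (tt N27141 D43908) (tt N27086 (iv7 F68919)))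
theorem Q13559 : ∀ i, i < 13559 → P i := stepQ 13558 Q13558 (allL N13558 (tt N14497 F292769) (tt N27134 F69019) (tt N27089 (iv2 F68925)) (tt N27140 (iv3 F69031)) (tt N27142 D43909) (tt N6590 (iv5 D20800)) (tt N27143 D43910) (tt N27087 (iv7 F68921)))
theorem Q13560 : ∀ i, i < 13560 → P i := stepQ 13559 Q13559 (allL N13559 (tt N27144 D43911) (tt N26807 (iv0 F69040)) (tt N27090 (iv2 F68928)) (tt N27141 (iv3 F69032)) (tt N26088 (iv4 F65912)) (tt N27145 D43913) (tt N6590 (iv6 D20801)) (tt N27146 D43914))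
theorem Q13561 : ∀ i, i < 13561 → P i := stepQ 13560 Q13560 (allL N13560 (tt N27093 (iv1 F68936)) (tt N6591 (iv0 D20802)) (tt N27091 F68929) (tt N27147 D43915) (tt N27148 D43916) (tt N25953 (iv5 F65920)) (tt N27149 D43917) (tt N26579 (iv7 F65925)))
theorem Q13562 : ∀ i, i < 13562 → P i := stepQ 13561 Q13561 (allL N13561 (tt N6591 (iv1 D20803)) (tt N27093 F68935) (tt N26579 (iv2 F65554)) (tt N27150 D43918) (tt N27151 D43919) (tt N25954 (iv5 F63684)) (tt N27152 D43920) (tt N27091 (iv7 F68930)))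
theorem Q13563 : ∀ i, i < 13563 → P i := stepQ 13562 Q13562 (allL N13562 (tt N27153 D43921) (tt N27154 D43922) (tt N27092 (iv2 F68932)) (tt N27155 D43923) (tt N6591 (iv4 D20804)) (tt N27156 D43924) (tt N27128 (iv6 F69009)) (tt N27157 D43925))
theorem Q13564 : ∀ i, i < 13564 → P i := stepQ 13563 Q13563 (allL N13563 (tt N26579 (iv1 F65556)) (tt N27091 F68931) (tt N27093 (iv2 F68933)) (tt N13360 F293658) (tt N27157 (iv4 F69047)) (tt N6592 F32961) (tt N27158 D43926) (tt N6591 (iv7 D20805)))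
theorem Q13565 : ∀ i, i < 13565 → P i := stepQ 13564 Q13564 (allL N13564 (tt N24429 F66200) (tt N6593 (iv0 D20812)) (tt N24430 F66201) (tt N6601 F65891) (tt N13749 F65892) (tt N13564 F65893) (tt N12718 (iv6 F291827)) (tt N12685 F66203))
theorem Q13566 : ∀ i, i < 13566 → P i := stepQ 13565 Q13565 (allL N13565 (tt N24430 F66246) (tt N12685 F66247) (tt N6593 (iv2 D20814)) (tt N12115 F66213) (tt N6676 F35773) (tt N25899 F66248) (tt N27159 D43927) (tt N24429 F66282))
theorem Q13567 : ∀ i, i < 13567 → P i := stepQ 13566 Q13566 (allL N13566 (tt N6679 F32970) (tt N6651 (iv0 F32972)) (tt N6676 F35768) (tt N27160 D43928) (tt N6593 (iv4 D20815)) (tt N27161 D43929) (tt N26721 F291147) (tt N6677 F35769))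
theorem Q13568 : ∀ i, i < 13568 → P i := stepQ 13567 Q13567 (allL N13567 (tt N13347 (iv1 F293954)) (tt N25892 F66290) (tt N25899 (iv2 F66249)) (tt N6595 F32973) (tt N25919 F293035) (tt N6593 (iv5 D20816)) (tt N14477 F290635) (tt N13271 F35770))
theorem Q13569 : ∀ i, i < 13569 → P i := stepQ 13568 Q13568 (allL N13568 (tt N14152 F291145) (tt N14154 (iv0 F291484)) (tt N27159 (iv2 F69050)) (tt N6596 F32974) (tt N26721 F291146) (tt N25749 F66315) (tt N6593 (iv6 D20817)) (tt N26999 (iv7 F68413)))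
theorem Q13570 : ∀ i, i < 13570 → P i := stepQ 13569 Q13569 (allL N13569 (tt N6598 (iv1 F32980)) (tt N6594 (iv0 D20819)) (tt N26011 (iv2 F291091)) (tt N27162 D43935) (tt N12994 F65790) (tt N27163 D43936) (tt N13294 (iv6 F291181)) (tt N12991 F65792))
theorem Q13571 : ∀ i, i < 13571 → P i := stepQ 13570 Q13570 (allL N13570 (tt N27164 D43937) (tt N26785 (iv0 F178338)) (tt N27165 D43939) (tt N6594 (iv3 D20821)) (tt N27160 (iv4 F69053)) (tt N27166 D43940) (tt N27167 D43941) (tt N27097 (iv7 F68953)))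
theorem Q13572 : ∀ i, i < 13572 → P i := stepQ 13571 Q13571 (allL N13571 (tt N27168 D43942) (tt N27169 D43943) (tt N27095 (iv2 F68940)) (tt N27166 (iv3 F69072)) (tt N27170 D43944) (tt N6594 (iv5 D20822)) (tt N27171 D43945) (tt N27098 (iv7 F68955)))
theorem Q13573 : ∀ i, i < 13573 → P i := stepQ 13572 Q13572 (allL N13572 (tt N26825 F67881) (tt N27172 D43946) (tt N27009 (iv2 F68443)) (tt N27167 (iv3 F69073)) (tt N6596 F32977) (tt N27173 D43947) (tt N6594 (iv6 D20823)) (tt N27003 (iv7 F68423)))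
theorem Q13574 : ∀ i, i < 13574 → P i := stepQ 13573 Q13573 (allL N13573 (tt N27174 D43949) (tt N26885 F68120) (tt N14683 F292485) (tt N27175 D43950) (tt N6595 (iv4 D20827)) (tt N27176 D43951) (tt N14478 F290571) (tt N13275 F35780))
theorem Q13575 : ∀ i, i < 13575 → P i := stepQ 13574 Q13574 (allL N13574 (tt N26752 (iv1 F293534)) (tt N25872 F66076) (tt N25608 (iv2 F66292)) (tt N6599 F32992) (tt N14184 F65838) (tt N6597 (iv5 D20838)) (tt N12793 F66077) (tt N14682 (iv7 F293536)))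
theorem Q13576 : ∀ i, i < 13576 → P i := stepQ 13575 Q13575 (allL N13575 (tt N27177 D43954) (tt N25551 (iv0 F74584)) (tt N25609 F66298) (tt N6600 F32994) (tt N26107 (iv4 F65934)) (tt N13083 F290654) (tt N6597 (iv6 D20839)) (tt N26812 (iv7 F290822)))
theorem Q13577 : ∀ i, i < 13577 → P i := stepQ 13576 Q13576 (allL N13576 (tt N26814 (iv1 F69112)) (tt N26010 F292497) (tt N27178 D43960) (tt N6598 (iv3 D20840)) (tt N26105 (iv4 F65933)) (tt N27179 D43961) (tt N27180 D43962) (tt N27094 (iv7 F68938)))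
theorem Q13578 : ∀ i, i < 13578 → P i := stepQ 13577 Q13577 (allL N13577 (tt N27169 (iv1 F69076)) (tt N27168 F69075) (tt N27098 (iv2 F68954)) (tt N27179 (iv3 F69113)) (tt N27181 D43963) (tt N6598 (iv5 D20841)) (tt N27182 D43964) (tt N27095 (iv7 F68941)))
theorem Q13579 : ∀ i, i < 13579 → P i := stepQ 13578 Q13578 (allL N13578 (tt N27183 D43965) (tt N26798 (iv0 F135490)) (tt N27099 (iv2 F68956)) (tt N27180 (iv3 F69114)) (tt N6600 F32995) (tt N27184 D43967) (tt N6598 (iv6 D20842)) (tt N27185 D43968))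
theorem Q13580 : ∀ i, i < 13580 → P i := stepQ 13579 Q13579 (allL N13579 (tt N26885 (iv1 F68947)) (tt N27174 F69087) (tt N13275 (iv2 F35774)) (tt N27186 D43969) (tt N6599 (iv4 D20843)) (tt N27187 D43970) (tt N13197 F32996) (tt N14683 (iv7 F291557)))
theorem Q13581 : ∀ i, i < 13581 → P i := stepQ 13580 Q13580 (allL N13580 (tt N13082 (iv1 F291519)) (tt N6600 (iv0 D20844)) (tt N14247 F291253) (tt N6605 F35714) (tt N27144 (iv4 F69033)) (tt N7114 (iv5 F35718)) (tt N7093 (iv6 F292016)) (tt N12707 F35715))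
theorem Q13582 : ∀ i, i < 13582 → P i := stepQ 13581 Q13581 (allL N13581 (tt N12707 (iv1 F35767)) (tt N14247 F291255) (tt N13082 (iv2 F291520)) (tt N26812 F291256) (tt N27185 (iv4 F69120)) (tt N12913 F291257) (tt N13079 F291258) (tt N6600 (iv7 D20847)))
theorem Q13583 : ∀ i, i < 13583 → P i := stepQ 13582 Q13582 (allL N13582 (tt N12758 (iv1 F66223)) (tt N12757 (iv0 F66222)) (tt N12760 F66204) (tt N27188 D43988) (tt N6601 (iv4 D20879)) (tt N27189 D43989) (tt N12719 (iv6 F293861)) (tt N12688 F66206))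
theorem Q13584 : ∀ i, i < 13584 → P i := stepQ 13583 Q13583 (allL N13583 (tt N6793 F65812) (tt N13506 F294659) (tt N6603 F33024) (tt N27190 D43990) (tt N6602 (iv4 D20882)) (tt N27191 D43991) (tt N27192 D43992) (tt N12761 (iv7 F66172)))
theorem Q13585 : ∀ i, i < 13585 → P i := stepQ 13584 Q13584 (allL N13584 (tt N14602 F291396) (tt N12700 F66151) (tt N6604 F33028) (tt N13584 F33029) (tt N27192 (iv4 F69193)) (tt N6664 F291397) (tt N6602 (iv6 D20883)) (tt N13870 F291398))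
theorem Q13586 : ∀ i, i < 13586 → P i := stepQ 13585 Q13585 (allL N13585 (tt N6603 (iv1 D20885)) (tt N12761 F66209) (tt N13506 F293862) (tt N27193 D43995) (tt N6796 F65808) (tt N26702 (iv5 F294737)) (tt N13498 (iv6 F294230)) (tt N6793 F65810))
theorem Q13587 : ∀ i, i < 13587 → P i := stepQ 13586 Q13586 (allL N13586 (tt N27194 D43997) (tt N25855 (iv0 F66260)) (tt N27191 (iv2 F69188)) (tt N13510 F294665) (tt N27195 D43998) (tt N6603 (iv5 D20886)) (tt N27196 D43999) (tt N13507 F294666))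
theorem Q13588 : ∀ i, i < 13588 → P i := stepQ 13587 Q13587 (allL N13587 (tt N27197 D44000) (tt N26239 (iv0 F65938)) (tt N27192 (iv2 F69192)) (tt N13511 F293949) (tt N6604 F33033) (tt N27198 D44001) (tt N6603 (iv6 D20887)) (tt N26337 F291416))
theorem Q13589 : ∀ i, i < 13589 → P i := stepQ 13588 Q13588 (allL N13588 (tt N13870 F290959) (tt N6604 (iv0 D20888)) (tt N14602 (iv2 F291210)) (tt N27199 D44003) (tt N27200 D44004) (tt N7109 F66192) (tt N13754 (iv6 F291493)) (tt N12700 F66193))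
theorem Q13590 : ∀ i, i < 13590 → P i := stepQ 13589 Q13589 (allL N13589 (tt N6604 (iv1 D20889)) (tt N13870 F291413) (tt N12700 F66194) (tt N26777 (iv3 F67683)) (tt N27201 D44005) (tt N7063 F291414) (tt N12678 F66196) (tt N14602 F291415))
theorem Q13591 : ∀ i, i < 13591 → P i := stepQ 13590 Q13590 (allL N13590 (tt N7012 (iv1 F63133)) (tt N6606 (iv0 D20892)) (tt N6881 F63114) (tt N7000 F63115) (tt N13230 F63116) (tt N27202 D44006) (tt N14448 F63117) (tt N7013 F63118))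
theorem Q13592 : ∀ i, i < 13592 → P i := stepQ 13591 Q13591 (allL N13591 (tt N7013 (iv1 F63132)) (tt N6881 (iv0 F63129)) (tt N7012 (iv2 F63134)) (tt N13933 (iv3 F34349)) (tt N12897 (iv4 F63138)) (tt N13368 F33041) (tt N13524 F33042) (tt N6606 (iv7 D20894)))
theorem Q13593 : ∀ i, i < 13593 → P i := stepQ 13592 Q13592 (allL N13592 (tt N13524 (iv1 F33051)) (tt N6607 (iv0 D20895)) (tt N13522 F66837) (tt N6780 F66838) (tt N13215 F66839) (tt N13389 (iv5 F290661)) (tt N26668 F290618) (tt N7026 F66840))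
theorem Q13594 : ∀ i, i < 13594 → P i := stepQ 13593 Q13593 (allL N13593 (tt N6607 (iv1 D20896)) (tt N13524 F33046) (tt N7026 F66843) (tt N25648 (iv3 F291128)) (tt N13216 F66845) (tt N12735 (iv5 F291228)) (tt N13386 F290935) (tt N13522 F66844))
theorem Q13595 : ∀ i, i < 13595 → P i := stepQ 13594 Q13594 (allL N13594 (tt N7026 F66798) (tt N13522 F33053) (tt N13524 F33047) (tt N6640 F33048) (tt N13456 F33049) (tt N14624 F290934) (tt N7012 F63169) (tt N6607 (iv7 D20897)))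
theorem Q13596 : ∀ i, i < 13596 → P i := stepQ 13595 Q13595 (allL N13595 (tt N6608 (iv1 F33054)) (tt N6608 (iv0 D20898)) (tt N13528 (iv2 F68082)) (tt N27203 D44011) (tt N27204 D44012) (tt N26436 (iv5 F68081)) (tt N27205 D44013) (tt N13528 (iv7 F68083)))
theorem Q13597 : ∀ i, i < 13597 → P i := stepQ 13596 Q13596 (allL N13596 (tt N27206 D44014) (tt N27207 D44015) (tt N13530 F33055) (tt N6609 F33056) (tt N13596 F33057) (tt N27208 D44016) (tt N6608 (iv6 D20899)) (tt N26769 F293968))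
theorem Q13598 : ∀ i, i < 13598 → P i := stepQ 13597 Q13597 (allL N13597 (tt N14493 F292609) (tt N14491 F292610) (tt N6617 F33059) (tt N27208 (iv3 F69257)) (tt N23815 F292611) (tt N6609 (iv5 D20902)) (tt N27120 (iv6 F68993)) (tt N26770 F292612))
theorem Q13599 : ∀ i, i < 13599 → P i := stepQ 13598 Q13598 (allL N13598 (tt N11426 (iv1 F33086)) (tt N6610 (iv0 D20918)) (tt N13541 F34105) (tt N11437 F34101) (tt N27209 D44045) (tt N21158 F50227) (tt N27210 D44046) (tt N13540 (iv7 F34102)))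
theorem Q13600 : ∀ i, i < 13600 → P i := stepQ 13599 Q13599 (allL N13599 (tt N6610 (iv1 D20919)) (tt N11426 F33092) (tt N13540 (iv2 F34106)) (tt N27211 D44047) (tt N26023 (iv4 F63907)) (tt N26915 (iv5 F68231)) (tt N27212 D44048) (tt N13541 F34107))
theorem Q13601 : ∀ i, i < 13601 → P i := stepQ 13600 Q13600 (allL N13600 (tt N13541 (iv1 F33093)) (tt N13540 F33091) (tt N6610 (iv2 D20920)) (tt N11440 F33087) (tt N12995 F33088) (tt N11427 F33089) (tt N27213 D44049) (tt N11426 F33090))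
theorem Q13602 : ∀ i, i < 13602 → P i := stepQ 13601 Q13601 (allL N13601 (tt N27214 D44050) (tt N27215 D44051) (tt N27213 (iv2 F69356)) (tt N6611 F33094) (tt N14048 (iv4 F34600)) (tt N27216 D44052) (tt N6610 (iv6 D20921)) (tt N27217 D44053))
theorem Q13603 : ∀ i, i < 13603 → P i := stepQ 13602 Q13602 (allL N13602 (tt N27218 D44054) (tt N27219 D44055) (tt N13546 F33096) (tt N27216 (iv3 F69359)) (tt N27220 D44056) (tt N6611 (iv5 D20924)) (tt N26550 (iv6 F65481)) (tt N27221 D44057))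
theorem Q13604 : ∀ i, i < 13604 → P i := stepQ 13603 Q13603 (allL N13603 (tt N13404 (iv1 F63423)) (tt N13102 (iv0 F63424)) (tt N13547 F33097) (tt N27217 (iv3 F69361)) (tt N13156 F33098) (tt N27221 (iv5 F69374)) (tt N13544 F33099) (tt N6611 (iv7 D20925)))
theorem Q13605 : ∀ i, i < 13605 → P i := stepQ 13604 Q13604 (allL N13604 (tt N11440 (iv1 F33103)) (tt N6612 (iv0 D20926)) (tt N11437 (iv2 F33108)) (tt N27222 D44058) (tt N13719 (iv4 F34056)) (tt N16313 (iv5 F40323)) (tt N27223 D44059) (tt N11438 (iv7 F33109)))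
theorem Q13606 : ∀ i, i < 13606 → P i := stepQ 13605 Q13605 (allL N13605 (tt N6612 (iv1 D20927)) (tt N11440 F33104) (tt N11438 F33106) (tt N13540 (iv3 F33513)) (tt N13720 (iv4 F33512)) (tt N11808 (iv5 F33105)) (tt N27224 D44060) (tt N11437 F33107))
theorem Q13607 : ∀ i, i < 13607 → P i := stepQ 13606 Q13606 (allL N13606 (tt N27225 D44061) (tt N27226 D44062) (tt N11430 F33110) (tt N6613 F33111) (tt N13690 (iv4 F33479)) (tt N11392 F33112) (tt N6612 (iv6 D20928)) (tt N27227 D44063))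
theorem Q13608 : ∀ i, i < 13608 → P i := stepQ 13607 Q13607 (allL N13607 (tt N25940 (iv1 F63640)) (tt N27228 D44064) (tt N13543 F33114) (tt N11392 F33115) (tt N27229 D44065) (tt N6613 (iv5 D20931)) (tt N11391 F33116) (tt N27230 D44066))
theorem Q13609 : ∀ i, i < 13609 → P i := stepQ 13608 Q13608 (allL N13608 (tt N12708 F63213) (tt N13382 F63214) (tt N13544 F33117) (tt N27227 (iv3 F69386)) (tt N13070 F63215) (tt N27230 (iv5 F69402)) (tt N13547 F33119) (tt N6613 (iv7 D20932)))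
theorem Q13610 : ∀ i, i < 13610 → P i := stepQ 13609 Q13609 (allL N13609 (tt N27121 (iv1 F68998)) (tt N6614 (iv0 D20933)) (tt N15010 (iv2 F65524)) (tt N19052 F65525) (tt N27231 D44067) (tt N27232 D44068) (tt N27233 D44069) (tt N27119 (iv7 F68987)))
theorem Q13611 : ∀ i, i < 13611 → P i := stepQ 13610 Q13610 (allL N13610 (tt N6614 (iv1 D20934)) (tt N27121 F68997) (tt N27119 F68988) (tt N7287 F65508) (tt N15178 F65509) (tt N27234 D44070) (tt N27235 D44071) (tt N15010 F65510))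
theorem Q13612 : ∀ i, i < 13612 → P i := stepQ 13611 Q13611 (allL N13611 (tt N27236 D44072) (tt N27237 D44073) (tt N27120 (iv2 F68992)) (tt N13552 F33123) (tt N27238 D44074) (tt N6614 (iv5 D20935)) (tt N6617 F33124) (tt N27239 D44075))
theorem Q13613 : ∀ i, i < 13613 → P i := stepQ 13612 Q13612 (allL N13612 (tt N27119 (iv1 F68986)) (tt N15010 (iv0 F68917)) (tt N27121 (iv2 F68994)) (tt N13553 F33125) (tt N27085 (iv4 F68914)) (tt N27239 (iv5 F69420)) (tt N13553 F33126) (tt N6614 (iv7 D20936)))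
theorem Q13614 : ∀ i, i < 13614 → P i := stepQ 13613 Q13613 (allL N13613 (tt N27240 D44076) (tt N27212 F157561) (tt N27241 D44078) (tt N6615 (iv3 D20938)) (tt N25675 F62855) (tt N27242 D44079) (tt N27243 D44080) (tt N26771 F293805))
theorem Q13615 : ∀ i, i < 13615 → P i := stepQ 13614 Q13614 (allL N13614 (tt N24911 (iv1 F292603)) (tt N7039 F291757) (tt N26298 F291758) (tt N27242 (iv3 F69422)) (tt N24897 F291759) (tt N6615 (iv5 D20940)) (tt N27244 D44084) (tt N26297 F291760))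
theorem Q13616 : ∀ i, i < 13616 → P i := stepQ 13615 Q13615 (allL N13615 (tt N26431 F69429) (tt N14608 F294145) (tt N26597 F65570) (tt N27243 (iv3 F69423)) (tt N14038 (iv4 F62941)) (tt N26452 F65175) (tt N6615 (iv6 D20941)) (tt N26593 (iv7 F65575)))
theorem Q13617 : ∀ i, i < 13617 → P i := stepQ 13616 Q13616 (allL N13616 (tt N27223 F157256) (tt N27245 D44087) (tt N27246 D44088) (tt N6616 (iv3 D20943)) (tt N26368 (iv4 F294185)) (tt N27247 D44090) (tt N27248 D44091) (tt N26773 (iv7 F293640)))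
theorem Q13618 : ∀ i, i < 13618 → P i := stepQ 13617 Q13617 (allL N13617 (tt N7039 F291761) (tt N24911 (iv0 F292602)) (tt N26297 F291762) (tt N27247 (iv3 F69438)) (tt N24896 F291763) (tt N6616 (iv5 D20945)) (tt N27249 D44093) (tt N26298 F291764))
theorem Q13619 : ∀ i, i < 13619 → P i := stepQ 13618 Q13618 (allL N13618 (tt N25567 F63350) (tt N26404 F65058) (tt N26772 (iv2 F291351)) (tt N27248 (iv3 F69439)) (tt N14039 (iv4 F62871)) (tt N25950 (iv5 F63679)) (tt N6616 (iv6 D20946)) (tt N27250 D44094))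
theorem Q13620 : ∀ i, i < 13620 → P i := stepQ 13619 Q13619 (allL N13619 (tt N26770 (iv1 F292532)) (tt N6617 (iv0 D20947)) (tt N14493 (iv2 F291753)) (tt N27251 D44095) (tt N27252 D44096) (tt N13089 F291591) (tt N27253 D44097) (tt N14491 (iv7 F291751)))
theorem Q13621 : ∀ i, i < 13621 → P i := stepQ 13620 Q13620 (allL N13620 (tt N6617 (iv1 D20948)) (tt N26770 (iv0 F292531)) (tt N14491 (iv2 F291750)) (tt N27254 D44098) (tt N27255 D44099) (tt N13090 F291586) (tt N27256 D44100) (tt N14493 (iv7 F291754)))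
theorem Q13622 : ∀ i, i < 13622 → P i := stepQ 13621 Q13621 (allL N13621 (tt N27257 D44101) (tt N27258 D44102) (tt N23815 F292428) (tt N27259 D44103) (tt N6617 (iv4 D20949)) (tt N23811 (iv5 F292639)) (tt N27238 (iv6 F69418)) (tt N26774 F292429))
theorem Q13623 : ∀ i, i < 13623 → P i := stepQ 13622 Q13622 (allL N13622 (tt N25559 (iv1 F71757)) (tt N27260 D44114) (tt N25658 F62922) (tt N6620 F33143) (tt N26353 F64855) (tt N6861 (iv5 F292792)) (tt N6618 (iv6 D20962)) (tt N26645 (iv7 F66373)))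
theorem Q13624 : ∀ i, i < 13624 → P i := stepQ 13623 Q13623 (allL N13623 (tt N27261 D44117) (tt N26388 (iv0 F178357)) (tt N27262 D44119) (tt N6619 (iv3 D20966)) (tt N26749 (iv4 F292636)) (tt N27263 D44120) (tt N27264 D44121) (tt N26292 F291634))
theorem Q13625 : ∀ i, i < 13625 → P i := stepQ 13624 Q13624 (allL N13624 (tt N25989 (iv1 F290992)) (tt N25991 F290717) (tt N12957 (iv2 F290996)) (tt N27263 (iv3 F69460)) (tt N24910 (iv4 F291041)) (tt N6619 (iv5 D20967)) (tt N27265 D44125) (tt N26293 (iv7 F290999)))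
theorem Q13626 : ∀ i, i < 13626 → P i := stepQ 13625 Q13625 (allL N13625 (tt N26267 F64486) (tt N27266 D44126) (tt N6937 (iv2 F291314)) (tt N27264 (iv3 F69461)) (tt N6620 F33146) (tt N27267 D44127) (tt N6619 (iv6 D20968)) (tt N26648 (iv7 F66379)))
theorem Q13627 : ∀ i, i < 13627 → P i := stepQ 13626 Q13626 (allL N13626 (tt N26195 (iv1 F64378)) (tt N26209 (iv0 F64393)) (tt N24484 F62892) (tt N6623 F33159) (tt N14066 (iv4 F63027)) (tt N14486 F292046) (tt N6621 (iv6 D20984)) (tt N26987 (iv7 F68387)))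
theorem Q13628 : ∀ i, i < 13628 → P i := stepQ 13627 Q13627 (allL N13627 (tt N26416 (iv1 F69480)) (tt N27268 D44139) (tt N27269 D44140) (tt N6622 (iv3 D20985)) (tt N14064 (iv4 F63030)) (tt N27270 D44141) (tt N27271 D44142) (tt N12956 (iv7 F292461)))
theorem Q13629 : ∀ i, i < 13629 → P i := stepQ 13628 Q13628 (allL N13628 (tt N25991 F290718) (tt N25989 (iv0 F290991)) (tt N26293 (iv2 F290998)) (tt N27270 (iv3 F69481)) (tt N24909 (iv4 F291043)) (tt N6622 (iv5 D20986)) (tt N27272 D44144) (tt N12957 (iv7 F290997)))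
theorem Q13630 : ∀ i, i < 13630 → P i := stepQ 13629 Q13629 (allL N13629 (tt N27273 D44145) (tt N26270 (iv0 F64488)) (tt N26294 F290831) (tt N27271 (iv3 F69482)) (tt N6623 F33160) (tt N27274 D44146) (tt N6622 (iv6 D20987)) (tt N26998 (iv7 F68404)))
theorem Q13631 : ∀ i, i < 13631 → P i := stepQ 13630 Q13630 (allL N13630 (tt N27275 D44292) (tt N26381 (iv0 F293245)) (tt N25685 F63061) (tt N13765 (iv3 F33629)) (tt N27276 D44294) (tt N6625 (iv5 D21081)) (tt N27277 D44295) (tt N12732 (iv7 F293489)))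
theorem Q13632 : ∀ i, i < 13632 → P i := stepQ 13631 Q13631 (allL N13631 (tt N25858 F63070) (tt N25862 (iv0 F63984)) (tt N25686 F63062) (tt N13766 (iv3 F33631)) (tt N6626 F33278) (tt N27278 D44296) (tt N6625 (iv6 D21082)) (tt N27066 (iv7 F68706)))
theorem Q13633 : ∀ i, i < 13633 → P i := stepQ 13632 Q13632 (allL N13632 (tt N6738 F33385) (tt N6735 F33386) (tt N12020 F33383) (tt N27279 D44474) (tt N6627 (iv4 D21154)) (tt N25655 (iv5 F61812)) (tt N25380 (iv6 F296190)) (tt N12019 F33384))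
theorem Q13634 : ∀ i, i < 13634 → P i := stepQ 13633 Q13633 (allL N13633 (tt N6728 F33391) (tt N6732 F33392) (tt N11999 F33389) (tt N27280 D44479) (tt N6628 (iv4 D21156)) (tt N24268 (iv5 F58236)) (tt N25475 (iv6 F297119)) (tt N12000 F33390))
theorem Q13635 : ∀ i, i < 13635 → P i := stepQ 13634 Q13634 (allL N13634 (tt N6732 F33395) (tt N6728 F33396) (tt N12000 F33393) (tt N27281 D44485) (tt N6629 (iv4 D21158)) (tt N24267 (iv5 F58229)) (tt N27282 D44486) (tt N11999 F33394))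
theorem Q13636 : ∀ i, i < 13636 → P i := stepQ 13635 Q13635 (allL N13635 (tt N24943 (iv1 F121261)) (tt N11697 (iv0 F296365)) (tt N13767 (iv2 F33654)) (tt N11553 F33397) (tt N27282 (iv4 F70003)) (tt N24035 F296063) (tt N6629 (iv6 D21159)) (tt N25474 (iv7 F296366)))
theorem Q13637 : ∀ i, i < 13637 → P i := stepQ 13636 Q13636 (allL N13636 (tt N27283 D44501) (tt N27284 D44502) (tt N11851 F296320) (tt N13957 (iv3 F34412)) (tt N27285 D44503) (tt N6630 (iv5 D21162)) (tt N6633 F33398) (tt N25430 (iv7 F297285)))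
theorem Q13638 : ∀ i, i < 13638 → P i := stepQ 13637 Q13637 (allL N13637 (tt N11843 F33399) (tt N12716 F33400) (tt N13795 (iv2 F33756)) (tt N17825 (iv3 F44557)) (tt N27286 D44505) (tt N6631 (iv5 D21164)) (tt N25476 (iv6 F296166)) (tt N13796 (iv7 F33760)))
theorem Q13639 : ∀ i, i < 13639 → P i := stepQ 13638 Q13638 (allL N13638 (tt N12716 F33402) (tt N11843 F33403) (tt N13796 (iv2 F33759)) (tt N11716 F33401) (tt N27287 D44506) (tt N6632 (iv5 D21165)) (tt N27288 D44507) (tt N13795 (iv7 F33758)))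
theorem Q13640 : ∀ i, i < 13640 → P i := stepQ 13639 Q13639 (allL N13639 (tt N12713 (iv1 F33409)) (tt N6777 (iv0 F33408)) (tt N12715 F33404) (tt N8585 F33405) (tt N13145 F33406) (tt N13641 (iv5 F33413)) (tt N6632 (iv6 D21166)) (tt N11551 F33407))
theorem Q13641 : ∀ i, i < 13641 → P i := stepQ 13640 Q13640 (allL N13640 (tt N11834 (iv1 F33411)) (tt N6633 (iv0 D21167)) (tt N13797 F33763) (tt N17372 (iv3 F42973)) (tt N27289 D44508) (tt N12724 F33410) (tt N27290 D44509) (tt N13798 (iv7 F33767)))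
theorem Q13642 : ∀ i, i < 13642 → P i := stepQ 13641 Q13641 (allL N13641 (tt N6633 (iv1 D21168)) (tt N11834 F33412) (tt N13798 F33769) (tt N11893 (iv3 F33414)) (tt N27291 D44510) (tt N13639 F33413) (tt N27292 D44511) (tt N13797 F33765))
theorem Q13643 : ∀ i, i < 13643 → P i := stepQ 13642 Q13642 (allL N13642 (tt N22897 (iv1 F54616)) (tt N18002 (iv0 F45081)) (tt N13799 (iv2 F33770)) (tt N27293 D44512) (tt N6633 (iv4 D21169)) (tt N27294 D44513) (tt N27285 (iv6 F70009)) (tt N22903 F54629))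
theorem Q13644 : ∀ i, i < 13644 → P i := stepQ 13643 Q13643 (allL N13643 (tt N6749 F33415) (tt N6756 F33416) (tt N13691 F33482) (tt N14262 (iv3 F35138)) (tt N24268 (iv4 F58237)) (tt N6634 (iv5 D21170)) (tt N27295 D44514) (tt N13692 (iv7 F33485)))
theorem Q13645 : ∀ i, i < 13645 → P i := stepQ 13644 Q13644 (allL N13644 (tt N7057 F66025) (tt N7061 F66026) (tt N13774 (iv2 F33674)) (tt N14263 (iv3 F35139)) (tt N13142 F33417) (tt N27296 D44515) (tt N6634 (iv6 D21171)) (tt N27297 D44516))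
theorem Q13646 : ∀ i, i < 13646 → P i := stepQ 13645 Q13645 (allL N13645 (tt N13779 (iv1 F33694)) (tt N6635 (iv0 D21172)) (tt N13778 (iv2 F33689)) (tt N13777 (iv3 F33683)) (tt N11444 F33418) (tt N14889 (iv5 F37361)) (tt N27298 D44517) (tt N13777 F33686))
theorem Q13647 : ∀ i, i < 13647 → P i := stepQ 13646 Q13646 (allL N13646 (tt N6635 (iv1 D21173)) (tt N13779 F33695) (tt N13777 F33685) (tt N27299 D44518) (tt N11441 (iv4 F33419)) (tt N27300 D44519) (tt N27301 D44520) (tt N13778 (iv7 F33687)))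
theorem Q13648 : ∀ i, i < 13648 → P i := stepQ 13647 Q13647 (allL N13647 (tt N13778 (iv1 F33690)) (tt N13777 F33684) (tt N6635 (iv2 D21174)) (tt N13801 (iv3 F33777)) (tt N13453 F33420) (tt N27302 D44521) (tt N27303 D44522) (tt N13779 (iv7 F33693)))
theorem Q13649 : ∀ i, i < 13649 → P i := stepQ 13648 Q13648 (allL N13648 (tt N23181 (iv1 F55143)) (tt N23864 (iv0 F56629)) (tt N27302 (iv2 F70040)) (tt N6636 F33421) (tt N23903 F56736) (tt N6635 (iv5 D21175)) (tt N27304 D44523) (tt N13780 (iv7 F33697)))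
theorem Q13650 : ∀ i, i < 13650 → P i := stepQ 13649 Q13649 (allL N13649 (tt N27305 D44524) (tt N27306 D44525) (tt N27303 (iv2 F70042)) (tt N6637 F33422) (tt N13454 F33423) (tt N27307 D44526) (tt N6635 (iv6 D21176)) (tt N27308 D44527))
theorem Q13651 : ∀ i, i < 13651 → P i := stepQ 13650 Q13650 (allL N13650 (tt N6636 (iv1 D21177)) (tt N6647 F33424) (tt N13782 F33702) (tt N27309 D44528) (tt N25388 (iv4 F296112)) (tt N6655 F33425) (tt N27310 D44529) (tt N13783 (iv7 F33705)))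
theorem Q13652 : ∀ i, i < 13652 → P i := stepQ 13651 Q13651 (allL N13651 (tt N27311 D44530) (tt N27312 D44531) (tt N13804 (iv2 F33784)) (tt N27304 (iv3 F70044)) (tt N9091 F314107) (tt N27313 D44532) (tt N6636 (iv6 D21178)) (tt N27314 D44533))
theorem Q13653 : ∀ i, i < 13653 → P i := stepQ 13652 Q13652 (allL N13652 (tt N13808 (iv1 F33792)) (tt N6637 (iv0 D21179)) (tt N13805 (iv2 F66864)) (tt N27315 D44534) (tt N13205 F66726) (tt N27316 D44535) (tt N27317 D44536) (tt N13806 (iv7 F66781)))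
theorem Q13654 : ∀ i, i < 13654 → P i := stepQ 13653 Q13653 (allL N13653 (tt N6637 (iv1 D21180)) (tt N13808 F33791) (tt N13806 (iv2 F66779)) (tt N27318 D44537) (tt N13206 F66743) (tt N27319 D44538) (tt N26363 (iv6 F291789)) (tt N13805 (iv7 F66865)))
theorem Q13655 : ∀ i, i < 13655 → P i := stepQ 13654 Q13654 (allL N13654 (tt N27320 D44540) (tt N27321 D44541) (tt N13807 (iv2 F33786)) (tt N27307 (iv3 F70045)) (tt N27322 D44542) (tt N6637 (iv5 D21181)) (tt N27313 (iv6 F70052)) (tt N27323 D44543))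
theorem Q13656 : ∀ i, i < 13656 → P i := stepQ 13655 Q13655 (allL N13655 (tt N13806 (iv1 F33785)) (tt N13805 F33790) (tt N13808 (iv2 F33787)) (tt N27308 (iv3 F70046)) (tt N6640 F33426) (tt N27323 (iv5 F70056)) (tt N7115 F63221) (tt N6637 (iv7 D21182)))
theorem Q13657 : ∀ i, i < 13657 → P i := stepQ 13656 Q13656 (allL N13656 (tt N14576 F66714) (tt N7047 F66715) (tt N7120 F66716) (tt N27324 D44544) (tt N6638 (iv4 D21185)) (tt N27325 D44545) (tt N27326 D44546) (tt N13809 (iv7 F66767)))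
theorem Q13658 : ∀ i, i < 13658 → P i := stepQ 13657 Q13657 (allL N13657 (tt N7063 F63397) (tt N7109 F290775) (tt N7111 F290776) (tt N13657 F66723) (tt N27326 (iv4 F70061)) (tt N7103 (iv5 F291196)) (tt N6638 (iv6 D21187)) (tt N7102 F290777))
theorem Q13659 : ∀ i, i < 13659 → P i := stepQ 13658 Q13658 (allL N13658 (tt N13335 F291117) (tt N6639 (iv0 D21193)) (tt N7134 F63216) (tt N13658 F63217) (tt N27327 D44549) (tt N25776 (iv5 F291774)) (tt N12762 (iv6 F291775)) (tt N13329 (iv7 F291730)))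
theorem Q13660 : ∀ i, i < 13660 → P i := stepQ 13659 Q13659 (allL N13659 (tt N27328 D44551) (tt N25729 F291477) (tt N13810 (iv2 F33797)) (tt N27329 D44553) (tt N6639 (iv4 D21195)) (tt N27330 D44554) (tt N6641 F33429) (tt N14628 (iv7 F291564)))
theorem Q13661 : ∀ i, i < 13661 → P i := stepQ 13660 Q13660 (allL N13660 (tt N12727 (iv1 F33432)) (tt N6641 (iv0 D21197)) (tt N13813 F33826) (tt N27331 D44556) (tt N13132 F33431) (tt N25682 (iv5 F293569)) (tt N14613 (iv6 F292890)) (tt N13814 (iv7 F33829)))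
theorem Q13662 : ∀ i, i < 13662 → P i := stepQ 13661 Q13661 (allL N13661 (tt N6641 (iv1 D21198)) (tt N12727 F33433) (tt N13814 F33831) (tt N27332 D44559) (tt N13520 F33434) (tt N25681 (iv5 F292536)) (tt N25883 (iv6 F292538)) (tt N13813 F33827))
theorem Q13663 : ∀ i, i < 13663 → P i := stepQ 13662 Q13662 (allL N13662 (tt N27333 D44562) (tt N27334 D44563) (tt N27335 D44564) (tt N6641 (iv3 D21199)) (tt N13308 F33435) (tt N27336 D44565) (tt N27329 (iv6 F70070)) (tt N25571 (iv7 F61537)))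
theorem Q13664 : ∀ i, i < 13664 → P i := stepQ 13663 Q13663 (allL N13663 (tt N27337 D44566) (tt N27338 D44567) (tt N13816 (iv2 F33832)) (tt N27336 (iv3 F70081)) (tt N27339 D44568) (tt N6641 (iv5 D21200)) (tt N27340 D44569) (tt N25572 (iv7 F61538)))
theorem Q13665 : ∀ i, i < 13665 → P i := stepQ 13664 Q13664 (allL N13664 (tt N27341 D44573) (tt N27342 D44574) (tt N27343 D44575) (tt N6643 (iv3 D21202)) (tt N6646 F33439) (tt N27344 D44576) (tt N27345 D44577) (tt N12796 F33440))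
theorem Q13666 : ∀ i, i < 13666 → P i := stepQ 13665 Q13665 (allL N13665 (tt N12687 F33443) (tt N12683 F33444) (tt N12755 F33441) (tt N27344 (iv3 F70103)) (tt N22292 F304367) (tt N6643 (iv5 D21203)) (tt N22290 (iv6 F306380)) (tt N12754 F33442))
theorem Q13667 : ∀ i, i < 13667 → P i := stepQ 13666 Q13666 (allL N13666 (tt N12790 F63095) (tt N12792 F63096) (tt N12798 F33445) (tt N27345 (iv3 F70106)) (tt N6644 F33446) (tt N27346 D44579) (tt N6643 (iv6 D21204)) (tt N12869 F63097))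
theorem Q13668 : ∀ i, i < 13668 → P i := stepQ 13667 Q13667 (allL N13667 (tt N6645 (iv1 D21209)) (tt N13772 F33670) (tt N12635 F296854) (tt N27347 D44586) (tt N10888 F310626) (tt N12594 F296855) (tt N24194 (iv6 F297818)) (tt N12639 F296856))
theorem Q13669 : ∀ i, i < 13669 → P i := stepQ 13668 Q13668 (allL N13668 (tt N12635 F296857) (tt N12639 F296858) (tt N13772 (iv2 F33667)) (tt N8649 (iv3 F298436)) (tt N15327 (iv4 F309864)) (tt N23907 (iv5 F56752)) (tt N8647 F296859) (tt N6645 (iv7 D21210)))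
theorem Q13670 : ∀ i, i < 13670 → P i := stepQ 13669 Q13669 (allL N13669 (tt N13801 (iv1 F33779)) (tt N6646 (iv0 D21211)) (tt N13775 (iv2 F33679)) (tt N25742 (iv3 F62122)) (tt N14098 (iv4 F34785)) (tt N27348 D44590) (tt N27349 D44591) (tt N13800 (iv7 F33775)))
theorem Q13671 : ∀ i, i < 13671 → P i := stepQ 13670 Q13670 (allL N13670 (tt N13775 (iv1 F33776)) (tt N13800 F33773) (tt N6646 (iv2 D21212)) (tt N13779 (iv3 F33691)) (tt N27343 (iv4 F70099)) (tt N27350 D44592) (tt N27351 D44593) (tt N13801 (iv7 F33778)))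
theorem Q13672 : ∀ i, i < 13672 → P i := stepQ 13671 Q13671 (allL N13671 (tt N27352 D44594) (tt N27309 (iv0 F70051)) (tt N27350 (iv2 F70118)) (tt N6647 F33449) (tt N26179 F307584) (tt N6646 (iv5 D21213)) (tt N27353 D44596) (tt N13802 (iv7 F33782)))
theorem Q13673 : ∀ i, i < 13673 → P i := stepQ 13672 Q13672 (allL N13672 (tt N27354 D44597) (tt N27318 (iv0 F70054)) (tt N27351 (iv2 F70120)) (tt N6648 F33450) (tt N27345 (iv4 F70107)) (tt N27355 D44598) (tt N6646 (iv6 D21214)) (tt N14661 F63150))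
theorem Q13674 : ∀ i, i < 13674 → P i := stepQ 13673 Q13673 (allL N13673 (tt N27356 D44599) (tt N27357 D44600) (tt N13785 (iv2 F33713)) (tt N27353 (iv3 F70123)) (tt N24303 (iv4 F58275)) (tt N27358 D44601) (tt N6647 (iv6 D21215)) (tt N27359 D44602))
theorem Q13675 : ∀ i, i < 13675 → P i := stepQ 13674 Q13674 (allL N13674 (tt N7115 (iv1 F63182)) (tt N6648 (iv0 D21216)) (tt N13786 F63145) (tt N14375 F63146) (tt N14379 F63147) (tt N27360 D44603) (tt N27361 D44604) (tt N13787 F63148))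
theorem Q13676 : ∀ i, i < 13676 → P i := stepQ 13675 Q13675 (allL N13675 (tt N27362 D44605) (tt N27363 D44606) (tt N13788 (iv2 F33715)) (tt N27355 (iv3 F70124)) (tt N27364 D44607) (tt N6648 (iv5 D21218)) (tt N27358 (iv6 F70125)) (tt N14662 F63151))
theorem Q13677 : ∀ i, i < 13677 → P i := stepQ 13676 Q13676 (allL N13676 (tt N6649 (iv1 F33456)) (tt N6649 (iv0 D21230)) (tt N13818 (iv2 F70955)) (tt N26118 (iv3 F64235)) (tt N27365 D44609) (tt N27366 D44610) (tt N27367 D44611) (tt N13818 (iv7 F70956)))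
theorem Q13678 : ∀ i, i < 13678 → P i := stepQ 13677 Q13677 (allL N13677 (tt N27368 D44612) (tt N27368 F70139) (tt N13819 (iv2 F33851)) (tt N6650 F33457) (tt N21618 (iv4 F51593)) (tt N6649 (iv5 D21231)) (tt N27369 D44613) (tt N13819 (iv7 F33853)))
theorem Q13679 : ∀ i, i < 13679 → P i := stepQ 13678 Q13678 (allL N13678 (tt N27370 D44614) (tt N27371 D44615) (tt N13820 (iv2 F33854)) (tt N6651 F33458) (tt N13678 F33459) (tt N27372 D44616) (tt N6649 (iv6 D21232)) (tt N27373 D44617))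
theorem Q13680 : ∀ i, i < 13680 → P i := stepQ 13679 Q13679 (allL N13679 (tt N27374 D44618) (tt N27375 D44619) (tt N6675 F33460) (tt N27369 (iv3 F70140)) (tt N13853 (iv4 F33982)) (tt N27376 D44620) (tt N6650 (iv6 D21233)) (tt N27377 D44621))
theorem Q13681 : ∀ i, i < 13681 → P i := stepQ 13680 Q13680 (allL N13680 (tt N6651 (iv1 D21234)) (tt N6679 F33461) (tt N6677 F35771) (tt N27378 D44622) (tt N24429 F66283) (tt N27379 D44623) (tt N26327 (iv6 F76061)) (tt N6676 F35772))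
theorem Q13682 : ∀ i, i < 13682 → P i := stepQ 13681 Q13681 (allL N13681 (tt N27380 D44625) (tt N27381 D44626) (tt N6678 F33462) (tt N27372 (iv3 F70141)) (tt N27382 D44627) (tt N6651 (iv5 D21235)) (tt N27376 (iv6 F70146)) (tt N27383 D44628))
theorem Q13683 : ∀ i, i < 13683 → P i := stepQ 13682 Q13682 (allL N13682 (tt N6677 (iv1 F33465)) (tt N6676 F33466) (tt N6679 F33463) (tt N27373 (iv3 F70142)) (tt N6654 F33464) (tt N27383 (iv5 F70167)) (tt N13341 (iv6 F292265)) (tt N6651 (iv7 D21236)))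
theorem Q13684 : ∀ i, i < 13684 → P i := stepQ 13683 Q13683 (allL N13683 (tt N27384 D44629) (tt N13857 F66333) (tt N6681 F63371) (tt N27385 D44630) (tt N6652 (iv4 D21239)) (tt N27386 D44631) (tt N26719 F293047) (tt N6685 F63372))
theorem Q13685 : ∀ i, i < 13685 → P i := stepQ 13684 Q13684 (allL N13684 (tt N13857 F66331) (tt N27384 F70172) (tt N6685 F63385) (tt N27139 (iv3 F69029)) (tt N6653 (iv4 D21243)) (tt N27387 D44634) (tt N26334 (iv6 F64779)) (tt N6681 F63386))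
theorem Q13686 : ∀ i, i < 13686 → P i := stepQ 13685 Q13685 (allL N13685 (tt N6661 F33472) (tt N13873 F34060) (tt N13872 F34052) (tt N6655 (iv3 D21245)) (tt N12113 F33470) (tt N27309 (iv5 F70049)) (tt N27388 D44635) (tt N13010 F33471))
theorem Q13687 : ∀ i, i < 13687 → P i := stepQ 13686 Q13686 (allL N13686 (tt N6681 F66216) (tt N6685 F66217) (tt N13857 (iv2 F34008)) (tt N27388 (iv3 F70186)) (tt N12111 F33473) (tt N27389 D44636) (tt N6655 (iv6 D21246)) (tt N27384 (iv7 F70173)))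
theorem Q13688 : ∀ i, i < 13688 → P i := stepQ 13687 Q13687 (allL N13687 (tt N13861 (iv1 F34019)) (tt N6656 (iv0 D21247)) (tt N13860 F40025) (tt N13859 (iv3 F34012)) (tt N13372 F33474) (tt N23181 (iv5 F55142)) (tt N27390 D44637) (tt N13859 (iv7 F40024)))
theorem Q13689 : ∀ i, i < 13689 → P i := stepQ 13688 Q13688 (allL N13688 (tt N6656 (iv1 D21248)) (tt N13861 F34021) (tt N13859 (iv2 F40020)) (tt N27391 D44638) (tt N13371 F33475) (tt N23864 (iv5 F56628)) (tt N27392 D44639) (tt N13860 F40026))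
theorem Q13690 : ∀ i, i < 13690 → P i := stepQ 13689 Q13689 (allL N13689 (tt N23158 (iv1 F55104)) (tt N23866 (iv0 F56632)) (tt N23256 (iv2 F55311)) (tt N6657 F33477) (tt N17529 (iv4 F43589)) (tt N6656 (iv5 D21249)) (tt N27393 D44640) (tt N13862 (iv7 F34023)))
theorem Q13691 : ∀ i, i < 13691 → P i := stepQ 13690 Q13690 (allL N13690 (tt N27394 D44641) (tt N27395 D44642) (tt N23245 (iv2 F55291)) (tt N6658 F33478) (tt N13606 F33479) (tt N27396 D44643) (tt N6656 (iv6 D21250)) (tt N26313 (iv7 F64729)))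
theorem Q13692 : ∀ i, i < 13692 → P i := stepQ 13691 Q13691 (allL N13691 (tt N6662 (iv1 F33481)) (tt N6657 (iv0 D21251)) (tt N13643 (iv2 F33482)) (tt N27397 D44644) (tt N24226 (iv4 F58147)) (tt N6700 F33480) (tt N27398 D44645) (tt N12813 (iv7 F33483)))
theorem Q13693 : ∀ i, i < 13693 → P i := stepQ 13692 Q13692 (allL N13692 (tt N6657 (iv1 D21252)) (tt N6662 F33484) (tt N12813 (iv2 F33487)) (tt N27399 D44646) (tt N24228 (iv4 F58151)) (tt N6701 F33486) (tt N27400 D44647) (tt N13643 F33485))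
theorem Q13694 : ∀ i, i < 13694 → P i := stepQ 13693 Q13693 (allL N13693 (tt N27401 D44648) (tt N27402 D44649) (tt N13876 (iv2 F34064)) (tt N27393 (iv3 F70191)) (tt N24299 (iv4 F58272)) (tt N27403 D44650) (tt N6657 (iv6 D21253)) (tt N27404 D44651))
theorem Q13695 : ∀ i, i < 13695 → P i := stepQ 13694 Q13694 (allL N13694 (tt N13119 (iv1 F63201)) (tt N6658 (iv0 D21254)) (tt N13877 F63442) (tt N27405 D44652) (tt N13362 F63436) (tt N27406 D44653) (tt N27407 D44654) (tt N13878 F63440))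
theorem Q13696 : ∀ i, i < 13696 → P i := stepQ 13695 Q13695 (allL N13695 (tt N6658 (iv1 D21255)) (tt N13119 (iv0 F63200)) (tt N13878 (iv2 F63439)) (tt N27408 D44655) (tt N13363 F63438) (tt N27409 D44656) (tt N25777 (iv6 F293146)) (tt N13877 (iv7 F63441)))
theorem Q13697 : ∀ i, i < 13697 → P i := stepQ 13696 Q13696 (allL N13696 (tt N27410 D44658) (tt N27411 D44659) (tt N13879 (iv2 F34066)) (tt N27396 (iv3 F70192)) (tt N27412 D44660) (tt N6658 (iv5 D21256)) (tt N27403 (iv6 F70201)) (tt N26314 (iv7 F64730)))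
theorem Q13698 : ∀ i, i < 13698 → P i := stepQ 13697 Q13697 (allL N13697 (tt N27413 D44661) (tt N27414 D44662) (tt N26089 (iv2 F64169)) (tt N6659 (iv3 D21268)) (tt N6661 F33492) (tt N22216 F304610) (tt N27415 D44663) (tt N12744 F33493))
theorem Q13699 : ∀ i, i < 13699 → P i := stepQ 13698 Q13698 (allL N13698 (tt N26300 F64593) (tt N26301 (iv0 F64601)) (tt N12748 F33494) (tt N27415 (iv3 F70213)) (tt N6660 F33495) (tt N22220 (iv5 F307355)) (tt N6659 (iv6 D21269)) (tt N26303 (iv7 F64631)))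
theorem Q13700 : ∀ i, i < 13700 → P i := stepQ 13699 Q13699 (allL N13699 (tt N13941 (iv1 F34383)) (tt N6660 (iv0 D21270)) (tt N13080 (iv2 F63544)) (tt N13154 F63707) (tt N13028 (iv4 F63712)) (tt N27416 D44665) (tt N27417 D44666) (tt N13940 F63554))
theorem Q13701 : ∀ i, i < 13701 → P i := stepQ 13700 Q13700 (allL N13700 (tt N6660 (iv1 D21271)) (tt N13941 F34382) (tt N13940 (iv2 F63553)) (tt N12914 (iv3 F63427)) (tt N13029 F63426) (tt N27096 (iv5 F291481)) (tt N13270 (iv6 F291807)) (tt N13080 (iv7 F63543)))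
theorem Q13702 : ∀ i, i < 13702 → P i := stepQ 13701 Q13701 (allL N13701 (tt N13940 (iv1 F34375)) (tt N13080 (iv0 F63555)) (tt N13941 (iv2 F34379)) (tt N6665 F33498) (tt N26303 (iv4 F64628)) (tt N13205 F291131) (tt N13055 (iv6 F63126)) (tt N6660 (iv7 D21273)))
theorem Q13703 : ∀ i, i < 13703 → P i := stepQ 13702 Q13702 (allL N13702 (tt N13873 (iv1 F34059)) (tt N6661 (iv0 D21274)) (tt N13010 (iv2 F33499)) (tt N25652 (iv3 F61806)) (tt N13009 F33500) (tt N27352 (iv5 F70121)) (tt N27418 D44673) (tt N13872 (iv7 F34054)))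
theorem Q13704 : ∀ i, i < 13704 → P i := stepQ 13703 Q13703 (allL N13703 (tt N13010 (iv1 F34055)) (tt N13872 F34053) (tt N6661 (iv2 D21275)) (tt N13861 (iv3 F34016)) (tt N26089 (iv4 F64170)) (tt N27419 D44674) (tt N27420 D44675) (tt N13873 (iv7 F34058)))
theorem Q13705 : ∀ i, i < 13705 → P i := stepQ 13704 Q13704 (allL N13704 (tt N27421 D44676) (tt N27399 (iv0 F70198)) (tt N27419 (iv2 F70244)) (tt N6662 F33501) (tt N27422 D44677) (tt N6661 (iv5 D21276)) (tt N27423 D44678) (tt N13874 (iv7 F34062)))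
theorem Q13706 : ∀ i, i < 13706 → P i := stepQ 13705 Q13705 (allL N13705 (tt N27424 D44679) (tt N27408 (iv0 F70205)) (tt N27420 (iv2 F70247)) (tt N6663 F33502) (tt N27415 (iv4 F70214)) (tt N27425 D44680) (tt N6661 (iv6 D21277)) (tt N27426 D44681))
theorem Q13707 : ∀ i, i < 13707 → P i := stepQ 13706 Q13706 (allL N13706 (tt N27427 D44682) (tt N27428 D44683) (tt N13864 (iv2 F34027)) (tt N27423 (iv3 F70251)) (tt N24292 (iv4 F58266)) (tt N27429 D44684) (tt N6662 (iv6 D21278)) (tt N27430 D44685))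
theorem Q13708 : ∀ i, i < 13708 → P i := stepQ 13707 Q13707 (allL N13707 (tt N13868 (iv1 F34035)) (tt N6663 (iv0 D21279)) (tt N13865 (iv2 F63471)) (tt N27431 D44686) (tt N25647 F63701) (tt N27432 D44687) (tt N27433 D44688) (tt N13866 F63472))
theorem Q13709 : ∀ i, i < 13709 → P i := stepQ 13708 Q13708 (allL N13708 (tt N6663 (iv1 D21280)) (tt N13868 F34034) (tt N13866 F63470) (tt N27434 D44689) (tt N13099 F63429) (tt N27435 D44690) (tt N27436 D44691) (tt N13865 (iv7 F63468)))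
theorem Q13710 : ∀ i, i < 13710 → P i := stepQ 13709 Q13709 (allL N13709 (tt N27437 D44692) (tt N27438 D44693) (tt N13867 (iv2 F34029)) (tt N27425 (iv3 F70254)) (tt N27439 D44694) (tt N6663 (iv5 D21281)) (tt N27429 (iv6 F70258)) (tt N27440 D44695))
theorem Q13711 : ∀ i, i < 13711 → P i := stepQ 13710 Q13710 (allL N13710 (tt N13866 (iv1 F34028)) (tt N13865 F34033) (tt N13868 (iv2 F34030)) (tt N27426 (iv3 F70255)) (tt N6665 F33503) (tt N27440 (iv5 F70268)) (tt N13119 (iv6 F63202)) (tt N6663 (iv7 D21282)))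
theorem Q13712 : ∀ i, i < 13712 → P i := stepQ 13711 Q13711 (allL N13711 (tt N6671 F63261) (tt N13887 F63262) (tt N13124 F63263) (tt N27441 D44696) (tt N6664 (iv4 D21289)) (tt N27442 D44697) (tt N25736 (iv6 F290893)) (tt N13869 (iv7 F63257)))
theorem Q13713 : ∀ i, i < 13713 → P i := stepQ 13712 Q13712 (allL N13712 (tt N13882 (iv1 F34081)) (tt N6666 (iv0 D21296)) (tt N13881 F34110) (tt N13889 F34108) (tt N27443 D44707) (tt N27444 D44708) (tt N27445 D44709) (tt N13880 (iv7 F34109)))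
theorem Q13714 : ∀ i, i < 13714 → P i := stepQ 13713 Q13713 (allL N13713 (tt N6666 (iv1 D21297)) (tt N13882 F34083) (tt N13880 (iv2 F34111)) (tt N27446 D44710) (tt N27447 D44711) (tt N27448 D44712) (tt N27449 D44713) (tt N13881 F34112))
theorem Q13715 : ∀ i, i < 13715 → P i := stepQ 13714 Q13714 (allL N13714 (tt N13881 (iv1 F34082)) (tt N13880 F34078) (tt N6666 (iv2 D21298)) (tt N13890 (iv3 F34113)) (tt N12774 F33509) (tt N27450 D44714) (tt N27451 D44715) (tt N13882 (iv7 F34080)))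
theorem Q13716 : ∀ i, i < 13716 → P i := stepQ 13715 Q13715 (allL N13715 (tt N27452 D44716) (tt N27453 D44717) (tt N27450 (iv2 F70294)) (tt N6667 F33510) (tt N27454 D44718) (tt N6666 (iv5 D21299)) (tt N27455 D44719) (tt N13883 (iv7 F34085)))
theorem Q13717 : ∀ i, i < 13717 → P i := stepQ 13716 Q13716 (allL N13716 (tt N27456 D44720) (tt N27457 D44721) (tt N27451 (iv2 F70296)) (tt N6668 F33511) (tt N26062 (iv4 F64059)) (tt N27458 D44722) (tt N6666 (iv6 D21300)) (tt N26319 (iv7 F64750)))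
theorem Q13718 : ∀ i, i < 13718 → P i := stepQ 13717 Q13717 (allL N13717 (tt N27459 D44723) (tt N27460 D44724) (tt N13892 (iv2 F34120)) (tt N27455 (iv3 F70300)) (tt N22385 F312407) (tt N27461 D44725) (tt N6667 (iv6 D21301)) (tt N27462 D44726))
theorem Q13719 : ∀ i, i < 13719 → P i := stepQ 13718 Q13718 (allL N13718 (tt N27463 D44727) (tt N14655 (iv0 F36653)) (tt N13893 (iv2 F34122)) (tt N27458 (iv3 F70301)) (tt N27464 D44728) (tt N6668 (iv5 D21304)) (tt N27461 (iv6 F70302)) (tt N26321 (iv7 F64758)))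
theorem Q13720 : ∀ i, i < 13720 → P i := stepQ 13719 Q13719 (allL N13719 (tt N13890 (iv1 F34116)) (tt N6669 (iv0 D21306)) (tt N13889 F34104) (tt N27465 D44729) (tt N13604 F34056) (tt N23904 (iv5 F56739)) (tt N27466 D44730) (tt N13888 F34098))
theorem Q13721 : ∀ i, i < 13721 → P i := stepQ 13720 Q13720 (allL N13720 (tt N6669 (iv1 D21307)) (tt N13890 F34117) (tt N13888 F34097) (tt N13880 (iv3 F34077)) (tt N13605 F33512) (tt N27467 D44731) (tt N27468 D44732) (tt N13889 (iv7 F34099)))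
theorem Q13722 : ∀ i, i < 13722 → P i := stepQ 13721 Q13721 (allL N13721 (tt N13889 F34103) (tt N13888 F34096) (tt N6669 (iv2 D21308)) (tt N13882 (iv3 F34079)) (tt N8028 F33514) (tt N27469 D44733) (tt N27470 D44734) (tt N13890 (iv7 F34115)))
theorem Q13723 : ∀ i, i < 13723 → P i := stepQ 13722 Q13722 (allL N13722 (tt N27471 D44735) (tt N27472 D44736) (tt N27469 (iv2 F70314)) (tt N6670 F33515) (tt N11787 F33517) (tt N6669 (iv5 D21309)) (tt N27473 D44737) (tt N11786 F33516))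
theorem Q13724 : ∀ i, i < 13724 → P i := stepQ 13723 Q13723 (allL N13723 (tt N27474 D44738) (tt N27475 D44739) (tt N27470 (iv2 F70319)) (tt N6671 F33518) (tt N13163 F33519) (tt N27476 D44740) (tt N6669 (iv6 D21310)) (tt N27477 D44741))
theorem Q13725 : ∀ i, i < 13725 → P i := stepQ 13724 Q13724 (allL N13724 (tt N27478 D44742) (tt N27479 D44743) (tt N13885 (iv2 F34087)) (tt N27473 (iv3 F70330)) (tt N24269 (iv4 F58240)) (tt N27480 D44744) (tt N6670 (iv6 D21311)) (tt N27481 D44745))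
theorem Q13726 : ∀ i, i < 13726 → P i := stepQ 13725 Q13725 (allL N13725 (tt N14634 (iv1 F290788)) (tt N27482 D44747) (tt N13886 (iv2 F34089)) (tt N27476 (iv3 F70332)) (tt N27483 D44748) (tt N6671 (iv5 D21314)) (tt N27480 (iv6 F70336)) (tt N27484 D44749))
theorem Q13727 : ∀ i, i < 13727 → P i := stepQ 13726 Q13726 (allL N13726 (tt N13124 (iv1 F35854)) (tt N13869 (iv0 F63254)) (tt N13887 (iv2 F34090)) (tt N27477 (iv3 F70333)) (tt N13150 F33520) (tt N27484 (iv5 F70340)) (tt N13123 (iv6 F35819)) (tt N6671 (iv7 D21315)))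
theorem Q13728 : ∀ i, i < 13728 → P i := stepQ 13727 Q13727 (allL N13727 (tt N27444 F70287) (tt N27448 (iv0 F70293)) (tt N27485 D44750) (tt N6672 (iv3 D21316)) (tt N27486 D44751) (tt N7046 F33521) (tt N27487 D44752) (tt N13894 (iv7 F34130)))
theorem Q13729 : ∀ i, i < 13729 → P i := stepQ 13728 Q13728 (allL N13728 (tt N9092 (iv1 F314850)) (tt N27488 D44754) (tt N13897 (iv2 F34134)) (tt N27487 (iv3 F70342)) (tt N21327 F312415) (tt N27489 D44755) (tt N6672 (iv6 D21317)) (tt N21339 (iv7 F314852)))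
theorem Q13730 : ∀ i, i < 13730 → P i := stepQ 13729 Q13729 (allL N13729 (tt N23904 (iv1 F56740)) (tt N27467 (iv0 F70312)) (tt N27490 D44757) (tt N6673 (iv3 D21318)) (tt N17199 (iv4 F42488)) (tt N7048 F33522) (tt N27491 D44758) (tt N13896 (iv7 F34133)))
theorem Q13731 : ∀ i, i < 13731 → P i := stepQ 13730 Q13730 (allL N13730 (tt N27492 D44759) (tt N27493 D44760) (tt N13895 (iv2 F34131)) (tt N27491 (iv3 F70348)) (tt N24234 (iv4 F58162)) (tt N27494 D44761) (tt N6673 (iv6 D21319)) (tt N27495 D44762))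
theorem Q13732 : ∀ i, i < 13732 → P i := stepQ 13731 Q13731 (allL N13731 (tt N27496 D44763) (tt N27497 D44764) (tt N27498 D44765) (tt N6674 (iv3 D21320)) (tt N13898 (iv4 F34135)) (tt N13817 (iv5 F33834)) (tt N27499 D44766) (tt N13898 (iv7 F34137)))
theorem Q13733 : ∀ i, i < 13733 → P i := stepQ 13732 Q13732 (allL N13732 (tt N27500 D44767) (tt N27501 D44768) (tt N13853 (iv2 F33981)) (tt N27499 (iv3 F70355)) (tt N6675 F33523) (tt N25456 (iv5 F297811)) (tt N6674 (iv6 D21321)) (tt N27502 D44770))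
theorem Q13734 : ∀ i, i < 13734 → P i := stepQ 13733 Q13733 (allL N13733 (tt N27377 (iv1 F70150)) (tt N6675 (iv0 D21322)) (tt N27374 (iv2 F315582)) (tt N27503 D44772) (tt N27504 D44773) (tt N27505 D44774) (tt N27506 D44775) (tt N27375 (iv7 F315581)))
theorem Q13735 : ∀ i, i < 13735 → P i := stepQ 13734 Q13734 (allL N13734 (tt N6675 (iv1 D21323)) (tt N27377 F70149) (tt N27375 (iv2 F315579)) (tt N27507 D44777) (tt N27508 D44778) (tt N27509 D44779) (tt N27510 D44780) (tt N27374 (iv7 F315583)))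
theorem Q13736 : ∀ i, i < 13736 → P i := stepQ 13735 Q13735 (allL N13735 (tt N27511 D44781) (tt N27512 D44782) (tt N27376 (iv2 F70145)) (tt N13902 (iv3 F34140)) (tt N27513 D44783) (tt N6675 (iv5 D21324)) (tt N6678 F33524) (tt N27514 D44784))
theorem Q13737 : ∀ i, i < 13737 → P i := stepQ 13736 Q13736 (allL N13736 (tt N27375 (iv1 F70144)) (tt N27374 F70148) (tt N27377 (iv2 F70147)) (tt N13903 (iv3 F34142)) (tt N27502 (iv4 F70356)) (tt N27514 (iv5 F70360)) (tt N13903 (iv6 F34143)) (tt N6675 (iv7 D21325)))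
theorem Q13738 : ∀ i, i < 13738 → P i := stepQ 13737 Q13737 (allL N13737 (tt N27515 D44785) (tt N27449 (iv0 F157624)) (tt N27516 D44787) (tt N6676 (iv3 D21327)) (tt N26102 F65900) (tt N27517 D44788) (tt N27518 D44789) (tt N27378 (iv7 F70152)))
theorem Q13739 : ∀ i, i < 13739 → P i := stepQ 13738 Q13738 (allL N13738 (tt N27519 D44790) (tt N25921 F293038) (tt N27161 (iv2 F69055)) (tt N27517 (iv3 F70362)) (tt N27520 D44792) (tt N6676 (iv5 D21329)) (tt N27521 D44793) (tt N27379 (iv7 F70154)))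
theorem Q13740 : ∀ i, i < 13740 → P i := stepQ 13739 Q13739 (allL N13739 (tt N25736 F291401) (tt N13334 F291402) (tt N26721 F291403) (tt N27518 (iv3 F70363)) (tt N27159 (iv4 F69052)) (tt N27522 D44794) (tt N6676 (iv6 D21330)) (tt N26720 F291404))
theorem Q13741 : ∀ i, i < 13741 → P i := stepQ 13740 Q13740 (allL N13740 (tt N27466 F157268) (tt N27523 D44797) (tt N27524 D44798) (tt N6677 (iv3 D21332)) (tt N27097 (iv4 F68952)) (tt N27525 D44799) (tt N27526 D44800) (tt N27160 (iv7 F69054)))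
theorem Q13742 : ∀ i, i < 13742 → P i := stepQ 13741 Q13741 (allL N13741 (tt N25921 F293039) (tt N27519 F70366) (tt N27379 (iv2 F70153)) (tt N27525 (iv3 F70376)) (tt N27527 D44801) (tt N6677 (iv5 D21333)) (tt N27528 D44802) (tt N27161 (iv7 F69056)))
theorem Q13743 : ∀ i, i < 13743 → P i := stepQ 13742 Q13742 (allL N13742 (tt N26330 F68951) (tt N26317 (iv0 F70372)) (tt N26327 (iv2 F76059)) (tt N27526 (iv3 F70377)) (tt N27096 (iv4 F68949)) (tt N27529 D44803) (tt N6677 (iv6 D21334)) (tt N26328 (iv7 F76063)))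
theorem Q13744 : ∀ i, i < 13744 → P i := stepQ 13743 Q13743 (allL N13743 (tt N27383 (iv1 F70169)) (tt N6678 (iv0 D21335)) (tt N27380 F70158) (tt N27530 D44805) (tt N27531 D44806) (tt N14673 F66252) (tt N27532 D44807) (tt N27381 (iv7 F70162)))
theorem Q13745 : ∀ i, i < 13745 → P i := stepQ 13744 Q13744 (allL N13744 (tt N6678 (iv1 D21336)) (tt N27383 F70168) (tt N27381 F70164) (tt N27533 D44808) (tt N27534 D44809) (tt N14674 (iv5 F36760)) (tt N27535 D44810) (tt N27380 F70159))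
theorem Q13746 : ∀ i, i < 13746 → P i := stepQ 13745 Q13745 (allL N13745 (tt N27536 D44811) (tt N27537 D44812) (tt N27382 (iv2 F70165)) (tt N27538 D44813) (tt N6678 (iv4 D21337)) (tt N27539 D44814) (tt N27513 (iv6 F70359)) (tt N27540 D44815))
theorem Q13747 : ∀ i, i < 13747 → P i := stepQ 13746 Q13746 (allL N13746 (tt N27381 (iv1 F70161)) (tt N27380 F70160) (tt N27383 (iv2 F70166)) (tt N13344 F294014) (tt N27540 (iv4 F70386)) (tt N6679 F33527) (tt N27541 D44816) (tt N6678 (iv7 D21338)))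
theorem Q13748 : ∀ i, i < 13748 → P i := stepQ 13747 Q13747 (allL N13747 (tt N14458 (iv1 F65873)) (tt N14449 F65924) (tt N14456 (iv2 F65922)) (tt N6682 F33537) (tt N14495 F292765) (tt N6680 (iv5 D21348)) (tt N14631 F290696) (tt N14457 (iv7 F65931)))
theorem Q13749 : ∀ i, i < 13749 → P i := stepQ 13748 Q13748 (allL N13748 (tt N25704 F290824) (tt N25706 (iv0 F291240)) (tt N26087 F65932) (tt N6683 F33538) (tt N26968 F68322) (tt N14212 F65901) (tt N6680 (iv6 D21349)) (tt N26631 (iv7 F291237)))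
theorem Q13750 : ∀ i, i < 13750 → P i := stepQ 13749 Q13749 (allL N13749 (tt N6685 (iv1 F33552)) (tt N6681 (iv0 D21351)) (tt N27384 F70171) (tt N27542 D44822) (tt N13564 (iv4 F65892)) (tt N27543 D44823) (tt N13914 (iv6 F66314)) (tt N13857 F66313))
theorem Q13751 : ∀ i, i < 13751 → P i := stepQ 13750 Q13750 (allL N13750 (tt N27544 D44824) (tt N27392 F205492) (tt N27545 D44826) (tt N6681 (iv3 D21353)) (tt N27086 (iv4 F68918)) (tt N27546 D44827) (tt N27547 D44828) (tt N27139 (iv7 F69030)))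
theorem Q13752 : ∀ i, i < 13752 → P i := stepQ 13751 Q13751 (allL N13751 (tt N27548 D44829) (tt N27549 D44830) (tt N27386 (iv2 F70177)) (tt N27546 (iv3 F70408)) (tt N27550 D44831) (tt N6681 (iv5 D21354)) (tt N27551 D44832) (tt N27387 (iv7 F70185)))
theorem Q13753 : ∀ i, i < 13753 → P i := stepQ 13752 Q13752 (allL N13752 (tt N27436 F70266) (tt N27552 D44833) (tt N26719 (iv2 F292253)) (tt N27547 (iv3 F70409)) (tt N6683 F33549) (tt N27553 D44834) (tt N6681 (iv6 D21355)) (tt N26718 (iv7 F292248)))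
theorem Q13754 : ∀ i, i < 13754 → P i := stepQ 13753 Q13753 (allL N13753 (tt N26757 (iv1 F294542)) (tt N27554 D44838) (tt N25956 (iv2 F294006)) (tt N27555 D44839) (tt N6682 (iv4 D21359)) (tt N27556 D44840) (tt N14632 F291492) (tt N14541 F63421))
theorem Q13755 : ∀ i, i < 13755 → P i := stepQ 13754 Q13754 (allL N13754 (tt N7071 F33559) (tt N7091 (iv0 F33560)) (tt N7089 F63415) (tt N14212 (iv3 F65902)) (tt N27557 D44842) (tt N6683 (iv5 D21364)) (tt N13588 F291493) (tt N7088 F63416))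
theorem Q13756 : ∀ i, i < 13756 → P i := stepQ 13755 Q13755 (allL N13755 (tt N12688 F66211) (tt N12760 F66212) (tt N12758 F66227) (tt N27558 D44843) (tt N6684 (iv4 D21370)) (tt N27559 D44844) (tt N27560 D44845) (tt N12757 F66228))
theorem Q13757 : ∀ i, i < 13757 → P i := stepQ 13756 Q13756 (allL N13756 (tt N26696 F294003) (tt N14426 F65766) (tt N13952 (iv2 F65875)) (tt N6686 F33566) (tt N25727 (iv4 F66269)) (tt N6684 (iv5 D21371)) (tt N6891 F65767) (tt N13949 F65884))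
theorem Q13758 : ∀ i, i < 13758 → P i := stepQ 13757 Q13757 (allL N13757 (tt N27561 D44847) (tt N13059 (iv0 F72328)) (tt N13953 (iv2 F65897)) (tt N6687 F33567) (tt N27560 (iv4 F70442)) (tt N13099 F290860) (tt N6684 (iv6 D21372)) (tt N26335 (iv7 F64780)))
theorem Q13759 : ∀ i, i < 13759 → P i := stepQ 13758 Q13758 (allL N13758 (tt N27418 (iv1 F70453)) (tt N27031 F295186) (tt N27562 D44852) (tt N6685 (iv3 D21373)) (tt N27558 (iv4 F70436)) (tt N27563 D44853) (tt N27564 D44854) (tt N27385 (iv7 F70175)))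
theorem Q13760 : ∀ i, i < 13760 → P i := stepQ 13759 Q13759 (allL N13759 (tt N27549 (iv1 F70412)) (tt N27548 F70411) (tt N27387 (iv2 F70184)) (tt N27563 (iv3 F70454)) (tt N27565 D44855) (tt N6685 (iv5 D21374)) (tt N27566 D44856) (tt N27386 (iv7 F70178)))
theorem Q13761 : ∀ i, i < 13761 → P i := stepQ 13760 Q13760 (allL N13760 (tt N27567 D44857) (tt N27407 (iv0 F76086)) (tt N26334 (iv2 F64778)) (tt N27564 (iv3 F70455)) (tt N6687 F33568) (tt N27568 D44859) (tt N6685 (iv6 D21375)) (tt N26336 (iv7 F64781)))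
theorem Q13762 : ∀ i, i < 13762 → P i := stepQ 13761 Q13761 (allL N13761 (tt N27554 (iv1 F70424)) (tt N26757 (iv0 F294541)) (tt N14541 (iv2 F63414)) (tt N27569 D44860) (tt N6686 (iv4 D21376)) (tt N27570 D44861) (tt N14506 (iv6 F36047)) (tt N25956 (iv7 F294007)))
theorem Q13763 : ∀ i, i < 13763 → P i := stepQ 13762 Q13762 (allL N13762 (tt N27571 D44865) (tt N27572 D44866) (tt N14028 F65793) (tt N12732 F294427) (tt N27573 D44867) (tt N6688 (iv5 D21394)) (tt N27574 D44868) (tt N13765 (iv7 F33630)))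
theorem Q13764 : ∀ i, i < 13764 → P i := stepQ 13763 Q13763 (allL N13763 (tt N27575 D44869) (tt N27576 D44870) (tt N14029 F65794) (tt N7090 F292861) (tt N6690 F33588) (tt N27577 D44871) (tt N6688 (iv6 D21395)) (tt N26723 F292151))
theorem Q13765 : ∀ i, i < 13765 → P i := stepQ 13764 Q13764 (allL N13764 (tt N27578 D44873) (tt N6990 F66263) (tt N14030 F65720) (tt N7136 F292471) (tt N6689 (iv4 D21398)) (tt N26147 (iv5 F66311)) (tt N14638 F292191) (tt N12722 (iv7 F293488)))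
theorem Q13766 : ∀ i, i < 13766 → P i := stepQ 13765 Q13765 (allL N13765 (tt N27579 D44879) (tt N14393 (iv0 F66262)) (tt N26113 F65759) (tt N13630 F33629) (tt N27580 D44880) (tt N6691 (iv5 D21417)) (tt N27581 D44881) (tt N13762 F33630))
theorem Q13767 : ∀ i, i < 13767 → P i := stepQ 13766 Q13766 (allL N13766 (tt N26203 (iv1 F72164)) (tt N26039 (iv0 F66327)) (tt N26114 F65756) (tt N13631 F33631) (tt N6692 F33632) (tt N27582 D44883) (tt N6691 (iv6 D21418)) (tt N26201 (iv7 F65789)))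
theorem Q13768 : ∀ i, i < 13768 → P i := stepQ 13767 Q13767 (allL N13767 (tt N17472 (iv1 F121220)) (tt N23675 (iv0 F296869)) (tt N13635 F33654) (tt N17370 (iv3 F42965)) (tt N24229 (iv4 F58154)) (tt N27290 (iv5 F70021)) (tt N6696 (iv6 D21429)) (tt N23683 (iv7 F296513)))
theorem Q13769 : ∀ i, i < 13769 → P i := stepQ 13768 Q13768 (allL N13768 (tt N12577 F296105) (tt N12641 (iv0 F296248)) (tt N12643 (iv2 F296246)) (tt N12563 F33656) (tt N24227 (iv4 F58150)) (tt N27583 D44900) (tt N6697 (iv6 D21430)) (tt N12642 (iv7 F296245)))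
theorem Q13770 : ∀ i, i < 13770 → P i := stepQ 13769 Q13769 (allL N13769 (tt N27584 D44902) (tt N27585 D44903) (tt N27586 D44904) (tt N6698 (iv3 D21431)) (tt N12192 F33657) (tt N27587 D44905) (tt N27588 D44906) (tt N12339 F33658))
theorem Q13771 : ∀ i, i < 13771 → P i := stepQ 13770 Q13770 (allL N13770 (tt N6766 F33662) (tt N6743 F33663) (tt N12039 F33659) (tt N27587 (iv3 F70567)) (tt N6715 F33661) (tt N6698 (iv5 D21432)) (tt N18441 (iv6 F313191)) (tt N12038 F33660))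
theorem Q13772 : ∀ i, i < 13772 → P i := stepQ 13771 Q13771 (allL N13771 (tt N12476 F59766) (tt N8848 F59767) (tt N12342 F33664) (tt N27588 (iv3 F70569)) (tt N6699 F33665) (tt N7498 F311339) (tt N6698 (iv6 D21433)) (tt N12478 F59761))
theorem Q13773 : ∀ i, i < 13773 → P i := stepQ 13772 Q13772 (allL N13772 (tt N13667 (iv1 F33670)) (tt N12636 (iv0 F296505)) (tt N13668 F33667) (tt N23979 (iv3 F296863)) (tt N12478 (iv4 F59760)) (tt N25589 (iv5 F61585)) (tt N12611 (iv6 F296493)) (tt N6699 (iv7 D21436)))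
theorem Q13774 : ∀ i, i < 13774 → P i := stepQ 13773 Q13773 (allL N13773 (tt N27589 D44915) (tt N27590 D44916) (tt N27591 D44917) (tt N6700 (iv3 D21437)) (tt N7098 F33672) (tt N27397 (iv5 F70193)) (tt N27592 D44918) (tt N12812 F33673))
theorem Q13775 : ∀ i, i < 13775 → P i := stepQ 13774 Q13774 (allL N13774 (tt N14506 (iv1 F66357)) (tt N14507 (iv0 F66356)) (tt N13644 F33674) (tt N27592 (iv3 F70587)) (tt N7097 F33675) (tt N27593 D44919) (tt N6700 (iv6 D21438)) (tt N14538 (iv7 F66365)))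
theorem Q13776 : ∀ i, i < 13776 → P i := stepQ 13775 Q13775 (allL N13775 (tt N6714 F33678) (tt N13670 F33776) (tt N13669 F33679) (tt N6701 (iv3 D21439)) (tt N6868 F33676) (tt N27399 (iv5 F70196)) (tt N27594 D44920) (tt N6942 F33677))
theorem Q13777 : ∀ i, i < 13777 → P i := stepQ 13776 Q13776 (allL N13776 (tt N7084 F62739) (tt N7086 F62740) (tt N12814 F33680) (tt N27594 (iv3 F70591)) (tt N12811 F33681) (tt N27595 D44921) (tt N6701 (iv6 D21440)) (tt N27596 D44922))
theorem Q13778 : ∀ i, i < 13778 → P i := stepQ 13777 Q13777 (allL N13777 (tt N13647 (iv1 F33684)) (tt N6702 (iv0 D21441)) (tt N13646 (iv2 F33685)) (tt N13645 F33683) (tt N13428 F33682) (tt N23158 (iv5 F55103)) (tt N27597 D44923) (tt N13645 (iv7 F33686)))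
theorem Q13779 : ∀ i, i < 13779 → P i := stepQ 13778 Q13778 (allL N13778 (tt N6702 (iv1 D21442)) (tt N13647 F33690) (tt N13645 F33689) (tt N27598 D44924) (tt N13427 (iv4 F33688)) (tt N23866 (iv5 F56631)) (tt N27599 D44925) (tt N13646 F33687))
theorem Q13780 : ∀ i, i < 13780 → P i := stepQ 13779 Q13779 (allL N13779 (tt N13646 (iv1 F33695)) (tt N13645 F33694) (tt N6702 (iv2 D21443)) (tt N13670 F33691) (tt N13242 F33692) (tt N27600 D44926) (tt N27601 D44927) (tt N13647 F33693))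
theorem Q13781 : ∀ i, i < 13781 → P i := stepQ 13780 Q13780 (allL N13780 (tt N27602 D44928) (tt N27603 D44929) (tt N27600 (iv2 F70607)) (tt N6703 F33696) (tt N21749 F51817) (tt N6702 (iv5 D21444)) (tt N27604 D44930) (tt N13648 F33697))
theorem Q13782 : ∀ i, i < 13782 → P i := stepQ 13781 Q13781 (allL N13781 (tt N27605 D44931) (tt N27606 D44932) (tt N27601 (iv2 F70613)) (tt N6704 F33698) (tt N13244 F33699) (tt N27607 D44933) (tt N6702 (iv6 D21445)) (tt N14639 F63180))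
theorem Q13783 : ∀ i, i < 13783 → P i := stepQ 13782 Q13782 (allL N13782 (tt N6715 (iv1 F33701)) (tt N6703 (iv0 D21446)) (tt N13650 (iv2 F33702)) (tt N27608 D44934) (tt N24232 (iv4 F58157)) (tt N6746 F33700) (tt N27609 D44935) (tt N12768 (iv7 F33703)))
theorem Q13784 : ∀ i, i < 13784 → P i := stepQ 13783 Q13783 (allL N13783 (tt N6703 (iv1 D21447)) (tt N6715 F33704) (tt N12768 (iv2 F33707)) (tt N26122 (iv3 F64242)) (tt N24233 (iv4 F58161)) (tt N6747 F33706) (tt N27610 D44936) (tt N13650 F33705))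
theorem Q13785 : ∀ i, i < 13785 → P i := stepQ 13784 Q13784 (allL N13784 (tt N6743 F33711) (tt N6766 F33712) (tt N12038 F33708) (tt N27611 D44937) (tt N6703 (iv4 D21448)) (tt N6710 F33709) (tt N27612 D44938) (tt N12039 F33710))
theorem Q13786 : ∀ i, i < 13786 → P i := stepQ 13785 Q13785 (allL N13785 (tt N27613 D44939) (tt N27614 D44940) (tt N13673 F33713) (tt N27604 (iv3 F70627)) (tt N27612 (iv4 F70637)) (tt N27615 D44941) (tt N6703 (iv6 D21449)) (tt N27616 D44942))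
theorem Q13787 : ∀ i, i < 13787 → P i := stepQ 13786 Q13786 (allL N13786 (tt N7127 F63173) (tt N6704 (iv0 D21450)) (tt N13674 (iv2 F63145)) (tt N27617 D44943) (tt N12789 F63174) (tt N27618 D44944) (tt N25898 F63175) (tt N12878 F63176))
theorem Q13788 : ∀ i, i < 13788 → P i := stepQ 13787 Q13787 (allL N13787 (tt N6704 (iv1 D21451)) (tt N7127 F63177) (tt N12878 F63178) (tt N27619 D44945) (tt N12877 F63179) (tt N27620 D44946) (tt N27554 F70427) (tt N13674 (iv7 F63148)))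
theorem Q13789 : ∀ i, i < 13789 → P i := stepQ 13788 Q13788 (allL N13788 (tt N27621 D44947) (tt N27622 D44948) (tt N13675 F33715) (tt N27607 (iv3 F70628)) (tt N27623 D44949) (tt N6704 (iv5 D21452)) (tt N27615 (iv6 F70640)) (tt N14640 F63181))
theorem Q13790 : ∀ i, i < 13790 → P i := stepQ 13789 Q13789 (allL N13789 (tt N14209 (iv1 F62776)) (tt N7085 F62735) (tt N6861 F33731) (tt N6915 F33732) (tt N6962 F33733) (tt N25658 (iv5 F293135)) (tt N6706 (iv6 D21463)) (tt N26644 F292515))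
theorem Q13791 : ∀ i, i < 13791 → P i := stepQ 13790 Q13790 (allL N13790 (tt N26379 (iv1 F290975)) (tt N6707 (iv0 D21464)) (tt N7023 F66808) (tt N13522 F66803) (tt N6968 F66804) (tt N25649 F290864) (tt N27624 D44952) (tt N25648 (iv7 F291129)))
theorem Q13792 : ∀ i, i < 13792 → P i := stepQ 13791 Q13791 (allL N13791 (tt N27625 D44955) (tt N26244 (iv0 F64448)) (tt N25972 (iv2 F63783)) (tt N6718 F33734) (tt N27626 D44956) (tt N6707 (iv5 D21466)) (tt N6709 F33735) (tt N26472 F290759))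
theorem Q13793 : ∀ i, i < 13793 → P i := stepQ 13792 Q13792 (allL N13792 (tt N25648 (iv1 F291127)) (tt N7023 F66730) (tt N26379 (iv2 F290976)) (tt N6719 F33736) (tt N14625 (iv4 F66739)) (tt N26472 F290758) (tt N6999 F63128) (tt N6707 (iv7 D21467)))
theorem Q13794 : ∀ i, i < 13794 → P i := stepQ 13793 Q13793 (allL N13793 (tt N13134 F33743) (tt N13139 F33744) (tt N25506 (iv2 F61361)) (tt N27627 D44958) (tt N6709 (iv4 D21469)) (tt N27628 D44959) (tt N27626 (iv6 F70687)) (tt N25505 F61358))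
theorem Q13795 : ∀ i, i < 13795 → P i := stepQ 13794 Q13794 (allL N13794 (tt N27629 D44960) (tt N27630 D44961) (tt N27631 D44962) (tt N6710 (iv3 D21470)) (tt N17467 (iv4 F43350)) (tt N27611 (iv5 F70634)) (tt N23960 (iv6 F296887)) (tt N12341 F33745))
theorem Q13796 : ∀ i, i < 13796 → P i := stepQ 13795 Q13795 (allL N13795 (tt N23950 (iv1 F57003)) (tt N13339 F295990) (tt N13637 F33756) (tt N11568 F33757) (tt N27632 D44982) (tt N6711 (iv5 D21476)) (tt N27583 (iv6 F70553)) (tt N13638 F33758))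
theorem Q13797 : ∀ i, i < 13797 → P i := stepQ 13796 Q13796 (allL N13796 (tt N13339 F295941) (tt N23950 F57004) (tt N13638 F33759) (tt N23411 (iv3 F55831)) (tt N27633 D44983) (tt N6712 (iv5 D21477)) (tt N27634 D44984) (tt N13637 F33760))
theorem Q13798 : ∀ i, i < 13798 → P i := stepQ 13797 Q13797 (allL N13797 (tt N12711 (iv1 F33762)) (tt N6713 (iv0 D21478)) (tt N13640 (iv2 F33763)) (tt N11554 (iv3 F33764)) (tt N24243 (iv4 F58170)) (tt N11551 F33761) (tt N24035 (iv6 F295942)) (tt N13641 (iv7 F33765)))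
theorem Q13799 : ∀ i, i < 13799 → P i := stepQ 13798 Q13798 (allL N13798 (tt N6713 (iv1 D21479)) (tt N12711 F33766) (tt N13641 (iv2 F33769)) (tt N23798 (iv3 F56516)) (tt N24244 (iv4 F58171)) (tt N12715 F33768) (tt N27635 D44985) (tt N13640 F33767))
theorem Q13800 : ∀ i, i < 13800 → P i := stepQ 13799 Q13799 (allL N13799 (tt N11232 F33771) (tt N27636 D44986) (tt N13642 F33770) (tt N27637 D44987) (tt N6713 (iv4 D21480)) (tt N27638 D44988) (tt N23964 (iv6 F296335)) (tt N23942 (iv7 F56941)))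
theorem Q13801 : ∀ i, i < 13801 → P i := stepQ 13800 Q13800 (allL N13800 (tt N13670 (iv1 F33773)) (tt N6714 (iv0 D21481)) (tt N6942 (iv2 F33772)) (tt N27591 (iv3 F70582)) (tt N6941 F33774) (tt N27421 (iv5 F70248)) (tt N27639 D44989) (tt N13669 F33775))
theorem Q13802 : ∀ i, i < 13802 → P i := stepQ 13801 Q13801 (allL N13801 (tt N6942 (iv1 F33780)) (tt N13669 F33779) (tt N6714 (iv2 D21482)) (tt N13647 F33777) (tt N14215 (iv4 F35057)) (tt N27640 D44990) (tt N27641 D44991) (tt N13670 F33778))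
theorem Q13803 : ∀ i, i < 13803 → P i := stepQ 13802 Q13802 (allL N13802 (tt N27642 D44992) (tt N26122 (iv0 F64243)) (tt N27640 (iv2 F70744)) (tt N6715 F33781) (tt N27643 D44993) (tt N6714 (iv5 D21483)) (tt N27644 D44994) (tt N13671 F33782))
theorem Q13804 : ∀ i, i < 13804 → P i := stepQ 13803 Q13803 (allL N13803 (tt N27645 D44995) (tt N27619 (iv0 F70652)) (tt N27641 (iv2 F70749)) (tt N6716 F33783) (tt N25710 (iv4 F61987)) (tt N27646 D44996) (tt N6714 (iv6 D21484)) (tt N27647 D44997))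
theorem Q13805 : ∀ i, i < 13805 → P i := stepQ 13804 Q13804 (allL N13804 (tt N27648 D44998) (tt N27649 D44999) (tt N13651 F33784) (tt N27644 (iv3 F70756)) (tt N18441 F315584) (tt N27650 D45000) (tt N6715 (iv6 D21485)) (tt N18445 (iv7 F317870)))
theorem Q13806 : ∀ i, i < 13806 → P i := stepQ 13805 Q13805 (allL N13805 (tt N13655 (iv1 F33790)) (tt N6716 (iv0 D21486)) (tt N13652 F66864) (tt N27651 D45002) (tt N24222 (iv4 F66805)) (tt N27652 D45003) (tt N27653 D45004) (tt N13653 F66865))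
theorem Q13807 : ∀ i, i < 13807 → P i := stepQ 13806 Q13806 (allL N13806 (tt N6716 (iv1 D21487)) (tt N13655 F33785) (tt N13653 F66779) (tt N27654 D45005) (tt N7107 F66780) (tt N27655 D45006) (tt N25505 (iv6 F292513)) (tt N13652 F66781))
theorem Q13808 : ∀ i, i < 13808 → P i := stepQ 13807 Q13807 (allL N13807 (tt N27656 D45008) (tt N27657 D45009) (tt N13654 F33786) (tt N27646 (iv3 F70759)) (tt N25045 F323500) (tt N6716 (iv5 D21488)) (tt N27650 (iv6 F70765)) (tt N27658 D45011))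
theorem Q13809 : ∀ i, i < 13809 → P i := stepQ 13808 Q13808 (allL N13808 (tt N13653 (iv1 F33791)) (tt N13652 F33792) (tt N13655 F33787) (tt N27647 (iv3 F70760)) (tt N6719 F33788) (tt N27658 (iv5 F70790)) (tt N7127 F63187) (tt N6716 (iv7 D21489)))
theorem Q13810 : ∀ i, i < 13810 → P i := stepQ 13809 Q13809 (allL N13809 (tt N7076 F66764) (tt N14515 F66765) (tt N7131 F66766) (tt N27659 D45012) (tt N6717 (iv4 D21497)) (tt N27660 D45013) (tt N13135 F291200) (tt N13656 F66767))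
theorem Q13811 : ∀ i, i < 13811 → P i := stepQ 13810 Q13810 (allL N13810 (tt N27661 D45019) (tt N27662 D45020) (tt N13659 F33797) (tt N27663 D45021) (tt N6718 (iv4 D21502)) (tt N27664 D45022) (tt N6722 F33798) (tt N26742 F291565))
theorem Q13812 : ∀ i, i < 13812 → P i := stepQ 13811 Q13811 (allL N13811 (tt N12538 F33809) (tt N12537 F33810) (tt N7135 F33806) (tt N12074 F33807) (tt N27665 D45024) (tt N6720 (iv5 D21504)) (tt N27666 D45025) (tt N12007 F33808))
theorem Q13813 : ∀ i, i < 13813 → P i := stepQ 13812 Q13812 (allL N13812 (tt N12721 F33819) (tt N12720 F33820) (tt N7136 F33817) (tt N27667 D45031) (tt N6721 (iv4 D21507)) (tt N27668 D45032) (tt N25885 (iv6 F293438)) (tt N12714 F33818))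
theorem Q13814 : ∀ i, i < 13814 → P i := stepQ 13813 Q13813 (allL N13813 (tt N12712 (iv1 F33825)) (tt N6722 (iv0 D21509)) (tt N13660 (iv2 F33826)) (tt N27669 D45037) (tt N13144 F33824) (tt N27670 D45038) (tt N12824 (iv6 F292514)) (tt N13661 (iv7 F33827)))
theorem Q13815 : ∀ i, i < 13815 → P i := stepQ 13814 Q13814 (allL N13814 (tt N6722 (iv1 D21510)) (tt N12712 F33828) (tt N13661 (iv2 F33831)) (tt N27671 D45040) (tt N12887 F33830) (tt N27672 D45041) (tt N25886 (iv6 F292516)) (tt N13660 F33829))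
theorem Q13816 : ∀ i, i < 13816 → P i := stepQ 13815 Q13815 (allL N13815 (tt N27673 D45043) (tt N27674 D45044) (tt N27675 D45045) (tt N6722 (iv3 D21511)) (tt N27627 (iv4 F70691)) (tt N27676 D45046) (tt N27663 (iv6 F70821)) (tt N25591 (iv7 F61608)))
theorem Q13817 : ∀ i, i < 13817 → P i := stepQ 13816 Q13816 (allL N13816 (tt N25676 (iv1 F294458)) (tt N25679 (iv0 F294462)) (tt N13663 F33832) (tt N27676 (iv3 F70898)) (tt N27677 D45049) (tt N6722 (iv5 D21512)) (tt N27678 D45050) (tt N25592 (iv7 F61610)))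
theorem Q13818 : ∀ i, i < 13818 → P i := stepQ 13817 Q13817 (allL N13817 (tt N27679 D45051) (tt N27680 D45052) (tt N27681 D45053) (tt N6723 (iv3 D21513)) (tt N12077 F33833) (tt N13731 F33834) (tt N12772 (iv6 F296517)) (tt N12014 F33835))
theorem Q13819 : ∀ i, i < 13819 → P i := stepQ 13818 Q13818 (allL N13818 (tt N6724 (iv1 F33850)) (tt N6724 (iv0 D21520)) (tt N13676 F70955) (tt N27682 D45073) (tt N27683 D45074) (tt N21624 (iv5 F51594)) (tt N27684 D45075) (tt N13676 F70956))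
theorem Q13820 : ∀ i, i < 13820 → P i := stepQ 13819 Q13819 (allL N13819 (tt N27685 D45076) (tt N27685 F70965) (tt N13677 F33851) (tt N6725 F33852) (tt N16866 F41403) (tt N6724 (iv5 D21521)) (tt N27686 D45077) (tt N13677 F33853))
theorem Q13821 : ∀ i, i < 13821 → P i := stepQ 13820 Q13820 (allL N13820 (tt N27687 D45078) (tt N27688 D45079) (tt N13678 F33854) (tt N6726 F33855) (tt N13820 F33856) (tt N27689 D45080) (tt N6724 (iv6 D21522)) (tt N26746 (iv7 F293335)))
theorem Q13822 : ∀ i, i < 13822 → P i := stepQ 13821 Q13821 (allL N13821 (tt N27690 D45082) (tt N27691 D45083) (tt N6767 F33857) (tt N27686 (iv3 F70971)) (tt N12040 F33858) (tt N27692 D45084) (tt N6725 (iv6 D21523)) (tt N27693 D45085))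
theorem Q13823 : ∀ i, i < 13823 → P i := stepQ 13822 Q13822 (allL N13822 (tt N25918 F292277) (tt N25916 F292278) (tt N6770 F33860) (tt N27689 (iv3 F70974)) (tt N23738 (iv4 F293339)) (tt N6726 (iv5 D21525)) (tt N27692 (iv6 F70984)) (tt N26747 F292279))
theorem Q13824 : ∀ i, i < 13824 → P i := stepQ 13823 Q13823 (allL N13823 (tt N12175 (iv1 F116633)) (tt N12307 (iv0 F116634)) (tt N11984 F33886) (tt N6729 F33887) (tt N11638 F33888) (tt N12018 F33889) (tt N6727 (iv6 D21542)) (tt N12306 (iv7 F116635)))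
theorem Q13825 : ∀ i, i < 13825 → P i := stepQ 13824 Q13824 (allL N13824 (tt N27694 D45115) (tt N12266 (iv0 F33892)) (tt N27695 D45116) (tt N6728 (iv3 D21543)) (tt N11636 F33890) (tt N27696 D45117) (tt N27697 D45118) (tt N12001 F33891))
theorem Q13826 : ∀ i, i < 13826 → P i := stepQ 13825 Q13825 (allL N13825 (tt N25655 (iv1 F61815)) (tt N25388 F296546) (tt N12012 F33893) (tt N27696 (iv3 F71089)) (tt N6765 F33895) (tt N6728 (iv5 D21544)) (tt N22868 (iv6 F311632)) (tt N12002 F33894))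
theorem Q13827 : ∀ i, i < 13827 → P i := stepQ 13826 Q13826 (allL N13826 (tt N9348 (iv1 F309745)) (tt N10888 (iv0 F309742)) (tt N12013 F33896) (tt N27697 (iv3 F71093)) (tt N6729 F33897) (tt N9491 (iv5 F310651)) (tt N6728 (iv6 D21545)) (tt N12475 (iv7 F116728)))
theorem Q13828 : ∀ i, i < 13828 → P i := stepQ 13827 Q13827 (allL N13827 (tt N8811 (iv1 F296099)) (tt N8805 (iv0 F296100)) (tt N8808 (iv2 F296097)) (tt N6733 F33906) (tt N25405 (iv4 F60961)) (tt N27698 D45134) (tt N6730 (iv6 D21549)) (tt N8809 (iv7 F296101)))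
theorem Q13829 : ∀ i, i < 13829 → P i := stepQ 13828 Q13828 (allL N13828 (tt N12669 F33909) (tt N13340 (iv0 F33910)) (tt N12740 F33907) (tt N6734 F33908) (tt N27699 D45136) (tt N6731 (iv5 D21550)) (tt N27698 (iv6 F71112)) (tt N24967 (iv7 F296068)))
theorem Q13830 : ∀ i, i < 13830 → P i := stepQ 13829 Q13829 (allL N13829 (tt N27700 D45137) (tt N17544 (iv0 F43653)) (tt N27701 D45138) (tt N6732 (iv3 D21551)) (tt N25404 (iv4 F60959)) (tt N27702 D45139) (tt N27703 D45140) (tt N12011 F33911))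
theorem Q13831 : ∀ i, i < 13831 → P i := stepQ 13830 Q13830 (allL N13830 (tt N25388 F296484) (tt N25655 (iv0 F61814)) (tt N12002 F33912) (tt N27702 (iv3 F71131)) (tt N6764 F33913) (tt N6732 (iv5 D21552)) (tt N27704 D45141) (tt N12012 F33914))
theorem Q13832 : ∀ i, i < 13832 → P i := stepQ 13831 Q13831 (allL N13831 (tt N25429 (iv1 F297739)) (tt N25392 (iv0 F297098)) (tt N12003 F33915) (tt N27703 (iv3 F71134)) (tt N6733 F33916) (tt N27705 D45144) (tt N6732 (iv6 D21553)) (tt N25427 (iv7 F297737)))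
theorem Q13833 : ∀ i, i < 13833 → P i := stepQ 13832 Q13832 (allL N13832 (tt N12528 (iv1 F116794)) (tt N27706 D45157) (tt N12005 F33918) (tt N27698 (iv3 F71111)) (tt N27707 D45158) (tt N6733 (iv5 D21556)) (tt N6734 F33919) (tt N27708 D45159))
theorem Q13834 : ∀ i, i < 13834 → P i := stepQ 13833 Q13833 (allL N13833 (tt N8856 F126004) (tt N12004 F33924) (tt N12006 F33920) (tt N8809 F296468) (tt N25427 (iv4 F297735)) (tt N27708 (iv5 F71156)) (tt N8846 F116742) (tt N6733 (iv7 D21557)))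
theorem Q13835 : ∀ i, i < 13835 → P i := stepQ 13834 Q13834 (allL N13834 (tt N6734 (iv1 D21558)) (tt N11224 F33925) (tt N8863 (iv2 F33928)) (tt N12075 (iv3 F33929)) (tt N27636 (iv4 F70734)) (tt N11227 F33927) (tt N18139 F323117) (tt N11226 F33926))
theorem Q13836 : ∀ i, i < 13836 → P i := stepQ 13835 Q13835 (allL N13835 (tt N27289 (iv1 F70019)) (tt N27291 (iv0 F70024)) (tt N12008 F33930) (tt N27709 D45161) (tt N6734 (iv4 D21559)) (tt N27710 D45162) (tt N27707 (iv6 F71154)) (tt N25373 (iv7 F60837)))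
theorem Q13837 : ∀ i, i < 13837 → P i := stepQ 13836 Q13836 (allL N13836 (tt N27711 D45163) (tt N27712 D45164) (tt N25082 (iv2 F60278)) (tt N6735 (iv3 D21560)) (tt N11931 F33931) (tt N16509 (iv5 F40620)) (tt N27713 D45165) (tt N12021 F33932))
theorem Q13838 : ∀ i, i < 13838 → P i := stepQ 13837 Q13837 (allL N13837 (tt N24226 (iv1 F58149)) (tt N24228 (iv0 F58152)) (tt N12027 F33933) (tt N16509 (iv3 F40619)) (tt N6762 F33935) (tt N6735 (iv5 D21561)) (tt N27714 D45166) (tt N12022 F33934))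
theorem Q13839 : ∀ i, i < 13839 → P i := stepQ 13838 Q13838 (allL N13838 (tt N19007 F310099) (tt N27715 D45168) (tt N12028 F33936) (tt N27713 (iv3 F71177)) (tt N6736 F33937) (tt N27716 D45169) (tt N6735 (iv6 D21562)) (tt N27717 D45170))
theorem Q13840 : ∀ i, i < 13840 → P i := stepQ 13839 Q13839 (allL N13839 (tt N12031 (iv1 F33943)) (tt N6736 (iv0 D21563)) (tt N11352 (iv2 F116785)) (tt N12082 F117325) (tt N27718 D45173) (tt N27719 D45174) (tt N22228 F310618) (tt N12029 (iv7 F116797)))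
theorem Q13841 : ∀ i, i < 13841 → P i := stepQ 13840 Q13840 (allL N13840 (tt N17702 F296367) (tt N23428 F126090) (tt N12030 F33939) (tt N15578 F325408) (tt N27720 D45183) (tt N6736 (iv5 D21565)) (tt N11224 F33940) (tt N27721 D45184))
theorem Q13842 : ∀ i, i < 13842 → P i := stepQ 13841 Q13841 (allL N13841 (tt N12029 (iv1 F33944)) (tt N11352 (iv0 F116703)) (tt N12031 F33941) (tt N23913 (iv3 F56786)) (tt N27717 (iv4 F71184)) (tt N27721 (iv5 F71199)) (tt N11327 F116661) (tt N6736 (iv7 D21566)))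
theorem Q13843 : ∀ i, i < 13843 → P i := stepQ 13842 Q13842 (allL N13842 (tt N27722 D45188) (tt N27723 D45189) (tt N27724 D45190) (tt N6738 (iv3 D21568)) (tt N22177 F305610) (tt N27725 D45191) (tt N22181 (iv6 F307631)) (tt N12026 F33949))
theorem Q13844 : ∀ i, i < 13844 → P i := stepQ 13843 Q13843 (allL N13843 (tt N24228 (iv1 F58153)) (tt N24226 (iv0 F58148)) (tt N12022 F33950) (tt N27725 (iv3 F71224)) (tt N6759 F33951) (tt N6738 (iv5 D21569)) (tt N27726 D45193) (tt N12027 F33952))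
theorem Q13845 : ∀ i, i < 13845 → P i := stepQ 13844 Q13844 (allL N13844 (tt N27727 D45194) (tt N27728 D45195) (tt N12023 F33953) (tt N22181 F309608) (tt N6739 F33954) (tt N27729 D45196) (tt N6738 (iv6 D21570)) (tt N27730 D45197))
theorem Q13846 : ∀ i, i < 13846 → P i := stepQ 13845 Q13845 (allL N13845 (tt N6739 (iv1 D21572)) (tt N11327 F116656) (tt N8532 (iv2 F116705)) (tt N11341 (iv3 F116706)) (tt N27731 D45205) (tt N22228 F310614) (tt N23404 (iv6 F297587)) (tt N11328 (iv7 F116704)))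
theorem Q13847 : ∀ i, i < 13847 → P i := stepQ 13846 Q13846 (allL N13846 (tt N8532 F116652) (tt N11328 F116653) (tt N11327 F116654) (tt N22229 F310615) (tt N27730 (iv4 F71233)) (tt N8846 (iv5 F116696)) (tt N12031 F33958) (tt N6739 (iv7 D21573)))
theorem Q13848 : ∀ i, i < 13848 → P i := stepQ 13847 Q13847 (allL N13847 (tt N27732 D45207) (tt N27733 D45208) (tt N27734 D45209) (tt N6740 (iv3 D21574)) (tt N12120 F33962) (tt N24935 (iv5 F59957)) (tt N27735 D45210) (tt N12032 F33963))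
theorem Q13849 : ∀ i, i < 13849 → P i := stepQ 13848 Q13848 (allL N13848 (tt N27718 (iv1 F116788)) (tt N23423 F59805) (tt N12037 F33964) (tt N27735 (iv3 F71252)) (tt N12710 F33965) (tt N18595 F311223) (tt N6740 (iv6 D21575)) (tt N27736 D45213))
theorem Q13850 : ∀ i, i < 13850 → P i := stepQ 13849 Q13849 (allL N13849 (tt N27737 D45214) (tt N27738 D45215) (tt N27739 D45216) (tt N6741 (iv3 D21576)) (tt N10677 (iv4 F296902)) (tt N24936 (iv5 F59962)) (tt N27740 D45217) (tt N12035 F33967))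
theorem Q13851 : ∀ i, i < 13851 → P i := stepQ 13850 Q13850 (allL N13850 (tt N11329 F59814) (tt N27731 (iv0 F116707)) (tt N12034 F33968) (tt N27740 (iv3 F71275)) (tt N11810 F33969) (tt N27741 D45219) (tt N6741 (iv6 D21577)) (tt N27742 D45220))
theorem Q13852 : ∀ i, i < 13852 → P i := stepQ 13851 Q13851 (allL N13851 (tt N10691 (iv1 F33973)) (tt N10690 F33972) (tt N6742 (iv2 D21578)) (tt N27681 (iv3 F70914)) (tt N8332 F33970) (tt N16848 (iv5 F305257)) (tt N19497 F302913) (tt N10682 F33971))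
theorem Q13853 : ∀ i, i < 13853 → P i := stepQ 13852 Q13852 (allL N13852 (tt N19498 F302909) (tt N11142 F302910) (tt N19497 F302911) (tt N6744 F33979) (tt N8333 F33980) (tt N27743 D45225) (tt N6742 (iv6 D21580)) (tt N12743 (iv7 F296514)))
theorem Q13854 : ∀ i, i < 13854 → P i := stepQ 13853 Q13853 (allL N13853 (tt N27744 D45227) (tt N27745 D45228) (tt N13732 F33981) (tt N21096 F307003) (tt N13679 F33982) (tt N27746 D45229) (tt N6743 (iv6 D21581)) (tt N27747 D45230))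
theorem Q13855 : ∀ i, i < 13855 → P i := stepQ 13854 Q13854 (allL N13854 (tt N6966 F296458) (tt N12628 F296459) (tt N12626 (iv2 F296498)) (tt N27743 (iv3 F71292)) (tt N12687 (iv4 F297712)) (tt N6744 (iv5 D21584)) (tt N27746 (iv6 F71298)) (tt N12625 (iv7 F296497)))
theorem Q13856 : ∀ i, i < 13856 → P i := stepQ 13855 Q13855 (allL N13855 (tt N23404 (iv1 F297586)) (tt N27748 D45269) (tt N12025 (iv2 F296930)) (tt N12135 F296398) (tt N25378 F296399) (tt N24924 F59942) (tt N6745 (iv6 D21590)) (tt N24964 (iv7 F116992)))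
theorem Q13857 : ∀ i, i < 13857 → P i := stepQ 13856 Q13856 (allL N13856 (tt N27749 D45322) (tt N27750 D45323) (tt N27751 D45324) (tt N6746 (iv3 D21608)) (tt N12686 F34006) (tt N27608 (iv5 F70629)) (tt N27752 D45325) (tt N12767 F34007))
theorem Q13858 : ∀ i, i < 13858 → P i := stepQ 13857 Q13857 (allL N13857 (tt N13683 (iv1 F66333)) (tt N13684 (iv0 F66331)) (tt N13686 F34008) (tt N27752 (iv3 F71404)) (tt N12685 F34009) (tt N27753 D45326) (tt N6746 (iv6 D21609)) (tt N13749 (iv7 F66313)))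
theorem Q13859 : ∀ i, i < 13859 → P i := stepQ 13858 Q13858 (allL N13858 (tt N6772 F62910) (tt N6775 F62911) (tt N12769 F34010) (tt N26123 (iv3 F64244)) (tt N12765 F34011) (tt N27754 D45327) (tt N6747 (iv6 D21610)) (tt N25511 (iv7 F293847)))
theorem Q13860 : ∀ i, i < 13860 → P i := stepQ 13859 Q13859 (allL N13859 (tt N11439 (iv1 F34014)) (tt N6748 (iv0 D21611)) (tt N13688 F40020) (tt N13687 F34012) (tt N13162 F34013) (tt N27602 (iv5 F70616)) (tt N27755 D45328) (tt N13687 F40024))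
theorem Q13861 : ∀ i, i < 13861 → P i := stepQ 13860 Q13860 (allL N13860 (tt N6748 (iv1 D21612)) (tt N11439 F34020) (tt N13687 (iv2 F40025)) (tt N27756 D45329) (tt N13161 F34015) (tt N27603 (iv5 F70624)) (tt N27757 D45330) (tt N13688 (iv7 F40026)))
theorem Q13862 : ∀ i, i < 13862 → P i := stepQ 13861 Q13861 (allL N13861 (tt N13688 (iv1 F34021)) (tt N13687 F34019) (tt N6748 (iv2 D21613)) (tt N13703 F34016) (tt N11440 F34017) (tt N27758 D45331) (tt N27759 D45332) (tt N11439 F34018))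
theorem Q13863 : ∀ i, i < 13863 → P i := stepQ 13862 Q13862 (allL N13862 (tt N14889 (iv1 F37362)) (tt N27300 (iv0 F70037)) (tt N27758 (iv2 F71421)) (tt N6749 F34022) (tt N8605 F34024) (tt N6748 (iv5 D21614)) (tt N27760 D45333) (tt N13689 F34023))
theorem Q13864 : ∀ i, i < 13864 → P i := stepQ 13863 Q13863 (allL N13863 (tt N27761 D45334) (tt N27762 D45335) (tt N27759 (iv2 F71427)) (tt N6750 F34025) (tt N13545 F34026) (tt N27763 D45336) (tt N6748 (iv6 D21615)) (tt N27764 D45337))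
theorem Q13865 : ∀ i, i < 13865 → P i := stepQ 13864 Q13864 (allL N13864 (tt N27765 D45338) (tt N27766 D45339) (tt N13706 F34027) (tt N27760 (iv3 F71430)) (tt N24937 (iv4 F59965)) (tt N27767 D45340) (tt N6749 (iv6 D21616)) (tt N27768 D45341))
theorem Q13866 : ∀ i, i < 13866 → P i := stepQ 13865 Q13865 (allL N13865 (tt N13710 (iv1 F34033)) (tt N6750 (iv0 D21617)) (tt N13707 F63471) (tt N27769 D45342) (tt N13147 F63428) (tt N27770 D45343) (tt N27771 D45344) (tt N13708 F63468))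
theorem Q13867 : ∀ i, i < 13867 → P i := stepQ 13866 Q13866 (allL N13866 (tt N6750 (iv1 D21618)) (tt N13710 F34028) (tt N13708 (iv2 F63470)) (tt N27772 D45345) (tt N13148 F63473) (tt N27773 D45346) (tt N27774 D45347) (tt N13707 (iv7 F63472)))
theorem Q13868 : ∀ i, i < 13868 → P i := stepQ 13867 Q13867 (allL N13867 (tt N27775 D45348) (tt N27776 D45349) (tt N13709 F34029) (tt N27763 (iv3 F71432)) (tt N27777 D45350) (tt N6750 (iv5 D21619)) (tt N27767 (iv6 F71438)) (tt N27778 D45351))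
theorem Q13869 : ∀ i, i < 13869 → P i := stepQ 13868 Q13868 (allL N13868 (tt N13708 (iv1 F34034)) (tt N13707 F34035) (tt N13710 F34030) (tt N27764 (iv3 F71433)) (tt N6753 F34031) (tt N27778 (iv5 F71472)) (tt N13104 (iv6 F63225)) (tt N6750 (iv7 D21620)))
theorem Q13870 : ∀ i, i < 13870 → P i := stepQ 13869 Q13869 (allL N13869 (tt N13726 F63254) (tt N6760 F63255) (tt N13109 F63256) (tt N27779 D45352) (tt N6751 (iv4 D21623)) (tt N27780 D45353) (tt N26344 (iv6 F64815)) (tt N13711 F63257))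
theorem Q13871 : ∀ i, i < 13871 → P i := stepQ 13870 Q13870 (allL N13870 (tt N13589 (iv1 F291413)) (tt N13588 (iv0 F290959)) (tt N13117 F63274) (tt N13870 F63275) (tt N27781 D45354) (tt N6751 (iv5 D21624)) (tt N14542 F36095) (tt N13584 (iv7 F291398)))
theorem Q13872 : ∀ i, i < 13872 → P i := stepQ 13871 Q13871 (allL N13871 (tt N12797 F291928) (tt N27782 D45358) (tt N7108 F291929) (tt N27783 D45359) (tt N6752 (iv4 D21633)) (tt N27784 D45360) (tt N12712 F34042) (tt N7105 F291930))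
theorem Q13873 : ∀ i, i < 13873 → P i := stepQ 13872 Q13872 (allL N13872 (tt N13703 (iv1 F34053)) (tt N6755 (iv0 D21638)) (tt N13685 (iv2 F34052)) (tt N27751 (iv3 F71394)) (tt N24435 (iv4 F58708)) (tt N27642 (iv5 F70751)) (tt N27785 D45362) (tt N13702 F34054))
theorem Q13874 : ∀ i, i < 13874 → P i := stepQ 13873 Q13873 (allL N13873 (tt N13685 (iv1 F34060)) (tt N13702 F34059) (tt N6755 (iv2 D21639)) (tt N11439 F34057) (tt N14044 (iv4 F34597)) (tt N27786 D45363) (tt N27787 D45364) (tt N13703 F34058))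
theorem Q13875 : ∀ i, i < 13875 → P i := stepQ 13874 Q13874 (allL N13874 (tt N27348 (iv1 F70117)) (tt N14262 (iv0 F58239)) (tt N27786 (iv2 F71513)) (tt N6756 F34061) (tt N26182 (iv4 F306544)) (tt N6755 (iv5 D21640)) (tt N27788 D45366) (tt N13704 F34062))
theorem Q13876 : ∀ i, i < 13876 → P i := stepQ 13875 Q13875 (allL N13875 (tt N27789 D45367) (tt N27772 (iv0 F71457)) (tt N27787 (iv2 F71518)) (tt N6757 F34063) (tt N25614 (iv4 F61715)) (tt N27790 D45368) (tt N6755 (iv6 D21641)) (tt N26339 (iv7 F64803)))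
theorem Q13877 : ∀ i, i < 13877 → P i := stepQ 13876 Q13876 (allL N13876 (tt N27791 D45369) (tt N27792 D45370) (tt N13693 F34064) (tt N27788 (iv3 F71521)) (tt N18594 F315993) (tt N27793 D45371) (tt N6756 (iv6 D21642)) (tt N27794 D45372))
theorem Q13878 : ∀ i, i < 13878 → P i := stepQ 13877 Q13877 (allL N13877 (tt N13104 (iv1 F63224)) (tt N6757 (iv0 D21643)) (tt N13694 (iv2 F63442)) (tt N26191 (iv3 F64368)) (tt N26194 (iv4 F64367)) (tt N27795 D45373) (tt N27796 D45374) (tt N13695 F63441))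
theorem Q13879 : ∀ i, i < 13879 → P i := stepQ 13878 Q13878 (allL N13878 (tt N6757 (iv1 D21644)) (tt N13104 (iv0 F63223)) (tt N13695 F63439) (tt N27797 D45375) (tt N12701 F63199) (tt N27798 D45376) (tt N27799 D45377) (tt N13694 (iv7 F63440)))
theorem Q13880 : ∀ i, i < 13880 → P i := stepQ 13879 Q13879 (allL N13879 (tt N27800 D45378) (tt N27801 D45379) (tt N13696 F34066) (tt N27790 (iv3 F71523)) (tt N27802 D45380) (tt N6757 (iv5 D21645)) (tt N27793 (iv6 F71526)) (tt N26340 (iv7 F64805)))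
theorem Q13881 : ∀ i, i < 13881 → P i := stepQ 13880 Q13880 (allL N13880 (tt N13714 (iv1 F34078)) (tt N6758 (iv0 D21656)) (tt N13713 F34111) (tt N13720 F34077) (tt N27803 D45381) (tt N27804 D45382) (tt N27805 D45383) (tt N13712 F34109))
theorem Q13882 : ∀ i, i < 13882 → P i := stepQ 13881 Q13881 (allL N13881 (tt N6758 (iv1 D21657)) (tt N13714 F34082) (tt N13712 (iv2 F34110)) (tt N27806 D45384) (tt N26020 (iv4 F63904)) (tt N27807 D45385) (tt N27808 D45386) (tt N13713 (iv7 F34112)))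
theorem Q13883 : ∀ i, i < 13883 → P i := stepQ 13882 Q13882 (allL N13882 (tt N13713 (iv1 F34083)) (tt N13712 F34081) (tt N6758 (iv2 D21658)) (tt N13721 F34079) (tt N13996 (iv4 F34487)) (tt N27809 D45387) (tt N27810 D45388) (tt N13714 F34080))
theorem Q13884 : ∀ i, i < 13884 → P i := stepQ 13883 Q13883 (allL N13883 (tt N27811 D45389) (tt N27812 D45390) (tt N27809 (iv2 F71585)) (tt N6759 F34084) (tt N27813 D45391) (tt N6758 (iv5 D21659)) (tt N27814 D45392) (tt N13715 F34085))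
theorem Q13885 : ∀ i, i < 13885 → P i := stepQ 13884 Q13884 (allL N13884 (tt N27815 D45393) (tt N27816 D45394) (tt N27810 (iv2 F71590)) (tt N6760 F34086) (tt N13998 (iv4 F34493)) (tt N27817 D45395) (tt N6758 (iv6 D21660)) (tt N27818 D45396))
theorem Q13886 : ∀ i, i < 13886 → P i := stepQ 13885 Q13885 (allL N13885 (tt N27819 D45397) (tt N27820 D45398) (tt N13724 F34087) (tt N27814 (iv3 F71603)) (tt N27726 (iv4 F71229)) (tt N27821 D45399) (tt N6759 (iv6 D21661)) (tt N27822 D45400))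
theorem Q13887 : ∀ i, i < 13887 → P i := stepQ 13886 Q13886 (allL N13886 (tt N27823 D45401) (tt N27824 D45402) (tt N13725 F34089) (tt N27817 (iv3 F71604)) (tt N27825 D45403) (tt N6760 (iv5 D21664)) (tt N27821 (iv6 F71609)) (tt N27826 D45404))
theorem Q13888 : ∀ i, i < 13888 → P i := stepQ 13887 Q13887 (allL N13887 (tt N13711 (iv1 F63262)) (tt N13109 (iv0 F35801)) (tt N13726 F34090) (tt N27818 (iv3 F71605)) (tt N25649 (iv4 F61800)) (tt N27826 (iv5 F71625)) (tt N13108 (iv6 F35860)) (tt N6760 (iv7 D21665)))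
theorem Q13889 : ∀ i, i < 13889 → P i := stepQ 13888 Q13888 (allL N13888 (tt N13721 (iv1 F34096)) (tt N6761 (iv0 D21666)) (tt N13720 (iv2 F34097)) (tt N27827 D45405) (tt N11438 F34095) (tt N23871 (iv5 F56638)) (tt N27828 D45406) (tt N13719 (iv7 F34098)))
theorem Q13890 : ∀ i, i < 13890 → P i := stepQ 13889 Q13889 (allL N13889 (tt N6761 (iv1 D21667)) (tt N13721 (iv0 F34103)) (tt N13719 (iv2 F34104)) (tt N13712 (iv3 F34108)) (tt N11437 F34100) (tt N21751 (iv5 F51820)) (tt N27829 D45407) (tt N13720 F34099))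
theorem Q13891 : ∀ i, i < 13891 → P i := stepQ 13890 Q13890 (allL N13890 (tt N13720 (iv1 F34117)) (tt N13719 F34116) (tt N6761 (iv2 D21668)) (tt N13714 F34113) (tt N13373 F34114) (tt N16398 (iv5 F40474)) (tt N27830 D45408) (tt N13721 F34115))
theorem Q13892 : ∀ i, i < 13892 → P i := stepQ 13891 Q13891 (allL N13891 (tt N27831 D45409) (tt N27832 D45410) (tt N27830 (iv2 F71644)) (tt N6763 F34118) (tt N13374 F34119) (tt N27833 D45411) (tt N6761 (iv6 D21669)) (tt N26345 (iv7 F64834)))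
theorem Q13893 : ∀ i, i < 13893 → P i := stepQ 13892 Q13892 (allL N13892 (tt N27834 D45412) (tt N27835 D45413) (tt N13717 F34120) (tt N23862 F56626) (tt N27714 (iv4 F71180)) (tt N27836 D45414) (tt N6762 (iv6 D21670)) (tt N27837 D45415))
theorem Q13894 : ∀ i, i < 13894 → P i := stepQ 13893 Q13893 (allL N13893 (tt N14658 (iv1 F36661)) (tt N27838 D45416) (tt N13718 F34122) (tt N27833 (iv3 F71647)) (tt N27839 D45417) (tt N6763 (iv5 D21673)) (tt N27836 (iv6 F71650)) (tt N26346 (iv7 F64836)))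
theorem Q13895 : ∀ i, i < 13895 → P i := stepQ 13894 Q13894 (allL N13894 (tt N27804 (iv1 F71565)) (tt N27807 (iv0 F71582)) (tt N27840 D45418) (tt N6764 (iv3 D21675)) (tt N27841 D45419) (tt N7073 F34129) (tt N27842 D45420) (tt N13727 F34130))
theorem Q13896 : ∀ i, i < 13896 → P i := stepQ 13895 Q13895 (allL N13895 (tt N27843 D45421) (tt N27844 D45422) (tt N13730 F34131) (tt N27842 (iv3 F71667)) (tt N27704 (iv4 F71136)) (tt N27845 D45423) (tt N6764 (iv6 D21676)) (tt N27846 D45424))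
theorem Q13897 : ∀ i, i < 13897 → P i := stepQ 13896 Q13896 (allL N13896 (tt N23871 (iv1 F56639)) (tt N21751 (iv0 F51821)) (tt N27847 D45425) (tt N6765 (iv3 D21677)) (tt N14886 (iv4 F37357)) (tt N7075 F34132) (tt N27848 D45426) (tt N13729 F34133))
theorem Q13898 : ∀ i, i < 13898 → P i := stepQ 13897 Q13897 (allL N13897 (tt N18442 (iv1 F316561)) (tt N18452 (iv0 F316563)) (tt N13728 F34134) (tt N27848 (iv3 F71682)) (tt N22868 F314106) (tt N27849 D45429) (tt N6765 (iv6 D21678)) (tt N18448 (iv7 F316567)))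
theorem Q13899 : ∀ i, i < 13899 → P i := stepQ 13898 Q13898 (allL N13898 (tt N27850 D45431) (tt N27851 D45432) (tt N21094 F309267) (tt N6766 (iv3 D21679)) (tt N13731 F34135) (tt N12014 F34136) (tt N27852 D45433) (tt N13731 F34137))
theorem Q13900 : ∀ i, i < 13900 → P i := stepQ 13899 Q13899 (allL N13899 (tt N27853 D45434) (tt N27854 D45435) (tt N12040 F34138) (tt N27852 (iv3 F71693)) (tt N6767 F34139) (tt N27855 D45436) (tt N6766 (iv6 D21680)) (tt N27856 D45437))
theorem Q13901 : ∀ i, i < 13901 → P i := stepQ 13900 Q13900 (allL N13900 (tt N27693 (iv1 F70990)) (tt N6767 (iv0 D21681)) (tt N27690 F288181) (tt N27857 D45439) (tt N27858 D45440) (tt N27859 D45441) (tt N27860 D45442) (tt N27691 (iv7 F288189)))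
theorem Q13902 : ∀ i, i < 13902 → P i := stepQ 13901 Q13901 (allL N13901 (tt N6767 (iv1 D21682)) (tt N27693 F70989) (tt N27691 (iv2 F288188)) (tt N27861 D45444) (tt N27862 D45445) (tt N27863 D45446) (tt N27864 D45447) (tt N27690 F288187))
theorem Q13903 : ∀ i, i < 13903 → P i := stepQ 13902 Q13902 (allL N13902 (tt N27865 D45448) (tt N27866 D45449) (tt N27692 (iv2 F70983)) (tt N13735 F34140) (tt N27867 D45450) (tt N6767 (iv5 D21683)) (tt N6770 F34141) (tt N27868 D45451))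
theorem Q13904 : ∀ i, i < 13904 → P i := stepQ 13903 Q13903 (allL N13903 (tt N27691 (iv1 F70982)) (tt N27690 F70988) (tt N27693 (iv2 F70985)) (tt N13736 F34142) (tt N27856 (iv4 F71699)) (tt N27868 (iv5 F71708)) (tt N13736 F34143) (tt N6767 (iv7 D21684)))
theorem Q13905 : ∀ i, i < 13905 → P i := stepQ 13904 Q13904 (allL N13904 (tt N27869 D45452) (tt N27808 F157275) (tt N27870 D45454) (tt N6768 (iv3 D21686)) (tt N14061 (iv4 F62907)) (tt N27871 D45455) (tt N27872 D45456) (tt N26748 F294050))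
theorem Q13906 : ∀ i, i < 13906 → P i := stepQ 13905 Q13905 (allL N13905 (tt N26367 F291938) (tt N12892 F291939) (tt N26374 F291940) (tt N27871 (iv3 F71709)) (tt N27873 D45459) (tt N6768 (iv5 D21688)) (tt N27874 D45460) (tt N26373 F291941))
theorem Q13907 : ∀ i, i < 13907 → P i := stepQ 13906 Q13906 (allL N13906 (tt N26343 (iv1 F71718)) (tt N13519 F292234) (tt N26353 (iv2 F64856)) (tt N27872 (iv3 F71710)) (tt N25658 (iv4 F62908)) (tt N27875 D45463) (tt N6768 (iv6 D21689)) (tt N26352 F64874))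
theorem Q13908 : ∀ i, i < 13908 → P i := stepQ 13907 Q13907 (allL N13907 (tt N27828 (iv1 F157604)) (tt N27876 D45465) (tt N27877 D45466) (tt N6769 (iv3 D21691)) (tt N26292 F292074) (tt N27878 D45467) (tt N27879 D45468) (tt N26749 (iv7 F292638)))
theorem Q13909 : ∀ i, i < 13909 → P i := stepQ 13908 Q13908 (allL N13908 (tt N12892 F291942) (tt N26367 F291943) (tt N26373 F291944) (tt N27878 (iv3 F71719)) (tt N27880 D45469) (tt N6769 (iv5 D21692)) (tt N27881 D45470) (tt N26374 F291945))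
theorem Q13910 : ∀ i, i < 13910 → P i := stepQ 13909 Q13909 (allL N13909 (tt N13113 F62929) (tt N26344 (iv0 F64817)) (tt N26357 F64870) (tt N27879 (iv3 F71720)) (tt N25659 (iv4 F62927)) (tt N14670 (iv5 F36755)) (tt N6769 (iv6 D21693)) (tt N26358 (iv7 F64878)))
theorem Q13911 : ∀ i, i < 13911 → P i := stepQ 13910 Q13910 (allL N13910 (tt N26747 (iv1 F291951)) (tt N6770 (iv0 D21694)) (tt N25918 (iv2 F291935)) (tt N27882 D45471) (tt N27883 D45472) (tt N13140 F291225) (tt N27884 D45474) (tt N25916 (iv7 F291933)))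
theorem Q13912 : ∀ i, i < 13912 → P i := stepQ 13911 Q13911 (allL N13911 (tt N6770 (iv1 D21695)) (tt N26747 (iv0 F291950)) (tt N25916 (iv2 F291932)) (tt N27885 D45475) (tt N27886 D45476) (tt N12926 F291223) (tt N27887 D45477) (tt N25918 (iv7 F291936)))
theorem Q13913 : ∀ i, i < 13913 → P i := stepQ 13912 Q13912 (allL N13912 (tt N27888 D45478) (tt N27889 D45479) (tt N23738 (iv2 F293338)) (tt N27890 D45480) (tt N6770 (iv4 D21696)) (tt N23731 (iv5 F294092)) (tt N27867 (iv6 F71706)) (tt N26750 (iv7 F294042)))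
theorem Q13914 : ∀ i, i < 13914 → P i := stepQ 13913 Q13913 (allL N13913 (tt N13074 (iv1 F71736)) (tt N27004 (iv0 F291668)) (tt N14038 (iv2 F62943)) (tt N6773 F34157) (tt N26597 F65571) (tt N6956 (iv5 F291584)) (tt N6771 (iv6 D21708)) (tt N26360 (iv7 F64887)))
theorem Q13915 : ∀ i, i < 13915 → P i := stepQ 13914 Q13914 (allL N13914 (tt N6775 (iv1 F34164)) (tt N6772 (iv0 D21710)) (tt N25511 (iv2 F293845)) (tt N27891 D45490) (tt N12718 F292887) (tt N27892 D45491) (tt N13749 F66314) (tt N12769 F62598))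
theorem Q13916 : ∀ i, i < 13916 → P i := stepQ 13915 Q13915 (allL N13915 (tt N27893 D45492) (tt N27757 F205500) (tt N27894 D45494) (tt N6772 (iv3 D21712)) (tt N26773 F294529) (tt N27895 D45495) (tt N27896 D45496) (tt N26368 F294530))
theorem Q13917 : ∀ i, i < 13917 → P i := stepQ 13916 Q13916 (allL N13916 (tt N27897 D45497) (tt N27898 D45498) (tt N25513 (iv2 F293815)) (tt N27895 (iv3 F71746)) (tt N27899 D45499) (tt N6772 (iv5 D21713)) (tt N27900 D45500) (tt N26369 (iv7 F293818)))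
theorem Q13918 : ∀ i, i < 13918 → P i := stepQ 13917 Q13917 (allL N13917 (tt N27799 F71549) (tt N27901 D45501) (tt N12831 F293246) (tt N27896 (iv3 F71747)) (tt N6773 F34161) (tt N27902 D45502) (tt N6772 (iv6 D21714)) (tt N26361 (iv7 F64889)))
theorem Q13919 : ∀ i, i < 13919 → P i := stepQ 13918 Q13918 (allL N13918 (tt N26235 (iv1 F69722)) (tt N26052 (iv0 F69721)) (tt N26055 (iv2 F64029)) (tt N6776 F34179) (tt N25680 (iv4 F63049)) (tt N14423 (iv5 F63430)) (tt N6774 (iv6 D21731)) (tt N26240 F64440))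
theorem Q13920 : ∀ i, i < 13920 → P i := stepQ 13919 Q13919 (allL N13919 (tt N27785 (iv1 F71795)) (tt N27903 D45518) (tt N27904 D45519) (tt N6775 (iv3 D21732)) (tt N25678 (iv4 F63048)) (tt N27905 D45520) (tt N27906 D45521) (tt N25512 (iv7 F294750)))
theorem Q13921 : ∀ i, i < 13921 → P i := stepQ 13920 Q13920 (allL N13920 (tt N27898 (iv1 F71750)) (tt N27897 F71749) (tt N26369 (iv2 F293817)) (tt N27905 (iv3 F71796)) (tt N27907 D45522) (tt N6775 (iv5 D21733)) (tt N27908 D45523) (tt N25513 (iv7 F293816)))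
theorem Q13922 : ∀ i, i < 13922 → P i := stepQ 13921 Q13921 (allL N13921 (tt N27909 D45524) (tt N27771 F71452) (tt N26355 (iv2 F64862)) (tt N27906 (iv3 F71797)) (tt N6776 F34180) (tt N27910 D45525) (tt N6775 (iv6 D21734)) (tt N26356 (iv7 F64866)))
theorem Q13923 : ∀ i, i < 13923 → P i := stepQ 13922 Q13922 (allL N13922 (tt N6873 (iv1 F34310)) (tt N6778 (iv0 D21855)) (tt N6872 F68217) (tt N27911 D45717) (tt N27912 D45718) (tt N27913 D45719) (tt N27914 D45720) (tt N6871 F68218))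
theorem Q13924 : ∀ i, i < 13924 → P i := stepQ 13923 Q13923 (allL N13923 (tt N6778 (iv1 D21856)) (tt N6873 F34311) (tt N6871 F68215) (tt N26911 (iv3 F68214)) (tt N27915 D45721) (tt N27916 D45722) (tt N27917 D45723) (tt N6872 F68216))
theorem Q13925 : ∀ i, i < 13925 → P i := stepQ 13924 Q13924 (allL N13924 (tt N27918 D45724) (tt N27919 D45725) (tt N12785 F34312) (tt N6779 F34313) (tt N13924 F34314) (tt N27920 D45726) (tt N6778 (iv6 D21857)) (tt N27921 D45727))
theorem Q13926 : ∀ i, i < 13926 → P i := stepQ 13925 Q13925 (allL N13925 (tt N6995 (iv1 F34320)) (tt N6779 (iv0 D21858)) (tt N6996 F66608) (tt N27922 D45728) (tt N7104 (iv4 F34322)) (tt N27923 D45729) (tt N26694 (iv6 F291439)) (tt N6997 F66609))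
theorem Q13927 : ∀ i, i < 13927 → P i := stepQ 13926 Q13926 (allL N13926 (tt N27924 D45734) (tt N26202 (iv0 F64381)) (tt N6998 F34316) (tt N27920 (iv3 F72125)) (tt N27925 D45735) (tt N6779 (iv5 D21860)) (tt N24787 (iv6 F59428)) (tt N27926 D45736))
theorem Q13928 : ∀ i, i < 13928 → P i := stepQ 13927 Q13927 (allL N13927 (tt N6997 (iv1 F34321)) (tt N6996 F34323) (tt N6995 F34317) (tt N27921 (iv3 F72127)) (tt N6782 F34318) (tt N27926 (iv5 F72156)) (tt N6880 F34319) (tt N6779 (iv7 D21861)))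
theorem Q13929 : ∀ i, i < 13929 → P i := stepQ 13928 Q13928 (allL N13928 (tt N26406 (iv1 F290930)) (tt N6895 F66836) (tt N7024 F66826) (tt N27927 D45738) (tt N6780 (iv4 D21864)) (tt N27928 D45739) (tt N26677 F290848) (tt N7027 F66827))
theorem Q13930 : ∀ i, i < 13930 → P i := stepQ 13929 Q13929 (allL N13929 (tt N26590 F290726) (tt N26450 F290727) (tt N7029 F34329) (tt N27929 D45751) (tt N6781 (iv4 D21873)) (tt N27218 (iv5 F291054)) (tt N6783 F34330) (tt N26497 F290728))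
theorem Q13931 : ∀ i, i < 13931 → P i := stepQ 13930 Q13930 (allL N13930 (tt N27930 D45754) (tt N27931 D45755) (tt N27932 D45756) (tt N6783 (iv3 D21875)) (tt N13930 F34337) (tt N27933 D45757) (tt N27929 (iv6 F72205)) (tt N25966 (iv7 F63762)))
theorem Q13932 : ∀ i, i < 13932 → P i := stepQ 13931 Q13931 (allL N13931 (tt N26298 (iv1 F64585)) (tt N26297 F64582) (tt N7039 F34338) (tt N27933 (iv3 F72221)) (tt N23051 (iv4 F54925)) (tt N6783 (iv5 D21876)) (tt N27934 D45758) (tt N24911 (iv7 F59918)))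
theorem Q13933 : ∀ i, i < 13933 → P i := stepQ 13932 Q13932 (allL N13932 (tt N6785 (iv1 D21881)) (tt N6999 (iv0 F63111)) (tt N6884 F63100) (tt N7013 F63101) (tt N12786 F63102) (tt N14419 F63103) (tt N26696 F294483) (tt N7000 F63104))
theorem Q13934 : ∀ i, i < 13934 → P i := stepQ 13933 Q13933 (allL N13933 (tt N6884 (iv1 F63110)) (tt N7000 (iv0 F63107)) (tt N6999 (iv2 F63112)) (tt N13591 F34349) (tt N25699 F63106) (tt N25971 (iv5 F63777)) (tt N26379 F291513) (tt N6785 (iv7 D21882)))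
theorem Q13935 : ∀ i, i < 13935 → P i := stepQ 13934 Q13934 (allL N13934 (tt N6796 (iv1 F34356)) (tt N6786 (iv0 D21883)) (tt N6794 F65886) (tt N12992 F65916) (tt N25531 (iv4 F66308)) (tt N27935 D45768) (tt N26610 (iv6 F291992)) (tt N6795 F65888))
theorem Q13936 : ∀ i, i < 13936 → P i := stepQ 13935 Q13935 (allL N13935 (tt N6795 (iv1 F34357)) (tt N6794 F34358) (tt N6796 F34354) (tt N26079 (iv3 F64139)) (tt N13506 F294660) (tt N13935 F34355) (tt N13497 (iv6 F292857)) (tt N6786 (iv7 D21885)))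
theorem Q13937 : ∀ i, i < 13937 → P i := stepQ 13936 Q13936 (allL N13936 (tt N24124 (iv1 F119025)) (tt N24070 (iv0 F296256)) (tt N6804 F34359) (tt N6789 F34360) (tt N24333 (iv4 F296254)) (tt N13936 F34361) (tt N6787 (iv6 D21886)) (tt N8707 (iv7 F296242)))
theorem Q13938 : ∀ i, i < 13938 → P i := stepQ 13937 Q13937 (allL N13937 (tt N27936 D45773) (tt N27937 D45774) (tt N27938 D45775) (tt N6788 (iv3 D21887)) (tt N24377 (iv4 F58434)) (tt N27939 D45776) (tt N27940 D45777) (tt N12583 F34362))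
theorem Q13939 : ∀ i, i < 13939 → P i := stepQ 13938 Q13938 (allL N13938 (tt N10965 F302509) (tt N24248 (iv0 F58177)) (tt N11828 F34363) (tt N27939 (iv3 F72258)) (tt N6965 F34365) (tt N6788 (iv5 D21888)) (tt N10928 (iv6 F304943)) (tt N12584 F34364))
theorem Q13940 : ∀ i, i < 13940 → P i := stepQ 13939 Q13939 (allL N13939 (tt N24260 (iv1 F296550)) (tt N24257 (iv0 F296551)) (tt N12579 F34366) (tt N27940 (iv3 F72263)) (tt N6789 F34367) (tt N27941 D45781) (tt N6788 (iv6 D21889)) (tt N24187 (iv7 F118863)))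
theorem Q13941 : ∀ i, i < 13941 → P i := stepQ 13940 Q13940 (allL N13940 (tt N6790 (iv1 D21894)) (tt N13701 F34375) (tt N13700 F63553) (tt N13392 (iv3 F63551)) (tt N26156 F64324) (tt N27942 D45791) (tt N26605 (iv6 F291234)) (tt N13699 (iv7 F63554)))
theorem Q13942 : ∀ i, i < 13942 → P i := stepQ 13941 Q13941 (allL N13941 (tt N13700 (iv1 F34382)) (tt N13699 F34383) (tt N13701 F34379) (tt N13156 F34380) (tt N25618 (iv4 F61717)) (tt N24222 (iv5 F291030)) (tt N25971 (iv6 F63778)) (tt N6790 (iv7 D21896)))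
theorem Q13943 : ∀ i, i < 13943 → P i := stepQ 13942 Q13942 (allL N13942 (tt N12071 (iv1 F34385)) (tt N6791 (iv0 D21897)) (tt N13964 (iv2 F34431)) (tt N27943 D45797) (tt N25384 (iv4 F60867)) (tt N12079 F34384) (tt N27944 D45798) (tt N25384 (iv7 F60868)))
theorem Q13944 : ∀ i, i < 13944 → P i := stepQ 13943 Q13943 (allL N13943 (tt N6791 (iv1 D21898)) (tt N12071 (iv0 F34387)) (tt N25384 (iv2 F60866)) (tt N24433 (iv3 F58704)) (tt N13964 (iv4 F34434)) (tt N12080 F34386) (tt N27945 D45799) (tt N13964 (iv7 F34433)))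
theorem Q13945 : ∀ i, i < 13945 → P i := stepQ 13944 Q13944 (allL N13944 (tt N13964 (iv1 F34436)) (tt N25384 (iv0 F60869)) (tt N6791 (iv2 D21899)) (tt N26152 (iv3 F64295)) (tt N6822 F34388) (tt N8677 F34389) (tt N27946 D45800) (tt N12071 F34390))
theorem Q13946 : ∀ i, i < 13946 → P i := stepQ 13945 Q13945 (allL N13945 (tt N27947 D45801) (tt N27948 D45802) (tt N27946 (iv2 F72302)) (tt N6793 F34391) (tt N6823 F34392) (tt N27949 D45803) (tt N6791 (iv6 D21900)) (tt N27193 (iv7 F69205)))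
theorem Q13947 : ∀ i, i < 13947 → P i := stepQ 13946 Q13946 (allL N13946 (tt N24248 (iv1 F58178)) (tt N10965 (iv0 F301337)) (tt N12584 F34393) (tt N8563 F34394) (tt N6792 (iv4 D21901)) (tt N6840 F34395) (tt N25219 (iv6 F301338)) (tt N11828 F34396))
theorem Q13948 : ∀ i, i < 13948 → P i := stepQ 13947 Q13947 (allL N13947 (tt N27950 D45805) (tt N27951 D45806) (tt N12851 F34397) (tt N12066 F34398) (tt N25219 F301566) (tt N27952 D45807) (tt N6792 (iv6 D21902)) (tt N27953 D45808))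
theorem Q13949 : ∀ i, i < 13949 → P i := stepQ 13948 Q13948 (allL N13948 (tt N26705 F294669) (tt N26701 (iv0 F294767)) (tt N26154 (iv2 F64309)) (tt N27949 (iv3 F72304)) (tt N27954 D45810) (tt N6793 (iv5 D21905)) (tt N27952 (iv6 F72312)) (tt N26702 (iv7 F294738)))
theorem Q13950 : ∀ i, i < 13950 → P i := stepQ 13949 Q13949 (allL N13949 (tt N27955 D45811) (tt N14141 (iv0 F64031)) (tt N27935 (iv2 F72225)) (tt N12909 F294004) (tt N26753 F294005) (tt N6794 (iv5 D21910)) (tt N26473 F291464) (tt N13756 (iv7 F65884)))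
theorem Q13951 : ∀ i, i < 13951 → P i := stepQ 13950 Q13950 (allL N13950 (tt N26605 F291809) (tt N26242 (iv0 F70664)) (tt N26610 (iv2 F291990)) (tt N13323 F291810) (tt N25636 (iv4 F66310)) (tt N14600 (iv5 F65883)) (tt N6794 (iv6 D21911)) (tt N26609 F291811))
theorem Q13952 : ∀ i, i < 13952 → P i := stepQ 13951 Q13951 (allL N13951 (tt N12988 F65854) (tt N12994 F65855) (tt N12993 F65908) (tt N6795 (iv3 D21913)) (tt N13533 F65857) (tt N26574 F65858) (tt N27956 D45815) (tt N12992 (iv7 F65915)))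
theorem Q13953 : ∀ i, i < 13953 → P i := stepQ 13952 Q13952 (allL N13952 (tt N14141 (iv1 F65975)) (tt N27955 F72325) (tt N13756 F65875) (tt N26574 (iv3 F65859)) (tt N26754 F293720) (tt N6795 (iv5 D21915)) (tt N14145 (iv6 F34890)) (tt N27935 (iv7 F72227)))
theorem Q13954 : ∀ i, i < 13954 → P i := stepQ 13953 Q13953 (allL N13953 (tt N26245 (iv1 F72333)) (tt N26236 (iv0 F69723)) (tt N13757 F65897) (tt N27956 (iv3 F72352)) (tt N25638 (iv4 F66305)) (tt N13148 (iv5 F290859)) (tt N6795 (iv6 D21916)) (tt N26243 (iv7 F72329)))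
theorem Q13955 : ∀ i, i < 13955 → P i := stepQ 13954 Q13954 (allL N13954 (tt N12424 F34404) (tt N24110 F57438) (tt N27957 D45818) (tt N6797 (iv3 D21917)) (tt N12339 F34402) (tt N27958 D45819) (tt N27959 D45820) (tt N12192 F34403))
theorem Q13956 : ∀ i, i < 13956 → P i := stepQ 13955 Q13955 (allL N13955 (tt N11272 F34408) (tt N11277 F34409) (tt N12126 F34405) (tt N27958 (iv3 F72367)) (tt N6825 F34407) (tt N6797 (iv5 D21918)) (tt N27960 D45821) (tt N12127 F34406))
theorem Q13957 : ∀ i, i < 13957 → P i := stepQ 13956 Q13956 (allL N13956 (tt N12318 (iv1 F121802)) (tt N12320 (iv0 F121803)) (tt N12191 F34410) (tt N27959 (iv3 F72371)) (tt N6798 F34411) (tt N27961 D45824) (tt N6797 (iv6 D21919)) (tt N23977 (iv7 F298249)))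
theorem Q13958 : ∀ i, i < 13958 → P i := stepQ 13957 Q13957 (allL N13957 (tt N23983 (iv1 F298250)) (tt N23982 (iv0 F298252)) (tt N17572 F296703) (tt N13636 F34412) (tt N27962 D45838) (tt N6798 (iv5 D21922)) (tt N6799 F34413) (tt N23978 (iv7 F298047)))
theorem Q13959 : ∀ i, i < 13959 → P i := stepQ 13958 Q13958 (allL N13958 (tt N11258 F34415) (tt N12328 F34416) (tt N23947 (iv2 F56990)) (tt N27963 D45840) (tt N6799 (iv4 D21924)) (tt N27964 D45841) (tt N27962 (iv6 F72385)) (tt N25977 (iv7 F63805)))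
theorem Q13960 : ∀ i, i < 13960 → P i := stepQ 13959 Q13959 (allL N13959 (tt N27965 D45842) (tt N27966 D45843) (tt N27967 D45844) (tt N6800 (iv3 D21925)) (tt N17468 (iv4 F43368)) (tt N27968 D45845) (tt N27969 D45846) (tt N12190 F34417))
theorem Q13961 : ∀ i, i < 13961 → P i := stepQ 13960 Q13960 (allL N13960 (tt N11277 F34421) (tt N11272 F34422) (tt N12127 F34418) (tt N27968 (iv3 F72398)) (tt N6824 F34419) (tt N6800 (iv5 D21926)) (tt N27970 D45847) (tt N12126 F34420))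
theorem Q13962 : ∀ i, i < 13962 → P i := stepQ 13961 Q13961 (allL N13961 (tt N12176 F59721) (tt N12178 F59722) (tt N12193 F34424) (tt N27969 (iv3 F72400)) (tt N6801 F34425) (tt N27971 D45848) (tt N6800 (iv6 D21927)) (tt N12299 F59688))
theorem Q13963 : ∀ i, i < 13963 → P i := stepQ 13962 Q13962 (allL N13962 (tt N27972 D45849) (tt N24164 (iv0 F114029)) (tt N11594 F34426) (tt N24087 (iv3 F57377)) (tt N12091 F34427) (tt N27973 D45851) (tt N6802 (iv6 D21931)) (tt N27974 D45852))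
theorem Q13964 : ∀ i, i < 13964 → P i := stepQ 13963 Q13963 (allL N13963 (tt N21778 F51874) (tt N6943 (iv0 F34429)) (tt N27975 D45853) (tt N6803 (iv3 D21932)) (tt N6811 F34428) (tt N13007 (iv5 F34430)) (tt N27976 D45854) (tt N22982 (iv7 F54812)))
theorem Q13965 : ∀ i, i < 13965 → P i := stepQ 13964 Q13964 (allL N13964 (tt N12976 F34435) (tt N13944 F34436) (tt N13942 F34431) (tt N13007 F34432) (tt N13943 F34434) (tt N6803 (iv5 D21933)) (tt N27977 D45855) (tt N13943 F34433))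
theorem Q13966 : ∀ i, i < 13966 → P i := stepQ 13965 Q13965 (allL N13965 (tt N17628 (iv1 F118896)) (tt N17630 (iv0 F118897)) (tt N24333 F297081) (tt N27976 (iv3 F72419)) (tt N6804 F34437) (tt N27978 D45858) (tt N6803 (iv6 D21934)) (tt N17394 (iv7 F298114)))
theorem Q13967 : ∀ i, i < 13967 → P i := stepQ 13966 Q13966 (allL N13966 (tt N6804 (iv1 D21936)) (tt N8707 F297084) (tt N24070 F297085) (tt N24124 F297086) (tt N27979 D45867) (tt N27980 D45868) (tt N27981 D45869) (tt N24124 (iv7 F118885)))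
theorem Q13968 : ∀ i, i < 13968 → P i := stepQ 13967 Q13967 (allL N13967 (tt N24070 F296618) (tt N24124 (iv0 F119024)) (tt N8707 F296619) (tt N6814 F34438) (tt N17394 (iv4 F298113)) (tt N13967 F34439) (tt N8700 F296620) (tt N6804 (iv7 D21937)))
theorem Q13969 : ∀ i, i < 13969 → P i := stepQ 13968 Q13968 (allL N13968 (tt N27982 D45874) (tt N27983 D45875) (tt N27984 D45876) (tt N6807 (iv3 D21940)) (tt N12032 F34447) (tt N24606 (iv5 F59162)) (tt N27985 D45877) (tt N12120 F34448))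
theorem Q13970 : ∀ i, i < 13970 → P i := stepQ 13969 Q13969 (allL N13969 (tt N11300 F59786) (tt N11303 F59787) (tt N12119 F34449) (tt N27985 (iv3 F72453)) (tt N6808 F34450) (tt N27986 D45878) (tt N6807 (iv6 D21941)) (tt N27987 D45879))
theorem Q13971 : ∀ i, i < 13971 → P i := stepQ 13970 Q13970 (allL N13970 (tt N23986 (iv1 F297187)) (tt N6808 (iv0 D21942)) (tt N23009 (iv2 F113992)) (tt N11588 F59764) (tt N19329 F312169) (tt N24136 F296712) (tt N24180 (iv6 F298277)) (tt N23011 F113990))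
theorem Q13972 : ∀ i, i < 13972 → P i := stepQ 13971 Q13971 (allL N13971 (tt N6808 (iv1 D21943)) (tt N23986 (iv0 F297186)) (tt N23011 F113989) (tt N24074 (iv3 F91439)) (tt N22954 F59780) (tt N24137 F296713) (tt N11562 F296714) (tt N23009 (iv7 F113993)))
theorem Q13973 : ∀ i, i < 13973 → P i := stepQ 13972 Q13972 (allL N13972 (tt N23011 (iv1 F59759)) (tt N23009 (iv0 F59746)) (tt N23986 (iv2 F297188)) (tt N25589 (iv3 F61583)) (tt N27987 (iv4 F72459)) (tt N23979 (iv5 F296864)) (tt N25976 (iv6 F63800)) (tt N6808 (iv7 D21944)))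
theorem Q13974 : ∀ i, i < 13974 → P i := stepQ 13973 Q13973 (allL N13973 (tt N27988 D45887) (tt N22174 (iv0 F298268)) (tt N27989 D45889) (tt N6809 (iv3 D21945)) (tt N10674 (iv4 F298255)) (tt N24604 (iv5 F59158)) (tt N27990 D45890) (tt N12117 F34452))
theorem Q13975 : ∀ i, i < 13975 → P i := stepQ 13974 Q13974 (allL N13974 (tt N27991 D45891) (tt N27992 D45892) (tt N12122 F34453) (tt N27990 (iv3 F72478)) (tt N6810 F34454) (tt N27993 D45893) (tt N6809 (iv6 D21946)) (tt N27994 D45894))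
theorem Q13976 : ∀ i, i < 13976 → P i := stepQ 13975 Q13975 (allL N13975 (tt N25976 (iv1 F63803)) (tt N6810 (iv0 D21947)) (tt N24151 F296707) (tt N27972 (iv3 F112809)) (tt N23015 (iv4 F112808)) (tt N23652 (iv5 F298272)) (tt N24137 F296708) (tt N25974 (iv7 F114042)))
theorem Q13977 : ∀ i, i < 13977 → P i := stepQ 13976 Q13976 (allL N13976 (tt N6810 (iv1 D21948)) (tt N25976 F63802) (tt N25974 (iv2 F114039)) (tt N24155 (iv3 F71267)) (tt N23016 F71266) (tt N23653 (iv5 F297271)) (tt N27995 D45901) (tt N24151 F296709))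
theorem Q13978 : ∀ i, i < 13978 → P i := stepQ 13977 Q13977 (allL N13977 (tt N24046 F296602) (tt N27996 D45903) (tt N25975 (iv2 F63794)) (tt N8581 (iv3 F298048)) (tt N27997 D45904) (tt N6810 (iv5 D21949)) (tt N11815 F34456) (tt N11704 F296603))
theorem Q13979 : ∀ i, i < 13979 → P i := stepQ 13978 Q13978 (allL N13978 (tt N25974 (iv1 F63793)) (tt N24151 F296710) (tt N25976 (iv2 F63797)) (tt N11706 (iv3 F298265)) (tt N27994 (iv4 F72484)) (tt N11704 F296711) (tt N23986 (iv6 F297189)) (tt N6810 (iv7 D21950)))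
theorem Q13980 : ∀ i, i < 13980 → P i := stepQ 13979 Q13979 (allL N13979 (tt N22981 (iv1 F54807)) (tt N6811 (iv0 D21951)) (tt N22980 F64254) (tt N27998 D45906) (tt N27999 D45907) (tt N23525 (iv5 F56066)) (tt N28000 D45908) (tt N22979 F64253))
theorem Q13981 : ∀ i, i < 13981 → P i := stepQ 13980 Q13980 (allL N13980 (tt N6811 (iv1 D21952)) (tt N22981 F54810) (tt N22979 F64252) (tt N28001 D45909) (tt N28002 D45910) (tt N23007 F300405) (tt N23017 (iv6 F303261)) (tt N22980 (iv7 F64256)))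
theorem Q13982 : ∀ i, i < 13982 → P i := stepQ 13981 Q13981 (allL N13981 (tt N22980 (iv1 F54808)) (tt N22979 F54804) (tt N6811 (iv2 D21953)) (tt N11629 F34458) (tt N27975 (iv4 F72414)) (tt N11628 F34459) (tt N28003 D45912) (tt N22981 (iv7 F54806)))
theorem Q13983 : ∀ i, i < 13983 → P i := stepQ 13982 Q13982 (allL N13982 (tt N28004 D45913) (tt N28005 D45914) (tt N28003 (iv2 F72503)) (tt N6812 F34460) (tt N27976 (iv4 F72420)) (tt N28006 D45915) (tt N6811 (iv6 D21954)) (tt N28007 D45916))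
theorem Q13984 : ∀ i, i < 13984 → P i := stepQ 13983 Q13983 (allL N13983 (tt N28008 D45927) (tt N28009 D45928) (tt N22989 (iv2 F54840)) (tt N28006 (iv3 F72505)) (tt N28010 D45929) (tt N6812 (iv5 D21957)) (tt N24776 (iv6 F59417)) (tt N28011 D45930))
theorem Q13985 : ∀ i, i < 13985 → P i := stepQ 13984 Q13984 (allL N13984 (tt N22977 F118889) (tt N17632 F118890) (tt N22990 (iv2 F54841)) (tt N28007 (iv3 F72506)) (tt N6814 F34461) (tt N28011 (iv5 F72511)) (tt N11558 F296656) (tt N6812 (iv7 D21958)))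
theorem Q13986 : ∀ i, i < 13986 → P i := stepQ 13985 Q13985 (allL N13985 (tt N12108 F296817) (tt N11278 (iv0 F118904)) (tt N12129 (iv2 F118914)) (tt N28012 D45946) (tt N6813 (iv4 D21961)) (tt N28013 D45947) (tt N28014 D45948) (tt N12130 (iv7 F118900)))
theorem Q13987 : ∀ i, i < 13987 → P i := stepQ 13986 Q13986 (allL N13986 (tt N24176 F296818) (tt N24175 (iv0 F298295)) (tt N11684 (iv2 F298191)) (tt N24188 F296819) (tt N24870 (iv4 F119016)) (tt N6813 (iv5 D21962)) (tt N11681 F296820) (tt N24170 (iv7 F298190)))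
theorem Q13988 : ∀ i, i < 13988 → P i := stepQ 13987 Q13987 (allL N13987 (tt N27995 (iv1 F128566)) (tt N24148 (iv0 F298141)) (tt N17597 (iv2 F298192)) (tt N24189 F296821) (tt N28014 (iv4 F72524)) (tt N26005 F63881) (tt N6813 (iv6 D21963)) (tt N28015 D45957))
theorem Q13989 : ∀ i, i < 13989 → P i := stepQ 13988 Q13988 (allL N13988 (tt N26058 (iv1 F64046)) (tt N6815 (iv0 D21974)) (tt N26057 F69352) (tt N28016 D45988) (tt N27102 (iv4 F68961)) (tt N28017 D45989) (tt N28018 D45990) (tt N26056 F69350))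
theorem Q13990 : ∀ i, i < 13990 → P i := stepQ 13989 Q13989 (allL N13989 (tt N6815 (iv1 D21975)) (tt N26058 F64048) (tt N26056 (iv2 F69351)) (tt N27414 F71575) (tt N23254 (iv4 F55309)) (tt N28019 D45991) (tt N28020 D45992) (tt N26057 (iv7 F69353)))
theorem Q13991 : ∀ i, i < 13991 → P i := stepQ 13990 Q13990 (allL N13990 (tt N26057 (iv1 F64047)) (tt N26056 F64042) (tt N6815 (iv2 D21976)) (tt N12774 F34476) (tt N13180 F34477) (tt N28021 D45993) (tt N28022 D45994) (tt N26058 (iv7 F64045)))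
theorem Q13992 : ∀ i, i < 13992 → P i := stepQ 13991 Q13991 (allL N13991 (tt N28023 D45995) (tt N28024 D45996) (tt N28021 (iv2 F72568)) (tt N6816 F34478) (tt N28025 D45997) (tt N6815 (iv5 D21977)) (tt N28026 D45998) (tt N14174 (iv7 F34955)))
theorem Q13993 : ∀ i, i < 13993 → P i := stepQ 13992 Q13992 (allL N13992 (tt N28027 D45999) (tt N28028 D46000) (tt N28022 (iv2 F72570)) (tt N6817 F34479) (tt N13182 F34480) (tt N28029 D46001) (tt N6815 (iv6 D21978)) (tt N26246 (iv7 F64453)))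
theorem Q13994 : ∀ i, i < 13994 → P i := stepQ 13993 Q13993 (allL N13993 (tt N28030 D46002) (tt N17648 F299047) (tt N14177 (iv2 F34960)) (tt N28026 (iv3 F72578)) (tt N24605 (iv4 F59161)) (tt N28031 D46004) (tt N6816 (iv6 D21979)) (tt N28032 D46005))
theorem Q13995 : ∀ i, i < 13995 → P i := stepQ 13994 Q13994 (allL N13994 (tt N28033 D46006) (tt N14440 (iv0 F35954)) (tt N26063 (iv2 F64060)) (tt N28029 (iv3 F72579)) (tt N28034 D46007) (tt N6817 (iv5 D21982)) (tt N28031 (iv6 F72580)) (tt N26247 (iv7 F64454)))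
theorem Q13996 : ∀ i, i < 13996 → P i := stepQ 13995 Q13995 (allL N13995 (tt N6818 (iv1 D21984)) (tt N12774 F34486) (tt N12686 (iv2 F34483)) (tt N12751 F34485) (tt N27751 (iv4 F71395)) (tt N21594 (iv5 F51566)) (tt N28035 D46008) (tt N12775 F34482))
theorem Q13997 : ∀ i, i < 13997 → P i := stepQ 13996 Q13996 (allL N13996 (tt N12775 (iv1 F34490)) (tt N12686 F34489) (tt N6818 (iv2 D21985)) (tt N26058 (iv3 F64043)) (tt N13882 F34487) (tt N25754 (iv5 F62134)) (tt N28036 D46009) (tt N12774 F34488))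
theorem Q13998 : ∀ i, i < 13998 → P i := stepQ 13997 Q13997 (allL N13997 (tt N14616 F36470) (tt N21782 (iv0 F51886)) (tt N25754 F62135) (tt N6819 F34491) (tt N28037 D46010) (tt N6818 (iv5 D21986)) (tt N28038 D46011) (tt N14176 (iv7 F34958)))
theorem Q13999 : ∀ i, i < 13999 → P i := stepQ 13998 Q13998 (allL N13998 (tt N28039 D46012) (tt N28040 D46013) (tt N28036 (iv2 F72588)) (tt N6820 F34492) (tt N13884 F34493) (tt N28041 D46014) (tt N6818 (iv6 D21987)) (tt N28042 D46015))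
theorem Q14000 : ∀ i, i < 14000 → P i := stepQ 13999 Q13999 (allL N13999 (tt N28043 D46016) (tt N28044 D46017) (tt N14175 (iv2 F34956)) (tt N28038 (iv3 F72590)) (tt N24607 (iv4 F59167)) (tt N28045 D46018) (tt N6819 (iv6 D21988)) (tt N28046 D46019))
theorem Q14001 : ∀ i, i < 14001 → P i := stepQ 14000 Q14000 (allL N14000 (tt N26501 (iv1 F291674)) (tt N28047 D46021) (tt N26060 (iv2 F64051)) (tt N28041 (iv3 F72594)) (tt N28048 D46022) (tt N6820 (iv5 D21991)) (tt N28045 (iv6 F72599)) (tt N28049 D46023))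
theorem Q14002 : ∀ i, i < 14002 → P i := stepQ 14001 Q14001 (allL N14001 (tt N25965 F63736) (tt N25964 (iv0 F63726)) (tt N26061 (iv2 F64052)) (tt N28042 (iv3 F72595)) (tt N25606 (iv4 F61670)) (tt N28049 (iv5 F72601)) (tt N26047 F63958) (tt N6820 (iv7 D21992)))
theorem Q14003 : ∀ i, i < 14003 → P i := stepQ 14002 Q14002 (allL N14002 (tt N28050 D46024) (tt N28016 (iv0 F72564)) (tt N28051 D46025) (tt N6821 (iv3 D21993)) (tt N28051 (iv4 F72610)) (tt N17613 (iv5 F44067)) (tt N28052 D46026) (tt N24375 (iv7 F58393)))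
theorem Q14004 : ∀ i, i < 14004 → P i := stepQ 14003 Q14003 (allL N14003 (tt N26285 (iv1 F335671)) (tt N28053 D46028) (tt N17624 (iv2 F44109)) (tt N28052 (iv3 F72612)) (tt N12094 F34494) (tt N28054 D46029) (tt N6821 (iv6 D21994)) (tt N28055 D46030))
theorem Q14005 : ∀ i, i < 14005 → P i := stepQ 14004 Q14004 (allL N14004 (tt N28056 D46031) (tt N28057 D46032) (tt N6823 F34495) (tt N26092 (iv3 F64179)) (tt N27946 (iv4 F72303)) (tt N28058 D46033) (tt N6822 (iv6 D21995)) (tt N28059 D46034))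
theorem Q14006 : ∀ i, i < 14006 → P i := stepQ 14005 Q14005 (allL N14005 (tt N28059 (iv1 F72622)) (tt N6823 (iv0 D21996)) (tt N28056 F152043) (tt N28060 D46036) (tt N27024 F295316) (tt N28061 D46038) (tt N28062 D46039) (tt N28057 (iv7 F152049)))
theorem Q14007 : ∀ i, i < 14007 → P i := stepQ 14006 Q14006 (allL N14006 (tt N6823 (iv1 D21997)) (tt N28059 F72619) (tt N28057 (iv2 F152048)) (tt N28063 D46041) (tt N27023 F295310) (tt N28064 D46043) (tt N28065 D46044) (tt N28056 F152047))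
theorem Q14008 : ∀ i, i < 14008 → P i := stepQ 14007 Q14007 (allL N14007 (tt N28066 D46045) (tt N28067 D46046) (tt N28058 (iv2 F72616)) (tt N6829 F34496) (tt N28068 D46047) (tt N6823 (iv5 D21998)) (tt N25009 (iv6 F60125)) (tt N19722 F326260))
theorem Q14009 : ∀ i, i < 14009 → P i := stepQ 14008 Q14008 (allL N14008 (tt N28057 (iv1 F72614)) (tt N28056 F72618) (tt N28059 (iv2 F72617)) (tt N6830 F34497) (tt N27193 (iv4 F69204)) (tt N19722 F326576) (tt N13499 (iv6 F294146)) (tt N6823 (iv7 D21999)))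
theorem Q14010 : ∀ i, i < 14010 → P i := stepQ 14009 Q14009 (allL N14009 (tt N28017 (iv1 F83054)) (tt N28019 (iv0 F72567)) (tt N28069 D46050) (tt N6824 (iv3 D22000)) (tt N28070 D46051) (tt N6894 F34498) (tt N28071 D46052) (tt N26067 (iv7 F64067)))
theorem Q14011 : ∀ i, i < 14011 → P i := stepQ 14010 Q14010 (allL N14010 (tt N24789 (iv1 F154535)) (tt N24791 (iv0 F154536)) (tt N26070 (iv2 F64076)) (tt N28071 (iv3 F72634)) (tt N27970 (iv4 F72403)) (tt N28072 D46055) (tt N6824 (iv6 D22001)) (tt N28073 D46056))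
theorem Q14012 : ∀ i, i < 14012 → P i := stepQ 14011 Q14011 (allL N14011 (tt N12776 F34500) (tt N21594 (iv0 F51567)) (tt N28074 D46057) (tt N6825 (iv3 D22002)) (tt N28075 D46058) (tt N6896 F34499) (tt N28076 D46059) (tt N26069 (iv7 F64071)))
theorem Q14013 : ∀ i, i < 14013 → P i := stepQ 14012 Q14012 (allL N14012 (tt N28077 D46060) (tt N28078 D46061) (tt N26068 (iv2 F64068)) (tt N28076 (iv3 F72640)) (tt N27960 (iv4 F72374)) (tt N28079 D46062) (tt N6825 (iv6 D22003)) (tt N28080 D46063))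
theorem Q14014 : ∀ i, i < 14014 → P i := stepQ 14013 Q14013 (allL N14013 (tt N26101 (iv1 F64191)) (tt N6826 (iv0 D22004)) (tt N26098 (iv2 F268263)) (tt N28081 D46065) (tt N28082 D46066) (tt N28083 D46067) (tt N28084 D46068) (tt N26099 F268262))
theorem Q14015 : ∀ i, i < 14015 → P i := stepQ 14014 Q14014 (allL N14014 (tt N6826 (iv1 D22005)) (tt N26101 F64190) (tt N26099 F268258) (tt N28085 D46070) (tt N28086 D46071) (tt N28087 D46072) (tt N28088 D46073) (tt N26098 (iv7 F268264)))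
theorem Q14016 : ∀ i, i < 14016 → P i := stepQ 14015 Q14015 (allL N14015 (tt N28089 D46074) (tt N28090 D46075) (tt N26100 (iv2 F64185)) (tt N25009 (iv3 F60124)) (tt N28091 D46076) (tt N6826 (iv5 D22006)) (tt N6829 F34501) (tt N28092 D46077))
theorem Q14017 : ∀ i, i < 14017 → P i := stepQ 14016 Q14016 (allL N14016 (tt N26099 (iv1 F64184)) (tt N26098 F64189) (tt N26101 (iv2 F64187)) (tt N17738 F299216) (tt N24781 (iv4 F59422)) (tt N28092 (iv5 F72645)) (tt N25233 (iv6 F91587)) (tt N6826 (iv7 D22007)))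
theorem Q14018 : ∀ i, i < 14018 → P i := stepQ 14017 Q14017 (allL N14017 (tt N28093 D46078) (tt N28020 F157609) (tt N28094 D46080) (tt N6827 (iv3 D22009)) (tt N27094 (iv4 F68937)) (tt N28095 D46081) (tt N28096 D46082) (tt N26105 F65849))
theorem Q14019 : ∀ i, i < 14019 → P i := stepQ 14018 Q14018 (allL N14018 (tt N14466 (iv1 F35582)) (tt N28097 D46083) (tt N26103 (iv2 F65851)) (tt N28095 (iv3 F72647)) (tt N28098 D46084) (tt N6827 (iv5 D22011)) (tt N28099 D46085) (tt N26106 F65850))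
theorem Q14020 : ∀ i, i < 14020 → P i := stepQ 14019 Q14019 (allL N14019 (tt N26290 (iv1 F70501)) (tt N26261 (iv0 F64476)) (tt N26104 F65899) (tt N28096 (iv3 F72648)) (tt N25607 (iv4 F66299)) (tt N14239 F35083) (tt N6827 (iv6 D22012)) (tt N26625 F291850))
theorem Q14021 : ∀ i, i < 14021 → P i := stepQ 14020 Q14020 (allL N14020 (tt N12777 F66245) (tt N28100 D46087) (tt N28101 D46088) (tt N6828 (iv3 D22014)) (tt N27378 (iv4 F70151)) (tt N28102 D46089) (tt N28103 D46090) (tt N26102 (iv7 F65845)))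
theorem Q14022 : ∀ i, i < 14022 → P i := stepQ 14021 Q14021 (allL N14021 (tt N28097 (iv1 F72649)) (tt N14466 F65852) (tt N26106 (iv2 F65847)) (tt N28102 (iv3 F72658)) (tt N28104 D46091) (tt N6828 (iv5 D22016)) (tt N28105 D46092) (tt N26103 (iv7 F65846)))
theorem Q14023 : ∀ i, i < 14023 → P i := stepQ 14022 Q14022 (allL N14022 (tt N26256 (iv1 F127091)) (tt N26050 (iv0 F72662)) (tt N26107 (iv2 F65848)) (tt N28103 (iv3 F72659)) (tt N25609 (iv4 F66279)) (tt N28106 D46095) (tt N6828 (iv6 D22017)) (tt N26254 (iv7 F65936)))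
theorem Q14024 : ∀ i, i < 14024 → P i := stepQ 14023 Q14023 (allL N14023 (tt N26111 (iv1 F64205)) (tt N6829 (iv0 D22018)) (tt N26108 (iv2 F72673)) (tt N28107 D46097) (tt N28108 D46098) (tt N28109 D46099) (tt N28110 D46100) (tt N26109 F72671))
theorem Q14025 : ∀ i, i < 14025 → P i := stepQ 14024 Q14024 (allL N14024 (tt N6829 (iv1 D22019)) (tt N26111 F64203) (tt N26109 (iv2 F72672)) (tt N28111 D46101) (tt N28112 D46102) (tt N28113 D46103) (tt N28114 D46104) (tt N26108 (iv7 F72674)))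
theorem Q14026 : ∀ i, i < 14026 → P i := stepQ 14025 Q14025 (allL N14025 (tt N28115 D46105) (tt N28116 D46106) (tt N26110 (iv2 F64199)) (tt N28117 D46107) (tt N6829 (iv4 D22020)) (tt N28118 D46108) (tt N28091 (iv6 F72644)) (tt N28119 D46109))
theorem Q14027 : ∀ i, i < 14027 → P i := stepQ 14026 Q14026 (allL N14026 (tt N26109 (iv1 F64194)) (tt N26108 F64202) (tt N26111 (iv2 F64200)) (tt N19722 (iv3 F325747)) (tt N28119 (iv4 F72688)) (tt N6830 F34504) (tt N19720 F324644) (tt N6829 (iv7 D22021)))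
theorem Q14028 : ∀ i, i < 14028 → P i := stepQ 14027 Q14027 (allL N14027 (tt N28120 D46111) (tt N26025 F157591) (tt N25593 F295056) (tt N6831 (iv3 D22037)) (tt N14027 F65940) (tt N28121 D46113) (tt N28122 D46114) (tt N26112 (iv7 F64229)))
theorem Q14029 : ∀ i, i < 14029 → P i := stepQ 14028 Q14028 (allL N14028 (tt N14393 (iv1 F66266)) (tt N27579 F70509) (tt N13762 (iv2 F65793)) (tt N28121 (iv3 F72693)) (tt N28123 D46115) (tt N6831 (iv5 D22038)) (tt N28124 D46116) (tt N26113 (iv7 F64231)))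
theorem Q14030 : ∀ i, i < 14030 → P i := stepQ 14029 Q14029 (allL N14029 (tt N26231 (iv1 F72703)) (tt N28125 D46118) (tt N13763 (iv2 F65794)) (tt N28122 (iv3 F72694)) (tt N6833 F34517) (tt N14304 F66312) (tt N6831 (iv6 D22039)) (tt N26624 F291841))
theorem Q14031 : ∀ i, i < 14031 → P i := stepQ 14030 Q14030 (allL N14030 (tt N14394 (iv1 F66255)) (tt N14131 F66257) (tt N13764 (iv2 F65720)) (tt N28126 D46120) (tt N6832 (iv4 D22041)) (tt N28127 D46121) (tt N26498 F291504) (tt N14194 (iv7 F35552)))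
theorem Q14032 : ∀ i, i < 14032 → P i := stepQ 14031 Q14031 (allL N14031 (tt N26082 (iv1 F64158)) (tt N6835 (iv0 D22067)) (tt N26081 F64152) (tt N27077 (iv3 F68904)) (tt N28128 D46131) (tt N21646 (iv5 F51637)) (tt N28129 D46132) (tt N26080 F64149))
theorem Q14033 : ∀ i, i < 14033 → P i := stepQ 14032 Q14032 (allL N14032 (tt N6835 (iv1 D22068)) (tt N26082 F64159) (tt N26080 F64148) (tt N26081 F64153) (tt N26133 (iv4 F64270)) (tt N21530 (iv5 F54144)) (tt N28130 D46133) (tt N26081 (iv7 F64150)))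
theorem Q14034 : ∀ i, i < 14034 → P i := stepQ 14033 Q14033 (allL N14033 (tt N26081 F64154) (tt N26080 F64146) (tt N6835 (iv2 D22069)) (tt N13395 F34540) (tt N6846 F34541) (tt N22000 (iv5 F55483)) (tt N28131 D46134) (tt N26082 (iv7 F64157)))
theorem Q14035 : ∀ i, i < 14035 → P i := stepQ 14034 Q14034 (allL N14034 (tt N28132 D46135) (tt N28133 D46136) (tt N22000 F55479) (tt N6836 F34542) (tt N16904 F41516) (tt N6835 (iv5 D22070)) (tt N21943 (iv6 F55478)) (tt N26083 (iv7 F64161)))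
theorem Q14036 : ∀ i, i < 14036 → P i := stepQ 14035 Q14035 (allL N14035 (tt N28134 D46137) (tt N28135 D46138) (tt N28131 (iv2 F72746)) (tt N6837 F34543) (tt N6848 F34544) (tt N28136 D46139) (tt N6835 (iv6 D22071)) (tt N26657 F291984))
theorem Q14037 : ∀ i, i < 14037 → P i := stepQ 14036 Q14036 (allL N14036 (tt N27122 F69001) (tt N7922 F55475) (tt N26384 (iv2 F65040)) (tt N21943 F55476) (tt N26085 (iv4 F64164)) (tt N28137 D46140) (tt N6836 (iv6 D22072)) (tt N22007 F55477))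
theorem Q14038 : ∀ i, i < 14038 → P i := stepQ 14037 Q14037 (allL N14037 (tt N14488 F291038) (tt N12946 F291039) (tt N26385 (iv2 F65046)) (tt N28136 (iv3 F72754)) (tt N28138 D46142) (tt N6837 (iv5 D22075)) (tt N28137 (iv6 F72755)) (tt N26658 (iv7 F291527)))
theorem Q14039 : ∀ i, i < 14039 → P i := stepQ 14038 Q14038 (allL N14038 (tt N26264 (iv1 F73996)) (tt N13487 F291680) (tt N13913 F62943) (tt N25738 (iv3 F291792)) (tt N13615 F62941) (tt N13385 (iv5 F292304)) (tt N6838 (iv6 D22081)) (tt N26271 (iv7 F71739)))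
theorem Q14040 : ∀ i, i < 14040 → P i := stepQ 14039 Q14039 (allL N14039 (tt N26045 F65477) (tt N26263 (iv0 F64481)) (tt N26268 F67700) (tt N13127 (iv3 F63286)) (tt N13618 F62871) (tt N14454 (iv5 F63348)) (tt N6839 (iv6 D22086)) (tt N26269 (iv7 F67699)))
theorem Q14041 : ∀ i, i < 14041 → P i := stepQ 14040 Q14040 (allL N14040 (tt N8658 F34561) (tt N8371 F298684) (tt N10788 F298685) (tt N6840 (iv3 D22093)) (tt N6841 F34558) (tt N8563 F34559) (tt N24261 F296032) (tt N10789 (iv7 F299531)))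
theorem Q14042 : ∀ i, i < 14042 → P i := stepQ 14041 Q14041 (allL N14041 (tt N19515 (iv1 F299174)) (tt N9384 (iv0 F299176)) (tt N6841 (iv2 D22101)) (tt N22981 (iv3 F54805)) (tt N10788 F297145) (tt N8632 F34581) (tt N28139 D46185) (tt N11629 F34582))
theorem Q14043 : ∀ i, i < 14043 → P i := stepQ 14042 Q14042 (allL N14042 (tt N28140 D46186) (tt N28141 D46187) (tt N28139 (iv2 F72853)) (tt N6842 F34583) (tt N24261 (iv4 F295993)) (tt N28142 D46188) (tt N6841 (iv6 D22102)) (tt N24063 (iv7 F296155)))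
theorem Q14044 : ∀ i, i < 14044 → P i := stepQ 14043 Q14043 (allL N14043 (tt N24419 (iv1 F296156)) (tt N24353 (iv0 F296157)) (tt N22986 (iv2 F54824)) (tt N28142 (iv3 F72855)) (tt N23460 (iv4 F296158)) (tt N6842 (iv5 D22105)) (tt N24780 (iv6 F59420)) (tt N24064 (iv7 F296161)))
theorem Q14045 : ∀ i, i < 14045 → P i := stepQ 14044 Q14044 (allL N14044 (tt N27414 (iv1 F70212)) (tt N27413 F70211) (tt N12744 F34596) (tt N6844 (iv3 D22125)) (tt N13873 F34597) (tt N28143 D46259) (tt N28144 D46260) (tt N26089 (iv7 F64171)))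
theorem Q14046 : ∀ i, i < 14046 → P i := stepQ 14045 Q14045 (allL N14045 (tt N14218 (iv1 F35066)) (tt N14075 (iv0 F34701)) (tt N14221 F35074) (tt N28143 (iv3 F72912)) (tt N28145 D46261) (tt N6844 (iv5 D22126)) (tt N28146 D46262) (tt N14220 F35071))
theorem Q14047 : ∀ i, i < 14047 → P i := stepQ 14046 Q14046 (allL N14046 (tt N28147 D46263) (tt N26288 (iv0 F136449)) (tt N26091 (iv2 F64175)) (tt N28144 (iv3 F72924)) (tt N23232 F55274) (tt N28148 D46265) (tt N6844 (iv6 D22127)) (tt N28149 D46266))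
theorem Q14048 : ∀ i, i < 14048 → P i := stepQ 14047 Q14047 (allL N14047 (tt N14075 (iv1 F35065)) (tt N14218 (iv0 F35064)) (tt N14220 F35070) (tt N12747 F34598) (tt N23353 (iv4 F55667)) (tt N6845 (iv5 D22128)) (tt N22168 (iv6 F300549)) (tt N14221 (iv7 F35073)))
theorem Q14049 : ∀ i, i < 14049 → P i := stepQ 14048 Q14048 (allL N14048 (tt N26048 F64326) (tt N26274 (iv0 F136307)) (tt N26090 (iv2 F64174)) (tt N12748 F34599) (tt N13601 F34600) (tt N28150 D46269) (tt N6845 (iv6 D22129)) (tt N26273 (iv7 F64492)))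
theorem Q14050 : ∀ i, i < 14050 → P i := stepQ 14049 Q14049 (allL N14049 (tt N26661 F294132) (tt N26660 F294133) (tt N6848 F34601) (tt N24399 (iv3 F58462)) (tt N28131 (iv4 F72748)) (tt N28151 D46271) (tt N6846 (iv6 D22130)) (tt N26662 F294134))
theorem Q14051 : ∀ i, i < 14051 → P i := stepQ 14050 Q14050 (allL N14050 (tt N17841 (iv1 F44596)) (tt N6847 (iv0 D22131)) (tt N25005 (iv2 F60116)) (tt N28152 D46273) (tt N28153 D46274) (tt N6923 F34602) (tt N28154 D46275) (tt N25006 (iv7 F60118)))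
theorem Q14052 : ∀ i, i < 14052 → P i := stepQ 14051 Q14051 (allL N14051 (tt N6847 (iv1 D22132)) (tt N17841 F44593) (tt N25006 F60119) (tt N12755 F44594) (tt N28155 D46276) (tt N6924 F44595) (tt N22403 (iv6 F301611)) (tt N25005 F60115))
theorem Q14053 : ∀ i, i < 14053 → P i := stepQ 14052 Q14052 (allL N14052 (tt N22329 (iv1 F59414)) (tt N17909 (iv0 F59413)) (tt N17706 F44375) (tt N24772 (iv3 F59412)) (tt N6847 (iv4 D22133)) (tt N23346 (iv5 F55661)) (tt N28156 D46278) (tt N22328 F52918))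
theorem Q14054 : ∀ i, i < 14054 → P i := stepQ 14053 Q14053 (allL N14053 (tt N28157 D46279) (tt N28158 D46280) (tt N25007 (iv2 F60121)) (tt N6849 F34603) (tt N28156 (iv4 F72940)) (tt N28159 D46281) (tt N6847 (iv6 D22134)) (tt N28160 D46282))
theorem Q14055 : ∀ i, i < 14055 → P i := stepQ 14054 Q14054 (allL N14054 (tt N26662 F294135) (tt N6848 (iv0 D22135)) (tt N26661 F294136) (tt N28161 D46283) (tt N27131 F69014) (tt N28162 D46284) (tt N28163 D46285) (tt N26660 F294137))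
theorem Q14056 : ∀ i, i < 14056 → P i := stepQ 14055 Q14055 (allL N14055 (tt N6848 (iv1 D22136)) (tt N26662 F294138) (tt N26660 F294139) (tt N12758 F66229) (tt N27088 (iv4 F68923)) (tt N28164 D46286) (tt N28165 D46287) (tt N26661 F294140))
theorem Q14057 : ∀ i, i < 14057 → P i := stepQ 14056 Q14056 (allL N14056 (tt N28166 D46288) (tt N28167 D46289) (tt N28151 (iv2 F72931)) (tt N6852 F34604) (tt N28168 D46290) (tt N6848 (iv5 D22137)) (tt N28159 (iv6 F72942)) (tt N26663 F294141))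
theorem Q14058 : ∀ i, i < 14058 → P i := stepQ 14057 Q14057 (allL N14057 (tt N25233 (iv1 F91585)) (tt N6849 (iv0 D22139)) (tt N26071 (iv2 F272703)) (tt N28169 D46293) (tt N28170 D46294) (tt N28171 D46295) (tt N28172 D46296) (tt N26072 (iv7 F272704)))
theorem Q14059 : ∀ i, i < 14059 → P i := stepQ 14058 Q14058 (allL N14058 (tt N6849 (iv1 D22140)) (tt N25233 (iv0 F91584)) (tt N26072 F272706) (tt N28173 D46298) (tt N28174 D46299) (tt N28175 D46300) (tt N28176 D46301) (tt N26071 F272707))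
theorem Q14060 : ∀ i, i < 14060 → P i := stepQ 14059 Q14059 (allL N14059 (tt N28177 D46302) (tt N28178 D46303) (tt N26073 (iv2 F64079)) (tt N28159 (iv3 F72941)) (tt N27034 (iv4 F295367)) (tt N6849 (iv5 D22141)) (tt N6852 F34606) (tt N28179 D46305))
theorem Q14061 : ∀ i, i < 14061 → P i := stepQ 14060 Q14060 (allL N14060 (tt N26072 (iv1 F64078)) (tt N26071 F64083) (tt N25233 (iv2 F91586)) (tt N28160 (iv3 F72943)) (tt N24777 (iv4 F59418)) (tt N28179 (iv5 F72952)) (tt N26101 (iv6 F64188)) (tt N6849 (iv7 D22142)))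
theorem Q14062 : ∀ i, i < 14062 → P i := stepQ 14061 Q14061 (allL N14061 (tt N27188 F69180) (tt N28035 (iv0 F134922)) (tt N28180 D46307) (tt N6850 (iv3 D22144)) (tt N13904 F62907) (tt N28181 D46308) (tt N28182 D46309) (tt N26074 (iv7 F64091)))
theorem Q14063 : ∀ i, i < 14063 → P i := stepQ 14062 Q14062 (allL N14062 (tt N13177 F293267) (tt N13301 F293268) (tt N26002 F293269) (tt N28181 (iv3 F72955)) (tt N26075 F294374) (tt N6850 (iv5 D22146)) (tt N28183 D46315) (tt N26075 (iv7 F64093)))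
theorem Q14064 : ∀ i, i < 14064 → P i := stepQ 14063 Q14063 (allL N14063 (tt N13485 F291685) (tt N13488 F291686) (tt N14213 F291687) (tt N28182 (iv3 F72956)) (tt N14200 (iv4 F292018)) (tt N14189 F34964) (tt N6850 (iv6 D22147)) (tt N26279 (iv7 F73312)))
theorem Q14065 : ∀ i, i < 14065 → P i := stepQ 14064 Q14064 (allL N14064 (tt N28018 F157224) (tt N28184 D46318) (tt N28185 D46319) (tt N6851 (iv3 D22149)) (tt N13627 F63030) (tt N28186 D46320) (tt N28187 D46321) (tt N26001 (iv7 F292910)))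
theorem Q14066 : ∀ i, i < 14066 → P i := stepQ 14065 Q14065 (allL N14065 (tt N13301 F293264) (tt N13177 F293265) (tt N26075 (iv2 F64092)) (tt N28186 (iv3 F72974)) (tt N26002 (iv4 F294282)) (tt N6851 (iv5 D22151)) (tt N28188 D46323) (tt N26002 F293266))
theorem Q14067 : ∀ i, i < 14067 → P i := stepQ 14066 Q14066 (allL N14066 (tt N26051 (iv1 F63997)) (tt N26054 (iv0 F63996)) (tt N26076 (iv2 F64094)) (tt N28187 (iv3 F72975)) (tt N13626 F63027) (tt N14435 (iv5 F35955)) (tt N6851 (iv6 D22152)) (tt N26258 (iv7 F64470)))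
theorem Q14068 : ∀ i, i < 14068 → P i := stepQ 14067 Q14067 (allL N14067 (tt N13500 (iv1 F294149)) (tt N6852 (iv0 D22153)) (tt N26077 (iv2 F72983)) (tt N28189 D46325) (tt N26078 (iv4 F294576)) (tt N13405 F293448) (tt N28190 D46328) (tt N26078 F72981))
theorem Q14069 : ∀ i, i < 14069 → P i := stepQ 14068 Q14068 (allL N14068 (tt N6852 (iv1 D22154)) (tt N13500 (iv0 F294148)) (tt N26078 (iv2 F72982)) (tt N28191 D46329) (tt N26077 (iv4 F294577)) (tt N13406 F293449) (tt N28192 D46332) (tt N26077 (iv7 F72984)))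
theorem Q14070 : ∀ i, i < 14070 → P i := stepQ 14069 Q14069 (allL N14069 (tt N26022 F157260) (tt N28193 D46340) (tt N27190 (iv2 F69185)) (tt N6853 (iv3 D22191)) (tt N14069 F62236) (tt N27044 (iv5 F294373)) (tt N28194 D46342) (tt N13421 F293942))
theorem Q14071 : ∀ i, i < 14071 → P i := stepQ 14070 Q14070 (allL N14070 (tt N28195 D46345) (tt N26228 F64795) (tt N13511 F293233) (tt N28194 (iv3 F72993)) (tt N6854 F34636) (tt N14382 (iv5 F35325)) (tt N6853 (iv6 D22193)) (tt N26257 (iv7 F64466)))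
theorem Q14072 : ∀ i, i < 14072 → P i := stepQ 14071 Q14071 (allL N14071 (tt N7098 F34684) (tt N12820 F34940) (tt N12819 F34685) (tt N6856 (iv3 D22233)) (tt N7046 F34682) (tt N26069 (iv5 F64070)) (tt N28196 D46423) (tt N6896 F34683))
theorem Q14073 : ∀ i, i < 14073 → P i := stepQ 14072 Q14072 (allL N14072 (tt N7024 F66633) (tt N7027 F66634) (tt N6895 F34686) (tt N28196 (iv3 F73261)) (tt N12109 F34687) (tt N28197 D46424) (tt N6856 (iv6 D22234)) (tt N26406 (iv7 F290933)))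
theorem Q14074 : ∀ i, i < 14074 → P i := stepQ 14073 Q14073 (allL N14073 (tt N6925 (iv1 F34689)) (tt N6857 (iv0 D22235)) (tt N6924 (iv2 F34688)) (tt N27343 (iv3 F70098)) (tt N13448 F34690) (tt N25006 F60120) (tt N28198 D46425) (tt N6923 F34691))
theorem Q14075 : ∀ i, i < 14075 → P i := stepQ 14074 Q14074 (allL N14074 (tt N6924 (iv1 F34696)) (tt N6923 F34695) (tt N6857 (iv2 D22236)) (tt N6899 F34693) (tt N26870 (iv4 F68075)) (tt N12090 (iv5 F34697)) (tt N28199 D46426) (tt N6925 F34694))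
theorem Q14076 : ∀ i, i < 14076 → P i := stepQ 14075 Q14075 (allL N14075 (tt N14045 F34701) (tt N14047 F35065) (tt N12090 F34698) (tt N6858 F34699) (tt N28200 D46427) (tt N6857 (iv5 D22237)) (tt N28201 D46428) (tt N6926 F34700))
theorem Q14077 : ∀ i, i < 14077 → P i := stepQ 14076 Q14076 (allL N14076 (tt N28202 D46429) (tt N28203 D46430) (tt N28199 (iv2 F73269)) (tt N6859 F34702) (tt N26871 (iv4 F68085)) (tt N28204 D46431) (tt N6857 (iv6 D22238)) (tt N26996 F292327))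
theorem Q14078 : ∀ i, i < 14078 → P i := stepQ 14077 Q14077 (allL N14077 (tt N28205 D46433) (tt N28206 D46434) (tt N6904 F34703) (tt N28201 (iv3 F73277)) (tt N24530 (iv4 F59045)) (tt N28207 D46435) (tt N6858 (iv6 D22239)) (tt N28208 D46436))
theorem Q14079 : ∀ i, i < 14079 → P i := stepQ 14078 Q14078 (allL N14078 (tt N6908 (iv1 F34709)) (tt N6859 (iv0 D22240)) (tt N6905 F65943) (tt N28209 D46437) (tt N14271 (iv4 F66040)) (tt N28210 D46438) (tt N28113 F72681) (tt N6906 F65944))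
theorem Q14080 : ∀ i, i < 14080 → P i := stepQ 14079 Q14079 (allL N14079 (tt N28211 D46439) (tt N28212 D46440) (tt N6907 F34705) (tt N28204 (iv3 F73283)) (tt N28213 D46441) (tt N6859 (iv5 D22242)) (tt N28207 (iv6 F73290)) (tt N26997 (iv7 F293153)))
theorem Q14081 : ∀ i, i < 14081 → P i := stepQ 14080 Q14080 (allL N14080 (tt N6867 F66080) (tt N6949 F66081) (tt N6912 F35529) (tt N28214 D46443) (tt N6860 (iv4 D22250)) (tt N28215 D46444) (tt N26678 F292132) (tt N6909 F35530))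
theorem Q14082 : ∀ i, i < 14082 → P i := stepQ 14081 Q14081 (allL N14081 (tt N13489 (iv1 F291080)) (tt N13486 (iv0 F291169)) (tt N6913 F35531) (tt N14081 F65663) (tt N28216 D46446) (tt N6860 (iv5 D22251)) (tt N13383 (iv6 F291302)) (tt N6910 F35532))
theorem Q14083 : ∀ i, i < 14083 → P i := stepQ 14082 Q14082 (allL N14082 (tt N26644 (iv1 F291895)) (tt N6861 (iv0 D22257)) (tt N14209 (iv2 F62777)) (tt N7069 F62808) (tt N14613 (iv4 F62945)) (tt N7097 F291829) (tt N13132 F291830) (tt N7085 F62764))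
theorem Q14084 : ∀ i, i < 14084 → P i := stepQ 14083 Q14083 (allL N14083 (tt N6861 (iv1 D22258)) (tt N26644 (iv0 F291894)) (tt N7085 F62756) (tt N14199 F62757) (tt N14614 F62758) (tt N26377 F291831) (tt N14424 F63344) (tt N14209 (iv7 F62779)))
theorem Q14085 : ∀ i, i < 14085 → P i := stepQ 14084 Q14084 (allL N14084 (tt N28217 D46458) (tt N28218 D46459) (tt N25010 (iv2 F60128)) (tt N6864 F34735) (tt N12846 F34736) (tt N28219 D46460) (tt N6862 (iv6 D22261)) (tt N26646 (iv7 F294348)))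
theorem Q14086 : ∀ i, i < 14086 → P i := stepQ 14085 Q14085 (allL N14085 (tt N28220 D46462) (tt N28221 D46463) (tt N6928 F34737) (tt N12092 F34738) (tt N24077 (iv4 F57350)) (tt N28222 D46464) (tt N6863 (iv6 D22262)) (tt N28223 D46465))
theorem Q14087 : ∀ i, i < 14087 → P i := stepQ 14086 Q14086 (allL N14086 (tt N6932 (iv1 F34744)) (tt N6864 (iv0 D22263)) (tt N6929 F62752) (tt N28224 D46466) (tt N13415 (iv4 F62751)) (tt N28225 D46467) (tt N13406 (iv6 F292399)) (tt N6930 F62753))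
theorem Q14088 : ∀ i, i < 14088 → P i := stepQ 14087 Q14087 (allL N14087 (tt N6864 (iv1 D22264)) (tt N6932 F34739) (tt N6930 F62954) (tt N28226 D46468) (tt N13476 (iv4 F62953)) (tt N28227 D46469) (tt N14444 F63021) (tt N6929 F62955))
theorem Q14089 : ∀ i, i < 14089 → P i := stepQ 14088 Q14088 (allL N14088 (tt N28228 D46470) (tt N28229 D46471) (tt N6931 F34740) (tt N28219 (iv3 F73357)) (tt N28230 D46472) (tt N6864 (iv5 D22265)) (tt N28222 (iv6 F73365)) (tt N26647 (iv7 F293168)))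
theorem Q14090 : ∀ i, i < 14090 → P i := stepQ 14089 Q14089 (allL N14089 (tt N6952 (iv1 F34760)) (tt N6865 (iv0 D22280)) (tt N6951 F44838) (tt N28231 D46484) (tt N6950 F34759) (tt N17907 (iv5 F44835)) (tt N28232 D46485) (tt N6950 F44839))
theorem Q14091 : ∀ i, i < 14091 → P i := stepQ 14090 Q14090 (allL N14090 (tt N6865 (iv1 D22281)) (tt N6952 F34766) (tt N6950 F44840) (tt N12833 (iv3 F34769)) (tt N6951 (iv4 F34768)) (tt N22321 (iv5 F52906)) (tt N28233 D46486) (tt N6951 F44841))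
theorem Q14092 : ∀ i, i < 14092 → P i := stepQ 14091 Q14091 (allL N14091 (tt N6951 (iv1 F34767)) (tt N6950 F34765) (tt N6865 (iv2 D22282)) (tt N6941 F34761) (tt N12801 F34762) (tt N10542 F34763) (tt N28234 D46487) (tt N6952 F34764))
theorem Q14093 : ∀ i, i < 14093 → P i := stepQ 14092 Q14092 (allL N14092 (tt N28235 D46488) (tt N28236 D46489) (tt N28234 (iv2 F73437)) (tt N6867 F34770) (tt N12802 F34771) (tt N28237 D46490) (tt N6865 (iv6 D22283)) (tt N28238 D46491))
theorem Q14094 : ∀ i, i < 14094 → P i := stepQ 14093 Q14093 (allL N14093 (tt N28239 D46492) (tt N28240 D46493) (tt N6947 F34772) (tt N21772 (iv3 F51858)) (tt N24518 (iv4 F59012)) (tt N28241 D46494) (tt N6866 (iv6 D22284)) (tt N28242 D46495))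
theorem Q14095 : ∀ i, i < 14095 → P i := stepQ 14094 Q14094 (allL N14094 (tt N27021 F292935) (tt N26862 F292936) (tt N6948 F34774) (tt N28237 (iv3 F73440)) (tt N28243 D46498) (tt N6867 (iv5 D22287)) (tt N28241 (iv6 F73446)) (tt N27018 (iv7 F293213)))
theorem Q14096 : ∀ i, i < 14096 → P i := stepQ 14095 Q14095 (allL N14095 (tt N6912 F66078) (tt N6909 F66079) (tt N6949 F34775) (tt N28238 (iv3 F73441)) (tt N12795 F34776) (tt N27018 (iv5 F293212)) (tt N6959 F34777) (tt N6867 (iv7 D22288)))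
theorem Q14097 : ∀ i, i < 14097 → P i := stepQ 14096 Q14096 (allL N14096 (tt N6941 (iv1 F34782)) (tt N6868 (iv0 D22289)) (tt N6940 F34912) (tt N12844 (iv3 F34783)) (tt N28244 D46500) (tt N12244 F34781) (tt N28245 D46501) (tt N6939 F34910))
theorem Q14098 : ∀ i, i < 14098 → P i := stepQ 14097 Q14097 (allL N14097 (tt N6868 (iv1 D22290)) (tt N6941 F34788) (tt N6939 (iv2 F34911)) (tt N28246 D46502) (tt N28247 D46503) (tt N26124 F64250) (tt N28248 D46504) (tt N6940 (iv7 F34913)))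
theorem Q14099 : ∀ i, i < 14099 → P i := stepQ 14098 Q14098 (allL N14098 (tt N6940 (iv1 F34789)) (tt N6939 F34787) (tt N6868 (iv2 D22291)) (tt N6952 F34784) (tt N13669 F34785) (tt N21778 (iv5 F51872)) (tt N28249 D46505) (tt N6941 F34786))
theorem Q14100 : ∀ i, i < 14100 → P i := stepQ 14099 Q14099 (allL N14099 (tt N22982 F54815) (tt N27975 F72418) (tt N21778 (iv2 F51871)) (tt N6869 F34790) (tt N28250 D46506) (tt N6868 (iv5 D22292)) (tt N28251 D46507) (tt N6943 F34791))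
theorem Q14101 : ∀ i, i < 14101 → P i := stepQ 14100 Q14100 (allL N14100 (tt N28252 D46508) (tt N28253 D46509) (tt N28249 (iv2 F73482)) (tt N6870 F34792) (tt N27594 (iv4 F70592)) (tt N28254 D46510) (tt N6868 (iv6 D22293)) (tt N26649 (iv7 F293988)))
theorem Q14102 : ∀ i, i < 14102 → P i := stepQ 14101 Q14101 (allL N14101 (tt N28255 D46512) (tt N28256 D46513) (tt N6957 F34793) (tt N28251 (iv3 F73487)) (tt N24507 (iv4 F58973)) (tt N28257 D46514) (tt N6869 (iv6 D22294)) (tt N28258 D46515))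
theorem Q14103 : ∀ i, i < 14103 → P i := stepQ 14102 Q14102 (allL N14102 (tt N28259 D46516) (tt N27577 (iv0 F70478)) (tt N6958 F34795) (tt N28254 (iv3 F73488)) (tt N28260 D46517) (tt N6870 (iv5 D22297)) (tt N28257 (iv6 F73493)) (tt N26651 (iv7 F293227)))
theorem Q14104 : ∀ i, i < 14104 → P i := stepQ 14103 Q14103 (allL N14103 (tt N28246 (iv1 F73514)) (tt N28261 D46520) (tt N28262 D46521) (tt N6871 (iv3 D22300)) (tt N14511 F36062) (tt N28263 D46522) (tt N28264 D46523) (tt N27911 (iv7 F72098)))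
theorem Q14105 : ∀ i, i < 14105 → P i := stepQ 14104 Q14104 (allL N14104 (tt N25714 F61995) (tt N14166 (iv0 F34946)) (tt N27915 (iv2 F72114)) (tt N25708 (iv3 F61985)) (tt N6871 (iv4 D22301)) (tt N24373 (iv5 F72916)) (tt N28265 D46524) (tt N27912 (iv7 F72102)))
theorem Q14106 : ∀ i, i < 14106 → P i := stepQ 14105 Q14105 (allL N14105 (tt N25514 F72917) (tt N12961 F72918) (tt N27916 (iv2 F72120)) (tt N28263 (iv3 F73519)) (tt N24253 F72919) (tt N6871 (iv5 D22302)) (tt N28266 D46525) (tt N27913 (iv7 F72112)))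
theorem Q14107 : ∀ i, i < 14107 → P i := stepQ 14106 Q14106 (allL N14106 (tt N27053 (iv1 F157766)) (tt N28214 (iv0 F157767)) (tt N27917 (iv2 F72122)) (tt N28264 (iv3 F73521)) (tt N28265 (iv4 F73522)) (tt N28267 D46528) (tt N6871 (iv6 D22303)) (tt N28268 D46529))
theorem Q14108 : ∀ i, i < 14108 → P i := stepQ 14107 Q14107 (allL N14107 (tt N28269 D46530) (tt N28231 (iv0 F73430)) (tt N26908 (iv2 F68198)) (tt N6872 (iv3 D22305)) (tt N13233 F34803) (tt N28270 D46531) (tt N28271 D46532) (tt N26911 (iv7 F68211)))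
theorem Q14109 : ∀ i, i < 14109 → P i := stepQ 14108 Q14108 (allL N14108 (tt N14166 F65442) (tt N25714 (iv0 F61994)) (tt N27912 (iv2 F72101)) (tt N14156 (iv3 F34931)) (tt N6872 (iv4 D22306)) (tt N24374 (iv5 F75468)) (tt N28272 D46534) (tt N27915 (iv7 F72116)))
theorem Q14110 : ∀ i, i < 14110 → P i := stepQ 14109 Q14109 (allL N14109 (tt N12961 F72920) (tt N25514 F72921) (tt N27913 (iv2 F72111)) (tt N28270 (iv3 F73528)) (tt N24252 F72922) (tt N6872 (iv5 D22307)) (tt N28273 D46535) (tt N27916 (iv7 F72121)))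
theorem Q14111 : ∀ i, i < 14111 → P i := stepQ 14110 Q14110 (allL N14110 (tt N26460 F293975) (tt N26726 (iv0 F177417)) (tt N27914 (iv2 F72113)) (tt N28271 (iv3 F73530)) (tt N28272 (iv4 F73532)) (tt N28274 D46538) (tt N6872 (iv6 D22308)) (tt N28275 D46539))
theorem Q14112 : ∀ i, i < 14112 → P i := stepQ 14111 Q14111 (allL N14111 (tt N24783 (iv1 F59424)) (tt N24782 F59423) (tt N6874 F34804) (tt N6963 F34805) (tt N28276 D46540) (tt N6873 (iv5 D22309)) (tt N28277 D46541) (tt N12784 F34806))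
theorem Q14113 : ∀ i, i < 14113 → P i := stepQ 14112 Q14112 (allL N14112 (tt N28278 D46542) (tt N28279 D46543) (tt N6875 F34807) (tt N6964 F34808) (tt N14112 F34809) (tt N28280 D46544) (tt N6873 (iv6 D22310)) (tt N28281 D46545))
theorem Q14114 : ∀ i, i < 14114 → P i := stepQ 14113 Q14113 (allL N14113 (tt N12784 (iv1 F34810)) (tt N6874 (iv0 D22311)) (tt N24783 (iv2 F74231)) (tt N28282 D46547) (tt N28283 D46548) (tt N25957 (iv5 F74225)) (tt N28284 D46550) (tt N24782 (iv7 F74229)))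
theorem Q14115 : ∀ i, i < 14115 → P i := stepQ 14114 Q14114 (allL N14114 (tt N6874 (iv1 D22312)) (tt N12784 F34811) (tt N24782 (iv2 F74228)) (tt N28285 D46552) (tt N28286 D46553) (tt N25958 (iv5 F74235)) (tt N28287 D46555) (tt N24783 (iv7 F74233)))
theorem Q14116 : ∀ i, i < 14116 → P i := stepQ 14115 Q14115 (allL N14115 (tt N28288 D46556) (tt N28289 D46557) (tt N28276 (iv2 F73533)) (tt N17245 (iv3 F42584)) (tt N6874 (iv4 D22313)) (tt N28290 D46558) (tt N28291 D46559) (tt N24754 (iv7 F59402)))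
theorem Q14117 : ∀ i, i < 14117 → P i := stepQ 14116 Q14116 (allL N14116 (tt N28292 D46560) (tt N28293 D46561) (tt N28277 (iv2 F73536)) (tt N6876 F34812) (tt N28291 (iv4 F73557)) (tt N28294 D46562) (tt N6874 (iv6 D22314)) (tt N28295 D46563))
theorem Q14118 : ∀ i, i < 14118 → P i := stepQ 14117 Q14117 (allL N14117 (tt N28281 (iv1 F73547)) (tt N6875 (iv0 D22315)) (tt N28278 (iv2 F153422)) (tt N28296 D46565) (tt N28297 D46566) (tt N28298 D46567) (tt N28299 D46568) (tt N28279 F153421))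
theorem Q14119 : ∀ i, i < 14119 → P i := stepQ 14118 Q14118 (allL N14118 (tt N6875 (iv1 D22316)) (tt N28281 F73546) (tt N28279 F153415) (tt N28300 D46570) (tt N28301 D46571) (tt N20723 F334883) (tt N28302 D46573) (tt N28278 (iv7 F153423)))
theorem Q14120 : ∀ i, i < 14120 → P i := stepQ 14119 Q14119 (allL N14119 (tt N28303 D46574) (tt N28304 D46575) (tt N28280 (iv2 F73539)) (tt N6879 F34813) (tt N28305 D46576) (tt N6875 (iv5 D22317)) (tt N28294 (iv6 F73559)) (tt N28306 D46577))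
theorem Q14121 : ∀ i, i < 14121 → P i := stepQ 14120 Q14120 (allL N14120 (tt N28279 (iv1 F73538)) (tt N28278 F73545) (tt N28281 (iv2 F73541)) (tt N6880 F34814) (tt N14120 F34815) (tt N28306 (iv5 F73565)) (tt N27921 (iv6 F72129)) (tt N6875 (iv7 D22318)))
theorem Q14122 : ∀ i, i < 14122 → P i := stepQ 14121 Q14121 (allL N14121 (tt N6981 (iv1 F34820)) (tt N6876 (iv0 D22319)) (tt N6978 (iv2 F156679)) (tt N28307 D46579) (tt N28308 D46580) (tt N28309 D46581) (tt N28310 D46582) (tt N6979 (iv7 F156680)))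
theorem Q14123 : ∀ i, i < 14123 → P i := stepQ 14122 Q14122 (allL N14122 (tt N6876 (iv1 D22320)) (tt N6981 F34816) (tt N6979 F156683) (tt N28311 D46584) (tt N28312 D46585) (tt N28313 D46586) (tt N28314 D46587) (tt N6978 F156684))
theorem Q14124 : ∀ i, i < 14124 → P i := stepQ 14123 Q14123 (allL N14123 (tt N28315 D46588) (tt N28316 D46589) (tt N6980 F34817) (tt N28294 (iv3 F73558)) (tt N28317 D46590) (tt N6876 (iv5 D22321)) (tt N6879 F34818) (tt N28318 D46591))
theorem Q14125 : ∀ i, i < 14125 → P i := stepQ 14124 Q14124 (allL N14124 (tt N6979 (iv1 F34821)) (tt N6978 F34822) (tt N6981 F34819) (tt N28295 (iv3 F73560)) (tt N24798 (iv4 F59440)) (tt N28318 (iv5 F73573)) (tt N24788 (iv6 F59431)) (tt N6876 (iv7 D22322)))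
theorem Q14126 : ∀ i, i < 14126 → P i := stepQ 14125 Q14125 (allL N14125 (tt N28319 D46592) (tt N28233 F290133) (tt N28320 D46594) (tt N6877 (iv3 D22323)) (tt N12870 F34823) (tt N20131 (iv5 F328572)) (tt N28321 D46596) (tt N6987 F34824))
theorem Q14127 : ∀ i, i < 14127 → P i := stepQ 14126 Q14126 (allL N14126 (tt N27050 F294826) (tt N28322 D46597) (tt N6985 F34825) (tt N20131 F329013) (tt N28323 D46598) (tt N6877 (iv5 D22324)) (tt N28324 D46599) (tt N6989 F34826))
theorem Q14128 : ∀ i, i < 14128 → P i := stepQ 14127 Q14127 (allL N14127 (tt N14442 (iv1 F35436)) (tt N14441 (iv0 F35424)) (tt N6986 F34827) (tt N28321 (iv3 F73586)) (tt N12868 F34828) (tt N13048 F34829) (tt N6877 (iv6 D22325)) (tt N25871 (iv7 F62392)))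
theorem Q14129 : ∀ i, i < 14129 → P i := stepQ 14128 Q14128 (allL N14128 (tt N28245 F289571) (tt N28325 D46601) (tt N28326 D46602) (tt N6878 (iv3 D22326)) (tt N27619 (iv4 F70650)) (tt N28327 D46603) (tt N28328 D46604) (tt N6983 F34830))
theorem Q14130 : ∀ i, i < 14130 → P i := stepQ 14129 Q14129 (allL N14129 (tt N12734 (iv1 F35587)) (tt N12866 F34835) (tt N6988 F34831) (tt N12877 (iv3 F34834)) (tt N6878 (iv4 D22327)) (tt N14381 F35323) (tt N26752 F294487) (tt N6984 F34832))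
theorem Q14131 : ∀ i, i < 14131 → P i := stepQ 14130 Q14130 (allL N14130 (tt N28322 (iv1 F73589)) (tt N27050 F294825) (tt N6989 F34837) (tt N28327 (iv3 F73603)) (tt N28329 D46605) (tt N6878 (iv5 D22328)) (tt N20126 (iv6 F329049)) (tt N6985 F34838))
theorem Q14132 : ∀ i, i < 14132 → P i := stepQ 14131 Q14131 (allL N14131 (tt N14030 (iv1 F66257)) (tt N12722 F294396) (tt N6990 F34839) (tt N28328 (iv3 F73605)) (tt N26752 F294397) (tt N27571 (iv5 F70468)) (tt N6878 (iv6 D22329)) (tt N27578 (iv7 F70488)))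
theorem Q14133 : ∀ i, i < 14133 → P i := stepQ 14132 Q14132 (allL N14132 (tt N6994 (iv1 F34844)) (tt N6879 (iv0 D22330)) (tt N6991 F64425) (tt N28330 D46607) (tt N28331 D46608) (tt N28195 (iv5 F72997)) (tt N28332 D46609) (tt N6992 F64426))
theorem Q14134 : ∀ i, i < 14134 → P i := stepQ 14133 Q14133 (allL N14133 (tt N6879 (iv1 D22331)) (tt N6994 F34840) (tt N6992 F64422) (tt N28333 D46610) (tt N28334 D46611) (tt N26228 (iv5 F64421)) (tt N28335 D46612) (tt N6991 F64423))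
theorem Q14135 : ∀ i, i < 14135 → P i := stepQ 14134 Q14134 (allL N14134 (tt N28336 D46613) (tt N28337 D46614) (tt N6993 F34841) (tt N28338 D46615) (tt N6879 (iv4 D22332)) (tt N26223 (iv5 F64417)) (tt N28317 (iv6 F73571)) (tt N26222 (iv7 F64412)))
theorem Q14136 : ∀ i, i < 14136 → P i := stepQ 14135 Q14135 (allL N14135 (tt N6992 (iv1 F34845)) (tt N6991 F34846) (tt N6994 F34842) (tt N28306 (iv3 F73564)) (tt N26222 (iv4 F64411)) (tt N6880 F34843) (tt N28339 D46616) (tt N6879 (iv7 D22333)))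
theorem Q14137 : ∀ i, i < 14137 → P i := stepQ 14136 Q14136 (allL N14136 (tt N26811 (iv1 F291033)) (tt N14210 (iv0 F68974)) (tt N27202 (iv2 F69225)) (tt N6883 F34861) (tt N28340 D46618) (tt N6881 (iv5 D22338)) (tt N14458 (iv6 F35577)) (tt N7015 F34862))
theorem Q14138 : ∀ i, i < 14138 → P i := stepQ 14137 Q14137 (allL N14137 (tt N6885 (iv1 F34863)) (tt N6882 (iv0 D22339)) (tt N7004 F35951) (tt N28341 D46619) (tt N14378 F35952) (tt N28342 D46620) (tt N26406 F291467) (tt N6897 F35953))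
theorem Q14139 : ∀ i, i < 14139 → P i := stepQ 14138 Q14138 (allL N14138 (tt N28343 D46621) (tt N26526 (iv0 F68110)) (tt N28344 D46622) (tt N6882 (iv3 D22341)) (tt N26881 (iv4 F68108)) (tt N28345 D46623) (tt N14468 (iv6 F35960)) (tt N7017 F34867))
theorem Q14140 : ∀ i, i < 14140 → P i := stepQ 14139 Q14139 (allL N14139 (tt N28346 D46624) (tt N28347 D46625) (tt N7006 F34868) (tt N28345 (iv3 F73647)) (tt N28348 D46626) (tt N6882 (iv5 D22342)) (tt N28349 D46627) (tt N7018 F34869))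
theorem Q14141 : ∀ i, i < 14141 → P i := stepQ 14140 Q14140 (allL N14140 (tt N14439 (iv1 F35415)) (tt N14237 (iv0 F62995)) (tt N7010 F34870) (tt N28350 D46628) (tt N6883 (iv4 D22343)) (tt N28033 (iv5 F72581)) (tt N14467 (iv6 F35958)) (tt N7020 F34871))
theorem Q14142 : ∀ i, i < 14142 → P i := stepQ 14141 Q14141 (allL N14141 (tt N13949 F64031) (tt N13952 F65975) (tt N26696 F294393) (tt N6886 F34882) (tt N12861 F34883) (tt N14426 (iv5 F35404)) (tt N6884 (iv6 D22347)) (tt N14426 (iv7 F35405)))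
theorem Q14143 : ∀ i, i < 14143 → P i := stepQ 14142 Q14142 (allL N14142 (tt N17843 F289715) (tt N28351 D46630) (tt N28352 D46631) (tt N6885 (iv3 D22348)) (tt N12859 F34884) (tt N28353 D46632) (tt N28354 D46633) (tt N7005 F34885))
theorem Q14144 : ∀ i, i < 14144 → P i := stepQ 14143 Q14143 (allL N14143 (tt N28347 (iv1 F73653)) (tt N28346 F73650) (tt N7018 F34886) (tt N28353 (iv3 F73668)) (tt N28355 D46634) (tt N6885 (iv5 D22349)) (tt N28356 D46635) (tt N7006 F34887))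
theorem Q14145 : ∀ i, i < 14145 → P i := stepQ 14144 Q14144 (allL N14144 (tt N28109 (iv1 F72665)) (tt N28113 F72682) (tt N7019 F34888) (tt N28354 (iv3 F73670)) (tt N6886 F34889) (tt N28357 D46636) (tt N6885 (iv6 D22350)) (tt N14447 (iv7 F35561)))
theorem Q14146 : ∀ i, i < 14146 → P i := stepQ 14145 Q14145 (allL N14145 (tt N6893 (iv1 F34896)) (tt N6887 (iv0 D22351)) (tt N6891 F65763) (tt N13256 F65644) (tt N14620 (iv4 F66348)) (tt N26378 F291486) (tt N13952 F34890) (tt N6892 F65764))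
theorem Q14147 : ∀ i, i < 14147 → P i := stepQ 14146 Q14146 (allL N14146 (tt N6892 (iv1 F34897)) (tt N6891 F34898) (tt N6893 F34894) (tt N26572 F65865) (tt N12842 F34895) (tt N25737 (iv5 F291893)) (tt N26644 (iv6 F291897)) (tt N6887 (iv7 D22354)))
theorem Q14148 : ∀ i, i < 14148 → P i := stepQ 14147 Q14147 (allL N14147 (tt N12845 (iv1 F34901)) (tt N6888 (iv0 D22355)) (tt N12844 (iv2 F34902)) (tt N28261 F73508) (tt N12843 F34900) (tt N12064 F34899) (tt N28358 D46640) (tt N12843 (iv7 F34903)))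
theorem Q14149 : ∀ i, i < 14149 → P i := stepQ 14148 Q14148 (allL N14148 (tt N6888 (iv1 D22356)) (tt N12845 F34904) (tt N12843 (iv2 F34908)) (tt N6939 (iv3 F34909)) (tt N12844 F34907) (tt N12065 F34906) (tt N28359 D46641) (tt N12844 F34905))
theorem Q14150 : ∀ i, i < 14150 → P i := stepQ 14149 Q14149 (allL N14149 (tt N28360 D46642) (tt N28361 D46643) (tt N24391 (iv2 F58454)) (tt N6890 F34914) (tt N6901 F34915) (tt N28362 D46644) (tt N6888 (iv6 D22357)) (tt N26730 (iv7 F66993)))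
theorem Q14151 : ∀ i, i < 14151 → P i := stepQ 14150 Q14150 (allL N14150 (tt N28363 D46645) (tt N28364 D46646) (tt N12840 F34916) (tt N17615 (iv3 F44080)) (tt N22027 (iv4 F299258)) (tt N28365 D46647) (tt N6889 (iv6 D22358)) (tt N28366 D46648))
theorem Q14152 : ∀ i, i < 14152 → P i := stepQ 14151 Q14151 (allL N14151 (tt N28367 D46649) (tt N28368 D46650) (tt N12841 F34918) (tt N28362 (iv3 F73699)) (tt N28369 D46651) (tt N6890 (iv5 D22361)) (tt N28365 (iv6 F73702)) (tt N26731 (iv7 F66995)))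
theorem Q14153 : ∀ i, i < 14153 → P i := stepQ 14152 Q14152 (allL N14152 (tt N28370 D46652) (tt N13568 (iv0 F291145)) (tt N26378 (iv2 F291359)) (tt N13101 (iv3 F291363)) (tt N27436 (iv4 F291365)) (tt N6891 (iv5 D22366)) (tt N13099 F290861) (tt N14545 F65952))
theorem Q14154 : ∀ i, i < 14154 → P i := stepQ 14153 Q14153 (allL N14153 (tt N13365 F65770) (tt N13477 (iv0 F290910)) (tt N13260 F65772) (tt N6892 (iv3 D22369)) (tt N13194 F65773) (tt N28371 D46655) (tt N28372 D46656) (tt N13256 F65774))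
theorem Q14155 : ∀ i, i < 14155 → P i := stepQ 14154 Q14154 (allL N14154 (tt N13568 F291484) (tt N28370 F73719) (tt N14545 F65955) (tt N28371 (iv3 F73727)) (tt N27552 (iv4 F292368)) (tt N6892 (iv5 D22371)) (tt N28373 D46658) (tt N26378 F291485))
theorem Q14156 : ∀ i, i < 14156 → P i := stepQ 14155 Q14155 (allL N14155 (tt N13207 (iv1 F290713)) (tt N27624 F72348) (tt N14546 F65956) (tt N28372 (iv3 F73731)) (tt N25729 (iv4 F66351)) (tt N28374 D46660) (tt N6892 (iv6 D22372)) (tt N28375 D46661))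
theorem Q14157 : ∀ i, i < 14157 → P i := stepQ 14156 Q14156 (allL N14156 (tt N26504 (iv1 F65390)) (tt N6894 (iv0 D22377)) (tt N26503 (iv2 F65385)) (tt N14108 F34931) (tt N26523 (iv4 F65438)) (tt N28376 D46667) (tt N28377 D46668) (tt N26502 F65386))
theorem Q14158 : ∀ i, i < 14158 → P i := stepQ 14157 Q14157 (allL N14157 (tt N6894 (iv1 D22378)) (tt N26504 F65391) (tt N26502 F65384) (tt N27342 F70096) (tt N21677 (iv4 F51670)) (tt N28378 D46669) (tt N28379 D46670) (tt N26503 (iv7 F65382)))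
theorem Q14159 : ∀ i, i < 14159 → P i := stepQ 14158 Q14158 (allL N14158 (tt N26503 (iv1 F65383)) (tt N26502 F65380) (tt N6894 (iv2 D22379)) (tt N12819 F34932) (tt N13437 F34933) (tt N28069 (iv5 F72632)) (tt N28380 D46671) (tt N26504 (iv7 F65389)))
theorem Q14160 : ∀ i, i < 14160 → P i := stepQ 14159 Q14159 (allL N14159 (tt N28381 D46672) (tt N28382 D46673) (tt N28380 (iv2 F73765)) (tt N6895 F34934) (tt N13439 F34935) (tt N28383 D46674) (tt N6894 (iv6 D22380)) (tt N28384 D46675))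
theorem Q14161 : ∀ i, i < 14161 → P i := stepQ 14160 Q14160 (allL N14160 (tt N28385 D46676) (tt N26255 (iv0 F64464)) (tt N28197 (iv2 F73266)) (tt N28383 (iv3 F73769)) (tt N28386 D46677) (tt N6895 (iv5 D22383)) (tt N28072 (iv6 F72635)) (tt N28387 D46678))
theorem Q14162 : ∀ i, i < 14162 → P i := stepQ 14161 Q14161 (allL N14161 (tt N7027 F66539) (tt N7024 F66540) (tt N26406 (iv2 F290931)) (tt N28384 (iv3 F73770)) (tt N13435 F34936) (tt N28387 (iv5 F73773)) (tt N7004 F35655) (tt N6895 (iv7 D22384)))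
theorem Q14163 : ∀ i, i < 14163 → P i := stepQ 14162 Q14162 (allL N14162 (tt N6896 (iv1 D22385)) (tt N12819 F34941) (tt N7098 F34939) (tt N12801 (iv3 F34938)) (tt N27591 (iv4 F70583)) (tt N28388 D46679) (tt N28389 D46680) (tt N12820 F34937))
theorem Q14164 : ∀ i, i < 14164 → P i := stepQ 14163 Q14163 (allL N14163 (tt N12820 (iv1 F34944)) (tt N7098 F34943) (tt N6896 (iv2 D22386)) (tt N26504 (iv3 F65387)) (tt N14568 (iv4 F36249)) (tt N28074 (iv5 F72636)) (tt N28390 D46681) (tt N12819 F34942))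
theorem Q14165 : ∀ i, i < 14165 → P i := stepQ 14164 Q14164 (allL N14164 (tt N28391 D46682) (tt N28392 D46683) (tt N28390 (iv2 F73782)) (tt N6897 F34945) (tt N14569 (iv4 F36255)) (tt N28393 D46684) (tt N6896 (iv6 D22387)) (tt N28341 (iv7 F73635)))
theorem Q14166 : ∀ i, i < 14166 → P i := stepQ 14165 Q14165 (allL N14165 (tt N26260 (iv1 F64471)) (tt N26282 (iv0 F64503)) (tt N26506 (iv2 F65395)) (tt N28393 (iv3 F73787)) (tt N28394 D46685) (tt N6897 (iv5 D22390)) (tt N28079 (iv6 F72641)) (tt N28342 (iv7 F73638)))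
theorem Q14167 : ∀ i, i < 14167 → P i := stepQ 14166 Q14166 (allL N14166 (tt N14104 F34946) (tt N14108 (iv0 F65442)) (tt N28395 D46686) (tt N6898 (iv3 D22392)) (tt N28395 (iv4 F73793)) (tt N17837 (iv5 F44574)) (tt N28396 D46687) (tt N24998 (iv7 F60088)))
theorem Q14168 : ∀ i, i < 14168 → P i := stepQ 14167 Q14167 (allL N14167 (tt N7005 (iv1 F289717)) (tt N28352 (iv0 F289718)) (tt N17843 (iv2 F44602)) (tt N28396 (iv3 F73795)) (tt N12388 F34947) (tt N28397 D46690) (tt N6898 (iv6 D22393)) (tt N28351 (iv7 F289719)))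
theorem Q14169 : ∀ i, i < 14169 → P i := stepQ 14168 Q14168 (allL N14168 (tt N28398 D46692) (tt N28399 D46693) (tt N6901 F34948) (tt N28199 (iv3 F73270)) (tt N24391 (iv4 F58455)) (tt N20339 F328503) (tt N6899 (iv6 D22394)) (tt N20338 (iv7 F328896)))
theorem Q14170 : ∀ i, i < 14170 → P i := stepQ 14169 Q14169 (allL N14169 (tt N23420 (iv1 F91296)) (tt N28400 D46697) (tt N12091 F34949) (tt N6904 F34950) (tt N11594 F34951) (tt N28401 D46698) (tt N6900 (iv6 D22395)) (tt N28402 D46699))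
theorem Q14171 : ∀ i, i < 14171 → P i := stepQ 14170 Q14170 (allL N14170 (tt N20338 F329219) (tt N6901 (iv0 D22396)) (tt N28398 F154170) (tt N28403 D46701) (tt N28404 D46702) (tt N28405 D46703) (tt N28406 D46704) (tt N28399 (iv7 F154176)))
theorem Q14172 : ∀ i, i < 14172 → P i := stepQ 14171 Q14171 (allL N14171 (tt N6901 (iv1 D22397)) (tt N20338 F329220) (tt N28399 (iv2 F154175)) (tt N28407 D46706) (tt N28408 D46707) (tt N28409 D46708) (tt N28410 D46709) (tt N28398 F154174))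
theorem Q14173 : ∀ i, i < 14173 → P i := stepQ 14172 Q14172 (allL N14172 (tt N20337 (iv1 F328887)) (tt N20336 (iv0 F328888)) (tt N20339 F328501) (tt N6907 F34952) (tt N20309 (iv4 F328886)) (tt N6901 (iv5 D22398)) (tt N28401 (iv6 F73810)) (tt N20306 (iv7 F328889)))
theorem Q14174 : ∀ i, i < 14174 → P i := stepQ 14173 Q14173 (allL N14173 (tt N28399 (iv1 F73797)) (tt N28398 F73802) (tt N20338 F329221) (tt N6908 F34953) (tt N26730 (iv4 F66991)) (tt N20306 F329222) (tt N26646 (iv6 F294347)) (tt N6901 (iv7 D22399)))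
theorem Q14175 : ∀ i, i < 14175 → P i := stepQ 14174 Q14174 (allL N14174 (tt N28376 (iv1 F73759)) (tt N28378 (iv0 F73763)) (tt N28411 D46714) (tt N6902 (iv3 D22400)) (tt N28412 D46715) (tt N12978 F34954) (tt N28413 D46716) (tt N13991 F34955))
theorem Q14176 : ∀ i, i < 14176 → P i := stepQ 14175 Q14175 (allL N14175 (tt N28414 D46717) (tt N28415 D46718) (tt N13999 F34956) (tt N28413 (iv3 F73833)) (tt N24444 (iv4 F58744)) (tt N28416 D46719) (tt N6902 (iv6 D22401)) (tt N28417 D46720))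
theorem Q14177 : ∀ i, i < 14177 → P i := stepQ 14176 Q14176 (allL N14176 (tt N12821 F34959) (tt N28388 (iv0 F73777)) (tt N25663 (iv2 F61852)) (tt N6903 (iv3 D22402)) (tt N28418 D46721) (tt N12980 F34957) (tt N28419 D46722) (tt N13997 F34958))
theorem Q14178 : ∀ i, i < 14178 → P i := stepQ 14177 Q14177 (allL N14177 (tt N24088 F300533) (tt N24699 F300534) (tt N13993 F34960) (tt N28419 (iv3 F73843)) (tt N24448 (iv4 F58747)) (tt N28420 D46725) (tt N6903 (iv6 D22403)) (tt N28421 D46726))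
theorem Q14179 : ∀ i, i < 14179 → P i := stepQ 14178 Q14178 (allL N14178 (tt N28208 (iv1 F73295)) (tt N6904 (iv0 D22404)) (tt N28205 F274996) (tt N28422 D46728) (tt N28423 D46729) (tt N28424 D46730) (tt N28425 D46731) (tt N28206 F274997))
theorem Q14180 : ∀ i, i < 14180 → P i := stepQ 14179 Q14179 (allL N14179 (tt N6904 (iv1 D22405)) (tt N28208 F73294) (tt N28206 (iv2 F274993)) (tt N28426 D46733) (tt N28427 D46734) (tt N28428 D46735) (tt N28429 D46736) (tt N28205 (iv7 F274994)))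
theorem Q14181 : ∀ i, i < 14181 → P i := stepQ 14180 Q14180 (allL N14180 (tt N28430 D46737) (tt N28431 D46738) (tt N28207 (iv2 F73289)) (tt N28401 (iv3 F73809)) (tt N28432 D46739) (tt N6904 (iv5 D22406)) (tt N6907 F34961) (tt N28433 D46740))
theorem Q14182 : ∀ i, i < 14182 → P i := stepQ 14181 Q14181 (allL N14181 (tt N28206 (iv1 F73288)) (tt N28205 F73293) (tt N28208 (iv2 F73291)) (tt N28402 (iv3 F73812)) (tt N24722 (iv4 F59365)) (tt N28433 (iv5 F73856)) (tt N28223 (iv6 F73368)) (tt N6904 (iv7 D22407)))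
theorem Q14183 : ∀ i, i < 14183 → P i := stepQ 14182 Q14182 (allL N14182 (tt N28434 D46741) (tt N28379 F157759) (tt N28435 D46743) (tt N6905 (iv3 D22409)) (tt N26456 F65950) (tt N28436 D46744) (tt N28437 D46745) (tt N26628 (iv7 F65998)))
theorem Q14184 : ∀ i, i < 14184 → P i := stepQ 14183 Q14183 (allL N14183 (tt N26280 (iv1 F64497)) (tt N28438 D46746) (tt N28210 (iv2 F73300)) (tt N28436 (iv3 F73858)) (tt N28439 D46747) (tt N6905 (iv5 D22411)) (tt N28440 D46748) (tt N26629 (iv7 F66000)))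
theorem Q14185 : ∀ i, i < 14185 → P i := stepQ 14184 Q14184 (allL N14184 (tt N7019 F64196) (tt N14447 F64197) (tt N28113 (iv2 F72677)) (tt N28437 (iv3 F73859)) (tt N13574 (iv4 F65838)) (tt N26109 F64198) (tt N6905 (iv6 D22412)) (tt N28109 F72670))
theorem Q14186 : ∀ i, i < 14186 → P i := stepQ 14185 Q14185 (allL N14185 (tt N12822 F65947) (tt N28441 D46749) (tt N28442 D46750) (tt N6906 (iv3 D22414)) (tt N28443 D46751) (tt N28444 D46752) (tt N28445 D46753) (tt N28209 (iv7 F73297)))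
theorem Q14187 : ∀ i, i < 14187 → P i := stepQ 14186 Q14186 (allL N14186 (tt N28438 (iv1 F73861)) (tt N26280 F66001) (tt N26629 (iv2 F65999)) (tt N28444 (iv3 F73871)) (tt N28446 D46754) (tt N6906 (iv5 D22416)) (tt N28447 D46755) (tt N28210 (iv7 F73301)))
theorem Q14188 : ∀ i, i < 14188 → P i := stepQ 14187 Q14187 (allL N14187 (tt N13222 (iv1 F291064)) (tt N26677 F290939) (tt N26630 (iv2 F66002)) (tt N28445 (iv3 F73872)) (tt N25707 (iv4 F66071)) (tt N28448 D46758) (tt N6906 (iv6 D22417)) (tt N26675 (iv7 F291058)))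
theorem Q14189 : ∀ i, i < 14189 → P i := stepQ 14188 Q14188 (allL N14188 (tt N26997 (iv1 F293151)) (tt N6907 (iv0 D22418)) (tt N28211 (iv2 F73313)) (tt N28449 D46760) (tt N28450 D46761) (tt N27000 F292683) (tt N28451 D46763) (tt N28212 F73314))
theorem Q14190 : ∀ i, i < 14190 → P i := stepQ 14189 Q14189 (allL N14189 (tt N6907 (iv1 D22419)) (tt N26997 (iv0 F293150)) (tt N28212 (iv2 F73304)) (tt N28452 D46764) (tt N28453 D46765) (tt N14063 (iv5 F34964)) (tt N28454 D46766) (tt N28211 (iv7 F73310)))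
theorem Q14191 : ∀ i, i < 14191 → P i := stepQ 14190 Q14190 (allL N14190 (tt N26973 (iv1 F293156)) (tt N27019 (iv0 F293158)) (tt N28213 (iv2 F73305)) (tt N28455 D46769) (tt N6907 (iv4 D22420)) (tt N26992 F292040) (tt N28432 (iv6 F73855)) (tt N28456 D46771))
theorem Q14192 : ∀ i, i < 14192 → P i := stepQ 14191 Q14191 (allL N14191 (tt N28212 (iv1 F73302)) (tt N28211 F73308) (tt N26997 (iv2 F293152)) (tt N20306 F329200) (tt N28456 (iv4 F73885)) (tt N6908 F34965) (tt N20304 (iv6 F329480)) (tt N6907 (iv7 D22421)))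
theorem Q14193 : ∀ i, i < 14193 → P i := stepQ 14192 Q14192 (allL N14192 (tt N28268 (iv1 F157764)) (tt N27917 F157749) (tt N27053 (iv2 F68593)) (tt N6909 (iv3 D22437)) (tt N14192 F65978) (tt N28457 D46775) (tt N28458 D46776) (tt N28214 (iv7 F73318)))
theorem Q14194 : ∀ i, i < 14194 → P i := stepQ 14193 Q14193 (allL N14193 (tt N26212 F66129) (tt N28459 D46777) (tt N14553 (iv2 F65977)) (tt N28457 (iv3 F73888)) (tt N28460 D46778) (tt N6909 (iv5 D22438)) (tt N28461 D46779) (tt N28215 (iv7 F73320)))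
theorem Q14195 : ∀ i, i < 14195 → P i := stepQ 14194 Q14194 (allL N14194 (tt N6990 F66258) (tt N27578 F70487) (tt N12722 F294399) (tt N28458 (iv3 F73889)) (tt N6911 F34981) (tt N26148 F66130) (tt N6909 (iv6 D22439)) (tt N14030 F35552))
theorem Q14196 : ∀ i, i < 14196 → P i := stepQ 14195 Q14195 (allL N14195 (tt N28462 D46781) (tt N13556 (iv0 F291336)) (tt N14554 (iv2 F65976)) (tt N28463 D46783) (tt N6910 (iv4 D22442)) (tt N26950 (iv5 F291337)) (tt N13404 F290851) (tt N28216 (iv7 F73327)))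
theorem Q14197 : ∀ i, i < 14197 → P i := stepQ 14196 Q14196 (allL N14196 (tt N28459 (iv1 F73892)) (tt N26212 F73321) (tt N28215 (iv2 F73319)) (tt N13516 F65705) (tt N28464 D46786) (tt N6912 (iv5 D22454)) (tt N28465 D46787) (tt N14553 F65706))
theorem Q14198 : ∀ i, i < 14198 → P i := stepQ 14197 Q14197 (allL N14197 (tt N26466 (iv1 F291132)) (tt N26694 (iv0 F291436)) (tt N26678 (iv2 F291377)) (tt N13517 F65707) (tt N6914 F34998) (tt N28466 D46789) (tt N6912 (iv6 D22455)) (tt N14638 (iv7 F291379)))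
theorem Q14199 : ∀ i, i < 14199 → P i := stepQ 14198 Q14198 (allL N14198 (tt N13556 F291868) (tt N28462 F73894) (tt N28216 (iv2 F73326)) (tt N14608 F293951) (tt N6913 (iv4 D22456)) (tt N26951 (iv5 F292969)) (tt N25567 F291869) (tt N14554 F65708))
theorem Q14200 : ∀ i, i < 14200 → P i := stepQ 14199 Q14199 (allL N14199 (tt N6915 (iv1 D22477)) (tt N6922 F35023) (tt N6920 (iv2 F62783)) (tt N14083 (iv3 F62757)) (tt N13412 F62754) (tt N14272 F292028) (tt N14453 (iv6 F63345)) (tt N6919 F62782))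
theorem Q14201 : ∀ i, i < 14201 → P i := stepQ 14200 Q14200 (allL N14200 (tt N14598 F68053) (tt N28467 D46819) (tt N6921 F35024) (tt N25658 (iv3 F293134)) (tt N14063 F292018) (tt N6915 (iv5 D22478)) (tt N12948 F35025) (tt N28468 D46820))
theorem Q14202 : ∀ i, i < 14202 → P i := stepQ 14201 Q14201 (allL N14201 (tt N6920 (iv1 F35028)) (tt N6919 F35029) (tt N6922 F35026) (tt N26644 (iv3 F291896)) (tt N26854 F68012) (tt N28468 (iv5 F73960)) (tt N26572 F65867) (tt N6915 (iv7 D22479)))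
theorem Q14203 : ∀ i, i < 14203 → P i := stepQ 14202 Q14202 (allL N14202 (tt N26870 (iv1 F68078)) (tt N6916 (iv0 D22480)) (tt N26869 F68070) (tt N26433 F65142) (tt N28269 (iv4 F73523)) (tt N28132 (iv5 F72750)) (tt N28469 D46821) (tt N26868 F68067))
theorem Q14204 : ∀ i, i < 14204 → P i := stepQ 14203 Q14203 (allL N14203 (tt N6916 (iv1 D22481)) (tt N26870 F68079) (tt N26868 (iv2 F68072)) (tt N26869 F68073) (tt N28231 (iv4 F73428)) (tt N28133 (iv5 F72752)) (tt N28470 D46822) (tt N26869 F68071))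
theorem Q14205 : ∀ i, i < 14205 → P i := stepQ 14204 Q14204 (allL N14204 (tt N26869 (iv1 F68069)) (tt N26868 F68066) (tt N6916 (iv2 D22482)) (tt N13225 F35030) (tt N6925 F35031) (tt N11487 (iv5 F35032)) (tt N28471 D46823) (tt N26870 (iv7 F68077)))
theorem Q14206 : ∀ i, i < 14206 → P i := stepQ 14205 Q14205 (allL N14205 (tt N23270 F55351) (tt N23372 (iv0 F55699)) (tt N11487 F35033) (tt N6917 F35034) (tt N11482 (iv4 F35040)) (tt N6916 (iv5 D22483)) (tt N28472 D46824) (tt N11490 F35035))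
theorem Q14207 : ∀ i, i < 14207 → P i := stepQ 14206 Q14206 (allL N14206 (tt N28473 D46825) (tt N28474 D46826) (tt N28471 (iv2 F73963)) (tt N6918 F35048) (tt N6927 F35049) (tt N28475 D46827) (tt N6916 (iv6 D22484)) (tt N26978 (iv7 F68349)))
theorem Q14208 : ∀ i, i < 14208 → P i := stepQ 14207 Q14207 (allL N14207 (tt N26558 (iv1 F82985)) (tt N26561 (iv0 F82978)) (tt N26793 (iv2 F67746)) (tt N28472 (iv3 F73968)) (tt N26791 (iv4 F67740)) (tt N28476 D46830) (tt N6917 (iv6 D22485)) (tt N28477 D46831))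
theorem Q14209 : ∀ i, i < 14209 → P i := stepQ 14208 Q14208 (allL N14208 (tt N28478 D46832) (tt N27173 (iv0 F69079)) (tt N26874 (iv2 F68095)) (tt N28475 (iv3 F73970)) (tt N28479 D46833) (tt N6918 (iv5 D22488)) (tt N28476 (iv6 F73971)) (tt N26979 (iv7 F68350)))
theorem Q14210 : ∀ i, i < 14210 → P i := stepQ 14209 Q14209 (allL N14209 (tt N13286 (iv1 F292510)) (tt N13789 F62776) (tt N14082 F62777) (tt N6919 (iv3 D22491)) (tt N12824 F62778) (tt N13142 (iv5 F291768)) (tt N13144 F291582) (tt N14083 F62779))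
theorem Q14211 : ∀ i, i < 14211 → P i := stepQ 14210 Q14210 (allL N14210 (tt N14136 F68974) (tt N14448 (iv0 F63332)) (tt N14453 F63346) (tt N7125 F63292) (tt N13466 (iv4 F62983)) (tt N26269 (iv5 F67697)) (tt N6920 (iv6 D22499)) (tt N14454 (iv7 F63349)))
theorem Q14212 : ∀ i, i < 14212 → P i := stepQ 14211 Q14211 (allL N14211 (tt N28468 (iv1 F73962)) (tt N6921 (iv0 D22500)) (tt N14598 (iv2 F65905)) (tt N26779 (iv3 F292024)) (tt N13491 (iv4 F68056)) (tt N28480 D46843) (tt N24431 (iv6 F291323)) (tt N28467 (iv7 F73947)))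
theorem Q14213 : ∀ i, i < 14213 → P i := stepQ 14212 Q14212 (allL N14212 (tt N6921 (iv1 D22501)) (tt N28468 F73961) (tt N28467 (iv2 F73949)) (tt N13754 F65902) (tt N13492 F65904) (tt N13748 (iv5 F65901)) (tt N27199 F290964) (tt N14598 (iv7 F65903)))
theorem Q14214 : ∀ i, i < 14214 → P i := stepQ 14213 Q14213 (allL N14213 (tt N13077 (iv1 F291691)) (tt N26859 (iv0 F68041)) (tt N14063 (iv2 F291687)) (tt N28481 D46846) (tt N6921 (iv4 D22502)) (tt N28212 (iv5 F291851)) (tt N12950 F35053) (tt N27000 F68417))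
theorem Q14215 : ∀ i, i < 14215 → P i := stepQ 14214 Q14214 (allL N14214 (tt N28467 (iv1 F73946)) (tt N14598 F73958) (tt N28468 (iv2 F73959)) (tt N6938 F35054) (tt N27000 (iv4 F68415)) (tt N6922 F35055) (tt N26987 F292019) (tt N6921 (iv7 D22503)))
theorem Q14216 : ∀ i, i < 14216 → P i := stepQ 14215 Q14215 (allL N14215 (tt N27342 F70097) (tt N27341 F70095) (tt N12796 F35056) (tt N6923 (iv3 D22504)) (tt N13801 F35057) (tt N28152 (iv5 F72936)) (tt N28482 D46849) (tt N27343 (iv7 F70100)))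
theorem Q14217 : ∀ i, i < 14217 → P i := stepQ 14216 Q14216 (allL N14216 (tt N28344 (iv1 F73645)) (tt N7017 F66885) (tt N26526 (iv2 F65445)) (tt N28482 (iv3 F74039)) (tt N26525 (iv4 F65444)) (tt N28483 D46850) (tt N6923 (iv6 D22505)) (tt N28343 (iv7 F73641)))
theorem Q14218 : ∀ i, i < 14218 → P i := stepQ 14217 Q14217 (allL N14217 (tt N27927 F72173) (tt N28484 D46851) (tt N28198 (iv2 F73267)) (tt N12798 F35059) (tt N13450 F35060) (tt N28485 D46852) (tt N6924 (iv6 D22507)) (tt N28486 D46853))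
theorem Q14219 : ∀ i, i < 14219 → P i := stepQ 14218 Q14218 (allL N14218 (tt N14047 F35064) (tt N14045 F35066) (tt N6926 F35061) (tt N8686 F35062) (tt N28487 D46854) (tt N6925 (iv5 D22508)) (tt N28488 D46855) (tt N12090 F35063))
theorem Q14220 : ∀ i, i < 14220 → P i := stepQ 14219 Q14219 (allL N14219 (tt N26569 F73966) (tt N28489 D46856) (tt N6927 F35067) (tt N25010 (iv3 F60129)) (tt N28471 (iv4 F73965)) (tt N28490 D46857) (tt N6925 (iv6 D22509)) (tt N28491 D46858))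
theorem Q14221 : ∀ i, i < 14221 → P i := stepQ 14220 Q14220 (allL N14220 (tt N12090 (iv1 F35069)) (tt N6926 (iv0 D22510)) (tt N14047 (iv2 F35070)) (tt N28492 D46859) (tt N28493 D46860) (tt N12995 F35068) (tt N28494 D46861) (tt N14045 (iv7 F35071)))
theorem Q14222 : ∀ i, i < 14222 → P i := stepQ 14221 Q14221 (allL N14221 (tt N6926 (iv1 D22511)) (tt N12090 F35072) (tt N14045 (iv2 F35074)) (tt N12803 (iv3 F35075)) (tt N28495 D46862) (tt N12996 (iv5 F35076)) (tt N28496 D46863) (tt N14047 F35073))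
theorem Q14223 : ∀ i, i < 14223 → P i := stepQ 14222 Q14222 (allL N14222 (tt N28494 F300551) (tt N10904 (iv0 F52825)) (tt N28487 (iv2 F74048)) (tt N24699 (iv3 F59347)) (tt N6926 (iv4 D22512)) (tt N28497 D46865) (tt N28498 D46866) (tt N28200 (iv7 F73272)))
theorem Q14224 : ∀ i, i < 14224 → P i := stepQ 14223 Q14223 (allL N14223 (tt N28499 D46867) (tt N28500 D46868) (tt N28488 (iv2 F74054)) (tt N6928 F35077) (tt N28498 (iv4 F74082)) (tt N28501 D46869) (tt N6926 (iv6 D22513)) (tt N28502 D46870))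
theorem Q14225 : ∀ i, i < 14225 → P i := stepQ 14224 Q14224 (allL N14224 (tt N28491 (iv1 F74062)) (tt N6927 (iv0 D22514)) (tt N26569 (iv2 F65529)) (tt N28503 D46871) (tt N26568 F65530) (tt N28504 D46872) (tt N26669 F292354) (tt N28489 (iv7 F74057)))
theorem Q14226 : ∀ i, i < 14226 → P i := stepQ 14225 Q14225 (allL N14225 (tt N6927 (iv1 D22515)) (tt N28491 F74061) (tt N28489 F74058) (tt N12806 F66123) (tt N26448 (iv4 F65164)) (tt N28505 D46874) (tt N28506 D46875) (tt N26569 (iv7 F65528)))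
theorem Q14227 : ∀ i, i < 14227 → P i := stepQ 14226 Q14226 (allL N14226 (tt N28507 D46876) (tt N28508 D46877) (tt N28490 (iv2 F74059)) (tt N6931 F35078) (tt N28509 D46878) (tt N6927 (iv5 D22516)) (tt N28501 (iv6 F74084)) (tt N28510 D46879))
theorem Q14228 : ∀ i, i < 14228 → P i := stepQ 14227 Q14227 (allL N14227 (tt N28489 (iv1 F74056)) (tt N26569 (iv0 F66350)) (tt N28491 (iv2 F74060)) (tt N6932 F35079) (tt N26978 (iv4 F68347)) (tt N28510 (iv5 F74091)) (tt N26996 F292326) (tt N6927 (iv7 D22517)))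
theorem Q14229 : ∀ i, i < 14229 → P i := stepQ 14228 Q14228 (allL N14228 (tt N28223 (iv1 F73371)) (tt N6928 (iv0 D22518)) (tt N28220 (iv2 F272809)) (tt N28511 D46881) (tt N28512 D46882) (tt N28513 D46883) (tt N28514 D46884) (tt N28221 F272808))
theorem Q14230 : ∀ i, i < 14230 → P i := stepQ 14229 Q14229 (allL N14229 (tt N6928 (iv1 D22519)) (tt N28223 F73370) (tt N28221 F272804) (tt N28515 D46886) (tt N28516 D46887) (tt N28517 D46888) (tt N28518 D46889) (tt N28220 (iv7 F272810)))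
theorem Q14231 : ∀ i, i < 14231 → P i := stepQ 14230 Q14230 (allL N14230 (tt N28519 D46890) (tt N28520 D46891) (tt N28222 (iv2 F73363)) (tt N28501 (iv3 F74083)) (tt N28521 D46892) (tt N6928 (iv5 D22520)) (tt N6931 F35080) (tt N28522 D46893))
theorem Q14232 : ∀ i, i < 14232 → P i := stepQ 14231 Q14231 (allL N14231 (tt N28221 (iv1 F73362)) (tt N28220 F73369) (tt N28223 (iv2 F73366)) (tt N28502 (iv3 F74085)) (tt N24708 (iv4 F59353)) (tt N28522 (iv5 F74096)) (tt N28208 (iv6 F73292)) (tt N6928 (iv7 D22521)))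
theorem Q14233 : ∀ i, i < 14233 → P i := stepQ 14232 Q14232 (allL N14232 (tt N26724 F66960) (tt N28389 (iv0 F140419)) (tt N28523 D46895) (tt N6929 (iv3 D22523)) (tt N14583 F62959) (tt N28524 D46896) (tt N26410 F293362) (tt N28226 (iv7 F73376)))
theorem Q14234 : ∀ i, i < 14234 → P i := stepQ 14233 Q14233 (allL N14233 (tt N13475 (iv1 F62958)) (tt N13385 (iv0 F62960)) (tt N13415 (iv2 F62755)) (tt N12815 (iv3 F62963)) (tt N6929 (iv4 D22524)) (tt N13365 F291448) (tt N13366 (iv6 F291786)) (tt N13476 F62956))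
theorem Q14235 : ∀ i, i < 14235 → P i := stepQ 14234 Q14234 (allL N14234 (tt N26627 F293355) (tt N26643 F293356) (tt N28225 (iv2 F73374)) (tt N28524 (iv3 F74098)) (tt N28525 D46902) (tt N6929 (iv5 D22525)) (tt N28526 D46903) (tt N28227 (iv7 F73379)))
theorem Q14236 : ∀ i, i < 14236 → P i := stepQ 14235 Q14235 (allL N14235 (tt N28377 F177388) (tt N28527 D46906) (tt N28528 D46907) (tt N6930 (iv3 D22528)) (tt N13479 F62993) (tt N28529 D46908) (tt N28530 D46909) (tt N28224 (iv7 F73373)))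
theorem Q14237 : ∀ i, i < 14237 → P i := stepQ 14236 Q14236 (allL N14236 (tt N26643 F293357) (tt N26627 F293358) (tt N28227 (iv2 F73378)) (tt N28529 (iv3 F74119)) (tt N28531 D46910) (tt N6930 (iv5 D22530)) (tt N28532 D46911) (tt N28225 (iv7 F73375)))
theorem Q14238 : ∀ i, i < 14238 → P i := stepQ 14237 Q14237 (allL N14237 (tt N14140 F62995) (tt N7007 F62996) (tt N14444 (iv2 F63015)) (tt N28530 (iv3 F74120)) (tt N13478 F62994) (tt N26250 (iv5 F64459)) (tt N6930 (iv6 D22531)) (tt N14443 (iv7 F63011)))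
theorem Q14239 : ∀ i, i < 14239 → P i := stepQ 14238 Q14238 (allL N14238 (tt N26647 (iv1 F293166)) (tt N6931 (iv0 D22532)) (tt N28228 (iv2 F73394)) (tt N28533 D46912) (tt N28534 D46913) (tt N28535 D46914) (tt N28536 D46915) (tt N28229 F73395))
theorem Q14240 : ∀ i, i < 14240 → P i := stepQ 14239 Q14239 (allL N14239 (tt N6931 (iv1 D22533)) (tt N26647 (iv0 F293165)) (tt N28229 (iv2 F73382)) (tt N28537 D46916) (tt N28538 D46917) (tt N14019 (iv5 F35083)) (tt N28539 D46918) (tt N28228 (iv7 F73392)))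
theorem Q14241 : ∀ i, i < 14241 → P i := stepQ 14240 Q14240 (allL N14240 (tt N28540 D46919) (tt N28541 D46920) (tt N28230 (iv2 F73387)) (tt N28542 D46921) (tt N6931 (iv4 D22534)) (tt N26599 F293364) (tt N28521 (iv6 F74095)) (tt N28543 D46923))
theorem Q14242 : ∀ i, i < 14242 → P i := stepQ 14241 Q14241 (allL N14241 (tt N28229 (iv1 F73380)) (tt N28228 F73390) (tt N26647 (iv2 F293167)) (tt N28510 (iv3 F74090)) (tt N28543 (iv4 F74132)) (tt N6932 F35084) (tt N28544 D46924) (tt N6931 (iv7 D22535)))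
theorem Q14243 : ∀ i, i < 14243 → P i := stepQ 14242 Q14242 (allL N14242 (tt N27914 F177420) (tt N28275 F177421) (tt N26726 (iv2 F66973)) (tt N6933 (iv3 D22569)) (tt N14242 F62235) (tt N28545 D46940) (tt N28546 D46941) (tt N26460 F293351))
theorem Q14244 : ∀ i, i < 14244 → P i := stepQ 14243 Q14243 (allL N14243 (tt N26653 F293352) (tt N26652 F293353) (tt N14607 F63004) (tt N28545 (iv3 F74158)) (tt N26602 (iv4 F294350)) (tt N6933 (iv5 D22570)) (tt N28547 D46943) (tt N26461 F293354))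
theorem Q14245 : ∀ i, i < 14245 → P i := stepQ 14244 Q14244 (allL N14244 (tt N25871 (iv1 F62393)) (tt N6986 F35555) (tt N14442 (iv2 F35433)) (tt N28546 (iv3 F74159)) (tt N6934 F35110) (tt N26197 (iv5 F64374)) (tt N6933 (iv6 D22571)) (tt N14441 (iv7 F35423)))
theorem Q14246 : ∀ i, i < 14246 → P i := stepQ 14245 Q14245 (allL N14245 (tt N26593 (iv1 F293196)) (tt N26597 (iv0 F292208)) (tt N26431 (iv2 F293197)) (tt N14554 (iv3 F293191)) (tt N6935 (iv4 D22577)) (tt N28548 D46947) (tt N12708 F292113) (tt N14608 F65730))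
theorem Q14247 : ∀ i, i < 14247 → P i := stepQ 14246 Q14246 (allL N14246 (tt N26597 (iv1 F292209)) (tt N26593 F292198) (tt N14608 F65968) (tt N28549 D46950) (tt N6936 (iv4 D22582)) (tt N28550 D46951) (tt N28551 D46952) (tt N26431 F292199))
theorem Q14248 : ∀ i, i < 14248 → P i := stepQ 14247 Q14247 (allL N14247 (tt N13581 (iv1 F291255)) (tt N13539 (iv0 F291176)) (tt N13580 (iv2 F291253)) (tt N14247 F65964) (tt N28551 (iv4 F74170)) (tt N13221 F290966) (tt N6936 (iv6 D22583)) (tt N13384 (iv7 F291254)))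
theorem Q14249 : ∀ i, i < 14249 → P i := stepQ 14248 Q14248 (allL N14248 (tt N26648 (iv1 F291279)) (tt N6937 (iv0 D22584)) (tt N26267 F290849) (tt N28552 D46953) (tt N26264 (iv4 F291292)) (tt N28553 D46955) (tt N13379 F290850) (tt N27266 (iv7 F291313)))
theorem Q14250 : ∀ i, i < 14250 → P i := stepQ 14249 Q14249 (allL N14249 (tt N6937 (iv1 D22585)) (tt N26648 (iv0 F291278)) (tt N27266 (iv2 F291312)) (tt N28554 D46957) (tt N13487 (iv4 F68059)) (tt N28555 D46958) (tt N28556 D46959) (tt N26267 F290892))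
theorem Q14251 : ∀ i, i < 14251 → P i := stepQ 14250 Q14250 (allL N14250 (tt N28557 D46960) (tt N28558 D46961) (tt N28559 D46962) (tt N6937 (iv3 D22586)) (tt N28481 (iv4 F74034)) (tt N28560 D46963) (tt N12956 F35126) (tt N28561 D46964))
theorem Q14252 : ∀ i, i < 14252 → P i := stepQ 14251 Q14251 (allL N14251 (tt N26474 F291450) (tt N26613 F291451) (tt N27267 F291452) (tt N28560 (iv3 F74179)) (tt N26600 (iv4 F292307)) (tt N6937 (iv5 D22587)) (tt N28562 D46968) (tt N28563 D46969))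
theorem Q14253 : ∀ i, i < 14253 → P i := stepQ 14252 Q14252 (allL N14252 (tt N27266 (iv1 F291311)) (tt N26267 F290843) (tt N26648 (iv2 F291280)) (tt N28561 (iv3 F74180)) (tt N6938 F35127) (tt N28563 (iv5 F74183)) (tt N26998 F290844) (tt N6937 (iv7 D22588)))
theorem Q14254 : ∀ i, i < 14254 → P i := stepQ 14253 Q14253 (allL N14253 (tt N28564 D46971) (tt N28565 D46972) (tt N28247 (iv2 F73478)) (tt N28244 (iv3 F73467)) (tt N6939 (iv4 D22590)) (tt N28566 D46973) (tt N28567 D46974) (tt N28244 (iv7 F73468)))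
theorem Q14255 : ∀ i, i < 14255 → P i := stepQ 14254 Q14254 (allL N14254 (tt N26120 (iv1 F64240)) (tt N6972 (iv0 F35132)) (tt N26124 F64249) (tt N12065 F35129) (tt N12162 F35131) (tt N6939 (iv5 D22591)) (tt N28568 D46975) (tt N12244 F35130))
theorem Q14256 : ∀ i, i < 14256 → P i := stepQ 14255 Q14255 (allL N14255 (tt N28569 D46976) (tt N26684 F292384) (tt N28248 (iv2 F73481)) (tt N28359 (iv3 F73697)) (tt N28567 (iv4 F74192)) (tt N28570 D46978) (tt N6939 (iv6 D22592)) (tt N28571 D46979))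
theorem Q14257 : ∀ i, i < 14257 → P i := stepQ 14256 Q14256 (allL N14256 (tt N28262 (iv1 F73517)) (tt N27911 (iv0 F72105)) (tt N28261 (iv2 F73509)) (tt N6940 (iv3 D22593)) (tt N27589 (iv4 F70578)) (tt N28572 D46980) (tt N28573 D46981) (tt N28246 (iv7 F73472)))
theorem Q14258 : ∀ i, i < 14258 → P i := stepQ 14257 Q14257 (allL N14257 (tt N28565 (iv1 F74189)) (tt N28564 F74188) (tt N28244 (iv2 F73466)) (tt N14555 (iv3 F36216)) (tt N6940 (iv4 D22594)) (tt N28574 D46982) (tt N28575 D46983) (tt N28247 (iv7 F73479)))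
theorem Q14259 : ∀ i, i < 14259 → P i := stepQ 14258 Q14258 (allL N14258 (tt N6972 F59336) (tt N26120 F64239) (tt N12244 F35133) (tt N28572 (iv3 F74196)) (tt N12243 (iv4 F35134)) (tt N6940 (iv5 D22595)) (tt N28576 D46984) (tt N26124 (iv7 F64247)))
theorem Q14260 : ∀ i, i < 14260 → P i := stepQ 14259 Q14259 (allL N14259 (tt N6983 (iv1 F289579)) (tt N28326 (iv0 F289580)) (tt N28245 (iv2 F73469)) (tt N28573 (iv3 F74198)) (tt N28575 (iv4 F74200)) (tt N28577 D46987) (tt N6940 (iv6 D22596)) (tt N28325 (iv7 F289581)))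
theorem Q14261 : ∀ i, i < 14261 → P i := stepQ 14260 Q14260 (allL N14260 (tt N27975 (iv1 F72417)) (tt N22982 (iv0 F54816)) (tt N6943 F35135) (tt N10542 F35136) (tt N28578 D46989) (tt N6941 (iv5 D22597)) (tt N28579 D46990) (tt N21778 (iv7 F51873)))
theorem Q14262 : ∀ i, i < 14262 → P i := stepQ 14261 Q14261 (allL N14261 (tt N28580 D46991) (tt N28581 D46992) (tt N6944 F35137) (tt N28234 (iv3 F73438)) (tt N27639 (iv4 F70743)) (tt N28582 D46993) (tt N6941 (iv6 D22598)) (tt N28583 D46994))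
theorem Q14263 : ∀ i, i < 14263 → P i := stepQ 14262 Q14262 (allL N14262 (tt N13874 F58239) (tt N27419 (iv0 F70245)) (tt N27421 F70249) (tt N13643 F35138) (tt N28584 D46995) (tt N6942 (iv5 D22599)) (tt N28585 D46996) (tt N27399 (iv7 F70197)))
theorem Q14264 : ∀ i, i < 14264 → P i := stepQ 14263 Q14263 (allL N14263 (tt N28586 D46997) (tt N28587 D46998) (tt N27639 (iv2 F70742)) (tt N13644 F35139) (tt N6944 F35140) (tt N28588 D46999) (tt N6942 (iv6 D22600)) (tt N28589 D47000))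
theorem Q14265 : ∀ i, i < 14265 → P i := stepQ 14264 Q14264 (allL N14264 (tt N6943 (iv1 D22601)) (tt N21778 F51875) (tt N22982 (iv2 F54813)) (tt N28590 D47001) (tt N22981 F54814) (tt N13008 (iv5 F58716)) (tt N28591 D47002) (tt N27975 (iv7 F72416)))
theorem Q14266 : ∀ i, i < 14266 → P i := stepQ 14265 Q14265 (allL N14265 (tt N28592 D47003) (tt N28593 D47004) (tt N28578 (iv2 F74203)) (tt N12140 F35141) (tt N6943 (iv4 D22602)) (tt N24605 F304279) (tt N27993 (iv6 F306312)) (tt N28250 (iv7 F73486)))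
theorem Q14267 : ∀ i, i < 14267 → P i := stepQ 14266 Q14266 (allL N14266 (tt N28594 D47007) (tt N28595 D47008) (tt N28579 (iv2 F74205)) (tt N6947 F35142) (tt N27993 F308261) (tt N28596 D47009) (tt N6943 (iv6 D22603)) (tt N28597 D47010))
theorem Q14268 : ∀ i, i < 14268 → P i := stepQ 14267 Q14267 (allL N14267 (tt N28583 (iv1 F74212)) (tt N6944 (iv0 D22604)) (tt N28580 F154966) (tt N28598 D47012) (tt N28599 D47013) (tt N28600 D47014) (tt N28601 D47015) (tt N28581 (iv7 F154974)))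
theorem Q14269 : ∀ i, i < 14269 → P i := stepQ 14268 Q14268 (allL N14268 (tt N6944 (iv1 D22605)) (tt N28583 F74211) (tt N28581 (iv2 F154973)) (tt N28602 D47017) (tt N28603 D47018) (tt N28604 D47019) (tt N28605 D47020) (tt N28580 F154972))
theorem Q14270 : ∀ i, i < 14270 → P i := stepQ 14269 Q14269 (allL N14269 (tt N28606 D47021) (tt N28607 D47022) (tt N28582 (iv2 F74208)) (tt N6948 F35143) (tt N28608 D47023) (tt N6944 (iv5 D22606)) (tt N28596 (iv6 F74253)) (tt N28609 D47024))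
theorem Q14271 : ∀ i, i < 14271 → P i := stepQ 14270 Q14270 (allL N14270 (tt N28581 (iv1 F74207)) (tt N28580 F74210) (tt N28583 (iv2 F74209)) (tt N6949 F35144) (tt N28589 (iv4 F74218)) (tt N28609 (iv5 F74258)) (tt N26649 (iv6 F293987)) (tt N6944 (iv7 D22607)))
theorem Q14272 : ∀ i, i < 14272 → P i := stepQ 14271 Q14271 (allL N14271 (tt N12795 (iv1 F35150)) (tt N6945 (iv0 D22608)) (tt N12793 F66057) (tt N13268 F66039) (tt N14078 F66040) (tt N26813 F291239) (tt N25608 F61677) (tt N12794 F66058))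
theorem Q14273 : ∀ i, i < 14273 → P i := stepQ 14272 Q14272 (allL N14272 (tt N12794 (iv1 F35151)) (tt N12793 F35152) (tt N12795 F35148) (tt N26377 (iv3 F65014)) (tt N6949 F35149) (tt N14199 (iv5 F292028)) (tt N26650 (iv6 F291889)) (tt N6945 (iv7 D22611)))
theorem Q14274 : ∀ i, i < 14274 → P i := stepQ 14273 Q14273 (allL N14273 (tt N27913 (iv1 F75473)) (tt N27916 (iv0 F75461)) (tt N25514 (iv2 F61373)) (tt N6946 (iv3 D22612)) (tt N28610 D47030) (tt N12911 F35153) (tt N28611 D47031) (tt N12961 F35154))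
theorem Q14275 : ∀ i, i < 14275 → P i := stepQ 14274 Q14274 (allL N14274 (tt N28612 D47032) (tt N28613 D47033) (tt N13038 F35155) (tt N28611 (iv3 F74280)) (tt N11292 F35156) (tt N28614 D47034) (tt N6946 (iv6 D22613)) (tt N28615 D47035))
theorem Q14276 : ∀ i, i < 14276 → P i := stepQ 14275 Q14275 (allL N14275 (tt N28242 (iv1 F73451)) (tt N6947 (iv0 D22614)) (tt N28239 (iv2 F156864)) (tt N28616 D47037) (tt N24719 F155084) (tt N28617 D47039) (tt N28618 D47040) (tt N28240 F156863))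
theorem Q14277 : ∀ i, i < 14277 → P i := stepQ 14276 Q14276 (allL N14276 (tt N6947 (iv1 D22615)) (tt N28242 F73450) (tt N28240 F156857) (tt N28619 D47042) (tt N24720 F155082) (tt N28620 D47044) (tt N28621 D47045) (tt N28239 (iv7 F156865)))
theorem Q14278 : ∀ i, i < 14278 → P i := stepQ 14277 Q14277 (allL N14277 (tt N28622 D47046) (tt N28623 D47047) (tt N28241 (iv2 F73445)) (tt N28596 (iv3 F74252)) (tt N28624 D47048) (tt N6947 (iv5 D22616)) (tt N6948 F35157) (tt N28625 D47049))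
theorem Q14279 : ∀ i, i < 14279 → P i := stepQ 14278 Q14278 (allL N14278 (tt N28240 (iv1 F73444)) (tt N28239 F73449) (tt N28242 (iv2 F73447)) (tt N28597 (iv3 F74254)) (tt N24664 (iv4 F59276)) (tt N28625 (iv5 F74293)) (tt N28258 (iv6 F73495)) (tt N6947 (iv7 D22617)))
theorem Q14280 : ∀ i, i < 14280 → P i := stepQ 14279 Q14279 (allL N14279 (tt N27018 (iv1 F293210)) (tt N6948 (iv0 D22628)) (tt N27021 F292710) (tt N28626 D47050) (tt N26973 (iv4 F293157)) (tt N26863 F292711) (tt N28627 D47051) (tt N26862 F292712))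
theorem Q14281 : ∀ i, i < 14281 → P i := stepQ 14280 Q14280 (allL N14280 (tt N28628 D47053) (tt N28629 D47054) (tt N28243 (iv2 F73461)) (tt N28630 D47055) (tt N6948 (iv4 D22630)) (tt N26959 F293128) (tt N28624 (iv6 F74292)) (tt N28631 D47057))
theorem Q14282 : ∀ i, i < 14282 → P i := stepQ 14281 Q14281 (allL N14281 (tt N26862 F292937) (tt N27021 F292938) (tt N27018 (iv2 F293211)) (tt N28609 (iv3 F74257)) (tt N28631 (iv4 F74302)) (tt N6949 F35160) (tt N28632 D47058) (tt N6948 (iv7 D22631)))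
theorem Q14283 : ∀ i, i < 14283 → P i := stepQ 14282 Q14282 (allL N14282 (tt N26911 (iv1 F68212)) (tt N26908 (iv0 F68201)) (tt N28269 F73525) (tt N6950 (iv3 D22633)) (tt N26869 F68068) (tt N22323 (iv5 F52914)) (tt N28633 D47059) (tt N28231 (iv7 F73429)))
theorem Q14284 : ∀ i, i < 14284 → P i := stepQ 14283 Q14283 (allL N14283 (tt N28320 (iv1 F290137)) (tt N6987 (iv0 F290138)) (tt N28233 (iv2 F73434)) (tt N28633 (iv3 F74305)) (tt N28232 (iv4 F73433)) (tt N28634 D47062) (tt N6950 (iv6 D22634)) (tt N28319 (iv7 F290139)))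
theorem Q14285 : ∀ i, i < 14285 → P i := stepQ 14284 Q14284 (allL N14284 (tt N12835 (iv1 F35164)) (tt N6960 (iv0 F35163)) (tt N12834 F44844) (tt N6951 (iv3 D22636)) (tt N28635 D47064) (tt N28636 D47065) (tt N28637 D47066) (tt N12833 F44842))
theorem Q14286 : ∀ i, i < 14286 → P i := stepQ 14285 Q14285 (allL N14285 (tt N6974 F35292) (tt N10552 F35165) (tt N17907 (iv2 F44833)) (tt N28636 (iv3 F74313)) (tt N17906 F44832) (tt N6951 (iv5 D22637)) (tt N28638 D47067) (tt N22321 (iv7 F52907)))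
theorem Q14287 : ∀ i, i < 14287 → P i := stepQ 14286 Q14286 (allL N14286 (tt N27922 (iv1 F290143)) (tt N28639 D47069) (tt N28232 (iv2 F73432)) (tt N28637 (iv3 F74319)) (tt N28233 (iv4 F73436)) (tt N28640 D47070) (tt N6951 (iv6 D22638)) (tt N28641 D47071))
theorem Q14288 : ∀ i, i < 14288 → P i := stepQ 14287 Q14287 (allL N14287 (tt N12800 F35169) (tt N12799 (iv0 F35171)) (tt N6953 F35166) (tt N12820 F35168) (tt N6952 (iv4 D22639)) (tt N10658 (iv5 F35170)) (tt N28642 D47072) (tt N12801 F35167))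
theorem Q14289 : ∀ i, i < 14289 → P i := stepQ 14288 Q14288 (allL N14288 (tt N28643 D47073) (tt N28644 D47074) (tt N6955 F35172) (tt N28249 (iv3 F73483)) (tt N28642 (iv4 F74322)) (tt N28645 D47075) (tt N6952 (iv6 D22640)) (tt N28646 D47076))
theorem Q14290 : ∀ i, i < 14290 → P i := stepQ 14289 Q14289 (allL N14289 (tt N6953 (iv1 D22641)) (tt N12801 F35173) (tt N12799 F35176) (tt N28395 (iv3 F73790)) (tt N10556 (iv4 F35175)) (tt N17013 (iv5 F41911)) (tt N28647 D47077) (tt N12800 F35174))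
theorem Q14291 : ∀ i, i < 14291 → P i := stepQ 14290 Q14290 (allL N14290 (tt N8340 F35182) (tt N10650 F35181) (tt N10658 F35177) (tt N7095 F35178) (tt N10540 F35180) (tt N6953 (iv5 D22642)) (tt N28648 D47078) (tt N10659 F35179))
theorem Q14292 : ∀ i, i < 14292 → P i := stepQ 14291 Q14291 (allL N14291 (tt N28403 F73820) (tt N28649 D47079) (tt N28642 (iv2 F74320)) (tt N7096 F35206) (tt N6955 F35207) (tt N28650 D47080) (tt N6953 (iv6 D22643)) (tt N27051 (iv7 F68583)))
theorem Q14293 : ∀ i, i < 14293 → P i := stepQ 14292 Q14292 (allL N14292 (tt N10542 (iv1 F35209)) (tt N6954 (iv0 D22644)) (tt N21771 F51856) (tt N28651 D47081) (tt N10852 F35208) (tt N13015 (iv5 F35211)) (tt N28652 D47082) (tt N10896 (iv7 F35210)))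
theorem Q14294 : ∀ i, i < 14294 → P i := stepQ 14293 Q14293 (allL N14293 (tt N6954 (iv1 D22645)) (tt N10542 F35212) (tt N10896 (iv2 F35215)) (tt N24389 F58452) (tt N10894 F35213) (tt N13016 F35214) (tt N28653 D47083) (tt N21771 (iv7 F51854)))
theorem Q14295 : ∀ i, i < 14295 → P i := stepQ 14294 Q14294 (allL N14294 (tt N28654 D47084) (tt N28655 D47085) (tt N21779 (iv2 F51876)) (tt N6957 F35216) (tt N10534 F35217) (tt N28656 D47086) (tt N6954 (iv6 D22646)) (tt N28657 D47087))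
theorem Q14296 : ∀ i, i < 14296 → P i := stepQ 14295 Q14295 (allL N14295 (tt N28646 (iv1 F74328)) (tt N6955 (iv0 D22647)) (tt N28643 (iv2 F155653)) (tt N28658 D47089) (tt N28235 (iv4 F143903)) (tt N28659 D47091) (tt N26687 F338430) (tt N28644 (iv7 F155654)))
theorem Q14297 : ∀ i, i < 14297 → P i := stepQ 14296 Q14296 (allL N14296 (tt N6955 (iv1 D22648)) (tt N28646 F74327) (tt N28644 F155657) (tt N28660 D47094) (tt N28236 (iv4 F153158)) (tt N28661 D47096) (tt N28662 D47097) (tt N28643 F155658))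
theorem Q14298 : ∀ i, i < 14298 → P i := stepQ 14297 Q14297 (allL N14297 (tt N28663 D47098) (tt N28664 D47099) (tt N28645 (iv2 F74324)) (tt N6958 F35218) (tt N28665 D47100) (tt N6955 (iv5 D22649)) (tt N28656 (iv6 F74342)) (tt N28666 D47101))
theorem Q14299 : ∀ i, i < 14299 → P i := stepQ 14298 Q14298 (allL N14298 (tt N28644 (iv1 F74323)) (tt N28643 F74326) (tt N28646 (iv2 F74325)) (tt N6959 F35219) (tt N27051 (iv4 F68581)) (tt N28666 (iv5 F74348)) (tt N28238 (iv6 F73443)) (tt N6955 (iv7 D22650)))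
theorem Q14300 : ∀ i, i < 14300 → P i := stepQ 14299 Q14299 (allL N14299 (tt N28258 (iv1 F73498)) (tt N6957 (iv0 D22655)) (tt N28255 F155800) (tt N28363 (iv3 F155367)) (tt N24705 (iv4 F155368)) (tt N28667 D47105) (tt N28668 D47106) (tt N28256 (iv7 F155808)))
theorem Q14301 : ∀ i, i < 14301 → P i := stepQ 14300 Q14300 (allL N14300 (tt N6957 (iv1 D22656)) (tt N28258 F73497) (tt N28256 (iv2 F155807)) (tt N28669 D47108) (tt N24706 (iv4 F155362)) (tt N28670 D47110) (tt N28671 D47111) (tt N28255 F155806))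
theorem Q14302 : ∀ i, i < 14302 → P i := stepQ 14301 Q14301 (allL N14301 (tt N28672 D47112) (tt N28673 D47113) (tt N28257 (iv2 F73492)) (tt N28656 (iv3 F74341)) (tt N28674 D47114) (tt N6957 (iv5 D22657)) (tt N6958 F35225) (tt N28675 D47115))
theorem Q14303 : ∀ i, i < 14303 → P i := stepQ 14302 Q14302 (allL N14302 (tt N28256 (iv1 F73491)) (tt N28255 F73496) (tt N28258 (iv2 F73494)) (tt N28657 (iv3 F74343)) (tt N24611 (iv4 F59169)) (tt N28675 (iv5 F74352)) (tt N28242 (iv6 F73448)) (tt N6957 (iv7 D22658)))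
theorem Q14304 : ∀ i, i < 14304 → P i := stepQ 14303 Q14303 (allL N14303 (tt N26651 (iv1 F293225)) (tt N6958 (iv0 D22669)) (tt N28259 F73500) (tt N28367 F73710) (tt N28540 (iv4 F74130)) (tt N26723 F292150) (tt N28676 D47116) (tt N27577 (iv7 F70483)))
theorem Q14305 : ∀ i, i < 14305 → P i := stepQ 14304 Q14304 (allL N14304 (tt N6958 (iv1 D22670)) (tt N26651 (iv0 F293224)) (tt N27577 (iv2 F70475)) (tt N28677 D47117) (tt N28541 (iv4 F74131)) (tt N14029 (iv5 F66312)) (tt N28678 D47118) (tt N28259 (iv7 F73501)))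
theorem Q14306 : ∀ i, i < 14306 → P i := stepQ 14305 Q14305 (allL N14305 (tt N28679 D47119) (tt N28680 D47120) (tt N28260 (iv2 F73503)) (tt N28681 D47121) (tt N6958 (iv4 D22671)) (tt N26592 F293006) (tt N28674 (iv6 F74351)) (tt N28682 D47123))
theorem Q14307 : ∀ i, i < 14307 → P i := stepQ 14306 Q14306 (allL N14306 (tt N27577 (iv1 F70477)) (tt N28259 F73502) (tt N26651 (iv2 F293226)) (tt N28666 (iv3 F74347)) (tt N28682 (iv4 F74362)) (tt N6959 F35228) (tt N28683 D47124) (tt N6958 (iv7 D22672)))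
theorem Q14308 : ∀ i, i < 14308 → P i := stepQ 14307 Q14307 (allL N14307 (tt N6960 (iv1 D22673)) (tt N12835 F35233) (tt N12833 (iv2 F44843)) (tt N28269 (iv3 F73524)) (tt N26432 (iv4 F65135)) (tt N28684 D47125) (tt N28685 D47126) (tt N12834 (iv7 F44845)))
theorem Q14309 : ∀ i, i < 14309 → P i := stepQ 14308 Q14308 (allL N14308 (tt N12834 (iv1 F35234)) (tt N12833 F35232) (tt N6960 (iv2 D22674)) (tt N12845 F35229) (tt N13225 F35230) (tt N17618 (iv5 F44096)) (tt N28686 D47127) (tt N12835 F35231))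
theorem Q14310 : ∀ i, i < 14310 → P i := stepQ 14309 Q14309 (allL N14309 (tt N24389 (iv1 F58451)) (tt N24388 F58450) (tt N17618 (iv2 F44095)) (tt N6961 F35235) (tt N28687 D47128) (tt N6960 (iv5 D22675)) (tt N28688 D47129) (tt N12837 F35236))
theorem Q14311 : ∀ i, i < 14311 → P i := stepQ 14310 Q14310 (allL N14310 (tt N28689 D47130) (tt N28690 D47131) (tt N28686 (iv2 F74370)) (tt N6962 F35237) (tt N26873 (iv4 F68091)) (tt N28691 D47132) (tt N6960 (iv6 D22676)) (tt N27055 (iv7 F68609)))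
theorem Q14312 : ∀ i, i < 14312 → P i := stepQ 14311 Q14311 (allL N14311 (tt N28692 D47134) (tt N28619 F155086) (tt N12847 F35241) (tt N28688 (iv3 F74375)) (tt N22223 (iv4 F303694)) (tt N28693 D47136) (tt N6961 (iv6 D22678)) (tt N28694 D47137))
theorem Q14313 : ∀ i, i < 14313 → P i := stepQ 14312 Q14312 (allL N14312 (tt N28695 D47138) (tt N27017 F294648) (tt N12848 F35243) (tt N28691 (iv3 F74376)) (tt N28696 D47139) (tt N6962 (iv5 D22681)) (tt N28693 (iv6 F74381)) (tt N27056 (iv7 F68618)))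
theorem Q14314 : ∀ i, i < 14314 → P i := stepQ 14313 Q14313 (allL N14313 (tt N28697 D47140) (tt N28698 D47141) (tt N6967 F35249) (tt N28277 (iv3 F73537)) (tt N12627 F35250) (tt N28699 D47142) (tt N6963 (iv6 D22683)) (tt N28700 D47143))
theorem Q14315 : ∀ i, i < 14315 → P i := stepQ 14314 Q14314 (allL N14314 (tt N6971 (iv1 F35256)) (tt N6964 (iv0 D22684)) (tt N6968 F66809) (tt N28701 D47144) (tt N7023 (iv4 F35258)) (tt N28702 D47145) (tt N26737 (iv6 F67003)) (tt N6969 F66810))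
theorem Q14316 : ∀ i, i < 14316 → P i := stepQ 14315 Q14315 (allL N14315 (tt N6964 (iv1 D22685)) (tt N6971 F35251) (tt N6969 F66862) (tt N28703 D47146) (tt N25648 F291779) (tt N28704 D47147) (tt N12720 F291780) (tt N6968 F66863))
theorem Q14317 : ∀ i, i < 14317 → P i := stepQ 14316 Q14316 (allL N14316 (tt N28705 D47148) (tt N28706 D47149) (tt N6970 F35252) (tt N28280 (iv3 F73540)) (tt N28707 D47150) (tt N6964 (iv5 D22686)) (tt N28699 (iv6 F74393)) (tt N28708 D47151))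
theorem Q14318 : ∀ i, i < 14318 → P i := stepQ 14317 Q14317 (allL N14317 (tt N6969 (iv1 F35257)) (tt N6968 F35259) (tt N6971 F35253) (tt N28281 (iv3 F73542)) (tt N7103 F35254) (tt N28708 (iv5 F74419)) (tt N12788 F35255) (tt N6964 (iv7 D22687)))
theorem Q14319 : ∀ i, i < 14319 → P i := stepQ 14318 Q14318 (allL N14318 (tt N28636 (iv1 F74317)) (tt N28684 (iv0 F74367)) (tt N12070 F35260) (tt N6965 (iv3 D22688)) (tt N28709 D47152) (tt N12689 F35261) (tt N28710 D47153) (tt N12850 F35262))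
theorem Q14320 : ∀ i, i < 14320 → P i := stepQ 14319 Q14319 (allL N14319 (tt N28711 D47154) (tt N10945 (iv0 F304952)) (tt N12852 F35263) (tt N28710 (iv3 F74426)) (tt N10928 (iv4 F304942)) (tt N28712 D47156) (tt N6965 (iv6 D22689)) (tt N28713 D47157))
theorem Q14321 : ∀ i, i < 14321 → P i := stepQ 14320 Q14320 (allL N14320 (tt N12628 (iv1 F35266)) (tt N6966 (iv0 D22690)) (tt N12625 (iv2 F35267)) (tt N17099 (iv3 F42212)) (tt N12683 F35265) (tt N8701 F35264) (tt N28714 D47158) (tt N12626 (iv7 F35268)))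
theorem Q14322 : ∀ i, i < 14322 → P i := stepQ 14321 Q14321 (allL N14321 (tt N28715 D47161) (tt N28716 D47162) (tt N28717 D47163) (tt N6966 (iv3 D22692)) (tt N6976 F35274) (tt N12592 F35275) (tt N28718 D47164) (tt N12853 F35276))
theorem Q14323 : ∀ i, i < 14323 → P i := stepQ 14322 Q14322 (allL N14322 (tt N28719 D47165) (tt N28720 D47166) (tt N12627 F35277) (tt N28718 (iv3 F74451)) (tt N6967 F35278) (tt N28721 D47167) (tt N6966 (iv6 D22693)) (tt N28722 D47168))
theorem Q14324 : ∀ i, i < 14324 → P i := stepQ 14323 Q14323 (allL N14323 (tt N28700 (iv1 F74399)) (tt N6967 (iv0 D22694)) (tt N28697 F308451) (tt N28723 D47170) (tt N28724 D47171) (tt N28725 D47172) (tt N28726 D47173) (tt N28698 F308452))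
theorem Q14325 : ∀ i, i < 14325 → P i := stepQ 14324 Q14324 (allL N14324 (tt N6967 (iv1 D22695)) (tt N28700 F74398) (tt N28698 F306900) (tt N28727 D47175) (tt N28728 D47176) (tt N28729 D47177) (tt N28730 D47178) (tt N28697 (iv7 F308265)))
theorem Q14326 : ∀ i, i < 14326 → P i := stepQ 14325 Q14325 (allL N14325 (tt N28731 D47179) (tt N22857 F305552) (tt N28699 (iv2 F74392)) (tt N6980 F35279) (tt N28732 D47181) (tt N6967 (iv5 D22696)) (tt N6970 F35280) (tt N28733 D47182))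
theorem Q14327 : ∀ i, i < 14327 → P i := stepQ 14326 Q14326 (allL N14326 (tt N28698 (iv1 F74391)) (tt N28697 F74397) (tt N28700 (iv2 F74394)) (tt N6981 F35281) (tt N28722 (iv4 F74457)) (tt N28733 (iv5 F74466)) (tt N10954 F306345) (tt N6967 (iv7 D22697)))
theorem Q14328 : ∀ i, i < 14328 → P i := stepQ 14327 Q14327 (allL N14327 (tt N28734 D47183) (tt N28685 F290171) (tt N28735 D47185) (tt N6968 (iv3 D22699)) (tt N26897 (iv4 F68154)) (tt N28736 D47186) (tt N28737 D47187) (tt N28703 (iv7 F74406)))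
theorem Q14329 : ∀ i, i < 14329 → P i := stepQ 14328 Q14328 (allL N14328 (tt N28738 D47188) (tt N28739 D47189) (tt N28702 (iv2 F74402)) (tt N28736 (iv3 F74468)) (tt N28740 D47190) (tt N6968 (iv5 D22701)) (tt N28741 D47191) (tt N28704 (iv7 F74408)))
theorem Q14330 : ∀ i, i < 14330 → P i := stepQ 14329 Q14329 (allL N14329 (tt N26728 (iv1 F70676)) (tt N14676 (iv0 F291460)) (tt N26737 F67004) (tt N28737 (iv3 F74469)) (tt N27624 (iv4 F70674)) (tt N28742 D47192) (tt N6968 (iv6 D22702)) (tt N26736 (iv7 F75203)))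
theorem Q14331 : ∀ i, i < 14331 → P i := stepQ 14330 Q14330 (allL N14330 (tt N28358 F289617) (tt N28743 D47195) (tt N28744 D47196) (tt N6969 (iv3 D22704)) (tt N25012 F289771) (tt N28745 D47197) (tt N26380 (iv6 F293244)) (tt N28701 (iv7 F74401)))
theorem Q14332 : ∀ i, i < 14332 → P i := stepQ 14331 Q14331 (allL N14331 (tt N28739 (iv1 F74473)) (tt N28738 F74471) (tt N28704 (iv2 F74407)) (tt N28745 (iv3 F74480)) (tt N28746 D47199) (tt N6969 (iv5 D22705)) (tt N28747 D47200) (tt N28702 (iv7 F74403)))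
theorem Q14333 : ∀ i, i < 14333 → P i := stepQ 14332 Q14332 (allL N14332 (tt N28708 (iv1 F74421)) (tt N6970 (iv0 D22707)) (tt N28705 F74414) (tt N28748 D47201) (tt N28749 D47202) (tt N27197 (iv5 F72338)) (tt N28750 D47203) (tt N28706 F74413))
theorem Q14334 : ∀ i, i < 14334 → P i := stepQ 14333 Q14333 (allL N14333 (tt N6970 (iv1 D22708)) (tt N28708 F74420) (tt N28706 F74412) (tt N28751 D47204) (tt N28752 D47205) (tt N26239 (iv5 F64437)) (tt N28753 D47206) (tt N28705 (iv7 F74415)))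
theorem Q14335 : ∀ i, i < 14335 → P i := stepQ 14334 Q14334 (allL N14334 (tt N28754 D47207) (tt N28755 D47208) (tt N28707 (iv2 F74417)) (tt N28756 D47209) (tt N6970 (iv4 D22709)) (tt N28757 D47210) (tt N28732 (iv6 F74464)) (tt N28758 D47211))
theorem Q14336 : ∀ i, i < 14336 → P i := stepQ 14335 Q14335 (allL N14335 (tt N28706 (iv1 F74410)) (tt N28705 F74416) (tt N28708 (iv2 F74418)) (tt N6994 F35285) (tt N28758 (iv4 F74483)) (tt N6971 F35286) (tt N28759 D47212) (tt N6970 (iv7 D22710)))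
theorem Q14337 : ∀ i, i < 14337 → P i := stepQ 14336 Q14336 (allL N14336 (tt N26124 (iv1 F64246)) (tt N12244 F35288) (tt N6972 (iv2 D22712)) (tt N10552 F35287) (tt N25067 (iv4 F60249)) (tt N24435 (iv5 F58709)) (tt N28760 D47213) (tt N26120 (iv7 F64238)))
theorem Q14338 : ∀ i, i < 14338 → P i := stepQ 14337 Q14337 (allL N14337 (tt N28761 D47214) (tt N28762 D47215) (tt N25067 (iv2 F60248)) (tt N24492 (iv3 F58859)) (tt N6972 (iv4 D22713)) (tt N28763 D47216) (tt N28764 D47217) (tt N24649 (iv7 F59254)))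
theorem Q14339 : ∀ i, i < 14339 → P i := stepQ 14338 Q14338 (allL N14338 (tt N28765 D47218) (tt N28766 D47219) (tt N28760 (iv2 F74486)) (tt N6973 F35289) (tt N28764 (iv4 F74491)) (tt N28767 D47220) (tt N6972 (iv6 D22714)) (tt N28768 D47221))
theorem Q14340 : ∀ i, i < 14340 → P i := stepQ 14339 Q14339 (allL N14339 (tt N26146 (iv1 F64290)) (tt N6973 (iv0 D22715)) (tt N26143 (iv2 F156751)) (tt N28769 D47223) (tt N24778 F184683) (tt N28770 D47225) (tt N28771 D47226) (tt N26144 F156750))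
theorem Q14341 : ∀ i, i < 14341 → P i := stepQ 14340 Q14340 (allL N14340 (tt N6973 (iv1 D22716)) (tt N26146 F64289) (tt N26144 F156744) (tt N10945 (iv3 F304953)) (tt N24779 F184686) (tt N28772 D47230) (tt N10942 (iv6 F305492)) (tt N26143 (iv7 F156752)))
theorem Q14342 : ∀ i, i < 14342 → P i := stepQ 14341 Q14341 (allL N14341 (tt N28773 D47232) (tt N28774 D47233) (tt N26145 (iv2 F64284)) (tt N28767 (iv3 F74492)) (tt N28775 D47234) (tt N6973 (iv5 D22717)) (tt N24437 (iv6 F58721)) (tt N28776 D47235))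
theorem Q14343 : ∀ i, i < 14343 → P i := stepQ 14342 Q14342 (allL N14342 (tt N26144 (iv1 F64283)) (tt N26143 F64288) (tt N26146 (iv2 F64286)) (tt N28768 (iv3 F74493)) (tt N24500 (iv4 F58867)) (tt N28776 (iv5 F74497)) (tt N26132 (iv6 F64264)) (tt N6973 (iv7 D22718)))
theorem Q14344 : ∀ i, i < 14344 → P i := stepQ 14343 Q14343 (allL N14343 (tt N22321 (iv1 F52909)) (tt N17907 (iv0 F44836)) (tt N6974 (iv2 D22720)) (tt N26120 (iv3 F64237)) (tt N8321 F35290) (tt N24483 (iv5 F58829)) (tt N28777 D47236) (tt N10552 F35291))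
theorem Q14345 : ∀ i, i < 14345 → P i := stepQ 14344 Q14344 (allL N14344 (tt N28778 D47237) (tt N28779 D47238) (tt N28777 (iv2 F74498)) (tt N6975 F35293) (tt N10550 F35294) (tt N28780 D47239) (tt N6974 (iv6 D22721)) (tt N28781 D47240))
theorem Q14346 : ∀ i, i < 14346 → P i := stepQ 14345 Q14345 (allL N14345 (tt N26132 (iv1 F64267)) (tt N6975 (iv0 D22722)) (tt N26129 F156428) (tt N27950 (iv3 F155151)) (tt N24774 (iv4 F155152)) (tt N28782 D47244) (tt N28783 D47245) (tt N26130 (iv7 F156436)))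
theorem Q14347 : ∀ i, i < 14347 → P i := stepQ 14346 Q14346 (allL N14346 (tt N6975 (iv1 D22723)) (tt N26132 F64266) (tt N26130 (iv2 F156435)) (tt N22002 F315050) (tt N24775 (iv4 F155153)) (tt N28784 D47249) (tt N28785 D47250) (tt N26129 F156434))
theorem Q14348 : ∀ i, i < 14348 → P i := stepQ 14347 Q14347 (allL N14347 (tt N28786 D47251) (tt N28787 D47252) (tt N26131 (iv2 F64261)) (tt N28780 (iv3 F74500)) (tt N27027 F295146) (tt N6975 (iv5 D22724)) (tt N13505 F295147) (tt N28788 D47254))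
theorem Q14349 : ∀ i, i < 14349 → P i := stepQ 14348 Q14348 (allL N14348 (tt N26130 (iv1 F64260)) (tt N26129 F64265) (tt N26132 (iv2 F64263)) (tt N28781 (iv3 F74501)) (tt N24463 (iv4 F58753)) (tt N28788 (iv5 F74506)) (tt N26146 (iv6 F64287)) (tt N6975 (iv7 D22725)))
theorem Q14350 : ∀ i, i < 14350 → P i := stepQ 14349 Q14349 (allL N14349 (tt N24540 (iv1 F59060)) (tt N6976 (iv0 D22726)) (tt N24543 (iv2 F125570)) (tt N28789 D47256) (tt N28790 D47257) (tt N22948 (iv5 F90886)) (tt N28791 D47259) (tt N24542 (iv7 F125567)))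
theorem Q14351 : ∀ i, i < 14351 → P i := stepQ 14350 Q14350 (allL N14350 (tt N6976 (iv1 D22727)) (tt N24540 F59059) (tt N24542 (iv2 F125566)) (tt N24639 (iv3 F74512)) (tt N28792 D47262) (tt N22949 (iv5 F112919)) (tt N28793 D47264) (tt N24543 (iv7 F125571)))
theorem Q14352 : ∀ i, i < 14352 → P i := stepQ 14351 Q14351 (allL N14351 (tt N24543 (iv1 F59064)) (tt N24542 F59063) (tt N6976 (iv2 D22728)) (tt N17215 (iv3 F42516)) (tt N28717 (iv4 F74444)) (tt N17214 F42513) (tt N28794 D47265) (tt N24540 (iv7 F59058)))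
theorem Q14353 : ∀ i, i < 14353 → P i := stepQ 14352 Q14352 (allL N14352 (tt N28795 D47266) (tt N28796 D47267) (tt N28794 (iv2 F74514)) (tt N6977 F35295) (tt N28718 (iv4 F74452)) (tt N28797 D47268) (tt N6976 (iv6 D22729)) (tt N28798 D47269))
theorem Q14354 : ∀ i, i < 14354 → P i := stepQ 14353 Q14353 (allL N14353 (tt N24798 (iv1 F59443)) (tt N6977 (iv0 D22730)) (tt N24799 F274680) (tt N11647 (iv3 F311708)) (tt N28077 F156573) (tt N28799 D47273) (tt N28800 D47274) (tt N24800 (iv7 F274688)))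
theorem Q14355 : ∀ i, i < 14355 → P i := stepQ 14354 Q14354 (allL N14354 (tt N6977 (iv1 D22731)) (tt N24798 F59442) (tt N24800 (iv2 F274687)) (tt N28801 D47276) (tt N28078 F156571) (tt N28802 D47278) (tt N28801 (iv6 F310554)) (tt N24799 F274686))
theorem Q14356 : ∀ i, i < 14356 → P i := stepQ 14355 Q14355 (allL N14355 (tt N28803 D47280) (tt N28804 D47281) (tt N24801 (iv2 F59446)) (tt N28797 (iv3 F74515)) (tt N28805 D47282) (tt N6977 (iv5 D22732)) (tt N24408 (iv6 F58638)) (tt N28806 D47283))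
theorem Q14357 : ∀ i, i < 14357 → P i := stepQ 14356 Q14356 (allL N14356 (tt N24800 (iv1 F59445)) (tt N24799 F59444) (tt N24798 (iv2 F59439)) (tt N28798 (iv3 F74516)) (tt N6981 F35296) (tt N28806 (iv5 F74519)) (tt N24552 (iv6 F59073)) (tt N6977 (iv7 D22733)))
theorem Q14358 : ∀ i, i < 14358 → P i := stepQ 14357 Q14357 (allL N14357 (tt N28807 D47290) (tt N28576 (iv0 F322813)) (tt N28808 D47292) (tt N6978 (iv3 D22735)) (tt N28809 D47293) (tt N28810 D47294) (tt N28811 D47295) (tt N28311 (iv7 F156702)))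
theorem Q14359 : ∀ i, i < 14359 → P i := stepQ 14358 Q14358 (allL N14358 (tt N28812 D47297) (tt N24458 F156779) (tt N28308 F156681) (tt N28813 D47299) (tt N6978 (iv4 D22736)) (tt N28814 D47300) (tt N28815 D47301) (tt N28312 (iv7 F156704)))
theorem Q14360 : ∀ i, i < 14360 → P i := stepQ 14359 Q14359 (allL N14359 (tt N28816 D47303) (tt N28817 D47304) (tt N28309 F156682) (tt N28810 (iv3 F74528)) (tt N28818 D47305) (tt N6978 (iv5 D22737)) (tt N28819 D47306) (tt N28313 (iv7 F156706)))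
theorem Q14361 : ∀ i, i < 14361 → P i := stepQ 14360 Q14360 (allL N14360 (tt N28785 (iv1 F156364)) (tt N28820 D47309) (tt N28310 F156672) (tt N28811 (iv3 F74529)) (tt N28815 (iv4 F74532)) (tt N28821 D47310) (tt N6978 (iv6 D22738)) (tt N28822 D47311))
theorem Q14362 : ∀ i, i < 14362 → P i := stepQ 14361 Q14361 (allL N14361 (tt N22324 (iv1 F318961)) (tt N28823 D47314) (tt N28824 D47315) (tt N6979 (iv3 D22740)) (tt N28825 D47316) (tt N20197 (iv5 F326330)) (tt N28826 D47318) (tt N28307 F156693))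
theorem Q14363 : ∀ i, i < 14363 → P i := stepQ 14362 Q14362 (allL N14362 (tt N24458 F156780) (tt N28812 F74535) (tt N28312 (iv2 F156703)) (tt N22468 (iv3 F317266)) (tt N6979 (iv4 D22741)) (tt N28827 D47320) (tt N28828 D47321) (tt N28308 F156697))
theorem Q14364 : ∀ i, i < 14364 → P i := stepQ 14363 Q14363 (allL N14363 (tt N28817 (iv1 F74537)) (tt N28816 F74540) (tt N28313 (iv2 F156705)) (tt N20197 F327152) (tt N28829 D47322) (tt N6979 (iv5 D22742)) (tt N28830 D47323) (tt N28309 F156701))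
theorem Q14365 : ∀ i, i < 14365 → P i := stepQ 14364 Q14364 (allL N14364 (tt N28831 D47324) (tt N28771 F156732) (tt N28314 (iv2 F156707)) (tt N28826 (iv3 F74544)) (tt N28828 (iv4 F74545)) (tt N28832 D47326) (tt N6979 (iv6 D22743)) (tt N28833 D47327))
theorem Q14366 : ∀ i, i < 14366 → P i := stepQ 14365 Q14365 (allL N14365 (tt N28318 (iv1 F73576)) (tt N6980 (iv0 D22744)) (tt N28315 F156389) (tt N28834 D47329) (tt N28835 D47330) (tt N28836 D47331) (tt N28837 D47332) (tt N28316 F156390))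
theorem Q14367 : ∀ i, i < 14367 → P i := stepQ 14366 Q14366 (allL N14366 (tt N6980 (iv1 D22745)) (tt N28318 F73575) (tt N28316 (iv2 F156387)) (tt N28838 D47334) (tt N28839 D47335) (tt N28840 D47336) (tt N28841 D47337) (tt N28315 (iv7 F156388)))
theorem Q14368 : ∀ i, i < 14368 → P i := stepQ 14367 Q14367 (allL N14367 (tt N28842 D47338) (tt N28843 D47339) (tt N28317 (iv2 F73570)) (tt N28844 D47340) (tt N6980 (iv4 D22746)) (tt N28845 D47341) (tt N6993 F35299) (tt N28846 D47342))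
theorem Q14369 : ∀ i, i < 14369 → P i := stepQ 14368 Q14368 (allL N14368 (tt N28316 (iv1 F73568)) (tt N28315 F73574) (tt N28318 (iv2 F73572)) (tt N28733 (iv3 F74465)) (tt N28846 (iv4 F74551)) (tt N6981 F35300) (tt N28847 D47343) (tt N6980 (iv7 D22747)))
theorem Q14370 : ∀ i, i < 14370 → P i := stepQ 14369 Q14369 (allL N14369 (tt N24786 (iv1 F59426)) (tt N24785 F59432) (tt N24788 (iv2 F59429)) (tt N10954 F306889) (tt N24552 (iv4 F59072)) (tt N28848 D47344) (tt N6981 (iv6 D22748)) (tt N6982 F35302))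
theorem Q14371 : ∀ i, i < 14371 → P i := stepQ 14370 Q14370 (allL N14370 (tt N24788 (iv1 F59434)) (tt N6982 (iv0 D22749)) (tt N24785 (iv2 F274788)) (tt N28849 D47346) (tt N28850 D47347) (tt N28851 D47348) (tt N28852 D47349) (tt N24786 (iv7 F274789)))
theorem Q14372 : ∀ i, i < 14372 → P i := stepQ 14371 Q14371 (allL N14371 (tt N6982 (iv1 D22750)) (tt N24788 F59433) (tt N24786 F274792) (tt N28853 D47351) (tt N28854 D47352) (tt N28855 D47353) (tt N28856 D47354) (tt N24785 F274793))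
theorem Q14373 : ∀ i, i < 14373 → P i := stepQ 14372 Q14372 (allL N14372 (tt N28857 D47355) (tt N28858 D47356) (tt N24787 (iv2 F59427)) (tt N12855 F35303) (tt N28859 D47357) (tt N6982 (iv5 D22751)) (tt N6998 F35304) (tt N28848 (iv7 F74554)))
theorem Q14374 : ∀ i, i < 14374 → P i := stepQ 14373 Q14373 (allL N14373 (tt N28326 (iv1 F73600)) (tt N6983 (iv0 D22752)) (tt N28325 F156214) (tt N28743 (iv3 F74681)) (tt N28860 D47360) (tt N28861 D47361) (tt N28571 (iv6 F289585)) (tt N28245 F289578))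
theorem Q14375 : ∀ i, i < 14375 → P i := stepQ 14374 Q14374 (allL N14374 (tt N28325 (iv1 F73601)) (tt N28245 F289570) (tt N6983 (iv2 D22754)) (tt N28320 (iv3 F73578)) (tt N27645 (iv4 F70758)) (tt N28862 D47368) (tt N28863 D47369) (tt N28326 (iv7 F73599)))
theorem Q14376 : ∀ i, i < 14376 → P i := stepQ 14375 Q14375 (allL N14375 (tt N27647 F70762) (tt N27641 (iv0 F74041)) (tt N27645 F70757) (tt N13674 (iv3 F63146)) (tt N6983 (iv4 D22755)) (tt N28864 D47370) (tt N28865 D47371) (tt N27619 (iv7 F70651)))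
theorem Q14377 : ∀ i, i < 14377 → P i := stepQ 14376 Q14376 (allL N14376 (tt N28866 D47372) (tt N28867 D47373) (tt N28862 (iv2 F74561)) (tt N6985 F35305) (tt N28868 D47374) (tt N6983 (iv5 D22756)) (tt N28869 D47375) (tt N28327 (iv7 F73604)))
theorem Q14378 : ∀ i, i < 14378 → P i := stepQ 14377 Q14377 (allL N14377 (tt N28870 D47376) (tt N28871 D47377) (tt N28863 (iv2 F74562)) (tt N6986 F35306) (tt N28865 (iv4 F74565)) (tt N28872 D47378) (tt N6983 (iv6 D22757)) (tt N28873 D47379))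
theorem Q14379 : ∀ i, i < 14379 → P i := stepQ 14378 Q14378 (allL N14378 (tt N6988 (iv1 F35307)) (tt N6984 (iv0 D22758)) (tt N12866 (iv2 F35830)) (tt N14646 (iv3 F36642)) (tt N14137 (iv4 F35952)) (tt N24432 (iv5 F58696)) (tt N24428 (iv6 F58686)) (tt N12734 F35829))
theorem Q14380 : ∀ i, i < 14380 → P i := stepQ 14379 Q14379 (allL N14379 (tt N12876 (iv1 F35312)) (tt N12764 (iv0 F35589)) (tt N12789 F35309) (tt N6984 (iv3 D22760)) (tt N13674 (iv4 F63147)) (tt N28874 D47380) (tt N25891 F62462) (tt N12877 F35310))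
theorem Q14381 : ∀ i, i < 14381 → P i := stepQ 14380 Q14380 (allL N14380 (tt N25873 (iv1 F62404)) (tt N13478 (iv0 F62997)) (tt N12867 F35320) (tt N28874 (iv3 F74572)) (tt N14387 (iv4 F35337)) (tt N6984 (iv5 D22761)) (tt N28875 D47381) (tt N14381 F35324))
theorem Q14382 : ∀ i, i < 14382 → P i := stepQ 14381 Q14381 (allL N14381 (tt N25870 (iv1 F62389)) (tt N14486 (iv0 F291625)) (tt N12868 F35321) (tt N25891 (iv3 F62461)) (tt N6986 F35322) (tt N14129 (iv5 F35323)) (tt N6984 (iv6 D22762)) (tt N14380 (iv7 F35324)))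
theorem Q14383 : ∀ i, i < 14383 → P i := stepQ 14382 Q14382 (allL N14382 (tt N6989 (iv1 F35328)) (tt N6985 (iv0 D22763)) (tt N27050 F294258) (tt N28876 D47382) (tt N28877 D47383) (tt N14070 F35325) (tt N28878 D47384) (tt N28322 (iv7 F73590)))
theorem Q14384 : ∀ i, i < 14384 → P i := stepQ 14383 Q14383 (allL N14383 (tt N6985 (iv1 D22764)) (tt N6989 F35332) (tt N28322 F73591) (tt N28739 F74475) (tt N28879 D47385) (tt N26338 (iv5 F64793)) (tt N28880 D47386) (tt N27050 (iv7 F293950)))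
theorem Q14385 : ∀ i, i < 14385 → P i := stepQ 14384 Q14384 (allL N14384 (tt N28881 D47387) (tt N28882 D47388) (tt N28323 (iv2 F73593)) (tt N28883 D47389) (tt N6985 (iv4 D22765)) (tt N26217 (iv5 F64403)) (tt N28884 D47390) (tt N28329 (iv7 F73607)))
theorem Q14386 : ∀ i, i < 14386 → P i := stepQ 14385 Q14385 (allL N14385 (tt N28885 D47391) (tt N28886 D47392) (tt N28324 (iv2 F73595)) (tt N28869 (iv3 F74566)) (tt N28884 (iv4 F74601)) (tt N28887 D47393) (tt N6985 (iv6 D22766)) (tt N28888 D47394))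
theorem Q14387 : ∀ i, i < 14387 → P i := stepQ 14386 Q14386 (allL N14386 (tt N12966 F35335) (tt N13050 F35336) (tt N13048 F35334) (tt N28872 (iv3 F74567)) (tt N28889 D47395) (tt N6986 (iv5 D22769)) (tt N28887 (iv6 F74603)) (tt N13047 (iv7 F58701)))
theorem Q14388 : ∀ i, i < 14388 → P i := stepQ 14387 Q14387 (allL N14387 (tt N14441 (iv1 F35425)) (tt N14442 (iv0 F35435)) (tt N25871 (iv2 F62391)) (tt N28873 (iv3 F74569)) (tt N14380 F35337) (tt N13047 F58700) (tt N27578 F70489) (tt N6986 (iv7 D22770)))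
theorem Q14389 : ∀ i, i < 14389 → P i := stepQ 14388 Q14388 (allL N14388 (tt N6987 (iv1 D22772)) (tt N28320 F73583) (tt N28319 F156140) (tt N28734 (iv3 F74668)) (tt N28641 (iv4 F290144)) (tt N28890 D47404) (tt N28641 F290199) (tt N28233 F290136))
theorem Q14390 : ∀ i, i < 14390 → P i := stepQ 14389 Q14389 (allL N14389 (tt N28233 F290134) (tt N28319 F73577) (tt N6987 (iv2 D22773)) (tt N28326 (iv3 F73598)) (tt N28891 D47406) (tt N19892 (iv5 F328241)) (tt N28892 D47408) (tt N28320 (iv7 F73580)))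
theorem Q14391 : ∀ i, i < 14391 → P i := stepQ 14390 Q14390 (allL N14390 (tt N21597 F289764) (tt N28893 D47410) (tt N28891 (iv2 F74610)) (tt N12792 F35338) (tt N6987 (iv4 D22774)) (tt N28894 D47411) (tt N26755 F295226) (tt N12870 F35339))
theorem Q14392 : ∀ i, i < 14392 → P i := stepQ 14391 Q14391 (allL N14391 (tt N28895 D47417) (tt N28896 D47418) (tt N28892 (iv2 F74616)) (tt N6990 F35341) (tt N26755 (iv4 F294762)) (tt N20128 (iv5 F329339)) (tt N6987 (iv6 D22776)) (tt N28897 D47420))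
theorem Q14393 : ∀ i, i < 14393 → P i := stepQ 14392 Q14392 (allL N14392 (tt N28882 (iv1 F74599)) (tt N28881 F74598) (tt N28329 (iv2 F73606)) (tt N20120 (iv3 F329624)) (tt N6989 (iv4 D22778)) (tt N26214 (iv5 F64402)) (tt N20118 (iv6 F329625)) (tt N28323 (iv7 F73594)))
theorem Q14394 : ∀ i, i < 14394 → P i := stepQ 14393 Q14393 (allL N14393 (tt N13765 F66262) (tt N14028 F66266) (tt N27571 F70470) (tt N20128 F329581) (tt N28898 D47427) (tt N6990 (iv5 D22782)) (tt N20127 (iv6 F329626)) (tt N27572 (iv7 F70472)))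
theorem Q14395 : ∀ i, i < 14395 → P i := stepQ 14394 Q14394 (allL N14394 (tt N12722 F294398) (tt N14030 F66255) (tt N27578 F70486) (tt N28897 (iv3 F74625)) (tt N25872 (iv4 F62397)) (tt N27572 (iv5 F70473)) (tt N25871 F62395) (tt N6990 (iv7 D22783)))
theorem Q14396 : ∀ i, i < 14396 → P i := stepQ 14395 Q14395 (allL N14395 (tt N28861 (iv1 F159816)) (tt N28577 F289605) (tt N28899 D47430) (tt N6991 (iv3 D22785)) (tt N24881 (iv4 F327918)) (tt N28900 D47432) (tt N28901 D47433) (tt N28333 (iv7 F73613)))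
theorem Q14397 : ∀ i, i < 14397 → P i := stepQ 14396 Q14396 (allL N14396 (tt N28902 D47434) (tt N28903 D47435) (tt N28331 (iv2 F73610)) (tt N28904 D47436) (tt N6991 (iv4 D22786)) (tt N26210 (iv5 F64398)) (tt N28905 D47437) (tt N28334 (iv7 F73615)))
theorem Q14398 : ∀ i, i < 14398 → P i := stepQ 14397 Q14397 (allL N14397 (tt N26257 (iv1 F64468)) (tt N13511 (iv0 F292962)) (tt N28195 F72999) (tt N28900 (iv3 F74628)) (tt N26195 (iv4 F64371)) (tt N6991 (iv5 D22787)) (tt N28125 F72700) (tt N26228 F64424))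
theorem Q14399 : ∀ i, i < 14399 → P i := stepQ 14398 Q14398 (allL N14398 (tt N28906 D47438) (tt N28907 D47439) (tt N28332 (iv2 F73612)) (tt N28901 (iv3 F74629)) (tt N28905 (iv4 F74637)) (tt N28908 D47440) (tt N6991 (iv6 D22788)) (tt N28909 D47441))
theorem Q14400 : ∀ i, i < 14400 → P i := stepQ 14399 Q14399 (allL N14399 (tt N28634 (iv1 F328957)) (tt N28890 (iv0 F328956)) (tt N28910 D47444) (tt N6992 (iv3 D22790)) (tt N28911 D47445) (tt N28912 D47446) (tt N28913 D47447) (tt N28330 (iv7 F73609)))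
theorem Q14401 : ∀ i, i < 14401 → P i := stepQ 14400 Q14400 (allL N14400 (tt N28903 (iv1 F74634)) (tt N28902 F74632) (tt N28334 (iv2 F73614)) (tt N28914 D47448) (tt N6992 (iv4 D22791)) (tt N26199 F64379) (tt N28915 D47449) (tt N28331 (iv7 F73611)))
theorem Q14402 : ∀ i, i < 14402 → P i := stepQ 14401 Q14401 (allL N14401 (tt N13511 (iv1 F292963)) (tt N26257 (iv0 F64467)) (tt N26228 (iv2 F64420)) (tt N28912 (iv3 F74638)) (tt N26209 (iv4 F64392)) (tt N6992 (iv5 D22792)) (tt N25960 (iv6 F63692)) (tt N28195 (iv7 F73001)))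
theorem Q14403 : ∀ i, i < 14403 → P i := stepQ 14402 Q14402 (allL N14402 (tt N28916 D47450) (tt N28917 D47451) (tt N28335 (iv2 F73616)) (tt N28913 (iv3 F74639)) (tt N28915 (iv4 F74640)) (tt N28918 D47452) (tt N6992 (iv6 D22793)) (tt N28919 D47453))
theorem Q14404 : ∀ i, i < 14404 → P i := stepQ 14403 Q14403 (allL N14403 (tt N26222 (iv1 F64414)) (tt N6993 (iv0 D22794)) (tt N28336 (iv2 F136320)) (tt N28920 D47455) (tt N26260 (iv4 F64472)) (tt N26277 (iv5 F64496)) (tt N28921 D47456) (tt N28337 (iv7 F136319)))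
theorem Q14405 : ∀ i, i < 14405 → P i := stepQ 14404 Q14404 (allL N14404 (tt N6993 (iv1 D22795)) (tt N26222 F64413) (tt N28337 (iv2 F136318)) (tt N28922 D47458) (tt N26282 (iv4 F64501)) (tt N26252 (iv5 F64463)) (tt N28923 D47459) (tt N28336 (iv7 F136321)))
theorem Q14406 : ∀ i, i < 14406 → P i := stepQ 14405 Q14405 (allL N14405 (tt N28924 D47460) (tt N28925 D47461) (tt N28926 D47462) (tt N6993 (iv3 D22796)) (tt N28756 (iv4 F74482)) (tt N28927 D47463) (tt N28844 (iv6 F74550)) (tt N28928 D47464))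
theorem Q14407 : ∀ i, i < 14407 → P i := stepQ 14406 Q14406 (allL N14406 (tt N26220 (iv1 F64407)) (tt N26219 F64406) (tt N26223 (iv2 F64415)) (tt N28927 (iv3 F74643)) (tt N26044 (iv4 F63945)) (tt N6993 (iv5 D22797)) (tt N28929 D47465) (tt N26043 F63943))
theorem Q14408 : ∀ i, i < 14408 → P i := stepQ 14407 Q14407 (allL N14407 (tt N28337 (iv1 F73618)) (tt N28336 F73617) (tt N26222 (iv2 F64410)) (tt N28928 (iv3 F74644)) (tt N6994 F35346) (tt N26043 (iv5 F63942)) (tt N28930 D47466) (tt N6993 (iv7 D22798)))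
theorem Q14409 : ∀ i, i < 14409 → P i := stepQ 14408 Q14408 (allL N14408 (tt N28931 D47467) (tt N28932 D47468) (tt N28339 (iv2 F73619)) (tt N28759 (iv3 F74484)) (tt N28930 (iv4 F74645)) (tt N28933 D47469) (tt N6994 (iv6 D22799)) (tt N28847 (iv7 F74552)))
theorem Q14410 : ∀ i, i < 14410 → P i := stepQ 14409 Q14409 (allL N14409 (tt N26202 F64383) (tt N27924 F72157) (tt N27926 (iv2 F72155)) (tt N12865 F35347) (tt N28934 D47470) (tt N6995 (iv5 D22800)) (tt N28933 (iv6 F74647)) (tt N6998 F35348))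
theorem Q14411 : ∀ i, i < 14411 → P i := stepQ 14410 Q14410 (allL N14410 (tt N28571 F289672) (tt N28248 F289673) (tt N28569 F289665) (tt N6996 (iv3 D22802)) (tt N27651 (iv4 F70771)) (tt N28935 D47474) (tt N28936 D47475) (tt N26684 F291722))
theorem Q14412 : ∀ i, i < 14412 → P i := stepQ 14411 Q14411 (allL N14411 (tt N28937 D47476) (tt N28938 D47477) (tt N27923 (iv2 F72135)) (tt N28935 (iv3 F74650)) (tt N28939 D47478) (tt N6996 (iv5 D22804)) (tt N28940 D47479) (tt N26686 F291723))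
theorem Q14413 : ∀ i, i < 14413 → P i := stepQ 14412 Q14412 (allL N14412 (tt N26678 (iv1 F291376)) (tt N14638 (iv0 F291378)) (tt N26694 (iv2 F291437)) (tt N28936 (iv3 F74651)) (tt N26889 (iv4 F68132)) (tt N28941 D47480) (tt N6996 (iv6 D22805)) (tt N26466 (iv7 F291133)))
theorem Q14414 : ∀ i, i < 14414 → P i := stepQ 14413 Q14413 (allL N14413 (tt N28232 F290156) (tt N28641 F290157) (tt N28639 F290183) (tt N6997 (iv3 D22807)) (tt N27783 (iv4 F292731)) (tt N28942 D47485) (tt N26462 (iv6 F292733)) (tt N27922 (iv7 F72134)))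
theorem Q14415 : ∀ i, i < 14415 → P i := stepQ 14414 Q14414 (allL N14414 (tt N28938 (iv1 F74657)) (tt N28937 F74654) (tt N26686 F291720) (tt N28942 (iv3 F74669)) (tt N28943 D47487) (tt N6997 (iv5 D22809)) (tt N28944 D47488) (tt N27923 (iv7 F72136)))
theorem Q14416 : ∀ i, i < 14416 → P i := stepQ 14415 Q14415 (allL N14415 (tt N27926 (iv1 F72163)) (tt N6998 (iv0 D22811)) (tt N27924 (iv2 F72160)) (tt N28945 D47489) (tt N28946 D47490) (tt N26203 (iv5 F72162)) (tt N28947 D47491) (tt N26202 F72161))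
theorem Q14417 : ∀ i, i < 14417 → P i := stepQ 14416 Q14416 (allL N14416 (tt N6998 (iv1 D22812)) (tt N27926 F72158) (tt N26202 (iv2 F64380)) (tt N28948 D47492) (tt N28949 D47493) (tt N26039 (iv5 F63932)) (tt N28950 D47494) (tt N27924 (iv7 F72159)))
theorem Q14418 : ∀ i, i < 14418 → P i := stepQ 14417 Q14417 (allL N14417 (tt N28951 D47495) (tt N28952 D47496) (tt N27925 (iv2 F72154)) (tt N28953 D47497) (tt N6998 (iv4 D22813)) (tt N28954 D47498) (tt N28859 (iv6 F74557)) (tt N28934 (iv7 F74648)))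
theorem Q14419 : ∀ i, i < 14419 → P i := stepQ 14418 Q14418 (allL N14418 (tt N14428 (iv1 F35407)) (tt N14427 F35406) (tt N7002 F35389) (tt N27202 (iv3 F69226)) (tt N25848 (iv4 F62378)) (tt N7000 (iv5 D22819)) (tt N27955 F72327) (tt N14419 F35393))
theorem Q14420 : ∀ i, i < 14420 → P i := stepQ 14419 Q14419 (allL N14419 (tt N14424 (iv1 F35401)) (tt N14423 F35400) (tt N7003 F35390) (tt N14448 (iv3 F35570)) (tt N12858 F35391) (tt N13932 (iv5 F63103)) (tt N7000 (iv6 D22820)) (tt N14418 (iv7 F35393)))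
theorem Q14421 : ∀ i, i < 14421 → P i := stepQ 14420 Q14420 (allL N14420 (tt N28955 D47499) (tt N28359 F289618) (tt N28956 D47501) (tt N7001 (iv3 D22821)) (tt N7005 F35394) (tt N28957 D47502) (tt N28958 D47503) (tt N12859 F35395))
theorem Q14422 : ∀ i, i < 14422 → P i := stepQ 14421 Q14421 (allL N14421 (tt N27278 (iv1 F69719)) (tt N28959 D47504) (tt N12857 F35396) (tt N28957 (iv3 F74684)) (tt N25846 F337961) (tt N7001 (iv5 D22822)) (tt N25845 F337962) (tt N12860 F35397))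
theorem Q14423 : ∀ i, i < 14423 → P i := stepQ 14422 Q14422 (allL N14422 (tt N13517 (iv1 F62473)) (tt N25885 (iv0 F62421)) (tt N12858 F35398) (tt N28958 (iv3 F74686)) (tt N7003 F35399) (tt N25547 F61463) (tt N7001 (iv6 D22823)) (tt N14425 (iv7 F35402)))
theorem Q14424 : ∀ i, i < 14424 → P i := stepQ 14423 Q14423 (allL N14423 (tt N14419 (iv1 F35400)) (tt N7002 (iv0 D22824)) (tt N14428 F63338) (tt N7126 F62468) (tt N25886 (iv4 F62450)) (tt N13918 F63430) (tt N12887 F291583) (tt N14427 F63333))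
theorem Q14425 : ∀ i, i < 14425 → P i := stepQ 14424 Q14424 (allL N14424 (tt N7002 (iv1 D22825)) (tt N14419 F35401) (tt N14427 (iv2 F63337)) (tt N14453 (iv3 F62453)) (tt N25887 (iv4 F62452)) (tt N28960 D47508) (tt N14083 (iv6 F63344)) (tt N14428 (iv7 F63340)))
theorem Q14426 : ∀ i, i < 14426 → P i := stepQ 14425 Q14425 (allL N14425 (tt N14681 F293439) (tt N25774 F62157) (tt N25848 (iv2 F62377)) (tt N28961 D47509) (tt N7002 (iv4 D22826)) (tt N28962 D47510) (tt N13312 F294840) (tt N14422 F35402))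
theorem Q14427 : ∀ i, i < 14427 → P i := stepQ 14426 Q14426 (allL N14426 (tt N13756 (iv1 F65766)) (tt N27935 (iv0 F72228)) (tt N27955 F72324) (tt N7011 F35403) (tt N13312 F294370) (tt N14141 F35404) (tt N7002 (iv6 D22827)) (tt N14141 F35405))
theorem Q14428 : ∀ i, i < 14428 → P i := stepQ 14427 Q14427 (allL N14427 (tt N14418 (iv1 F35406)) (tt N7003 (iv0 D22828)) (tt N14424 F63337) (tt N7087 F63230) (tt N25767 (iv4 F63249)) (tt N26240 (iv5 F64438)) (tt N7085 F63231) (tt N14423 (iv7 F63333)))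
theorem Q14429 : ∀ i, i < 14429 → P i := stepQ 14428 Q14428 (allL N14428 (tt N7003 (iv1 D22829)) (tt N14418 F35407) (tt N14423 (iv2 F63338)) (tt N26811 F291589) (tt N25883 (iv4 F62418)) (tt N26055 F64030) (tt N13520 F291590) (tt N14424 F63340))
theorem Q14430 : ∀ i, i < 14430 → P i := stepQ 14429 Q14429 (allL N14429 (tt N28963 D47512) (tt N28964 D47513) (tt N28965 D47514) (tt N7004 (iv3 D22831)) (tt N25942 (iv4 F63661)) (tt N28966 D47515) (tt N28384 (iv6 F73772)) (tt N26505 F65394))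
theorem Q14431 : ∀ i, i < 14431 → P i := stepQ 14430 Q14430 (allL N14430 (tt N26282 (iv1 F64502)) (tt N26260 F64473) (tt N28342 (iv2 F73637)) (tt N28966 (iv3 F74713)) (tt N28967 D47516) (tt N7004 (iv5 D22832)) (tt N28968 D47517) (tt N26506 (iv7 F65396)))
theorem Q14432 : ∀ i, i < 14432 → P i := stepQ 14431 Q14431 (allL N14431 (tt N28352 (iv1 F73665)) (tt N7005 (iv0 D22838)) (tt N28351 (iv2 F157349)) (tt N28969 D47519) (tt N28970 D47520) (tt N28971 D47521) (tt N25014 (iv6 F289728)) (tt N17843 F289716))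
theorem Q14433 : ∀ i, i < 14433 → P i := stepQ 14432 Q14432 (allL N14432 (tt N28351 (iv1 F73666)) (tt N17843 F289714) (tt N7005 (iv2 D22840)) (tt N28344 (iv3 F73643)) (tt N28956 (iv4 F74676)) (tt N28972 D47528) (tt N28973 D47529) (tt N28352 (iv7 F73664)))
theorem Q14434 : ∀ i, i < 14434 → P i := stepQ 14433 Q14433 (allL N14433 (tt N28974 D47530) (tt N28975 D47531) (tt N28972 (iv2 F74726)) (tt N7006 F35410) (tt N28976 D47532) (tt N7005 (iv5 D22841)) (tt N28977 D47533) (tt N28353 (iv7 F73669)))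
theorem Q14435 : ∀ i, i < 14435 → P i := stepQ 14434 Q14434 (allL N14434 (tt N28978 D47534) (tt N28979 D47535) (tt N28973 (iv2 F74727)) (tt N7007 F35411) (tt N28958 (iv4 F74687)) (tt N28980 D47536) (tt N7005 (iv6 D22842)) (tt N14445 (iv7 F35558)))
theorem Q14436 : ∀ i, i < 14436 → P i := stepQ 14435 Q14435 (allL N14435 (tt N7018 (iv1 F35412)) (tt N7006 (iv0 D22843)) (tt N28346 F73651) (tt N28981 D47537) (tt N28982 D47538) (tt N14066 F35955) (tt N28983 D47539) (tt N28347 (iv7 F73654)))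
theorem Q14437 : ∀ i, i < 14437 → P i := stepQ 14436 Q14436 (allL N14436 (tt N7006 (iv1 D22844)) (tt N7018 F35413) (tt N28347 F73656) (tt N28984 D47540) (tt N28985 D47541) (tt N28986 D47542) (tt N28987 D47543) (tt N28346 F73652))
theorem Q14438 : ∀ i, i < 14438 → P i := stepQ 14437 Q14437 (allL N14437 (tt N28877 (iv1 F74593)) (tt N28879 (iv0 F74595)) (tt N28348 (iv2 F73657)) (tt N28988 D47544) (tt N7006 (iv4 D22845)) (tt N26220 (iv5 F64409)) (tt N28989 D47545) (tt N28355 (iv7 F73673)))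
theorem Q14439 : ∀ i, i < 14439 → P i := stepQ 14438 Q14438 (allL N14438 (tt N28990 D47546) (tt N28991 D47547) (tt N28349 (iv2 F73659)) (tt N28977 (iv3 F74728)) (tt N28989 (iv4 F74745)) (tt N28992 D47548) (tt N7006 (iv6 D22846)) (tt N28993 D47549))
theorem Q14440 : ∀ i, i < 14440 → P i := stepQ 14439 Q14439 (allL N14439 (tt N7007 (iv1 D22848)) (tt N14140 F35415) (tt N14443 (iv2 F63019)) (tt N28994 D47550) (tt N25873 (iv4 F62405)) (tt N26251 (iv5 F64462)) (tt N13405 F292992) (tt N14444 F63018))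
theorem Q14441 : ∀ i, i < 14441 → P i := stepQ 14440 Q14440 (allL N14440 (tt N13994 F35954) (tt N28995 D47551) (tt N14469 (iv2 F35961)) (tt N28980 (iv3 F74729)) (tt N28996 D47552) (tt N7007 (iv5 D22849)) (tt N28992 (iv6 F74746)) (tt N14446 (iv7 F35559)))
theorem Q14442 : ∀ i, i < 14442 → P i := stepQ 14441 Q14441 (allL N14441 (tt N14127 F35424) (tt N14387 F35425) (tt N13320 F293273) (tt N28997 D47553) (tt N7008 (iv4 D22852)) (tt N28998 D47554) (tt N13173 F293274) (tt N14244 F35423))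
theorem Q14443 : ∀ i, i < 14443 → P i := stepQ 14442 Q14442 (allL N14442 (tt N14387 F35435) (tt N14127 F35436) (tt N14244 F35433) (tt N13332 F62696) (tt N7009 (iv4 D22855)) (tt N28999 D47556) (tt N7092 (iv6 F62707)) (tt N13320 F292965))
theorem Q14444 : ∀ i, i < 14444 → P i := stepQ 14443 Q14443 (allL N14443 (tt N7020 (iv1 F35556)) (tt N7010 (iv0 D22857)) (tt N14439 F63019) (tt N29000 D47557) (tt N14486 F292626) (tt N29001 D47558) (tt N13174 F292627) (tt N14237 F63011))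
theorem Q14445 : ∀ i, i < 14445 → P i := stepQ 14444 Q14444 (allL N14444 (tt N7010 (iv1 D22858)) (tt N7020 F35557) (tt N14237 F63015) (tt N29002 D47560) (tt N25870 F62390) (tt N29003 D47561) (tt N14087 (iv6 F63021)) (tt N14439 (iv7 F63018)))
theorem Q14446 : ∀ i, i < 14446 → P i := stepQ 14445 Q14445 (allL N14445 (tt N29004 D47562) (tt N29005 D47563) (tt N29006 D47564) (tt N7010 (iv3 D22859)) (tt N28961 (iv4 F74702)) (tt N29007 D47565) (tt N29008 D47566) (tt N14434 F35558))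
theorem Q14447 : ∀ i, i < 14447 → P i := stepQ 14446 Q14446 (allL N14446 (tt N26247 (iv1 F64456)) (tt N26063 (iv0 F64061)) (tt N28033 F72582) (tt N29007 (iv3 F74799)) (tt N26219 (iv4 F64404)) (tt N7010 (iv5 D22860)) (tt N29009 D47567) (tt N14440 F35559))
theorem Q14448 : ∀ i, i < 14448 → P i := stepQ 14447 Q14447 (allL N14447 (tt N14184 (iv1 F64197)) (tt N14465 F35959) (tt N14467 (iv2 F35956)) (tt N29008 (iv3 F74801)) (tt N7011 F35560) (tt N28097 (iv5 F72650)) (tt N7010 (iv6 D22861)) (tt N14144 F35561))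
theorem Q14449 : ∀ i, i < 14449 → P i := stepQ 14448 Q14448 (allL N14448 (tt N14210 F63332) (tt N26811 F291592) (tt N7015 F35569) (tt N14419 F35570) (tt N26517 (iv4 F65430)) (tt N7013 (iv5 D22868)) (tt N13590 (iv6 F63117)) (tt N27202 (iv7 F69227)))
theorem Q14450 : ∀ i, i < 14450 → P i := stepQ 14449 Q14449 (allL N14449 (tt N13747 (iv1 F65924)) (tt N26574 F65874) (tt N7016 F35572) (tt N26696 (iv3 F293526)) (tt N26885 (iv4 F68119)) (tt N29010 D47568) (tt N7013 (iv6 D22869)) (tt N29010 F74810))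
theorem Q14451 : ∀ i, i < 14451 → P i := stepQ 14450 Q14450 (allL N14450 (tt N28469 F290205) (tt N29011 D47570) (tt N29012 D47571) (tt N7014 (iv3 D22871)) (tt N7017 F35573) (tt N29013 D47572) (tt N29014 D47573) (tt N26881 (iv7 F68109)))
theorem Q14452 : ∀ i, i < 14452 → P i := stepQ 14451 Q14451 (allL N14451 (tt N29015 D47574) (tt N29016 D47575) (tt N26884 (iv2 F68116)) (tt N29013 (iv3 F74812)) (tt N29017 D47576) (tt N7014 (iv5 D22872)) (tt N29018 D47577) (tt N26882 (iv7 F68112)))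
theorem Q14453 : ∀ i, i < 14453 → P i := stepQ 14452 Q14452 (allL N14452 (tt N14683 F292486) (tt N13275 (iv0 F65972)) (tt N26885 (iv2 F68118)) (tt N29014 (iv3 F74813)) (tt N7016 F35574) (tt N27168 (iv5 F69074)) (tt N7014 (iv6 D22873)) (tt N27174 (iv7 F69088)))
theorem Q14454 : ∀ i, i < 14454 → P i := stepQ 14453 Q14453 (allL N14453 (tt N27202 F69230) (tt N7015 (iv0 D22874)) (tt N14210 (iv2 F63346)) (tt N14424 F62453) (tt N25936 (iv4 F63625)) (tt N29019 D47578) (tt N14199 F63345) (tt N26811 F291298))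
theorem Q14455 : ∀ i, i < 14455 → P i := stepQ 14454 Q14454 (allL N14454 (tt N7015 (iv1 D22875)) (tt N27202 (iv0 F69228)) (tt N26811 F291295) (tt N7123 F63347) (tt N14494 F292781) (tt N14039 F63348) (tt N13138 F291296) (tt N14210 F63349))
theorem Q14456 : ∀ i, i < 14456 → P i := stepQ 14455 Q14455 (allL N14455 (tt N13481 F62999) (tt N25938 (iv0 F63633)) (tt N26517 (iv2 F65429)) (tt N29020 D47579) (tt N7015 (iv4 D22876)) (tt N26426 (iv5 F65117)) (tt N13431 (iv6 F35636)) (tt N28340 (iv7 F73629)))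
theorem Q14457 : ∀ i, i < 14457 → P i := stepQ 14456 Q14456 (allL N14456 (tt N29010 F74809) (tt N7016 (iv0 D22877)) (tt N13747 F65922) (tt N27935 (iv3 F72226)) (tt N25953 F65919) (tt N12992 F64145) (tt N26667 F290919) (tt N26574 (iv7 F65921)))
theorem Q14458 : ∀ i, i < 14458 → P i := stepQ 14457 Q14457 (allL N14457 (tt N7016 (iv1 D22878)) (tt N29010 (iv0 F74806)) (tt N26574 F65926) (tt N7059 F65927) (tt N25954 F65928) (tt N12993 F65929) (tt N7056 F65930) (tt N13747 F65931))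
theorem Q14459 : ∀ i, i < 14459 → P i := stepQ 14458 Q14458 (allL N14458 (tt N26574 F65860) (tt N13747 F65873) (tt N29010 (iv2 F74803)) (tt N7021 F35576) (tt N27174 (iv4 F69085)) (tt N7016 (iv5 D22879)) (tt N14136 F35577) (tt N7016 (iv7 F35578)))
theorem Q14460 : ∀ i, i < 14460 → P i := stepQ 14459 Q14459 (allL N14459 (tt N7017 (iv1 D22881)) (tt N28344 F73646) (tt N28343 F73639) (tt N27782 F292400) (tt N26530 (iv4 F66883)) (tt N29021 D47582) (tt N28486 (iv6 F74045)) (tt N26526 F66884))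
theorem Q14461 : ∀ i, i < 14461 → P i := stepQ 14460 Q14460 (allL N14460 (tt N26526 (iv1 F73642)) (tt N28343 F73640) (tt N7017 (iv2 D22882)) (tt N28352 (iv3 F73662)) (tt N29012 (iv4 F74811)) (tt N29022 D47583) (tt N29023 D47584) (tt N28344 (iv7 F73644)))
theorem Q14462 : ∀ i, i < 14462 → P i := stepQ 14461 Q14461 (allL N14461 (tt N29024 D47585) (tt N29025 D47586) (tt N29022 (iv2 F74840)) (tt N7018 F35579) (tt N29026 D47587) (tt N7017 (iv5 D22883)) (tt N29027 D47588) (tt N28345 (iv7 F73648)))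
theorem Q14463 : ∀ i, i < 14463 → P i := stepQ 14462 Q14462 (allL N14462 (tt N29028 D47589) (tt N27669 F293542) (tt N29023 (iv2 F74841)) (tt N7019 F35580) (tt N29014 (iv4 F74814)) (tt N29029 D47591) (tt N7017 (iv6 D22884)) (tt N29030 D47592))
theorem Q14464 : ∀ i, i < 14464 → P i := stepQ 14463 Q14463 (allL N14463 (tt N28879 (iv1 F74596)) (tt N28877 (iv0 F74592)) (tt N28355 (iv2 F73672)) (tt N29031 D47593) (tt N7018 (iv4 D22885)) (tt N26219 F64405) (tt N29032 D47594) (tt N28348 (iv7 F73658)))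
theorem Q14465 : ∀ i, i < 14465 → P i := stepQ 14464 Q14464 (allL N14464 (tt N29033 D47595) (tt N29034 D47596) (tt N28356 (iv2 F73674)) (tt N29027 (iv3 F74842)) (tt N29032 (iv4 F74849)) (tt N29035 D47597) (tt N7018 (iv6 D22886)) (tt N29036 D47598))
theorem Q14466 : ∀ i, i < 14466 → P i := stepQ 14465 Q14465 (allL N14465 (tt N14447 (iv1 F35959)) (tt N7019 (iv0 D22887)) (tt N28109 F72669) (tt N27674 (iv3 F294467)) (tt N24438 (iv4 F66270)) (tt N26108 (iv5 F64204)) (tt N26675 F291667) (tt N28113 (iv7 F72679)))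
theorem Q14467 : ∀ i, i < 14467 → P i := stepQ 14466 Q14466 (allL N14466 (tt N14021 (iv1 F65852)) (tt N14018 F35582) (tt N28357 (iv2 F73675)) (tt N29029 (iv3 F74846)) (tt N29037 D47600) (tt N7019 (iv5 D22889)) (tt N29035 (iv6 F74850)) (tt N29038 D47601))
theorem Q14468 : ∀ i, i < 14468 → P i := stepQ 14467 Q14467 (allL N14467 (tt N28113 (iv1 F72680)) (tt N28109 F72668) (tt N14447 F35956) (tt N29030 (iv3 F74847)) (tt N7021 F35957) (tt N29038 (iv5 F74854)) (tt N14140 F35958) (tt N7019 (iv7 D22890)))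
theorem Q14469 : ∀ i, i < 14469 → P i := stepQ 14468 Q14468 (allL N14468 (tt N29039 D47602) (tt N29040 D47603) (tt N29041 D47604) (tt N7020 (iv3 D22891)) (tt N29020 (iv4 F74827)) (tt N29042 D47605) (tt N14138 F35960) (tt N28350 (iv7 F73660)))
theorem Q14470 : ∀ i, i < 14470 → P i := stepQ 14469 Q14469 (allL N14469 (tt N26063 (iv1 F64062)) (tt N26247 (iv0 F64455)) (tt N14440 F35961) (tt N29042 (iv3 F74859)) (tt N26220 F64408) (tt N7020 (iv5 D22892)) (tt N29043 D47606) (tt N28033 (iv7 F72583)))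
theorem Q14471 : ∀ i, i < 14471 → P i := stepQ 14470 Q14470 (allL N14470 (tt N26450 F290721) (tt N26590 F290722) (tt N26497 F290723) (tt N12899 (iv3 F291046)) (tt N7022 (iv4 D22895)) (tt N27219 (iv5 F291047)) (tt N7112 (iv6 F291049)) (tt N7029 F35966))
theorem Q14472 : ∀ i, i < 14472 → P i := stepQ 14471 Q14471 (allL N14471 (tt N14546 (iv1 F73745)) (tt N28375 (iv0 F73744)) (tt N27624 (iv2 F70672)) (tt N7025 F35976) (tt N26737 F67002) (tt N13208 (iv5 F291371)) (tt N7023 (iv6 D22906)) (tt N13207 F290865))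
theorem Q14473 : ∀ i, i < 14473 → P i := stepQ 14472 Q14472 (allL N14472 (tt N25014 (iv1 F289823)) (tt N25000 F289723) (tt N25011 F289768) (tt N7024 (iv3 D22910)) (tt N28701 (iv4 F74400)) (tt N29044 D47615) (tt N29045 D47616) (tt N25012 F289769))
theorem Q14474 : ∀ i, i < 14474 → P i := stepQ 14473 Q14473 (allL N14473 (tt N29046 D47617) (tt N29047 D47618) (tt N27928 (iv2 F72174)) (tt N29044 (iv3 F74873)) (tt N29048 D47619) (tt N7024 (iv5 D22911)) (tt N29049 D47620) (tt N26407 (iv7 F291375)))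
theorem Q14475 : ∀ i, i < 14475 → P i := stepQ 14474 Q14474 (allL N14474 (tt N26630 F66675) (tt N26675 (iv0 F291056)) (tt N26677 F290867) (tt N29045 (iv3 F74874)) (tt N7025 F35979) (tt N29050 D47621) (tt N7024 (iv6 D22912)) (tt N13222 (iv7 F291065)))
theorem Q14476 : ∀ i, i < 14476 → P i := stepQ 14475 Q14475 (allL N14475 (tt N28198 (iv1 F74047)) (tt N28486 (iv0 F74046)) (tt N28484 (iv2 F143009)) (tt N7027 (iv3 D22927)) (tt N26900 (iv4 F68169)) (tt N29051 D47635) (tt N13407 (iv6 F291472)) (tt N27927 (iv7 F72172)))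
theorem Q14477 : ∀ i, i < 14477 → P i := stepQ 14476 Q14476 (allL N14476 (tt N29047 (iv1 F74878)) (tt N29046 F74876) (tt N26407 (iv2 F291374)) (tt N29051 (iv3 F74917)) (tt N29052 D47637) (tt N7027 (iv5 D22928)) (tt N29053 D47638) (tt N27928 (iv7 F72175)))
theorem Q14478 : ∀ i, i < 14478 → P i := stepQ 14477 Q14477 (allL N14477 (tt N26472 (iv1 F290634)) (tt N25972 (iv0 F74929)) (tt N27625 F70684) (tt N7028 (iv3 D22935)) (tt N29054 D47644) (tt N26245 (iv5 F64452)) (tt N13567 (iv6 F290635)) (tt N26244 F64449))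
theorem Q14479 : ∀ i, i < 14479 → P i := stepQ 14478 Q14478 (allL N14478 (tt N26488 (iv1 F290569)) (tt N25992 F72201) (tt N26641 (iv2 F290570)) (tt N29055 D47647) (tt N7028 (iv4 D22936)) (tt N29056 D47648) (tt N13573 (iv6 F290571)) (tt N26262 (iv7 F64479)))
theorem Q14480 : ∀ i, i < 14480 → P i := stepQ 14479 Q14479 (allL N14479 (tt N26497 F290740) (tt N7029 (iv0 D22942)) (tt N26590 F290741) (tt N29057 D47654) (tt N26667 F72216) (tt N29058 D47655) (tt N25953 (iv6 F291096)) (tt N26450 F290742))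
theorem Q14481 : ∀ i, i < 14481 → P i := stepQ 14480 Q14480 (allL N14480 (tt N27221 (iv1 F291098)) (tt N13546 (iv0 F291097)) (tt N27218 (iv2 F291053)) (tt N25940 (iv3 F291115)) (tt N29059 D47665) (tt N7029 (iv5 D22945)) (tt N29060 D47666) (tt N27219 (iv7 F291048)))
theorem Q14482 : ∀ i, i < 14482 → P i := stepQ 14481 Q14481 (allL N14481 (tt N17568 F43723) (tt N23612 (iv0 F56215)) (tt N23496 (iv2 F55994)) (tt N7031 F36001) (tt N29061 D47667) (tt N7030 (iv5 D22946)) (tt N29062 D47668) (tt N23613 (iv7 F56218)))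
theorem Q14483 : ∀ i, i < 14483 → P i := stepQ 14482 Q14482 (allL N14482 (tt N23811 (iv1 F56545)) (tt N13349 F36003) (tt N12954 F36002) (tt N29063 D47669) (tt N7031 (iv4 D22947)) (tt N24909 (iv5 F59910)) (tt N29064 D47670) (tt N23813 (iv7 F56551)))
theorem Q14484 : ∀ i, i < 14484 → P i := stepQ 14483 Q14483 (allL N14483 (tt N29065 D47671) (tt N23655 (iv0 F297217)) (tt N12952 F36004) (tt N29062 (iv3 F74943)) (tt N29064 (iv4 F74946)) (tt N12939 F36005) (tt N7031 (iv6 D22948)) (tt N23635 (iv7 F297224)))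
theorem Q14485 : ∀ i, i < 14485 → P i := stepQ 14484 Q14484 (allL N14484 (tt N13349 F36013) (tt N23811 (iv0 F56544)) (tt N23813 F56549) (tt N29066 D47684) (tt N7032 (iv4 D22953)) (tt N24910 (iv5 F59914)) (tt N29067 D47685) (tt N12954 F36012))
theorem Q14486 : ∀ i, i < 14486 → P i := stepQ 14485 Q14485 (allL N14485 (tt N29068 D47686) (tt N29069 D47687) (tt N26291 (iv2 F64537)) (tt N23734 (iv3 F56452)) (tt N29067 (iv4 F74969)) (tt N26768 (iv5 F67595)) (tt N7032 (iv6 D22954)) (tt N29070 D47688))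
theorem Q14487 : ∀ i, i < 14487 → P i := stepQ 14486 Q14486 (allL N14486 (tt N14381 F291625) (tt N12867 F291626) (tt N25873 (iv2 F292397)) (tt N7035 F36017) (tt N14443 (iv4 F292626)) (tt N13626 (iv5 F292046)) (tt N7033 (iv6 D22959)) (tt N13478 (iv7 F292092)))
theorem Q14488 : ∀ i, i < 14488 → P i := stepQ 14487 Q14487 (allL N14487 (tt N29071 D47702) (tt N29072 D47703) (tt N29073 D47704) (tt N7034 (iv3 D22960)) (tt N26409 (iv4 F65094)) (tt N29074 D47705) (tt N29075 D47706) (tt N25968 (iv7 F63767)))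
theorem Q14489 : ∀ i, i < 14489 → P i := stepQ 14488 Q14488 (allL N14488 (tt N25998 (iv1 F63863)) (tt N14037 (iv0 F291038)) (tt N26000 (iv2 F63865)) (tt N29074 (iv3 F74985)) (tt N24900 (iv4 F59903)) (tt N7034 (iv5 D22961)) (tt N29076 D47707) (tt N25969 (iv7 F63769)))
theorem Q14490 : ∀ i, i < 14490 → P i := stepQ 14489 Q14489 (allL N14489 (tt N26517 (iv1 F291040)) (tt N28340 F290716) (tt N25938 (iv2 F290994)) (tt N29075 (iv3 F74986)) (tt N7035 F36019) (tt N29077 D47710) (tt N7034 (iv6 D22962)) (tt N13481 F291628))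
theorem Q14491 : ∀ i, i < 14491 → P i := stepQ 14490 Q14490 (allL N14490 (tt N29078 D47721) (tt N29079 D47722) (tt N29080 D47723) (tt N7036 (iv3 D22966)) (tt N27669 (iv4 F70880)) (tt N29081 D47724) (tt N13462 (iv6 F292773)) (tt N26295 (iv7 F64561)))
theorem Q14492 : ∀ i, i < 14492 → P i := stepQ 14491 Q14491 (allL N14491 (tt N13597 (iv1 F292610)) (tt N13360 F36025) (tt N13620 F291750) (tt N29081 (iv3 F75001)) (tt N24898 (iv4 F59896)) (tt N7036 (iv5 D22967)) (tt N29082 D47726) (tt N13619 F291751))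
theorem Q14493 : ∀ i, i < 14493 → P i := stepQ 14492 Q14492 (allL N14492 (tt N29083 D47729) (tt N29084 D47730) (tt N29085 D47731) (tt N7037 (iv3 D22969)) (tt N26370 (iv4 F64972)) (tt N29086 D47732) (tt N29087 D47733) (tt N26296 (iv7 F64567)))
theorem Q14494 : ∀ i, i < 14494 → P i := stepQ 14493 Q14493 (allL N14493 (tt N13360 F36027) (tt N13597 (iv0 F292609)) (tt N13619 F291753) (tt N29086 (iv3 F75009)) (tt N22942 (iv4 F54695)) (tt N7037 (iv5 D22970)) (tt N29088 D47734) (tt N13620 F291754))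
theorem Q14495 : ∀ i, i < 14495 → P i := stepQ 14494 Q14494 (allL N14494 (tt N12899 (iv1 F291872)) (tt N25929 F291755) (tt N25939 F291756) (tt N29087 (iv3 F75010)) (tt N14454 (iv4 F292781)) (tt N29089 D47737) (tt N7037 (iv6 D22971)) (tt N13466 (iv7 F291882)))
theorem Q14496 : ∀ i, i < 14496 → P i := stepQ 14495 Q14495 (allL N14495 (tt N7038 (iv1 D22973)) (tt N25946 (iv0 F292714)) (tt N25953 (iv2 F292720)) (tt N29090 D47745) (tt N13747 (iv4 F292765)) (tt N27091 (iv5 F292766)) (tt N26590 (iv6 F292767)) (tt N25954 (iv7 F292717)))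
theorem Q14497 : ∀ i, i < 14497 → P i := stepQ 14496 Q14496 (allL N14496 (tt N25954 (iv1 F292716)) (tt N25953 (iv0 F292719)) (tt N7038 (iv2 D22974)) (tt N27932 (iv3 F72219)) (tt N7139 F36028) (tt N29091 D47748) (tt N25929 F291746) (tt N25946 (iv7 F292715)))
theorem Q14498 : ∀ i, i < 14498 → P i := stepQ 14497 Q14497 (allL N14497 (tt N13555 (iv1 F292768)) (tt N13558 (iv0 F292769)) (tt N29091 (iv2 F75015)) (tt N7039 F36029) (tt N29092 D47751) (tt N7038 (iv5 D22975)) (tt N29093 D47752) (tt N25955 (iv7 F292771)))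
theorem Q14499 : ∀ i, i < 14499 → P i := stepQ 14498 Q14498 (allL N14498 (tt N24910 (iv1 F59913)) (tt N24909 F59911) (tt N23051 (iv2 F54923)) (tt N29094 D47757) (tt N7039 (iv4 D22978)) (tt N22932 (iv5 F54664)) (tt N29095 D47758) (tt N24418 (iv7 F58658)))
theorem Q14500 : ∀ i, i < 14500 → P i := stepQ 14499 Q14499 (allL N14499 (tt N29096 D47759) (tt N29097 D47760) (tt N27934 (iv2 F72222)) (tt N29093 (iv3 F75016)) (tt N29095 (iv4 F75019)) (tt N29060 (iv5 F74939)) (tt N7039 (iv6 D22979)) (tt N29098 D47761))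
theorem Q14501 : ∀ i, i < 14501 → P i := stepQ 14500 Q14500 (allL N14500 (tt N7040 (iv1 F36032)) (tt N7040 (iv0 D22980)) (tt N14555 F70969) (tt N28247 (iv3 F73480)) (tt N29099 D47762) (tt N27368 (iv5 F70137)) (tt N29100 D47763) (tt N14555 (iv7 F70968)))
theorem Q14502 : ∀ i, i < 14502 → P i := stepQ 14501 Q14501 (allL N14501 (tt N29101 D47764) (tt N29102 D47765) (tt N14557 (iv2 F36222)) (tt N7042 F36033) (tt N14501 F36034) (tt N29103 D47766) (tt N7040 (iv6 D22981)) (tt N29104 D47767))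
theorem Q14503 : ∀ i, i < 14503 → P i := stepQ 14502 Q14502 (allL N14502 (tt N29105 D47768) (tt N29106 D47769) (tt N7051 F36035) (tt N21612 (iv3 F51574)) (tt N17872 (iv4 F44724)) (tt N29107 D47770) (tt N7041 (iv6 D22982)) (tt N29108 D47771))
theorem Q14504 : ∀ i, i < 14504 → P i := stepQ 14503 Q14503 (allL N14503 (tt N7042 (iv1 D22983)) (tt N7055 F36036) (tt N7053 (iv2 F36038)) (tt N28443 (iv3 F73869)) (tt N25705 (iv4 F66066)) (tt N29109 D47772) (tt N29110 D47773) (tt N7052 F36037))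
theorem Q14505 : ∀ i, i < 14505 → P i := stepQ 14504 Q14504 (allL N14504 (tt N29111 D47774) (tt N27875 (iv0 F71715)) (tt N7054 F36039) (tt N29103 (iv3 F75024)) (tt N29112 D47775) (tt N7042 (iv5 D22984)) (tt N29107 (iv6 F75029)) (tt N29113 D47776))
theorem Q14506 : ∀ i, i < 14506 → P i := stepQ 14505 Q14505 (allL N14505 (tt N7053 (iv1 F36042)) (tt N7052 F36043) (tt N7055 F36040) (tt N29104 (iv3 F75025)) (tt N7045 F36041) (tt N29113 (iv5 F75040)) (tt N14561 (iv6 F36233)) (tt N7042 (iv7 D22985)))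
theorem Q14507 : ∀ i, i < 14507 → P i := stepQ 14506 Q14506 (allL N14506 (tt N27297 (iv1 F70032)) (tt N13774 F66357) (tt N7057 F63379) (tt N29114 D47777) (tt N7043 (iv4 D22988)) (tt N29115 D47778) (tt N13761 F36047) (tt N7061 F63380))
theorem Q14508 : ∀ i, i < 14508 → P i := stepQ 14507 Q14507 (allL N14507 (tt N13774 F66356) (tt N27297 F70031) (tt N7061 F63391) (tt N26582 (iv3 F65557)) (tt N7044 (iv4 D22991)) (tt N29116 D47781) (tt N29117 D47782) (tt N7057 F63392))
theorem Q14509 : ∀ i, i < 14509 → P i := stepQ 14508 Q14508 (allL N14508 (tt N12763 (iv1 F292159)) (tt N13131 F63399) (tt N7062 F63393) (tt N26585 (iv3 F65561)) (tt N29118 D47783) (tt N7044 (iv5 D22992)) (tt N12699 (iv6 F293040)) (tt N7058 F63394))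
theorem Q14510 : ∀ i, i < 14510 → P i := stepQ 14509 Q14509 (allL N14509 (tt N7102 F290779) (tt N7111 F290780) (tt N7063 F63396) (tt N26586 (iv3 F65563)) (tt N29117 (iv4 F75066)) (tt N12700 (iv5 F291207)) (tt N7044 (iv6 D22993)) (tt N7109 F290781))
theorem Q14511 : ∀ i, i < 14511 → P i := stepQ 14510 Q14510 (allL N14510 (tt N14568 (iv1 F36251)) (tt N7046 (iv0 D22997)) (tt N14567 F36268) (tt N14572 (iv3 F36265)) (tt N29119 D47789) (tt N27811 (iv5 F71594)) (tt N29120 D47790) (tt N14566 F36266))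
theorem Q14512 : ∀ i, i < 14512 → P i := stepQ 14511 Q14511 (allL N14511 (tt N7046 (iv1 D22998)) (tt N14568 F36253) (tt N14566 (iv2 F36267)) (tt N28565 F74191) (tt N14103 (iv4 F36062)) (tt N27812 (iv5 F71600)) (tt N29121 D47791) (tt N14567 (iv7 F36269)))
theorem Q14513 : ∀ i, i < 14513 → P i := stepQ 14512 Q14512 (allL N14512 (tt N14567 (iv1 F36252)) (tt N14566 F36247) (tt N7046 (iv2 D22999)) (tt N14573 (iv3 F36270)) (tt N12819 F36063) (tt N27485 (iv5 F70341)) (tt N29122 D47792) (tt N14568 (iv7 F36250)))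
theorem Q14514 : ∀ i, i < 14514 → P i := stepQ 14513 Q14513 (allL N14513 (tt N29123 D47793) (tt N29124 D47794) (tt N29122 (iv2 F75091)) (tt N7047 F36064) (tt N28196 (iv4 F73262)) (tt N29125 D47795) (tt N7046 (iv6 D23000)) (tt N29126 D47796))
theorem Q14515 : ∀ i, i < 14515 → P i := stepQ 14514 Q14514 (allL N14514 (tt N29127 D47797) (tt N26329 (iv0 F64762)) (tt N14575 (iv2 F36278)) (tt N29125 (iv3 F75093)) (tt N29128 D47798) (tt N7047 (iv5 D23003)) (tt N27489 (iv6 F70343)) (tt N29129 D47799))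
theorem Q14516 : ∀ i, i < 14516 → P i := stepQ 14515 Q14515 (allL N14515 (tt N13809 (iv1 F66765)) (tt N7120 F66558) (tt N14576 (iv2 F36279)) (tt N29126 (iv3 F75094)) (tt N24224 (iv4 F58142)) (tt N29129 (iv5 F75097)) (tt N7119 F36065) (tt N7047 (iv7 D23004)))
theorem Q14517 : ∀ i, i < 14517 → P i := stepQ 14516 Q14516 (allL N14516 (tt N14573 (iv1 F36273)) (tt N7048 (iv0 D23005)) (tt N14572 (iv2 F36263)) (tt N28564 (iv3 F74187)) (tt N11435 F36066) (tt N23868 (iv5 F56634)) (tt N29130 D47800) (tt N14571 F36260))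
theorem Q14518 : ∀ i, i < 14518 → P i := stepQ 14517 Q14517 (allL N14517 (tt N7048 (iv1 D23006)) (tt N14573 F36274) (tt N14571 F36259) (tt N14566 (iv3 F36246)) (tt N11432 (iv4 F36067)) (tt N23869 (iv5 F56636)) (tt N29131 D47801) (tt N14572 (iv7 F36261)))
theorem Q14519 : ∀ i, i < 14519 → P i := stepQ 14518 Q14518 (allL N14518 (tt N14572 (iv1 F36264)) (tt N14571 F36258) (tt N7048 (iv2 D23007)) (tt N14568 (iv3 F36248)) (tt N13429 F36068) (tt N27490 (iv5 F70345)) (tt N29132 D47802) (tt N14573 (iv7 F36272)))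
theorem Q14520 : ∀ i, i < 14520 → P i := stepQ 14519 Q14519 (allL N14519 (tt N29133 D47803) (tt N29134 D47804) (tt N29132 (iv2 F75100)) (tt N7049 F36069) (tt N13430 F36070) (tt N29135 D47805) (tt N7048 (iv6 D23008)) (tt N14666 (iv7 F36739)))
theorem Q14521 : ∀ i, i < 14521 → P i := stepQ 14520 Q14520 (allL N14520 (tt N26333 (iv1 F64768)) (tt N29136 D47806) (tt N14570 (iv2 F36256)) (tt N29135 (iv3 F75102)) (tt N29137 D47807) (tt N7049 (iv5 D23009)) (tt N27494 (iv6 F70349)) (tt N14667 (iv7 F36741)))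
theorem Q14522 : ∀ i, i < 14522 → P i := stepQ 14521 Q14521 (allL N14521 (tt N29138 D47808) (tt N29139 D47809) (tt N17001 (iv2 F41831)) (tt N7050 (iv3 D23010)) (tt N14577 (iv4 F36285)) (tt N17868 (iv5 F44708)) (tt N29140 D47810) (tt N14577 (iv7 F36287)))
theorem Q14523 : ∀ i, i < 14523 → P i := stepQ 14522 Q14522 (allL N14522 (tt N29141 D47811) (tt N18426 (iv0 F317061)) (tt N17872 (iv2 F44722)) (tt N29140 (iv3 F75107)) (tt N7051 F36071) (tt N29142 D47813) (tt N7050 (iv6 D23011)) (tt N29143 D47814))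
theorem Q14524 : ∀ i, i < 14524 → P i := stepQ 14523 Q14523 (allL N14523 (tt N29108 (iv1 F75033)) (tt N7051 (iv0 D23012)) (tt N29105 F319837) (tt N29144 D47816) (tt N29145 D47817) (tt N29146 D47818) (tt N29147 D47819) (tt N29106 F319838))
theorem Q14525 : ∀ i, i < 14525 → P i := stepQ 14524 Q14524 (allL N14524 (tt N7051 (iv1 D23013)) (tt N29108 F75032) (tt N29106 F319382) (tt N29148 D47821) (tt N21290 F319339) (tt N29149 D47823) (tt N21289 (iv6 F321364)) (tt N29105 F319383))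
theorem Q14526 : ∀ i, i < 14526 → P i := stepQ 14525 Q14525 (allL N14525 (tt N29150 D47825) (tt N29151 D47826) (tt N29107 (iv2 F75028)) (tt N14581 (iv3 F36290)) (tt N29152 D47827) (tt N7051 (iv5 D23014)) (tt N7054 F36072) (tt N29153 D47828))
theorem Q14527 : ∀ i, i < 14527 → P i := stepQ 14526 Q14526 (allL N14526 (tt N29106 (iv1 F75027)) (tt N29105 F75031) (tt N29108 (iv2 F75030)) (tt N14582 (iv3 F36292)) (tt N29143 (iv4 F75108)) (tt N29153 (iv5 F75112)) (tt N14582 (iv6 F36293)) (tt N7051 (iv7 D23015)))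
theorem Q14528 : ∀ i, i < 14528 → P i := stepQ 14527 Q14527 (allL N14527 (tt N29154 D47829) (tt N29121 (iv0 F157768)) (tt N29155 D47831) (tt N7052 (iv3 D23016)) (tt N28209 (iv4 F73296)) (tt N29156 D47832) (tt N29157 D47833) (tt N28443 (iv7 F73870)))
theorem Q14529 : ∀ i, i < 14529 → P i := stepQ 14528 Q14528 (allL N14528 (tt N29158 D47834) (tt N27068 F291901) (tt N26608 (iv2 F65625)) (tt N29156 (iv3 F75114)) (tt N29159 D47836) (tt N7052 (iv5 D23017)) (tt N29160 D47837) (tt N29109 (iv7 F75035)))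
theorem Q14530 : ∀ i, i < 14530 → P i := stepQ 14529 Q14529 (allL N14529 (tt N14665 (iv1 F66291)) (tt N12891 F291916) (tt N14674 F36759) (tt N29157 (iv3 F75115)) (tt N26606 (iv4 F65622)) (tt N27381 (iv5 F70163)) (tt N7052 (iv6 D23018)) (tt N14673 (iv7 F66277)))
theorem Q14531 : ∀ i, i < 14531 → P i := stepQ 14530 Q14530 (allL N14530 (tt N29130 F177339) (tt N29161 D47839) (tt N29162 D47840) (tt N7053 (iv3 D23019)) (tt N26458 (iv4 F65227)) (tt N29163 D47841) (tt N29164 D47842) (tt N26607 (iv7 F65624)))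
theorem Q14532 : ∀ i, i < 14532 → P i := stepQ 14531 Q14531 (allL N14531 (tt N27068 (iv1 F291226)) (tt N29158 F75117) (tt N29109 (iv2 F75034)) (tt N29163 (iv3 F75122)) (tt N29165 D47843) (tt N7053 (iv5 D23020)) (tt N29166 D47844) (tt N26608 (iv7 F65626)))
theorem Q14533 : ∀ i, i < 14533 → P i := stepQ 14532 Q14532 (allL N14532 (tt N7110 (iv1 F290649)) (tt N27326 (iv0 F75126)) (tt N29110 (iv2 F75037)) (tt N29164 (iv3 F75123)) (tt N26244 (iv4 F290636)) (tt N29167 D47846) (tt N7053 (iv6 D23021)) (tt N29054 F290601))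
theorem Q14534 : ∀ i, i < 14534 → P i := stepQ 14533 Q14533 (allL N14533 (tt N29113 (iv1 F75047)) (tt N7054 (iv0 D23022)) (tt N29111 (iv2 F75044)) (tt N29168 D47848) (tt N29169 D47849) (tt N26352 (iv5 F75046)) (tt N29170 D47850) (tt N27875 F75045))
theorem Q14535 : ∀ i, i < 14535 → P i := stepQ 14534 Q14534 (allL N14534 (tt N7054 (iv1 D23023)) (tt N29113 F75042) (tt N27875 (iv2 F71714)) (tt N29171 D47851) (tt N29172 D47852) (tt N26353 (iv5 F64858)) (tt N29173 D47853) (tt N29111 (iv7 F75043)))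
theorem Q14536 : ∀ i, i < 14536 → P i := stepQ 14535 Q14535 (allL N14535 (tt N29174 D47854) (tt N29175 D47855) (tt N29112 (iv2 F75038)) (tt N29176 D47856) (tt N7054 (iv4 D23024)) (tt N29177 D47857) (tt N29152 (iv6 F75111)) (tt N29178 D47858))
theorem Q14537 : ∀ i, i < 14537 → P i := stepQ 14536 Q14536 (allL N14536 (tt N27875 F71717) (tt N29111 F75041) (tt N29113 (iv2 F75039)) (tt N14591 (iv3 F36294)) (tt N29178 (iv4 F75131)) (tt N7055 F36073) (tt N29179 D47859) (tt N7054 (iv7 D23025)))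
theorem Q14538 : ∀ i, i < 14538 → P i := stepQ 14537 Q14537 (allL N14537 (tt N26272 (iv1 F65636)) (tt N24439 F291982) (tt N26573 (iv2 F65546)) (tt N7058 F36084) (tt N26231 (iv4 F292149)) (tt N7056 (iv5 D23035)) (tt N13388 F291983) (tt N26585 (iv7 F65562)))
theorem Q14539 : ∀ i, i < 14539 → P i := stepQ 14538 Q14538 (allL N14538 (tt N7061 (iv1 F36093)) (tt N7057 (iv0 D23038)) (tt N27297 (iv2 F70029)) (tt N29180 D47862) (tt N13267 (iv4 F65545)) (tt N29181 D47863) (tt N14592 (iv6 F66366)) (tt N13774 F66365))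
theorem Q14540 : ∀ i, i < 14540 → P i := stepQ 14539 Q14539 (allL N14539 (tt N29182 D47864) (tt N27301 F176021) (tt N29183 D47866) (tt N7057 (iv3 D23040)) (tt N26446 (iv4 F65159)) (tt N29184 D47867) (tt N29185 D47868) (tt N26582 (iv7 F65558)))
theorem Q14541 : ∀ i, i < 14541 → P i := stepQ 14540 Q14540 (allL N14540 (tt N29186 D47869) (tt N29187 D47870) (tt N29115 (iv2 F75052)) (tt N29184 (iv3 F75140)) (tt N29188 D47871) (tt N7057 (iv5 D23041)) (tt N29189 D47872) (tt N29116 (iv7 F75064)))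
theorem Q14542 : ∀ i, i < 14542 → P i := stepQ 14541 Q14541 (allL N14541 (tt N25895 F66341) (tt N29190 D47873) (tt N13761 F63414) (tt N29185 (iv3 F75141)) (tt N7059 F36090) (tt N29191 D47874) (tt N7057 (iv6 D23042)) (tt N13753 (iv7 F63421)))
theorem Q14543 : ∀ i, i < 14543 → P i := stepQ 14542 Q14542 (allL N14542 (tt N7062 F36096) (tt N7058 (iv0 D23044)) (tt N13131 (iv2 F63272)) (tt N14542 F63273) (tt N29192 D47875) (tt N13122 (iv5 F63198)) (tt N13870 (iv6 F36095)) (tt N12763 (iv7 F292160)))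
theorem Q14544 : ∀ i, i < 14544 → P i := stepQ 14543 Q14543 (allL N14543 (tt N29193 D47877) (tt N29194 D47878) (tt N26310 F292848) (tt N29195 D47879) (tt N7058 (iv4 D23046)) (tt N29196 D47880) (tt N26301 F292849) (tt N29118 (iv7 F75070)))
theorem Q14545 : ∀ i, i < 14545 → P i := stepQ 14544 Q14544 (allL N14544 (tt N7100 F66119) (tt N12808 F66120) (tt N12806 F66121) (tt N29197 D47882) (tt N7060 (iv4 D23055)) (tt N29198 D47883) (tt N27662 F291578) (tt N12805 F66122))
theorem Q14546 : ∀ i, i < 14546 → P i := stepQ 14545 Q14545 (allL N14545 (tt N27159 (iv1 F291794)) (tt N26999 (iv0 F291822)) (tt N14154 (iv2 F65955)) (tt N7062 F36116) (tt N29199 D47887) (tt N7060 (iv5 D23056)) (tt N26776 (iv6 F292080)) (tt N14152 (iv7 F65952)))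
theorem Q14547 : ∀ i, i < 14547 → P i := stepQ 14546 Q14546 (allL N14546 (tt N24223 F290712) (tt N14471 F73745) (tt N14155 (iv2 F65956)) (tt N7063 F36117) (tt N27662 (iv4 F291027)) (tt N26777 (iv5 F291029)) (tt N7060 (iv6 D23057)) (tt N26473 (iv7 F290923)))
theorem Q14548 : ∀ i, i < 14548 → P i := stepQ 14547 Q14547 (allL N14547 (tt N27349 (iv1 F75213)) (tt N29200 D47892) (tt N29201 D47893) (tt N7061 (iv3 D23058)) (tt N29197 (iv4 F75165)) (tt N29202 D47894) (tt N29203 D47895) (tt N29114 (iv7 F75050)))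
theorem Q14549 : ∀ i, i < 14549 → P i := stepQ 14548 Q14548 (allL N14548 (tt N29187 (iv1 F75145)) (tt N29186 F75144) (tt N29116 (iv2 F75063)) (tt N29202 (iv3 F75214)) (tt N29204 D47896) (tt N7061 (iv5 D23059)) (tt N29205 D47897) (tt N29115 (iv7 F75053)))
theorem Q14550 : ∀ i, i < 14550 → P i := stepQ 14549 Q14549 (allL N14549 (tt N29206 D47898) (tt N27317 F75068) (tt N29117 (iv2 F75065)) (tt N29203 (iv3 F75215)) (tt N7063 F36118) (tt N29207 D47899) (tt N7061 (iv6 D23060)) (tt N29208 D47900))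
theorem Q14551 : ∀ i, i < 14551 → P i := stepQ 14550 Q14550 (allL N14550 (tt N29194 (iv1 F75161)) (tt N29193 F75160) (tt N29118 (iv2 F75069)) (tt N29209 D47901) (tt N7062 (iv4 D23061)) (tt N29210 D47902) (tt N29211 D47903) (tt N26310 F292847))
theorem Q14552 : ∀ i, i < 14552 → P i := stepQ 14551 Q14551 (allL N14551 (tt N13518 F293177) (tt N12783 F293178) (tt N12699 F293179) (tt N26776 F293180) (tt N29211 (iv4 F75226)) (tt N12678 F293181) (tt N7062 (iv6 D23062)) (tt N12703 F293182))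
theorem Q14553 : ∀ i, i < 14553 → P i := stepQ 14552 Q14552 (allL N14552 (tt N7111 F290782) (tt N7102 F290783) (tt N7109 F290784) (tt N26473 (iv3 F290922)) (tt N29208 (iv4 F75222)) (tt N14602 (iv5 F36330)) (tt N12909 F294009) (tt N7063 (iv7 D23066)))
theorem Q14554 : ∀ i, i < 14554 → P i := stepQ 14553 Q14553 (allL N14553 (tt N27011 F293192) (tt N27013 F293193) (tt N14193 F65977) (tt N13515 F36141) (tt N29212 D47934) (tt N7064 (iv5 D23096)) (tt N29213 D47935) (tt N14196 (iv7 F65706)))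
theorem Q14555 : ∀ i, i < 14555 → P i := stepQ 14554 Q14554 (allL N14554 (tt N26964 F291317) (tt N26968 F291318) (tt N14195 F65976) (tt N14245 F293191) (tt N7065 (iv4 D23099)) (tt N29214 D47942) (tt N13103 F291319) (tt N14198 (iv7 F65708)))
theorem Q14556 : ∀ i, i < 14556 → P i := stepQ 14555 Q14555 (allL N14555 (tt N7066 (iv1 F36217)) (tt N7066 (iv0 D23147)) (tt N14500 (iv2 F70969)) (tt N14257 F36216) (tt N29215 D47978) (tt N27685 (iv5 F70963)) (tt N29216 D47979) (tt N14500 F70968))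
theorem Q14557 : ∀ i, i < 14557 → P i := stepQ 14556 Q14556 (allL N14556 (tt N27366 (iv1 F70134)) (tt N27366 (iv0 F70136)) (tt N10566 F36218) (tt N7067 F36219) (tt N10548 (iv4 F36221)) (tt N7066 (iv5 D23148)) (tt N29217 D47980) (tt N10566 F36220))
theorem Q14558 : ∀ i, i < 14558 → P i := stepQ 14557 Q14557 (allL N14557 (tt N29218 D47981) (tt N29219 D47982) (tt N14501 F36222) (tt N7068 F36223) (tt N14557 F36224) (tt N29220 D47983) (tt N7066 (iv6 D23149)) (tt N29221 D47984))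
theorem Q14559 : ∀ i, i < 14559 → P i := stepQ 14558 Q14558 (allL N14558 (tt N29222 D47985) (tt N29223 D47986) (tt N7078 F36225) (tt N29217 (iv3 F75350)) (tt N12345 F36226) (tt N29224 D47987) (tt N7067 (iv6 D23150)) (tt N29225 D47988))
theorem Q14560 : ∀ i, i < 14560 → P i := stepQ 14559 Q14559 (allL N14559 (tt N7068 (iv1 D23151)) (tt N7082 F36227) (tt N7080 (iv2 F36229)) (tt N29226 D47989) (tt N25737 (iv4 F62947)) (tt N29227 D47990) (tt N14653 (iv6 F63022)) (tt N7079 F36228))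
theorem Q14561 : ∀ i, i < 14561 → P i := stepQ 14560 Q14560 (allL N14560 (tt N29228 D47991) (tt N27522 (iv0 F70374)) (tt N7081 F36230) (tt N29220 (iv3 F75355)) (tt N29229 D47992) (tt N7068 (iv5 D23152)) (tt N29224 (iv6 F75365)) (tt N29230 D47993))
theorem Q14562 : ∀ i, i < 14562 → P i := stepQ 14561 Q14561 (allL N14561 (tt N7080 (iv1 F36234)) (tt N7079 F36235) (tt N7082 F36231) (tt N29221 (iv3 F75357)) (tt N7072 F36232) (tt N29230 (iv5 F75378)) (tt N14505 F36233) (tt N7068 (iv7 D23153)))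
theorem Q14563 : ∀ i, i < 14563 → P i := stepQ 14562 Q14562 (allL N14562 (tt N27596 (iv1 F70598)) (tt N12814 F63076) (tt N7084 F62809) (tt N28586 (iv3 F74214)) (tt N7069 (iv4 D23156)) (tt N29231 D47994) (tt N13134 F293076) (tt N7086 F62810))
theorem Q14564 : ∀ i, i < 14564 → P i := stepQ 14563 Q14563 (allL N14563 (tt N12814 F63075) (tt N27596 F70597) (tt N7086 F62798) (tt N26956 (iv3 F68311)) (tt N7070 (iv4 D23159)) (tt N29232 D47996) (tt N14659 (iv6 F63324)) (tt N7084 F62799))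
theorem Q14565 : ∀ i, i < 14565 → P i := stepQ 14564 Q14564 (allL N14564 (tt N25545 F292827) (tt N29233 D47999) (tt N7090 F36238) (tt N29234 D48000) (tt N7071 (iv4 D23162)) (tt N28368 (iv5 F293837)) (tt N12728 F36239) (tt N29235 D48002))
theorem Q14566 : ∀ i, i < 14566 → P i := stepQ 14565 Q14565 (allL N14565 (tt N7089 (iv1 F36244)) (tt N7088 F36245) (tt N7091 F36240) (tt N14565 F36241) (tt N29235 (iv4 F75408)) (tt N7072 F36242) (tt N25556 F294235) (tt N7071 (iv7 D23163)))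
theorem Q14567 : ∀ i, i < 14567 → P i := stepQ 14566 Q14566 (allL N14566 (tt N14512 (iv1 F36247)) (tt N7073 (iv0 D23164)) (tt N14511 F36267) (tt N14517 F36246) (tt N28262 (iv4 F73516)) (tt N27452 F70299) (tt N29236 D48003) (tt N14510 (iv7 F36266)))
theorem Q14568 : ∀ i, i < 14568 → P i := stepQ 14567 Q14567 (allL N14567 (tt N7073 (iv1 D23165)) (tt N14512 F36252) (tt N14510 (iv2 F36268)) (tt N29237 D48004) (tt N27911 (iv4 F72099)) (tt N27453 (iv5 F71597)) (tt N29238 D48005) (tt N14511 F36269))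
theorem Q14569 : ∀ i, i < 14569 → P i := stepQ 14568 Q14568 (allL N14568 (tt N14511 (iv1 F36253)) (tt N14510 F36251) (tt N7073 (iv2 D23166)) (tt N14518 F36248) (tt N14163 F36249) (tt N27840 (iv5 F71662)) (tt N29239 D48006) (tt N14512 F36250))
theorem Q14570 : ∀ i, i < 14570 → P i := stepQ 14569 Q14569 (allL N14569 (tt N29240 D48007) (tt N29241 D48008) (tt N29239 (iv2 F75419)) (tt N7074 F36254) (tt N14164 F36255) (tt N29242 D48009) (tt N7073 (iv6 D23167)) (tt N14645 (iv7 F36639)))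
theorem Q14571 : ∀ i, i < 14571 → P i := stepQ 14570 Q14570 (allL N14570 (tt N29243 D48010) (tt N26359 (iv0 F64884)) (tt N14520 F36256) (tt N29242 (iv3 F75422)) (tt N29244 D48011) (tt N7074 (iv5 D23168)) (tt N27845 (iv6 F71670)) (tt N14647 (iv7 F36645)))
theorem Q14572 : ∀ i, i < 14572 → P i := stepQ 14571 Q14571 (allL N14571 (tt N14518 (iv1 F36258)) (tt N7075 (iv0 D23169)) (tt N14517 (iv2 F36259)) (tt N29245 D48012) (tt N10597 F36257) (tt N27471 (iv5 F70321)) (tt N29246 D48013) (tt N14516 (iv7 F36260)))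
theorem Q14573 : ∀ i, i < 14573 → P i := stepQ 14572 Q14572 (allL N14572 (tt N7075 (iv1 D23170)) (tt N14518 F36264) (tt N14516 F36263) (tt N14510 F36265) (tt N13241 (iv4 F36262)) (tt N27472 (iv5 F70327)) (tt N29247 D48014) (tt N14517 F36261))
theorem Q14574 : ∀ i, i < 14574 → P i := stepQ 14573 Q14573 (allL N14573 (tt N14517 (iv1 F36274)) (tt N14516 F36273) (tt N7075 (iv2 D23171)) (tt N14512 F36270) (tt N13210 F36271) (tt N27847 (iv5 F71678)) (tt N29248 D48015) (tt N14518 F36272))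
theorem Q14575 : ∀ i, i < 14575 → P i := stepQ 14574 Q14574 (allL N14574 (tt N29249 D48016) (tt N29250 D48017) (tt N29248 (iv2 F75439)) (tt N7076 F36275) (tt N13212 F36276) (tt N29251 D48018) (tt N7075 (iv6 D23172)) (tt N29252 D48019))
theorem Q14576 : ∀ i, i < 14576 → P i := stepQ 14575 Q14575 (allL N14575 (tt N29253 D48020) (tt N29254 D48021) (tt N14514 F36278) (tt N29251 (iv3 F75442)) (tt N29255 D48022) (tt N7076 (iv5 D23175)) (tt N27849 (iv6 F71685)) (tt N29256 D48023))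
theorem Q14577 : ∀ i, i < 14577 → P i := stepQ 14576 Q14576 (allL N14576 (tt N7131 (iv1 F66535)) (tt N13656 (iv0 F66714)) (tt N14515 F36279) (tt N29252 (iv3 F75443)) (tt N13208 F36280) (tt N29256 (iv5 F75457)) (tt N7130 F36281) (tt N7076 (iv7 D23176)))
theorem Q14578 : ∀ i, i < 14578 → P i := stepQ 14577 Q14577 (allL N14577 (tt N29257 D48024) (tt N29258 D48025) (tt N29259 D48026) (tt N7077 (iv3 D23177)) (tt N14521 F36285) (tt N12333 F36286) (tt N29260 D48027) (tt N14521 F36287))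
theorem Q14579 : ∀ i, i < 14579 → P i := stepQ 14578 Q14578 (allL N14578 (tt N29261 D48028) (tt N29262 D48029) (tt N12345 F36288) (tt N29260 (iv3 F75487)) (tt N7078 F36289) (tt N29263 D48030) (tt N7077 (iv6 D23178)) (tt N29264 D48031))
theorem Q14580 : ∀ i, i < 14580 → P i := stepQ 14579 Q14579 (allL N14579 (tt N29225 (iv1 F75371)) (tt N7078 (iv0 D23179)) (tt N29222 (iv2 F335083)) (tt N29265 D48033) (tt N29266 D48034) (tt N29267 D48035) (tt N29268 D48036) (tt N29223 F335082))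
theorem Q14581 : ∀ i, i < 14581 → P i := stepQ 14580 Q14580 (allL N14580 (tt N7078 (iv1 D23180)) (tt N29225 F75370) (tt N29223 F335077) (tt N29269 D48038) (tt N29270 D48039) (tt N29271 D48040) (tt N29272 D48041) (tt N29222 (iv7 F335084)))
theorem Q14582 : ∀ i, i < 14582 → P i := stepQ 14581 Q14581 (allL N14581 (tt N29273 D48042) (tt N29274 D48043) (tt N29224 (iv2 F75364)) (tt N14525 F36290) (tt N29275 D48044) (tt N7078 (iv5 D23181)) (tt N7081 F36291) (tt N29276 D48045))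
theorem Q14583 : ∀ i, i < 14583 → P i := stepQ 14582 Q14582 (allL N14582 (tt N29223 (iv1 F75363)) (tt N29222 F75369) (tt N29225 (iv2 F75366)) (tt N14526 F36292) (tt N29264 (iv4 F75493)) (tt N29276 (iv5 F75502)) (tt N14526 F36293) (tt N7078 (iv7 D23182)))
theorem Q14584 : ∀ i, i < 14584 → P i := stepQ 14583 Q14583 (allL N14583 (tt N29277 D48046) (tt N29238 F177392) (tt N29278 D48048) (tt N7079 (iv3 D23183)) (tt N14232 (iv4 F62959)) (tt N22056 F321143) (tt N25915 F293051) (tt N29226 (iv7 F75373)))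
theorem Q14585 : ∀ i, i < 14585 → P i := stepQ 14584 Q14584 (allL N14584 (tt N29279 D48051) (tt N26741 F292226) (tt N26977 (iv2 F68335)) (tt N22056 F321142) (tt N29280 D48053) (tt N7079 (iv5 D23184)) (tt N29281 D48054) (tt N29227 (iv7 F75375)))
theorem Q14586 : ∀ i, i < 14586 → P i := stepQ 14585 Q14585 (allL N14585 (tt N29246 (iv1 F157754)) (tt N29282 D48057) (tt N29283 D48058) (tt N7080 (iv3 D23186)) (tt N26857 (iv4 F68028)) (tt N29284 D48059) (tt N29285 D48060) (tt N26976 (iv7 F68334)))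
theorem Q14587 : ∀ i, i < 14587 → P i := stepQ 14586 Q14586 (allL N14586 (tt N26741 F292225) (tt N29279 F75508) (tt N29227 (iv2 F75374)) (tt N29284 (iv3 F75519)) (tt N29286 D48061) (tt N7080 (iv5 D23187)) (tt N29287 D48062) (tt N26977 (iv7 F68336)))
theorem Q14588 : ∀ i, i < 14588 → P i := stepQ 14587 Q14587 (allL N14587 (tt N7124 F62974) (tt N14643 F62975) (tt N14653 F63023) (tt N29285 (iv3 F75520)) (tt N25747 (iv4 F62971)) (tt N26349 (iv5 F64851)) (tt N7080 (iv6 D23188)) (tt N14654 (iv7 F63024)))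
theorem Q14589 : ∀ i, i < 14589 → P i := stepQ 14588 Q14588 (allL N14588 (tt N29230 (iv1 F75385)) (tt N7081 (iv0 D23189)) (tt N29228 (iv2 F75382)) (tt N29288 D48063) (tt N29289 D48064) (tt N26720 F291424) (tt N29290 D48065) (tt N27522 F75383))
theorem Q14590 : ∀ i, i < 14590 → P i := stepQ 14589 Q14589 (allL N14589 (tt N7081 (iv1 D23190)) (tt N29230 F75380) (tt N27522 (iv2 F70373)) (tt N20790 F297678) (tt N29291 D48067) (tt N26721 F291425) (tt N20788 (iv6 F299844)) (tt N29228 (iv7 F75381)))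
theorem Q14591 : ∀ i, i < 14591 → P i := stepQ 14590 Q14590 (allL N14590 (tt N29292 D48069) (tt N29293 D48070) (tt N29229 (iv2 F75376)) (tt N29294 D48071) (tt N7081 (iv4 D23191)) (tt N29295 D48072) (tt N29275 (iv6 F75500)) (tt N29296 D48073))
theorem Q14592 : ∀ i, i < 14592 → P i := stepQ 14591 Q14591 (allL N14591 (tt N27522 F70375) (tt N29228 F75379) (tt N29230 (iv2 F75377)) (tt N14536 F36294) (tt N29296 (iv4 F75522)) (tt N7082 F36295) (tt N29297 D48074) (tt N7081 (iv7 D23192)))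
theorem Q14593 : ∀ i, i < 14593 → P i := stepQ 14592 Q14592 (allL N14592 (tt N7086 (iv1 F36312)) (tt N7084 (iv0 D23205)) (tt N27596 (iv2 F70594)) (tt N29298 D48080) (tt N12818 F62533) (tt N29299 D48081) (tt N14538 F66366) (tt N12814 F62534))
theorem Q14594 : ∀ i, i < 14594 → P i := stepQ 14593 Q14593 (allL N14593 (tt N29300 D48082) (tt N27599 F176029) (tt N29301 D48084) (tt N7084 (iv3 D23207)) (tt N26846 (iv4 F67986)) (tt N29302 D48085) (tt N25507 F293594) (tt N26956 (iv7 F68312)))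
theorem Q14595 : ∀ i, i < 14595 → P i := stepQ 14594 Q14594 (allL N14594 (tt N29303 D48087) (tt N29304 D48088) (tt N29231 (iv2 F75387)) (tt N29302 (iv3 F75553)) (tt N29305 D48089) (tt N7084 (iv5 D23208)) (tt N29306 D48090) (tt N29232 (iv7 F75392)))
theorem Q14596 : ∀ i, i < 14596 → P i := stepQ 14595 Q14595 (allL N14595 (tt N27639 (iv1 F74220)) (tt N28589 (iv0 F74219)) (tt N28587 (iv2 F143250)) (tt N7086 (iv3 D23226)) (tt N25765 (iv4 F63055)) (tt N29307 D48104) (tt N29308 D48105) (tt N28586 F74215))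
theorem Q14597 : ∀ i, i < 14597 → P i := stepQ 14596 Q14596 (allL N14596 (tt N29304 (iv1 F75557)) (tt N29303 F75556) (tt N29232 (iv2 F75391)) (tt N29307 (iv3 F75579)) (tt N29309 D48106) (tt N7086 (iv5 D23227)) (tt N29310 D48107) (tt N29231 (iv7 F75388)))
theorem Q14598 : ∀ i, i < 14598 → P i := stepQ 14597 Q14597 (allL N14597 (tt N29311 D48108) (tt N25898 F63232) (tt N14659 F63328) (tt N29308 (iv3 F75580)) (tt N7087 F36326) (tt N29312 D48109) (tt N7086 (iv6 D23228)) (tt N14660 (iv7 F63334)))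
theorem Q14599 : ∀ i, i < 14599 → P i := stepQ 14598 Q14598 (allL N14598 (tt N14214 (iv1 F73958)) (tt N14200 (iv0 F68053)) (tt N14211 F65905) (tt N7088 (iv3 D23234)) (tt N13046 (iv4 F291856)) (tt N26631 F291499) (tt N13044 (iv6 F292021)) (tt N14212 F65903))
theorem Q14600 : ∀ i, i < 14600 → P i := stepQ 14599 Q14599 (allL N14599 (tt N29313 D48113) (tt N25677 F293313) (tt N25562 F293314) (tt N29314 D48115) (tt N7088 (iv4 D23235)) (tt N29315 D48116) (tt N25521 F293315) (tt N27557 (iv7 F70434)))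
theorem Q14601 : ∀ i, i < 14601 → P i := stepQ 14600 Q14600 (allL N14600 (tt N25658 (iv1 F293133)) (tt N26645 (iv0 F293142)) (tt N27260 F292061) (tt N7089 (iv3 D23239)) (tt N25778 (iv4 F68591)) (tt N13950 F65883) (tt N29316 D48120) (tt N25559 F292062))
theorem Q14602 : ∀ i, i < 14602 → P i := stepQ 14601 Q14601 (allL N14601 (tt N25677 F293045) (tt N29313 F75594) (tt N27557 (iv2 F70433)) (tt N29317 D48121) (tt N7089 (iv4 D23240)) (tt N29318 D48122) (tt N29319 D48123) (tt N25562 F293046))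
theorem Q14603 : ∀ i, i < 14603 → P i := stepQ 14602 Q14602 (allL N14602 (tt N13117 (iv1 F63281)) (tt N13584 (iv0 F291396)) (tt N13588 F291210) (tt N29316 (iv3 F75612)) (tt N29319 (iv4 F75617)) (tt N14552 F36330) (tt N7089 (iv6 D23241)) (tt N13589 (iv7 F291415)))
theorem Q14604 : ∀ i, i < 14604 → P i := stepQ 14603 Q14603 (allL N14603 (tt N29235 (iv1 F75410)) (tt N7090 (iv0 D23242)) (tt N25545 F292831) (tt N29320 D48124) (tt N25748 F68411) (tt N26714 (iv5 F293840)) (tt N25517 F292832) (tt N29233 (iv7 F75402)))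
theorem Q14605 : ∀ i, i < 14605 → P i := stepQ 14604 Q14604 (allL N14604 (tt N7090 (iv1 D23243)) (tt N29235 F75409) (tt N29233 F75403) (tt N29321 D48127) (tt N25749 (iv4 F66318)) (tt N26715 (iv5 F291817)) (tt N29322 D48129) (tt N25545 (iv7 F291819)))
theorem Q14606 : ∀ i, i < 14606 → P i := stepQ 14605 Q14605 (allL N14605 (tt N12841 (iv1 F293361)) (tt N26731 (iv0 F293486)) (tt N28368 (iv2 F293836)) (tt N27577 (iv3 F293867)) (tt N29323 D48137) (tt N7090 (iv5 D23245)) (tt N29324 D48138) (tt N28367 (iv7 F293839)))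
theorem Q14607 : ∀ i, i < 14607 → P i := stepQ 14606 Q14606 (allL N14606 (tt N29233 (iv1 F75401)) (tt N25545 F292828) (tt N29235 (iv2 F75407)) (tt N26723 (iv3 F293220)) (tt N7091 F36335) (tt N28367 (iv5 F293838)) (tt N27066 F292829) (tt N7090 (iv7 D23246)))
theorem Q14608 : ∀ i, i < 14608 → P i := stepQ 14607 Q14607 (allL N14607 (tt N29325 D48147) (tt N29326 D48148) (tt N14243 (iv2 F63004)) (tt N13331 F36388) (tt N29327 D48149) (tt N7092 (iv5 D23291)) (tt N29328 D48150) (tt N13290 (iv7 F293350)))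
theorem Q14609 : ∀ i, i < 14609 → P i := stepQ 14608 Q14608 (allL N14608 (tt N13615 (iv1 F294145)) (tt N29329 D48162) (tt N14246 (iv2 F65968)) (tt N14198 (iv3 F293951)) (tt N7093 (iv4 D23307)) (tt N26576 (iv5 F293952)) (tt N27144 F293132) (tt N14245 (iv7 F65730)))
theorem Q14610 : ∀ i, i < 14610 → P i := stepQ 14609 Q14609 (allL N14609 (tt N12683 F36428) (tt N12687 F36429) (tt N12754 F36426) (tt N25005 (iv3 F60113)) (tt N22407 F304369) (tt N7094 (iv5 D23316)) (tt N29330 D48184) (tt N12755 F36427))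
theorem Q14611 : ∀ i, i < 14611 → P i := stepQ 14610 Q14610 (allL N14610 (tt N7105 F66799) (tt N7108 F66800) (tt N12797 F36430) (tt N26526 (iv3 F65446)) (tt N13521 F36431) (tt N29331 D48185) (tt N7094 (iv6 D23317)) (tt N27782 (iv7 F291512)))
theorem Q14612 : ∀ i, i < 14612 → P i := stepQ 14611 Q14611 (allL N14611 (tt N11952 F36436) (tt N13026 F36437) (tt N12615 F36432) (tt N10763 F36433) (tt N7095 (iv4 D23318)) (tt N8731 F36435) (tt N29332 D48186) (tt N12618 F36434))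
theorem Q14613 : ∀ i, i < 14613 → P i := stepQ 14612 Q14612 (allL N14612 (tt N29333 D48187) (tt N29334 D48188) (tt N12823 F36438) (tt N28648 (iv3 F74332)) (tt N29332 (iv4 F75726)) (tt N29335 D48189) (tt N7095 (iv6 D23319)) (tt N29336 D48190))
theorem Q14614 : ∀ i, i < 14614 → P i := stepQ 14613 Q14613 (allL N14613 (tt N12827 (iv1 F36444)) (tt N7096 (iv0 D23320)) (tt N12824 F62944) (tt N29337 D48191) (tt N14082 F62945) (tt N29338 D48192) (tt N13660 F292890) (tt N12825 F62946))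
theorem Q14615 : ∀ i, i < 14615 → P i := stepQ 14614 Q14614 (allL N14614 (tt N7096 (iv1 D23321)) (tt N12827 F36439) (tt N12825 F62746) (tt N28203 F73278) (tt N14083 (iv4 F62758)) (tt N29339 D48194) (tt N25887 (iv6 F63343)) (tt N12824 F62747))
theorem Q14616 : ∀ i, i < 14616 → P i := stepQ 14615 Q14615 (allL N14615 (tt N29340 D48195) (tt N29341 D48196) (tt N12826 F36440) (tt N28650 (iv3 F74334)) (tt N29342 D48197) (tt N7096 (iv5 D23322)) (tt N29335 (iv6 F75729)) (tt N27052 (iv7 F68585)))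
theorem Q14617 : ∀ i, i < 14617 → P i := stepQ 14616 Q14616 (allL N14616 (tt N25663 (iv1 F61853)) (tt N13997 (iv0 F36470)) (tt N28388 (iv2 F73774)) (tt N7099 F36462) (tt N27936 (iv4 F72242)) (tt N7098 (iv5 D23342)) (tt N29343 D48202) (tt N12821 F36463))
theorem Q14618 : ∀ i, i < 14618 → P i := stepQ 14617 Q14617 (allL N14617 (tt N28523 (iv1 F74097)) (tt N28226 (iv0 F73377)) (tt N28389 (iv2 F73780)) (tt N7100 F36464) (tt N27592 (iv4 F70588)) (tt N29344 D48203) (tt N7098 (iv6 D23343)) (tt N26724 (iv7 F66959)))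
theorem Q14619 : ∀ i, i < 14619 → P i := stepQ 14618 Q14618 (allL N14618 (tt N13026 F36468) (tt N11952 F36469) (tt N12618 F36465) (tt N17033 F302074) (tt N7099 (iv4 D23344)) (tt N12591 F36466) (tt N20229 (iv6 F306647)) (tt N12615 F36467))
theorem Q14620 : ∀ i, i < 14620 → P i := stepQ 14619 Q14619 (allL N14619 (tt N29345 D48206) (tt N29346 D48207) (tt N12804 F36471) (tt N29343 (iv3 F75757)) (tt N20229 F307751) (tt N29347 D48208) (tt N7099 (iv6 D23345)) (tt N29348 D48209))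
theorem Q14621 : ∀ i, i < 14621 → P i := stepQ 14620 Q14620 (allL N14620 (tt N12808 (iv1 F36477)) (tt N7100 (iv0 D23346)) (tt N12805 F66346) (tt N26569 F66347) (tt N14145 F66348) (tt N29349 D48210) (tt N26754 F294357) (tt N12806 F66349))
theorem Q14622 : ∀ i, i < 14622 → P i := stepQ 14621 Q14621 (allL N14621 (tt N29350 D48211) (tt N29351 D48212) (tt N12807 F36473) (tt N29344 (iv3 F75758)) (tt N29352 D48213) (tt N7100 (iv5 D23348)) (tt N29347 (iv6 F75767)) (tt N26725 (iv7 F66962)))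
theorem Q14623 : ∀ i, i < 14623 → P i := stepQ 14622 Q14622 (allL N14622 (tt N27782 F291776) (tt N12797 F66875) (tt N7105 F66587) (tt N28391 (iv3 F73784)) (tt N7101 (iv4 D23365)) (tt N29353 D48217) (tt N26742 (iv6 F67044)) (tt N7108 F66588))
theorem Q14624 : ∀ i, i < 14624 → P i := stepQ 14623 Q14623 (allL N14623 (tt N29054 F74930) (tt N29110 (iv0 F290640)) (tt N7110 F36497) (tt N29354 D48225) (tt N7102 (iv4 D23374)) (tt N27823 (iv5 F290650)) (tt N12733 F36498) (tt N27326 (iv7 F290645)))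
theorem Q14625 : ∀ i, i < 14625 → P i := stepQ 14624 Q14624 (allL N14624 (tt N13280 F73907) (tt N27070 F290899) (tt N26889 (iv2 F68131)) (tt N7106 F36514) (tt N26694 (iv4 F291438)) (tt N13594 (iv5 F290934)) (tt N7104 (iv6 D23386)) (tt N13496 F290900))
theorem Q14626 : ∀ i, i < 14626 → P i := stepQ 14625 Q14625 (allL N14625 (tt N7108 (iv1 F36520)) (tt N7105 (iv0 D23388)) (tt N27782 (iv2 F291511)) (tt N29355 D48232) (tt N13792 F66739) (tt N29356 D48233) (tt N12869 F66740) (tt N12797 F66741))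
theorem Q14627 : ∀ i, i < 14627 → P i := stepQ 14626 Q14626 (allL N14626 (tt N28969 F74720) (tt N28647 F289745) (tt N29357 D48235) (tt N7105 (iv3 D23390)) (tt N27922 (iv4 F72133)) (tt N29358 D48236) (tt N29359 D48237) (tt N27783 (iv7 F292732)))
theorem Q14628 : ∀ i, i < 14628 → P i := stepQ 14627 Q14627 (allL N14627 (tt N29360 D48238) (tt N29361 D48239) (tt N29353 (iv2 F75784)) (tt N29358 (iv3 F75829)) (tt N29362 D48240) (tt N7105 (iv5 D23391)) (tt N29363 D48241) (tt N27784 (iv7 F292846)))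
theorem Q14629 : ∀ i, i < 14629 → P i := stepQ 14628 Q14628 (allL N14628 (tt N27662 F291562) (tt N27661 F291563) (tt N26742 (iv2 F67043)) (tt N29359 (iv3 F75830)) (tt N7106 F36517) (tt N29364 D48243) (tt N7105 (iv6 D23392)) (tt N13659 F291564))
theorem Q14630 : ∀ i, i < 14630 → P i := stepQ 14629 Q14629 (allL N14629 (tt N28390 (iv1 F73783)) (tt N28341 (iv0 F73636)) (tt N28392 (iv2 F148357)) (tt N7108 (iv3 D23410)) (tt N27654 (iv4 F70778)) (tt N29365 D48257) (tt N25591 (iv6 F293610)) (tt N28391 F73786))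
theorem Q14631 : ∀ i, i < 14631 → P i := stepQ 14630 Q14630 (allL N14630 (tt N29361 (iv1 F75833)) (tt N29360 F75832) (tt N27784 (iv2 F292845)) (tt N29365 (iv3 F75864)) (tt N29366 D48259) (tt N7108 (iv5 D23411)) (tt N29367 D48260) (tt N29353 (iv7 F75785)))
theorem Q14632 : ∀ i, i < 14632 → P i := stepQ 14631 Q14631 (allL N14631 (tt N26668 F74589) (tt N24427 (iv0 F72213)) (tt N26667 F66692) (tt N7109 (iv3 D23420)) (tt N26590 (iv4 F290695)) (tt N27199 (iv5 F69219)) (tt N13747 (iv6 F290696)) (tt N26586 (iv7 F290686)))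
theorem Q14633 : ∀ i, i < 14633 → P i := stepQ 14632 Q14632 (allL N14632 (tt N27317 F290957) (tt N29206 F290958) (tt N29208 (iv2 F291209)) (tt N29368 D48270) (tt N7109 (iv4 D23421)) (tt N29369 D48271) (tt N13753 (iv6 F291492)) (tt N29117 (iv7 F291206)))
theorem Q14634 : ∀ i, i < 14634 → P i := stepQ 14633 Q14633 (allL N14633 (tt N27326 (iv1 F290643)) (tt N7110 (iv0 D23429)) (tt N29054 (iv2 F74926)) (tt N29370 D48278) (tt N27625 F70686) (tt N29371 D48279) (tt N14673 (iv6 F290652)) (tt N29110 (iv7 F290642)))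
theorem Q14635 : ∀ i, i < 14635 → P i := stepQ 14634 Q14634 (allL N14634 (tt N27826 F290787) (tt N13725 F290788) (tt N27823 F290789) (tt N14658 (iv3 F291203)) (tt N29372 D48290) (tt N7110 (iv5 D23432)) (tt N29373 D48291) (tt N27824 F290790))
theorem Q14636 : ∀ i, i < 14636 → P i := stepQ 14635 Q14635 (allL N14635 (tt N29110 (iv1 F290641)) (tt N29054 (iv0 F74928)) (tt N27326 (iv2 F290644)) (tt N7122 (iv3 F290646)) (tt N7111 F36540) (tt N27824 (iv5 F290647)) (tt N7120 (iv6 F290648)) (tt N7110 (iv7 D23433)))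
theorem Q14637 : ∀ i, i < 14637 → P i := stepQ 14636 Q14636 (allL N14636 (tt N29374 D48293) (tt N29375 D48294) (tt N26496 F66686) (tt N12898 F36549) (tt N29376 D48295) (tt N7112 (iv5 D23449)) (tt N29377 D48296) (tt N14637 (iv7 F36590)))
theorem Q14638 : ∀ i, i < 14638 → P i := stepQ 14637 Q14637 (allL N14637 (tt N29378 D48311) (tt N27145 F69039) (tt N26907 (iv2 F68191)) (tt N12907 F36589) (tt N29379 D48312) (tt N7113 (iv5 D23477)) (tt N29380 D48313) (tt N14636 F36590))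
theorem Q14639 : ∀ i, i < 14639 → P i := stepQ 14638 Q14638 (allL N14638 (tt N14412 F291378) (tt N13310 (iv0 F63434)) (tt N26498 (iv2 F65367)) (tt N14681 F293270) (tt N7114 (iv4 D23485)) (tt N29381 D48326) (tt N13764 (iv6 F292191)) (tt N14197 F291379))
theorem Q14640 : ∀ i, i < 14640 → P i := stepQ 14639 Q14639 (allL N14639 (tt N29382 D48368) (tt N29383 D48369) (tt N29384 D48370) (tt N7115 (iv3 D23501)) (tt N25947 (iv4 F63673)) (tt N29385 D48371) (tt N27308 (iv6 F70048)) (tt N13781 (iv7 F63180)))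
theorem Q14641 : ∀ i, i < 14641 → P i := stepQ 14640 Q14640 (allL N14640 (tt N27363 (iv1 F70131)) (tt N27362 F70130) (tt N14662 (iv2 F36719)) (tt N29385 (iv3 F76034)) (tt N29386 D48372) (tt N7115 (iv5 D23502)) (tt N29387 D48373) (tt N13788 (iv7 F63181)))
theorem Q14642 : ∀ i, i < 14642 → P i := stepQ 14641 Q14641 (allL N14641 (tt N29388 D48374) (tt N29100 F289646) (tt N27324 (iv2 F70057)) (tt N7116 (iv3 D23517)) (tt N14641 F36627) (tt N29389 D48376) (tt N29390 D48377) (tt N14663 (iv7 F36732)))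
theorem Q14643 : ∀ i, i < 14643 → P i := stepQ 14642 Q14642 (allL N14642 (tt N14670 (iv1 F36754)) (tt N14669 F36753) (tt N7121 F36628) (tt N29389 (iv3 F76040)) (tt N14652 F340367) (tt N7116 (iv5 D23518)) (tt N14651 F340368) (tt N14664 (iv7 F36734)))
theorem Q14644 : ∀ i, i < 14644 → P i := stepQ 14643 Q14643 (allL N14643 (tt N14587 (iv1 F62975)) (tt N14657 F36656) (tt N7122 F36629) (tt N29390 (iv3 F76041)) (tt N7118 F36630) (tt N27838 F71658) (tt N7116 (iv6 D23519)) (tt N14644 (iv7 F36632)))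
theorem Q14645 : ∀ i, i < 14645 → P i := stepQ 14644 Q14644 (allL N14644 (tt N14654 (iv1 F36652)) (tt N14653 F36651) (tt N7124 F36631) (tt N29391 D48380) (tt N7117 (iv4 D23520)) (tt N27463 (iv5 F70303)) (tt N25920 (iv6 F291908)) (tt N14643 F36632))
theorem Q14646 : ∀ i, i < 14646 → P i := stepQ 14645 Q14645 (allL N14645 (tt N29392 D48381) (tt N29393 D48382) (tt N29394 D48383) (tt N7119 (iv3 D23522)) (tt N28341 (iv4 F73633)) (tt N29395 D48384) (tt N29126 (iv6 F75096)) (tt N14569 F36639))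
theorem Q14647 : ∀ i, i < 14647 → P i := stepQ 14646 Q14646 (allL N14646 (tt N12877 (iv1 F36644)) (tt N12789 (iv0 F36643)) (tt N12876 F36640) (tt N14378 F36642) (tt N7119 (iv4 D23523)) (tt N26320 (iv5 F64754)) (tt N24224 (iv6 F58143)) (tt N12764 F36641))
theorem Q14648 : ∀ i, i < 14648 → P i := stepQ 14647 Q14647 (allL N14647 (tt N29136 (iv1 F75103)) (tt N26333 F64769) (tt N14667 (iv2 F36740)) (tt N29395 (iv3 F76053)) (tt N29396 D48385) (tt N7119 (iv5 D23524)) (tt N29397 D48386) (tt N14570 F36645))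
theorem Q14649 : ∀ i, i < 14649 → P i := stepQ 14648 Q14648 (allL N14648 (tt N29398 D48387) (tt N29399 D48388) (tt N27325 (iv2 F70059)) (tt N7121 F36648) (tt N29400 D48389) (tt N7120 (iv5 D23528)) (tt N29401 D48390) (tt N14668 (iv7 F36750)))
theorem Q14650 : ∀ i, i < 14650 → P i := stepQ 14649 Q14649 (allL N14649 (tt N14664 (iv1 F36736)) (tt N7121 (iv0 D23530)) (tt N14670 F64871) (tt N29402 D48391) (tt N29403 D48392) (tt N26357 (iv5 F64867)) (tt N29404 D48393) (tt N14669 F64873))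
theorem Q14651 : ∀ i, i < 14651 → P i := stepQ 14650 Q14650 (allL N14650 (tt N7121 (iv1 D23531)) (tt N14664 F36735) (tt N14669 (iv2 F64875)) (tt N29405 D48394) (tt N29406 D48395) (tt N26358 F64880) (tt N29407 D48396) (tt N14670 (iv7 F64876)))
theorem Q14652 : ∀ i, i < 14652 → P i := stepQ 14651 Q14651 (allL N14651 (tt N29408 D48397) (tt N29409 D48398) (tt N14652 (iv2 F340352)) (tt N29410 D48399) (tt N7121 (iv4 D23532)) (tt N29411 D48400) (tt N14642 (iv6 F340368)) (tt N14671 (iv7 F36756)))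
theorem Q14653 : ∀ i, i < 14653 → P i := stepQ 14652 Q14652 (allL N14652 (tt N29412 D48402) (tt N29413 D48403) (tt N14651 F340352) (tt N29401 (iv3 F76067)) (tt N14642 (iv4 F340367)) (tt N29414 D48404) (tt N7121 (iv6 D23533)) (tt N29415 D48405))
theorem Q14654 : ∀ i, i < 14654 → P i := stepQ 14653 Q14653 (allL N14653 (tt N14644 (iv1 F36651)) (tt N7122 (iv0 D23534)) (tt N14587 (iv2 F63023)) (tt N29416 D48406) (tt N25896 (iv4 F62466)) (tt N26323 (iv5 F64760)) (tt N14559 F63022) (tt N14657 (iv7 F63025)))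
theorem Q14655 : ∀ i, i < 14655 → P i := stepQ 14654 Q14654 (allL N14654 (tt N7122 (iv1 D23535)) (tt N14644 F36652) (tt N14657 F63026) (tt N29417 D48407) (tt N25897 (iv4 F63079)) (tt N26324 (iv5 F64761)) (tt N12890 F291937) (tt N14587 F63024))
theorem Q14656 : ∀ i, i < 14656 → P i := stepQ 14655 Q14655 (allL N14655 (tt N13718 F36653) (tt N26346 (iv0 F64837)) (tt N27838 (iv2 F71659)) (tt N27824 (iv3 F71618)) (tt N29414 F340377) (tt N7122 (iv5 D23536)) (tt N29414 (iv6 F76071)) (tt N14658 (iv7 F36660)))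
theorem Q14657 : ∀ i, i < 14657 → P i := stepQ 14656 Q14656 (allL N14656 (tt N25898 (iv1 F63083)) (tt N29311 F75584) (tt N14660 F63335) (tt N29418 D48410) (tt N7123 (iv4 D23539)) (tt N29419 D48411) (tt N13139 (iv6 F294091)) (tt N14659 F63329))
theorem Q14658 : ∀ i, i < 14658 → P i := stepQ 14657 Q14657 (allL N14657 (tt N14643 (iv1 F36656)) (tt N7124 (iv0 D23547)) (tt N14654 (iv2 F63026)) (tt N29420 D48412) (tt N29421 D48413) (tt N26348 (iv5 F64846)) (tt N13140 (iv6 F291957)) (tt N14653 F63025))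
theorem Q14659 : ∀ i, i < 14659 → P i := stepQ 14658 Q14658 (allL N14658 (tt N26321 (iv1 F64838)) (tt N13893 F36661) (tt N27463 F70304) (tt N14634 F291203) (tt N29422 D48416) (tt N7124 (iv5 D23550)) (tt N29423 D48417) (tt N14655 F36660))
theorem Q14660 : ∀ i, i < 14660 → P i := stepQ 14659 Q14659 (allL N14659 (tt N29424 D48418) (tt N27361 F70129) (tt N14597 (iv2 F63328)) (tt N29425 D48419) (tt N7125 (iv4 D23556)) (tt N29426 D48420) (tt N14563 F63324) (tt N14656 (iv7 F63329)))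
theorem Q14661 : ∀ i, i < 14661 → P i := stepQ 14660 Q14660 (allL N14660 (tt N27361 F70128) (tt N29424 F76129) (tt N14656 (iv2 F63335)) (tt N29427 D48421) (tt N7126 (iv4 D23561)) (tt N29428 D48422) (tt N12888 F292818) (tt N14597 F63334))
theorem Q14662 : ∀ i, i < 14662 → P i := stepQ 14661 Q14661 (allL N14661 (tt N29429 D48436) (tt N27651 (iv0 F70773)) (tt N29430 D48437) (tt N7127 (iv3 D23602)) (tt N25874 (iv4 F62408)) (tt N29431 D48438) (tt N27647 (iv6 F70761)) (tt N13672 (iv7 F63150)))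
theorem Q14663 : ∀ i, i < 14663 → P i := stepQ 14662 Q14662 (allL N14662 (tt N27622 (iv1 F70656)) (tt N27621 F70655) (tt N14640 F36719) (tt N29431 (iv3 F76176)) (tt N29432 D48439) (tt N7127 (iv5 D23603)) (tt N29433 D48440) (tt N13675 (iv7 F63151)))
theorem Q14664 : ∀ i, i < 14664 → P i := stepQ 14663 Q14663 (allL N14663 (tt N29216 F289627) (tt N29434 D48442) (tt N27659 (iv2 F70795)) (tt N7128 (iv3 D23609)) (tt N14663 F36731) (tt N29435 D48443) (tt N29436 D48444) (tt N14641 F36732))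
theorem Q14665 : ∀ i, i < 14665 → P i := stepQ 14664 Q14664 (allL N14664 (tt N14650 (iv1 F36735)) (tt N14649 F36736) (tt N7132 F36733) (tt N29435 (iv3 F76185)) (tt N29415 F340347) (tt N7128 (iv5 D23610)) (tt N29437 D48446) (tt N14642 F36734))
theorem Q14666 : ∀ i, i < 14666 → P i := stepQ 14665 Q14665 (allL N14665 (tt N25919 F293020) (tt N14529 F66291) (tt N7133 F36737) (tt N29436 (iv3 F76187)) (tt N7129 F36738) (tt N27519 (iv5 F70364)) (tt N7128 (iv6 D23611)) (tt N25920 F293021))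
theorem Q14667 : ∀ i, i < 14667 → P i := stepQ 14666 Q14666 (allL N14666 (tt N29438 D48447) (tt N29439 D48448) (tt N29440 D48449) (tt N7130 (iv3 D23612)) (tt N25924 (iv4 F63613)) (tt N29441 D48450) (tt N29252 (iv6 F75445)) (tt N14519 F36739))
theorem Q14668 : ∀ i, i < 14668 → P i := stepQ 14667 Q14667 (allL N14667 (tt N26359 (iv1 F64883)) (tt N29243 F75425) (tt N14647 F36740) (tt N29441 (iv3 F76201)) (tt N29442 D48451) (tt N7130 (iv5 D23613)) (tt N29443 D48452) (tt N14520 F36741))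
theorem Q14669 : ∀ i, i < 14669 → P i := stepQ 14668 Q14668 (allL N14668 (tt N29444 D48453) (tt N27529 (iv0 F70378)) (tt N27660 (iv2 F70798)) (tt N7132 F36749) (tt N29445 D48454) (tt N7131 (iv5 D23617)) (tt N29446 D48455) (tt N14648 F36750))
theorem Q14670 : ∀ i, i < 14670 → P i := stepQ 14669 Q14669 (allL N14669 (tt N14642 (iv1 F36753)) (tt N7132 (iv0 D23619)) (tt N14650 F64875) (tt N29447 D48457) (tt N29448 D48458) (tt N26332 (iv5 F64767)) (tt N29449 D48459) (tt N14649 (iv7 F64873)))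
theorem Q14671 : ∀ i, i < 14671 → P i := stepQ 14670 Q14670 (allL N14670 (tt N7132 (iv1 D23620)) (tt N14642 F36754) (tt N14649 (iv2 F64871)) (tt N29450 D48460) (tt N29451 D48461) (tt N13909 F36755) (tt N29452 D48462) (tt N14650 F64876))
theorem Q14672 : ∀ i, i < 14672 → P i := stepQ 14671 Q14671 (allL N14671 (tt N29413 (iv1 F340344)) (tt N29412 (iv0 F340345)) (tt N29415 (iv2 F340343)) (tt N29453 D48465) (tt N7132 (iv4 D23621)) (tt N29454 D48466) (tt N29455 D48467) (tt N14651 F36756))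
theorem Q14673 : ∀ i, i < 14673 → P i := stepQ 14672 Q14672 (allL N14672 (tt N29456 D48468) (tt N29457 D48469) (tt N29437 (iv2 F76194)) (tt N29446 (iv3 F76211)) (tt N29455 (iv4 F76236)) (tt N29458 D48470) (tt N7132 (iv6 D23622)) (tt N29459 D48471))
theorem Q14674 : ∀ i, i < 14674 → P i := stepQ 14673 Q14673 (allL N14673 (tt N25920 F293018) (tt N7133 (iv0 D23623)) (tt N25919 F293019) (tt N29460 D48472) (tt N25899 (iv4 F66251)) (tt N13743 (iv5 F66252)) (tt N14633 F290652) (tt N14529 F66277))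
theorem Q14675 : ∀ i, i < 14675 → P i := stepQ 14674 Q14674 (allL N14674 (tt N7133 (iv1 D23624)) (tt N25920 F293016) (tt N14529 (iv2 F36759)) (tt N29461 D48473) (tt N13271 (iv4 F36757)) (tt N13744 F36760) (tt N13269 F36758) (tt N25919 F293017))
theorem Q14676 : ∀ i, i < 14676 → P i := stepQ 14675 Q14675 (allL N14675 (tt N27379 (iv1 F70155)) (tt N27161 (iv0 F69057)) (tt N27519 F70368) (tt N13141 F293033) (tt N29462 D48474) (tt N7133 (iv5 D23625)) (tt N29458 (iv6 F76237)) (tt N25921 F293034))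
theorem Q14677 : ∀ i, i < 14677 → P i := stepQ 14676 Q14676 (allL N14676 (tt N14329 F291460) (tt N25583 (iv0 F61574)) (tt N27327 (iv2 F70065)) (tt N13320 F293370) (tt N7134 (iv4 D23658)) (tt N29463 D48488) (tt N13315 F293371) (tt N13332 F291461))
theorem Q14678 : ∀ i, i < 14678 → P i := stepQ 14677 Q14677 (allL N14677 (tt N25575 (iv1 F61548)) (tt N23951 (iv0 F57005)) (tt N27665 (iv2 F70836)) (tt N29464 D48512) (tt N7135 (iv4 D23669)) (tt N29465 D48513) (tt N29466 D48514) (tt N12539 F36809))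
theorem Q14679 : ∀ i, i < 14679 → P i := stepQ 14678 Q14678 (allL N14678 (tt N10285 (iv1 F323118)) (tt N29467 D48516) (tt N27666 (iv2 F70841)) (tt N8862 F36810) (tt N29466 (iv4 F76350)) (tt N8928 F321455) (tt N7135 (iv6 D23670)) (tt N29468 D48517))
theorem Q14680 : ∀ i, i < 14680 → P i := stepQ 14679 Q14679 (allL N14679 (tt N12714 (iv1 F36833)) (tt N7136 (iv0 D23682)) (tt N12721 (iv2 F36832)) (tt N29469 D48545) (tt N11998 F36831) (tt N27275 (iv5 F291552)) (tt N26736 F291003) (tt N12720 F36834))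
theorem Q14681 : ∀ i, i < 14681 → P i := stepQ 14680 Q14680 (allL N14680 (tt N25598 (iv1 F61652)) (tt N25600 (iv0 F61656)) (tt N27668 (iv2 F70865)) (tt N26147 (iv3 F293502)) (tt N29470 D48550) (tt N7136 (iv5 D23684)) (tt N29471 D48551) (tt N12723 F36837))
theorem Q14682 : ∀ i, i < 14682 → P i := stepQ 14681 Q14681 (allL N14681 (tt N12858 (iv1 F293440)) (tt N14425 (iv0 F293439)) (tt N25885 (iv2 F293437)) (tt N14638 (iv3 F293270)) (tt N7137 F36838) (tt N29472 D48554) (tt N7136 (iv6 D23685)) (tt N13517 (iv7 F293503)))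
theorem Q14683 : ∀ i, i < 14683 → P i := stepQ 14682 Q14682 (allL N14682 (tt N28875 (iv1 F294445)) (tt N13345 (iv0 F133935)) (tt N24438 (iv2 F294486)) (tt N7138 (iv3 D23704)) (tt N28109 F293535) (tt N12736 (iv5 F294488)) (tt N26633 (iv6 F294489)) (tt N13574 F293536))
theorem Q14684 : ∀ i, i < 14684 → P i := stepQ 14683 Q14683 (allL N14683 (tt N26622 (iv1 F292410)) (tt N14452 (iv0 F292486)) (tt N13573 (iv2 F292485)) (tt N29473 D48622) (tt N7138 (iv4 D23705)) (tt N29474 D48623) (tt N26641 (iv6 F292495)) (tt N13579 F291557))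
theorem Q14685 : ∀ i, i < 14685 → P i := stepQ 14684 Q14684 (allL N14684 (tt N7950 (iv1 F36864)) (tt N7140 (iv0 D23708)) (tt N7562 (iv2 F36861)) (tt N7943 (iv3 F38408)) (tt N8909 F36868) (tt N9812 (iv5 F36865)) (tt N29475 D48631) (tt N7948 F36862))
theorem Q14686 : ∀ i, i < 14686 → P i := stepQ 14685 Q14685 (allL N14685 (tt N7140 (iv1 D23709)) (tt N7950 F36855) (tt N7948 F36857) (tt N7535 F36858) (tt N8910 F36860) (tt N9576 (iv5 F36856)) (tt N29476 D48632) (tt N7562 (iv7 F36859)))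
theorem Q14687 : ∀ i, i < 14687 → P i := stepQ 14686 Q14686 (allL N14686 (tt N18034 (iv1 F45163)) (tt N18036 (iv0 F45169)) (tt N7949 F36870) (tt N29477 D48633) (tt N7140 (iv4 D23710)) (tt N29478 D48634) (tt N7149 F36871) (tt N18074 (iv7 F45262)))
theorem Q14688 : ∀ i, i < 14688 → P i := stepQ 14687 Q14687 (allL N14687 (tt N7948 (iv1 F36875)) (tt N7562 F36876) (tt N7950 F36872) (tt N7598 F36873) (tt N18074 (iv4 F45259)) (tt N7141 F36874) (tt N29479 D48635) (tt N7140 (iv7 D23711)))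
theorem Q14689 : ∀ i, i < 14689 → P i := stepQ 14688 Q14688 (allL N14688 (tt N9818 F36879) (tt N15863 F39208) (tt N15829 (iv2 F39131)) (tt N7143 F36877) (tt N29480 D48636) (tt N7142 (iv5 D23712)) (tt N29481 D48637) (tt N7956 F36878))
theorem Q14690 : ∀ i, i < 14690 → P i := stepQ 14689 Q14689 (allL N14689 (tt N11072 (iv1 F36883)) (tt N20110 (iv0 F48838)) (tt N15830 (iv2 F39135)) (tt N7144 F36880) (tt N14707 (iv4 F36939)) (tt N9683 F36881) (tt N7142 (iv6 D23713)) (tt N19788 (iv7 F48317)))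
theorem Q14691 : ∀ i, i < 14691 → P i := stepQ 14690 Q14690 (allL N14690 (tt N7143 (iv1 D23714)) (tt N7145 F36887) (tt N7951 (iv2 F36890)) (tt N7583 (iv3 F36891)) (tt N18397 (iv4 F45870)) (tt N7877 F36889) (tt N29482 D48638) (tt N7876 F36888))
theorem Q14692 : ∀ i, i < 14692 → P i := stepQ 14691 Q14691 (allL N14691 (tt N15174 (iv1 F37977)) (tt N15666 (iv0 F38786)) (tt N7952 F36892) (tt N29483 D48639) (tt N7143 (iv4 D23715)) (tt N18179 (iv5 F45421)) (tt N29484 D48640) (tt N7958 F36893))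
theorem Q14693 : ∀ i, i < 14693 → P i := stepQ 14692 Q14692 (allL N14692 (tt N29485 D48641) (tt N29486 D48642) (tt N7953 F36894) (tt N29481 (iv3 F76495)) (tt N29484 (iv4 F76503)) (tt N15042 (iv5 F37729)) (tt N7143 (iv6 D23716)) (tt N29487 D48643))
theorem Q14694 : ∀ i, i < 14694 → P i := stepQ 14693 Q14693 (allL N14693 (tt N7954 (iv1 F36899)) (tt N7918 F36900) (tt N7955 F36895) (tt N19788 (iv3 F48316)) (tt N7235 F36896) (tt N7328 F36897) (tt N7391 F36898) (tt N7144 (iv7 D23717)))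
theorem Q14695 : ∀ i, i < 14695 → P i := stepQ 14694 Q14694 (allL N14694 (tt N15666 (iv1 F38787)) (tt N15174 (iv0 F37976)) (tt N7958 F36907) (tt N29488 D48644) (tt N7145 (iv4 D23718)) (tt N18180 (iv5 F45428)) (tt N29489 D48645) (tt N7952 F36908))
theorem Q14696 : ∀ i, i < 14696 → P i := stepQ 14695 Q14695 (allL N14695 (tt N29490 D48646) (tt N29491 D48647) (tt N7959 F36909) (tt N15835 (iv3 F39151)) (tt N29489 (iv4 F76512)) (tt N16068 (iv5 F39775)) (tt N7145 (iv6 D23719)) (tt N29492 D48648))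
theorem Q14697 : ∀ i, i < 14697 → P i := stepQ 14696 Q14696 (allL N14696 (tt N15536 (iv1 F38615)) (tt N7939 (iv0 F37381)) (tt N15836 (iv2 F39153)) (tt N7147 (iv3 D23720)) (tt N29493 D48649) (tt N16075 (iv5 F39793)) (tt N29494 D48650) (tt N7962 F36910))
theorem Q14698 : ∀ i, i < 14698 → P i := stepQ 14697 Q14697 (allL N14697 (tt N29495 D48651) (tt N29496 D48652) (tt N7961 F36911) (tt N29494 (iv3 F76527)) (tt N18171 (iv4 F45411)) (tt N18905 (iv5 F46629)) (tt N7147 (iv6 D23721)) (tt N29497 D48653))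
theorem Q14699 : ∀ i, i < 14699 → P i := stepQ 14698 Q14698 (allL N14698 (tt N29498 D48654) (tt N29499 D48655) (tt N7964 F36912) (tt N15840 (iv3 F39162)) (tt N18174 (iv4 F45417)) (tt N15003 (iv5 F37628)) (tt N7148 (iv6 D23722)) (tt N29500 D48656))
theorem Q14700 : ∀ i, i < 14700 → P i := stepQ 14699 Q14699 (allL N14699 (tt N7969 (iv1 F36916)) (tt N7149 (iv0 D23723)) (tt N7965 (iv2 F36914)) (tt N29501 D48657) (tt N7246 F36913) (tt N18411 (iv5 F45914)) (tt N29502 D48658) (tt N7966 (iv7 F36915)))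
theorem Q14701 : ∀ i, i < 14701 → P i := stepQ 14700 Q14700 (allL N14700 (tt N7149 (iv1 D23724)) (tt N7969 F36917) (tt N7966 (iv2 F36920)) (tt N29503 D48659) (tt N7247 F36919) (tt N29504 D48660) (tt N29505 D48661) (tt N7965 F36918))
theorem Q14702 : ∀ i, i < 14702 → P i := stepQ 14701 Q14701 (allL N14701 (tt N29506 D48662) (tt N29507 D48663) (tt N29508 D48664) (tt N7149 (iv3 D23725)) (tt N19918 (iv4 F48582)) (tt N29509 D48665) (tt N29477 (iv6 F76484)) (tt N29510 D48666))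
theorem Q14703 : ∀ i, i < 14703 → P i := stepQ 14702 Q14702 (allL N14702 (tt N18407 (iv1 F45904)) (tt N18399 (iv0 F45878)) (tt N7968 F36921) (tt N29509 (iv3 F76551)) (tt N8013 F36922) (tt N7149 (iv5 D23726)) (tt N29511 D48667) (tt N8011 (iv7 F36923)))
theorem Q14704 : ∀ i, i < 14704 → P i := stepQ 14703 Q14703 (allL N14703 (tt N7966 (iv1 F36927)) (tt N7965 F36928) (tt N7969 F36924) (tt N29510 (iv3 F76553)) (tt N7150 F36925) (tt N8011 F36926) (tt N29512 D48668) (tt N7149 (iv7 D23727)))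
theorem Q14705 : ∀ i, i < 14705 → P i := stepQ 14704 Q14704 (allL N14704 (tt N29513 D48669) (tt N29514 D48670) (tt N7970 F36929) (tt N15947 (iv3 F39396)) (tt N29512 (iv4 F76558)) (tt N14704 F36930) (tt N7150 (iv6 D23728)) (tt N29479 (iv7 F76489)))
theorem Q14706 : ∀ i, i < 14706 → P i := stepQ 14705 Q14705 (allL N14705 (tt N7644 (iv1 F36935)) (tt N7462 F36934) (tt N7151 (iv2 D23729)) (tt N7339 F36931) (tt N7751 F36932) (tt N29515 D48671) (tt N29516 D48672) (tt N7767 F36933))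
theorem Q14707 : ∀ i, i < 14707 → P i := stepQ 14706 Q14706 (allL N14706 (tt N29517 D48673) (tt N16085 F48793) (tt N29515 (iv2 F76561)) (tt N7152 F36936) (tt N20084 (iv4 F48808)) (tt N7151 (iv5 D23730)) (tt N29518 D48674) (tt N7982 F36937))
theorem Q14708 : ∀ i, i < 14708 → P i := stepQ 14707 Q14707 (allL N14707 (tt N16052 F39705) (tt N16054 (iv0 F39710)) (tt N29516 (iv2 F76566)) (tt N7153 F36938) (tt N14689 F36939) (tt N9403 (iv5 F36940)) (tt N7151 (iv6 D23731)) (tt N29519 D48675))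
theorem Q14709 : ∀ i, i < 14709 → P i := stepQ 14708 Q14708 (allL N14708 (tt N15118 (iv1 F37880)) (tt N18397 F45872) (tt N7973 F36942) (tt N29520 D48676) (tt N7152 (iv4 D23732)) (tt N18407 (iv5 F45901)) (tt N29521 D48677) (tt N7984 F36943))
theorem Q14710 : ∀ i, i < 14710 → P i := stepQ 14709 Q14709 (allL N14709 (tt N16059 F164091) (tt N29522 D48679) (tt N7974 F36944) (tt N29518 (iv3 F76578)) (tt N29521 (iv4 F76588)) (tt N9405 F36945) (tt N7152 (iv6 D23733)) (tt N29523 D48680))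
theorem Q14711 : ∀ i, i < 14711 → P i := stepQ 14710 Q14710 (allL N14710 (tt N7393 (iv1 F36950)) (tt N7914 F36951) (tt N7975 F36946) (tt N29519 (iv3 F76580)) (tt N7156 F36947) (tt N7305 F36948) (tt N7639 F36949) (tt N7153 (iv7 D23734)))
theorem Q14712 : ∀ i, i < 14712 → P i := stepQ 14711 Q14711 (allL N14711 (tt N29524 D48681) (tt N29525 D48682) (tt N29526 D48683) (tt N7154 (iv3 D23735)) (tt N14877 (iv4 F37338)) (tt N29527 D48684) (tt N26561 (iv6 F82980)) (tt N7986 F36952))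
theorem Q14713 : ∀ i, i < 14713 → P i := stepQ 14712 Q14712 (allL N14712 (tt N14885 (iv1 F37356)) (tt N7253 F36955) (tt N7979 F36953) (tt N29527 (iv3 F76613)) (tt N18399 (iv4 F45877)) (tt N7154 (iv5 D23736)) (tt N29528 D48686) (tt N7987 F36954))
theorem Q14714 : ∀ i, i < 14714 → P i := stepQ 14713 Q14713 (allL N14713 (tt N11442 F36958) (tt N18390 (iv0 F45861)) (tt N7980 F36956) (tt N26561 (iv3 F82979)) (tt N7155 F36957) (tt N29529 D48687) (tt N7154 (iv6 D23737)) (tt N14974 (iv7 F37554)))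
theorem Q14715 : ∀ i, i < 14715 → P i := stepQ 14714 Q14714 (allL N14714 (tt N26513 (iv1 F65416)) (tt N26512 (iv0 F65413)) (tt N26515 (iv2 F65423)) (tt N7157 (iv3 D23738)) (tt N14717 (iv4 F36964)) (tt N29530 D48688) (tt N26485 (iv6 F65310)) (tt N7994 F36959))
theorem Q14716 : ∀ i, i < 14716 → P i := stepQ 14715 Q14715 (allL N14715 (tt N16272 (iv1 F40245)) (tt N15177 (iv0 F37981)) (tt N7989 F36960) (tt N29530 (iv3 F76620)) (tt N29504 (iv4 F76546)) (tt N7157 (iv5 D23739)) (tt N29531 D48689) (tt N7995 F36961))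
theorem Q14717 : ∀ i, i < 14717 → P i := stepQ 14716 Q14716 (allL N14716 (tt N14882 F37352) (tt N14880 (iv0 F37704)) (tt N7990 F36962) (tt N26485 (iv3 F65309)) (tt N7158 F36963) (tt N23188 (iv5 F55149)) (tt N7157 (iv6 D23740)) (tt N14879 (iv7 F37342)))
theorem Q14718 : ∀ i, i < 14718 → P i := stepQ 14717 Q14717 (allL N14717 (tt N26532 (iv1 F65452)) (tt N26531 F65451) (tt N21173 (iv2 F50262)) (tt N7159 (iv3 D23741)) (tt N14714 F36964) (tt N29532 D48690) (tt N26546 (iv6 F65474)) (tt N8001 F36965))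
theorem Q14719 : ∀ i, i < 14719 → P i := stepQ 14718 Q14718 (allL N14718 (tt N16271 (iv1 F40242)) (tt N16078 (iv0 F39804)) (tt N7999 F36966) (tt N29532 (iv3 F76623)) (tt N18173 (iv4 F45414)) (tt N7159 (iv5 D23742)) (tt N29533 D48691) (tt N8002 F36967))
theorem Q14720 : ∀ i, i < 14720 → P i := stepQ 14719 Q14719 (allL N14719 (tt N10321 F36970) (tt N21180 F50288) (tt N8000 F36968) (tt N26546 (iv3 F65472)) (tt N7237 F36969) (tt N21493 (iv5 F51385)) (tt N7159 (iv6 D23743)) (tt N23194 (iv7 F55166)))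
theorem Q14721 : ∀ i, i < 14721 → P i := stepQ 14720 Q14720 (allL N14720 (tt N16078 (iv1 F39805)) (tt N16271 (iv0 F40241)) (tt N8002 F36971) (tt N16897 (iv3 F41506)) (tt N18170 (iv4 F45409)) (tt N7160 (iv5 D23744)) (tt N29534 D48692) (tt N7999 F36972))
theorem Q14722 : ∀ i, i < 14722 → P i := stepQ 14721 Q14721 (allL N14721 (tt N11789 F36977) (tt N9340 F36976) (tt N8003 F36973) (tt N16898 (iv3 F41509)) (tt N7205 F36974) (tt N13453 (iv5 F36975)) (tt N7160 (iv6 D23745)) (tt N23899 (iv7 F56707)))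
theorem Q14723 : ∀ i, i < 14723 → P i := stepQ 14722 Q14722 (allL N14722 (tt N7161 (iv1 D23746)) (tt N21186 F50295) (tt N21188 (iv2 F50297)) (tt N13451 F41553) (tt N16916 (iv4 F41558)) (tt N29535 D48693) (tt N13449 (iv6 F41552)) (tt N16914 F41551))
theorem Q14724 : ∀ i, i < 14724 → P i := stepQ 14723 Q14723 (allL N14723 (tt N16914 F41550) (tt N21188 F50300) (tt N7161 (iv2 D23747)) (tt N8006 F36978) (tt N7208 F36979) (tt N29536 D48694) (tt N7174 F36980) (tt N21186 (iv7 F50294)))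
theorem Q14725 : ∀ i, i < 14725 → P i := stepQ 14724 Q14724 (allL N14724 (tt N29537 D48695) (tt N29538 D48696) (tt N29536 (iv2 F76631)) (tt N7162 F36981) (tt N29539 D48697) (tt N7161 (iv5 D23748)) (tt N29540 D48698) (tt N29541 D48699))
theorem Q14726 : ∀ i, i < 14726 → P i := stepQ 14725 Q14725 (allL N14725 (tt N21188 (iv1 F50301)) (tt N16914 (iv0 F41549)) (tt N21186 F50293) (tt N7163 F36982) (tt N7210 F36983) (tt N29541 (iv5 F76637)) (tt N17123 (iv6 F42295)) (tt N7161 (iv7 D23749)))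
theorem Q14727 : ∀ i, i < 14727 → P i := stepQ 14726 Q14726 (allL N14726 (tt N8013 (iv1 F36987)) (tt N7162 (iv0 D23750)) (tt N8009 (iv2 F36985)) (tt N29542 D48700) (tt N18180 (iv4 F45429)) (tt N7233 F36984) (tt N29543 D48701) (tt N8010 (iv7 F36986)))
theorem Q14728 : ∀ i, i < 14728 → P i := stepQ 14727 Q14727 (allL N14727 (tt N7162 (iv1 D23751)) (tt N8013 F36988) (tt N8010 (iv2 F36991)) (tt N29544 D48702) (tt N18179 (iv4 F45422)) (tt N7203 F36990) (tt N29545 D48703) (tt N8009 F36989))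
theorem Q14729 : ∀ i, i < 14729 → P i := stepQ 14728 Q14728 (allL N14728 (tt N18399 (iv1 F45879)) (tt N18407 (iv0 F45903)) (tt N8011 F36992) (tt N29546 D48704) (tt N7162 (iv4 D23752)) (tt N7969 F36993) (tt N29547 D48705) (tt N7968 (iv7 F36994)))
theorem Q14730 : ∀ i, i < 14730 → P i := stepQ 14729 Q14729 (allL N14729 (tt N29548 D48706) (tt N29549 D48707) (tt N8012 F36995) (tt N29540 (iv3 F76634)) (tt N29547 (iv4 F76647)) (tt N7176 F36996) (tt N7162 (iv6 D23753)) (tt N29550 D48708))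
theorem Q14731 : ∀ i, i < 14731 → P i := stepQ 14730 Q14730 (allL N14730 (tt N8010 (iv1 F37000)) (tt N8009 F37001) (tt N8013 F36997) (tt N29541 (iv3 F76636)) (tt N7968 F36998) (tt N7163 F36999) (tt N29551 D48709) (tt N7162 (iv7 D23754)))
theorem Q14732 : ∀ i, i < 14732 → P i := stepQ 14731 Q14731 (allL N14731 (tt N8034 (iv1 F37003)) (tt N7164 (iv0 D23755)) (tt N8033 F37005) (tt N8612 F37002) (tt N26794 (iv4 F67749)) (tt N16414 F46137) (tt N29552 D48710) (tt N8032 (iv7 F37004)))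
theorem Q14733 : ∀ i, i < 14733 → P i := stepQ 14732 Q14732 (allL N14732 (tt N7164 (iv1 D23756)) (tt N8034 F37006) (tt N8032 (iv2 F37011)) (tt N11778 F37009) (tt N11768 (iv4 F37008)) (tt N16415 F46142) (tt N29553 D48711) (tt N8033 F37007))
theorem Q14734 : ∀ i, i < 14734 → P i := stepQ 14733 Q14733 (allL N14733 (tt N29554 D48712) (tt N29555 D48713) (tt N26819 (iv2 F67860)) (tt N7165 F37012) (tt N29556 D48714) (tt N7164 (iv5 D23757)) (tt N13167 F37013) (tt N8035 F37014))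
theorem Q14735 : ∀ i, i < 14735 → P i := stepQ 14734 Q14734 (allL N14734 (tt N29557 D48715) (tt N29558 D48716) (tt N8025 F37015) (tt N13167 F37016) (tt N8604 F37017) (tt N13163 F37018) (tt N7165 (iv6 D23758)) (tt N29559 D48717))
theorem Q14736 : ∀ i, i < 14736 → P i := stepQ 14735 Q14735 (allL N14735 (tt N8049 (iv1 F37020)) (tt N7167 (iv0 D23759)) (tt N8048 F37027) (tt N8378 F37019) (tt N29560 D48718) (tt N29554 (iv5 F76675)) (tt N29561 D48719) (tt N8047 (iv7 F37021)))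
theorem Q14737 : ∀ i, i < 14737 → P i := stepQ 14736 Q14736 (allL N14736 (tt N7167 (iv1 D23760)) (tt N8049 (iv0 F37024)) (tt N8047 (iv2 F37025)) (tt N8410 F37023) (tt N10808 (iv4 F37022)) (tt N29555 (iv5 F76668)) (tt N26512 F65411) (tt N8048 (iv7 F37026)))
theorem Q14738 : ∀ i, i < 14738 → P i := stepQ 14737 Q14737 (allL N14737 (tt N8048 (iv1 F37032)) (tt N8047 F37031) (tt N7167 (iv2 D23761)) (tt N8044 F37028) (tt N10742 F37029) (tt N29562 D48720) (tt N16158 (iv6 F40032)) (tt N8049 F37030))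
theorem Q14739 : ∀ i, i < 14739 → P i := stepQ 14738 Q14738 (allL N14738 (tt N16380 F55471) (tt N16383 F55472) (tt N29562 (iv2 F76706)) (tt N7168 F37033) (tt N29563 D48721) (tt N7167 (iv5 D23762)) (tt N29564 D48722) (tt N8050 F37034))
theorem Q14740 : ∀ i, i < 14740 → P i := stepQ 14739 Q14739 (allL N14739 (tt N29565 D48723) (tt N29566 D48724) (tt N8046 F37035) (tt N29564 (iv3 F76715)) (tt N11219 F37036) (tt N16164 (iv5 F40048)) (tt N7168 (iv6 D23763)) (tt N29567 D48725))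
theorem Q14741 : ∀ i, i < 14741 → P i := stepQ 14740 Q14740 (allL N14740 (tt N8064 (iv1 F37037)) (tt N7169 (iv0 D23764)) (tt N8063 (iv2 F83414)) (tt N16447 (iv3 F40538)) (tt N29568 D48727) (tt N23175 F76680) (tt N29569 D48728) (tt N8062 F83409))
theorem Q14742 : ∀ i, i < 14742 → P i := stepQ 14741 Q14741 (allL N14741 (tt N7169 (iv1 D23765)) (tt N8064 F37038) (tt N8062 F83408) (tt N29570 D48730) (tt N16443 (iv4 F40535)) (tt N23176 F65468) (tt N26531 F65467) (tt N8063 (iv7 F83415)))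
theorem Q14743 : ∀ i, i < 14743 → P i := stepQ 14742 Q14742 (allL N14742 (tt N29571 D48731) (tt N29572 D48732) (tt N21935 (iv2 F52205)) (tt N7170 F37039) (tt N22086 (iv4 F52462)) (tt N7169 (iv5 D23766)) (tt N29573 D48733) (tt N8065 F37040))
theorem Q14744 : ∀ i, i < 14744 → P i := stepQ 14743 Q14743 (allL N14743 (tt N29574 D48734) (tt N29575 D48735) (tt N8059 F37043) (tt N29573 (iv3 F76736)) (tt N9103 F37044) (tt N29576 D48736) (tt N7170 (iv6 D23768)) (tt N29577 D48737))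
theorem Q14745 : ∀ i, i < 14745 → P i := stepQ 14744 Q14744 (allL N14744 (tt N9294 F37046) (tt N16152 (iv0 F40011)) (tt N8060 F37045) (tt N27125 (iv3 F69008)) (tt N29578 D48738) (tt N7171 (iv5 D23769)) (tt N29576 (iv6 F76739)) (tt N19405 (iv7 F47554)))
theorem Q14746 : ∀ i, i < 14746 → P i := stepQ 14745 Q14745 (allL N14745 (tt N17118 F42280) (tt N10598 (iv0 F37048)) (tt N14960 (iv2 F37536)) (tt N7172 (iv3 D23770)) (tt N7314 F37047) (tt N21749 (iv5 F51814)) (tt N7313 (iv6 F37049)) (tt N18157 (iv7 F45393)))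
theorem Q14747 : ∀ i, i < 14747 → P i := stepQ 14746 Q14746 (allL N14746 (tt N21533 (iv1 F51460)) (tt N11410 F43064) (tt N17156 (iv2 F42385)) (tt N21749 F51816) (tt N27611 (iv4 F70633)) (tt N7172 (iv5 D23771)) (tt N29579 D48739) (tt N21537 (iv7 F51470)))
theorem Q14748 : ∀ i, i < 14748 → P i := stepQ 14747 Q14747 (allL N14747 (tt N19464 (iv1 F47721)) (tt N9359 (iv0 F37052)) (tt N17157 (iv2 F42387)) (tt N7313 F37050) (tt N7495 F37051) (tt N29580 D48740) (tt N7172 (iv6 D23772)) (tt N14963 (iv7 F37541)))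
theorem Q14749 : ∀ i, i < 14749 → P i := stepQ 14748 Q14748 (allL N14748 (tt N16444 F40536) (tt N16447 (iv0 F42423)) (tt N29581 D48741) (tt N7173 (iv3 D23773)) (tt N17169 (iv4 F42421)) (tt N29582 D48742) (tt N29583 D48743) (tt N17155 (iv7 F42383)))
theorem Q14750 : ∀ i, i < 14750 → P i := stepQ 14749 Q14749 (allL N14749 (tt N11410 (iv1 F43063)) (tt N21533 (iv0 F51459)) (tt N21537 F51469) (tt N29582 (iv3 F76758)) (tt N29584 D48744) (tt N7173 (iv5 D23774)) (tt N29585 D48745) (tt N17156 (iv7 F42386)))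
theorem Q14751 : ∀ i, i < 14751 → P i := stepQ 14750 Q14750 (allL N14750 (tt N10710 F42404) (tt N21179 F50279) (tt N17314 (iv2 F42758)) (tt N29583 (iv3 F76760)) (tt N17108 (iv4 F43614)) (tt N29586 D48746) (tt N7173 (iv6 D23775)) (tt N21923 (iv7 F52189)))
theorem Q14752 : ∀ i, i < 14752 → P i := stepQ 14751 Q14751 (allL N14751 (tt N16528 (iv1 F40648)) (tt N16527 F40640) (tt N7175 F37053) (tt N8081 F37054) (tt N29587 D48747) (tt N7174 (iv5 D23776)) (tt N29588 D48748) (tt N16529 (iv7 F40651)))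
theorem Q14753 : ∀ i, i < 14753 → P i := stepQ 14752 Q14752 (allL N14752 (tt N16529 (iv1 F40652)) (tt N7175 (iv0 D23777)) (tt N16528 (iv2 F40645)) (tt N17529 (iv3 F43588)) (tt N24297 (iv4 F58269)) (tt N10517 F40646) (tt N29589 D48749) (tt N16527 F40647))
theorem Q14754 : ∀ i, i < 14754 → P i := stepQ 14753 Q14753 (allL N14753 (tt N7175 (iv1 D23778)) (tt N16529 F40653) (tt N16527 F40642) (tt N29590 D48750) (tt N29591 D48751) (tt N10518 (iv5 F37309)) (tt N29592 D48752) (tt N16528 (iv7 F40643)))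
theorem Q14755 : ∀ i, i < 14755 → P i := stepQ 14754 Q14754 (allL N14754 (tt N29593 D48753) (tt N21662 (iv0 F51662)) (tt N29587 (iv2 F76765)) (tt N16513 (iv3 F40627)) (tt N7175 (iv4 D23779)) (tt N29594 D48754) (tt N29595 D48755) (tt N16510 F40622))
theorem Q14756 : ∀ i, i < 14756 → P i := stepQ 14755 Q14755 (allL N14755 (tt N29596 D48756) (tt N29597 D48757) (tt N29588 (iv2 F76768)) (tt N7176 F37055) (tt N29595 (iv4 F76782)) (tt N29540 (iv5 F76635)) (tt N7175 (iv6 D23780)) (tt N29598 D48758))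
theorem Q14757 : ∀ i, i < 14757 → P i := stepQ 14756 Q14756 (allL N14756 (tt N8094 (iv1 F37058)) (tt N7176 (iv0 D23781)) (tt N8092 (iv2 F161773)) (tt N29599 D48760) (tt N23160 F177788) (tt N29600 D48762) (tt N29601 D48763) (tt N8093 (iv7 F161779)))
theorem Q14758 : ∀ i, i < 14758 → P i := stepQ 14757 Q14757 (allL N14757 (tt N7176 (iv1 D23782)) (tt N8094 F37056) (tt N8093 F161780) (tt N29602 D48765) (tt N23161 F177795) (tt N29603 D48767) (tt N29604 D48768) (tt N8092 F161781))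
theorem Q14759 : ∀ i, i < 14759 → P i := stepQ 14758 Q14758 (allL N14758 (tt N8093 (iv1 F37059)) (tt N8092 F37060) (tt N8094 F37057) (tt N29598 (iv3 F76783)) (tt N16543 (iv4 F40661)) (tt N29550 (iv5 F76650)) (tt N16534 (iv6 F40657)) (tt N7176 (iv7 D23783)))
theorem Q14760 : ∀ i, i < 14760 → P i := stepQ 14759 Q14759 (allL N14759 (tt N15284 F45692) (tt N19677 F48141) (tt N8870 F37061) (tt N15722 (iv3 F38895)) (tt N19949 (iv4 F48625)) (tt N7177 (iv5 D23784)) (tt N15710 (iv6 F38869)) (tt N19184 (iv7 F47021)))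
theorem Q14761 : ∀ i, i < 14761 → P i := stepQ 14760 Q14760 (allL N14760 (tt N29605 D48769) (tt N29606 D48770) (tt N14761 (iv2 F37063)) (tt N29607 D48771) (tt N7178 (iv4 D23785)) (tt N29608 D48772) (tt N8988 F37062) (tt N19185 (iv7 F47025)))
theorem Q14762 : ∀ i, i < 14762 → P i := stepQ 14761 Q14761 (allL N14761 (tt N19923 (iv1 F48592)) (tt N19582 (iv0 F47998)) (tt N14760 F37063) (tt N29609 D48773) (tt N7179 (iv4 D23786)) (tt N29610 D48774) (tt N8996 F37064) (tt N18770 (iv7 F46483)))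
theorem Q14763 : ∀ i, i < 14763 → P i := stepQ 14762 Q14762 (allL N14762 (tt N7889 F37068) (tt N10175 F37075) (tt N7186 F37065) (tt N7541 F37066) (tt N29611 D48775) (tt N7180 (iv5 D23787)) (tt N29612 D48776) (tt N7189 F37067))
theorem Q14764 : ∀ i, i < 14764 → P i := stepQ 14763 Q14763 (allL N14763 (tt N10175 (iv1 F37074)) (tt N7889 (iv0 F37073)) (tt N7189 F37070) (tt N9018 F37071) (tt N29613 D48777) (tt N7181 (iv5 D23788)) (tt N29614 D48778) (tt N7186 F37072))
theorem Q14765 : ∀ i, i < 14765 → P i := stepQ 14764 Q14764 (allL N14764 (tt N7194 (iv1 F37087)) (tt N7182 (iv0 D23789)) (tt N7191 F37090) (tt N18635 F46302) (tt N29615 D48779) (tt N15658 F38769) (tt N29616 D48780) (tt N7192 F37089))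
theorem Q14766 : ∀ i, i < 14766 → P i := stepQ 14765 Q14765 (allL N14765 (tt N7182 (iv1 D23790)) (tt N7194 F37076) (tt N7192 F37079) (tt N9860 (iv3 F37077)) (tt N29617 D48781) (tt N7425 (iv5 F37078)) (tt N29618 D48782) (tt N7191 (iv7 F37091)))
theorem Q14767 : ∀ i, i < 14767 → P i := stepQ 14766 Q14766 (allL N14766 (tt N16620 (iv1 F40809)) (tt N15128 (iv0 F37896)) (tt N7193 F37083) (tt N29619 D48783) (tt N7182 (iv4 D23791)) (tt N29620 D48784) (tt N15267 (iv6 F38125)) (tt N29621 D48785))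
theorem Q14768 : ∀ i, i < 14768 → P i := stepQ 14767 Q14767 (allL N14767 (tt N7192 (iv1 F37088)) (tt N7191 F37092) (tt N7194 F37084) (tt N9004 F37085) (tt N29621 (iv4 F76826)) (tt N7183 F37086) (tt N29622 D48786) (tt N7182 (iv7 D23792)))
theorem Q14769 : ∀ i, i < 14769 → P i := stepQ 14768 Q14768 (allL N14768 (tt N10256 F37098) (tt N20022 F48741) (tt N9008 F37095) (tt N7186 F37096) (tt N29623 D48787) (tt N7184 (iv5 D23793)) (tt N29624 D48788) (tt N9018 F37097))
theorem Q14770 : ∀ i, i < 14770 → P i := stepQ 14769 Q14769 (allL N14769 (tt N9396 F38727) (tt N20006 (iv0 F48715)) (tt N9009 F37099) (tt N7187 F37100) (tt N8999 F37101) (tt N16140 F39980) (tt N7184 (iv6 D23794)) (tt N18787 (iv7 F46504)))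
theorem Q14771 : ∀ i, i < 14771 → P i := stepQ 14770 Q14770 (allL N14770 (tt N16038 F39671) (tt N18062 F45235) (tt N18027 (iv2 F45141)) (tt N15744 (iv3 F38975)) (tt N29625 D48789) (tt N7185 (iv5 D23795)) (tt N29626 D48790) (tt N18061 (iv7 F45230)))
theorem Q14772 : ∀ i, i < 14772 → P i := stepQ 14771 Q14771 (allL N14771 (tt N16051 F39701) (tt N29627 D48791) (tt N18028 (iv2 F45145)) (tt N15745 (iv3 F38978)) (tt N7187 F37103) (tt N18225 F45564) (tt N7185 (iv6 D23796)) (tt N18788 (iv7 F46511)))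
theorem Q14773 : ∀ i, i < 14773 → P i := stepQ 14772 Q14772 (allL N14772 (tt N7189 (iv1 F37106)) (tt N7186 (iv0 D23797)) (tt N7889 (iv2 F37105)) (tt N9010 F37108) (tt N29628 D48792) (tt N7882 F37104) (tt N29629 D48793) (tt N10175 F37107))
theorem Q14774 : ∀ i, i < 14774 → P i := stepQ 14773 Q14773 (allL N14773 (tt N29630 D48794) (tt N29631 D48795) (tt N29611 (iv2 F76797)) (tt N29632 D48796) (tt N7186 (iv4 D23798)) (tt N29633 D48797) (tt N29634 D48798) (tt N29613 (iv7 F76804)))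
theorem Q14775 : ∀ i, i < 14775 → P i := stepQ 14774 Q14774 (allL N14774 (tt N29635 D48799) (tt N10188 F111391) (tt N29612 (iv2 F76800)) (tt N29624 (iv3 F76842)) (tt N29634 (iv4 F76865)) (tt N29636 D48801) (tt N7186 (iv6 D23799)) (tt N29637 D48802))
theorem Q14776 : ∀ i, i < 14776 → P i := stepQ 14775 Q14775 (allL N14775 (tt N7420 F37111) (tt N7432 (iv0 F37112)) (tt N7430 F37109) (tt N16140 (iv3 F39981)) (tt N29638 D48803) (tt N7187 (iv5 D23800)) (tt N29636 (iv6 F76867)) (tt N7429 F37110))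
theorem Q14777 : ∀ i, i < 14777 → P i := stepQ 14776 Q14776 (allL N14776 (tt N20452 (iv1 F49318)) (tt N10145 F38391) (tt N7556 F37113) (tt N7189 F37114) (tt N29639 D48804) (tt N7188 (iv5 D23801)) (tt N29640 D48805) (tt N7541 F37115))
theorem Q14778 : ∀ i, i < 14778 → P i := stepQ 14777 Q14777 (allL N14777 (tt N20442 (iv1 F49310)) (tt N9190 F39262) (tt N7557 F37116) (tt N7190 F37117) (tt N7533 F37118) (tt N16088 (iv5 F39843)) (tt N7188 (iv6 D23802)) (tt N16108 (iv7 F39920)))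
theorem Q14779 : ∀ i, i < 14779 → P i := stepQ 14778 Q14778 (allL N14778 (tt N29631 (iv1 F76862)) (tt N29630 F76860) (tt N29613 (iv2 F76803)) (tt N29641 D48806) (tt N7189 (iv4 D23803)) (tt N29642 D48807) (tt N29643 D48808) (tt N29611 (iv7 F76798)))
theorem Q14780 : ∀ i, i < 14780 → P i := stepQ 14779 Q14779 (allL N14779 (tt N10276 F50061) (tt N29644 D48809) (tt N29614 (iv2 F76806)) (tt N29640 (iv3 F76876)) (tt N29643 (iv4 F76877)) (tt N16090 (iv5 F39853)) (tt N7189 (iv6 D23804)) (tt N29645 D48810))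
theorem Q14781 : ∀ i, i < 14781 → P i := stepQ 14780 Q14780 (allL N14780 (tt N10251 F39878) (tt N15710 (iv0 F38871)) (tt N9856 F37123) (tt N7191 (iv3 D23805)) (tt N9739 F37120) (tt N16099 (iv5 F39871)) (tt N29646 D48811) (tt N9860 F37119))
theorem Q14782 : ∀ i, i < 14782 → P i := stepQ 14781 Q14781 (allL N14781 (tt N29647 D48812) (tt N19920 (iv0 F48586)) (tt N29615 (iv2 F76811)) (tt N29648 D48813) (tt N7191 (iv4 D23806)) (tt N29649 D48814) (tt N29650 D48815) (tt N29617 (iv7 F76818)))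
theorem Q14783 : ∀ i, i < 14783 → P i := stepQ 14782 Q14782 (allL N14782 (tt N29651 D48816) (tt N29652 D48817) (tt N29616 (iv2 F76814)) (tt N29646 (iv3 F76889)) (tt N29650 (iv4 F76896)) (tt N18776 (iv5 F46493)) (tt N7191 (iv6 D23807)) (tt N29653 D48818))
theorem Q14784 : ∀ i, i < 14784 → P i := stepQ 14783 Q14783 (allL N14783 (tt N15343 F38280) (tt N10137 (iv0 F37128)) (tt N18636 F46306) (tt N7192 (iv3 D23808)) (tt N19649 (iv4 F48053)) (tt N9579 F37127) (tt N29654 D48819) (tt N18635 (iv7 F46303)))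
theorem Q14785 : ∀ i, i < 14785 → P i := stepQ 14784 Q14784 (allL N14784 (tt N19920 (iv1 F48587)) (tt N29647 F76892) (tt N29617 (iv2 F76816)) (tt N29655 D48820) (tt N7192 (iv4 D23809)) (tt N29656 D48821) (tt N29657 D48822) (tt N29615 (iv7 F76812)))
theorem Q14786 : ∀ i, i < 14786 → P i := stepQ 14785 Q14785 (allL N14785 (tt N29658 D48823) (tt N29659 D48824) (tt N29618 (iv2 F76820)) (tt N29654 (iv3 F76897)) (tt N29657 (iv4 F76899)) (tt N29660 D48825) (tt N7192 (iv6 D23810)) (tt N29661 D48826))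
theorem Q14787 : ∀ i, i < 14787 → P i := stepQ 14786 Q14786 (allL N14786 (tt N29621 (iv1 F76828)) (tt N7193 (iv0 D23811)) (tt N16620 (iv2 F40806)) (tt N29662 D48827) (tt N14946 F37502) (tt N29663 D48828) (tt N29664 D48829) (tt N15128 (iv7 F37895)))
theorem Q14788 : ∀ i, i < 14788 → P i := stepQ 14787 Q14787 (allL N14787 (tt N7193 (iv1 D23812)) (tt N29621 F76827) (tt N15128 (iv2 F37894)) (tt N29665 D48830) (tt N15127 (iv4 F37893)) (tt N29666 D48831) (tt N29667 D48832) (tt N16620 (iv7 F40807)))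
theorem Q14789 : ∀ i, i < 14789 → P i := stepQ 14788 Q14788 (allL N14788 (tt N29668 D48833) (tt N29669 D48834) (tt N29670 D48835) (tt N7193 (iv3 D23813)) (tt N7198 F37129) (tt N29671 D48836) (tt N15292 (iv6 F38172)) (tt N20552 (iv7 F49406)))
theorem Q14790 : ∀ i, i < 14790 → P i := stepQ 14789 Q14789 (allL N14789 (tt N29672 D48837) (tt N29673 D48838) (tt N29620 (iv2 F76824)) (tt N29671 (iv3 F76907)) (tt N29674 D48839) (tt N7193 (iv5 D23814)) (tt N29675 D48840) (tt N29676 D48841))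
theorem Q14791 : ∀ i, i < 14791 → P i := stepQ 14790 Q14790 (allL N14790 (tt N15128 F37897) (tt N16620 (iv0 F40808)) (tt N29621 (iv2 F76825)) (tt N20552 (iv3 F49405)) (tt N7194 F37130) (tt N29676 (iv5 F76914)) (tt N29677 D48842) (tt N7193 (iv7 D23815)))
theorem Q14792 : ∀ i, i < 14792 → P i := stepQ 14791 Q14791 (allL N14791 (tt N29678 D48843) (tt N29679 D48844) (tt N29622 (iv2 F76829)) (tt N7200 F37131) (tt N29677 (iv4 F76915)) (tt N14791 F37132) (tt N7194 (iv6 D23816)) (tt N15295 (iv7 F38176)))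
theorem Q14793 : ∀ i, i < 14793 → P i := stepQ 14792 Q14792 (allL N14792 (tt N20782 (iv1 F49604)) (tt N16166 (iv0 F40055)) (tt N15782 (iv2 F39052)) (tt N10087 F37133) (tt N7195 (iv4 D23817)) (tt N29680 D48845) (tt N29681 D48846) (tt N9040 F37134))
theorem Q14794 : ∀ i, i < 14794 → P i := stepQ 14793 Q14793 (allL N14793 (tt N29682 D48847) (tt N29683 D48848) (tt N15783 (iv2 F39053)) (tt N7196 F37135) (tt N29681 (iv4 F76919)) (tt N18668 (iv5 F46378)) (tt N7195 (iv6 D23818)) (tt N29684 D48849))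
theorem Q14795 : ∀ i, i < 14795 → P i := stepQ 14794 Q14794 (allL N14794 (tt N9038 (iv1 F37141)) (tt N7196 (iv0 D23819)) (tt N9035 F76941) (tt N29685 D48851) (tt N16717 (iv4 F46742)) (tt N29686 D48852) (tt N10191 (iv6 F38045)) (tt N9036 F76942))
theorem Q14796 : ∀ i, i < 14796 → P i := stepQ 14795 Q14795 (allL N14795 (tt N7196 (iv1 D23820)) (tt N9038 F37136) (tt N9036 (iv2 F76937)) (tt N29652 (iv3 F101893)) (tt N16718 F47154) (tt N19339 (iv5 F47362)) (tt N29687 D48855) (tt N9035 (iv7 F76940)))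
theorem Q14797 : ∀ i, i < 14797 → P i := stepQ 14796 Q14796 (allL N14796 (tt N9036 (iv1 F37142)) (tt N9035 F37143) (tt N9038 F37137) (tt N29684 (iv3 F76920)) (tt N10094 F37138) (tt N9438 F37139) (tt N9044 F37140) (tt N7196 (iv7 D23821)))
theorem Q14798 : ∀ i, i < 14798 → P i := stepQ 14797 Q14797 (allL N14797 (tt N9044 (iv1 F37149)) (tt N7197 (iv0 D23822)) (tt N9042 F78651) (tt N29658 F166103) (tt N12516 F317413) (tt N9042 (iv5 F37151)) (tt N29688 D48858) (tt N9043 (iv7 F78656)))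
theorem Q14799 : ∀ i, i < 14799 → P i := stepQ 14798 Q14798 (allL N14798 (tt N7197 (iv1 D23823)) (tt N9044 F37144) (tt N9043 (iv2 F78655)) (tt N29689 D48860) (tt N16739 (iv4 F53667)) (tt N9043 F37145) (tt N15308 (iv6 F38209)) (tt N9042 F78652))
theorem Q14800 : ∀ i, i < 14800 → P i := stepQ 14799 Q14799 (allL N14799 (tt N9043 (iv1 F37150)) (tt N9042 F37152) (tt N9044 F37146) (tt N15793 (iv3 F39063)) (tt N10102 F37147) (tt N15300 (iv5 F38186)) (tt N9038 F37148) (tt N7197 (iv7 D23824)))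
theorem Q14801 : ∀ i, i < 14801 → P i := stepQ 14800 Q14800 (allL N14800 (tt N20551 (iv1 F49402)) (tt N7198 (iv0 D23825)) (tt N20550 (iv2 F173681)) (tt N29690 D48862) (tt N29691 D48863) (tt N29692 D48864) (tt N29693 D48865) (tt N20549 F173680))
theorem Q14802 : ∀ i, i < 14802 → P i := stepQ 14801 Q14801 (allL N14801 (tt N7198 (iv1 D23826)) (tt N20551 F49404) (tt N20549 F173675) (tt N29694 D48867) (tt N29695 D48868) (tt N29696 D48869) (tt N29697 D48870) (tt N20550 (iv7 F173682)))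
theorem Q14803 : ∀ i, i < 14803 → P i := stepQ 14802 Q14802 (allL N14802 (tt N20550 (iv1 F49403)) (tt N20549 F49398) (tt N7198 (iv2 D23827)) (tt N9047 F37153) (tt N29670 (iv4 F76905)) (tt N29698 D48871) (tt N15313 (iv6 F38218)) (tt N20551 (iv7 F49401)))
theorem Q14804 : ∀ i, i < 14804 → P i := stepQ 14803 Q14803 (allL N14803 (tt N21620 (iv1 F315170)) (tt N29699 D48873) (tt N29698 (iv2 F76979)) (tt N7199 F37154) (tt N29700 D48874) (tt N7198 (iv5 D23828)) (tt N29701 D48875) (tt N9096 F37155))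
theorem Q14805 : ∀ i, i < 14805 → P i := stepQ 14804 Q14804 (allL N14804 (tt N21463 F167437) (tt N21467 F167438) (tt N9050 F37156) (tt N29701 (iv3 F76988)) (tt N9101 F37157) (tt N15316 (iv5 F38225)) (tt N7199 (iv6 D23829)) (tt N29702 D48878))
theorem Q14806 : ∀ i, i < 14806 → P i := stepQ 14805 Q14805 (allL N14805 (tt N7439 (iv1 F37158)) (tt N7200 (iv0 D23830)) (tt N9052 (iv2 F45485)) (tt N29703 D48879) (tt N10126 (iv4 F101300)) (tt N20891 (iv5 F49799)) (tt N18826 (iv6 F46553)) (tt N9053 F45484))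
theorem Q14807 : ∀ i, i < 14807 → P i := stepQ 14806 Q14806 (allL N14806 (tt N7200 (iv1 D23831)) (tt N7439 F37159) (tt N9053 F45482) (tt N15802 F100181) (tt N10127 F101310) (tt N20859 (iv5 F49714)) (tt N18121 (iv6 F45306)) (tt N9052 (iv7 F45483)))
theorem Q14808 : ∀ i, i < 14808 → P i := stepQ 14807 Q14807 (allL N14807 (tt N17005 F41859) (tt N29704 D48883) (tt N21501 (iv2 F51398)) (tt N7202 F37160) (tt N16277 (iv4 F40249)) (tt N17262 F42604) (tt N7201 (iv6 D23832)) (tt N11162 F37161))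
theorem Q14809 : ∀ i, i < 14809 → P i := stepQ 14808 Q14808 (allL N14808 (tt N23204 F55189) (tt N23209 F55211) (tt N23207 (iv2 F55199)) (tt N7203 (iv3 D23833)) (tt N7204 F37162) (tt N29544 (iv5 F76641)) (tt N11157 F37163) (tt N9056 F37164))
theorem Q14810 : ∀ i, i < 14810 → P i := stepQ 14809 Q14809 (allL N14809 (tt N9062 (iv1 F37166)) (tt N7204 (iv0 D23834)) (tt N9061 F50529) (tt N10224 F37165) (tt N23840 (iv4 F56594)) (tt N10347 F50467) (tt N10532 F50468) (tt N9060 F50530))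
theorem Q14811 : ∀ i, i < 14811 → P i := stepQ 14810 Q14810 (allL N14810 (tt N7204 (iv1 D23835)) (tt N9062 F37171) (tt N9060 F50551) (tt N17540 F50552) (tt N29705 D48884) (tt N10348 F50553) (tt N19369 F50554) (tt N9061 F50555))
theorem Q14812 : ∀ i, i < 14812 → P i := stepQ 14811 Q14811 (allL N14811 (tt N9061 (iv1 F37172)) (tt N9060 F37170) (tt N7204 (iv2 D23836)) (tt N9072 F37167) (tt N23207 F55198) (tt N16958 (iv5 F41631)) (tt N11156 F37168) (tt N9062 F37169))
theorem Q14813 : ∀ i, i < 14813 → P i := stepQ 14812 Q14812 (allL N14812 (tt N7207 (iv1 F37176)) (tt N7206 (iv0 D23837)) (tt N7210 (iv2 F37173)) (tt N9079 F37174) (tt N21186 (iv4 F50291)) (tt N29706 D48885) (tt N23145 (iv6 F55071)) (tt N7208 F37175))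
theorem Q14814 : ∀ i, i < 14814 → P i := stepQ 14813 Q14813 (allL N14813 (tt N7210 F54334) (tt N7208 F54335) (tt N7206 (iv2 D23838)) (tt N29707 D48886) (tt N29708 D48887) (tt N20939 F54336) (tt N29709 D48888) (tt N7207 (iv7 F37177)))
theorem Q14815 : ∀ i, i < 14815 → P i := stepQ 14814 Q14814 (allL N14814 (tt N10314 F50302) (tt N21285 (iv0 F50722)) (tt N9082 F54302) (tt N7206 (iv3 D23839)) (tt N9080 F54303) (tt N21525 (iv5 F51450)) (tt N9080 F54304) (tt N9086 F54305))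
theorem Q14816 : ∀ i, i < 14816 → P i := stepQ 14815 Q14815 (allL N14815 (tt N29710 D48889) (tt N29711 D48890) (tt N29708 (iv2 F77029)) (tt N29712 D48891) (tt N7206 (iv4 D23840)) (tt N29713 D48892) (tt N29712 F77060) (tt N29714 D48893))
theorem Q14817 : ∀ i, i < 14817 → P i := stepQ 14816 Q14816 (allL N14816 (tt N20934 F50925) (tt N10308 F50926) (tt N20939 (iv2 F54337)) (tt N21525 F51451) (tt N29715 D48894) (tt N7206 (iv5 D23841)) (tt N29716 D48895) (tt N20938 F54340))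
theorem Q14818 : ∀ i, i < 14818 → P i := stepQ 14817 Q14817 (allL N14817 (tt N21177 F50927) (tt N10315 F50928) (tt N29709 (iv2 F77034)) (tt N9080 (iv3 F54299)) (tt N29712 (iv4 F77054)) (tt N29717 D48896) (tt N7206 (iv6 D23842)) (tt N9085 F54298))
theorem Q14819 : ∀ i, i < 14819 → P i := stepQ 14818 Q14818 (allL N14818 (tt N7208 F54294) (tt N7210 F54295) (tt N7207 F37179) (tt N9086 F54296) (tt N29714 (iv4 F77064)) (tt N20938 (iv5 F54342)) (tt N19473 F54297) (tt N7206 (iv7 D23843)))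
theorem Q14820 : ∀ i, i < 14820 → P i := stepQ 14819 Q14819 (allL N14819 (tt N21243 F77027) (tt N10297 F77028) (tt N29718 D48897) (tt N7207 (iv3 D23844)) (tt N29719 D48898) (tt N29720 D48899) (tt N29721 D48900) (tt N29707 (iv7 F77022)))
theorem Q14821 : ∀ i, i < 14821 → P i := stepQ 14820 Q14820 (allL N14820 (tt N29711 (iv1 F77048)) (tt N29710 (iv0 F77047)) (tt N29714 (iv2 F77062)) (tt N29722 D48901) (tt N7207 (iv4 D23845)) (tt N29723 D48902) (tt N29724 D48903) (tt N29708 (iv7 F77030)))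
theorem Q14822 : ∀ i, i < 14822 → P i := stepQ 14821 Q14821 (allL N14821 (tt N10308 F50327) (tt N20934 F50328) (tt N20938 F54339) (tt N29720 (iv3 F77082)) (tt N29725 D48904) (tt N7207 (iv5 D23846)) (tt N29726 D48905) (tt N20939 (iv7 F54338)))
theorem Q14823 : ∀ i, i < 14823 → P i := stepQ 14822 Q14822 (allL N14822 (tt N10332 F54290) (tt N19466 F54291) (tt N19473 F54292) (tt N29721 (iv3 F77083)) (tt N29724 (iv4 F77088)) (tt N21652 (iv5 F55710)) (tt N7207 (iv6 D23847)) (tt N19474 F54293))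
theorem Q14824 : ∀ i, i < 14824 → P i := stepQ 14823 Q14823 (allL N14823 (tt N29727 D48906) (tt N29728 D48907) (tt N7209 F37183) (tt N9089 F37184) (tt N29729 D48908) (tt N7208 (iv5 D23850)) (tt N29730 D48909) (tt N29706 (iv7 F77013)))
theorem Q14825 : ∀ i, i < 14825 → P i := stepQ 14824 Q14824 (allL N14824 (tt N29706 F77015) (tt N7209 (iv0 D23851)) (tt N29727 (iv2 F77096)) (tt N29731 D48910) (tt N29732 D48911) (tt N10213 F77016) (tt N29733 D48912) (tt N29728 (iv7 F77110)))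
theorem Q14826 : ∀ i, i < 14826 → P i := stepQ 14825 Q14825 (allL N14825 (tt N7209 (iv1 D23852)) (tt N29706 F77020) (tt N29728 (iv2 F77113)) (tt N29734 D48913) (tt N29735 D48914) (tt N10214 F50935) (tt N27496 F311490) (tt N29727 (iv7 F77097)))
theorem Q14827 : ∀ i, i < 14827 → P i := stepQ 14826 Q14826 (allL N14826 (tt N29733 F316386) (tt N29736 D48917) (tt N29729 (iv2 F77114)) (tt N10237 (iv3 F318666)) (tt N7209 (iv4 D23853)) (tt N29737 D48919) (tt N29738 D48920) (tt N29739 D48921))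
theorem Q14828 : ∀ i, i < 14828 → P i := stepQ 14827 Q14827 (allL N14827 (tt N29740 D48922) (tt N29741 D48923) (tt N29730 (iv2 F77115)) (tt N7212 F37185) (tt N29738 (iv4 F77131)) (tt N7226 F37186) (tt N7209 (iv6 D23854)) (tt N29742 D48924))
theorem Q14829 : ∀ i, i < 14829 → P i := stepQ 14828 Q14828 (allL N14828 (tt N29728 (iv1 F77109)) (tt N29727 F77094) (tt N29706 (iv2 F77011)) (tt N7213 F37187) (tt N29739 (iv4 F77133)) (tt N7210 F37188) (tt N29743 D48925) (tt N7209 (iv7 D23855)))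
theorem Q14830 : ∀ i, i < 14830 → P i := stepQ 14829 Q14829 (allL N14829 (tt N16698 (iv1 F318774)) (tt N11517 (iv0 F318771)) (tt N20499 F317310) (tt N7211 (iv3 D23856)) (tt N10237 (iv4 F318667)) (tt N9049 F37189) (tt N29744 D48929) (tt N9048 F37190))
theorem Q14831 : ∀ i, i < 14831 → P i := stepQ 14830 Q14830 (allL N14830 (tt N16971 F46227) (tt N16975 F41675) (tt N9097 F37191) (tt N29744 (iv3 F77144)) (tt N7212 F37192) (tt N19476 (iv5 F313320)) (tt N7211 (iv6 D23857)) (tt N21444 (iv7 F51214)))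
theorem Q14832 : ∀ i, i < 14832 → P i := stepQ 14831 Q14831 (allL N14831 (tt N9100 (iv1 F37198)) (tt N7212 (iv0 D23858)) (tt N9098 F43201) (tt N29745 D48931) (tt N10454 (iv4 F41661)) (tt N24204 (iv5 F57683)) (tt N29746 D48932) (tt N9099 F43199))
theorem Q14833 : ∀ i, i < 14833 → P i := stepQ 14832 Q14832 (allL N14832 (tt N7212 (iv1 D23859)) (tt N9100 F37193) (tt N9099 (iv2 F43197)) (tt N29747 D48933) (tt N10455 (iv4 F37328)) (tt N11334 (iv5 F37194)) (tt N22448 (iv6 F310960)) (tt N9098 (iv7 F43200)))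
theorem Q14834 : ∀ i, i < 14834 → P i := stepQ 14833 Q14833 (allL N14833 (tt N9099 (iv1 F37199)) (tt N9098 F37200) (tt N9100 F37196) (tt N29742 (iv3 F77134)) (tt N21444 (iv4 F51212)) (tt N7229 F37197) (tt N29748 D48935) (tt N7212 (iv7 D23860)))
theorem Q14835 : ∀ i, i < 14835 → P i := stepQ 14834 Q14834 (allL N14834 (tt N29749 D48936) (tt N29750 D48937) (tt N9101 F37201) (tt N29743 (iv3 F77136)) (tt N9050 F37202) (tt N23156 (iv5 F55096)) (tt N7213 (iv6 D23861)) (tt N29748 (iv7 F77160)))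
theorem Q14836 : ∀ i, i < 14836 → P i := stepQ 14835 Q14835 (allL N14835 (tt N10687 F37214) (tt N21703 (iv0 F51745)) (tt N9120 F37267) (tt N7216 F37213) (tt N11197 F43055) (tt N7214 (iv5 D23869)) (tt N11586 F301900) (tt N9136 (iv7 F37268)))
theorem Q14837 : ∀ i, i < 14837 → P i := stepQ 14836 Q14836 (allL N14836 (tt N11141 F54048) (tt N19481 F54049) (tt N9121 F37258) (tt N7217 F37215) (tt N9114 (iv4 F37257)) (tt N11587 F306550) (tt N7214 (iv6 D23870)) (tt N19458 (iv7 F54223)))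
theorem Q14838 : ∀ i, i < 14838 → P i := stepQ 14837 Q14837 (allL N14837 (tt N7219 (iv1 F37273)) (tt N7215 (iv0 D23872)) (tt N10811 (iv2 F37221)) (tt N29560 (iv3 F76699)) (tt N8377 F37220) (tt N29751 D48940) (tt N29752 D48941) (tt N10737 (iv7 F37222)))
theorem Q14839 : ∀ i, i < 14839 → P i := stepQ 14838 Q14838 (allL N14838 (tt N7215 (iv1 D23873)) (tt N7219 F37223) (tt N10737 F37226) (tt N8043 F37227) (tt N8403 (iv4 F37225)) (tt N29753 D48942) (tt N29711 (iv6 F77053)) (tt N10811 F37224))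
theorem Q14840 : ∀ i, i < 14840 → P i := stepQ 14839 Q14839 (allL N14839 (tt N8378 F37277) (tt N8375 (iv0 F37278)) (tt N10730 F37281) (tt N7215 (iv3 D23874)) (tt N9112 F37275) (tt N23289 (iv5 F55408)) (tt N29754 D48943) (tt N9133 F37276))
theorem Q14841 : ∀ i, i < 14841 → P i := stepQ 14840 Q14840 (allL N14840 (tt N23305 (iv1 F55458)) (tt N23839 (iv0 F56590)) (tt N23142 (iv2 F55058)) (tt N23289 F55411) (tt N29755 D48944) (tt N7215 (iv5 D23875)) (tt N29756 D48945) (tt N23140 (iv7 F55045)))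
theorem Q14842 : ∀ i, i < 14842 → P i := stepQ 14841 Q14841 (allL N14841 (tt N29757 D48946) (tt N29758 D48947) (tt N19462 F54245) (tt N29754 (iv3 F77190)) (tt N7217 F37282) (tt N29759 D48948) (tt N7215 (iv6 D23876)) (tt N19459 (iv7 F54256)))
theorem Q14843 : ∀ i, i < 14843 → P i := stepQ 14842 Q14842 (allL N14842 (tt N23307 (iv1 F55462)) (tt N29760 D48949) (tt N21543 (iv2 F51480)) (tt N29761 D48950) (tt N7216 (iv4 D23879)) (tt N29762 D48951) (tt N29763 D48952) (tt N21540 (iv7 F51474)))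
theorem Q14844 : ∀ i, i < 14844 → P i := stepQ 14843 Q14843 (allL N14843 (tt N24212 (iv1 F300280)) (tt N10677 (iv0 F190028)) (tt N21544 (iv2 F51482)) (tt N11586 (iv3 F301190)) (tt N29763 (iv4 F77221)) (tt N10670 (iv5 F301135)) (tt N7216 (iv6 D23880)) (tt N21546 (iv7 F300278)))
theorem Q14845 : ∀ i, i < 14845 → P i := stepQ 14844 Q14844 (allL N14844 (tt N19499 F50931) (tt N9381 F50932) (tt N19463 (iv2 F54236)) (tt N11587 (iv3 F306004)) (tt N10671 (iv4 F306005)) (tt N7217 (iv5 D23883)) (tt N10670 F303930) (tt N19460 (iv7 F54229)))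
theorem Q14846 : ∀ i, i < 14846 → P i := stepQ 14845 Q14845 (allL N14845 (tt N8335 (iv1 F37288)) (tt N10642 F37287) (tt N7218 (iv2 D23885)) (tt N9122 F37285) (tt N8077 F37289) (tt N21559 (iv5 F51501)) (tt N29764 D48958) (tt N9119 F37286))
theorem Q14847 : ∀ i, i < 14847 → P i := stepQ 14846 Q14846 (allL N14846 (tt N8359 F37292) (tt N8357 (iv0 F37293)) (tt N8077 F37290) (tt N29765 D48959) (tt N7218 (iv4 D23886)) (tt N23873 (iv5 F56641)) (tt N29766 D48960) (tt N10793 F37291))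
theorem Q14848 : ∀ i, i < 14848 → P i := stepQ 14847 Q14847 (allL N14847 (tt N21558 (iv1 F51494)) (tt N10652 F51497) (tt N21559 (iv2 F51503)) (tt N7220 F37294) (tt N23877 (iv4 F56654)) (tt N7218 (iv5 D23887)) (tt N29767 D48961) (tt N21542 (iv7 F51479)))
theorem Q14849 : ∀ i, i < 14849 → P i := stepQ 14848 Q14848 (allL N14848 (tt N22093 (iv1 F52479)) (tt N22095 (iv0 F52478)) (tt N29764 (iv2 F77223)) (tt N7221 F37295) (tt N29766 (iv4 F77234)) (tt N29768 D48962) (tt N7218 (iv6 D23888)) (tt N29769 D48963))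
theorem Q14850 : ∀ i, i < 14850 → P i := stepQ 14849 Q14849 (allL N14849 (tt N7264 F37297) (tt N7266 (iv0 F37298)) (tt N7263 F37437) (tt N7219 (iv3 D23889)) (tt N29765 (iv4 F77229)) (tt N21644 (iv5 F51621)) (tt N29770 D48964) (tt N7262 F37296))
theorem Q14851 : ∀ i, i < 14851 → P i := stepQ 14850 Q14850 (allL N14850 (tt N23839 (iv1 F56591)) (tt N23305 (iv0 F55457)) (tt N23140 (iv2 F55043)) (tt N21644 F51623) (tt N16960 F309850) (tt N7219 (iv5 D23890)) (tt N16959 (iv6 F312044)) (tt N23142 (iv7 F55060)))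
theorem Q14852 : ∀ i, i < 14852 → P i := stepQ 14851 Q14851 (allL N14851 (tt N10732 F51154) (tt N29771 D48966) (tt N23141 (iv2 F55047)) (tt N29770 (iv3 F77247)) (tt N7221 F37299) (tt N29772 D48967) (tt N7219 (iv6 D23891)) (tt N29773 D48968))
theorem Q14853 : ∀ i, i < 14853 → P i := stepQ 14852 Q14852 (allL N14852 (tt N29760 (iv1 F77208)) (tt N23307 (iv0 F55461)) (tt N21540 (iv2 F51473)) (tt N29774 D48969) (tt N7220 (iv4 D23892)) (tt N29775 D48970) (tt N29776 D48971) (tt N21543 (iv7 F51481)))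
theorem Q14854 : ∀ i, i < 14854 → P i := stepQ 14853 Q14853 (allL N14853 (tt N10701 F191180) (tt N24201 (iv0 F191182)) (tt N21541 (iv2 F51475)) (tt N29767 (iv3 F77239)) (tt N29776 (iv4 F77262)) (tt N29777 D48974) (tt N7220 (iv6 D23893)) (tt N24200 F190045))
theorem Q14855 : ∀ i, i < 14855 → P i := stepQ 14854 Q14854 (allL N14854 (tt N7221 (iv1 D23895)) (tt N10708 F50894) (tt N8349 F50895) (tt N9140 F50896) (tt N21179 F50897) (tt N29778 D48976) (tt N21177 F50898) (tt N10709 F50899))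
theorem Q14856 : ∀ i, i < 14856 → P i := stepQ 14855 Q14855 (allL N14855 (tt N10714 F53311) (tt N20409 F320860) (tt N20413 (iv2 F323732)) (tt N29768 (iv3 F77240)) (tt N29779 D48978) (tt N7221 (iv5 D23896)) (tt N29777 (iv6 F77263)) (tt N20414 (iv7 F323738)))
theorem Q14857 : ∀ i, i < 14857 → P i := stepQ 14856 Q14856 (allL N14856 (tt N8349 F50892) (tt N10709 F50893) (tt N10708 (iv2 F50890)) (tt N29769 (iv3 F77242)) (tt N29773 (iv4 F77256)) (tt N20414 F322096) (tt N9357 F54220) (tt N7221 (iv7 D23897)))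
theorem Q14858 : ∀ i, i < 14858 → P i := stepQ 14857 Q14857 (allL N14857 (tt N12621 F37302) (tt N12620 F37303) (tt N7225 F37300) (tt N29780 D48980) (tt N7222 (iv4 D23898)) (tt N23920 (iv5 F56835)) (tt N29781 D48981) (tt N12622 F37301))
theorem Q14859 : ∀ i, i < 14859 → P i := stepQ 14858 Q14858 (allL N14858 (tt N29782 D48982) (tt N29783 D48983) (tt N7226 F37304) (tt N9146 F37305) (tt N29781 (iv4 F77286)) (tt N29730 (iv5 F77117)) (tt N7222 (iv6 D23899)) (tt N29784 D48984))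
theorem Q14860 : ∀ i, i < 14860 → P i := stepQ 14859 Q14859 (allL N14859 (tt N10620 (iv1 F37312)) (tt N22184 (iv0 F52656)) (tt N10943 (iv2 F42913)) (tt N7223 (iv3 D23901)) (tt N8757 F37311) (tt N10498 F37310) (tt N29785 D48985) (tt N10947 (iv7 F42909)))
theorem Q14861 : ∀ i, i < 14861 → P i := stepQ 14860 Q14860 (allL N14860 (tt N29786 D48986) (tt N29787 D48987) (tt N12649 (iv2 F42928)) (tt N21992 (iv3 F52314)) (tt N7223 (iv4 D23902)) (tt N21991 F52313) (tt N29788 D48988) (tt N12646 F42927))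
theorem Q14862 : ∀ i, i < 14862 → P i := stepQ 14861 Q14861 (allL N14861 (tt N23966 F191156) (tt N10569 F191157) (tt N12650 F42938) (tt N29785 (iv3 F77297)) (tt N29788 (iv4 F77309)) (tt N29789 D48991) (tt N7223 (iv6 D23903)) (tt N23965 F190027))
theorem Q14863 : ∀ i, i < 14863 → P i := stepQ 14862 Q14862 (allL N14862 (tt N22072 (iv1 F52450)) (tt N10549 (iv0 F51512)) (tt N29790 D48993) (tt N7224 (iv3 D23905)) (tt N29791 D48994) (tt N10512 F37315) (tt N29792 D48995) (tt N12648 (iv7 F42918)))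
theorem Q14864 : ∀ i, i < 14864 → P i := stepQ 14863 Q14863 (allL N14863 (tt N29787 (iv1 F77303)) (tt N29786 F77300) (tt N12646 (iv2 F42925)) (tt N29793 D48996) (tt N7224 (iv4 D23906)) (tt N29794 D48997) (tt N29795 D48998) (tt N12649 (iv7 F42924)))
theorem Q14865 : ∀ i, i < 14865 → P i := stepQ 14864 Q14864 (allL N14864 (tt N10627 (iv1 F189990)) (tt N23686 (iv0 F189991)) (tt N12647 (iv2 F42926)) (tt N29792 (iv3 F77328)) (tt N29795 (iv4 F77335)) (tt N29796 D49001) (tt N7224 (iv6 D23907)) (tt N23685 (iv7 F189894)))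
theorem Q14866 : ∀ i, i < 14866 → P i := stepQ 14865 Q14865 (allL N14865 (tt N12622 (iv1 F37317)) (tt N7225 (iv0 D23908)) (tt N12621 (iv2 F37316)) (tt N29797 D49003) (tt N17220 (iv4 F42530)) (tt N21821 F301191) (tt N29798 D49004) (tt N12620 F37318))
theorem Q14867 : ∀ i, i < 14867 → P i := stepQ 14866 Q14866 (allL N14866 (tt N23921 (iv1 F56838)) (tt N17467 (iv0 F43352)) (tt N23920 F56836) (tt N12628 F37319) (tt N29799 D49005) (tt N7225 (iv5 D23909)) (tt N29783 (iv6 F301131)) (tt N12623 F37320))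
theorem Q14868 : ∀ i, i < 14868 → P i := stepQ 14867 Q14867 (allL N14867 (tt N29800 D49007) (tt N29801 D49008) (tt N29781 (iv2 F77285)) (tt N12632 F37321) (tt N7226 F37322) (tt N29802 D49009) (tt N7225 (iv6 D23910)) (tt N29803 D49010))
theorem Q14869 : ∀ i, i < 14869 → P i := stepQ 14868 Q14868 (allL N14868 (tt N29784 (iv1 F77295)) (tt N7226 (iv0 D23911)) (tt N29782 F162961) (tt N29804 D49012) (tt N29805 D49013) (tt N29806 D49014) (tt N29807 D49015) (tt N29783 (iv7 F162969)))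
theorem Q14870 : ∀ i, i < 14870 → P i := stepQ 14869 Q14869 (allL N14869 (tt N7226 (iv1 D23912)) (tt N29784 F77294) (tt N29783 (iv2 F162968)) (tt N29808 D49017) (tt N29809 D49018) (tt N29810 D49019) (tt N23920 (iv6 F305832)) (tt N29782 F162967))
theorem Q14871 : ∀ i, i < 14871 → P i := stepQ 14870 Q14870 (allL N14870 (tt N29783 (iv1 F77287)) (tt N29782 F77293) (tt N29784 (iv2 F77290)) (tt N7229 F37323) (tt N29803 (iv4 F77356)) (tt N29742 (iv5 F77135)) (tt N12485 F37324) (tt N7226 (iv7 D23913)))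
theorem Q14872 : ∀ i, i < 14872 → P i := stepQ 14871 Q14871 (allL N14871 (tt N29811 D49021) (tt N10553 (iv0 F184616)) (tt N29812 D49023) (tt N7227 (iv3 D23915)) (tt N29813 D49024) (tt N29814 D49025) (tt N29815 D49026) (tt N9167 (iv7 F44678)))
theorem Q14873 : ∀ i, i < 14873 → P i := stepQ 14872 Q14872 (allL N14872 (tt N21874 (iv1 F52084)) (tt N29816 D49027) (tt N9165 (iv2 F44680)) (tt N29814 (iv3 F77369)) (tt N11500 (iv4 F311229)) (tt N7227 (iv5 D23916)) (tt N10593 F309091) (tt N9168 (iv7 F44679)))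
theorem Q14874 : ∀ i, i < 14874 → P i := stepQ 14873 Q14873 (allL N14873 (tt N10632 F51919) (tt N17473 F301886) (tt N9166 (iv2 F44673)) (tt N29815 (iv3 F77371)) (tt N8855 F37329) (tt N15340 F38267) (tt N7227 (iv6 D23917)) (tt N23689 (iv7 F56391)))
theorem Q14875 : ∀ i, i < 14875 → P i := stepQ 14874 Q14874 (allL N14874 (tt N10619 (iv1 F109832)) (tt N22701 F310919) (tt N29817 D49032) (tt N7228 (iv3 D23919)) (tt N20232 F308767) (tt N29818 D49034) (tt N23919 F299956) (tt N9164 F44681))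
theorem Q14876 : ∀ i, i < 14876 → P i := stepQ 14875 Q14875 (allL N14875 (tt N29816 (iv1 F77372)) (tt N21874 (iv0 F52083)) (tt N9168 (iv2 F44683)) (tt N29818 (iv3 F77396)) (tt N29819 D49036) (tt N7228 (iv5 D23920)) (tt N20927 (iv6 F49892)) (tt N9165 F44682))
theorem Q14877 : ∀ i, i < 14877 → P i := stepQ 14876 Q14876 (allL N14876 (tt N9503 F37336) (tt N9502 F37337) (tt N8972 F37333) (tt N29820 D49037) (tt N7230 (iv4 D23922)) (tt N16135 (iv5 F39977)) (tt N7405 F37334) (tt N8973 F37335))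
theorem Q14878 : ∀ i, i < 14878 → P i := stepQ 14877 Q14877 (allL N14877 (tt N29821 D49038) (tt N29822 D49039) (tt N29823 D49040) (tt N7233 (iv3 D23923)) (tt N14711 F37338) (tt N29542 (iv5 F76638)) (tt N13252 F82982) (tt N14902 (iv7 F37385)))
theorem Q14879 : ∀ i, i < 14879 → P i := stepQ 14878 Q14878 (allL N14878 (tt N10244 F37341) (tt N18488 (iv0 F46048)) (tt N9057 F37339) (tt N13252 F82977) (tt N7234 F37340) (tt N29824 D49042) (tt N7233 (iv6 D23924)) (tt N15015 (iv7 F37662)))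
theorem Q14880 : ∀ i, i < 14880 → P i := stepQ 14879 Q14879 (allL N14879 (tt N7238 (iv1 D23925)) (tt N16303 F40297) (tt N16305 (iv2 F40298)) (tt N13214 F37345) (tt N11448 (iv4 F37343)) (tt N29825 D49043) (tt N13211 (iv6 F37344)) (tt N14716 F37342))
theorem Q14881 : ∀ i, i < 14881 → P i := stepQ 14880 Q14880 (allL N14880 (tt N14716 F37704) (tt N16305 F40301) (tt N7238 (iv2 D23926)) (tt N14907 (iv3 F37400)) (tt N9074 F37346) (tt N29826 D49044) (tt N7243 F37347) (tt N16303 (iv7 F40296)))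
theorem Q14882 : ∀ i, i < 14882 → P i := stepQ 14881 Q14881 (allL N14881 (tt N21496 (iv1 F51389)) (tt N21498 (iv0 F51392)) (tt N29826 (iv2 F77424)) (tt N7239 F37348) (tt N29827 D49045) (tt N7238 (iv5 D23927)) (tt N29828 D49046) (tt N29829 D49047))
theorem Q14883 : ∀ i, i < 14883 → P i := stepQ 14882 Q14882 (allL N14882 (tt N16305 (iv1 F40302)) (tt N14716 (iv0 F37352)) (tt N16303 F40294) (tt N7240 F37349) (tt N9073 F37350) (tt N29829 (iv5 F77430)) (tt N9105 F37351) (tt N7238 (iv7 D23928)))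
theorem Q14884 : ∀ i, i < 14884 → P i := stepQ 14883 Q14883 (allL N14883 (tt N18180 (iv1 F45426)) (tt N18179 F45423) (tt N14910 (iv2 F37406)) (tt N29830 D49048) (tt N7239 (iv4 D23929)) (tt N14900 (iv5 F37378)) (tt N29831 D49049) (tt N14899 F37375))
theorem Q14885 : ∀ i, i < 14885 → P i := stepQ 14884 Q14884 (allL N14884 (tt N29832 D49050) (tt N29833 D49051) (tt N14911 (iv2 F37409)) (tt N29828 (iv3 F77427)) (tt N29831 (iv4 F77433)) (tt N7245 F37353) (tt N7239 (iv6 D23930)) (tt N29834 D49052))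
theorem Q14886 : ∀ i, i < 14886 → P i := stepQ 14885 Q14885 (allL N14885 (tt N9070 (iv1 F37355)) (tt N14712 F37356) (tt N14912 (iv2 F37411)) (tt N29829 (iv3 F77429)) (tt N14899 (iv4 F37374)) (tt N7240 F37354) (tt N29835 D49053) (tt N7239 (iv7 D23931)))
theorem Q14887 : ∀ i, i < 14887 → P i := stepQ 14886 Q14886 (allL N14886 (tt N11784 F37389) (tt N11395 F37358) (tt N23157 (iv2 F55097)) (tt N17150 (iv3 F42370)) (tt N13896 F37357) (tt N7241 (iv5 D23932)) (tt N29836 D49054) (tt N17199 (iv7 F42487)))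
theorem Q14888 : ∀ i, i < 14888 → P i := stepQ 14887 Q14887 (allL N14887 (tt N16409 (iv1 F40496)) (tt N16401 (iv0 F40483)) (tt N17169 (iv2 F42419)) (tt N7242 (iv3 D23933)) (tt N29581 (iv4 F76753)) (tt N29837 D49055) (tt N16558 (iv6 F40685)) (tt N17166 F42413))
theorem Q14889 : ∀ i, i < 14889 → P i := stepQ 14888 Q14888 (allL N14888 (tt N11395 F37359) (tt N11784 F37360) (tt N17199 (iv2 F42485)) (tt N29837 (iv3 F77436)) (tt N27490 (iv4 F70344)) (tt N7242 (iv5 D23934)) (tt N29838 D49056) (tt N23157 (iv7 F55098)))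
theorem Q14890 : ∀ i, i < 14890 → P i := stepQ 14889 Q14889 (allL N14889 (tt N23256 (iv1 F55313)) (tt N13862 F37362) (tt N23866 (iv2 F56630)) (tt N23158 (iv3 F55101)) (tt N7244 (iv4 D23935)) (tt N13645 F37361) (tt N29839 D49057) (tt N23158 (iv7 F55102)))
theorem Q14891 : ∀ i, i < 14891 → P i := stepQ 14890 Q14890 (allL N14890 (tt N29840 D49058) (tt N29841 D49059) (tt N23867 (iv2 F56633)) (tt N7245 F37363) (tt N29839 (iv4 F77438)) (tt N29828 (iv5 F77428)) (tt N7244 (iv6 D23936)) (tt N29842 D49060))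
theorem Q14892 : ∀ i, i < 14892 → P i := stepQ 14891 Q14891 (allL N14891 (tt N14937 (iv1 F37467)) (tt N7245 (iv0 D23937)) (tt N14935 F163462) (tt N29843 D49062) (tt N16531 F177819) (tt N29844 D49064) (tt N29845 D49065) (tt N14936 F163463))
theorem Q14893 : ∀ i, i < 14893 → P i := stepQ 14892 Q14892 (allL N14892 (tt N7245 (iv1 D23938)) (tt N14937 F37466) (tt N14936 (iv2 F163458)) (tt N29846 D49067) (tt N16532 F177826) (tt N29847 D49069) (tt N29848 D49070) (tt N14935 (iv7 F163459)))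
theorem Q14894 : ∀ i, i < 14894 → P i := stepQ 14893 Q14893 (allL N14893 (tt N14936 (iv1 F37463)) (tt N14935 F37465) (tt N14937 (iv2 F37464)) (tt N29842 (iv3 F77439)) (tt N23163 (iv4 F55107)) (tt N29834 (iv5 F77434)) (tt N23163 (iv6 F55108)) (tt N7245 (iv7 D23939)))
theorem Q14895 : ∀ i, i < 14895 → P i := stepQ 14894 Q14894 (allL N14894 (tt N16032 F39645) (tt N15188 F39647) (tt N29849 D49071) (tt N7246 (iv3 D23940)) (tt N22584 (iv4 F53372)) (tt N15173 (iv5 F37972)) (tt N29850 D49072) (tt N8947 F37364))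
theorem Q14896 : ∀ i, i < 14896 → P i := stepQ 14895 Q14895 (allL N14895 (tt N18119 F168060) (tt N29851 D49074) (tt N8946 F37365) (tt N29850 (iv3 F77448)) (tt N29502 (iv4 F76542)) (tt N16831 F41252) (tt N7246 (iv6 D23941)) (tt N29852 D49075))
theorem Q14897 : ∀ i, i < 14897 → P i := stepQ 14896 Q14896 (allL N14896 (tt N9630 (iv1 F37370)) (tt N9984 (iv0 F37369)) (tt N19666 F48112) (tt N7247 (iv3 D23942)) (tt N7571 F37368) (tt N9390 F37366) (tt N29853 D49076) (tt N8945 F37367))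
theorem Q14898 : ∀ i, i < 14898 → P i := stepQ 14897 Q14897 (allL N14897 (tt N29854 D49077) (tt N18132 F100253) (tt N8948 F37371) (tt N29853 (iv3 F77455)) (tt N29505 (iv4 F76549)) (tt N9394 F37372) (tt N7247 (iv6 D23943)) (tt N29855 D49079))
theorem Q14899 : ∀ i, i < 14899 → P i := stepQ 14898 Q14898 (allL N14898 (tt N29856 D49080) (tt N29857 D49081) (tt N29858 D49082) (tt N7248 (iv3 D23944)) (tt N18038 (iv4 F45173)) (tt N29859 D49083) (tt N18038 (iv6 F45174)) (tt N29860 D49084))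
theorem Q14900 : ∀ i, i < 14900 → P i := stepQ 14899 Q14899 (allL N14899 (tt N16215 (iv1 F40169)) (tt N16224 (iv0 F40183)) (tt N8952 F37373) (tt N29859 (iv3 F77466)) (tt N14885 F37374) (tt N7248 (iv5 D23945)) (tt N29861 D49085) (tt N14883 (iv7 F37375)))
theorem Q14901 : ∀ i, i < 14901 → P i := stepQ 14900 Q14900 (allL N14900 (tt N8950 (iv1 F37379)) (tt N8949 F37380) (tt N8953 F37376) (tt N29860 (iv3 F77468)) (tt N7249 F37377) (tt N14883 F37378) (tt N29862 D49086) (tt N7248 (iv7 D23946)))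
theorem Q14902 : ∀ i, i < 14902 → P i := stepQ 14901 Q14901 (allL N14901 (tt N18109 (iv1 F45292)) (tt N18108 F45291) (tt N8954 F37382) (tt N18041 (iv3 F45181)) (tt N29862 (iv4 F77473)) (tt N14901 F37383) (tt N7249 (iv6 D23947)) (tt N18041 (iv7 F45183)))
theorem Q14903 : ∀ i, i < 14903 → P i := stepQ 14902 Q14902 (allL N14902 (tt N29863 D49087) (tt N29864 D49088) (tt N29865 D49089) (tt N7250 (iv3 D23948)) (tt N7986 F37384) (tt N16342 (iv5 F40358)) (tt N14965 (iv6 F37544)) (tt N14877 F37385))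
theorem Q14904 : ∀ i, i < 14904 → P i := stepQ 14903 Q14903 (allL N14903 (tt N11805 (iv1 F37392)) (tt N7251 (iv0 D23949)) (tt N8607 (iv2 F37388)) (tt N14903 F37390) (tt N18413 (iv4 F45917)) (tt N7258 F37386) (tt N7285 F37387) (tt N8608 F37391))
theorem Q14905 : ∀ i, i < 14905 → P i := stepQ 14904 Q14904 (allL N14904 (tt N8608 (iv1 F37398)) (tt N8607 F37399) (tt N11805 F37393) (tt N7998 F37394) (tt N13243 F37395) (tt N10608 F37396) (tt N11400 F37397) (tt N7251 (iv7 D23950)))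
theorem Q14906 : ∀ i, i < 14906 → P i := stepQ 14905 Q14905 (allL N14905 (tt N29866 D49090) (tt N7252 (iv0 D23951)) (tt N29867 D49091) (tt N29708 F77033) (tt N29868 D49092) (tt N29869 D49093) (tt N29867 F77493) (tt N29722 (iv7 F77084)))
theorem Q14907 : ∀ i, i < 14907 → P i := stepQ 14906 Q14906 (allL N14906 (tt N7252 (iv1 D23952)) (tt N29866 F77486) (tt N29722 (iv2 F77487)) (tt N29870 D49094) (tt N29871 D49095) (tt N29872 D49096) (tt N29873 D49097) (tt N29867 (iv7 F77489)))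
theorem Q14908 : ∀ i, i < 14908 → P i := stepQ 14907 Q14907 (allL N14907 (tt N29867 (iv1 F77490)) (tt N29722 (iv0 F77085)) (tt N7252 (iv2 D23953)) (tt N14880 F37400) (tt N14907 F37401) (tt N29874 D49098) (tt N7264 F37402) (tt N29866 (iv7 F77484)))
theorem Q14909 : ∀ i, i < 14909 → P i := stepQ 14908 Q14908 (allL N14908 (tt N29875 D49099) (tt N29876 D49100) (tt N29874 (iv2 F77513)) (tt N7253 F37403) (tt N29877 D49101) (tt N7252 (iv5 D23954)) (tt N29878 D49102) (tt N29879 D49103))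
theorem Q14910 : ∀ i, i < 14910 → P i := stepQ 14909 Q14909 (allL N14909 (tt N29722 F77086) (tt N29867 F77491) (tt N29866 F77482) (tt N7254 F37404) (tt N14909 F37405) (tt N29879 (iv5 F77518)) (tt N29880 D49104) (tt N7252 (iv7 D23955)))
theorem Q14911 : ∀ i, i < 14911 → P i := stepQ 14910 Q14910 (allL N14910 (tt N16224 (iv1 F40184)) (tt N16215 (iv0 F40168)) (tt N14883 F37406) (tt N29881 D49105) (tt N7253 (iv4 D23956)) (tt N8953 F37407) (tt N29882 D49106) (tt N8952 (iv7 F37408)))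
theorem Q14912 : ∀ i, i < 14912 → P i := stepQ 14911 Q14911 (allL N14911 (tt N29883 D49107) (tt N29884 D49108) (tt N14884 F37409) (tt N29878 (iv3 F77515)) (tt N29882 (iv4 F77527)) (tt N7268 F37410) (tt N7253 (iv6 D23957)) (tt N29885 D49109))
theorem Q14913 : ∀ i, i < 14913 → P i := stepQ 14912 Q14912 (allL N14912 (tt N7987 (iv1 F37414)) (tt N7979 F37415) (tt N14885 F37411) (tt N29879 (iv3 F77517)) (tt N8952 F37412) (tt N7254 F37413) (tt N29886 D49110) (tt N7253 (iv7 D23958)))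
theorem Q14914 : ∀ i, i < 14914 → P i := stepQ 14913 Q14913 (allL N14913 (tt N8101 F37419) (tt N8099 F37420) (tt N11386 F37416) (tt N29880 (iv3 F77520)) (tt N7255 F37417) (tt N29887 D49111) (tt N7254 (iv6 D23959)) (tt N7269 F37418))
theorem Q14915 : ∀ i, i < 14915 → P i := stepQ 14914 Q14914 (allL N14914 (tt N11390 (iv1 F37421)) (tt N7256 (iv0 D23960)) (tt N11389 F106563) (tt N23172 (iv3 F55121)) (tt N26935 F68284) (tt N29571 (iv5 F76733)) (tt N29888 D49113) (tt N11388 F106564))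
theorem Q14916 : ∀ i, i < 14916 → P i := stepQ 14915 Q14915 (allL N14915 (tt N7256 (iv1 D23961)) (tt N11390 F37426) (tt N11388 (iv2 F106561)) (tt N29889 D49115) (tt N23168 (iv4 F55114)) (tt N29572 (iv5 F76735)) (tt N29890 D49116) (tt N11389 (iv7 F106562)))
theorem Q14917 : ∀ i, i < 14917 → P i := stepQ 14916 Q14916 (allL N14916 (tt N11389 (iv1 F37427)) (tt N11388 F37425) (tt N7256 (iv2 D23962)) (tt N8601 F37422) (tt N8034 F37423) (tt N16520 (iv5 F40634)) (tt N21536 (iv6 F51466)) (tt N11390 F37424))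
theorem Q14918 : ∀ i, i < 14918 → P i := stepQ 14917 Q14917 (allL N14917 (tt N23172 F55123) (tt N23169 (iv0 F55117)) (tt N21536 (iv2 F51464)) (tt N7257 F37428) (tt N8036 F37429) (tt N29891 D49117) (tt N7256 (iv6 D23963)) (tt N13457 F37430))
theorem Q14919 : ∀ i, i < 14919 → P i := stepQ 14918 Q14918 (allL N14918 (tt N21679 (iv1 F51675)) (tt N29892 D49118) (tt N8605 F37431) (tt N29891 (iv3 F77544)) (tt N27758 (iv4 F71423)) (tt N7257 (iv5 D23964)) (tt N16525 (iv6 F40637)) (tt N21748 (iv7 F51811)))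
theorem Q14920 : ∀ i, i < 14920 → P i := stepQ 14919 Q14919 (allL N14919 (tt N7263 (iv1 F37436)) (tt N7262 (iv0 D23965)) (tt N7266 (iv2 F37432)) (tt N11382 F37433) (tt N14919 F37434) (tt N29893 D49119) (tt N18480 (iv6 F46022)) (tt N7264 F37435))
theorem Q14921 : ∀ i, i < 14921 → P i := stepQ 14920 Q14920 (allL N14920 (tt N7266 (iv1 F37441)) (tt N7264 F37440) (tt N7262 (iv2 D23966)) (tt N10730 F37438) (tt N8072 F37442) (tt N23198 F55177) (tt N29894 D49120) (tt N7263 F37439))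
theorem Q14922 : ∀ i, i < 14922 → P i := stepQ 14921 Q14921 (allL N14921 (tt N29895 D49121) (tt N29570 F76731) (tt N8072 F37443) (tt N10793 F37444) (tt N7262 (iv4 D23967)) (tt N29896 D49122) (tt N29897 D49123) (tt N29765 (iv7 F77230)))
theorem Q14923 : ∀ i, i < 14923 → P i := stepQ 14922 Q14922 (allL N14922 (tt N21322 (iv1 F54188)) (tt N16354 (iv0 F51706)) (tt N23198 F55176) (tt N23142 (iv3 F55059)) (tt N11514 F37445) (tt N7262 (iv5 D23968)) (tt N29898 D49124) (tt N21644 (iv7 F51620)))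
theorem Q14924 : ∀ i, i < 14924 → P i := stepQ 14923 Q14923 (allL N14923 (tt N29899 D49125) (tt N16155 (iv0 F54247)) (tt N29894 (iv2 F77558)) (tt N19462 F54246) (tt N29897 (iv4 F77570)) (tt N29900 D49126) (tt N7262 (iv6 D23969)) (tt N29901 D49127))
theorem Q14925 : ∀ i, i < 14925 → P i := stepQ 14924 Q14924 (allL N14924 (tt N8375 F37449) (tt N8378 F37450) (tt N9133 F37446) (tt N7263 (iv3 D23970)) (tt N9132 (iv4 F37448)) (tt N23290 (iv5 F55415)) (tt N23149 (iv6 F55087)) (tt N10730 F37447))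
theorem Q14926 : ∀ i, i < 14926 → P i := stepQ 14925 Q14925 (allL N14925 (tt N29570 F76730) (tt N29895 F77564) (tt N29765 (iv2 F77228)) (tt N8076 F37452) (tt N7263 (iv4 D23971)) (tt N21688 (iv5 F51703)) (tt N29902 D49128) (tt N8072 F37451))
theorem Q14927 : ∀ i, i < 14927 → P i := stepQ 14926 Q14926 (allL N14926 (tt N16354 F54167) (tt N21322 F54190) (tt N21644 F51622) (tt N23290 F55417) (tt N21641 (iv4 F51624)) (tt N7263 (iv5 D23972)) (tt N29903 D49129) (tt N23198 (iv7 F55175)))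
theorem Q14928 : ∀ i, i < 14928 → P i := stepQ 14927 Q14927 (allL N14927 (tt N18480 F55091) (tt N29880 F77523) (tt N29770 (iv2 F77246)) (tt N23149 F55090) (tt N29902 (iv4 F77579)) (tt N29904 D49130) (tt N7263 (iv6 D23973)) (tt N29905 D49131))
theorem Q14929 : ∀ i, i < 14929 → P i := stepQ 14928 Q14928 (allL N14928 (tt N29906 D49132) (tt N21660 F51664) (tt N7265 F37453) (tt N11785 F37454) (tt N22848 (iv4 F54522)) (tt N7264 (iv5 D23974)) (tt N29907 D49133) (tt N29893 (iv7 F77554)))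
theorem Q14930 : ∀ i, i < 14930 → P i := stepQ 14929 Q14929 (allL N14929 (tt N29893 (iv1 F77556)) (tt N7265 (iv0 D23975)) (tt N29906 F77583) (tt N23269 (iv3 F55343)) (tt N16998 F54360) (tt N11403 (iv5 F54362)) (tt N29908 D49134) (tt N21660 (iv7 F54361)))
theorem Q14931 : ∀ i, i < 14931 → P i := stepQ 14930 Q14930 (allL N14930 (tt N7265 (iv1 D23976)) (tt N29893 (iv0 F77557)) (tt N21660 (iv2 F54178)) (tt N29909 D49135) (tt N21659 F54177) (tt N11404 F54179) (tt N29910 D49136) (tt N29906 (iv7 F77585)))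
theorem Q14932 : ∀ i, i < 14932 → P i := stepQ 14931 Q14931 (allL N14931 (tt N29911 D49137) (tt N29912 D49138) (tt N29907 (iv2 F77587)) (tt N7268 F37456) (tt N10930 F54212) (tt N29878 (iv5 F77516)) (tt N7265 (iv6 D23978)) (tt N29913 D49139))
theorem Q14933 : ∀ i, i < 14933 → P i := stepQ 14932 Q14932 (allL N14932 (tt N21660 F51663) (tt N29906 F77584) (tt N29893 (iv2 F77552)) (tt N7267 F37457) (tt N22849 (iv4 F54530)) (tt N7266 F37458) (tt N29914 D49140) (tt N7265 (iv7 D23979)))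
theorem Q14934 : ∀ i, i < 14934 → P i := stepQ 14933 Q14933 (allL N14933 (tt N29905 (iv1 F77581)) (tt N29770 (iv0 F77248)) (tt N18480 (iv2 F46020)) (tt N7269 F37459) (tt N14933 F37460) (tt N29915 D49141) (tt N7266 (iv6 D23980)) (tt N29880 (iv7 F77522)))
theorem Q14935 : ∀ i, i < 14935 → P i := stepQ 14934 Q14934 (allL N14934 (tt N16536 F177626) (tt N16540 (iv0 F177627)) (tt N11384 F37461) (tt N29914 (iv3 F77597)) (tt N7268 F37462) (tt N29916 D49144) (tt N7267 (iv6 D23981)) (tt N29917 D49145))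
theorem Q14936 : ∀ i, i < 14936 → P i := stepQ 14935 Q14935 (allL N14935 (tt N14893 (iv1 F37465)) (tt N7268 (iv0 D23982)) (tt N14891 (iv2 F163462)) (tt N29918 D49147) (tt N16544 F177643) (tt N29919 D49149) (tt N29920 D49150) (tt N14892 F163459))
theorem Q14937 : ∀ i, i < 14937 → P i := stepQ 14936 Q14936 (allL N14936 (tt N7268 (iv1 D23983)) (tt N14893 F37463) (tt N14892 F163458) (tt N29921 D49152) (tt N16545 F177650) (tt N29922 D49154) (tt N29923 D49155) (tt N14891 (iv7 F163463)))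
theorem Q14938 : ∀ i, i < 14938 → P i := stepQ 14937 Q14937 (allL N14937 (tt N14892 (iv1 F37466)) (tt N14891 F37467) (tt N14893 F37464) (tt N29913 (iv3 F77595)) (tt N29917 (iv4 F77604)) (tt N29885 (iv5 F77530)) (tt N29917 (iv6 F77605)) (tt N7268 (iv7 D23984)))
theorem Q14939 : ∀ i, i < 14939 → P i := stepQ 14938 Q14938 (allL N14938 (tt N29924 D49156) (tt N29925 D49157) (tt N11385 F37468) (tt N29915 (iv3 F77599)) (tt N29926 D49158) (tt N7269 (iv5 D23985)) (tt N29916 (iv6 F77602)) (tt N29887 (iv7 F77537)))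
theorem Q14940 : ∀ i, i < 14940 → P i := stepQ 14939 Q14939 (allL N14939 (tt N7271 (iv1 D23986)) (tt N9772 F37469) (tt N9736 F37472) (tt N9844 (iv3 F37473)) (tt N18266 (iv4 F45663)) (tt N11066 (iv5 F37471)) (tt N29927 D49159) (tt N9828 F37470))
theorem Q14941 : ∀ i, i < 14941 → P i := stepQ 14940 Q14940 (allL N14940 (tt N9023 (iv1 F39413)) (tt N9026 F37474) (tt N19647 (iv2 F48046)) (tt N29928 D49160) (tt N7271 (iv4 D23987)) (tt N29929 D49161) (tt N16182 (iv6 F40088)) (tt N19990 (iv7 F48663)))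
theorem Q14942 : ∀ i, i < 14942 → P i := stepQ 14941 Q14941 (allL N14941 (tt N18685 (iv1 F46402)) (tt N22613 F53442) (tt N7345 F37475) (tt N11065 F37476) (tt N29930 D49162) (tt N7272 (iv5 D23988)) (tt N29931 D49163) (tt N7348 F37477))
theorem Q14943 : ∀ i, i < 14943 → P i := stepQ 14942 Q14942 (allL N14942 (tt N8899 F37482) (tt N16204 F40147) (tt N7346 F37478) (tt N11066 F37479) (tt N7346 F37480) (tt N9844 (iv5 F37481)) (tt N7272 (iv6 D23989)) (tt N16202 (iv7 F40134)))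
theorem Q14944 : ∀ i, i < 14944 → P i := stepQ 14943 Q14943 (allL N14943 (tt N7353 (iv1 F37492)) (tt N7273 (iv0 D23990)) (tt N7350 F37495) (tt N15814 (iv3 F39088)) (tt N18021 (iv4 F45122)) (tt N19995 (iv5 F48684)) (tt N29932 D49164) (tt N7351 F37494))
theorem Q14945 : ∀ i, i < 14945 → P i := stepQ 14944 Q14944 (allL N14944 (tt N15769 (iv1 F39030)) (tt N10167 F37489) (tt N7352 F37487) (tt N29933 D49165) (tt N7273 (iv4 D23991)) (tt N29934 D49166) (tt N7277 F37488) (tt N29935 D49167))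
theorem Q14946 : ∀ i, i < 14946 → P i := stepQ 14945 Q14945 (allL N14945 (tt N7351 (iv1 F37493)) (tt N7350 F37498) (tt N7353 F37490) (tt N16183 (iv3 F40091)) (tt N29935 (iv4 F77638)) (tt N7274 F37491) (tt N29936 D49168) (tt N7273 (iv7 D23992)))
theorem Q14947 : ∀ i, i < 14947 → P i := stepQ 14946 Q14946 (allL N14946 (tt N15504 F38574) (tt N9566 (iv0 F37504)) (tt N8135 F37499) (tt N7275 (iv3 D23993)) (tt N14786 (iv4 F37502)) (tt N8939 F37500) (tt N29937 D49169) (tt N7375 F37501))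
theorem Q14948 : ∀ i, i < 14948 → P i := stepQ 14947 Q14947 (allL N14947 (tt N7735 F37508) (tt N7690 F37509) (tt N7373 F37505) (tt N29938 D49170) (tt N7275 (iv4 D23994)) (tt N7873 F37507) (tt N29939 D49171) (tt N7376 F37506))
theorem Q14949 : ∀ i, i < 14949 → P i := stepQ 14948 Q14948 (allL N14948 (tt N29940 D49172) (tt N29941 D49173) (tt N7374 F37510) (tt N29937 (iv3 F77647)) (tt N29939 (iv4 F77653)) (tt N29942 D49174) (tt N7275 (iv6 D23995)) (tt N29943 D49175))
theorem Q14950 : ∀ i, i < 14950 → P i := stepQ 14949 Q14949 (allL N14949 (tt N7690 F37514) (tt N7735 F37515) (tt N7376 F37511) (tt N29944 D49176) (tt N7276 (iv4 D23996)) (tt N8935 F37512) (tt N29945 D49177) (tt N7373 F37513))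
theorem Q14951 : ∀ i, i < 14951 → P i := stepQ 14950 Q14950 (allL N14950 (tt N29946 D49178) (tt N29947 D49179) (tt N7377 F37516) (tt N8139 F37517) (tt N29945 (iv4 F77667)) (tt N16123 (iv5 F39958)) (tt N7276 (iv6 D23997)) (tt N29948 D49180))
theorem Q14952 : ∀ i, i < 14952 → P i := stepQ 14951 Q14951 (allL N14951 (tt N29949 D49181) (tt N29950 D49182) (tt N29951 D49183) (tt N7277 (iv3 D23998)) (tt N29928 (iv4 F77623)) (tt N15143 (iv5 F37907)) (tt N29933 (iv6 F77635)) (tt N15142 F37905))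
theorem Q14953 : ∀ i, i < 14953 → P i := stepQ 14952 Q14952 (allL N14952 (tt N29952 D49184) (tt N29953 D49185) (tt N7383 F37518) (tt N19991 (iv3 F48667)) (tt N15144 (iv4 F37908)) (tt N14952 F37519) (tt N7278 (iv6 D23999)) (tt N29936 (iv7 F77643)))
theorem Q14954 : ∀ i, i < 14954 → P i := stepQ 14953 Q14953 (allL N14953 (tt N7283 (iv1 D24000)) (tt N7289 F37520) (tt N15001 F37623) (tt N9296 (iv3 F37522)) (tt N29954 D49186) (tt N7641 F37521) (tt N15125 (iv6 F37887)) (tt N15000 F37619))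
theorem Q14955 : ∀ i, i < 14955 → P i := stepQ 14954 Q14954 (allL N14954 (tt N19128 (iv1 F46947)) (tt N19130 (iv0 F46953)) (tt N15002 (iv2 F37624)) (tt N29955 D49187) (tt N7283 (iv4 D24001)) (tt N19178 (iv5 F47009)) (tt N29956 D49188) (tt N15008 (iv7 F37648)))
theorem Q14956 : ∀ i, i < 14956 → P i := stepQ 14955 Q14955 (allL N14955 (tt N29957 D49189) (tt N29958 D49190) (tt N15003 (iv2 F37626)) (tt N19787 (iv3 F48313)) (tt N29956 (iv4 F77682)) (tt N7964 F37523) (tt N7283 (iv6 D24002)) (tt N29959 D49191))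
theorem Q14957 : ∀ i, i < 14957 → P i := stepQ 14956 Q14956 (allL N14956 (tt N7691 F37524) (tt N7441 F37525) (tt N15004 (iv2 F37629)) (tt N29899 (iv3 F77573)) (tt N7285 (iv4 D24003)) (tt N29960 D49192) (tt N18413 (iv6 F45919)) (tt N15005 (iv7 F37636)))
theorem Q14958 : ∀ i, i < 14958 → P i := stepQ 14957 Q14957 (allL N14957 (tt N7441 F37528) (tt N7691 F37529) (tt N15005 (iv2 F37634)) (tt N7395 F37526) (tt N7286 (iv4 D24004)) (tt N29961 D49193) (tt N7395 F37527) (tt N15004 (iv7 F37631)))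
theorem Q14959 : ∀ i, i < 14959 → P i := stepQ 14958 Q14958 (allL N14958 (tt N7287 (iv1 D24005)) (tt N7291 F37530) (tt N9531 (iv2 F37532)) (tt N10760 (iv3 F37533)) (tt N7406 F37531) (tt N29962 D49194) (tt N7643 (iv6 F37534)) (tt N15006 (iv7 F37642)))
theorem Q14960 : ∀ i, i < 14960 → P i := stepQ 14959 Q14959 (allL N14959 (tt N15721 (iv1 F38893)) (tt N7412 F37535) (tt N15007 (iv2 F37644)) (tt N27234 (iv3 F69412)) (tt N19179 (iv4 F47014)) (tt N7287 (iv5 D24007)) (tt N29963 D49195) (tt N15011 (iv7 F37652)))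
theorem Q14961 : ∀ i, i < 14961 → P i := stepQ 14960 Q14960 (allL N14960 (tt N16378 (iv1 F40439)) (tt N10753 (iv0 F37538)) (tt N14745 F37536) (tt N27235 (iv3 F69414)) (tt N7288 F37537) (tt N23902 (iv5 F56727)) (tt N7287 (iv6 D24008)) (tt N16550 (iv7 F40670)))
theorem Q14962 : ∀ i, i < 14962 → P i := stepQ 14961 Q14961 (allL N14961 (tt N19130 (iv1 F46954)) (tt N19128 (iv0 F46946)) (tt N15008 (iv2 F37647)) (tt N29964 D49196) (tt N7289 (iv4 D24009)) (tt N19179 (iv5 F47013)) (tt N29965 D49197) (tt N15002 (iv7 F37625)))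
theorem Q14963 : ∀ i, i < 14963 → P i := stepQ 14962 Q14962 (allL N14962 (tt N29966 D49198) (tt N29967 D49199) (tt N15009 (iv2 F37649)) (tt N19657 (iv3 F48080)) (tt N29965 (iv4 F77693)) (tt N18902 (iv5 F46622)) (tt N7289 (iv6 D24010)) (tt N29968 D49200))
theorem Q14964 : ∀ i, i < 14964 → P i := stepQ 14963 Q14963 (allL N14963 (tt N19049 (iv1 F46843)) (tt N9540 (iv0 F37542)) (tt N19052 (iv2 F46851)) (tt N7291 (iv3 D24011)) (tt N7446 F37539) (tt N29969 D49201) (tt N11024 F37540) (tt N14747 F37541))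
theorem Q14965 : ∀ i, i < 14965 → P i := stepQ 14964 Q14964 (allL N14964 (tt N7412 F37543) (tt N15721 F38892) (tt N15011 (iv2 F37651)) (tt N29969 (iv3 F77695)) (tt N19178 (iv4 F47010)) (tt N7291 (iv5 D24012)) (tt N29970 D49202) (tt N15007 (iv7 F37645)))
theorem Q14966 : ∀ i, i < 14966 → P i := stepQ 14965 Q14965 (allL N14965 (tt N29971 D49203) (tt N23173 (iv0 F114354)) (tt N29972 D49205) (tt N7293 (iv3 D24013)) (tt N15016 (iv4 F37664)) (tt N29973 D49206) (tt N14902 F37544) (tt N15013 (iv7 F37657)))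
theorem Q14967 : ∀ i, i < 14967 → P i := stepQ 14966 Q14966 (allL N14966 (tt N19450 (iv1 F47694)) (tt N29974 D49207) (tt N15012 (iv2 F37654)) (tt N29973 (iv3 F77699)) (tt N19171 (iv4 F47002)) (tt N7293 (iv5 D24014)) (tt N29975 D49208) (tt N15014 (iv7 F37659)))
theorem Q14968 : ∀ i, i < 14968 → P i := stepQ 14967 Q14967 (allL N14967 (tt N17519 F43567) (tt N16124 (iv0 F39962)) (tt N23223 (iv2 F55250)) (tt N7294 (iv3 D24015)) (tt N7450 F37545) (tt N29976 D49209) (tt N29977 D49210) (tt N11157 F37546))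
theorem Q14969 : ∀ i, i < 14969 → P i := stepQ 14968 Q14968 (allL N14968 (tt N29974 (iv1 F77700)) (tt N19450 (iv0 F47693)) (tt N15014 (iv2 F37658)) (tt N29976 (iv3 F77705)) (tt N19168 (iv4 F47000)) (tt N7294 (iv5 D24016)) (tt N29978 D49211) (tt N15012 (iv7 F37655)))
theorem Q14970 : ∀ i, i < 14970 → P i := stepQ 14969 Q14969 (allL N14969 (tt N18488 (iv1 F46049)) (tt N10244 (iv0 F37549)) (tt N15015 (iv2 F37660)) (tt N29977 (iv3 F77708)) (tt N7295 F37547) (tt N29979 D49212) (tt N7294 (iv6 D24017)) (tt N9057 F37548))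
theorem Q14971 : ∀ i, i < 14971 → P i := stepQ 14970 Q14970 (allL N14970 (tt N23838 (iv1 F56587)) (tt N16363 F50517) (tt N19433 (iv2 F47620)) (tt N7296 (iv3 D24018)) (tt N7448 F37550) (tt N29980 D49213) (tt N9069 F37551) (tt N11160 F37552))
theorem Q14972 : ∀ i, i < 14972 → P i := stepQ 14971 Q14971 (allL N14971 (tt N29981 D49214) (tt N29982 D49215) (tt N15017 (iv2 F37667)) (tt N29980 (iv3 F77719)) (tt N19162 (iv4 F46998)) (tt N7296 (iv5 D24019)) (tt N29983 D49216) (tt N15018 (iv7 F37670)))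
theorem Q14973 : ∀ i, i < 14973 → P i := stepQ 14972 Q14972 (allL N14972 (tt N16381 F50510) (tt N29984 D49217) (tt N29985 D49218) (tt N7297 (iv3 D24020)) (tt N15013 (iv4 F37656)) (tt N29986 D49219) (tt N29987 D49220) (tt N15016 (iv7 F37666)))
theorem Q14974 : ∀ i, i < 14974 → P i := stepQ 14973 Q14973 (allL N14973 (tt N29982 (iv1 F77725)) (tt N29981 F77722) (tt N15018 (iv2 F37669)) (tt N29986 (iv3 F77734)) (tt N19155 (iv4 F46995)) (tt N7297 (iv5 D24021)) (tt N29988 D49221) (tt N15017 (iv7 F37668)))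
theorem Q14975 : ∀ i, i < 14975 → P i := stepQ 14974 Q14974 (allL N14974 (tt N16280 (iv1 F40254)) (tt N16279 F40252) (tt N15019 (iv2 F37671)) (tt N29987 (iv3 F77735)) (tt N7692 F37553) (tt N29989 D49222) (tt N7297 (iv6 D24022)) (tt N14713 F37554))
theorem Q14976 : ∀ i, i < 14976 → P i := stepQ 14975 Q14975 (allL N14975 (tt N7909 F37556) (tt N16165 F40052) (tt N16162 F40043) (tt N7299 F37555) (tt N29990 D49223) (tt N7298 (iv5 D24023)) (tt N29991 D49224) (tt N16161 F40038))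
theorem Q14977 : ∀ i, i < 14977 → P i := stepQ 14976 Q14976 (allL N14976 (tt N15029 (iv1 F37698)) (tt N7299 (iv0 D24024)) (tt N15025 F37682) (tt N29992 D49225) (tt N19145 (iv4 F46975)) (tt N7441 F37557) (tt N29993 D49226) (tt N15026 (iv7 F37686)))
theorem Q14978 : ∀ i, i < 14978 → P i := stepQ 14977 Q14977 (allL N14977 (tt N7299 (iv1 D24025)) (tt N15029 F37697) (tt N15026 F37688) (tt N29994 D49227) (tt N19134 (iv4 F46959)) (tt N7691 F37558) (tt N29995 D49228) (tt N15025 F37683))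
theorem Q14979 : ∀ i, i < 14979 → P i := stepQ 14978 Q14978 (allL N14978 (tt N19179 (iv1 F47012)) (tt N19178 F47011) (tt N15027 (iv2 F37689)) (tt N29996 D49229) (tt N7299 (iv4 D24026)) (tt N14998 (iv5 F37610)) (tt N29997 D49230) (tt N14997 F37607))
theorem Q14980 : ∀ i, i < 14980 → P i := stepQ 14979 Q14979 (allL N14979 (tt N29998 D49231) (tt N29999 D49232) (tt N15028 (iv2 F37692)) (tt N29991 (iv3 F77745)) (tt N29997 (iv4 F77750)) (tt N16359 (iv5 F40384)) (tt N7299 (iv6 D24027)) (tt N30000 D49233))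
theorem Q14981 : ∀ i, i < 14981 → P i := stepQ 14980 Q14980 (allL N14980 (tt N15026 (iv1 F37685)) (tt N15025 F37684) (tt N15029 (iv2 F37694)) (tt N16161 F40037) (tt N14997 (iv4 F37606)) (tt N7300 F37559) (tt N30001 D49234) (tt N7299 (iv7 D24028)))
theorem Q14982 : ∀ i, i < 14982 → P i := stepQ 14981 Q14981 (allL N14981 (tt N30002 D49235) (tt N18774 F46492) (tt N18228 (iv2 F45573)) (tt N7302 F37560) (tt N30003 D49236) (tt N7301 (iv5 D24029)) (tt N30004 D49237) (tt N9395 F37561))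
theorem Q14983 : ∀ i, i < 14983 → P i := stepQ 14982 Q14982 (allL N14982 (tt N7302 (iv1 D24030)) (tt N7303 F37562) (tt N9392 (iv2 F37565)) (tt N18645 (iv3 F46330)) (tt N30005 D49238) (tt N9059 F37564) (tt N15788 (iv6 F39059)) (tt N9391 F37563))
theorem Q14984 : ∀ i, i < 14984 → P i := stepQ 14983 Q14983 (allL N14983 (tt N19395 (iv1 F47530)) (tt N29954 (iv0 F77680)) (tt N9393 F37566) (tt N30006 D49239) (tt N7302 (iv4 D24031)) (tt N30007 D49240) (tt N30008 D49241) (tt N9397 F37567))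
theorem Q14985 : ∀ i, i < 14985 → P i := stepQ 14984 Q14984 (allL N14984 (tt N18766 F164051) (tt N30009 D49243) (tt N9394 F37568) (tt N30004 (iv3 F77766)) (tt N30008 (iv4 F77779)) (tt N8948 F37569) (tt N7302 (iv6 D24032)) (tt N30010 D49244))
theorem Q14986 : ∀ i, i < 14986 → P i := stepQ 14985 Q14985 (allL N14985 (tt N29954 (iv1 F77681)) (tt N19395 (iv0 F47529)) (tt N9397 F37570) (tt N30011 D49245) (tt N7303 (iv4 D24033)) (tt N30012 D49246) (tt N30013 D49247) (tt N9393 F37571))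
theorem Q14987 : ∀ i, i < 14987 → P i := stepQ 14986 Q14986 (allL N14986 (tt N30014 D49248) (tt N18668 (iv0 F46379)) (tt N9398 F37572) (tt N22673 (iv3 F53566)) (tt N30013 (iv4 F77797)) (tt N30015 D49249) (tt N7303 (iv6 D24034)) (tt N30016 D49250))
theorem Q14988 : ∀ i, i < 14988 → P i := stepQ 14987 Q14987 (allL N14987 (tt N7913 F37575) (tt N7481 F37576) (tt N9399 F37573) (tt N22674 (iv3 F53568)) (tt N18906 (iv4 F46630)) (tt N7304 (iv5 D24035)) (tt N30015 (iv6 F77806)) (tt N11143 F37574))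
theorem Q14989 : ∀ i, i < 14989 → P i := stepQ 14988 Q14988 (allL N14988 (tt N18232 (iv1 F45610)) (tt N8991 F37580) (tt N18230 F45582) (tt N7305 (iv3 D24036)) (tt N9696 (iv4 F37578)) (tt N29519 (iv5 F76582)) (tt N30017 D49251) (tt N9403 F37577))
theorem Q14990 : ∀ i, i < 14990 → P i := stepQ 14989 Q14989 (allL N14989 (tt N15045 (iv1 F37734)) (tt N7330 F37586) (tt N9401 F37584) (tt N30018 D49252) (tt N7305 (iv4 D24037)) (tt N30019 D49253) (tt N30020 D49254) (tt N9404 F37585))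
theorem Q14991 : ∀ i, i < 14991 → P i := stepQ 14990 Q14990 (allL N14990 (tt N18822 (iv1 F100247)) (tt N30021 D49256) (tt N9402 F37587) (tt N30017 (iv3 F77812)) (tt N30020 (iv4 F77820)) (tt N15152 (iv5 F37925)) (tt N7305 (iv6 D24038)) (tt N30022 D49257))
theorem Q14992 : ∀ i, i < 14992 → P i := stepQ 14991 Q14991 (allL N14991 (tt N7698 F37591) (tt N15734 F38934) (tt N15732 (iv2 F38924)) (tt N7306 (iv3 D24039)) (tt N9598 F37590) (tt N7972 F37588) (tt N30023 D49258) (tt N9400 F37589))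
theorem Q14993 : ∀ i, i < 14993 → P i := stepQ 14992 Q14992 (allL N14992 (tt N7330 F37594) (tt N15045 F37733) (tt N9404 F37592) (tt N30024 D49259) (tt N7306 (iv4 D24040)) (tt N30025 D49260) (tt N30026 D49261) (tt N9401 F37593))
theorem Q14994 : ∀ i, i < 14994 → P i := stepQ 14993 Q14993 (allL N14993 (tt N30027 D49262) (tt N18848 F168039) (tt N9405 F37595) (tt N30023 (iv3 F77827)) (tt N30026 (iv4 F77836)) (tt N7974 F37596) (tt N7306 (iv6 D24041)) (tt N30028 D49264))
theorem Q14995 : ∀ i, i < 14995 → P i := stepQ 14994 Q14994 (allL N14994 (tt N9410 (iv1 F37600)) (tt N7307 (iv0 D24042)) (tt N9406 (iv2 F37598)) (tt N30029 D49265) (tt N7335 F37597) (tt N30030 D49266) (tt N30031 D49267) (tt N9407 (iv7 F37599)))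
theorem Q14996 : ∀ i, i < 14996 → P i := stepQ 14995 Q14995 (allL N14995 (tt N7307 (iv1 D24043)) (tt N9410 F37601) (tt N9407 (iv2 F37604)) (tt N30032 D49268) (tt N7336 F37603) (tt N30033 D49269) (tt N30034 D49270) (tt N9406 F37602))
theorem Q14997 : ∀ i, i < 14997 → P i := stepQ 14996 Q14996 (allL N14996 (tt N30035 D49271) (tt N30036 D49272) (tt N30037 D49273) (tt N7307 (iv3 D24044)) (tt N18653 (iv4 F46350)) (tt N30038 D49274) (tt N18653 (iv6 F46351)) (tt N30039 D49275))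
theorem Q14998 : ∀ i, i < 14998 → P i := stepQ 14997 Q14997 (allL N14997 (tt N30040 D49276) (tt N30041 D49277) (tt N9409 F37605) (tt N30038 (iv3 F77859)) (tt N14980 F37606) (tt N7307 (iv5 D24045)) (tt N30042 D49278) (tt N14978 (iv7 F37607)))
theorem Q14999 : ∀ i, i < 14999 → P i := stepQ 14998 Q14998 (allL N14998 (tt N9407 (iv1 F37611)) (tt N9406 F37612) (tt N9410 F37608) (tt N30039 (iv3 F77861)) (tt N7308 F37609) (tt N14978 F37610) (tt N30043 D49279) (tt N7307 (iv7 D24046)))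
theorem Q15000 : ∀ i, i < 15000 → P i := stepQ 14999 Q14999 (allL N14999 (tt N18727 (iv1 F46439)) (tt N18726 F46438) (tt N9411 F37613) (tt N18656 (iv3 F46358)) (tt N30043 (iv4 F77876)) (tt N14999 F37614) (tt N7308 (iv6 D24047)) (tt N18656 (iv7 F46360)))
theorem Q15001 : ∀ i, i < 15001 → P i := stepQ 15000 Q15000 (allL N15000 (tt N7315 (iv1 F37616)) (tt N7309 (iv0 D24048)) (tt N9501 (iv2 F37617)) (tt N9511 (iv3 F37618)) (tt N19131 (iv4 F46955)) (tt N7918 F37615) (tt N30044 D49280) (tt N14953 (iv7 F37619)))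
theorem Q15002 : ∀ i, i < 15002 → P i := stepQ 15001 Q15001 (allL N15001 (tt N7309 (iv1 D24049)) (tt N7315 F37620) (tt N14953 (iv2 F37623)) (tt N19560 (iv3 F47972)) (tt N19132 (iv4 F46958)) (tt N7954 F37622) (tt N29942 (iv6 F77656)) (tt N9501 F37621))
theorem Q15003 : ∀ i, i < 15003 → P i := stepQ 15002 Q15002 (allL N15002 (tt N18741 (iv1 F46453)) (tt N30005 (iv0 F77770)) (tt N14954 F37624) (tt N30045 D49281) (tt N7309 (iv4 D24050)) (tt N30040 (iv5 F77863)) (tt N30046 D49282) (tt N14961 F37625))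
theorem Q15004 : ∀ i, i < 15004 → P i := stepQ 15003 Q15003 (allL N15003 (tt N30047 D49283) (tt N30048 D49284) (tt N14955 F37626) (tt N9643 F37627) (tt N30046 (iv4 F77883)) (tt N14698 F37628) (tt N7309 (iv6 D24051)) (tt N30049 D49285))
theorem Q15005 : ∀ i, i < 15005 → P i := stepQ 15004 Q15004 (allL N15004 (tt N7409 F37632) (tt N7407 F37633) (tt N14956 F37629) (tt N7920 F37630) (tt N7311 (iv4 D24052)) (tt N29982 (iv5 F77727)) (tt N16312 F40318) (tt N14957 F37631))
theorem Q15006 : ∀ i, i < 15006 → P i := stepQ 15005 Q15005 (allL N15005 (tt N7407 F37637) (tt N7409 F37638) (tt N14957 F37634) (tt N30050 D49286) (tt N7312 (iv4 D24053)) (tt N29981 (iv5 F77721)) (tt N7921 F37635) (tt N14956 F37636))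
theorem Q15007 : ∀ i, i < 15007 → P i := stepQ 15006 Q15006 (allL N15006 (tt N7317 (iv1 F37641)) (tt N7313 (iv0 D24054)) (tt N9509 (iv2 F37640)) (tt N19492 (iv3 F47781)) (tt N7440 F37639) (tt N29974 (iv5 F77702)) (tt N11789 (iv6 F37643)) (tt N14958 F37642))
theorem Q15008 : ∀ i, i < 15008 → P i := stepQ 15007 Q15007 (allL N15007 (tt N15187 (iv1 F37998)) (tt N7694 F37646) (tt N14959 F37644) (tt N29580 (iv3 F76750)) (tt N30041 (iv4 F77871)) (tt N7313 (iv5 D24055)) (tt N30051 D49287) (tt N14964 F37645))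
theorem Q15009 : ∀ i, i < 15009 → P i := stepQ 15008 Q15008 (allL N15008 (tt N30005 (iv1 F77771)) (tt N18741 (iv0 F46452)) (tt N14961 F37647) (tt N30052 D49288) (tt N7315 (iv4 D24056)) (tt N30041 (iv5 F77870)) (tt N30053 D49289) (tt N14954 F37648))
theorem Q15010 : ∀ i, i < 15010 → P i := stepQ 15009 Q15009 (allL N15009 (tt N30054 D49290) (tt N30055 D49291) (tt N14962 F37649) (tt N19780 (iv3 F48292)) (tt N30053 (iv4 F77901)) (tt N19386 (iv5 F47512)) (tt N7315 (iv6 D24057)) (tt N30056 D49292))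
theorem Q15011 : ∀ i, i < 15011 → P i := stepQ 15010 Q15010 (allL N15010 (tt N13612 F68917) (tt N13549 (iv0 F65523)) (tt N13609 F65524) (tt N7317 (iv3 D24058)) (tt N15713 (iv4 F38876)) (tt N30057 D49293) (tt N23131 (iv6 F55019)) (tt N13610 (iv7 F65510)))
theorem Q15012 : ∀ i, i < 15012 → P i := stepQ 15011 Q15011 (allL N15011 (tt N7694 F37653) (tt N15187 F37997) (tt N14964 F37651) (tt N30057 (iv3 F77916)) (tt N30040 (iv4 F77864)) (tt N7317 (iv5 D24059)) (tt N30058 D49294) (tt N14959 F37652))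
theorem Q15013 : ∀ i, i < 15013 → P i := stepQ 15012 Q15012 (allL N15012 (tt N29962 (iv1 F77692)) (tt N19408 (iv0 F47563)) (tt N14966 F37654) (tt N22789 (iv3 F54405)) (tt N30033 (iv4 F77854)) (tt N7319 (iv5 D24060)) (tt N30059 D49295) (tt N14968 F37655))
theorem Q15014 : ∀ i, i < 15014 → P i := stepQ 15013 Q15013 (allL N15013 (tt N29888 (iv1 F114359)) (tt N30060 D49297) (tt N26560 (iv2 F82990)) (tt N7320 (iv3 D24061)) (tt N14972 F37656) (tt N27237 (iv5 F82966)) (tt N26442 (iv6 F82970)) (tt N14965 F37657))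
theorem Q15015 : ∀ i, i < 15015 → P i := stepQ 15014 Q15014 (allL N15014 (tt N19408 (iv1 F47564)) (tt N29962 (iv0 F77691)) (tt N14968 F37658) (tt N27237 (iv3 F82965)) (tt N30030 (iv4 F77849)) (tt N7320 (iv5 D24062)) (tt N30061 D49301) (tt N14966 F37659))
theorem Q15016 : ∀ i, i < 15016 → P i := stepQ 15015 Q15015 (allL N15015 (tt N16282 (iv1 F40259)) (tt N11433 (iv0 F37663)) (tt N14969 F37660) (tt N26442 (iv3 F82968)) (tt N7321 F37661) (tt N21902 (iv5 F52165)) (tt N7320 (iv6 D24063)) (tt N14878 F37662))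
theorem Q15017 : ∀ i, i < 15017 → P i := stepQ 15016 Q15016 (allL N15016 (tt N30062 D49302) (tt N29553 (iv0 F76664)) (tt N30063 D49303) (tt N7322 (iv3 D24064)) (tt N14965 F37664) (tt N30064 D49304) (tt N7986 F37665) (tt N14972 F37666))
theorem Q15018 : ∀ i, i < 15018 → P i := stepQ 15017 Q15017 (allL N15017 (tt N29961 (iv1 F77688)) (tt N29960 (iv0 F77684)) (tt N14971 F37667) (tt N30064 (iv3 F77944)) (tt N30025 (iv4 F77833)) (tt N7322 (iv5 D24065)) (tt N30065 D49305) (tt N14973 F37668))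
theorem Q15019 : ∀ i, i < 15019 → P i := stepQ 15018 Q15018 (allL N15018 (tt N29960 (iv1 F77685)) (tt N29961 (iv0 F77687)) (tt N14973 F37669) (tt N22795 (iv3 F54427)) (tt N30019 (iv4 F77818)) (tt N7323 (iv5 D24066)) (tt N30066 D49306) (tt N14971 F37670))
theorem Q15020 : ∀ i, i < 15020 → P i := stepQ 15019 Q15019 (allL N15019 (tt N18390 (iv1 F45862)) (tt N11442 (iv0 F37674)) (tt N14974 F37671) (tt N22796 (iv3 F54428)) (tt N7410 F37672) (tt N30067 D49307) (tt N7323 (iv6 D24067)) (tt N7980 F37673))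
theorem Q15021 : ∀ i, i < 15021 → P i := stepQ 15020 Q15020 (allL N15020 (tt N29820 (iv1 F77409)) (tt N7324 (iv0 D24068)) (tt N30068 D49308) (tt N30069 D49309) (tt N30070 D49310) (tt N30071 D49311) (tt N30072 D49312) (tt N30073 D49313))
theorem Q15022 : ∀ i, i < 15022 → P i := stepQ 15021 Q15021 (allL N15021 (tt N7324 (iv1 D24069)) (tt N29820 F77408) (tt N30073 (iv2 F77962)) (tt N30074 D49314) (tt N30075 D49315) (tt N30076 D49316) (tt N30077 D49317) (tt N30068 F77953))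
theorem Q15023 : ∀ i, i < 15023 → P i := stepQ 15022 Q15022 (allL N15022 (tt N30068 (iv1 F77967)) (tt N30073 F77966) (tt N7324 (iv2 D24070)) (tt N8973 F37675) (tt N15022 F37676) (tt N30078 D49318) (tt N11405 F37677) (tt N29820 (iv7 F77407)))
theorem Q15024 : ∀ i, i < 15024 → P i := stepQ 15023 Q15023 (allL N15023 (tt N30079 D49319) (tt N30080 D49320) (tt N30078 (iv2 F77974)) (tt N7325 F37678) (tt N30081 D49321) (tt N7324 (iv5 D24071)) (tt N30082 D49322) (tt N30083 D49323))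
theorem Q15025 : ∀ i, i < 15025 → P i := stepQ 15024 Q15024 (allL N15024 (tt N30073 F77964) (tt N30068 F77965) (tt N29820 (iv2 F77404)) (tt N7326 F37679) (tt N15024 F37680) (tt N30083 (iv5 F77984)) (tt N30084 D49324) (tt N7324 (iv7 D24072)))
theorem Q15026 : ∀ i, i < 15026 → P i := stepQ 15025 Q15025 (allL N15025 (tt N14980 (iv1 F37684)) (tt N7325 (iv0 D24073)) (tt N14976 (iv2 F37682)) (tt N30085 D49325) (tt N30012 (iv4 F77792)) (tt N7407 F37681) (tt N30086 D49326) (tt N14977 (iv7 F37683)))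
theorem Q15027 : ∀ i, i < 15027 → P i := stepQ 15026 Q15026 (allL N15026 (tt N7325 (iv1 D24074)) (tt N14980 F37685) (tt N14977 (iv2 F37688)) (tt N30087 D49327) (tt N30007 (iv4 F77775)) (tt N7409 F37687) (tt N30088 D49328) (tt N14976 F37686))
theorem Q15028 : ∀ i, i < 15028 → P i := stepQ 15027 Q15027 (allL N15027 (tt N30041 (iv1 F77868)) (tt N30040 F77865) (tt N14978 F37689) (tt N30089 D49329) (tt N7325 (iv4 D24075)) (tt N9410 F37690) (tt N30090 D49330) (tt N9409 (iv7 F37691)))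
theorem Q15029 : ∀ i, i < 15029 → P i := stepQ 15028 Q15028 (allL N15028 (tt N30091 D49331) (tt N30092 D49332) (tt N14979 F37692) (tt N30082 (iv3 F77981)) (tt N30090 (iv4 F77999)) (tt N11407 F37693) (tt N7325 (iv6 D24076)) (tt N30093 D49333))
theorem Q15030 : ∀ i, i < 15030 → P i := stepQ 15029 Q15029 (allL N15029 (tt N14977 (iv1 F37697)) (tt N14976 F37698) (tt N14980 F37694) (tt N30083 (iv3 F77983)) (tt N9409 F37695) (tt N7326 F37696) (tt N30094 D49334) (tt N7325 (iv7 D24077)))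
theorem Q15031 : ∀ i, i < 15031 → P i := stepQ 15030 Q15030 (allL N15030 (tt N10482 (iv1 F37702)) (tt N10481 F37703) (tt N11398 F37699) (tt N30084 (iv3 F77986)) (tt N7327 F37700) (tt N30095 D49335) (tt N7326 (iv6 D24078)) (tt N8017 F37701))
theorem Q15032 : ∀ i, i < 15032 → P i := stepQ 15031 Q15031 (allL N15031 (tt N30096 D49336) (tt N30097 D49337) (tt N15041 (iv2 F37726)) (tt N19789 (iv3 F48322)) (tt N19169 (iv4 F47001)) (tt N16067 (iv5 F39772)) (tt N7328 (iv6 D24079)) (tt N30098 D49338))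
theorem Q15033 : ∀ i, i < 15033 → P i := stepQ 15032 Q15032 (allL N15032 (tt N30099 D49339) (tt N30100 D49340) (tt N15042 (iv2 F37728)) (tt N15858 (iv3 F39196)) (tt N19172 (iv4 F47003)) (tt N7953 F37705) (tt N7329 (iv6 D24080)) (tt N30101 D49341))
theorem Q15034 : ∀ i, i < 15034 → P i := stepQ 15033 Q15033 (allL N15033 (tt N30102 D49342) (tt N30103 D49343) (tt N30104 D49344) (tt N7330 (iv3 D24081)) (tt N16582 (iv4 F40734)) (tt N30105 D49345) (tt N19823 (iv6 F48374)) (tt N30106 D49346))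
theorem Q15035 : ∀ i, i < 15035 → P i := stepQ 15034 Q15034 (allL N15034 (tt N30007 (iv1 F77777)) (tt N30012 (iv0 F77794)) (tt N15044 (iv2 F37730)) (tt N30105 (iv3 F78014)) (tt N15721 (iv4 F38890)) (tt N7330 (iv5 D24082)) (tt N30107 D49347) (tt N15719 F38886))
theorem Q15036 : ∀ i, i < 15036 → P i := stepQ 15035 Q15035 (allL N15035 (tt N9404 (iv1 F37707)) (tt N9401 F37708) (tt N15045 (iv2 F37731)) (tt N30106 (iv3 F78015)) (tt N7331 F37706) (tt N15719 (iv5 F38885)) (tt N30108 D49348) (tt N7330 (iv7 D24083)))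
theorem Q15037 : ∀ i, i < 15037 → P i := stepQ 15036 Q15036 (allL N15036 (tt N30109 D49349) (tt N30110 D49350) (tt N15046 (iv2 F37735)) (tt N16585 (iv3 F40743)) (tt N30108 (iv4 F78016)) (tt N15036 F37709) (tt N7331 (iv6 D24084)) (tt N19825 (iv7 F48377)))
theorem Q15038 : ∀ i, i < 15038 → P i := stepQ 15037 Q15037 (allL N15037 (tt N19541 (iv1 F47931)) (tt N18977 F46717) (tt N9199 F37710) (tt N16562 (iv3 F40692)) (tt N30111 D49351) (tt N7332 (iv5 D24085)) (tt N30112 D49352) (tt N9191 F37711))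
theorem Q15039 : ∀ i, i < 15039 → P i := stepQ 15038 Q15038 (allL N15038 (tt N7333 (iv1 D24087)) (tt N9705 F37712) (tt N9703 F37714) (tt N16191 (iv3 F40115)) (tt N18652 (iv4 F46348)) (tt N8889 (iv5 F37713)) (tt N30113 D49353) (tt N9702 (iv7 F37715)))
theorem Q15040 : ∀ i, i < 15040 → P i := stepQ 15039 Q15039 (allL N15039 (tt N9205 F45212) (tt N9208 F37720) (tt N9704 F37718) (tt N30114 D49354) (tt N7333 (iv4 D24088)) (tt N30115 D49355) (tt N7337 F37719) (tt N30116 D49356))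
theorem Q15041 : ∀ i, i < 15041 → P i := stepQ 15040 Q15040 (allL N15040 (tt N9703 (iv1 F37724)) (tt N9702 F37725) (tt N9705 F37721) (tt N9690 F37722) (tt N30116 (iv4 F78030)) (tt N7334 F37723) (tt N30117 D49357) (tt N7333 (iv7 D24089)))
theorem Q15042 : ∀ i, i < 15042 → P i := stepQ 15041 Q15041 (allL N15041 (tt N30118 D49358) (tt N30119 D49359) (tt N15031 F37726) (tt N9650 F37727) (tt N30031 (iv4 F77851)) (tt N15093 (iv5 F37850)) (tt N7335 (iv6 D24090)) (tt N30120 D49360))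
theorem Q15043 : ∀ i, i < 15043 → P i := stepQ 15042 Q15042 (allL N15042 (tt N30121 D49361) (tt N30122 D49362) (tt N15032 F37728) (tt N19783 (iv3 F48299)) (tt N30034 (iv4 F77857)) (tt N14692 F37729) (tt N7336 (iv6 D24091)) (tt N30123 D49363))
theorem Q15044 : ∀ i, i < 15044 → P i := stepQ 15043 Q15043 (allL N15043 (tt N30124 D49364) (tt N30125 D49365) (tt N30126 D49366) (tt N7337 (iv3 D24092)) (tt N19925 (iv4 F48594)) (tt N30127 D49367) (tt N30114 (iv6 F78025)) (tt N30128 D49368))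
theorem Q15045 : ∀ i, i < 15045 → P i := stepQ 15044 Q15044 (allL N15044 (tt N19134 (iv1 F46961)) (tt N19145 (iv0 F46976)) (tt N15034 F37730) (tt N30127 (iv3 F78054)) (tt N15187 (iv4 F37995)) (tt N7337 (iv5 D24093)) (tt N30129 D49369) (tt N15185 F37993))
theorem Q15046 : ∀ i, i < 15046 → P i := stepQ 15045 Q15045 (allL N15045 (tt N14992 (iv1 F37733)) (tt N14989 F37734) (tt N15035 F37731) (tt N30128 (iv3 F78055)) (tt N7338 F37732) (tt N15185 (iv5 F37992)) (tt N30130 D49370) (tt N7337 (iv7 D24094)))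
theorem Q15047 : ∀ i, i < 15047 → P i := stepQ 15046 Q15046 (allL N15046 (tt N30131 D49371) (tt N30132 D49372) (tt N15036 F37735) (tt N19927 (iv3 F48597)) (tt N30130 (iv4 F78058)) (tt N15046 F37736) (tt N7338 (iv6 D24095)) (tt N30117 (iv7 F78036)))
theorem Q15048 : ∀ i, i < 15048 → P i := stepQ 15047 Q15047 (allL N15047 (tt N9986 (iv1 F37739)) (tt N9985 F37741) (tt N7971 F37737) (tt N29515 (iv3 F76562)) (tt N30133 D49373) (tt N7339 (iv5 D24096)) (tt N30134 D49374) (tt N9977 F37738))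
theorem Q15049 : ∀ i, i < 15049 → P i := stepQ 15048 Q15048 (allL N15048 (tt N9636 F37744) (tt N16053 F39708) (tt N7972 F37742) (tt N29516 (iv3 F76567)) (tt N7341 F37743) (tt N15732 F38923) (tt N7339 (iv6 D24097)) (tt N30135 D49375))
theorem Q15050 : ∀ i, i < 15050 → P i := stepQ 15049 Q15049 (allL N15049 (tt N9999 (iv1 F37747)) (tt N9998 F37748) (tt N8148 F37745) (tt N30136 D49376) (tt N7340 (iv4 D24098)) (tt N30137 D49377) (tt N30138 D49378) (tt N9979 F37746))
theorem Q15051 : ∀ i, i < 15051 → P i := stepQ 15050 Q15050 (allL N15050 (tt N20345 F49148) (tt N20342 (iv0 F49144)) (tt N8149 F37749) (tt N9928 F37750) (tt N30138 (iv4 F78083)) (tt N15822 (iv5 F39115)) (tt N7340 (iv6 D24099)) (tt N30139 D49379))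
theorem Q15052 : ∀ i, i < 15052 → P i := stepQ 15051 Q15051 (allL N15051 (tt N8151 (iv1 F37755)) (tt N8150 F37756) (tt N8152 F37751) (tt N9930 F37752) (tt N30135 (iv4 F78070)) (tt N7740 F37753) (tt N9982 F37754) (tt N7341 (iv7 D24100)))
theorem Q15053 : ∀ i, i < 15053 → P i := stepQ 15052 Q15052 (allL N15052 (tt N10064 F37759) (tt N10063 F37760) (tt N8170 F37757) (tt N30140 D49380) (tt N7342 (iv4 D24101)) (tt N30141 D49381) (tt N30142 D49382) (tt N10061 F37758))
theorem Q15054 : ∀ i, i < 15054 → P i := stepQ 15053 Q15053 (allL N15053 (tt N7775 (iv1 F37765)) (tt N7755 F37764) (tt N7774 F37761) (tt N10029 F37762) (tt N18298 (iv4 F45753)) (tt N7342 (iv5 D24102)) (tt N15820 (iv6 F39107)) (tt N7739 F37763))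
theorem Q15055 : ∀ i, i < 15055 → P i := stepQ 15054 Q15054 (allL N15054 (tt N30143 D49383) (tt N30144 D49384) (tt N8171 F37766) (tt N10030 F37767) (tt N30142 (iv4 F78098)) (tt N19570 (iv5 F47990)) (tt N7342 (iv6 D24103)) (tt N30145 D49385))
theorem Q15056 : ∀ i, i < 15056 → P i := stepQ 15055 Q15055 (allL N15055 (tt N9975 (iv1 F37772)) (tt N7343 (iv0 D24104)) (tt N19648 F48056) (tt N30146 D49386) (tt N18635 (iv4 F46300)) (tt N30147 D49387) (tt N30148 D49388) (tt N19649 F48055))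
theorem Q15057 : ∀ i, i < 15057 → P i := stepQ 15056 Q15056 (allL N15056 (tt N7343 (iv1 D24105)) (tt N9975 F37768) (tt N19649 F48054) (tt N30149 D49389) (tt N18636 F46307) (tt N30150 D49390) (tt N30151 D49391) (tt N19648 (iv7 F48057)))
theorem Q15058 : ∀ i, i < 15058 → P i := stepQ 15057 Q15057 (allL N15057 (tt N30152 D49392) (tt N30153 D49393) (tt N30154 D49394) (tt N7343 (iv3 D24106)) (tt N7380 F37769) (tt N30155 D49395) (tt N15357 (iv6 F38304)) (tt N30156 D49396))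
theorem Q15059 : ∀ i, i < 15059 → P i := stepQ 15058 Q15058 (allL N15058 (tt N30157 D49397) (tt N30158 D49398) (tt N19651 (iv2 F48059)) (tt N30155 (iv3 F78111)) (tt N30159 D49399) (tt N7343 (iv5 D24107)) (tt N30160 D49400) (tt N30161 D49401))
theorem Q15060 : ∀ i, i < 15060 → P i := stepQ 15059 Q15059 (allL N15059 (tt N19649 (iv1 F48052)) (tt N19648 F48051) (tt N9975 F37770) (tt N30156 (iv3 F78112)) (tt N7344 F37771) (tt N30161 (iv5 F78127)) (tt N30162 D49402) (tt N7343 (iv7 D24108)))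
theorem Q15061 : ∀ i, i < 15061 → P i := stepQ 15060 Q15060 (allL N15060 (tt N30163 D49403) (tt N10133 F163962) (tt N9976 F37773) (tt N7383 F37774) (tt N30162 (iv4 F78129)) (tt N15060 F37775) (tt N7344 (iv6 D24109)) (tt N15360 (iv7 F38308)))
theorem Q15062 : ∀ i, i < 15062 → P i := stepQ 15061 Q15061 (allL N15061 (tt N7348 (iv1 F37777)) (tt N7345 (iv0 D24110)) (tt N18685 (iv2 F46398)) (tt N18897 F46614) (tt N22749 (iv4 F53876)) (tt N10161 F37776) (tt N30164 D49405) (tt N22613 (iv7 F53443)))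
theorem Q15063 : ∀ i, i < 15063 → P i := stepQ 15062 Q15062 (allL N15062 (tt N7345 (iv1 D24111)) (tt N7348 F37778) (tt N22613 F53441) (tt N9888 F37780) (tt N22750 (iv4 F53879)) (tt N10164 (iv5 F37779)) (tt N16072 (iv6 F39785)) (tt N18685 (iv7 F46400)))
theorem Q15064 : ∀ i, i < 15064 → P i := stepQ 15063 Q15063 (allL N15063 (tt N18692 (iv1 F46407)) (tt N30165 D49406) (tt N29930 (iv2 F77626)) (tt N30166 D49407) (tt N7345 (iv4 D24112)) (tt N30167 D49408) (tt N30168 D49409) (tt N22614 (iv7 F53453)))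
theorem Q15065 : ∀ i, i < 15065 → P i := stepQ 15064 Q15064 (allL N15064 (tt N30169 D49410) (tt N30170 D49411) (tt N29931 (iv2 F77630)) (tt N9853 F37781) (tt N30168 (iv4 F78138)) (tt N9846 F37782) (tt N7345 (iv6 D24113)) (tt N30171 D49412))
theorem Q15066 : ∀ i, i < 15066 → P i := stepQ 15065 Q15065 (allL N15065 (tt N7346 (iv1 D24115)) (tt N16202 F40135) (tt N16204 (iv2 F40144)) (tt N10035 (iv3 F37785)) (tt N8902 F37783) (tt N16682 (iv5 F40911)) (tt N15071 (iv6 F37799)) (tt N8899 (iv7 F37784)))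
theorem Q15067 : ∀ i, i < 15067 → P i := stepQ 15066 Q15066 (allL N15066 (tt N16204 (iv1 F40148)) (tt N8899 (iv0 F37789)) (tt N16202 F40132) (tt N9734 F37787) (tt N16202 (iv4 F40130)) (tt N9732 F37788) (tt N15931 (iv6 F39318)) (tt N7346 (iv7 D24116)))
theorem Q15068 : ∀ i, i < 15068 → P i := stepQ 15067 Q15067 (allL N15067 (tt N18903 F46624) (tt N19695 (iv0 F48166)) (tt N11071 F37790) (tt N7348 F37791) (tt N30172 D49413) (tt N7347 (iv5 D24117)) (tt N30173 D49414) (tt N11065 F37792))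
theorem Q15069 : ∀ i, i < 15069 → P i := stepQ 15068 Q15068 (allL N15068 (tt N19788 (iv1 F48318)) (tt N15830 F39330) (tt N11072 F37793) (tt N7349 F37794) (tt N7795 F37795) (tt N19776 (iv5 F48277)) (tt N7347 (iv6 D24118)) (tt N20110 (iv7 F48837)))
theorem Q15070 : ∀ i, i < 15070 → P i := stepQ 15069 Q15069 (allL N15069 (tt N30165 (iv1 F78133)) (tt N18692 (iv0 F46406)) (tt N22614 (iv2 F53452)) (tt N30174 D49415) (tt N7348 (iv4 D24119)) (tt N30175 D49416) (tt N30176 D49417) (tt N29930 (iv7 F77627)))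
theorem Q15071 : ∀ i, i < 15071 → P i := stepQ 15070 Q15070 (allL N15070 (tt N30177 D49418) (tt N16067 (iv0 F39773)) (tt N22615 (iv2 F53456)) (tt N30173 (iv3 F78148)) (tt N30176 (iv4 F78151)) (tt N30178 D49419) (tt N7348 (iv6 D24120)) (tt N30179 D49420))
theorem Q15072 : ∀ i, i < 15072 → P i := stepQ 15071 Q15071 (allL N15071 (tt N15931 (iv1 F39323)) (tt N7349 (iv0 D24121)) (tt N18049 (iv2 F45205)) (tt N7549 (iv3 F37797)) (tt N16062 F39747) (tt N9591 F37796) (tt N15065 F37799) (tt N7539 (iv7 F37798)))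
theorem Q15073 : ∀ i, i < 15073 → P i := stepQ 15072 Q15072 (allL N15072 (tt N9199 F37800) (tt N9191 (iv0 F37801)) (tt N18977 (iv2 F46718)) (tt N19776 F48282) (tt N30180 D49421) (tt N7349 (iv5 D24122)) (tt N30178 (iv6 F78152)) (tt N19541 (iv7 F47932)))
theorem Q15074 : ∀ i, i < 15074 → P i := stepQ 15073 Q15073 (allL N15073 (tt N7539 F39324) (tt N18049 F45210) (tt N15931 F39320) (tt N20110 (iv3 F48835)) (tt N15931 F39321) (tt N19541 (iv5 F47933)) (tt N16202 (iv6 F40133)) (tt N7349 (iv7 D24123)))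
theorem Q15075 : ∀ i, i < 15075 → P i := stepQ 15074 Q15074 (allL N15074 (tt N18025 (iv1 F45135)) (tt N7722 (iv0 F37802)) (tt N18021 F45123) (tt N30181 D49422) (tt N7350 (iv4 D24124)) (tt N30182 D49423) (tt N30183 D49424) (tt N18022 (iv7 F45127)))
theorem Q15076 : ∀ i, i < 15076 → P i := stepQ 15075 Q15075 (allL N15075 (tt N19994 (iv1 F48675)) (tt N9200 F37805) (tt N19995 (iv2 F48681)) (tt N9708 F37803) (tt N19995 (iv4 F48683)) (tt N7350 (iv5 D24125)) (tt N9814 F37806) (tt N9724 F37804))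
theorem Q15077 : ∀ i, i < 15077 → P i := stepQ 15076 Q15076 (allL N15076 (tt N30184 D49425) (tt N30185 D49426) (tt N29932 (iv2 F77633)) (tt N22595 (iv3 F53400)) (tt N30183 (iv4 F78158)) (tt N16227 F40187) (tt N7350 (iv6 D24126)) (tt N30186 D49427))
theorem Q15078 : ∀ i, i < 15078 → P i := stepQ 15077 Q15077 (allL N15077 (tt N7722 F37807) (tt N18025 F45134) (tt N18022 F45129) (tt N30187 D49428) (tt N7351 (iv4 D24127)) (tt N30188 D49429) (tt N30189 D49430) (tt N18021 F45124))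
theorem Q15079 : ∀ i, i < 15079 → P i := stepQ 15078 Q15078 (allL N15078 (tt N30190 D49431) (tt N30191 D49432) (tt N22632 (iv2 F53491)) (tt N20004 (iv3 F48707)) (tt N30189 (iv4 F78160)) (tt N19993 (iv5 F48674)) (tt N7351 (iv6 D24128)) (tt N30192 D49433))
theorem Q15080 : ∀ i, i < 15080 → P i := stepQ 15079 Q15079 (allL N15079 (tt N29935 (iv1 F77640)) (tt N7352 (iv0 D24129)) (tt N15769 (iv2 F39027)) (tt N22725 (iv3 F53814)) (tt N7433 F37808) (tt N30193 D49434) (tt N30194 D49435) (tt N10167 (iv7 F37809)))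
theorem Q15081 : ∀ i, i < 15081 → P i := stepQ 15080 Q15080 (allL N15080 (tt N7352 (iv1 D24130)) (tt N29935 F77639) (tt N10167 (iv2 F37811)) (tt N30195 D49436) (tt N8874 F37810) (tt N30196 D49437) (tt N30197 D49438) (tt N15769 (iv7 F39028)))
theorem Q15082 : ∀ i, i < 15082 → P i := stepQ 15081 Q15081 (allL N15081 (tt N30198 D49439) (tt N30199 D49440) (tt N30200 D49441) (tt N7352 (iv3 D24131)) (tt N15357 (iv4 F38303)) (tt N30201 D49442) (tt N7380 F37812) (tt N30202 D49443))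
theorem Q15083 : ∀ i, i < 15083 → P i := stepQ 15082 Q15082 (allL N15082 (tt N22752 (iv1 F53882)) (tt N30203 D49444) (tt N29934 (iv2 F77636)) (tt N30201 (iv3 F78168)) (tt N30204 D49445) (tt N7352 (iv5 D24132)) (tt N30205 D49446) (tt N30206 D49447))
theorem Q15084 : ∀ i, i < 15084 → P i := stepQ 15083 Q15083 (allL N15083 (tt N10167 (iv1 F37814)) (tt N15769 (iv0 F39029)) (tt N29935 (iv2 F77637)) (tt N30202 (iv3 F78169)) (tt N7353 F37813) (tt N30206 (iv5 F78176)) (tt N30207 D49448) (tt N7352 (iv7 D24133)))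
theorem Q15085 : ∀ i, i < 15085 → P i := stepQ 15084 Q15084 (allL N15084 (tt N29953 (iv1 F77677)) (tt N29952 F77676) (tt N29936 (iv2 F77641)) (tt N15360 (iv3 F38306)) (tt N30207 (iv4 F78177)) (tt N15084 F37815) (tt N7353 (iv6 D24134)) (tt N7383 F37816))
theorem Q15086 : ∀ i, i < 15086 → P i := stepQ 15085 Q15085 (allL N15085 (tt N7354 (iv1 D24135)) (tt N8118 F37817) (tt N8126 (iv2 F37819)) (tt N9725 (iv3 F37820)) (tt N30208 D49449) (tt N15950 (iv5 F39408)) (tt N22622 F53466) (tt N8125 F37818))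
theorem Q15087 : ∀ i, i < 15087 → P i := stepQ 15086 Q15086 (allL N15086 (tt N30209 D49450) (tt N20801 (iv0 F49634)) (tt N8127 F37821) (tt N30210 D49451) (tt N7354 (iv4 D24136)) (tt N30211 D49452) (tt N30212 D49453) (tt N8132 F37822))
theorem Q15088 : ∀ i, i < 15088 → P i := stepQ 15087 Q15087 (allL N15087 (tt N9972 F111216) (tt N20038 (iv0 F48752)) (tt N8128 F37823) (tt N7359 F37824) (tt N30212 (iv4 F78191)) (tt N9765 F37825) (tt N7354 (iv6 D24137)) (tt N30213 D49454))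
theorem Q15089 : ∀ i, i < 15089 → P i := stepQ 15088 Q15088 (allL N15088 (tt N7355 (iv1 D24138)) (tt N8131 F37826) (tt N8129 F37829) (tt N9710 F37830) (tt N30214 D49455) (tt N19189 (iv5 F47038)) (tt N8941 (iv6 F37828)) (tt N8114 F37827))
theorem Q15090 : ∀ i, i < 15090 → P i := stepQ 15089 Q15089 (allL N15089 (tt N8129 (iv1 F37836)) (tt N8114 F37837) (tt N8131 F37831) (tt N7362 F37832) (tt N7655 F37833) (tt N9720 F37834) (tt N8134 F37835) (tt N7355 (iv7 D24139)))
theorem Q15091 : ∀ i, i < 15091 → P i := stepQ 15090 Q15090 (allL N15090 (tt N7398 F37841) (tt N7386 F37842) (tt N10260 F37838) (tt N30215 D49456) (tt N7356 (iv4 D24140)) (tt N10260 F37840) (tt N30216 D49457) (tt N10259 F37839))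
theorem Q15092 : ∀ i, i < 15092 → P i := stepQ 15091 Q15091 (allL N15091 (tt N30217 D49458) (tt N30218 D49459) (tt N16068 (iv2 F39774)) (tt N19997 (iv3 F48693)) (tt N30216 (iv4 F78209)) (tt N7959 F37843) (tt N7356 (iv6 D24141)) (tt N30219 D49460))
theorem Q15093 : ∀ i, i < 15093 → P i := stepQ 15092 Q15092 (allL N15092 (tt N7386 F37847) (tt N7398 F37848) (tt N10259 F37844) (tt N30220 D49461) (tt N7357 (iv4 D24142)) (tt N10259 F37845) (tt N30221 D49462) (tt N10260 F37846))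
theorem Q15094 : ∀ i, i < 15094 → P i := stepQ 15093 Q15093 (allL N15093 (tt N22615 F53458) (tt N30179 F78153) (tt N16067 (iv2 F39771)) (tt N9995 F37849) (tt N30221 (iv4 F78215)) (tt N15041 F37850) (tt N7357 (iv6 D24143)) (tt N30177 (iv7 F78362)))
theorem Q15095 : ∀ i, i < 15095 → P i := stepQ 15094 Q15094 (allL N15094 (tt N30222 D49464) (tt N30223 D49465) (tt N30224 D49466) (tt N7358 (iv3 D24144)) (tt N30210 (iv4 F78186)) (tt N15130 (iv5 F37899)) (tt N30225 D49467) (tt N16069 (iv7 F39776)))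
theorem Q15096 : ∀ i, i < 15096 → P i := stepQ 15095 Q15095 (allL N15095 (tt N30226 D49468) (tt N30227 D49469) (tt N18151 (iv2 F45369)) (tt N30225 (iv3 F78218)) (tt N7359 F37851) (tt N30228 D49470) (tt N7358 (iv6 D24145)) (tt N30229 D49471))
theorem Q15097 : ∀ i, i < 15097 → P i := stepQ 15096 Q15096 (allL N15096 (tt N18154 (iv1 F45376)) (tt N7359 (iv0 D24146)) (tt N18152 F111266) (tt N20002 (iv3 F111268)) (tt N30230 D49474) (tt N30231 D49475) (tt N30169 F78140) (tt N18153 F111267))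
theorem Q15098 : ∀ i, i < 15098 → P i := stepQ 15097 Q15097 (allL N15097 (tt N7359 (iv1 D24147)) (tt N18154 F45375) (tt N18153 (iv2 F111258)) (tt N20342 (iv3 F111259)) (tt N30232 D49478) (tt N20340 F111256) (tt N30233 D49480) (tt N18152 (iv7 F111264)))
theorem Q15099 : ∀ i, i < 15099 → P i := stepQ 15098 Q15098 (allL N15098 (tt N30234 D49481) (tt N30235 D49482) (tt N16168 (iv2 F40056)) (tt N9765 F37852) (tt N30236 D49483) (tt N7359 (iv5 D24148)) (tt N7361 F37853) (tt N30237 D49484))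
theorem Q15100 : ∀ i, i < 15100 → P i := stepQ 15099 Q15099 (allL N15099 (tt N18153 (iv1 F45371)) (tt N18152 F45374) (tt N18154 (iv2 F45372)) (tt N30213 (iv3 F78193)) (tt N30229 (iv4 F78219)) (tt N30237 (iv5 F78227)) (tt N16074 (iv6 F39787)) (tt N7359 (iv7 D24149)))
theorem Q15101 : ∀ i, i < 15101 → P i := stepQ 15100 Q15100 (allL N15100 (tt N7915 F37854) (tt N16120 F39953) (tt N16117 F39951) (tt N30238 D49485) (tt N7361 (iv4 D24150)) (tt N19018 (iv5 F46795)) (tt N30236 (iv6 F78225)) (tt N16116 F39949))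
theorem Q15102 : ∀ i, i < 15102 → P i := stepQ 15101 Q15101 (allL N15101 (tt N7375 F37857) (tt N8135 F37891) (tt N15504 (iv2 F38570)) (tt N8161 F37855) (tt N29647 (iv4 F76891)) (tt N7363 (iv5 D24151)) (tt N30239 D49486) (tt N9566 F37856))
theorem Q15103 : ∀ i, i < 15103 → P i := stepQ 15102 Q15102 (allL N15102 (tt N9933 (iv1 F38580)) (tt N15505 F38576) (tt N7365 F37858) (tt N8118 F37859) (tt N20862 (iv4 F49724)) (tt N7364 (iv5 D24152)) (tt N30240 D49487) (tt N8123 F37860))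
theorem Q15104 : ∀ i, i < 15104 → P i := stepQ 15103 Q15103 (allL N15103 (tt N20351 F49171) (tt N9749 (iv0 F37864)) (tt N7366 F37861) (tt N8119 F37862) (tt N7810 F37863) (tt N15434 F38479) (tt N7364 (iv6 D24153)) (tt N18156 (iv7 F45387)))
theorem Q15105 : ∀ i, i < 15105 → P i := stepQ 15104 Q15104 (allL N15104 (tt N8123 (iv1 F37865)) (tt N7365 (iv0 D24154)) (tt N9933 (iv2 F37871)) (tt N9808 F40143) (tt N29631 (iv4 F76863)) (tt N18155 (iv5 F45377)) (tt N30241 D49488) (tt N15505 (iv7 F38578)))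
theorem Q15106 : ∀ i, i < 15106 → P i := stepQ 15105 Q15105 (allL N15105 (tt N7365 (iv1 D24155)) (tt N8123 F37866) (tt N15505 F38577) (tt N7560 (iv3 F37868)) (tt N29630 (iv4 F76859)) (tt N7554 F37867) (tt N30242 D49489) (tt N9933 F37870))
theorem Q15107 : ∀ i, i < 15107 → P i := stepQ 15106 Q15106 (allL N15106 (tt N20860 (iv1 F49719)) (tt N16102 (iv0 F39890)) (tt N20862 F49725) (tt N30243 D49490) (tt N7365 (iv4 D24156)) (tt N30244 D49491) (tt N30245 D49492) (tt N15506 (iv7 F38581)))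
theorem Q15108 : ∀ i, i < 15108 → P i := stepQ 15107 Q15107 (allL N15107 (tt N30246 D49493) (tt N30247 D49494) (tt N30240 (iv2 F78231)) (tt N7368 F37872) (tt N30245 (iv4 F78244)) (tt N30248 D49495) (tt N7365 (iv6 D24157)) (tt N30249 D49496))
theorem Q15109 : ∀ i, i < 15109 → P i := stepQ 15108 Q15108 (allL N15108 (tt N18156 F45389) (tt N7366 (iv0 D24158)) (tt N20351 (iv2 F49165)) (tt N9812 F37959) (tt N18065 (iv4 F45240)) (tt N7943 F38409) (tt N16598 F40776) (tt N9749 (iv7 F37960)))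
theorem Q15110 : ∀ i, i < 15110 → P i := stepQ 15109 Q15109 (allL N15109 (tt N7366 (iv1 D24159)) (tt N18156 (iv0 F45388)) (tt N9749 (iv2 F38135)) (tt N7568 (iv3 F38136)) (tt N15270 (iv4 F38133)) (tt N7566 (iv5 F38139)) (tt N8104 F38134) (tt N20351 (iv7 F49168)))
theorem Q15111 : ∀ i, i < 15111 → P i := stepQ 15110 Q15110 (allL N15110 (tt N15429 (iv1 F38464)) (tt N15384 (iv0 F38379)) (tt N15434 F38478) (tt N7370 F37873) (tt N15648 (iv4 F38754)) (tt N7366 (iv5 D24160)) (tt N30248 (iv6 F78248)) (tt N15433 F38476))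
theorem Q15112 : ∀ i, i < 15112 → P i := stepQ 15111 Q15111 (allL N15111 (tt N9749 (iv1 F37876)) (tt N20351 (iv0 F49169)) (tt N18156 (iv2 F45383)) (tt N7371 F37874) (tt N7817 F37875) (tt N15433 (iv5 F38473)) (tt N15510 (iv6 F38598)) (tt N7366 (iv7 D24161)))
theorem Q15113 : ∀ i, i < 15113 → P i := stepQ 15112 Q15112 (allL N15112 (tt N30250 D49497) (tt N30251 D49498) (tt N30252 D49499) (tt N7367 (iv3 D24162)) (tt N30243 (iv4 F78239)) (tt N15121 (iv5 F37885)) (tt N30253 D49500) (tt N18150 (iv7 F45368)))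
theorem Q15114 : ∀ i, i < 15114 → P i := stepQ 15113 Q15113 (allL N15113 (tt N21031 (iv1 F82147)) (tt N21034 (iv0 F82148)) (tt N16070 (iv2 F39777)) (tt N30253 (iv3 F78250)) (tt N7368 F37877) (tt N30254 D49503) (tt N7367 (iv6 D24163)) (tt N30255 D49504))
theorem Q15115 : ∀ i, i < 15115 → P i := stepQ 15114 Q15114 (allL N15114 (tt N16074 (iv1 F39790)) (tt N7368 (iv0 D24164)) (tt N16071 F53449) (tt N10003 F53450) (tt N30256 D49505) (tt N30257 D49506) (tt N30258 D49507) (tt N16072 F53451))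
theorem Q15116 : ∀ i, i < 15116 → P i := stepQ 15115 Q15115 (allL N15115 (tt N7368 (iv1 D24165)) (tt N16074 F39789) (tt N16072 F53446) (tt N20062 F53447) (tt N30259 D49508) (tt N29475 (iv5 F76478)) (tt N22613 (iv6 F53445)) (tt N16071 (iv7 F53448)))
theorem Q15117 : ∀ i, i < 15117 → P i := stepQ 15116 Q15116 (allL N15116 (tt N30260 D49509) (tt N30261 D49510) (tt N16073 (iv2 F39780)) (tt N30248 (iv3 F78247)) (tt N30262 D49511) (tt N7368 (iv5 D24166)) (tt N7370 F37878) (tt N30263 D49512))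
theorem Q15118 : ∀ i, i < 15118 → P i := stepQ 15117 Q15117 (allL N15117 (tt N16072 (iv1 F39779)) (tt N16071 F39788) (tt N16074 (iv2 F39786)) (tt N30249 (iv3 F78249)) (tt N30255 (iv4 F78251)) (tt N30263 (iv5 F78265)) (tt N18154 (iv6 F45373)) (tt N7368 (iv7 D24167)))
theorem Q15119 : ∀ i, i < 15119 → P i := stepQ 15118 Q15118 (allL N15118 (tt N9066 F37879) (tt N14708 F37880) (tt N16076 (iv2 F39798)) (tt N30264 D49513) (tt N7370 (iv4 D24168)) (tt N30265 D49514) (tt N30262 (iv6 F78264)) (tt N16211 (iv7 F40157)))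
theorem Q15120 : ∀ i, i < 15120 → P i := stepQ 15119 Q15119 (allL N15119 (tt N30266 D49515) (tt N18641 (iv0 F46318)) (tt N8136 F37881) (tt N30267 D49516) (tt N7372 (iv4 D24169)) (tt N30268 D49517) (tt N30269 D49518) (tt N8138 F37882))
theorem Q15121 : ∀ i, i < 15121 → P i := stepQ 15120 Q15120 (allL N15120 (tt N10054 F102002) (tt N30270 D49520) (tt N8137 F37883) (tt N7374 F37884) (tt N30269 (iv4 F78278)) (tt N18931 (iv5 F46668)) (tt N7372 (iv6 D24170)) (tt N30271 D49521))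
theorem Q15122 : ∀ i, i < 15122 → P i := stepQ 15121 Q15121 (allL N15121 (tt N30272 D49522) (tt N30273 D49523) (tt N30274 D49524) (tt N7373 (iv3 D24171)) (tt N30267 (iv4 F78273)) (tt N15112 F37885) (tt N30275 D49525) (tt N29944 (iv7 F77665)))
theorem Q15123 : ∀ i, i < 15123 → P i := stepQ 15122 Q15122 (allL N15122 (tt N30276 D49526) (tt N30277 D49527) (tt N29939 (iv2 F77652)) (tt N30275 (iv3 F78288)) (tt N7374 F37886) (tt N30278 D49528) (tt N7373 (iv6 D24172)) (tt N30279 D49529))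
theorem Q15124 : ∀ i, i < 15124 → P i := stepQ 15123 Q15123 (allL N15123 (tt N29943 (iv1 F77662)) (tt N7374 (iv0 D24173)) (tt N29940 (iv2 F102098)) (tt N30280 D49531) (tt N30281 D49532) (tt N30282 D49533) (tt N30191 (iv6 F93061)) (tt N29941 (iv7 F102168)))
theorem Q15125 : ∀ i, i < 15125 → P i := stepQ 15124 Q15124 (allL N15124 (tt N7374 (iv1 D24174)) (tt N29943 F77661) (tt N29941 (iv2 F102167)) (tt N30144 (iv3 F102055)) (tt N30283 D49537) (tt N30284 D49538) (tt N30285 D49539) (tt N29940 (iv7 F102099)))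
theorem Q15126 : ∀ i, i < 15126 → P i := stepQ 15125 Q15125 (allL N15125 (tt N30112 F78021) (tt N30286 D49540) (tt N29942 (iv2 F77655)) (tt N18931 (iv3 F46667)) (tt N30287 D49541) (tt N7374 (iv5 D24175)) (tt N14953 F37887) (tt N30288 D49542))
theorem Q15127 : ∀ i, i < 15127 → P i := stepQ 15126 Q15126 (allL N15126 (tt N29941 (iv1 F77654)) (tt N29940 F77660) (tt N29943 (iv2 F77658)) (tt N30271 (iv3 F78281)) (tt N30279 (iv4 F78290)) (tt N30288 (iv5 F78298)) (tt N29948 (iv6 F77671)) (tt N7374 (iv7 D24176)))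
theorem Q15128 : ∀ i, i < 15128 → P i := stepQ 15127 Q15127 (allL N15127 (tt N9566 (iv1 F37892)) (tt N15504 (iv0 F38573)) (tt N7375 (iv2 D24177)) (tt N8120 F37888) (tt N14787 F37893) (tt N9754 F37889) (tt N30289 D49543) (tt N8135 F37890))
theorem Q15129 : ∀ i, i < 15129 → P i := stepQ 15128 Q15128 (allL N15128 (tt N14766 F37896) (tt N14790 (iv0 F37897)) (tt N14787 F37894) (tt N30290 D49544) (tt N7375 (iv4 D24178)) (tt N30291 D49545) (tt N30292 D49546) (tt N14786 F37895))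
theorem Q15130 : ∀ i, i < 15130 → P i := stepQ 15129 Q15129 (allL N15129 (tt N30293 D49547) (tt N30294 D49548) (tt N30289 (iv2 F78299)) (tt N7377 F37898) (tt N30292 (iv4 F78309)) (tt N18900 (iv5 F46619)) (tt N7375 (iv6 D24179)) (tt N30295 D49549))
theorem Q15131 : ∀ i, i < 15131 → P i := stepQ 15130 Q15130 (allL N15130 (tt N30296 D49550) (tt N30297 D49551) (tt N30298 D49552) (tt N7376 (iv3 D24180)) (tt N30290 (iv4 F78303)) (tt N15094 F37899) (tt N30299 D49553) (tt N29938 (iv7 F77651)))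
theorem Q15132 : ∀ i, i < 15132 → P i := stepQ 15131 Q15131 (allL N15131 (tt N30300 D49554) (tt N30301 D49555) (tt N29945 (iv2 F77666)) (tt N30299 (iv3 F78312)) (tt N7377 F37900) (tt N30302 D49556) (tt N7376 (iv6 D24181)) (tt N30303 D49557))
theorem Q15133 : ∀ i, i < 15133 → P i := stepQ 15132 Q15132 (allL N15132 (tt N29948 (iv1 F77674)) (tt N7377 (iv0 D24182)) (tt N29946 (iv2 F163586)) (tt N10068 (iv3 F104346)) (tt N30304 D49560) (tt N30305 D49561) (tt N30306 D49562) (tt N29947 (iv7 F163595)))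
theorem Q15134 : ∀ i, i < 15134 → P i := stepQ 15133 Q15133 (allL N15133 (tt N7377 (iv1 D24183)) (tt N29948 F77673) (tt N29947 (iv2 F163590)) (tt N30307 D49564) (tt N30308 D49565) (tt N30309 D49566) (tt N30184 (iv6 F99520)) (tt N29946 (iv7 F163589)))
theorem Q15135 : ∀ i, i < 15135 → P i := stepQ 15134 Q15134 (allL N15134 (tt N29947 (iv1 F77668)) (tt N29946 F77672) (tt N29948 (iv2 F77669)) (tt N30295 (iv3 F78310)) (tt N30303 (iv4 F78314)) (tt N18913 (iv5 F46638)) (tt N29943 (iv6 F77659)) (tt N7377 (iv7 D24184)))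
theorem Q15136 : ∀ i, i < 15136 → P i := stepQ 15135 Q15135 (allL N15135 (tt N30310 D49568) (tt N30311 D49569) (tt N30312 D49570) (tt N7378 (iv3 D24185)) (tt N8188 F37901) (tt N15167 (iv5 F37961)) (tt N30313 D49571) (tt N10098 F37902))
theorem Q15137 : ∀ i, i < 15137 → P i := stepQ 15136 Q15136 (allL N15136 (tt N30281 (iv1 F102175)) (tt N30283 (iv0 F102056)) (tt N15785 (iv2 F39057)) (tt N30313 (iv3 F78323)) (tt N9034 F37903) (tt N30314 D49574) (tt N7378 (iv6 D24186)) (tt N30315 D49575))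
theorem Q15138 : ∀ i, i < 15138 → P i := stepQ 15137 Q15137 (allL N15137 (tt N30316 D49576) (tt N30317 D49577) (tt N30318 D49578) (tt N7379 (iv3 D24187)) (tt N30319 D49579) (tt N15153 (iv5 F37927)) (tt N30320 D49580) (tt N15784 (iv7 F39056)))
theorem Q15139 : ∀ i, i < 15139 → P i := stepQ 15138 Q15138 (allL N15138 (tt N30304 (iv1 F104348)) (tt N30308 (iv0 F104356)) (tt N15790 (iv2 F39061)) (tt N30320 (iv3 F78328)) (tt N15175 (iv4 F37979)) (tt N30321 D49583) (tt N7379 (iv6 D24188)) (tt N30322 D49584))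
theorem Q15140 : ∀ i, i < 15140 → P i := stepQ 15139 Q15139 (allL N15139 (tt N30323 D49585) (tt N7380 (iv0 D24189)) (tt N30324 D49586) (tt N30325 D49587) (tt N30326 D49588) (tt N30327 D49589) (tt N30328 D49590) (tt N30329 D49591))
theorem Q15141 : ∀ i, i < 15141 → P i := stepQ 15140 Q15140 (allL N15140 (tt N7380 (iv1 D24190)) (tt N30323 F78332) (tt N30329 (iv2 F78334)) (tt N30330 D49592) (tt N30331 D49593) (tt N30332 D49594) (tt N30333 D49595) (tt N30324 F78333))
theorem Q15142 : ∀ i, i < 15142 → P i := stepQ 15141 Q15141 (allL N15141 (tt N30324 F336119) (tt N30329 (iv0 F336124)) (tt N7380 (iv2 D24191)) (tt N29951 (iv3 F77675)) (tt N30154 (iv4 F78110)) (tt N30334 D49598) (tt N30200 (iv6 F78167)) (tt N30323 (iv7 F78331)))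
theorem Q15143 : ∀ i, i < 15143 → P i := stepQ 15142 Q15142 (allL N15142 (tt N30335 D49599) (tt N30336 D49600) (tt N30334 (iv2 F78337)) (tt N7381 F37904) (tt N30337 D49601) (tt N7380 (iv5 D24192)) (tt N30338 D49602) (tt N14951 (iv7 F37905)))
theorem Q15144 : ∀ i, i < 15144 → P i := stepQ 15143 Q15143 (allL N15143 (tt N30329 (iv1 F336125)) (tt N30324 F336118) (tt N30323 F78329) (tt N7382 F37906) (tt N30156 (iv4 F78113)) (tt N14951 F37907) (tt N30339 D49603) (tt N7380 (iv7 D24193)))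
theorem Q15145 : ∀ i, i < 15145 → P i := stepQ 15144 Q15144 (allL N15144 (tt N30340 D49604) (tt N30341 D49605) (tt N15145 (iv2 F37909)) (tt N30338 (iv3 F78346)) (tt N14952 F37908) (tt N30205 (iv5 F78174)) (tt N7381 (iv6 D24194)) (tt N30342 D49606))
theorem Q15146 : ∀ i, i < 15146 → P i := stepQ 15145 Q15145 (allL N15145 (tt N30343 D49607) (tt N30344 D49608) (tt N15144 F37909) (tt N30339 (iv3 F78347)) (tt N7383 F37910) (tt N30345 D49609) (tt N7382 (iv6 D24195)) (tt N30207 (iv7 F78178)))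
theorem Q15147 : ∀ i, i < 15147 → P i := stepQ 15146 Q15146 (allL N15146 (tt N29936 (iv1 F77645)) (tt N7383 (iv0 D24196)) (tt N29952 F165472) (tt N22657 F165538) (tt N30346 D49612) (tt N30347 D49613) (tt N30348 D49614) (tt N29953 F165473))
theorem Q15148 : ∀ i, i < 15148 → P i := stepQ 15147 Q15147 (allL N15147 (tt N7383 (iv1 D24197)) (tt N29936 F77644) (tt N29953 (iv2 F165470)) (tt N30349 D49616) (tt N30350 D49617) (tt N30351 D49618) (tt N30352 D49619) (tt N29952 (iv7 F165471)))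
theorem Q15149 : ∀ i, i < 15149 → P i := stepQ 15148 Q15148 (allL N15148 (tt N7873 F37914) (tt N8935 F37915) (tt N10257 F37911) (tt N30353 D49620) (tt N7384 (iv4 D24198)) (tt N10257 F37913) (tt N30354 D49621) (tt N10254 F37912))
theorem Q15150 : ∀ i, i < 15150 → P i := stepQ 15149 Q15149 (allL N15149 (tt N30355 D49622) (tt N30356 D49623) (tt N10258 F37916) (tt N20440 (iv3 F49302)) (tt N30354 (iv4 F78368)) (tt N9067 F37917) (tt N7384 (iv6 D24199)) (tt N30357 D49624))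
theorem Q15151 : ∀ i, i < 15151 → P i := stepQ 15150 Q15150 (allL N15150 (tt N9008 (iv1 F38722)) (tt N9018 F38721) (tt N20022 (iv2 F48737)) (tt N7385 (iv3 D24200)) (tt N19869 (iv4 F48484)) (tt N15631 (iv5 F38717)) (tt N30358 D49625) (tt N10256 F37918))
theorem Q15152 : ∀ i, i < 15152 → P i := stepQ 15151 Q15151 (allL N15151 (tt N8935 F37922) (tt N7873 F37923) (tt N10254 F37919) (tt N30359 D49626) (tt N7385 (iv4 D24201)) (tt N10254 F37920) (tt N30360 D49627) (tt N10257 F37921))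
theorem Q15153 : ∀ i, i < 15153 → P i := stepQ 15152 Q15152 (allL N15152 (tt N15303 F38202) (tt N30361 D49628) (tt N10255 F37924) (tt N30358 (iv3 F78380)) (tt N30360 (iv4 F78385)) (tt N14990 F37925) (tt N7385 (iv6 D24202)) (tt N30362 D49629))
theorem Q15154 : ∀ i, i < 15154 → P i := stepQ 15153 Q15153 (allL N15153 (tt N30363 D49630) (tt N30364 D49631) (tt N30365 D49632) (tt N7386 (iv3 D24203)) (tt N8207 F37926) (tt N15137 F37927) (tt N30366 D49633) (tt N10261 F37928))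
theorem Q15155 : ∀ i, i < 15155 → P i := stepQ 15154 Q15154 (allL N15154 (tt N30230 (iv1 F111270)) (tt N30232 (iv0 F111260)) (tt N15776 (iv2 F39038)) (tt N30366 (iv3 F78403)) (tt N7387 F37929) (tt N30367 D49636) (tt N7386 (iv6 D24204)) (tt N30368 D49637))
theorem Q15156 : ∀ i, i < 15156 → P i := stepQ 15155 Q15155 (allL N15155 (tt N15780 (iv1 F39049)) (tt N7387 (iv0 D24205)) (tt N15777 (iv2 F103494)) (tt N30369 D49639) (tt N30370 D49640) (tt N20792 F49622) (tt N22754 (iv6 F53884)) (tt N15778 (iv7 F103495)))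
theorem Q15157 : ∀ i, i < 15157 → P i := stepQ 15156 Q15156 (allL N15156 (tt N7387 (iv1 D24206)) (tt N15780 F39048) (tt N15778 F103499) (tt N30371 D49642) (tt N30372 D49643) (tt N20791 (iv5 F49620)) (tt N30373 D49644) (tt N15777 F103500))
theorem Q15158 : ∀ i, i < 15158 → P i := stepQ 15157 Q15157 (allL N15157 (tt N30374 D49645) (tt N30375 D49646) (tt N15779 (iv2 F39042)) (tt N7435 F37930) (tt N30376 D49647) (tt N7387 (iv5 D24207)) (tt N7389 F37931) (tt N21908 (iv7 F319410)))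
theorem Q15159 : ∀ i, i < 15159 → P i := stepQ 15158 Q15158 (allL N15158 (tt N15778 (iv1 F39041)) (tt N15777 F39047) (tt N15780 (iv2 F39045)) (tt N8211 F37932) (tt N30368 (iv4 F78406)) (tt N21908 (iv5 F319408)) (tt N10266 F37933) (tt N7387 (iv7 D24208)))
theorem Q15160 : ∀ i, i < 15160 → P i := stepQ 15159 Q15159 (allL N15159 (tt N9009 F37936) (tt N18787 (iv0 F46508)) (tt N20006 (iv2 F48713)) (tt N7388 (iv3 D24209)) (tt N9777 F37934) (tt N30377 D49649) (tt N15173 (iv6 F37973)) (tt N9396 F37935))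
theorem Q15161 : ∀ i, i < 15161 → P i := stepQ 15160 Q15160 (allL N15160 (tt N7481 F37940) (tt N7913 F37941) (tt N11143 F37938) (tt N30377 (iv3 F78413)) (tt N18907 (iv4 F46633)) (tt N7388 (iv5 D24210)) (tt N16831 F41251) (tt N9399 F37939))
theorem Q15162 : ∀ i, i < 15162 → P i := stepQ 15161 Q15161 (allL N15161 (tt N7934 F37942) (tt N16171 F40060) (tt N15781 (iv2 F39050)) (tt N22731 (iv3 F53833)) (tt N7389 (iv4 D24211)) (tt N30378 D49650) (tt N30376 (iv6 F78410)) (tt N15306 (iv7 F38206)))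
theorem Q15163 : ∀ i, i < 15163 → P i := stepQ 15162 Q15162 (allL N15162 (tt N9850 F37945) (tt N9838 F37946) (tt N15866 (iv2 F39210)) (tt N7391 (iv3 D24212)) (tt N15631 (iv4 F38716)) (tt N9774 F37943) (tt N19788 (iv6 F48320)) (tt N7957 F37944))
theorem Q15164 : ∀ i, i < 15164 → P i := stepQ 15163 Q15163 (allL N15163 (tt N18914 (iv1 F46640)) (tt N18916 (iv0 F46641)) (tt N16156 (iv2 F40029)) (tt N29961 (iv3 F77686)) (tt N30379 D49651) (tt N7395 (iv5 D24213)) (tt N30380 D49652) (tt N16153 (iv7 F40013)))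
theorem Q15165 : ∀ i, i < 15165 → P i := stepQ 15164 Q15164 (allL N15164 (tt N10152 (iv1 F37949)) (tt N10151 F37950) (tt N8224 F37947) (tt N30381 D49653) (tt N7396 (iv4 D24214)) (tt N20821 (iv5 F49654)) (tt N30382 D49654) (tt N10141 F37948))
theorem Q15166 : ∀ i, i < 15166 → P i := stepQ 15165 Q15165 (allL N15165 (tt N30383 D49655) (tt N18161 (iv0 F45399)) (tt N8225 F37951) (tt N7399 F37952) (tt N30382 (iv4 F78422)) (tt N18051 (iv5 F45217)) (tt N7396 (iv6 D24215)) (tt N30384 D49656))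
theorem Q15167 : ∀ i, i < 15167 → P i := stepQ 15166 Q15166 (allL N15166 (tt N8227 (iv1 F37957)) (tt N8226 F37958) (tt N7667 F37953) (tt N7402 F37954) (tt N15166 F37955) (tt N16055 (iv5 F39713)) (tt N10144 F37956) (tt N7397 (iv7 D24216)))
theorem Q15168 : ∀ i, i < 15168 → P i := stepQ 15167 Q15167 (allL N15167 (tt N30385 D49657) (tt N30386 D49658) (tt N30387 D49659) (tt N7398 (iv3 D24217)) (tt N30381 (iv4 F78419)) (tt N15135 F37961) (tt N30388 D49660) (tt N15775 (iv7 F39037)))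
theorem Q15169 : ∀ i, i < 15169 → P i := stepQ 15168 Q15168 (allL N15168 (tt N30256 (iv1 F78263)) (tt N30259 F78262) (tt N10262 F37962) (tt N30388 (iv3 F78439)) (tt N7399 F37963) (tt N30389 D49661) (tt N7398 (iv6 D24218)) (tt N30390 D49662))
theorem Q15170 : ∀ i, i < 15170 → P i := stepQ 15169 Q15169 (allL N15169 (tt N10266 (iv1 F37969)) (tt N7399 (iv0 D24219)) (tt N10263 F38199) (tt N30391 D49663) (tt N30392 D49664) (tt N30393 D49665) (tt N30394 D49666) (tt N10264 F38197))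
theorem Q15171 : ∀ i, i < 15171 → P i := stepQ 15170 Q15170 (allL N15170 (tt N7399 (iv1 D24220)) (tt N10266 F37964) (tt N10264 (iv2 F38196)) (tt N30395 D49667) (tt N30396 D49668) (tt N8905 (iv5 F37967)) (tt N15301 F38195) (tt N10263 (iv7 F38198)))
theorem Q15172 : ∀ i, i < 15172 → P i := stepQ 15171 Q15171 (allL N15171 (tt N30397 D49669) (tt N30398 D49670) (tt N10265 F37965) (tt N18051 (iv3 F45216)) (tt N30399 D49671) (tt N7399 (iv5 D24221)) (tt N7401 F37966) (tt N30400 D49672))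
theorem Q15173 : ∀ i, i < 15173 → P i := stepQ 15172 Q15172 (allL N15172 (tt N10264 (iv1 F37970)) (tt N10263 F37971) (tt N10266 F37968) (tt N30384 (iv3 F78424)) (tt N30390 (iv4 F78443)) (tt N30400 (iv5 F78467)) (tt N15780 (iv6 F39046)) (tt N7399 (iv7 D24222)))
theorem Q15174 : ∀ i, i < 15174 → P i := stepQ 15173 Q15173 (allL N15173 (tt N16065 (iv1 F39764)) (tt N9019 (iv0 F39646)) (tt N20065 (iv2 F48788)) (tt N7400 (iv3 D24223)) (tt N16075 (iv4 F39792)) (tt N14894 F37972) (tt N15159 F37973) (tt N10268 F37974))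
theorem Q15175 : ∀ i, i < 15175 → P i := stepQ 15174 Q15174 (allL N15174 (tt N14694 F37976) (tt N14691 F37977) (tt N10269 F37975) (tt N30401 D49673) (tt N7401 (iv4 D24224)) (tt N30402 D49674) (tt N30399 (iv6 F78465)) (tt N16213 (iv7 F40163)))
theorem Q15176 : ∀ i, i < 15176 → P i := stepQ 15175 Q15175 (allL N15175 (tt N30403 D49675) (tt N30404 D49676) (tt N7732 F37978) (tt N18353 (iv3 F45822)) (tt N15138 F37979) (tt N16113 (iv5 F39942)) (tt N7404 (iv6 D24225)) (tt N30405 D49677))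
theorem Q15177 : ∀ i, i < 15177 → P i := stepQ 15176 Q15176 (allL N15176 (tt N30072 F77960) (tt N30406 D49678) (tt N30084 (iv2 F77985)) (tt N7405 (iv3 D24226)) (tt N15176 F37980) (tt N30407 D49679) (tt N29820 (iv6 F77406)) (tt N18385 (iv7 F45854)))
theorem Q15178 : ∀ i, i < 15178 → P i := stepQ 15177 Q15177 (allL N15177 (tt N14715 F37981) (tt N9076 F37982) (tt N16301 F40292) (tt N30407 (iv3 F78483)) (tt N30408 D49680) (tt N7405 (iv5 D24227)) (tt N30409 D49681) (tt N16300 F40288))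
theorem Q15179 : ∀ i, i < 15179 → P i := stepQ 15178 Q15178 (allL N15178 (tt N26085 F69002) (tt N30410 D49682) (tt N17168 (iv2 F42417)) (tt N7407 (iv3 D24228)) (tt N13610 (iv4 F65509)) (tt N30085 (iv5 F77989)) (tt N17166 F42414) (tt N15713 (iv7 F38877)))
theorem Q15180 : ∀ i, i < 15180 → P i := stepQ 15179 Q15179 (allL N15179 (tt N17176 (iv1 F42434)) (tt N17175 F42437) (tt N17178 (iv2 F42435)) (tt N7409 (iv3 D24229)) (tt N7497 F37984) (tt N30087 (iv5 F77992)) (tt N16554 (iv6 F40673)) (tt N15225 (iv7 F38060)))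
theorem Q15181 : ∀ i, i < 15181 → P i := stepQ 15180 Q15180 (allL N15180 (tt N30411 D49683) (tt N7411 (iv0 D24230)) (tt N30412 D49684) (tt N9505 F37985) (tt N9314 F37986) (tt N30413 D49685) (tt N21504 (iv6 F51406)) (tt N18917 (iv7 F46644)))
theorem Q15182 : ∀ i, i < 15182 → P i := stepQ 15181 Q15181 (allL N15181 (tt N7411 (iv1 D24231)) (tt N30411 F78494) (tt N18917 F47450) (tt N26940 (iv3 F83008)) (tt N19370 (iv4 F47449)) (tt N30414 D49687) (tt N26937 (iv6 F83009)) (tt N30412 (iv7 F78499)))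
theorem Q15183 : ∀ i, i < 15183 → P i := stepQ 15182 Q15182 (allL N15182 (tt N30412 (iv1 F78500)) (tt N18917 F46646) (tt N7411 (iv2 D24232)) (tt N15716 (iv3 F38878)) (tt N7455 F37987) (tt N30415 D49689) (tt N10515 F37988) (tt N30411 (iv7 F78495)))
theorem Q15184 : ∀ i, i < 15184 → P i := stepQ 15183 Q15183 (allL N15183 (tt N10761 F43572) (tt N30416 D49690) (tt N30415 (iv2 F78504)) (tt N7412 F37989) (tt N30417 D49691) (tt N7411 (iv5 D24233)) (tt N30418 D49692) (tt N30419 D49693))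
theorem Q15185 : ∀ i, i < 15185 → P i := stepQ 15184 Q15184 (allL N15184 (tt N18917 F46645) (tt N30412 F78501) (tt N30411 F78493) (tt N7413 F37990) (tt N7457 F37991) (tt N30419 (iv5 F78518)) (tt N23209 (iv6 F55210)) (tt N7411 (iv7 D24234)))
theorem Q15186 : ∀ i, i < 15186 → P i := stepQ 15185 Q15185 (allL N15185 (tt N30012 (iv1 F77795)) (tt N30007 (iv0 F77776)) (tt N15719 (iv2 F38884)) (tt N30420 D49694) (tt N7412 (iv4 D24235)) (tt N15045 F37992) (tt N30421 D49695) (tt N15044 (iv7 F37993)))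
theorem Q15187 : ∀ i, i < 15187 → P i := stepQ 15186 Q15186 (allL N15186 (tt N30422 D49696) (tt N30423 D49697) (tt N15720 (iv2 F38887)) (tt N30418 (iv3 F78514)) (tt N30421 (iv4 F78523)) (tt N11767 F37994) (tt N7412 (iv6 D24236)) (tt N30424 D49698))
theorem Q15188 : ∀ i, i < 15188 → P i := stepQ 15187 Q15187 (allL N15187 (tt N15011 (iv1 F37997)) (tt N15007 F37998) (tt N15721 (iv2 F38889)) (tt N30419 (iv3 F78517)) (tt N15044 F37995) (tt N7413 F37996) (tt N30425 D49699) (tt N7412 (iv7 D24237)))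
theorem Q15189 : ∀ i, i < 15189 → P i := stepQ 15188 Q15188 (allL N15188 (tt N14894 (iv1 F39647)) (tt N18163 F45402) (tt N15261 (iv2 F38108)) (tt N7416 F37999) (tt N15974 F39471) (tt N7414 (iv5 D24238)) (tt N15260 (iv6 F38107)) (tt N15634 (iv7 F38730)))
theorem Q15190 : ∀ i, i < 15190 → P i := stepQ 15189 Q15189 (allL N15189 (tt N9022 (iv1 F39930)) (tt N15759 F40758) (tt N9181 F38000) (tt N15343 (iv3 F38277)) (tt N16623 F40814) (tt N7415 (iv5 D24239)) (tt N15813 (iv6 F39085)) (tt N15635 (iv7 F38734)))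
theorem Q15191 : ∀ i, i < 15191 → P i := stepQ 15190 Q15190 (allL N15190 (tt N30426 D49700) (tt N30427 D49701) (tt N15191 (iv2 F38001)) (tt N30428 D49702) (tt N7416 (iv4 D24240)) (tt N30429 D49703) (tt N15262 (iv6 F38111)) (tt N15636 (iv7 F38735)))
theorem Q15192 : ∀ i, i < 15192 → P i := stepQ 15191 Q15191 (allL N15191 (tt N16193 (iv1 F40119)) (tt N15468 (iv0 F38536)) (tt N15190 F38001) (tt N30430 D49704) (tt N7417 (iv4 D24241)) (tt N30431 D49705) (tt N15263 (iv6 F38113)) (tt N16080 (iv7 F39810)))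
theorem Q15193 : ∀ i, i < 15193 → P i := stepQ 15192 Q15192 (allL N15192 (tt N9242 F38005) (tt N20897 (iv0 F49846)) (tt N7424 F38002) (tt N9578 F38003) (tt N30432 D49706) (tt N7418 (iv5 D24242)) (tt N29660 (iv6 F76902)) (tt N7427 F38004))
theorem Q15194 : ∀ i, i < 15194 → P i := stepQ 15193 Q15193 (allL N15193 (tt N20897 (iv1 F49847)) (tt N9242 F38008) (tt N7427 F38006) (tt N15280 (iv3 F38163)) (tt N30433 D49707) (tt N7419 (iv5 D24243)) (tt N30434 D49708) (tt N7424 F38007))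
theorem Q15195 : ∀ i, i < 15195 → P i := stepQ 15194 Q15194 (allL N15194 (tt N7432 (iv1 F38012)) (tt N7420 (iv0 D24244)) (tt N7429 (iv2 F38010)) (tt N15740 F38965) (tt N30435 D49709) (tt N10193 F38009) (tt N30436 D49710) (tt N7430 F38011))
theorem Q15196 : ∀ i, i < 15196 → P i := stepQ 15195 Q15195 (allL N15195 (tt N19946 (iv1 F48619)) (tt N30437 D49711) (tt N7431 F38013) (tt N30438 D49712) (tt N7420 (iv4 D24245)) (tt N30439 D49713) (tt N9003 F38014) (tt N30440 D49714))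
theorem Q15197 : ∀ i, i < 15197 → P i := stepQ 15196 Q15196 (allL N15196 (tt N7430 (iv1 F38017)) (tt N7429 F38018) (tt N7432 F38015) (tt N15268 (iv3 F38127)) (tt N30440 (iv4 F78555)) (tt N7421 F38016) (tt N30441 D49715) (tt N7420 (iv7 D24246)))
theorem Q15198 : ∀ i, i < 15198 → P i := stepQ 15197 Q15197 (allL N15197 (tt N19143 F46974) (tt N30442 D49716) (tt N15272 (iv2 F38146)) (tt N7424 F38019) (tt N30443 D49717) (tt N7422 (iv5 D24247)) (tt N30444 D49718) (tt N15280 (iv7 F38164)))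
theorem Q15199 : ∀ i, i < 15199 → P i := stepQ 15198 Q15198 (allL N15198 (tt N7983 F38023) (tt N30445 D49719) (tt N15273 (iv2 F38147)) (tt N7425 F38020) (tt N7679 F38021) (tt N9860 F38022) (tt N7422 (iv6 D24248)) (tt N16099 (iv7 F39873)))
theorem Q15200 : ∀ i, i < 15200 → P i := stepQ 15199 Q15199 (allL N15199 (tt N18678 (iv1 F46384)) (tt N18677 F46383) (tt N18222 (iv2 F45551)) (tt N15344 (iv3 F38282)) (tt N30446 D49720) (tt N7423 (iv5 D24249)) (tt N30447 D49721) (tt N18223 (iv7 F45556)))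
theorem Q15201 : ∀ i, i < 15201 → P i := stepQ 15200 Q15200 (allL N15200 (tt N15432 F38472) (tt N30448 D49722) (tt N16101 (iv2 F39882)) (tt N15345 (iv3 F38284)) (tt N7425 F38024) (tt N18081 (iv5 F45265)) (tt N7423 (iv6 D24250)) (tt N16100 (iv7 F39879)))
theorem Q15202 : ∀ i, i < 15202 → P i := stepQ 15201 Q15201 (allL N15201 (tt N7427 (iv1 F38027)) (tt N7424 (iv0 D24251)) (tt N9242 (iv2 F38026)) (tt N15274 F38153) (tt N30449 D49723) (tt N9235 F38025) (tt N30450 D49724) (tt N20897 (iv7 F49845)))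
theorem Q15203 : ∀ i, i < 15203 → P i := stepQ 15202 Q15202 (allL N15202 (tt N30451 D49725) (tt N30452 D49726) (tt N30432 (iv2 F78536)) (tt N30453 D49727) (tt N7424 (iv4 D24252)) (tt N30454 D49728) (tt N30455 D49729) (tt N30433 (iv7 F78539)))
theorem Q15204 : ∀ i, i < 15204 → P i := stepQ 15203 Q15203 (allL N15203 (tt N30456 D49730) (tt N22762 (iv0 F101936)) (tt N29660 (iv2 F76900)) (tt N30444 (iv3 F78568)) (tt N30455 (iv4 F78593)) (tt N29618 (iv5 F76822)) (tt N7424 (iv6 D24253)) (tt N30457 D49732))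
theorem Q15205 : ∀ i, i < 15205 → P i := stepQ 15204 Q15204 (allL N15204 (tt N30458 D49733) (tt N20837 (iv0 F49667)) (tt N9586 F38028) (tt N7427 F38029) (tt N30459 D49734) (tt N7426 (iv5 D24254)) (tt N30460 D49735) (tt N9578 F38030))
theorem Q15206 : ∀ i, i < 15206 → P i := stepQ 15205 Q15205 (allL N15205 (tt N30452 (iv1 F78591)) (tt N30451 F78590) (tt N30433 (iv2 F78538)) (tt N30461 D49736) (tt N7427 (iv4 D24255)) (tt N30462 D49737) (tt N30463 D49738) (tt N30432 (iv7 F78537)))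
theorem Q15207 : ∀ i, i < 15207 → P i := stepQ 15206 Q15206 (allL N15206 (tt N22776 F53936) (tt N30464 D49739) (tt N30434 (iv2 F78540)) (tt N30460 (iv3 F78603)) (tt N30463 (iv4 F78605)) (tt N18778 (iv5 F46495)) (tt N7427 (iv6 D24256)) (tt N30465 D49740))
theorem Q15208 : ∀ i, i < 15208 → P i := stepQ 15207 Q15207 (allL N15207 (tt N16142 (iv1 F45709)) (tt N15813 F45712) (tt N16139 F39984) (tt N7429 (iv3 D24257)) (tt N22596 (iv4 F53402)) (tt N18787 (iv5 F46502)) (tt N30466 D49741) (tt N16140 F39982))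
theorem Q15209 : ∀ i, i < 15209 → P i := stepQ 15208 Q15208 (allL N15208 (tt N30467 D49742) (tt N16182 (iv0 F45710)) (tt N30435 (iv2 F78543)) (tt N30468 D49743) (tt N7429 (iv4 D24258)) (tt N30469 D49744) (tt N30470 D49745) (tt N29638 (iv7 F76869)))
theorem Q15210 : ∀ i, i < 15210 → P i := stepQ 15209 Q15209 (allL N15209 (tt N30471 D49746) (tt N30472 D49747) (tt N30436 (iv2 F78546)) (tt N30466 (iv3 F78611)) (tt N30470 (iv4 F78615)) (tt N16087 (iv5 F39840)) (tt N7429 (iv6 D24259)) (tt N30473 D49748))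
theorem Q15211 : ∀ i, i < 15211 → P i := stepQ 15210 Q15210 (allL N15210 (tt N15722 F38897) (tt N15743 F38973) (tt N15741 (iv2 F38968)) (tt N7430 (iv3 D24260)) (tt N15824 (iv4 F39117)) (tt N7542 F38031) (tt N30474 D49749) (tt N15740 F38966))
theorem Q15212 : ∀ i, i < 15212 → P i := stepQ 15211 Q15211 (allL N15211 (tt N16182 (iv1 F40089)) (tt N30467 F78613) (tt N29638 (iv2 F76868)) (tt N30475 D49750) (tt N7430 (iv4 D24261)) (tt N30476 D49751) (tt N30477 D49752) (tt N30435 (iv7 F78544)))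
theorem Q15213 : ∀ i, i < 15213 → P i := stepQ 15212 Q15212 (allL N15212 (tt N30478 D49753) (tt N30479 D49754) (tt N29636 (iv2 F76866)) (tt N30474 (iv3 F78616)) (tt N30477 (iv4 F78618)) (tt N29612 (iv5 F76802)) (tt N7430 (iv6 D24262)) (tt N30480 D49755))
theorem Q15214 : ∀ i, i < 15214 → P i := stepQ 15213 Q15213 (allL N15213 (tt N30440 (iv1 F78557)) (tt N7431 (iv0 D24263)) (tt N19946 (iv2 F48616)) (tt N30481 D49756) (tt N15363 (iv4 F38599)) (tt N30482 D49757) (tt N30483 D49758) (tt N30437 (iv7 F78549)))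
theorem Q15215 : ∀ i, i < 15215 → P i := stepQ 15214 Q15214 (allL N15214 (tt N7431 (iv1 D24264)) (tt N30440 F78556) (tt N30437 F78551) (tt N30484 D49759) (tt N15364 (iv4 F38319)) (tt N30485 D49760) (tt N30486 D49761) (tt N19946 (iv7 F48617)))
theorem Q15216 : ∀ i, i < 15216 → P i := stepQ 15215 Q15215 (allL N15215 (tt N30487 D49767) (tt N30488 D49768) (tt N30439 (iv2 F78553)) (tt N23106 F317308) (tt N30489 D49769) (tt N7431 (iv5 D24266)) (tt N30490 D49770) (tt N30491 D49771))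
theorem Q15217 : ∀ i, i < 15217 → P i := stepQ 15216 Q15216 (allL N15216 (tt N30437 (iv1 F78548)) (tt N19946 (iv0 F48618)) (tt N30440 (iv2 F78554)) (tt N17955 F313738) (tt N7432 F38034) (tt N30491 (iv5 F78630)) (tt N30492 D49772) (tt N7431 (iv7 D24267)))
theorem Q15218 : ∀ i, i < 15218 → P i := stepQ 15217 Q15217 (allL N15217 (tt N30493 D49773) (tt N30494 D49774) (tt N30441 (iv2 F78558)) (tt N7439 F38035) (tt N30492 (iv4 F78631)) (tt N15217 F38036) (tt N7432 (iv6 D24268)) (tt N9033 F38037))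
theorem Q15219 : ∀ i, i < 15219 → P i := stepQ 15218 Q15218 (allL N15218 (tt N30495 D49775) (tt N30496 D49776) (tt N15770 (iv2 F39031)) (tt N7434 F38038) (tt N30194 (iv4 F78162)) (tt N16057 (iv5 F39719)) (tt N7433 (iv6 D24269)) (tt N30497 D49777))
theorem Q15220 : ∀ i, i < 15220 → P i := stepQ 15219 Q15219 (allL N15219 (tt N15310 F38216) (tt N7434 (iv0 D24270)) (tt N15308 (iv2 F78659)) (tt N30498 D49779) (tt N20247 (iv4 F53662)) (tt N30499 D49780) (tt N9043 F38039) (tt N15309 (iv7 F78664)))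
theorem Q15221 : ∀ i, i < 15221 → P i := stepQ 15220 Q15220 (allL N15220 (tt N7434 (iv1 D24271)) (tt N15310 F38215) (tt N15309 (iv2 F78663)) (tt N30472 (iv3 F166146)) (tt N20248 (iv4 F48995)) (tt N18212 (iv5 F45519)) (tt N30500 D49783) (tt N15308 (iv7 F78660)))
theorem Q15222 : ∀ i, i < 15222 → P i := stepQ 15221 Q15221 (allL N15221 (tt N15309 (iv1 F38211)) (tt N15308 (iv0 F38210)) (tt N15310 (iv2 F38212)) (tt N30497 (iv3 F78635)) (tt N17064 F317323) (tt N7683 F38040) (tt N10192 F38041) (tt N7434 (iv7 D24272)))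
theorem Q15223 : ∀ i, i < 15223 → P i := stepQ 15222 Q15222 (allL N15222 (tt N10192 (iv1 F38048)) (tt N7435 (iv0 D24273)) (tt N10190 F76951) (tt N30478 (iv3 F101919)) (tt N11154 F314552) (tt N10190 (iv5 F38050)) (tt N30501 D49785) (tt N10191 F76952))
theorem Q15224 : ∀ i, i < 15224 → P i := stepQ 15223 Q15223 (allL N15223 (tt N21850 (iv1 F310470)) (tt N30502 D49807) (tt N15316 (iv2 F38223)) (tt N21870 (iv3 F310468)) (tt N15342 (iv4 F38275)) (tt N9050 F38055) (tt N7437 (iv6 D24281)) (tt N30503 D49808))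
theorem Q15225 : ∀ i, i < 15225 → P i := stepQ 15224 Q15224 (allL N15224 (tt N16790 F100813) (tt N16786 (iv0 F100814)) (tt N15317 (iv2 F38226)) (tt N25498 (iv3 F311348)) (tt N7439 F38056) (tt N30504 D49809) (tt N7438 (iv6 D24282)) (tt N9051 F38057))
theorem Q15226 : ∀ i, i < 15226 → P i := stepQ 15225 Q15225 (allL N15225 (tt N30505 D49810) (tt N19078 (iv0 F46899)) (tt N8413 (iv2 F38061)) (tt N7441 (iv3 D24283)) (tt N7443 F38058) (tt N29992 (iv5 F77746)) (tt N8401 F38059) (tt N15179 F38060))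
theorem Q15227 : ∀ i, i < 15227 → P i := stepQ 15226 Q15226 (allL N15226 (tt N9318 F38065) (tt N17445 (iv0 F43275)) (tt N8420 F38062) (tt N7444 F38063) (tt N29343 (iv4 F305754)) (tt N7443 (iv5 D24284)) (tt N27936 F303701) (tt N11181 F38064))
theorem Q15228 : ∀ i, i < 15228 → P i := stepQ 15227 Q15227 (allL N15227 (tt N30506 D49813) (tt N30507 D49814) (tt N11180 F38066) (tt N27936 F302963) (tt N17033 F302964) (tt N21744 (iv5 F51807)) (tt N7444 (iv6 D24285)) (tt N30508 D49815))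
theorem Q15229 : ∀ i, i < 15229 → P i := stepQ 15228 Q15228 (allL N15228 (tt N8407 (iv1 F38067)) (tt N7446 (iv0 D24286)) (tt N10775 (iv2 F50588)) (tt N19073 (iv3 F50579)) (tt N29758 F77203) (tt N22790 (iv5 F54406)) (tt N10747 F50580) (tt N15318 F50581))
theorem Q15230 : ∀ i, i < 15230 → P i := stepQ 15229 Q15229 (allL N15229 (tt N7446 (iv1 D24287)) (tt N8407 F38071) (tt N15318 (iv2 F50582)) (tt N10746 (iv3 F50595)) (tt N29757 (iv4 F77197)) (tt N22791 F54409) (tt N30509 D49816) (tt N10775 (iv7 F50589)))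
theorem Q15231 : ∀ i, i < 15231 → P i := stepQ 15230 Q15230 (allL N15230 (tt N10775 (iv1 F50587)) (tt N15318 F38230) (tt N7446 (iv2 D24288)) (tt N8421 F38068) (tt N19052 F46850) (tt N23322 F55578) (tt N10735 F38069) (tt N8407 F38070))
theorem Q15232 : ∀ i, i < 15232 → P i := stepQ 15231 Q15231 (allL N15231 (tt N17534 (iv1 F43609)) (tt N23324 F55586) (tt N23322 (iv2 F55579)) (tt N7447 F38072) (tt N30510 D49817) (tt N7446 (iv5 D24289)) (tt N30511 D49818) (tt N11179 F38073))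
theorem Q15233 : ∀ i, i < 15233 → P i := stepQ 15232 Q15232 (allL N15232 (tt N30512 D49819) (tt N30513 D49820) (tt N11182 F38074) (tt N30511 (iv3 F78739)) (tt N10628 F307310) (tt N11029 F38075) (tt N7447 (iv6 D24290)) (tt N23688 F307311))
theorem Q15234 : ∀ i, i < 15234 → P i := stepQ 15233 Q15233 (allL N15233 (tt N9533 F38078) (tt N17192 (iv0 F42471)) (tt N19020 F46797) (tt N7449 F38076) (tt N30514 D49822) (tt N7448 (iv5 D24291)) (tt N21420 (iv6 F51183)) (tt N11161 F38077))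
theorem Q15235 : ∀ i, i < 15235 → P i := stepQ 15234 Q15234 (allL N15234 (tt N30515 D49823) (tt N22006 F55569) (tt N23320 (iv2 F55565)) (tt N7451 F38085) (tt N30516 D49824) (tt N7450 (iv5 D24295)) (tt N30517 D49825) (tt N11158 F38086))
theorem Q15236 : ∀ i, i < 15236 → P i := stepQ 15235 Q15235 (allL N15235 (tt N23339 (iv1 F55647)) (tt N23326 F55597) (tt N23321 (iv2 F55571)) (tt N7452 F38087) (tt N29977 (iv4 F77709)) (tt N21899 (iv5 F52148)) (tt N7450 (iv6 D24296)) (tt N9063 F38088))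
theorem Q15237 : ∀ i, i < 15237 → P i := stepQ 15236 Q15236 (allL N15236 (tt N22774 F308190) (tt N30518 D49827) (tt N11163 F38089) (tt N30517 (iv3 F78756)) (tt N18608 (iv4 F308882)) (tt N21900 (iv5 F52155)) (tt N7451 (iv6 D24297)) (tt N21712 (iv7 F308858)))
theorem Q15238 : ∀ i, i < 15238 → P i := stepQ 15237 Q15237 (allL N15237 (tt N7454 (iv1 F38092)) (tt N7453 (iv0 D24298)) (tt N7457 (iv2 F38090)) (tt N15320 (iv3 F38237)) (tt N30411 (iv4 F78492)) (tt N30519 D49829) (tt N23275 (iv6 F55368)) (tt N7455 F38091))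
theorem Q15239 : ∀ i, i < 15239 → P i := stepQ 15238 Q15238 (allL N15238 (tt N7457 F55537) (tt N7455 F55538) (tt N7453 (iv2 D24299)) (tt N30520 D49830) (tt N30069 (iv4 F77954)) (tt N30521 D49831) (tt N10214 F55539) (tt N7454 (iv7 F38093)))
theorem Q15240 : ∀ i, i < 15240 → P i := stepQ 15239 Q15239 (allL N15239 (tt N8977 F45548) (tt N18216 F45549) (tt N15323 (iv2 F55503)) (tt N7453 (iv3 D24300)) (tt N15321 (iv4 F55511)) (tt N19483 F54222) (tt N10505 F54262) (tt N15326 (iv7 F55504)))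
theorem Q15241 : ∀ i, i < 15241 → P i := stepQ 15240 Q15240 (allL N15240 (tt N30522 D49832) (tt N30523 D49833) (tt N30069 F77955) (tt N30524 D49834) (tt N7453 (iv4 D24301)) (tt N30525 D49835) (tt N30526 D49836) (tt N30527 D49837))
theorem Q15242 : ∀ i, i < 15242 → P i := stepQ 15241 Q15241 (allL N15241 (tt N25188 F311352) (tt N19493 (iv0 F54289)) (tt N30521 (iv2 F78778)) (tt N19483 (iv3 F54261)) (tt N30528 D49839) (tt N7453 (iv5 D24302)) (tt N24914 F308660) (tt N30529 D49841))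
theorem Q15243 : ∀ i, i < 15243 → P i := stepQ 15242 Q15242 (allL N15242 (tt N10215 F54267) (tt N7899 F54268) (tt N10214 F55533) (tt N10505 F54263) (tt N30526 (iv4 F78799)) (tt N29728 F77112) (tt N7453 (iv6 D24303)) (tt N10213 F55534))
theorem Q15244 : ∀ i, i < 15244 → P i := stepQ 15243 Q15243 (allL N15243 (tt N7455 F55505) (tt N7457 F55506) (tt N7454 F38094) (tt N15326 F55507) (tt N30527 (iv4 F78805)) (tt N30529 (iv5 F78816)) (tt N23379 (iv6 F77107)) (tt N7453 (iv7 D24304)))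
theorem Q15245 : ∀ i, i < 15245 → P i := stepQ 15244 Q15244 (allL N15244 (tt N23834 (iv1 F56577)) (tt N22780 (iv0 F53947)) (tt N30530 D49842) (tt N7454 (iv3 D24305)) (tt N18921 (iv4 F46652)) (tt N30531 D49843) (tt N30532 D49844) (tt N30520 (iv7 F78772)))
theorem Q15246 : ∀ i, i < 15246 → P i := stepQ 15245 Q15245 (allL N15245 (tt N30523 (iv1 F78785)) (tt N30522 (iv0 F78784)) (tt N30527 (iv2 F78803)) (tt N30073 (iv3 F77963)) (tt N7454 (iv4 D24306)) (tt N30533 D49845) (tt N30534 D49846) (tt N30069 F77957))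
theorem Q15247 : ∀ i, i < 15247 → P i := stepQ 15246 Q15246 (allL N15246 (tt N19493 F77106) (tt N25188 F311353) (tt N30529 (iv2 F78814)) (tt N30531 (iv3 F78821)) (tt N30535 D49847) (tt N7454 (iv5 D24307)) (tt N30536 D49848) (tt N30521 (iv7 F78779)))
theorem Q15248 : ∀ i, i < 15248 → P i := stepQ 15247 Q15247 (allL N15247 (tt N10240 F77104) (tt N23375 F77105) (tt N23379 F77102) (tt N30532 (iv3 F78822)) (tt N30534 (iv4 F78825)) (tt N30537 D49849) (tt N7454 (iv6 D24308)) (tt N23380 (iv7 F77100)))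
theorem Q15249 : ∀ i, i < 15249 → P i := stepQ 15248 Q15248 (allL N15248 (tt N30538 D49850) (tt N30539 D49851) (tt N7456 F38097) (tt N15329 (iv3 F38248)) (tt N30540 D49852) (tt N7455 (iv5 D24311)) (tt N30541 D49853) (tt N30519 (iv7 F78766)))
theorem Q15250 : ∀ i, i < 15250 → P i := stepQ 15249 Q15249 (allL N15249 (tt N30519 (iv1 F78767)) (tt N7456 (iv0 D24312)) (tt N30538 F78835) (tt N18496 (iv3 F52275)) (tt N30542 D49854) (tt N18493 F52274) (tt N25661 F307247) (tt N30539 (iv7 F78838)))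
theorem Q15251 : ∀ i, i < 15251 → P i := stepQ 15250 Q15250 (allL N15250 (tt N7456 (iv1 D24313)) (tt N30519 (iv0 F78769)) (tt N30539 F78840) (tt N30543 D49856) (tt N30544 D49857) (tt N19058 (iv5 F46854)) (tt N30545 D49858) (tt N30538 F78836))
theorem Q15252 : ∀ i, i < 15252 → P i := stepQ 15251 Q15251 (allL N15251 (tt N10780 F38098) (tt N30546 D49859) (tt N30540 (iv2 F78842)) (tt N30547 D49860) (tt N7456 (iv4 D24314)) (tt N30548 D49861) (tt N30549 D49862) (tt N30550 D49863))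
theorem Q15253 : ∀ i, i < 15253 → P i := stepQ 15252 Q15252 (allL N15252 (tt N30551 D49864) (tt N30552 D49865) (tt N30541 (iv2 F78846)) (tt N7459 F38099) (tt N30549 (iv4 F78853)) (tt N10523 F38100) (tt N7456 (iv6 D24315)) (tt N30553 D49866))
theorem Q15254 : ∀ i, i < 15254 → P i := stepQ 15253 Q15253 (allL N15253 (tt N30539 (iv1 F78837)) (tt N30538 F78834) (tt N30519 (iv2 F78765)) (tt N7460 F38101) (tt N30550 (iv4 F78855)) (tt N7457 F38102) (tt N30554 D49867) (tt N7456 (iv7 D24316)))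
theorem Q15255 : ∀ i, i < 15255 → P i := stepQ 15254 Q15254 (allL N15254 (tt N21794 (iv1 F310484)) (tt N30555 D49869) (tt N23108 (iv2 F310477)) (tt N7458 (iv3 D24317)) (tt N30547 (iv4 F78852)) (tt N15315 (iv5 F38222)) (tt N21773 (iv6 F309489)) (tt N15314 F38220))
theorem Q15256 : ∀ i, i < 15256 → P i := stepQ 15255 Q15255 (allL N15255 (tt N21838 (iv1 F309487)) (tt N10612 (iv0 F309360)) (tt N15338 (iv2 F38264)) (tt N21773 (iv3 F309488)) (tt N7459 F38103) (tt N30556 D49873) (tt N7458 (iv6 D24318)) (tt N21837 (iv7 F309494)))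
theorem Q15257 : ∀ i, i < 15257 → P i := stepQ 15256 Q15256 (allL N15256 (tt N15341 (iv1 F38273)) (tt N7459 (iv0 D24319)) (tt N15339 F44677) (tt N30557 D49875) (tt N22839 (iv4 F56393)) (tt N23689 (iv5 F56387)) (tt N30558 D49876) (tt N15340 F44675))
theorem Q15258 : ∀ i, i < 15258 → P i := stepQ 15257 Q15257 (allL N15257 (tt N7459 (iv1 D24320)) (tt N15341 F38272) (tt N15340 (iv2 F44674)) (tt N19111 F110513) (tt N10637 (iv4 F309303)) (tt N9166 (iv5 F38104)) (tt N10636 F307285) (tt N15339 (iv7 F44676)))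
theorem Q15259 : ∀ i, i < 15259 → P i := stepQ 15258 Q15258 (allL N15258 (tt N15340 (iv1 F38266)) (tt N15339 F38271) (tt N15341 (iv2 F38269)) (tt N30553 (iv3 F78858)) (tt N21837 (iv4 F309492)) (tt N10526 F38105) (tt N30559 D49879) (tt N7459 (iv7 D24321)))
theorem Q15260 : ∀ i, i < 15260 → P i := stepQ 15259 Q15259 (allL N15259 (tt N30560 D49880) (tt N30561 D49881) (tt N15342 (iv2 F38274)) (tt N30554 (iv3 F78860)) (tt N15316 (iv4 F38224)) (tt N21136 (iv5 F50193)) (tt N7460 (iv6 D24322)) (tt N30559 (iv7 F78871)))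
theorem Q15261 : ∀ i, i < 15261 → P i := stepQ 15260 Q15260 (allL N15260 (tt N18033 F45164) (tt N18081 F45266) (tt N18010 (iv2 F45091)) (tt N7463 F38106) (tt N15566 F38648) (tt N7461 (iv5 D24323)) (tt N15188 F38107) (tt N16031 (iv7 F39635)))
theorem Q15262 : ∀ i, i < 15262 → P i := stepQ 15261 Q15261 (allL N15261 (tt N29849 (iv1 F77446)) (tt N8947 (iv0 F38110)) (tt N15188 F38108) (tt N9567 F38109) (tt N15588 (iv4 F38672)) (tt N7462 (iv5 D24324)) (tt N18010 (iv6 F45093)) (tt N16032 (iv7 F39643)))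
theorem Q15263 : ∀ i, i < 15263 → P i := stepQ 15262 Q15262 (allL N15262 (tt N30562 D49882) (tt N16236 (iv0 F40197)) (tt N15263 (iv2 F38112)) (tt N30563 D49883) (tt N7463 (iv4 D24325)) (tt N30564 D49884) (tt N15190 F38111) (tt N16033 (iv7 F39649)))
theorem Q15264 : ∀ i, i < 15264 → P i := stepQ 15263 Q15263 (allL N15263 (tt N29493 (iv1 F76526)) (tt N15884 (iv0 F39243)) (tt N15262 F38112) (tt N30565 D49885) (tt N7464 (iv4 D24326)) (tt N30566 D49886) (tt N15191 F38113) (tt N15680 (iv7 F38812)))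
theorem Q15265 : ∀ i, i < 15265 → P i := stepQ 15264 Q15264 (allL N15264 (tt N9434 F38117) (tt N30567 D49887) (tt N7471 F38114) (tt N9632 F38115) (tt N30568 D49888) (tt N7465 (iv5 D24327)) (tt N18322 (iv6 F45782)) (tt N7475 F38116))
theorem Q15266 : ∀ i, i < 15266 → P i := stepQ 15265 Q15265 (allL N15265 (tt N30567 (iv1 F78880)) (tt N9434 F38120) (tt N7475 F38118) (tt N18013 (iv3 F45103)) (tt N30569 D49889) (tt N7466 (iv5 D24328)) (tt N20866 (iv6 F49729)) (tt N7471 F38119))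
theorem Q15267 : ∀ i, i < 15267 → P i := stepQ 15266 Q15266 (allL N15266 (tt N7480 (iv1 F38123)) (tt N7467 (iv0 D24329)) (tt N7477 (iv2 F38121)) (tt N9637 (iv3 F38367)) (tt N30570 D49890) (tt N15709 F38865) (tt N30571 D49891) (tt N7478 F38122))
theorem Q15268 : ∀ i, i < 15268 → P i := stepQ 15267 Q15267 (allL N15267 (tt N22624 (iv1 F53475)) (tt N20008 (iv0 F48724)) (tt N7479 F38124) (tt N30572 D49892) (tt N7467 (iv4 D24330)) (tt N30573 D49893) (tt N14766 F38125) (tt N30574 D49894))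
theorem Q15269 : ∀ i, i < 15269 → P i := stepQ 15268 Q15268 (allL N15268 (tt N7478 (iv1 F38129)) (tt N7477 F38130) (tt N7480 F38126) (tt N15196 F38127) (tt N30574 (iv4 F78902)) (tt N7468 F38128) (tt N30575 D49895) (tt N7467 (iv7 D24331)))
theorem Q15270 : ∀ i, i < 15270 → P i := stepQ 15269 Q15269 (allL N15269 (tt N18682 (iv1 F46395)) (tt N30576 D49896) (tt N18011 (iv2 F45096)) (tt N7471 F38131) (tt N30577 D49897) (tt N7469 (iv5 D24332)) (tt N30578 D49898) (tt N18013 (iv7 F45104)))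
theorem Q15271 : ∀ i, i < 15271 → P i := stepQ 15270 Q15270 (allL N15270 (tt N8897 F38720) (tt N15678 (iv0 F38805)) (tt N18012 (iv2 F45097)) (tt N7472 F38132) (tt N15109 F38133) (tt N16643 F40836) (tt N7469 (iv6 D24333)) (tt N15699 (iv7 F38841)))
theorem Q15272 : ∀ i, i < 15272 → P i := stepQ 15271 Q15271 (allL N15271 (tt N7474 (iv1 F38143)) (tt N7470 (iv0 D24334)) (tt N7912 (iv2 F38142)) (tt N9624 F38141) (tt N7745 F38140) (tt N30579 D49899) (tt N15271 F38145) (tt N7743 F38144))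
theorem Q15273 : ∀ i, i < 15273 → P i := stepQ 15272 Q15272 (allL N15272 (tt N30580 D49900) (tt N30377 (iv0 F78415)) (tt N15197 F38146) (tt N19530 (iv3 F47906)) (tt N30581 D49901) (tt N7470 (iv5 D24335)) (tt N30582 D49902) (tt N19563 (iv7 F47981)))
theorem Q15274 : ∀ i, i < 15274 → P i := stepQ 15273 Q15273 (allL N15273 (tt N15862 F39206) (tt N15631 (iv0 F38719)) (tt N15198 F38147) (tt N15473 (iv3 F38540)) (tt N7472 F38148) (tt N19899 (iv5 F48556)) (tt N7470 (iv6 D24336)) (tt N15700 (iv7 F38842)))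
theorem Q15275 : ∀ i, i < 15275 → P i := stepQ 15274 Q15274 (allL N15274 (tt N7475 (iv1 F38150)) (tt N7471 (iv0 D24337)) (tt N9434 (iv2 F38152)) (tt N15201 (iv3 F38153)) (tt N30583 D49903) (tt N8994 F38149) (tt N30584 D49904) (tt N30567 (iv7 F78881)))
theorem Q15276 : ∀ i, i < 15276 → P i := stepQ 15275 Q15275 (allL N15275 (tt N7471 (iv1 D24338)) (tt N7475 F38154) (tt N30567 F78883) (tt N7482 F38157) (tt N30585 D49905) (tt N7870 (iv5 F38156)) (tt N16841 (iv6 F41277)) (tt N9434 F38155))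
theorem Q15277 : ∀ i, i < 15277 → P i := stepQ 15276 Q15276 (allL N15276 (tt N30586 D49906) (tt N30587 D49907) (tt N30568 (iv2 F78886)) (tt N30588 D49908) (tt N7471 (iv4 D24339)) (tt N30589 D49909) (tt N30590 D49910) (tt N30569 (iv7 F78889)))
theorem Q15278 : ∀ i, i < 15278 → P i := stepQ 15277 Q15277 (allL N15277 (tt N30591 D49911) (tt N30592 D49912) (tt N18322 (iv2 F45781)) (tt N30578 (iv3 F78918)) (tt N30590 (iv4 F78948)) (tt N18265 (iv5 F45660)) (tt N7471 (iv6 D24340)) (tt N30593 D49913))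
theorem Q15279 : ∀ i, i < 15279 → P i := stepQ 15278 Q15278 (allL N15278 (tt N30594 D49914) (tt N22674 (iv0 F53570)) (tt N9635 F38158) (tt N7475 F38159) (tt N30595 D49915) (tt N7473 (iv5 D24341)) (tt N30596 D49916) (tt N9632 F38160))
theorem Q15280 : ∀ i, i < 15280 → P i := stepQ 15279 Q15279 (allL N15279 (tt N30135 (iv1 F78074)) (tt N7972 F40227) (tt N9636 F38161) (tt N7476 F38162) (tt N15368 (iv4 F38327)) (tt N19124 (iv5 F46937)) (tt N7473 (iv6 D24342)) (tt N16053 (iv7 F39707)))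
theorem Q15281 : ∀ i, i < 15281 → P i := stepQ 15280 Q15280 (allL N15280 (tt N30377 (iv1 F78416)) (tt N30580 F78927) (tt N19563 (iv2 F47979)) (tt N15193 F38163) (tt N30597 D49917) (tt N7474 (iv5 D24343)) (tt N30598 D49918) (tt N15197 F38164))
theorem Q15282 : ∀ i, i < 15282 → P i := stepQ 15281 Q15281 (allL N15281 (tt N29519 (iv1 F76585)) (tt N29516 (iv0 F76570)) (tt N16052 (iv2 F39702)) (tt N7653 F38165) (tt N7476 F38166) (tt N19140 F46967) (tt N7474 (iv6 D24344)) (tt N16054 (iv7 F39709)))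
theorem Q15283 : ∀ i, i < 15283 → P i := stepQ 15282 Q15282 (allL N15282 (tt N30587 (iv1 F78946)) (tt N30586 F78945) (tt N30569 (iv2 F78888)) (tt N30599 D49919) (tt N7475 (iv4 D24345)) (tt N30600 D49920) (tt N30601 D49921) (tt N30568 (iv7 F78887)))
theorem Q15284 : ∀ i, i < 15284 → P i := stepQ 15283 Q15283 (allL N15283 (tt N20868 (iv1 F82276)) (tt N20861 (iv0 F49722)) (tt N20866 F49731) (tt N30596 (iv3 F78959)) (tt N30601 (iv4 F78967)) (tt N19226 (iv5 F47125)) (tt N7475 (iv6 D24346)) (tt N20867 (iv7 F49732)))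
theorem Q15285 : ∀ i, i < 15285 → P i := stepQ 15284 Q15284 (allL N15284 (tt N18017 (iv1 F45690)) (tt N14759 (iv0 F45692)) (tt N18014 F45109) (tt N7477 (iv3 D24347)) (tt N19859 (iv4 F48458)) (tt N18275 (iv5 F45686)) (tt N30602 D49923) (tt N18015 F45107))
theorem Q15286 : ∀ i, i < 15286 → P i := stepQ 15285 Q15285 (allL N15285 (tt N30603 D49924) (tt N16173 (iv0 F45691)) (tt N30570 (iv2 F78890)) (tt N30604 D49925) (tt N7477 (iv4 D24348)) (tt N30605 D49926) (tt N30606 D49927) (tt N18292 (iv7 F45731)))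
theorem Q15287 : ∀ i, i < 15287 → P i := stepQ 15286 Q15286 (allL N15286 (tt N30607 D49928) (tt N30608 D49929) (tt N30571 (iv2 F78893)) (tt N30602 (iv3 F78968)) (tt N30606 (iv4 F78973)) (tt N15688 (iv5 F38826)) (tt N7477 (iv6 D24349)) (tt N30609 D49930))
theorem Q15288 : ∀ i, i < 15288 → P i := stepQ 15287 Q15287 (allL N15287 (tt N9623 F38168) (tt N9640 F38169) (tt N9638 (iv2 F38944)) (tt N7478 (iv3 D24350)) (tt N15379 (iv4 F38359)) (tt N7711 F38167) (tt N30610 D49931) (tt N9637 F38368))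
theorem Q15289 : ∀ i, i < 15289 → P i := stepQ 15288 Q15288 (allL N15288 (tt N16173 (iv1 F40065)) (tt N30603 F78970) (tt N18292 (iv2 F45730)) (tt N30611 D49932) (tt N7478 (iv4 D24351)) (tt N30612 D49933) (tt N30613 D49934) (tt N30570 (iv7 F78891)))
theorem Q15290 : ∀ i, i < 15290 → P i := stepQ 15289 Q15289 (allL N15289 (tt N20893 (iv1 F101918)) (tt N30614 D49936) (tt N18290 (iv2 F45728)) (tt N30610 (iv3 F78975)) (tt N30613 (iv4 F78978)) (tt N18259 (iv5 F45647)) (tt N7478 (iv6 D24352)) (tt N30615 D49937))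
theorem Q15291 : ∀ i, i < 15291 → P i := stepQ 15290 Q15290 (allL N15290 (tt N30574 (iv1 F78905)) (tt N7479 (iv0 D24353)) (tt N22624 (iv2 F53472)) (tt N30616 D49938) (tt N15814 F39090) (tt N30617 D49939) (tt N30618 D49940) (tt N20008 (iv7 F48723)))
theorem Q15292 : ∀ i, i < 15292 → P i := stepQ 15291 Q15291 (allL N15291 (tt N7479 (iv1 D24354)) (tt N30574 F78904) (tt N20008 (iv2 F48722)) (tt N30619 D49941) (tt N9778 (iv4 F38170)) (tt N30619 (iv5 F96860)) (tt N30620 D49943) (tt N22624 (iv7 F53473)))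
theorem Q15293 : ∀ i, i < 15293 → P i := stepQ 15292 Q15292 (allL N15292 (tt N30621 D49944) (tt N30622 D49945) (tt N30623 D49946) (tt N7479 (iv3 D24355)) (tt N7491 F38171) (tt N30624 D49947) (tt N14788 F38172) (tt N30625 D49948))
theorem Q15294 : ∀ i, i < 15294 → P i := stepQ 15293 Q15293 (allL N15293 (tt N30626 D49949) (tt N30627 D49950) (tt N30573 (iv2 F78898)) (tt N30624 (iv3 F78985)) (tt N30628 D49951) (tt N7479 (iv5 D24356)) (tt N30629 D49952) (tt N30630 D49953))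
theorem Q15295 : ∀ i, i < 15295 → P i := stepQ 15294 Q15294 (allL N15294 (tt N20008 (iv1 F48725)) (tt N22624 (iv0 F53474)) (tt N30574 (iv2 F78901)) (tt N30625 (iv3 F78986)) (tt N7480 F38173) (tt N30630 (iv5 F79004)) (tt N30631 D49954) (tt N7479 (iv7 D24357)))
theorem Q15296 : ∀ i, i < 15296 → P i := stepQ 15295 Q15295 (allL N15295 (tt N30632 D49955) (tt N30633 D49956) (tt N30575 (iv2 F78906)) (tt N7494 F38174) (tt N30631 (iv4 F79005)) (tt N15295 F38175) (tt N7480 (iv6 D24358)) (tt N14791 F38176))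
theorem Q15297 : ∀ i, i < 15297 → P i := stepQ 15296 Q15296 (allL N15296 (tt N19385 (iv1 F47510)) (tt N19383 (iv0 F47501)) (tt N16112 (iv2 F39939)) (tt N30634 D49957) (tt N7481 (iv4 D24359)) (tt N30635 D49958) (tt N30636 D49959) (tt N11144 F38177))
theorem Q15298 : ∀ i, i < 15298 → P i := stepQ 15297 Q15297 (allL N15297 (tt N20829 F49659) (tt N30637 D49960) (tt N16113 (iv2 F39940)) (tt N7484 F38178) (tt N30636 (iv4 F79016)) (tt N7732 F38179) (tt N7481 (iv6 D24360)) (tt N30638 D49961))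
theorem Q15299 : ∀ i, i < 15299 → P i := stepQ 15298 Q15298 (allL N15298 (tt N25124 (iv1 F311908)) (tt N17942 (iv0 F311904)) (tt N25128 (iv2 F311912)) (tt N7483 (iv3 D24361)) (tt N30634 (iv4 F79009)) (tt N20294 (iv5 F49107)) (tt N22158 (iv6 F313579)) (tt N11146 F38180))
theorem Q15300 : ∀ i, i < 15300 → P i := stepQ 15299 Q15299 (allL N15299 (tt N7484 (iv1 D24363)) (tt N11140 F38183) (tt N11139 (iv2 F49820)) (tt N30592 (iv3 F111400)) (tt N17053 F315101) (tt N10187 (iv5 F38184)) (tt N20892 (iv6 F49803)) (tt N11138 (iv7 F49819)))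
theorem Q15301 : ∀ i, i < 15301 → P i := stepQ 15300 Q15300 (allL N15300 (tt N11139 (iv1 F38189)) (tt N11138 F38190) (tt N11140 F38185) (tt N30638 (iv3 F79017)) (tt N17145 F314919) (tt N14799 F38186) (tt N11149 F38187) (tt N7484 (iv7 D24364)))
theorem Q15302 : ∀ i, i < 15302 → P i := stepQ 15301 Q15301 (allL N15301 (tt N7720 (iv1 F38193)) (tt N7485 (iv0 D24365)) (tt N10165 (iv2 F38192)) (tt N19547 (iv3 F47956)) (tt N30165 (iv4 F78135)) (tt N10143 F38191) (tt N15170 (iv6 F38195)) (tt N10162 F38194))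
theorem Q15303 : ∀ i, i < 15303 → P i := stepQ 15302 Q15302 (allL N15302 (tt N30639 D49969) (tt N30640 D49970) (tt N18018 (iv2 F45114)) (tt N30641 D49971) (tt N7485 (iv4 D24366)) (tt N30642 D49972) (tt N30643 D49973) (tt N11134 F38200))
theorem Q15304 : ∀ i, i < 15304 → P i := stepQ 15303 Q15303 (allL N15303 (tt N21012 F78375) (tt N15152 (iv0 F38202)) (tt N18019 (iv2 F45116)) (tt N7488 F38201) (tt N30643 (iv4 F79050)) (tt N19205 (iv5 F47068)) (tt N7485 (iv6 D24367)) (tt N20876 (iv7 F49764)))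
theorem Q15305 : ∀ i, i < 15305 → P i := stepQ 15304 Q15304 (allL N15304 (tt N30644 D49974) (tt N30645 D49975) (tt N30646 D49976) (tt N7487 (iv3 D24368)) (tt N30641 (iv4 F79044)) (tt N19495 (iv5 F47806)) (tt N30647 D49977) (tt N11136 F38203))
theorem Q15306 : ∀ i, i < 15306 → P i := stepQ 15305 Q15305 (allL N15305 (tt N20234 (iv1 F53620)) (tt N16672 (iv0 F40874)) (tt N11147 F38204) (tt N30647 (iv3 F79058)) (tt N7488 F38205) (tt N22800 F307200) (tt N7487 (iv6 D24369)) (tt N20381 (iv7 F49203)))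
theorem Q15307 : ∀ i, i < 15307 → P i := stepQ 15306 Q15306 (allL N15306 (tt N16180 (iv1 F40084)) (tt N7928 F38207) (tt N16114 (iv2 F39943)) (tt N20268 (iv3 F49085)) (tt N7489 (iv4 D24370)) (tt N30648 D49979) (tt N30649 D49980) (tt N15161 F38206))
theorem Q15308 : ∀ i, i < 15308 → P i := stepQ 15307 Q15307 (allL N15307 (tt N30650 D49981) (tt N30651 D49982) (tt N16115 (iv2 F39946)) (tt N7490 F38208) (tt N30649 (iv4 F79063)) (tt N15667 (iv5 F38789)) (tt N7489 (iv6 D24371)) (tt N30652 D49983))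
theorem Q15309 : ∀ i, i < 15309 → P i := stepQ 15308 Q15308 (allL N15308 (tt N15221 F38210) (tt N7490 (iv0 D24372)) (tt N15219 F78659) (tt N30653 D49984) (tt N22702 (iv4 F53660)) (tt N30654 D49985) (tt N14798 F38209) (tt N15220 F78660))
theorem Q15310 : ∀ i, i < 15310 → P i := stepQ 15309 Q15309 (allL N15309 (tt N7490 (iv1 D24373)) (tt N15221 F38211) (tt N15220 F78663) (tt N30608 (iv3 F166172)) (tt N22703 (iv4 F53652)) (tt N18149 (iv5 F45367)) (tt N21068 (iv6 F50075)) (tt N15219 F78664))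
theorem Q15311 : ∀ i, i < 15311 → P i := stepQ 15310 Q15310 (allL N15310 (tt N15220 (iv1 F38215)) (tt N15219 (iv0 F38216)) (tt N15221 F38212) (tt N30652 (iv3 F79064)) (tt N10727 F315185) (tt N7893 F38213) (tt N10726 (iv6 F317166)) (tt N7490 (iv7 D24374)))
theorem Q15312 : ∀ i, i < 15312 → P i := stepQ 15311 Q15311 (allL N15311 (tt N30655 D49987) (tt N7491 (iv0 D24375)) (tt N30656 D49988) (tt N30657 D49989) (tt N30658 D49990) (tt N12510 (iv5 F312689)) (tt N30659 D49992) (tt N30660 D49993))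
theorem Q15313 : ∀ i, i < 15313 → P i := stepQ 15312 Q15312 (allL N15312 (tt N7491 (iv1 D24376)) (tt N30655 F79079) (tt N30660 (iv2 F79081)) (tt N30661 D49994) (tt N30662 D49995) (tt N10550 (iv5 F312690)) (tt N10647 (iv6 F312691)) (tt N30656 F79080))
theorem Q15314 : ∀ i, i < 15314 → P i := stepQ 15313 Q15313 (allL N15313 (tt N30656 (iv1 F167156)) (tt N30660 (iv0 F167152)) (tt N7491 (iv2 D24377)) (tt N12655 (iv3 F312258)) (tt N30623 (iv4 F78983)) (tt N30663 D50000) (tt N14802 F38218) (tt N30655 (iv7 F79078)))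
theorem Q15315 : ∀ i, i < 15315 → P i := stepQ 15314 Q15314 (allL N15314 (tt N30664 D50001) (tt N30665 D50002) (tt N30663 (iv2 F79084)) (tt N7492 F38219) (tt N30666 D50003) (tt N7491 (iv5 D24378)) (tt N30667 D50004) (tt N15254 (iv7 F38220)))
theorem Q15316 : ∀ i, i < 15316 → P i := stepQ 15315 Q15315 (allL N15315 (tt N30660 (iv1 F167153)) (tt N30656 (iv0 F167155)) (tt N30655 F79075) (tt N7493 F38221) (tt N30625 (iv4 F78987)) (tt N15254 F38222) (tt N30668 D50005) (tt N7491 (iv7 D24379)))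
theorem Q15317 : ∀ i, i < 15317 → P i := stepQ 15316 Q15316 (allL N15316 (tt N30669 D50006) (tt N30670 D50007) (tt N15223 F38223) (tt N30667 (iv3 F79093)) (tt N15259 F38224) (tt N14804 F38225) (tt N7492 (iv6 D24380)) (tt N30671 D50008))
theorem Q15318 : ∀ i, i < 15318 → P i := stepQ 15317 Q15317 (allL N15317 (tt N10134 (iv1 F94131)) (tt N10130 F94128) (tt N15224 F38226) (tt N30668 (iv3 F79095)) (tt N7494 F38227) (tt N30672 D50009) (tt N7493 (iv6 D24381)) (tt N10041 F38228))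
theorem Q15319 : ∀ i, i < 15319 → P i := stepQ 15318 Q15318 (allL N15318 (tt N15230 (iv1 F38230)) (tt N7495 (iv0 D24382)) (tt N15229 F50582) (tt N9366 F38229) (tt N30673 D50010) (tt N30515 (iv5 F78749)) (tt N16903 F46895) (tt N15228 (iv7 F50581)))
theorem Q15320 : ∀ i, i < 15320 → P i := stepQ 15319 Q15319 (allL N15319 (tt N8327 F38234) (tt N8329 F38235) (tt N10635 F38232) (tt N17154 (iv3 F42381)) (tt N21700 (iv4 F51739)) (tt N7496 (iv5 D24384)) (tt N22829 (iv6 F54493)) (tt N10634 F38233))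
theorem Q15321 : ∀ i, i < 15321 → P i := stepQ 15320 Q15320 (allL N15320 (tt N7499 (iv1 F38240)) (tt N7498 (iv0 D24385)) (tt N7502 (iv2 F38236)) (tt N15237 F38237) (tt N11165 F38238) (tt N30674 D50011) (tt N21075 (iv6 F50087)) (tt N7500 F38239))
theorem Q15322 : ∀ i, i < 15322 → P i := stepQ 15321 Q15321 (allL N15321 (tt N7502 F55508) (tt N7500 F55509) (tt N7498 (iv2 D24386)) (tt N18219 F55510) (tt N15239 F55511) (tt N12342 F311256) (tt N16806 (iv6 F55513)) (tt N7499 (iv7 F38241)))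
theorem Q15323 : ∀ i, i < 15323 → P i := stepQ 15322 Q15322 (allL N15322 (tt N20947 (iv1 F50486)) (tt N21567 (iv0 F56576)) (tt N21571 (iv2 F55494)) (tt N7498 (iv3 D24387)) (tt N30675 D50013) (tt N27588 F311338) (tt N20920 (iv6 F50950)) (tt N21572 (iv7 F55495)))
theorem Q15324 : ∀ i, i < 15324 → P i := stepQ 15323 Q15323 (allL N15323 (tt N18218 (iv1 F45537)) (tt N8976 (iv0 F42819)) (tt N15239 F55503) (tt N30676 D50015) (tt N7498 (iv4 D24388)) (tt N19037 F54170) (tt N20921 (iv6 F50951)) (tt N18217 (iv7 F55501)))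
theorem Q15325 : ∀ i, i < 15325 → P i := stepQ 15324 Q15324 (allL N15324 (tt N7500 F55496) (tt N7502 F55497) (tt N7499 F38242) (tt N21572 F55498) (tt N18217 F55499) (tt N12478 (iv5 F311363)) (tt N20990 (iv6 F54150)) (tt N7498 (iv7 D24391)))
theorem Q15326 : ∀ i, i < 15326 → P i := stepQ 15325 Q15325 (allL N15325 (tt N18221 F50884) (tt N8975 F50885) (tt N18220 (iv2 F55545)) (tt N7499 (iv3 D24392)) (tt N23312 F55485) (tt N19054 F54344) (tt N21655 (iv6 F55712)) (tt N18219 F55544))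
theorem Q15327 : ∀ i, i < 15327 → P i := stepQ 15326 Q15326 (allL N15326 (tt N8976 F50879) (tt N18218 F50880) (tt N18217 (iv2 F55500)) (tt N15243 (iv3 F55507)) (tt N7499 (iv4 D24393)) (tt N19038 F54321) (tt N30677 D50020) (tt N15239 F55504))
theorem Q15328 : ∀ i, i < 15328 → P i := stepQ 15327 Q15327 (allL N15327 (tt N8848 (iv1 F310456)) (tt N12476 (iv0 F310460)) (tt N12478 (iv2 F311362)) (tt N19054 (iv3 F54345)) (tt N13668 F309864) (tt N7499 (iv5 D24394)) (tt N17576 F309865) (tt N12342 (iv7 F311208)))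
theorem Q15329 : ∀ i, i < 15329 → P i := stepQ 15328 Q15328 (allL N15328 (tt N16815 F79145) (tt N20991 (iv0 F56712)) (tt N20990 F54149) (tt N21655 F55713) (tt N30677 (iv4 F79143)) (tt N21887 F56718) (tt N7499 (iv6 D24395)) (tt N20923 F50952))
theorem Q15330 : ∀ i, i < 15330 → P i := stepQ 15329 Q15329 (allL N15329 (tt N11587 F307205) (tt N30678 D50023) (tt N7501 F38247) (tt N15248 F38248) (tt N22228 (iv4 F79163)) (tt N7500 (iv5 D24398)) (tt N27718 (iv6 F309137)) (tt N30674 (iv7 F79115)))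
theorem Q15331 : ∀ i, i < 15331 → P i := stepQ 15330 Q15330 (allL N15330 (tt N30674 (iv1 F79117)) (tt N7501 (iv0 D24399)) (tt N11587 (iv2 F306003)) (tt N30679 D50025) (tt N11585 (iv4 F306649)) (tt N9121 F50859) (tt N11584 F304633) (tt N30678 (iv7 F79161)))
theorem Q15332 : ∀ i, i < 15332 → P i := stepQ 15331 Q15331 (allL N15331 (tt N7501 (iv1 D24400)) (tt N30674 (iv0 F79116)) (tt N30678 F79165) (tt N19460 F54241) (tt N11590 (iv4 F309135)) (tt N19458 (iv5 F54240)) (tt N24161 F307203) (tt N11587 F307204))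
theorem Q15333 : ∀ i, i < 15333 → P i := stepQ 15332 Q15332 (allL N15332 (tt N12742 (iv1 F308116)) (tt N22229 F52814) (tt N22228 F79164) (tt N8534 (iv3 F309138)) (tt N7501 (iv4 D24401)) (tt N8532 (iv5 F309140)) (tt N11352 (iv6 F309142)) (tt N11330 (iv7 F308508)))
theorem Q15334 : ∀ i, i < 15334 → P i := stepQ 15333 Q15333 (allL N15333 (tt N27736 (iv1 F309143)) (tt N12037 (iv0 F309144)) (tt N27718 (iv2 F309136)) (tt N7505 F38249) (tt N11352 (iv4 F309141)) (tt N10665 F38250) (tt N7501 (iv6 D24402)) (tt N23423 (iv7 F309146)))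
theorem Q15335 : ∀ i, i < 15335 → P i := stepQ 15334 Q15334 (allL N15334 (tt N30678 (iv1 F79160)) (tt N11587 F307197) (tt N30674 (iv2 F79113)) (tt N7506 F38251) (tt N11330 (iv4 F308507)) (tt N7502 F38252) (tt N30680 D50036) (tt N7501 (iv7 D24403)))
theorem Q15336 : ∀ i, i < 15336 → P i := stepQ 15335 Q15335 (allL N15335 (tt N9375 (iv1 F38256)) (tt N9374 F38257) (tt N9378 F38253) (tt N7503 (iv3 D24404)) (tt N30681 D50037) (tt N8484 F38254) (tt N30682 D50038) (tt N9373 F38255))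
theorem Q15337 : ∀ i, i < 15337 → P i := stepQ 15336 Q15336 (allL N15336 (tt N30683 D50039) (tt N30684 D50040) (tt N11150 F38260) (tt N30682 (iv3 F79186)) (tt N17289 (iv4 F305282)) (tt N11044 F38261) (tt N7503 (iv6 D24405)) (tt N22482 F302927))
theorem Q15338 : ∀ i, i < 15338 → P i := stepQ 15337 Q15337 (allL N15337 (tt N10679 (iv1 F309147)) (tt N23996 (iv0 F309148)) (tt N11347 (iv2 F309149)) (tt N7504 (iv3 D24406)) (tt N8534 (iv4 F309139)) (tt N12656 (iv5 F309151)) (tt N10666 (iv6 F309153)) (tt N11336 (iv7 F308389)))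
theorem Q15339 : ∀ i, i < 15339 → P i := stepQ 15338 Q15338 (allL N15338 (tt N21702 (iv1 F309154)) (tt N10689 (iv0 F309089)) (tt N15255 F38264) (tt N10666 (iv3 F309152)) (tt N7505 F38265) (tt N30685 D50046) (tt N7504 (iv6 D24407)) (tt N21553 (iv7 F307451)))
theorem Q15340 : ∀ i, i < 15340 → P i := stepQ 15339 Q15339 (allL N15339 (tt N15258 (iv1 F38271)) (tt N7505 (iv0 D24408)) (tt N15256 (iv2 F44677)) (tt N19508 F109841) (tt N21747 (iv4 F309127)) (tt N18616 (iv5 F46234)) (tt N30686 D50050) (tt N15257 F44676))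
theorem Q15341 : ∀ i, i < 15341 → P i := stepQ 15340 Q15340 (allL N15340 (tt N7505 (iv1 D24409)) (tt N15258 F38266) (tt N15257 F44674) (tt N30687 D50051) (tt N17029 (iv4 F308393)) (tt N14873 (iv5 F38267)) (tt N10691 F307190) (tt N15256 (iv7 F44675)))
theorem Q15342 : ∀ i, i < 15342 → P i := stepQ 15341 Q15341 (allL N15341 (tt N15257 (iv1 F38272)) (tt N15256 F38273) (tt N15258 F38269) (tt N23423 (iv3 F309145)) (tt N21553 (iv4 F307450)) (tt N10668 F38270) (tt N30688 D50054) (tt N7505 (iv7 D24410)))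
theorem Q15343 : ∀ i, i < 15343 → P i := stepQ 15342 Q15342 (allL N15342 (tt N30689 D50055) (tt N30690 D50056) (tt N15259 F38274) (tt N30680 (iv3 F79180)) (tt N15223 F38275) (tt N21078 (iv5 F50098)) (tt N7506 (iv6 D24411)) (tt N30688 (iv7 F79227)))
theorem Q15344 : ∀ i, i < 15344 → P i := stepQ 15343 Q15343 (allL N15343 (tt N20145 F48866) (tt N14783 (iv0 F38280)) (tt N9179 F38276) (tt N15189 F38277) (tt N10063 F38279) (tt N7507 (iv5 D24412)) (tt N9623 F38278) (tt N15407 (iv7 F38435)))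
theorem Q15345 : ∀ i, i < 15345 → P i := stepQ 15344 Q15344 (allL N15344 (tt N19566 (iv1 F47985)) (tt N19193 (iv0 F47050)) (tt N9189 F38281) (tt N15199 F38282) (tt N30691 D50057) (tt N7508 (iv5 D24413)) (tt N30692 D50058) (tt N15367 (iv7 F38325)))
theorem Q15346 : ∀ i, i < 15346 → P i := stepQ 15345 Q15345 (allL N15345 (tt N7557 F38286) (tt N16108 (iv0 F39923)) (tt N9190 F38283) (tt N15200 F38284) (tt N9633 F38285) (tt N19526 (iv5 F47895)) (tt N7508 (iv6 D24414)) (tt N20442 (iv7 F49307)))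
theorem Q15347 : ∀ i, i < 15347 → P i := stepQ 15346 Q15346 (allL N15346 (tt N19193 F47049) (tt N19566 (iv0 F47986)) (tt N15367 (iv2 F38324)) (tt N9184 F38288) (tt N30693 D50059) (tt N7509 (iv5 D24415)) (tt N30694 D50060) (tt N9189 F38289))
theorem Q15348 : ∀ i, i < 15348 → P i := stepQ 15347 Q15347 (allL N15347 (tt N15371 (iv1 F38337)) (tt N7510 (iv0 D24416)) (tt N9204 (iv2 F38296)) (tt N30695 D50061) (tt N9654 (iv4 F46412)) (tt N20347 (iv5 F49149)) (tt N30696 D50062) (tt N15369 F38985))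
theorem Q15349 : ∀ i, i < 15349 → P i := stepQ 15348 Q15348 (allL N15348 (tt N7510 (iv1 D24417)) (tt N15371 F38336) (tt N15369 (iv2 F38981)) (tt N8893 F38291) (tt N9655 F38295) (tt N8887 (iv5 F38290)) (tt N30697 D50063) (tt N9204 (iv7 F38294)))
theorem Q15350 : ∀ i, i < 15350 → P i := stepQ 15349 Q15349 (allL N15349 (tt N19658 (iv1 F48084)) (tt N15860 (iv0 F39200)) (tt N15370 (iv2 F38330)) (tt N30698 D50064) (tt N7510 (iv4 D24418)) (tt N30699 D50065) (tt N15726 (iv6 F38904)) (tt N19703 (iv7 F48179)))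
theorem Q15351 : ∀ i, i < 15351 → P i := stepQ 15350 Q15350 (allL N15350 (tt N15369 (iv1 F38329)) (tt N9204 (iv0 F38986)) (tt N15371 (iv2 F38333)) (tt N9233 F38297) (tt N19703 (iv4 F48177)) (tt N7511 F38298) (tt N30700 D50066) (tt N7510 (iv7 D24419)))
theorem Q15352 : ∀ i, i < 15352 → P i := stepQ 15351 Q15351 (allL N15351 (tt N20220 (iv1 F48968)) (tt N20219 F48967) (tt N11087 F38299) (tt N30701 D50067) (tt N7512 (iv4 D24420)) (tt N30702 D50068) (tt N30703 D50069) (tt N15372 (iv7 F38339)))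
theorem Q15353 : ∀ i, i < 15353 → P i := stepQ 15352 Q15352 (allL N15352 (tt N30704 D50070) (tt N30705 D50071) (tt N11088 F38300) (tt N15804 (iv3 F39073)) (tt N30703 (iv4 F79259)) (tt N16727 (iv5 F41010)) (tt N7512 (iv6 D24421)) (tt N30706 D50072))
theorem Q15354 : ∀ i, i < 15354 → P i := stepQ 15353 Q15353 (allL N15353 (tt N19681 (iv1 F48145)) (tt N19653 (iv0 F48069)) (tt N11105 F38301) (tt N30707 D50073) (tt N7514 (iv4 D24422)) (tt N30708 D50074) (tt N30709 D50075) (tt N15376 (iv7 F38354)))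
theorem Q15355 : ∀ i, i < 15355 → P i := stepQ 15354 Q15354 (allL N15354 (tt N20617 (iv1 F84551)) (tt N30710 D50077) (tt N11106 F38302) (tt N15806 (iv3 F39077)) (tt N30709 (iv4 F79270)) (tt N15873 F39226) (tt N7514 (iv6 D24423)) (tt N30711 D50078))
theorem Q15356 : ∀ i, i < 15356 → P i := stepQ 15355 Q15355 (allL N15355 (tt N15382 (iv1 F38365)) (tt N7515 (iv0 D24424)) (tt N15378 F38371) (tt N30712 D50079) (tt N9637 F38366) (tt N30713 D50080) (tt N30714 D50081) (tt N15379 F38369))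
theorem Q15357 : ∀ i, i < 15357 → P i := stepQ 15356 Q15356 (allL N15356 (tt N7515 (iv1 D24425)) (tt N15382 F38364) (tt N15379 (iv2 F38370)) (tt N30715 D50082) (tt N9638 (iv4 F38945)) (tt N30716 D50083) (tt N30717 D50084) (tt N15378 (iv7 F38372)))
theorem Q15358 : ∀ i, i < 15358 → P i := stepQ 15357 Q15357 (allL N15357 (tt N30718 D50085) (tt N30719 D50086) (tt N30720 D50087) (tt N7515 (iv3 D24426)) (tt N15081 F38303) (tt N30721 D50088) (tt N15057 F38304) (tt N30722 D50089))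
theorem Q15359 : ∀ i, i < 15359 → P i := stepQ 15358 Q15358 (allL N15358 (tt N30723 D50090) (tt N30724 D50091) (tt N15381 (iv2 F38360)) (tt N30721 (iv3 F79282)) (tt N30725 D50092) (tt N7515 (iv5 D24427)) (tt N30726 D50093) (tt N30727 D50094))
theorem Q15360 : ∀ i, i < 15360 → P i := stepQ 15359 Q15359 (allL N15359 (tt N15379 (iv1 F38358)) (tt N15378 F38363) (tt N15382 (iv2 F38361)) (tt N30722 (iv3 F79283)) (tt N7516 F38305) (tt N30727 (iv5 F79290)) (tt N30728 D50095) (tt N7515 (iv7 D24428)))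
theorem Q15361 : ∀ i, i < 15361 → P i := stepQ 15360 Q15360 (allL N15360 (tt N20418 (iv1 F49245)) (tt N16785 F163971) (tt N15383 (iv2 F38373)) (tt N15084 F38306) (tt N30728 (iv4 F79291)) (tt N15360 F38307) (tt N7516 (iv6 D24429)) (tt N15060 F38308))
theorem Q15362 : ∀ i, i < 15362 → P i := stepQ 15361 Q15361 (allL N15361 (tt N18898 (iv1 F46615)) (tt N18897 F46613) (tt N9495 F38309) (tt N9719 F38310) (tt N30729 D50096) (tt N7517 (iv5 D24430)) (tt N30730 D50097) (tt N9753 F38311))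
theorem Q15363 : ∀ i, i < 15363 → P i := stepQ 15362 Q15362 (allL N15362 (tt N30731 D50098) (tt N7942 (iv0 F38315)) (tt N9496 F38312) (tt N7586 F38313) (tt N8114 F38314) (tt N18927 (iv5 F46661)) (tt N7517 (iv6 D24431)) (tt N30214 (iv7 F78202)))
theorem Q15364 : ∀ i, i < 15364 → P i := stepQ 15363 Q15363 (allL N15363 (tt N16183 (iv1 F40094)) (tt N7518 (iv0 D24432)) (tt N9761 (iv2 F38320)) (tt N7933 F38321) (tt N15213 F38599) (tt N15510 (iv5 F38597)) (tt N30732 D50099) (tt N15509 F38593))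
theorem Q15365 : ∀ i, i < 15365 → P i := stepQ 15364 Q15364 (allL N15364 (tt N7518 (iv1 D24433)) (tt N16183 F40093) (tt N15509 (iv2 F38588)) (tt N8130 F38317) (tt N15214 F38319) (tt N8124 (iv5 F38316)) (tt N30733 D50100) (tt N9761 (iv7 F38318)))
theorem Q15366 : ∀ i, i < 15366 → P i := stepQ 15365 Q15365 (allL N15365 (tt N30435 (iv1 F78545)) (tt N29638 (iv0 F76870)) (tt N16182 (iv2 F40087)) (tt N30734 D50101) (tt N7518 (iv4 D24434)) (tt N30735 D50102) (tt N19647 (iv6 F48047)) (tt N30467 (iv7 F78614)))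
theorem Q15367 : ∀ i, i < 15367 → P i := stepQ 15366 Q15366 (allL N15366 (tt N15509 (iv1 F38590)) (tt N9761 F38592) (tt N16183 (iv2 F40090)) (tt N7527 F38322) (tt N30467 (iv4 F78612)) (tt N7519 F38323) (tt N30736 D50103) (tt N7518 (iv7 D24435)))
theorem Q15368 : ∀ i, i < 15368 → P i := stepQ 15367 Q15367 (allL N15367 (tt N18659 (iv1 F46367)) (tt N18658 F46365) (tt N15346 F38324) (tt N18223 (iv3 F45555)) (tt N30737 D50104) (tt N7520 (iv5 D24436)) (tt N30738 D50105) (tt N15344 F38325))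
theorem Q15369 : ∀ i, i < 15369 → P i := stepQ 15368 Q15368 (allL N15368 (tt N30739 D50106) (tt N7542 (iv0 F38328)) (tt N10160 F38326) (tt N15656 (iv3 F38759)) (tt N15279 F38327) (tt N19546 (iv5 F47952)) (tt N7520 (iv6 D24437)) (tt N30740 D50107))
theorem Q15370 : ∀ i, i < 15370 → P i := stepQ 15369 Q15369 (allL N15369 (tt N7521 (iv1 D24439)) (tt N15350 F38329) (tt N15348 F38981) (tt N18225 (iv3 F45566)) (tt N19660 (iv4 F48089)) (tt N15745 (iv5 F38980)) (tt N30741 D50108) (tt N15347 (iv7 F38985)))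
theorem Q15371 : ∀ i, i < 15371 → P i := stepQ 15370 Q15370 (allL N15370 (tt N9649 F38332) (tt N9652 F38331) (tt N15349 F38330) (tt N30742 D50109) (tt N7521 (iv4 D24440)) (tt N30743 D50110) (tt N15733 (iv6 F38929)) (tt N30744 D50111))
theorem Q15372 : ∀ i, i < 15372 → P i := stepQ 15371 Q15371 (allL N15371 (tt N15348 (iv1 F38336)) (tt N15347 F38337) (tt N15350 F38333) (tt N18232 (iv3 F45586)) (tt N30744 (iv4 F79343)) (tt N7522 F38334) (tt N30745 D50112) (tt N7521 (iv7 D24441)))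
theorem Q15373 : ∀ i, i < 15373 → P i := stepQ 15372 Q15372 (allL N15372 (tt N22659 (iv1 F53518)) (tt N22658 F53517) (tt N9889 F38338) (tt N30746 D50113) (tt N7523 (iv4 D24442)) (tt N30747 D50114) (tt N30748 D50115) (tt N15351 F38339))
theorem Q15374 : ∀ i, i < 15374 → P i := stepQ 15373 Q15373 (allL N15373 (tt N30749 D50116) (tt N9995 (iv0 F38341)) (tt N9890 F38340) (tt N15818 (iv3 F39098)) (tt N30748 (iv4 F79356)) (tt N19552 (iv5 F47964)) (tt N7523 (iv6 D24443)) (tt N30750 D50117))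
theorem Q15375 : ∀ i, i < 15375 → P i := stepQ 15374 Q15374 (allL N15374 (tt N7547 (iv1 F38347)) (tt N7524 (iv0 D24444)) (tt N7549 (iv2 F38344)) (tt N30731 F79308) (tt N30739 (iv4 F79323)) (tt N9572 F38342) (tt N7561 F38343) (tt N7531 F38345))
theorem Q15376 : ∀ i, i < 15376 → P i := stepQ 15375 Q15375 (allL N15375 (tt N7531 (iv1 F38351)) (tt N7549 F38352) (tt N7547 F38348) (tt N15820 (iv3 F39106)) (tt N8151 F38349) (tt N18947 (iv5 F46685)) (tt N10029 F38350) (tt N7524 (iv7 D24445)))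
theorem Q15377 : ∀ i, i < 15377 → P i := stepQ 15376 Q15376 (allL N15376 (tt N9639 F38355) (tt N22689 F53628) (tt N9904 F38353) (tt N30751 D50118) (tt N7525 (iv4 D24446)) (tt N30752 D50119) (tt N30753 D50120) (tt N15353 F38354))
theorem Q15378 : ∀ i, i < 15378 → P i := stepQ 15377 Q15377 (allL N15377 (tt N30754 D50121) (tt N30755 D50122) (tt N9905 F38356) (tt N15822 (iv3 F39114)) (tt N30753 (iv4 F79376)) (tt N9928 F38357) (tt N7525 (iv6 D24447)) (tt N30756 D50123))
theorem Q15379 : ∀ i, i < 15379 → P i := stepQ 15378 Q15378 (allL N15378 (tt N15359 (iv1 F38363)) (tt N7526 (iv0 D24448)) (tt N15355 (iv2 F38371)) (tt N30757 D50124) (tt N19652 (iv4 F48062)) (tt N30758 D50125) (tt N30759 D50126) (tt N15356 F38372))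
theorem Q15380 : ∀ i, i < 15380 → P i := stepQ 15379 Q15379 (allL N15379 (tt N7526 (iv1 D24449)) (tt N15359 F38358) (tt N15356 F38370) (tt N30760 D50127) (tt N15287 F38359) (tt N30761 D50128) (tt N30762 D50129) (tt N15355 (iv7 F38369)))
theorem Q15381 : ∀ i, i < 15381 → P i := stepQ 15380 Q15380 (allL N15380 (tt N30763 D50130) (tt N30764 D50131) (tt N30765 D50132) (tt N7526 (iv3 D24450)) (tt N30734 (iv4 F79315)) (tt N30766 D50133) (tt N19650 (iv6 F48058)) (tt N30767 D50134))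
theorem Q15382 : ∀ i, i < 15382 → P i := stepQ 15381 Q15381 (allL N15381 (tt N30768 D50135) (tt N30769 D50136) (tt N15358 F38360) (tt N30766 (iv3 F79403)) (tt N30770 D50137) (tt N7526 (iv5 D24451)) (tt N30771 D50138) (tt N30772 D50139))
theorem Q15383 : ∀ i, i < 15383 → P i := stepQ 15382 Q15382 (allL N15382 (tt N15356 (iv1 F38364)) (tt N15355 F38365) (tt N15359 F38361) (tt N30767 (iv3 F79404)) (tt N7527 F38362) (tt N30772 (iv5 F79420)) (tt N30773 D50140) (tt N7526 (iv7 D24452)))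
theorem Q15384 : ∀ i, i < 15384 → P i := stepQ 15383 Q15383 (allL N15383 (tt N10133 F163963) (tt N30163 F78130) (tt N15360 F38373) (tt N30736 (iv3 F79316)) (tt N30773 (iv4 F79424)) (tt N15383 F38374) (tt N7527 (iv6 D24453)) (tt N9976 F38375))
theorem Q15385 : ∀ i, i < 15385 → P i := stepQ 15384 Q15384 (allL N15384 (tt N15110 F38379) (tt N15951 F39418) (tt N7941 F38376) (tt N7530 F38377) (tt N30774 D50141) (tt N7528 (iv5 D24454)) (tt N30775 D50142) (tt N7553 F38378))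
theorem Q15386 : ∀ i, i < 15386 → P i := stepQ 15385 Q15385 (allL N15385 (tt N9496 F38386) (tt N30214 (iv0 F78204)) (tt N7942 F38380) (tt N7531 F38381) (tt N9006 F38382) (tt N9594 (iv5 F38385)) (tt N7528 (iv6 D24455)) (tt N30731 (iv7 F79307)))
theorem Q15387 : ∀ i, i < 15387 → P i := stepQ 15386 Q15386 (allL N15386 (tt N10145 F38390) (tt N20452 (iv0 F49320)) (tt N7541 F38387) (tt N9008 F38388) (tt N30776 D50143) (tt N7529 (iv5 D24456)) (tt N30777 D50144) (tt N7556 F38389))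
theorem Q15388 : ∀ i, i < 15388 → P i := stepQ 15387 Q15387 (allL N15387 (tt N10160 (iv1 F40234)) (tt N30740 F79334) (tt N7542 F38392) (tt N9009 F38393) (tt N7531 F38394) (tt N15741 F38967) (tt N7529 (iv6 D24457)) (tt N30739 (iv7 F79327)))
theorem Q15389 : ∀ i, i < 15389 → P i := stepQ 15388 Q15388 (allL N15388 (tt N7530 (iv1 D24458)) (tt N7532 F38395) (tt N7544 (iv2 F38397)) (tt N15831 F39142) (tt N30778 D50145) (tt N15461 (iv5 F38519)) (tt N15873 F39225) (tt N7543 F38396))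
theorem Q15390 : ∀ i, i < 15390 → P i := stepQ 15389 Q15389 (allL N15389 (tt N20434 (iv1 F49298)) (tt N20431 (iv0 F49285)) (tt N7545 F38398) (tt N30779 D50146) (tt N7530 (iv4 D24459)) (tt N30780 D50147) (tt N30781 D50148) (tt N7558 F38399))
theorem Q15391 : ∀ i, i < 15391 → P i := stepQ 15390 Q15390 (allL N15390 (tt N15944 F164117) (tt N30782 D50150) (tt N7546 F38400) (tt N30775 (iv3 F79431)) (tt N30781 (iv4 F79447)) (tt N9596 F38401) (tt N7530 (iv6 D24460)) (tt N30783 D50151))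
theorem Q15392 : ∀ i, i < 15392 → P i := stepQ 15391 Q15391 (allL N15391 (tt N20431 F49286) (tt N20434 (iv0 F49297)) (tt N7558 F38402) (tt N30784 D50152) (tt N7532 (iv4 D24461)) (tt N30785 D50153) (tt N30786 D50154) (tt N7545 F38403))
theorem Q15393 : ∀ i, i < 15393 → P i := stepQ 15392 Q15392 (allL N15392 (tt N30787 D50155) (tt N15850 (iv0 F39189)) (tt N7559 F38404) (tt N18067 (iv3 F45249)) (tt N30786 (iv4 F79462)) (tt N9932 F38405) (tt N7532 (iv6 D24462)) (tt N30788 D50156))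
theorem Q15394 : ∀ i, i < 15394 → P i := stepQ 15393 Q15393 (allL N15393 (tt N7945 (iv1 F38535)) (tt N7938 F38534) (tt N7943 F38407) (tt N7534 (iv3 D24463)) (tt N30426 (iv4 F78527)) (tt N20351 (iv5 F49170)) (tt N30789 D50157) (tt N7566 F38406))
theorem Q15395 : ∀ i, i < 15395 → P i := stepQ 15394 Q15394 (allL N15394 (tt N20429 (iv1 F49281)) (tt N19665 (iv0 F48108)) (tt N7563 F38410) (tt N30790 D50158) (tt N7534 (iv4 D24464)) (tt N30791 D50159) (tt N30792 D50160) (tt N7567 F38411))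
theorem Q15396 : ∀ i, i < 15396 → P i := stepQ 15395 Q15395 (allL N15395 (tt N15989 F163908) (tt N30793 D50162) (tt N7565 F38412) (tt N30789 (iv3 F79472)) (tt N30792 (iv4 F79478)) (tt N10004 F38413) (tt N7534 (iv6 D24465)) (tt N30794 D50163))
theorem Q15397 : ∀ i, i < 15397 → P i := stepQ 15396 Q15396 (allL N15396 (tt N19665 (iv1 F48107)) (tt N20429 (iv0 F49280)) (tt N7567 F38414) (tt N30795 D50164) (tt N7535 (iv4 D24466)) (tt N30796 D50165) (tt N30797 D50166) (tt N7563 F38415))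
theorem Q15398 : ∀ i, i < 15398 → P i := stepQ 15397 Q15397 (allL N15397 (tt N30798 D50167) (tt N16010 F168274) (tt N7569 F38416) (tt N29476 (iv3 F76480)) (tt N30797 (iv4 F79491)) (tt N9582 F38417) (tt N7535 (iv6 D24467)) (tt N30799 D50169))
theorem Q15399 : ∀ i, i < 15399 → P i := stepQ 15398 Q15398 (allL N15398 (tt N7574 (iv1 F38420)) (tt N7536 (iv0 D24468)) (tt N7570 F38421) (tt N30800 D50170) (tt N8945 F38418) (tt N30801 D50171) (tt N30802 D50172) (tt N7571 (iv7 F38419)))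
theorem Q15400 : ∀ i, i < 15400 → P i := stepQ 15399 Q15399 (allL N15399 (tt N7536 (iv1 D24469)) (tt N7574 F38422) (tt N7571 (iv2 F38424)) (tt N30803 D50173) (tt N19666 F48114) (tt N30804 D50174) (tt N30805 D50175) (tt N7570 F38423))
theorem Q15401 : ∀ i, i < 15401 → P i := stepQ 15400 Q15400 (allL N15400 (tt N30806 D50176) (tt N30807 D50177) (tt N30808 D50178) (tt N7536 (iv3 D24470)) (tt N15843 (iv4 F39168)) (tt N30809 D50179) (tt N15843 (iv6 F39169)) (tt N30810 D50180))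
theorem Q15402 : ∀ i, i < 15402 → P i := stepQ 15401 Q15401 (allL N15401 (tt N30811 D50181) (tt N30812 D50182) (tt N7573 F38425) (tt N30809 (iv3 F79515)) (tt N30161 (iv4 F78126)) (tt N7536 (iv5 D24471)) (tt N30813 D50183) (tt N30159 (iv7 F78124)))
theorem Q15403 : ∀ i, i < 15403 → P i := stepQ 15402 Q15402 (allL N15402 (tt N7571 (iv1 F38428)) (tt N7570 F38429) (tt N7574 F38426) (tt N30810 (iv3 F79516)) (tt N7537 F38427) (tt N30159 (iv5 F78121)) (tt N30814 D50184) (tt N7536 (iv7 D24472)))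
theorem Q15404 : ∀ i, i < 15404 → P i := stepQ 15403 Q15403 (allL N15403 (tt N15912 (iv1 F39273)) (tt N15911 F39272) (tt N7575 F38430) (tt N15846 (iv3 F39176)) (tt N30814 (iv4 F79529)) (tt N15403 F38431) (tt N7537 (iv6 D24473)) (tt N15846 (iv7 F39178)))
theorem Q15405 : ∀ i, i < 15405 → P i := stepQ 15404 Q15404 (allL N15404 (tt N7538 (iv1 D24474)) (tt N7946 F38432) (tt N15920 (iv2 F39301)) (tt N15863 F39302) (tt N18053 (iv4 F45221)) (tt N19544 (iv5 F47944)) (tt N29491 F76514) (tt N18046 (iv7 F45199)))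
theorem Q15406 : ∀ i, i < 15406 → P i := stepQ 15405 Q15405 (allL N15405 (tt N15659 F38771) (tt N30815 D50185) (tt N18047 (iv2 F45200)) (tt N30816 D50186) (tt N7538 (iv4 D24475)) (tt N30817 D50187) (tt N30818 D50188) (tt N18066 (iv7 F45245)))
theorem Q15407 : ∀ i, i < 15407 → P i := stepQ 15406 Q15406 (allL N15406 (tt N30819 D50189) (tt N30820 D50190) (tt N18048 (iv2 F45203)) (tt N7546 F38433) (tt N30818 (iv4 F79539)) (tt N19822 (iv5 F48372)) (tt N7538 (iv6 D24476)) (tt N30821 D50191))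
theorem Q15408 : ∀ i, i < 15408 → P i := stepQ 15407 Q15407 (allL N15407 (tt N18636 (iv1 F46304)) (tt N18635 F46301) (tt N10137 F38434) (tt N15635 (iv3 F38733)) (tt N16702 (iv4 F40966)) (tt N7540 (iv5 D24479)) (tt N30822 D50192) (tt N15343 F38435))
theorem Q15409 : ∀ i, i < 15409 → P i := stepQ 15408 Q15408 (allL N15408 (tt N7556 (iv1 F38436)) (tt N7541 (iv0 D24480)) (tt N10145 (iv2 F40861)) (tt N30823 D50193) (tt N16663 (iv4 F40855)) (tt N18294 (iv5 F45741)) (tt N30824 D50194) (tt N20452 (iv7 F49317)))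
theorem Q15410 : ∀ i, i < 15410 → P i := stepQ 15409 Q15409 (allL N15409 (tt N7541 (iv1 D24481)) (tt N7556 F38437) (tt N20452 (iv2 F49316)) (tt N8222 (iv3 F40858)) (tt N16664 (iv4 F40857)) (tt N19550 (iv5 F47959)) (tt N30825 D50195) (tt N10145 F40859))
theorem Q15411 : ∀ i, i < 15411 → P i := stepQ 15410 Q15410 (allL N15410 (tt N9996 (iv1 F40846)) (tt N9993 F38438) (tt N30776 (iv2 F79433)) (tt N30826 D50196) (tt N7541 (iv4 D24482)) (tt N30157 (iv5 F78114)) (tt N30827 D50197) (tt N29639 (iv7 F76872)))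
theorem Q15412 : ∀ i, i < 15412 → P i := stepQ 15411 Q15411 (allL N15411 (tt N30828 D50198) (tt N30829 D50199) (tt N30777 (iv2 F79437)) (tt N29612 (iv3 F76801)) (tt N30827 (iv4 F79556)) (tt N30474 (iv5 F78617)) (tt N7541 (iv6 D24483)) (tt N30830 D50200))
theorem Q15413 : ∀ i, i < 15413 → P i := stepQ 15412 Q15412 (allL N15412 (tt N7542 (iv1 D24484)) (tt N30739 F79328) (tt N30740 (iv2 F79329)) (tt N10143 (iv3 F38440)) (tt N16264 (iv4 F40224)) (tt N19547 F47955) (tt N15442 (iv6 F39235)) (tt N10160 F38439))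
theorem Q15414 : ∀ i, i < 15414 → P i := stepQ 15413 Q15413 (allL N15413 (tt N30740 (iv1 F79335)) (tt N10160 (iv0 F38443)) (tt N30739 F79326) (tt N10193 F38441) (tt N7549 F38442) (tt N15740 (iv5 F38964)) (tt N16108 (iv6 F39919)) (tt N7542 (iv7 D24485)))
theorem Q15415 : ∀ i, i < 15415 → P i := stepQ 15414 Q15414 (allL N15414 (tt N9987 F38444) (tt N30133 (iv0 F78066)) (tt N15933 (iv2 F39331)) (tt N30831 D50201) (tt N7543 (iv4 D24486)) (tt N30832 D50202) (tt N30833 D50203) (tt N30778 (iv7 F79440)))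
theorem Q15416 : ∀ i, i < 15416 → P i := stepQ 15415 Q15415 (allL N15415 (tt N30834 D50204) (tt N30835 D50205) (tt N15934 (iv2 F39333)) (tt N15848 (iv3 F39183)) (tt N30833 (iv4 F79560)) (tt N15868 (iv5 F39222)) (tt N7543 (iv6 D24487)) (tt N30836 D50206))
theorem Q15417 : ∀ i, i < 15417 → P i := stepQ 15416 Q15416 (allL N15416 (tt N30133 (iv1 F78067)) (tt N9987 (iv0 F38445)) (tt N30778 (iv2 F79439)) (tt N30837 D50207) (tt N7544 (iv4 D24488)) (tt N30838 D50208) (tt N30839 D50209) (tt N15933 (iv7 F39332)))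
theorem Q15418 : ∀ i, i < 15418 → P i := stepQ 15417 Q15417 (allL N15417 (tt N15835 F39152) (tt N15874 F39229) (tt N15873 (iv2 F39227)) (tt N7590 F38447) (tt N30839 (iv4 F79565)) (tt N11106 F38448) (tt N7544 (iv6 D24489)) (tt N15872 (iv7 F79383)))
theorem Q15419 : ∀ i, i < 15419 → P i := stepQ 15418 Q15418 (allL N15418 (tt N7558 (iv1 F38449)) (tt N7545 (iv0 D24490)) (tt N20434 (iv2 F49295)) (tt N30840 D50210) (tt N15689 F38828) (tt N30841 D50211) (tt N30842 D50212) (tt N20431 (iv7 F49284)))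
theorem Q15420 : ∀ i, i < 15420 → P i := stepQ 15419 Q15419 (allL N15419 (tt N7545 (iv1 D24491)) (tt N7558 F38450) (tt N20431 (iv2 F49283)) (tt N30843 D50213) (tt N16261 F40220) (tt N30844 D50214) (tt N30845 D50215) (tt N20434 (iv7 F49296)))
theorem Q15421 : ∀ i, i < 15421 → P i := stepQ 15420 Q15420 (allL N15420 (tt N30846 D50216) (tt N30847 D50217) (tt N30848 D50218) (tt N7545 (iv3 D24492)) (tt N30816 (iv4 F79534)) (tt N30849 D50219) (tt N30850 D50220) (tt N30784 (iv7 F79458)))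
theorem Q15422 : ∀ i, i < 15422 → P i := stepQ 15421 Q15421 (allL N15421 (tt N30851 D50221) (tt N30852 D50222) (tt N30780 (iv2 F79444)) (tt N30849 (iv3 F79572)) (tt N30158 F78119) (tt N7545 (iv5 D24493)) (tt N30853 D50223) (tt N30785 (iv7 F79460)))
theorem Q15423 : ∀ i, i < 15423 → P i := stepQ 15422 Q15422 (allL N15422 (tt N30854 D50224) (tt N30855 D50225) (tt N30781 (iv2 F79446)) (tt N30850 (iv3 F79573)) (tt N7546 F38451) (tt N30856 D50226) (tt N7545 (iv6 D24494)) (tt N30857 D50227))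
theorem Q15424 : ∀ i, i < 15424 → P i := stepQ 15423 Q15423 (allL N15423 (tt N30783 (iv1 F79457)) (tt N7546 (iv0 D24495)) (tt N15944 (iv2 F164315)) (tt N15856 F164332) (tt N30858 D50230) (tt N30859 D50231) (tt N15856 (iv6 F79581)) (tt N30782 (iv7 F164318)))
theorem Q15425 : ∀ i, i < 15425 → P i := stepQ 15424 Q15424 (allL N15424 (tt N7546 (iv1 D24496)) (tt N30783 F79456) (tt N30782 (iv2 F164317)) (tt N7595 (iv3 F164319)) (tt N30860 D50234) (tt N18956 F164314) (tt N30861 D50236) (tt N15944 (iv7 F164316)))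
theorem Q15426 : ∀ i, i < 15426 → P i := stepQ 15425 Q15425 (allL N15425 (tt N30862 D50237) (tt N19753 F163900) (tt N9596 F38452) (tt N19822 (iv3 F48370)) (tt N30863 D50239) (tt N7546 (iv5 D24497)) (tt N7548 F38453) (tt N30864 D50240))
theorem Q15427 : ∀ i, i < 15427 → P i := stepQ 15426 Q15426 (allL N15426 (tt N30782 (iv1 F79449)) (tt N15944 F164118) (tt N30783 (iv2 F79452)) (tt N30821 (iv3 F79543)) (tt N30857 (iv4 F79578)) (tt N30864 (iv5 F79589)) (tt N30788 (iv6 F79468)) (tt N7546 (iv7 D24498)))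
theorem Q15428 : ∀ i, i < 15428 → P i := stepQ 15427 Q15427 (allL N15427 (tt N15726 (iv1 F38905)) (tt N30865 D50241) (tt N9595 F38454) (tt N30866 D50242) (tt N7548 (iv4 D24499)) (tt N30867 D50243) (tt N30863 (iv6 F79587)) (tt N9592 F38455))
theorem Q15429 : ∀ i, i < 15429 → P i := stepQ 15428 Q15428 (allL N15428 (tt N7566 (iv1 F38460)) (tt N7943 F38459) (tt N7945 F38456) (tt N7576 F38457) (tt N18125 F45315) (tt N7550 (iv5 D24500)) (tt N30868 D50244) (tt N7938 F38458))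
theorem Q15430 : ∀ i, i < 15430 → P i := stepQ 15429 Q15429 (allL N15429 (tt N15951 F39417) (tt N15110 F38464) (tt N7553 F38461) (tt N7946 F38462) (tt N30869 D50245) (tt N7551 (iv5 D24501)) (tt N30870 D50246) (tt N7941 F38463))
theorem Q15431 : ∀ i, i < 15431 → P i := stepQ 15430 Q15430 (allL N15430 (tt N15963 F39443) (tt N7737 (iv0 F38467)) (tt N7554 F38465) (tt N7947 F38466) (tt N15751 (iv4 F39000)) (tt N15505 (iv5 F38575)) (tt N7551 (iv6 D24502)) (tt N18155 (iv7 F45381)))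
theorem Q15432 : ∀ i, i < 15432 → P i := stepQ 15431 Q15431 (allL N15431 (tt N10148 F39932) (tt N30823 (iv0 F79549)) (tt N15750 (iv2 F38996)) (tt N9000 F38468) (tt N30871 D50247) (tt N7552 (iv5 D24503)) (tt N30872 D50248) (tt N9005 F38469))
theorem Q15433 : ∀ i, i < 15433 → P i := stepQ 15432 Q15432 (allL N15432 (tt N20841 F49681) (tt N15200 (iv0 F38472)) (tt N15751 (iv2 F38998)) (tt N7685 F38470) (tt N7554 F38471) (tt N16038 (iv5 F39667)) (tt N7552 (iv6 D24504)) (tt N16064 (iv7 F39759)))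
theorem Q15434 : ∀ i, i < 15434 → P i := stepQ 15433 Q15433 (allL N15433 (tt N7941 (iv1 F38474)) (tt N7553 (iv0 D24505)) (tt N15951 (iv2 F39414)) (tt N7951 (iv3 F38475)) (tt N16091 (iv4 F39854)) (tt N15111 F38473) (tt N30873 D50249) (tt N15110 (iv7 F38476)))
theorem Q15435 : ∀ i, i < 15435 → P i := stepQ 15434 Q15434 (allL N15434 (tt N7553 (iv1 D24506)) (tt N7941 F38477) (tt N15110 (iv2 F38478)) (tt N7582 F38480) (tt N16092 (iv4 F39860)) (tt N15103 (iv5 F38479)) (tt N30874 D50250) (tt N15951 (iv7 F39415)))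
theorem Q15436 : ∀ i, i < 15436 → P i := stepQ 15435 Q15435 (allL N15435 (tt N15646 (iv1 F39838)) (tt N15643 (iv0 F38752)) (tt N30869 (iv2 F79609)) (tt N30875 D50251) (tt N7553 (iv4 D24507)) (tt N30876 D50252) (tt N30877 D50253) (tt N30774 (iv7 F79427)))
theorem Q15437 : ∀ i, i < 15437 → P i := stepQ 15436 Q15436 (allL N15436 (tt N30878 D50254) (tt N30879 D50255) (tt N30870 (iv2 F79613)) (tt N7559 F38481) (tt N30877 (iv4 F79629)) (tt N30242 (iv5 F78238)) (tt N7553 (iv6 D24508)) (tt N30880 D50256))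
theorem Q15438 : ∀ i, i < 15438 → P i := stepQ 15437 Q15437 (allL N15437 (tt N7737 (iv1 F38484)) (tt N15963 F39442) (tt N18155 F45379) (tt N7561 F38482) (tt N16064 (iv4 F39760)) (tt N9933 F38483) (tt N30731 (iv6 F79304)) (tt N7554 (iv7 D24509)))
theorem Q15439 : ∀ i, i < 15439 → P i := stepQ 15438 Q15438 (allL N15438 (tt N20022 (iv1 F48739)) (tt N10256 F38488) (tt N9018 F38485) (tt N7556 F38486) (tt N30881 D50257) (tt N7555 (iv5 D24510)) (tt N30882 D50258) (tt N9008 F38487))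
theorem Q15440 : ∀ i, i < 15440 → P i := stepQ 15439 Q15439 (allL N15439 (tt N20065 F48794) (tt N10268 (iv0 F38492)) (tt N9019 F38489) (tt N7557 F38490) (tt N7685 F38491) (tt N29517 (iv5 F76572)) (tt N7555 (iv6 D24511)) (tt N16065 (iv7 F39763)))
theorem Q15441 : ∀ i, i < 15441 → P i := stepQ 15440 Q15440 (allL N15440 (tt N9993 F38494) (tt N9996 F38493) (tt N29639 (iv2 F76871)) (tt N30883 D50259) (tt N7556 (iv4 D24512)) (tt N30158 (iv5 F78118)) (tt N30884 D50260) (tt N30776 (iv7 F79434)))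
theorem Q15442 : ∀ i, i < 15442 → P i := stepQ 15441 Q15441 (allL N15441 (tt N30885 D50261) (tt N30886 D50262) (tt N29640 (iv2 F76875)) (tt N30882 (iv3 F79640)) (tt N30884 (iv4 F79642)) (tt N30887 D50263) (tt N7556 (iv6 D24513)) (tt N30888 D50264))
theorem Q15443 : ∀ i, i < 15443 → P i := stepQ 15442 Q15442 (allL N15442 (tt N16108 F39922) (tt N7557 (iv0 D24514)) (tt N20442 (iv2 F49305)) (tt N8226 (iv3 F39234)) (tt N20421 (iv4 F49250)) (tt N8903 F39233) (tt N15412 F39235) (tt N9190 (iv7 F39236)))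
theorem Q15444 : ∀ i, i < 15444 → P i := stepQ 15443 Q15443 (allL N15443 (tt N15752 (iv1 F39003)) (tt N15744 (iv0 F38976)) (tt N16088 F39847) (tt N29517 F76577) (tt N30889 D50265) (tt N7557 (iv5 D24515)) (tt N30887 (iv6 F79643)) (tt N18042 (iv7 F45184)))
theorem Q15445 : ∀ i, i < 15445 → P i := stepQ 15444 Q15444 (allL N15444 (tt N9190 (iv1 F39261)) (tt N20442 (iv0 F49309)) (tt N16108 (iv2 F39917)) (tt N16065 (iv3 F39762)) (tt N7561 F38495) (tt N18042 F45186) (tt N30739 (iv6 F79325)) (tt N7557 (iv7 D24516)))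
theorem Q15446 : ∀ i, i < 15446 → P i := stepQ 15445 Q15445 (allL N15445 (tt N30890 D50266) (tt N30891 D50267) (tt N30892 D50268) (tt N7558 (iv3 D24517)) (tt N30875 (iv4 F79627)) (tt N30893 D50269) (tt N30894 D50270) (tt N30779 (iv7 F79443)))
theorem Q15447 : ∀ i, i < 15447 → P i := stepQ 15446 Q15446 (allL N15446 (tt N30852 (iv1 F79576)) (tt N30851 F79575) (tt N30785 (iv2 F79459)) (tt N30893 (iv3 F79648)) (tt N30157 F78115) (tt N7558 (iv5 D24518)) (tt N30895 D50271) (tt N30780 (iv7 F79445)))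
theorem Q15448 : ∀ i, i < 15448 → P i := stepQ 15447 Q15447 (allL N15447 (tt N30896 D50272) (tt N30897 D50273) (tt N30786 (iv2 F79461)) (tt N30894 (iv3 F79649)) (tt N7559 F38496) (tt N30898 D50274) (tt N7558 (iv6 D24519)) (tt N30899 D50275))
theorem Q15449 : ∀ i, i < 15449 → P i := stepQ 15448 Q15448 (allL N15448 (tt N30788 (iv1 F79470)) (tt N7559 (iv0 D24520)) (tt N30787 F79463) (tt N7608 F49341) (tt N30900 D50276) (tt N20241 F49342) (tt N20477 F49343) (tt N15850 F49344))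
theorem Q15450 : ∀ i, i < 15450 → P i := stepQ 15449 Q15449 (allL N15449 (tt N7559 (iv1 D24521)) (tt N30788 F79469) (tt N15850 (iv2 F39186)) (tt N15873 (iv3 F39228)) (tt N30901 D50277) (tt N15806 (iv5 F39078)) (tt N15831 F39143) (tt N30787 (iv7 F79464)))
theorem Q15451 : ∀ i, i < 15451 → P i := stepQ 15450 Q15450 (allL N15450 (tt N30902 D50278) (tt N30903 D50279) (tt N9932 F38497) (tt N30242 (iv3 F78237)) (tt N30904 D50280) (tt N7559 (iv5 D24522)) (tt N7560 F38498) (tt N30905 D50281))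
theorem Q15452 : ∀ i, i < 15452 → P i := stepQ 15451 Q15451 (allL N15451 (tt N15850 (iv1 F39190)) (tt N30787 F79465) (tt N30788 (iv2 F79466)) (tt N30880 (iv3 F79633)) (tt N30899 (iv4 F79650)) (tt N30905 (iv5 F79656)) (tt N30783 (iv6 F79454)) (tt N7559 (iv7 D24523)))
theorem Q15453 : ∀ i, i < 15453 → P i := stepQ 15452 Q15452 (allL N15452 (tt N15754 (iv1 F39008)) (tt N15747 (iv0 F38992)) (tt N9931 F38499) (tt N30906 D50282) (tt N7560 (iv4 D24524)) (tt N30907 D50283) (tt N30904 (iv6 F79654)) (tt N9934 F38500))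
theorem Q15454 : ∀ i, i < 15454 → P i := stepQ 15453 Q15453 (allL N15453 (tt N8913 F38503) (tt N8884 (iv0 F38504)) (tt N8909 F38501) (tt N30908 D50284) (tt N7562 (iv4 D24525)) (tt N30909 D50285) (tt N30910 D50286) (tt N8910 F38502))
theorem Q15455 : ∀ i, i < 15455 → P i := stepQ 15454 Q15454 (allL N15454 (tt N9814 F38511) (tt N9807 F38509) (tt N9812 F38505) (tt N7564 F38506) (tt N10166 F38508) (tt N7562 (iv5 D24526)) (tt N10164 F38510) (tt N9576 F38507))
theorem Q15456 : ∀ i, i < 15456 → P i := stepQ 15455 Q15455 (allL N15455 (tt N30911 D50287) (tt N30912 D50288) (tt N29475 (iv2 F76475)) (tt N7565 F38512) (tt N30910 (iv4 F79669)) (tt N16072 F39783) (tt N7562 (iv6 D24527)) (tt N30257 (iv7 F78257)))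
theorem Q15457 : ∀ i, i < 15457 → P i := stepQ 15456 Q15456 (allL N15456 (tt N7567 (iv1 F38513)) (tt N7563 (iv0 D24528)) (tt N20429 (iv2 F49278)) (tt N30913 D50289) (tt N15679 (iv4 F38809)) (tt N30851 (iv5 F79574)) (tt N30914 D50290) (tt N19665 (iv7 F48106)))
theorem Q15458 : ∀ i, i < 15458 → P i := stepQ 15457 Q15457 (allL N15457 (tt N7563 (iv1 D24529)) (tt N7567 F38514) (tt N19665 (iv2 F48104)) (tt N30915 D50291) (tt N9631 (iv4 F38515)) (tt N30852 (iv5 F79577)) (tt N15876 (iv6 F39239)) (tt N20429 (iv7 F49279)))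
theorem Q15459 : ∀ i, i < 15459 → P i := stepQ 15458 Q15458 (allL N15458 (tt N30916 D50292) (tt N30917 D50293) (tt N30918 D50294) (tt N7563 (iv3 D24530)) (tt N30908 (iv4 F79664)) (tt N30919 D50295) (tt N30920 D50296) (tt N30795 (iv7 F79487)))
theorem Q15460 : ∀ i, i < 15460 → P i := stepQ 15459 Q15459 (allL N15459 (tt N30921 D50297) (tt N30922 D50298) (tt N30791 (iv2 F79475)) (tt N30919 (iv3 F79671)) (tt N30150 (iv4 F78109)) (tt N7563 (iv5 D24531)) (tt N30923 D50299) (tt N30796 (iv7 F79489)))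
theorem Q15461 : ∀ i, i < 15461 → P i := stepQ 15460 Q15460 (allL N15460 (tt N30924 D50300) (tt N30925 D50301) (tt N30792 (iv2 F79477)) (tt N30920 (iv3 F79672)) (tt N7565 F38516) (tt N30926 D50302) (tt N7563 (iv6 D24532)) (tt N30927 D50303))
theorem Q15462 : ∀ i, i < 15462 → P i := stepQ 15461 Q15461 (allL N15461 (tt N7568 (iv1 F38521)) (tt N7564 (iv0 D24533)) (tt N7867 (iv2 F38520)) (tt N9982 (iv3 F38523)) (tt N7775 F38517) (tt N15388 F38519) (tt N9930 F38518) (tt N7771 F38522))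
theorem Q15463 : ∀ i, i < 15463 → P i := stepQ 15462 Q15462 (allL N15462 (tt N30928 D50304) (tt N15753 (iv0 F39215)) (tt N20353 (iv2 F49177)) (tt N15658 (iv3 F38766)) (tt N7564 (iv4 D24534)) (tt N18635 (iv5 F46299)) (tt N15657 F38764) (tt N9579 F38524))
theorem Q15464 : ∀ i, i < 15464 → P i := stepQ 15463 Q15463 (allL N15463 (tt N30794 (iv1 F79485)) (tt N7565 (iv0 D24535)) (tt N15989 F163906) (tt N15880 F168273) (tt N30929 D50307) (tt N30930 D50308) (tt N15890 (iv6 F79595)) (tt N30793 (iv7 F101639)))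
theorem Q15465 : ∀ i, i < 15465 → P i := stepQ 15464 Q15464 (allL N15464 (tt N7565 (iv1 D24536)) (tt N30794 F79484) (tt N30793 (iv2 F101638)) (tt N7618 (iv3 F163935)) (tt N30931 D50311) (tt N20777 (iv5 F163934)) (tt N30932 D50313) (tt N15989 F163912))
theorem Q15466 : ∀ i, i < 15466 → P i := stepQ 15465 Q15465 (allL N15465 (tt N9980 F38527) (tt N10006 F38528) (tt N10004 F38525) (tt N16072 (iv3 F39784)) (tt N30933 D50314) (tt N7565 (iv5 D24537)) (tt N9888 F38526) (tt N10003 (iv7 F49269)))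
theorem Q15467 : ∀ i, i < 15467 → P i := stepQ 15466 Q15466 (allL N15466 (tt N30793 (iv1 F79479)) (tt N15989 F163907) (tt N30794 (iv2 F79480)) (tt N30257 (iv3 F78256)) (tt N30927 (iv4 F79683)) (tt N10003 F49270) (tt N30799 (iv6 F79495)) (tt N7565 (iv7 D24538)))
theorem Q15468 : ∀ i, i < 15468 → P i := stepQ 15467 Q15467 (allL N15467 (tt N7938 (iv1 F38532)) (tt N7945 F38533) (tt N7566 (iv2 D24539)) (tt N7948 F38529) (tt N30427 (iv4 F78533)) (tt N9749 F38530) (tt N30934 D50315) (tt N7943 F38531))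
theorem Q15469 : ∀ i, i < 15469 → P i := stepQ 15468 Q15468 (allL N15468 (tt N15191 F38536) (tt N15636 (iv0 F38736)) (tt N30427 F78534) (tt N30935 D50316) (tt N7566 (iv4 D24540)) (tt N30936 D50317) (tt N30937 D50318) (tt N30426 F78530))
theorem Q15470 : ∀ i, i < 15470 → P i := stepQ 15469 Q15469 (allL N15469 (tt N30938 D50319) (tt N30939 D50320) (tt N30934 (iv2 F79698)) (tt N7569 F38537) (tt N30937 (iv4 F79703)) (tt N30940 D50321) (tt N7566 (iv6 D24541)) (tt N30941 D50322))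
theorem Q15471 : ∀ i, i < 15471 → P i := stepQ 15470 Q15470 (allL N15470 (tt N30942 D50323) (tt N30943 D50324) (tt N30944 D50325) (tt N7567 (iv3 D24542)) (tt N30935 (iv4 F79701)) (tt N30945 D50326) (tt N30946 D50327) (tt N30790 (iv7 F79474)))
theorem Q15472 : ∀ i, i < 15472 → P i := stepQ 15471 Q15471 (allL N15471 (tt N30922 (iv1 F79678)) (tt N30921 F79675) (tt N30796 (iv2 F79488)) (tt N30945 (iv3 F79708)) (tt N30147 (iv4 F78106)) (tt N7567 (iv5 D24543)) (tt N30947 D50328) (tt N30791 (iv7 F79476)))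
theorem Q15473 : ∀ i, i < 15473 → P i := stepQ 15472 Q15472 (allL N15472 (tt N30948 D50329) (tt N30949 D50330) (tt N30797 (iv2 F79490)) (tt N30946 (iv3 F79709)) (tt N7569 F38538) (tt N30950 D50331) (tt N7567 (iv6 D24544)) (tt N30951 D50332))
theorem Q15474 : ∀ i, i < 15474 → P i := stepQ 15473 Q15473 (allL N15473 (tt N15753 (iv1 F39007)) (tt N30928 F79689) (tt N9579 F38539) (tt N15273 F38540) (tt N7568 (iv4 D24545)) (tt N18636 (iv5 F46305)) (tt N9569 F38541) (tt N20353 (iv7 F49180)))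
theorem Q15475 : ∀ i, i < 15475 → P i := stepQ 15474 Q15474 (allL N15474 (tt N30799 (iv1 F79501)) (tt N7569 (iv0 D24546)) (tt N30798 (iv2 F101137)) (tt N7626 (iv3 F168284)) (tt N30952 D50335) (tt N19714 (iv5 F81134)) (tt N30953 D50337) (tt N16010 F168272))
theorem Q15476 : ∀ i, i < 15476 → P i := stepQ 15475 Q15475 (allL N15475 (tt N7569 (iv1 D24547)) (tt N30799 F79497) (tt N16010 F168270) (tt N15890 (iv3 F168280)) (tt N30954 D50340) (tt N19715 F79498) (tt N15880 (iv6 F79499)) (tt N30798 (iv7 F101138)))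
theorem Q15477 : ∀ i, i < 15477 → P i := stepQ 15476 Q15476 (allL N15476 (tt N19366 F164323) (tt N30955 D50342) (tt N9582 F38542) (tt N30940 (iv3 F79705)) (tt N30956 D50343) (tt N7569 (iv5 D24548)) (tt N9570 F38543) (tt N30957 D50344))
theorem Q15478 : ∀ i, i < 15478 → P i := stepQ 15477 Q15477 (allL N15477 (tt N16010 F168275) (tt N30798 F79496) (tt N30799 (iv2 F79493)) (tt N30941 (iv3 F79707)) (tt N30951 (iv4 F79710)) (tt N30957 (iv5 F79721)) (tt N30794 (iv6 F79482)) (tt N7569 (iv7 D24549)))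
theorem Q15479 : ∀ i, i < 15479 → P i := stepQ 15478 Q15478 (allL N15478 (tt N30958 D50345) (tt N30959 D50346) (tt N30960 D50347) (tt N7570 (iv3 D24550)) (tt N30961 D50348) (tt N30962 D50349) (tt N30963 D50350) (tt N30803 (iv7 F79509)))
theorem Q15480 : ∀ i, i < 15480 → P i := stepQ 15479 Q15479 (allL N15479 (tt N9984 (iv1 F38811)) (tt N9630 F38545) (tt N8945 F38544) (tt N29849 (iv3 F77442)) (tt N7570 (iv4 D24551)) (tt N18298 (iv5 F45754)) (tt N30964 D50351) (tt N19666 (iv7 F48110)))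
theorem Q15481 : ∀ i, i < 15481 → P i := stepQ 15480 Q15480 (allL N15480 (tt N30965 D50352) (tt N30966 D50353) (tt N30801 (iv2 F79504)) (tt N30962 (iv3 F79727)) (tt N10066 F38546) (tt N7570 (iv5 D24552)) (tt N30967 D50354) (tt N30804 (iv7 F79512)))
theorem Q15482 : ∀ i, i < 15482 → P i := stepQ 15481 Q15481 (allL N15481 (tt N30929 (iv1 F164016)) (tt N30931 (iv0 F100841)) (tt N30802 (iv2 F79507)) (tt N30963 (iv3 F79728)) (tt N30964 (iv4 F79730)) (tt N30968 D50357) (tt N7570 (iv6 D24553)) (tt N30969 D50358))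
theorem Q15483 : ∀ i, i < 15483 → P i := stepQ 15482 Q15482 (allL N15482 (tt N30970 D50359) (tt N30971 D50360) (tt N30972 D50361) (tt N7571 (iv3 D24554)) (tt N29503 (iv4 F76543)) (tt N30973 D50362) (tt N30974 D50363) (tt N30800 (iv7 F79503)))
theorem Q15484 : ∀ i, i < 15484 → P i := stepQ 15483 Q15483 (allL N15483 (tt N30966 (iv1 F79736)) (tt N30965 F79733) (tt N30804 (iv2 F79510)) (tt N30973 (iv3 F79741)) (tt N30141 (iv4 F78093)) (tt N7571 (iv5 D24555)) (tt N30975 D50364) (tt N30801 (iv7 F79505)))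
theorem Q15485 : ∀ i, i < 15485 → P i := stepQ 15484 Q15484 (allL N15484 (tt N30952 (iv1 F168285)) (tt N30954 (iv0 F168281)) (tt N30805 (iv2 F79513)) (tt N30974 (iv3 F79742)) (tt N29853 (iv4 F77456)) (tt N30976 D50367) (tt N7571 (iv6 D24556)) (tt N30977 D50368))
theorem Q15486 : ∀ i, i < 15486 → P i := stepQ 15485 Q15485 (allL N15485 (tt N30978 D50369) (tt N7572 (iv0 D24557)) (tt N30979 D50370) (tt N30980 D50371) (tt N25330 F321446) (tt N30981 D50373) (tt N30982 D50374) (tt N25327 (iv7 F323082)))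
theorem Q15487 : ∀ i, i < 15487 → P i := stepQ 15486 Q15486 (allL N15486 (tt N7572 (iv1 D24558)) (tt N30978 F79746) (tt N25327 F324489) (tt N30983 D50376) (tt N24368 F324490) (tt N30984 D50378) (tt N24367 (iv6 F325592)) (tt N30979 F79747))
theorem Q15488 : ∀ i, i < 15488 → P i := stepQ 15487 Q15487 (allL N15487 (tt N30979 F169973) (tt N25327 F324492) (tt N7572 (iv2 D24559)) (tt N30808 (iv3 F79514)) (tt N7633 F38547) (tt N30985 D50382) (tt N15903 (iv6 F39264)) (tt N30978 (iv7 F79745)))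
theorem Q15489 : ∀ i, i < 15489 → P i := stepQ 15488 Q15488 (allL N15488 (tt N30986 D50383) (tt N30987 D50384) (tt N30985 (iv2 F79753)) (tt N7573 F38548) (tt N30988 D50385) (tt N7572 (iv5 D24560)) (tt N30989 D50386) (tt N30990 D50387))
theorem Q15490 : ∀ i, i < 15490 → P i := stepQ 15489 Q15489 (allL N15489 (tt N25327 F324491) (tt N30979 F169972) (tt N30978 F79743) (tt N7574 F38549) (tt N7635 F38550) (tt N30990 (iv5 F79756)) (tt N30991 D50388) (tt N7572 (iv7 D24561)))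
theorem Q15491 : ∀ i, i < 15491 → P i := stepQ 15490 Q15490 (allL N15490 (tt N30159 (iv1 F78123)) (tt N7573 (iv0 D24562)) (tt N30811 F79519) (tt N30992 D50389) (tt N10001 F78064) (tt N30133 F78065) (tt N30993 D50390) (tt N30812 (iv7 F79523)))
theorem Q15492 : ∀ i, i < 15492 → P i := stepQ 15491 Q15491 (allL N15491 (tt N7573 (iv1 D24563)) (tt N30159 (iv0 F78122)) (tt N30812 F79525) (tt N30994 D50391) (tt N30137 (iv4 F78078)) (tt N9987 F38551) (tt N30995 D50392) (tt N30811 F79520))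
theorem Q15493 : ∀ i, i < 15493 → P i := stepQ 15492 Q15492 (allL N15492 (tt N30158 (iv1 F78117)) (tt N30157 F78116) (tt N30161 (iv2 F78125)) (tt N30996 D50393) (tt N7573 (iv4 D24564)) (tt N9975 F38552) (tt N30997 D50394) (tt N19651 (iv7 F48060)))
theorem Q15494 : ∀ i, i < 15494 → P i := stepQ 15493 Q15493 (allL N15493 (tt N30998 D50395) (tt N30999 D50396) (tt N30813 (iv2 F79527)) (tt N30989 (iv3 F79754)) (tt N30997 (iv4 F79762)) (tt N15908 (iv5 F39268)) (tt N7573 (iv6 D24565)) (tt N31000 D50397))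
theorem Q15495 : ∀ i, i < 15495 → P i := stepQ 15494 Q15494 (allL N15494 (tt N30812 (iv1 F79522)) (tt N30811 F79518) (tt N30159 (iv2 F78120)) (tt N30990 (iv3 F79755)) (tt N19651 (iv4 F48061)) (tt N7574 F38553) (tt N31001 D50398) (tt N7573 (iv7 D24566)))
theorem Q15496 : ∀ i, i < 15496 → P i := stepQ 15495 Q15495 (allL N15495 (tt N31002 D50399) (tt N31003 D50400) (tt N30814 (iv2 F79528)) (tt N30991 (iv3 F79757)) (tt N7575 F38554) (tt N31004 D50401) (tt N7574 (iv6 D24567)) (tt N15910 (iv7 F39271)))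
theorem Q15497 : ∀ i, i < 15497 → P i := stepQ 15496 Q15496 (allL N15496 (tt N15846 (iv1 F39180)) (tt N7575 (iv0 D24568)) (tt N15912 F102454) (tt N29514 (iv3 F161236)) (tt N31005 D50404) (tt N31006 D50405) (tt N31007 D50406) (tt N15911 (iv7 F102457)))
theorem Q15498 : ∀ i, i < 15498 → P i := stepQ 15497 Q15497 (allL N15497 (tt N7575 (iv1 D24569)) (tt N15846 F39179) (tt N15911 (iv2 F102456)) (tt N31008 D50408) (tt N31009 D50409) (tt N31010 D50410) (tt N31011 D50411) (tt N15912 F102455))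
theorem Q15499 : ∀ i, i < 15499 → P i := stepQ 15498 Q15498 (allL N15498 (tt N18082 (iv1 F45268)) (tt N19917 F48580) (tt N15946 (iv2 F39393)) (tt N31012 D50412) (tt N7576 (iv4 D24570)) (tt N29674 (iv5 F76911)) (tt N31013 D50413) (tt N9745 F38555))
theorem Q15500 : ∀ i, i < 15500 → P i := stepQ 15499 Q15499 (allL N15499 (tt N31014 D50414) (tt N16027 (iv0 F161250)) (tt N15947 (iv2 F39395)) (tt N30868 (iv3 F79607)) (tt N31013 (iv4 F79771)) (tt N15499 F38556) (tt N7576 (iv6 D24571)) (tt N15915 (iv7 F39287)))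
theorem Q15501 : ∀ i, i < 15501 → P i := stepQ 15500 Q15500 (allL N15500 (tt N15957 (iv1 F39430)) (tt N15956 F39429) (tt N7584 F38557) (tt N31015 D50416) (tt N7577 (iv4 D24572)) (tt N31016 D50417) (tt N31017 D50418) (tt N15948 (iv7 F39400)))
theorem Q15502 : ∀ i, i < 15502 → P i := stepQ 15501 Q15501 (allL N15501 (tt N31018 D50419) (tt N31019 D50420) (tt N7585 F38558) (tt N15917 (iv3 F39293)) (tt N31017 (iv4 F79777)) (tt N16579 (iv5 F40730)) (tt N7577 (iv6 D24573)) (tt N31020 D50421))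
theorem Q15503 : ∀ i, i < 15503 → P i := stepQ 15502 Q15502 (allL N15502 (tt N7578 (iv1 D24574)) (tt N7588 F38559) (tt N7587 F38563) (tt N30214 (iv3 F78200)) (tt N10194 F38561) (tt N9510 F38564) (tt N7815 (iv6 F38562)) (tt N7586 F38560))
theorem Q15504 : ∀ i, i < 15504 → P i := stepQ 15503 Q15503 (allL N15503 (tt N7587 (iv1 F38568)) (tt N7586 F38569) (tt N7588 F38565) (tt N9694 F38566) (tt N16599 (iv4 F40780)) (tt N8110 F38567) (tt N15950 (iv6 F39409)) (tt N7578 (iv7 D24575)))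
theorem Q15505 : ∀ i, i < 15505 → P i := stepQ 15504 Q15504 (allL N15504 (tt N15127 F38573) (tt N14946 (iv0 F38574)) (tt N15101 F38570) (tt N10138 F38571) (tt N31021 D50422) (tt N7579 (iv5 D24576)) (tt N31022 D50423) (tt N9747 F38572))
theorem Q15506 : ∀ i, i < 15506 → P i := stepQ 15505 Q15505 (allL N15505 (tt N15102 (iv1 F38576)) (tt N7580 (iv0 D24577)) (tt N15105 (iv2 F38577)) (tt N16203 (iv3 F40138)) (tt N31023 D50424) (tt N15430 F38575) (tt N31024 D50425) (tt N15104 F38578))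
theorem Q15507 : ∀ i, i < 15507 → P i := stepQ 15506 Q15506 (allL N15506 (tt N29628 (iv1 F76855)) (tt N10176 F38582) (tt N16596 (iv2 F40770)) (tt N31025 D50426) (tt N7580 (iv4 D24578)) (tt N29672 (iv5 F76908)) (tt N31026 D50427) (tt N15106 F38581))
theorem Q15508 : ∀ i, i < 15508 → P i := stepQ 15507 Q15507 (allL N15507 (tt N31027 D50428) (tt N20343 F111291) (tt N16597 (iv2 F40772)) (tt N8936 F38583) (tt N31026 (iv4 F79801)) (tt N31028 D50430) (tt N7580 (iv6 D24579)) (tt N31029 D50431))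
theorem Q15509 : ∀ i, i < 15509 → P i := stepQ 15508 Q15508 (allL N15508 (tt N16599 (iv1 F40783)) (tt N7581 (iv0 D24580)) (tt N9584 (iv2 F38585)) (tt N10161 F38584) (tt N19672 (iv4 F48129)) (tt N18897 (iv5 F46612)) (tt N8105 (iv6 F38586)) (tt N16598 (iv7 F40775)))
theorem Q15510 : ∀ i, i < 15510 → P i := stepQ 15509 Q15509 (allL N15509 (tt N7936 F38591) (tt N15366 F38590) (tt N15364 F38588) (tt N7927 F38589) (tt N30437 (iv4 F78550)) (tt N7581 (iv5 D24581)) (tt N31028 (iv6 F79805)) (tt N15363 (iv7 F38593)))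
theorem Q15511 : ∀ i, i < 15511 → P i := stepQ 15510 Q15510 (allL N15510 (tt N16598 (iv1 F40774)) (tt N9584 (iv0 F38984)) (tt N16599 (iv2 F40778)) (tt N8938 F38595) (tt N7588 F38596) (tt N15363 F38597) (tt N15111 F38598) (tt N7581 (iv7 D24582)))
theorem Q15512 : ∀ i, i < 15512 → P i := stepQ 15511 Q15511 (allL N15511 (tt N18063 (iv1 F45236)) (tt N29625 (iv0 F76844)) (tt N15954 (iv2 F39425)) (tt N31030 D50432) (tt N7582 (iv4 D24583)) (tt N31031 D50433) (tt N31032 D50434) (tt N15952 (iv7 F39420)))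
theorem Q15513 : ∀ i, i < 15513 → P i := stepQ 15512 Q15512 (allL N15512 (tt N31033 D50435) (tt N20514 F161279) (tt N15955 (iv2 F39427)) (tt N30874 (iv3 F79625)) (tt N31032 (iv4 F79810)) (tt N16587 (iv5 F40749)) (tt N7582 (iv6 D24584)) (tt N31034 D50437))
theorem Q15514 : ∀ i, i < 15514 → P i := stepQ 15513 Q15513 (allL N15513 (tt N29625 (iv1 F76843)) (tt N18063 (iv0 F45237)) (tt N15952 (iv2 F39419)) (tt N31035 D50438) (tt N7583 (iv4 D24585)) (tt N31036 D50439) (tt N31037 D50440) (tt N15954 (iv7 F39426)))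
theorem Q15515 : ∀ i, i < 15515 → P i := stepQ 15514 Q15514 (allL N15514 (tt N7603 F38600) (tt N31038 D50441) (tt N15953 (iv2 F39421)) (tt N29482 (iv3 F76498)) (tt N31037 (iv4 F79811)) (tt N19858 (iv5 F48452)) (tt N7583 (iv6 D24586)) (tt N31039 D50442))
theorem Q15516 : ∀ i, i < 15516 → P i := stepQ 15515 Q15515 (allL N15515 (tt N15948 (iv1 F39402)) (tt N7584 (iv0 D24587)) (tt N15957 (iv2 F39673)) (tt N31040 D50443) (tt N20433 F49292) (tt N31041 D50444) (tt N31042 D50445) (tt N15956 F39674))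
theorem Q15517 : ∀ i, i < 15517 → P i := stepQ 15516 Q15516 (allL N15516 (tt N7584 (iv1 D24588)) (tt N15948 F39401) (tt N15956 F39672) (tt N31043 D50446) (tt N15686 (iv4 F38825)) (tt N31044 D50447) (tt N31045 D50448) (tt N15957 (iv7 F39670)))
theorem Q15518 : ∀ i, i < 15518 → P i := stepQ 15517 Q15517 (allL N15517 (tt N31046 D50449) (tt N31047 D50450) (tt N31048 D50451) (tt N7584 (iv3 D24589)) (tt N7592 F38601) (tt N31049 D50452) (tt N31050 D50453) (tt N15958 (iv7 F39432)))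
theorem Q15519 : ∀ i, i < 15519 → P i := stepQ 15518 Q15518 (allL N15518 (tt N31051 D50454) (tt N31052 D50455) (tt N31016 (iv2 F79774)) (tt N31049 (iv3 F79825)) (tt N29673 F76910) (tt N7584 (iv5 D24590)) (tt N31053 D50456) (tt N15959 (iv7 F39433)))
theorem Q15520 : ∀ i, i < 15520 → P i := stepQ 15519 Q15519 (allL N15519 (tt N31054 D50457) (tt N31055 D50458) (tt N31017 (iv2 F79776)) (tt N31050 (iv3 F79826)) (tt N7585 F38602) (tt N31056 D50459) (tt N7584 (iv6 D24591)) (tt N31057 D50460))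
theorem Q15521 : ∀ i, i < 15521 → P i := stepQ 15520 Q15520 (allL N15520 (tt N31020 (iv1 F79785)) (tt N7585 (iv0 D24592)) (tt N31018 (iv2 F99969)) (tt N31058 D50462) (tt N31059 D50463) (tt N19797 F48333) (tt N15928 (iv6 F48334)) (tt N31019 (iv7 F99979)))
theorem Q15522 : ∀ i, i < 15522 → P i := stepQ 15521 Q15521 (allL N15521 (tt N7585 (iv1 D24593)) (tt N31020 F79784) (tt N31019 (iv2 F99978)) (tt N29486 F165583) (tt N31060 D50466) (tt N19796 (iv5 F48331)) (tt N31061 D50467) (tt N31018 (iv7 F99970)))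
theorem Q15523 : ∀ i, i < 15523 → P i := stepQ 15522 Q15522 (allL N15522 (tt N31019 (iv1 F79779)) (tt N31018 F79783) (tt N31020 (iv2 F79782)) (tt N7596 F38603) (tt N31057 (iv4 F79830)) (tt N19751 (iv5 F48233)) (tt N15962 (iv6 F39436)) (tt N7585 (iv7 D24594)))
theorem Q15524 : ∀ i, i < 15524 → P i := stepQ 15523 Q15523 (allL N15523 (tt N31062 D50468) (tt N31063 D50469) (tt N31064 D50470) (tt N7589 (iv3 D24595)) (tt N30837 (iv4 F79561)) (tt N15939 (iv5 F39348)) (tt N31065 D50471) (tt N15935 (iv7 F39337)))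
theorem Q15525 : ∀ i, i < 15525 → P i := stepQ 15524 Q15524 (allL N15524 (tt N7682 F38605) (tt N8639 (iv0 F324811)) (tt N15940 (iv2 F39350)) (tt N31065 (iv3 F79833)) (tt N7590 F38604) (tt N24133 F324114) (tt N7589 (iv6 D24596)) (tt N15970 (iv7 F39459)))
theorem Q15526 : ∀ i, i < 15526 → P i := stepQ 15525 Q15525 (allL N15525 (tt N25912 (iv1 F324415)) (tt N25276 F323898) (tt N31066 D50475) (tt N7591 (iv3 D24597)) (tt N31067 D50476) (tt N15668 (iv5 F38790)) (tt N17881 (iv6 F325170)) (tt N15661 (iv7 F38775)))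
theorem Q15527 : ∀ i, i < 15527 → P i := stepQ 15526 Q15526 (allL N15526 (tt N7607 F38607) (tt N15969 F39455) (tt N15669 (iv2 F38792)) (tt N17881 (iv3 F325169)) (tt N7859 F38606) (tt N31068 D50478) (tt N7591 (iv6 D24598)) (tt N15707 (iv7 F38853)))
theorem Q15528 : ∀ i, i < 15528 → P i := stepQ 15527 Q15527 (allL N15527 (tt N15966 (iv1 F39447)) (tt N7592 (iv0 D24599)) (tt N15965 F173316) (tt N24979 F323895) (tt N31069 D50481) (tt N15941 F171327) (tt N24585 (iv6 F325159)) (tt N15964 (iv7 F173322)))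
theorem Q15529 : ∀ i, i < 15529 → P i := stepQ 15528 Q15528 (allL N15528 (tt N7592 (iv1 D24600)) (tt N15966 F39449) (tt N15964 (iv2 F173321)) (tt N25317 F324584) (tt N31070 D50486) (tt N15942 F171331) (tt N24522 F326518) (tt N15965 F173320))
theorem Q15530 : ∀ i, i < 15530 → P i := stepQ 15529 Q15529 (allL N15529 (tt N15965 (iv1 F39448)) (tt N15964 F39444) (tt N7592 (iv2 D24601)) (tt N15943 (iv3 F39356)) (tt N31048 (iv4 F79824)) (tt N15598 (iv5 F38676)) (tt N23046 (iv6 F325714)) (tt N15966 (iv7 F39446)))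
theorem Q15531 : ∀ i, i < 15531 → P i := stepQ 15530 Q15530 (allL N15530 (tt N13350 (iv1 F326965)) (tt N24891 (iv0 F326966)) (tt N23046 F326092) (tt N7593 F38608) (tt N31050 (iv4 F79827)) (tt N11566 F326093) (tt N7592 (iv6 D24602)) (tt N23438 F326094))
theorem Q15532 : ∀ i, i < 15532 → P i := stepQ 15531 Q15531 (allL N15531 (tt N11262 (iv1 F325067)) (tt N7593 (iv0 D24603)) (tt N15673 (iv2 F79864)) (tt N11229 (iv3 F325942)) (tt N7862 (iv4 F79865)) (tt N11228 F324956) (tt N15673 F79863) (tt N15675 (iv7 F79866)))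
theorem Q15533 : ∀ i, i < 15533 → P i := stepQ 15532 Q15532 (allL N15532 (tt N7593 (iv1 D24604)) (tt N11262 (iv0 F325066)) (tt N15675 F79867) (tt N25576 (iv3 F325943)) (tt N7863 (iv4 F79869)) (tt N17464 F324957) (tt N31071 D50502) (tt N15673 F79868))
theorem Q15534 : ∀ i, i < 15534 → P i := stepQ 15533 Q15533 (allL N15533 (tt N15675 (iv1 F79860)) (tt N15673 (iv0 F79861)) (tt N11262 (iv2 F325068)) (tt N23438 (iv3 F325357)) (tt N7596 F38609) (tt N11260 (iv5 F324950)) (tt N15969 (iv6 F39454)) (tt N7593 (iv7 D24606)))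
theorem Q15535 : ∀ i, i < 15535 → P i := stepQ 15534 Q15534 (allL N15534 (tt N15859 (iv1 F164128)) (tt N15833 (iv0 F164127)) (tt N15856 F164325) (tt N7594 (iv3 D24608)) (tt N31072 D50510) (tt N18958 (iv5 F46693)) (tt N15944 (iv6 F39372)) (tt N15857 F164326))
theorem Q15536 : ∀ i, i < 15536 → P i := stepQ 15535 Q15535 (allL N15535 (tt N15629 F38713) (tt N15629 (iv0 F39377)) (tt N15945 (iv2 F39378)) (tt N30861 (iv3 F164321)) (tt N11664 F324766) (tt N15945 (iv5 F39375)) (tt N7595 (iv6 D24613)) (tt N15945 (iv7 F39376)))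
theorem Q15537 : ∀ i, i < 15537 → P i := stepQ 15536 Q15536 (allL N15536 (tt N7778 F38614) (tt N14696 F38615) (tt N15913 (iv2 F39274)) (tt N7788 F38612) (tt N18197 (iv4 F45495)) (tt N7597 (iv5 D24614)) (tt N31073 D50523) (tt N11056 F38613))
theorem Q15538 : ∀ i, i < 15538 → P i := stepQ 15537 Q15537 (allL N15537 (tt N22585 (iv1 F53375)) (tt N22584 F53373) (tt N15914 (iv2 F39283)) (tt N31074 D50524) (tt N7598 (iv4 D24615)) (tt N31075 D50525) (tt N31076 D50526) (tt N11058 F38616))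
theorem Q15539 : ∀ i, i < 15539 → P i := stepQ 15538 Q15538 (allL N15538 (tt N16027 F161251) (tt N31014 F79772) (tt N15915 (iv2 F39285)) (tt N29479 (iv3 F76487)) (tt N31076 (iv4 F79900)) (tt N15538 F38617) (tt N7598 (iv6 D24616)) (tt N15947 (iv7 F39398)))
theorem Q15540 : ∀ i, i < 15540 → P i := stepQ 15539 Q15539 (allL N15539 (tt N15924 (iv1 F39311)) (tt N15923 F39310) (tt N7602 F38618) (tt N31077 D50527) (tt N7599 (iv4 D24617)) (tt N31078 D50528) (tt N31079 D50529) (tt N15916 (iv7 F39289)))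
theorem Q15541 : ∀ i, i < 15541 → P i := stepQ 15540 Q15540 (allL N15540 (tt N31039 (iv1 F79821)) (tt N15953 (iv0 F39423)) (tt N7603 F38619) (tt N15949 (iv3 F39404)) (tt N31079 (iv4 F79904)) (tt N9791 F38620) (tt N7599 (iv6 D24618)) (tt N31038 (iv7 F79812)))
theorem Q15542 : ∀ i, i < 15542 → P i := stepQ 15541 Q15541 (allL N15541 (tt N15829 (iv1 F39134)) (tt N7956 (iv0 F38623)) (tt N15863 F39207) (tt N7601 (iv3 D24619)) (tt N16044 (iv4 F39687)) (tt N9819 F38621) (tt N30879 F79630) (tt N9818 F38622))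
theorem Q15543 : ∀ i, i < 15543 → P i := stepQ 15542 Q15542 (allL N15542 (tt N20084 (iv1 F48806)) (tt N20083 F48804) (tt N15921 (iv2 F39306)) (tt N27489 (iv3 F314851)) (tt N7601 (iv4 D24620)) (tt N27487 F314295) (tt N29125 (iv6 F316663)) (tt N15918 (iv7 F39296)))
theorem Q15544 : ∀ i, i < 15544 → P i := stepQ 15543 Q15543 (allL N15543 (tt N15949 F39405) (tt N15962 F39437) (tt N15922 (iv2 F39308)) (tt N30879 (iv3 F79632)) (tt N29125 F319039) (tt N11077 F38624) (tt N7601 (iv6 D24621)) (tt N15961 (iv7 F81360)))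
theorem Q15545 : ∀ i, i < 15545 → P i := stepQ 15544 Q15544 (allL N15544 (tt N15916 (iv1 F39291)) (tt N7602 (iv0 D24622)) (tt N15924 (iv2 F39834)) (tt N31080 D50534) (tt N16283 (iv4 F40261)) (tt N31081 D50535) (tt N31082 D50536) (tt N15923 F39835))
theorem Q15546 : ∀ i, i < 15546 → P i := stepQ 15545 Q15545 (allL N15545 (tt N7602 (iv1 D24623)) (tt N15916 (iv0 F39290)) (tt N15923 F39833) (tt N31083 D50537) (tt N15642 (iv4 F38751)) (tt N31084 D50538) (tt N31085 D50539) (tt N15924 (iv7 F39831)))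
theorem Q15547 : ∀ i, i < 15547 → P i := stepQ 15546 Q15546 (allL N15546 (tt N31086 D50540) (tt N31087 D50541) (tt N31088 D50542) (tt N7602 (iv3 D24624)) (tt N7606 F38625) (tt N31089 D50543) (tt N24688 (iv6 F325202)) (tt N15925 (iv7 F39313)))
theorem Q15548 : ∀ i, i < 15548 → P i := stepQ 15547 Q15547 (allL N15547 (tt N31090 D50545) (tt N31091 D50546) (tt N31078 (iv2 F79901)) (tt N31089 (iv3 F79913)) (tt N31092 D50547) (tt N7602 (iv5 D24625)) (tt N31093 D50548) (tt N15926 (iv7 F39314)))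
theorem Q15549 : ∀ i, i < 15549 → P i := stepQ 15548 Q15548 (allL N15548 (tt N31094 D50549) (tt N31045 (iv0 F79988)) (tt N31079 (iv2 F79903)) (tt N24688 (iv3 F325201)) (tt N7603 F38626) (tt N31095 D50551) (tt N7602 (iv6 D24626)) (tt N24686 (iv7 F325065)))
theorem Q15550 : ∀ i, i < 15550 → P i := stepQ 15549 Q15549 (allL N15549 (tt N31038 (iv1 F79815)) (tt N7603 (iv0 D24627)) (tt N31039 (iv2 F79819)) (tt N31096 D50553) (tt N31097 D50554) (tt N19955 (iv5 F79817)) (tt N31034 (iv6 F79818)) (tt N15953 F79816))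
theorem Q15551 : ∀ i, i < 15551 → P i := stepQ 15550 Q15550 (allL N15550 (tt N31098 D50555) (tt N31099 D50556) (tt N9791 F38627) (tt N7609 F38628) (tt N31100 D50557) (tt N7603 (iv5 D24628)) (tt N7604 F38629) (tt N31101 D50558))
theorem Q15552 : ∀ i, i < 15552 → P i := stepQ 15551 Q15551 (allL N15551 (tt N15953 (iv1 F39424)) (tt N31039 F79820) (tt N31038 F79813) (tt N7610 F38630) (tt N24686 (iv4 F325064)) (tt N31101 (iv5 F79928)) (tt N15930 (iv6 F39317)) (tt N7603 (iv7 D24629)))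
theorem Q15553 : ∀ i, i < 15553 → P i := stepQ 15552 Q15552 (allL N15552 (tt N30881 (iv1 F79638)) (tt N29623 (iv0 F76835)) (tt N9790 F38631) (tt N31102 D50559) (tt N7604 (iv4 D24630)) (tt N20148 F48875) (tt N31100 (iv6 F79925)) (tt N9792 F38632))
theorem Q15554 : ∀ i, i < 15554 → P i := stepQ 15553 Q15553 (allL N15553 (tt N15943 (iv1 F39358)) (tt N7606 (iv0 D24631)) (tt N15942 F173329) (tt N18001 F323106) (tt N31103 D50562) (tt N15964 (iv5 F105474)) (tt N24878 (iv6 F324539)) (tt N15941 F173330))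
theorem Q15555 : ∀ i, i < 15555 → P i := stepQ 15554 Q15554 (allL N15554 (tt N7606 (iv1 D24632)) (tt N15943 F39360) (tt N15941 (iv2 F173323)) (tt N31104 D50566) (tt N31105 D50567) (tt N15965 (iv5 F105470)) (tt N24513 (iv6 F325301)) (tt N15942 (iv7 F173324)))
theorem Q15556 : ∀ i, i < 15556 → P i := stepQ 15555 Q15555 (allL N15555 (tt N15942 (iv1 F39359)) (tt N15941 F39355) (tt N7606 (iv2 D24633)) (tt N15966 (iv3 F39445)) (tt N31088 (iv4 F79912)) (tt N15576 (iv5 F38659)) (tt N24524 (iv6 F325261)) (tt N15943 (iv7 F39357)))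
theorem Q15557 : ∀ i, i < 15557 → P i := stepQ 15556 Q15556 (allL N15556 (tt N15969 (iv1 F39456)) (tt N7607 (iv0 D24635)) (tt N15707 (iv2 F38855)) (tt N24957 (iv3 F325178)) (tt N7893 F38856) (tt N31106 D50576) (tt N21073 (iv6 F50085)) (tt N15669 F38857))
theorem Q15558 : ∀ i, i < 15558 → P i := stepQ 15557 Q15557 (allL N15557 (tt N8639 (iv1 F324812)) (tt N7682 F39461) (tt N15970 (iv2 F39458)) (tt N31107 D50581) (tt N7608 (iv4 D24639)) (tt N24072 F324111) (tt N11648 F324112) (tt N15940 F39354))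
theorem Q15559 : ∀ i, i < 15559 → P i := stepQ 15558 Q15558 (allL N15558 (tt N9957 (iv1 F38641)) (tt N7609 (iv0 D24640)) (tt N9955 F39512) (tt N30902 (iv3 F168230)) (tt N20854 (iv4 F49703)) (tt N15993 (iv5 F39508)) (tt N16791 (iv6 F41136)) (tt N9956 F39509))
theorem Q15560 : ∀ i, i < 15560 → P i := stepQ 15559 Q15559 (allL N15559 (tt N7609 (iv1 D24641)) (tt N9957 F38635) (tt N9956 (iv2 F39511)) (tt N31108 D50584) (tt N20855 (iv4 F49699)) (tt N16009 (iv5 F39584)) (tt N19430 F47617) (tt N9955 (iv7 F39514)))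
theorem Q15561 : ∀ i, i < 15561 → P i := stepQ 15560 Q15560 (allL N15560 (tt N31109 D50585) (tt N31110 D50586) (tt N9954 F38636) (tt N31111 D50587) (tt N7609 (iv4 D24642)) (tt N31112 D50588) (tt N7611 F38637) (tt N31113 D50589))
theorem Q15562 : ∀ i, i < 15562 → P i := stepQ 15561 Q15561 (allL N15561 (tt N9956 (iv1 F38642)) (tt N9955 (iv0 F38643)) (tt N9957 F38638) (tt N31101 (iv3 F79927)) (tt N31113 (iv4 F79958)) (tt N7610 F38639) (tt N9894 F38640) (tt N7609 (iv7 D24643)))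
theorem Q15563 : ∀ i, i < 15563 → P i := stepQ 15562 Q15562 (allL N15562 (tt N31114 D50590) (tt N31115 D50591) (tt N31116 D50592) (tt N7611 (iv3 D24644)) (tt N31102 (iv4 F79933)) (tt N20662 (iv5 F49503)) (tt N31111 (iv6 F79954)) (tt N9958 F38644))
theorem Q15564 : ∀ i, i < 15564 → P i := stepQ 15563 Q15563 (allL N15563 (tt N15997 (iv1 F39554)) (tt N15996 F39553) (tt N7613 F38645) (tt N31117 D50593) (tt N7612 (iv4 D24645)) (tt N31118 D50594) (tt N31119 D50595) (tt N15994 (iv7 F39548)))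
theorem Q15565 : ∀ i, i < 15565 → P i := stepQ 15564 Q15564 (allL N15564 (tt N31120 D50596) (tt N31121 D50597) (tt N7614 F38646) (tt N15972 (iv3 F39468)) (tt N31119 (iv4 F79972)) (tt N9824 F38647) (tt N7612 (iv6 D24646)) (tt N31122 D50598))
theorem Q15566 : ∀ i, i < 15566 → P i := stepQ 15565 Q15565 (allL N15565 (tt N15994 (iv1 F39550)) (tt N7613 (iv0 D24647)) (tt N15997 (iv2 F39639)) (tt N31123 D50599) (tt N20428 (iv4 F49276)) (tt N31051 (iv5 F79828)) (tt N31124 D50600) (tt N15996 F39640))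
theorem Q15567 : ∀ i, i < 15567 → P i := stepQ 15566 Q15566 (allL N15566 (tt N7613 (iv1 D24648)) (tt N15994 (iv0 F39549)) (tt N15996 F39638) (tt N31125 D50601) (tt N15260 (iv4 F38648)) (tt N31052 (iv5 F79829)) (tt N15974 (iv6 F39473)) (tt N15997 (iv7 F39637)))
theorem Q15568 : ∀ i, i < 15568 → P i := stepQ 15567 Q15567 (allL N15567 (tt N31126 D50602) (tt N31127 D50603) (tt N31128 D50604) (tt N7613 (iv3 D24649)) (tt N7615 F38649) (tt N31129 D50605) (tt N31130 D50606) (tt N15998 (iv7 F39556)))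
theorem Q15569 : ∀ i, i < 15569 → P i := stepQ 15568 Q15568 (allL N15568 (tt N31131 D50607) (tt N31132 D50608) (tt N31118 (iv2 F79968)) (tt N31129 (iv3 F79981)) (tt N29666 (iv4 F76903)) (tt N7613 (iv5 D24650)) (tt N31133 D50609) (tt N15999 (iv7 F39557)))
theorem Q15570 : ∀ i, i < 15570 → P i := stepQ 15569 Q15569 (allL N15569 (tt N31134 D50610) (tt N31135 D50611) (tt N31119 (iv2 F79971)) (tt N31130 (iv3 F79982)) (tt N7614 F38650) (tt N31136 D50612) (tt N7613 (iv6 D24651)) (tt N31137 D50613))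
theorem Q15571 : ∀ i, i < 15571 → P i := stepQ 15570 Q15570 (allL N15570 (tt N31122 (iv1 F79978)) (tt N7614 (iv0 D24652)) (tt N31120 (iv2 F99778)) (tt N31138 D50615) (tt N31139 D50616) (tt N31140 D50617) (tt N31141 D50618) (tt N31121 (iv7 F99762)))
theorem Q15572 : ∀ i, i < 15572 → P i := stepQ 15571 Q15571 (allL N15571 (tt N7614 (iv1 D24653)) (tt N31122 F79977) (tt N31121 (iv2 F99761)) (tt N29496 F168343) (tt N31142 D50621) (tt N20199 (iv5 F48906)) (tt N31143 D50622) (tt N31120 (iv7 F99779)))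
theorem Q15573 : ∀ i, i < 15573 → P i := stepQ 15572 Q15572 (allL N15572 (tt N9731 F38654) (tt N9826 F38655) (tt N9824 F38651) (tt N7619 F38652) (tt N31144 D50623) (tt N7614 (iv5 D24654)) (tt N9756 F38653) (tt N9823 (iv7 F48513)))
theorem Q15574 : ∀ i, i < 15574 → P i := stepQ 15573 Q15573 (allL N15573 (tt N31121 (iv1 F79973)) (tt N31120 F79976) (tt N31122 (iv2 F79974)) (tt N7620 F38657) (tt N31137 (iv4 F79992)) (tt N9823 (iv5 F48512)) (tt N16003 (iv6 F39560)) (tt N7614 (iv7 D24655)))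
theorem Q15575 : ∀ i, i < 15575 → P i := stepQ 15574 Q15574 (allL N15574 (tt N16006 (iv1 F39565)) (tt N7615 (iv0 D24656)) (tt N16005 (iv2 F170003)) (tt N18006 F321450) (tt N31145 D50626) (tt N15596 (iv5 F81877)) (tt N31146 D50628) (tt N16004 F170002))
theorem Q15576 : ∀ i, i < 15576 → P i := stepQ 15575 Q15575 (allL N15575 (tt N7615 (iv1 D24657)) (tt N16006 F39567) (tt N16004 F169998) (tt N31147 D50630) (tt N31148 D50631) (tt N15597 (iv5 F81886)) (tt N15982 F324523) (tt N16005 (iv7 F170004)))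
theorem Q15577 : ∀ i, i < 15577 → P i := stepQ 15576 Q15576 (allL N15576 (tt N16005 (iv1 F39566)) (tt N16004 F39561) (tt N7615 (iv2 D24658)) (tt N15983 (iv3 F39484)) (tt N31128 (iv4 F79980)) (tt N15555 F38659) (tt N12213 (iv6 F323994)) (tt N16006 (iv7 F39564)))
theorem Q15578 : ∀ i, i < 15578 → P i := stepQ 15577 Q15577 (allL N15577 (tt N12211 (iv1 F325598)) (tt N12210 (iv0 F325599)) (tt N12213 F324509) (tt N7616 F38660) (tt N31130 (iv4 F79983)) (tt N12154 (iv5 F325601)) (tt N7615 (iv6 D24659)) (tt N12153 (iv7 F325603)))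
theorem Q15579 : ∀ i, i < 15579 → P i := stepQ 15578 Q15578 (allL N15578 (tt N15988 (iv1 F39499)) (tt N7616 (iv0 D24660)) (tt N15985 (iv2 F47644)) (tt N13840 (iv3 F325408)) (tt N8918 F46780) (tt N11816 F324268) (tt N11817 (iv6 F324954)) (tt N15986 (iv7 F47643)))
theorem Q15580 : ∀ i, i < 15580 → P i := stepQ 15579 Q15579 (allL N15579 (tt N7616 (iv1 D24661)) (tt N15988 F39498) (tt N15986 (iv2 F47641)) (tt N12357 (iv3 F326060)) (tt N8919 F46777) (tt N24477 F325135) (tt N24648 F325136) (tt N15985 (iv7 F47647)))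
theorem Q15581 : ∀ i, i < 15581 → P i := stepQ 15580 Q15580 (allL N15580 (tt N31149 D50644) (tt N12350 F325329) (tt N15987 (iv2 F39492)) (tt N12154 (iv3 F325600)) (tt N23601 F325330) (tt N7616 (iv5 D24662)) (tt N12221 F325331) (tt N12148 (iv7 F325863)))
theorem Q15582 : ∀ i, i < 15582 → P i := stepQ 15581 Q15581 (allL N15581 (tt N15986 (iv1 F39491)) (tt N15985 F39497) (tt N15988 (iv2 F39494)) (tt N12153 (iv3 F325602)) (tt N7620 F38662) (tt N12148 (iv5 F325862)) (tt N16008 (iv6 F39574)) (tt N7616 (iv7 D24663)))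
theorem Q15583 : ∀ i, i < 15583 → P i := stepQ 15582 Q15582 (allL N15582 (tt N15883 (iv1 F168265)) (tt N15838 (iv0 F168264)) (tt N15880 (iv2 F168263)) (tt N7617 (iv3 D24665)) (tt N31150 D50651) (tt N31151 D50652) (tt N16010 (iv6 F39585)) (tt N15881 F168246))
theorem Q15584 : ∀ i, i < 15584 → P i := stepQ 15583 Q15583 (allL N15583 (tt N16741 (iv1 F41041)) (tt N20254 (iv0 F49007)) (tt N15990 (iv2 F39535)) (tt N31151 (iv3 F80014)) (tt N31152 D50655) (tt N7617 (iv5 D24667)) (tt N19743 (iv6 F48208)) (tt N15992 (iv7 F39533)))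
theorem Q15585 : ∀ i, i < 15585 → P i := stepQ 15584 Q15584 (allL N15584 (tt N22706 F53711) (tt N16030 (iv0 F39631)) (tt N15993 F39513) (tt N30932 (iv3 F163920)) (tt N23611 (iv4 F322385)) (tt N9955 F38665) (tt N7618 (iv6 D24671)) (tt N16009 (iv7 F39582)))
theorem Q15586 : ∀ i, i < 15586 → P i := stepQ 15585 Q15585 (allL N15585 (tt N8229 F46772) (tt N10275 F46773) (tt N10022 F38666) (tt N31153 D50664) (tt N7619 (iv4 D24672)) (tt N31154 D50665) (tt N9880 F38667) (tt N10019 F38668))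
theorem Q15587 : ∀ i, i < 15587 → P i := stepQ 15586 Q15586 (allL N15586 (tt N15974 (iv1 F39470)) (tt N15973 F39469) (tt N7622 F38669) (tt N31155 D50666) (tt N7621 (iv4 D24673)) (tt N31156 D50667) (tt N31157 D50668) (tt N15971 (iv7 F39464)))
theorem Q15588 : ∀ i, i < 15588 → P i := stepQ 15587 Q15587 (allL N15587 (tt N31158 D50669) (tt N31141 (iv0 F83898)) (tt N7623 F38670) (tt N15995 (iv3 F39552)) (tt N31157 (iv4 F80027)) (tt N9692 F38671) (tt N7621 (iv6 D24674)) (tt N31159 D50671))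
theorem Q15589 : ∀ i, i < 15589 → P i := stepQ 15588 Q15588 (allL N15588 (tt N15971 (iv1 F39466)) (tt N7622 (iv0 D24675)) (tt N15974 (iv2 F39472)) (tt N31160 D50672) (tt N15261 F38672) (tt N31090 (iv5 F79916)) (tt N15996 (iv6 F39641)) (tt N15973 F39476))
theorem Q15590 : ∀ i, i < 15590 → P i := stepQ 15589 Q15589 (allL N15589 (tt N7622 (iv1 D24676)) (tt N15971 (iv0 F39465)) (tt N15973 F39475) (tt N31161 D50673) (tt N15634 (iv4 F38732)) (tt N31091 (iv5 F79917)) (tt N31162 D50674) (tt N15974 (iv7 F39474)))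
theorem Q15591 : ∀ i, i < 15591 → P i := stepQ 15590 Q15590 (allL N15590 (tt N31163 D50675) (tt N31164 D50676) (tt N31165 D50677) (tt N7622 (iv3 D24677)) (tt N7624 F38673) (tt N31166 D50678) (tt N23482 (iv6 F325577)) (tt N15975 (iv7 F39478)))
theorem Q15592 : ∀ i, i < 15592 → P i := stepQ 15591 Q15591 (allL N15591 (tt N31167 D50680) (tt N31168 D50681) (tt N31156 (iv2 F80022)) (tt N31166 (iv3 F80036)) (tt N31169 D50682) (tt N7622 (iv5 D24678)) (tt N31170 D50683) (tt N15976 (iv7 F39479)))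
theorem Q15593 : ∀ i, i < 15593 → P i := stepQ 15592 Q15592 (allL N15592 (tt N31171 D50684) (tt N31172 D50685) (tt N31157 (iv2 F80026)) (tt N23482 (iv3 F325575)) (tt N7623 F38674) (tt N31173 D50686) (tt N7622 (iv6 D24679)) (tt N31174 D50687))
theorem Q15594 : ∀ i, i < 15594 → P i := stepQ 15593 Q15593 (allL N15593 (tt N31159 (iv1 F80033)) (tt N7623 (iv0 D24680)) (tt N31158 (iv2 F99774)) (tt N23779 (iv3 F326268)) (tt N31175 D50690) (tt N19749 (iv5 F80034)) (tt N31176 D50691) (tt N31141 (iv7 F99772)))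
theorem Q15595 : ∀ i, i < 15595 → P i := stepQ 15594 Q15594 (allL N15594 (tt N7623 (iv1 D24681)) (tt N31159 F80032) (tt N31141 (iv2 F99771)) (tt N31177 D50693) (tt N31178 D50694) (tt N19750 (iv5 F83962)) (tt N31120 (iv6 F83964)) (tt N31158 (iv7 F99775)))
theorem Q15596 : ∀ i, i < 15596 → P i := stepQ 15595 Q15595 (allL N15595 (tt N31141 (iv1 F83899)) (tt N31158 F80031) (tt N31159 (iv2 F80029)) (tt N7628 F38675) (tt N31174 (iv4 F80048)) (tt N19352 (iv5 F47395)) (tt N15980 (iv6 F39482)) (tt N7623 (iv7 D24682)))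
theorem Q15597 : ∀ i, i < 15597 → P i := stepQ 15596 Q15596 (allL N15596 (tt N15983 (iv1 F39487)) (tt N7624 (iv0 D24683)) (tt N15982 (iv2 F170010)) (tt N25339 F322525) (tt N31179 D50699) (tt N15574 F81877) (tt N16004 (iv6 F324515)) (tt N15981 F170006))
theorem Q15598 : ∀ i, i < 15598 → P i := stepQ 15597 Q15597 (allL N15597 (tt N7624 (iv1 D24684)) (tt N15983 F39489) (tt N15981 F170005) (tt N25329 F323997) (tt N31180 D50704) (tt N15575 F81886) (tt N31181 D50706) (tt N15982 (iv7 F170011)))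
theorem Q15599 : ∀ i, i < 15599 → P i := stepQ 15598 Q15598 (allL N15598 (tt N15982 (iv1 F39488)) (tt N15981 F39483) (tt N7624 (iv2 D24685)) (tt N16006 (iv3 F39562)) (tt N31165 (iv4 F80035)) (tt N15529 F38676) (tt N22938 (iv6 F325268)) (tt N15983 (iv7 F39486)))
theorem Q15600 : ∀ i, i < 15600 → P i := stepQ 15599 Q15599 (allL N15599 (tt N22936 (iv1 F326194)) (tt N22910 (iv0 F326195)) (tt N22938 F325274) (tt N7625 F38677) (tt N23482 (iv4 F325576)) (tt N11714 F325275) (tt N7624 (iv6 D24686)) (tt N22934 F325276))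
theorem Q15601 : ∀ i, i < 15601 → P i := stepQ 15600 Q15600 (allL N15600 (tt N8572 (iv1 F324211)) (tt N8570 (iv0 F324210)) (tt N11758 (iv2 F324230)) (tt N11714 (iv3 F324983)) (tt N11995 F323643) (tt N7625 (iv5 D24689)) (tt N11835 (iv6 F324965)) (tt N11812 F323644))
theorem Q15602 : ∀ i, i < 15602 → P i := stepQ 15601 Q15601 (allL N15601 (tt N11817 (iv1 F324952)) (tt N16007 F39575) (tt N16008 (iv2 F39572)) (tt N22934 (iv3 F324982)) (tt N7628 F38679) (tt N11812 F323642) (tt N15988 (iv6 F39496)) (tt N7625 (iv7 D24690)))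
theorem Q15603 : ∀ i, i < 15603 → P i := stepQ 15602 Q15602 (allL N15602 (tt N16030 F39632) (tt N22706 (iv0 F53710)) (tt N16009 (iv2 F39581)) (tt N30953 (iv3 F168260)) (tt N11624 (iv4 F322599)) (tt N9956 F38681) (tt N7626 (iv6 D24694)) (tt N15993 (iv7 F39507)))
theorem Q15604 : ∀ i, i < 15604 → P i := stepQ 15603 Q15603 (allL N15603 (tt N15840 F163890) (tt N15892 (iv0 F163891)) (tt N15890 (iv2 F163894)) (tt N7627 (iv3 D24696)) (tt N31182 D50732) (tt N19753 (iv5 F48244)) (tt N15989 (iv6 F39502)) (tt N15889 (iv7 F163892)))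
theorem Q15605 : ∀ i, i < 15605 → P i := stepQ 15604 Q15604 (allL N15604 (tt N16017 (iv1 F39610)) (tt N7629 (iv0 D24698)) (tt N16016 (iv2 F105354)) (tt N31183 D50736) (tt N31184 D50737) (tt N11747 F320739) (tt N31185 D50739) (tt N16015 F105353))
theorem Q15606 : ∀ i, i < 15606 → P i := stepQ 15605 Q15605 (allL N15605 (tt N7629 (iv1 D24699)) (tt N16017 F39612) (tt N16015 F105350) (tt N31186 D50741) (tt N31187 D50742) (tt N11748 F320736) (tt N16012 (iv6 F323075)) (tt N16016 (iv7 F105355)))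
theorem Q15607 : ∀ i, i < 15607 → P i := stepQ 15606 Q15606 (allL N15606 (tt N16016 (iv1 F39611)) (tt N16015 F39607) (tt N7629 (iv2 D24700)) (tt N16013 (iv3 F39591)) (tt N31188 D50745) (tt N15704 (iv5 F38849)) (tt N11889 (iv6 F322717)) (tt N16017 (iv7 F39609)))
theorem Q15608 : ∀ i, i < 15608 → P i := stepQ 15607 Q15607 (allL N15607 (tt N31189 D50747) (tt N31190 D50748) (tt N31188 (iv2 F80125)) (tt N8956 F38683) (tt N7629 (iv4 D24701)) (tt N31191 D50749) (tt N23431 F320949) (tt N16018 (iv7 F39614)))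
theorem Q15609 : ∀ i, i < 15609 → P i := stepQ 15608 Q15608 (allL N15608 (tt N7632 (iv1 F38692)) (tt N7631 (iv0 D24716)) (tt N7635 (iv2 F38689)) (tt N15619 (iv3 F38698)) (tt N30978 (iv4 F79744)) (tt N7844 F38690) (tt N31192 D50783) (tt N7633 F38691))
theorem Q15610 : ∀ i, i < 15610 → P i := stepQ 15609 Q15609 (allL N15609 (tt N7635 F170126) (tt N7633 F170127) (tt N7631 (iv2 D24717)) (tt N31193 D50786) (tt N31194 D50787) (tt N31195 D50788) (tt N31196 D50789) (tt N7632 (iv7 F38693)))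
theorem Q15611 : ∀ i, i < 15611 → P i := stepQ 15610 Q15610 (allL N15610 (tt N23795 F322499) (tt N31197 D50791) (tt N31198 D50792) (tt N7631 (iv3 D24718)) (tt N31199 D50793) (tt N31200 D50794) (tt N23672 (iv6 F323933)) (tt N23730 (iv7 F323072)))
theorem Q15612 : ∀ i, i < 15612 → P i := stepQ 15611 Q15611 (allL N15611 (tt N31201 D50797) (tt N31202 D50798) (tt N31194 (iv2 F80166)) (tt N31203 D50799) (tt N7631 (iv4 D24719)) (tt N31204 D50800) (tt N31205 D50801) (tt N31206 D50802))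
theorem Q15613 : ∀ i, i < 15613 → P i := stepQ 15612 Q15612 (allL N15612 (tt N31207 D50803) (tt N10027 F169597) (tt N31195 (iv2 F80168)) (tt N31200 (iv3 F80173)) (tt N31208 D50805) (tt N7631 (iv5 D24720)) (tt N31209 D50806) (tt N31210 D50807))
theorem Q15614 : ∀ i, i < 15614 → P i := stepQ 15613 Q15613 (allL N15613 (tt N31211 D50808) (tt N23610 (iv0 F326146)) (tt N31196 (iv2 F80170)) (tt N23672 F325221) (tt N31205 (iv4 F80178)) (tt N23596 (iv5 F326147)) (tt N7631 (iv6 D24721)) (tt N31212 D50811))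
theorem Q15615 : ∀ i, i < 15615 → P i := stepQ 15614 Q15614 (allL N15614 (tt N7633 (iv1 F170124)) (tt N7635 (iv0 F170125)) (tt N7632 F38694) (tt N23730 F324473) (tt N31206 (iv4 F80180)) (tt N31210 (iv5 F80184)) (tt N23512 (iv6 F325584)) (tt N7631 (iv7 D24722)))
theorem Q15616 : ∀ i, i < 15616 → P i := stepQ 15615 Q15615 (allL N15615 (tt N31213 D50813) (tt N31183 (iv0 F105380)) (tt N26768 F323960) (tt N7632 (iv3 D24723)) (tt N31214 D50816) (tt N26291 F323961) (tt N12942 (iv6 F325236)) (tt N31193 (iv7 F80165)))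
theorem Q15617 : ∀ i, i < 15617 → P i := stepQ 15616 Q15616 (allL N15616 (tt N31202 (iv1 F80177)) (tt N31201 F80181) (tt N31206 (iv2 F80179)) (tt N31215 D50819) (tt N7632 (iv4 D24724)) (tt N31216 D50820) (tt N31217 D50821) (tt N31194 (iv7 F80167)))
theorem Q15618 : ∀ i, i < 15618 → P i := stepQ 15617 Q15617 (allL N15617 (tt N10027 F169598) (tt N31207 F80185) (tt N31210 (iv2 F80183)) (tt N26291 F324433) (tt N31218 D50822) (tt N7632 (iv5 D24725)) (tt N23613 (iv6 F325553)) (tt N31195 (iv7 F80169)))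
theorem Q15619 : ∀ i, i < 15619 → P i := stepQ 15618 Q15618 (allL N15618 (tt N11903 (iv1 F326996)) (tt N22913 (iv0 F326997)) (tt N23512 F326165) (tt N12942 F326166) (tt N31217 (iv4 F80190)) (tt N12934 (iv5 F326999)) (tt N7632 (iv6 D24726)) (tt N12933 (iv7 F327000)))
theorem Q15620 : ∀ i, i < 15620 → P i := stepQ 15619 Q15619 (allL N15619 (tt N7843 (iv1 F38700)) (tt N7842 F38701) (tt N7634 F38697) (tt N15608 F38698) (tt N31219 D50838) (tt N7633 (iv5 D24729)) (tt N31220 D50839) (tt N7844 F38699))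
theorem Q15621 : ∀ i, i < 15621 → P i := stepQ 15620 Q15620 (allL N15620 (tt N7844 (iv1 F38702)) (tt N7634 (iv0 D24730)) (tt N7843 (iv2 F170423)) (tt N27635 F325224) (tt N31221 D50842) (tt N31062 F170053) (tt N23798 (iv6 F326150)) (tt N7842 (iv7 F170425)))
theorem Q15622 : ∀ i, i < 15622 → P i := stepQ 15621 Q15621 (allL N15621 (tt N7634 (iv1 D24731)) (tt N7844 F38703) (tt N7842 F170426) (tt N31222 D50846) (tt N31223 D50847) (tt N31063 F170048) (tt N31224 D50849) (tt N7843 F170427))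
theorem Q15623 : ∀ i, i < 15623 → P i := stepQ 15622 Q15622 (allL N15622 (tt N31225 D50850) (tt N31226 D50851) (tt N31219 (iv2 F80194)) (tt N7785 F38704) (tt N7634 (iv4 D24732)) (tt N31227 D50852) (tt N31228 D50853) (tt N7783 F38705))
theorem Q15624 : ∀ i, i < 15624 → P i := stepQ 15623 Q15623 (allL N15623 (tt N31229 D50854) (tt N31230 D50855) (tt N31220 (iv2 F80198)) (tt N7636 F38706) (tt N31228 (iv4 F80211)) (tt N15624 (iv5 F38708)) (tt N7634 (iv6 D24733)) (tt N15624 (iv7 F38709)))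
theorem Q15625 : ∀ i, i < 15625 → P i := stepQ 15624 Q15624 (allL N15624 (tt N31231 D50856) (tt N31232 D50857) (tt N31192 (iv2 F80162)) (tt N7637 F38707) (tt N30991 (iv4 F79758)) (tt N15623 F38708) (tt N7635 (iv6 D24734)) (tt N15623 F38709))
theorem Q15626 : ∀ i, i < 15626 → P i := stepQ 15625 Q15625 (allL N15625 (tt N7636 (iv1 F38710)) (tt N7636 (iv0 D24735)) (tt N15626 (iv2 F80225)) (tt N23752 F323455) (tt N8934 (iv4 F80227)) (tt N23618 F323456) (tt N23552 (iv6 F323844)) (tt N15626 (iv7 F80226)))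
theorem Q15627 : ∀ i, i < 15627 → P i := stepQ 15626 Q15626 (allL N15626 (tt N7637 (iv1 F38711)) (tt N7637 (iv0 D24736)) (tt N15625 F80225) (tt N23770 F324764) (tt N8969 F80223) (tt N31233 D50864) (tt N23621 F324765) (tt N15625 F80226))
theorem Q15628 : ∀ i, i < 15628 → P i := stepQ 15627 Q15627 (allL N15627 (tt N15915 (iv1 F161309)) (tt N15947 (iv0 F161310)) (tt N31014 (iv2 F161247)) (tt N7638 (iv3 D24738)) (tt N31234 D50869) (tt N31235 D50870) (tt N31236 D50871) (tt N16027 (iv7 F49023)))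
theorem Q15629 : ∀ i, i < 15629 → P i := stepQ 15628 Q15628 (allL N15628 (tt N8933 (iv1 F80380)) (tt N8933 (iv0 F80379)) (tt N16028 (iv2 F49030)) (tt N31237 D50873) (tt N7638 (iv4 D24739)) (tt N31238 D50874) (tt N31239 D50875) (tt N16028 (iv7 F49024)))
theorem Q15630 : ∀ i, i < 15630 → P i := stepQ 15629 Q15629 (allL N15629 (tt N15535 F39377) (tt N15535 (iv0 F38713)) (tt N16029 F49026) (tt N31235 (iv3 F80238)) (tt N31240 D50876) (tt N7638 (iv5 D24740)) (tt N10023 (iv6 F38714)) (tt N16029 (iv7 F49025)))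
theorem Q15631 : ∀ i, i < 15631 → P i := stepQ 15630 Q15630 (allL N15630 (tt N15993 F39510) (tt N16009 (iv0 F39583)) (tt N16030 (iv2 F49020)) (tt N31236 (iv3 F80240)) (tt N31239 (iv4 F80243)) (tt N9902 F38715) (tt N7638 (iv6 D24741)) (tt N22706 (iv7 F53709)))
theorem Q15632 : ∀ i, i < 15632 → P i := stepQ 15631 Q15631 (allL N15631 (tt N15273 F38719) (tt N16099 F39876) (tt N30445 (iv2 F78575)) (tt N7639 (iv3 D24742)) (tt N15162 F38716) (tt N15150 F38717) (tt N29519 (iv6 F76583)) (tt N7983 F38718))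
theorem Q15633 : ∀ i, i < 15633 → P i := stepQ 15632 Q15632 (allL N15632 (tt N7711 F38726) (tt N31241 D50877) (tt N31242 D50878) (tt N7642 (iv3 D24743)) (tt N7764 F38723) (tt N19668 F48118) (tt N10267 F38724) (tt N11096 F38725))
theorem Q15634 : ∀ i, i < 15634 → P i := stepQ 15633 Q15633 (allL N15633 (tt N19017 (iv1 F46791)) (tt N19016 F46788) (tt N9530 F38728) (tt N19053 (iv3 F46852)) (tt N31243 D50879) (tt N7643 (iv5 D24744)) (tt N31244 D50880) (tt N16126 (iv7 F39966)))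
theorem Q15635 : ∀ i, i < 15635 → P i := stepQ 15634 Q15634 (allL N15634 (tt N8947 (iv1 F38731)) (tt N29849 F77447) (tt N16032 (iv2 F39642)) (tt N7646 F38729) (tt N15589 F38732) (tt N7644 (iv5 D24745)) (tt N31245 D50881) (tt N15188 F38730))
theorem Q15636 : ∀ i, i < 15636 → P i := stepQ 15635 Q15635 (allL N15635 (tt N16643 (iv1 F40834)) (tt N16639 F40831) (tt N16079 (iv2 F39806)) (tt N15407 F38733) (tt N30266 (iv4 F78269)) (tt N7645 (iv5 D24746)) (tt N31246 D50882) (tt N15189 F38734))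
theorem Q15637 : ∀ i, i < 15637 → P i := stepQ 15636 Q15636 (allL N15636 (tt N15468 F38736) (tt N16193 (iv0 F40118)) (tt N16080 (iv2 F39809)) (tt N31247 D50883) (tt N7646 (iv4 D24747)) (tt N31248 D50884) (tt N31249 D50885) (tt N15190 F38735))
theorem Q15638 : ∀ i, i < 15638 → P i := stepQ 15637 Q15637 (allL N15637 (tt N31250 D50886) (tt N18147 (iv0 F166169)) (tt N16081 (iv2 F39811)) (tt N31245 (iv3 F80267)) (tt N31249 (iv4 F80276)) (tt N15637 F38737) (tt N7646 (iv6 D24748)) (tt N16034 (iv7 F39653)))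
theorem Q15639 : ∀ i, i < 15639 → P i := stepQ 15638 Q15638 (allL N15638 (tt N16092 (iv1 F39858)) (tt N16091 F39855) (tt N7651 F38738) (tt N31251 D50888) (tt N7647 (iv4 D24749)) (tt N31252 D50889) (tt N31253 D50890) (tt N16082 (iv7 F39815)))
theorem Q15640 : ∀ i, i < 15640 → P i := stepQ 15639 Q15639 (allL N15639 (tt N31254 D50891) (tt N31255 D50892) (tt N7652 F38739) (tt N16036 (iv3 F39659)) (tt N31253 (iv4 F80285)) (tt N18829 (iv5 F46558)) (tt N7647 (iv6 D24750)) (tt N31256 D50893))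
theorem Q15641 : ∀ i, i < 15641 → P i := stepQ 15640 Q15640 (allL N15640 (tt N7648 (iv1 D24751)) (tt N7655 F38740) (tt N7654 (iv2 F38744)) (tt N16054 (iv3 F39711)) (tt N18274 (iv4 F45682)) (tt N9236 F38743) (tt N7887 (iv6 F38742)) (tt N7653 F38741))
theorem Q15642 : ∀ i, i < 15642 → P i := stepQ 15641 Q15641 (allL N15641 (tt N7654 (iv1 F38748)) (tt N7653 F38749) (tt N7655 F38745) (tt N16037 (iv3 F39661)) (tt N8131 F38746) (tt N9442 F38747) (tt N16084 (iv6 F39825)) (tt N7648 (iv7 D24752)))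
theorem Q15643 : ∀ i, i < 15643 → P i := stepQ 15642 Q15642 (allL N15642 (tt N7982 F40160) (tt N29515 (iv0 F76564)) (tt N29517 F76574) (tt N7649 (iv3 D24753)) (tt N15545 F38751) (tt N9019 F38750) (tt N31257 D50894) (tt N16085 (iv7 F39829)))
theorem Q15644 : ∀ i, i < 15644 → P i := stepQ 15643 Q15643 (allL N15643 (tt N15435 F38752) (tt N16188 F40109) (tt N16089 (iv2 F39850)) (tt N31258 D50895) (tt N7649 (iv4 D24754)) (tt N31259 D50896) (tt N31260 D50897) (tt N16086 (iv7 F39837)))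
theorem Q15645 : ∀ i, i < 15645 → P i := stepQ 15644 Q15644 (allL N15644 (tt N31261 D50898) (tt N31262 D50899) (tt N16090 (iv2 F39852)) (tt N31257 (iv3 F80294)) (tt N31260 (iv4 F80298)) (tt N29614 (iv5 F76808)) (tt N7649 (iv6 D24755)) (tt N31263 D50900))
theorem Q15646 : ∀ i, i < 15646 → P i := stepQ 15645 Q15645 (allL N15645 (tt N15744 (iv1 F39848)) (tt N15752 F39849) (tt N18042 F45185) (tt N7650 (iv3 D24756)) (tt N31264 D50901) (tt N16108 (iv5 F39918)) (tt N31265 D50902) (tt N16088 (iv7 F39844)))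
theorem Q15647 : ∀ i, i < 15647 → P i := stepQ 15646 Q15646 (allL N15646 (tt N16188 (iv1 F40108)) (tt N15435 F39838) (tt N16086 (iv2 F39836)) (tt N31266 D50903) (tt N7650 (iv4 D24757)) (tt N31267 D50904) (tt N31268 D50905) (tt N16089 (iv7 F39851)))
theorem Q15648 : ∀ i, i < 15648 → P i := stepQ 15647 Q15647 (allL N15647 (tt N7677 F38753) (tt N31269 D50906) (tt N16087 (iv2 F39839)) (tt N31265 (iv3 F80308)) (tt N31268 (iv4 F80311)) (tt N30436 (iv5 F78547)) (tt N7650 (iv6 D24758)) (tt N31270 D50907))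
theorem Q15649 : ∀ i, i < 15649 → P i := stepQ 15648 Q15648 (allL N15648 (tt N16082 (iv1 F39816)) (tt N7651 (iv0 D24759)) (tt N16092 F39861) (tt N31271 D50908) (tt N15110 F38754) (tt N31272 D50909) (tt N31273 D50910) (tt N16091 F39857))
theorem Q15650 : ∀ i, i < 15650 → P i := stepQ 15649 Q15649 (allL N15649 (tt N7651 (iv1 D24760)) (tt N16082 (iv0 F39817)) (tt N16091 F39856) (tt N31274 D50911) (tt N15951 (iv4 F39416)) (tt N31275 D50912) (tt N31276 D50913) (tt N16092 (iv7 F39859)))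
theorem Q15651 : ∀ i, i < 15651 → P i := stepQ 15650 Q15650 (allL N15650 (tt N31277 D50914) (tt N31278 D50915) (tt N11745 (iv2 F321467)) (tt N7651 (iv3 D24761)) (tt N7662 F38755) (tt N31279 D50917) (tt N8591 (iv6 F321472)) (tt N16093 (iv7 F39863)))
theorem Q15652 : ∀ i, i < 15652 → P i := stepQ 15651 Q15651 (allL N15651 (tt N31280 D50919) (tt N31281 D50920) (tt N31252 (iv2 F80279)) (tt N31279 (iv3 F80325)) (tt N31282 D50921) (tt N7651 (iv5 D24762)) (tt N31283 D50922) (tt N16094 (iv7 F39864)))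
theorem Q15653 : ∀ i, i < 15653 → P i := stepQ 15652 Q15652 (allL N15652 (tt N31284 D50923) (tt N31285 D50924) (tt N31253 (iv2 F80284)) (tt N8591 F323129) (tt N7652 F38756) (tt N8590 (iv5 F324577)) (tt N7651 (iv6 D24763)) (tt N8654 (iv7 F324578)))
theorem Q15654 : ∀ i, i < 15654 → P i := stepQ 15653 Q15653 (allL N15653 (tt N31256 (iv1 F80293)) (tt N7652 (iv0 D24764)) (tt N31254 F170647) (tt N31286 D50928) (tt N31287 D50929) (tt N31288 D50930) (tt N16048 (iv6 F80342)) (tt N31255 F170648))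
theorem Q15655 : ∀ i, i < 15655 → P i := stepQ 15654 Q15654 (allL N15654 (tt N7652 (iv1 D24765)) (tt N31256 F80292) (tt N31255 (iv2 F170643)) (tt N31289 D50932) (tt N31290 D50933) (tt N31291 D50934) (tt N31292 D50935) (tt N31254 (iv7 F170646)))
theorem Q15656 : ∀ i, i < 15656 → P i := stepQ 15655 Q15655 (allL N15655 (tt N31255 (iv1 F80287)) (tt N31254 F80291) (tt N31256 (iv2 F80290)) (tt N7666 F38757) (tt N8654 F325690) (tt N18836 (iv5 F46564)) (tt N16098 (iv6 F39869)) (tt N7652 (iv7 D24766)))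
theorem Q15657 : ∀ i, i < 15657 → P i := stepQ 15656 Q15656 (allL N15656 (tt N18275 (iv1 F45689)) (tt N16187 F40107) (tt N9198 F38758) (tt N15368 F38759) (tt N7653 (iv4 D24767)) (tt N31293 D50936) (tt N8980 F38760) (tt N18274 (iv7 F45681)))
theorem Q15658 : ∀ i, i < 15658 → P i := stepQ 15657 Q15657 (allL N15657 (tt N15745 F38982) (tt N18045 F45193) (tt N9947 (iv2 F38763)) (tt N7654 (iv3 D24768)) (tt N9929 F38761) (tt N19193 (iv5 F47047)) (tt N15462 (iv6 F38764)) (tt N9944 F38762))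
theorem Q15659 : ∀ i, i < 15659 → P i := stepQ 15658 Q15658 (allL N15658 (tt N7890 F38768) (tt N7882 (iv0 F38770)) (tt N7887 F38765) (tt N15462 F38766) (tt N20841 (iv4 F49678)) (tt N14764 (iv5 F38769)) (tt N7654 (iv6 D24769)) (tt N7888 F38767))
theorem Q15660 : ∀ i, i < 15660 → P i := stepQ 15659 Q15659 (allL N15659 (tt N16200 (iv1 F40128)) (tt N15405 (iv0 F38771)) (tt N18050 (iv2 F45213)) (tt N31294 D50937) (tt N7656 (iv4 D24770)) (tt N31295 D50938) (tt N31296 D50939) (tt N16056 (iv7 F39717)))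
theorem Q15661 : ∀ i, i < 15661 → P i := stepQ 15660 Q15660 (allL N15660 (tt N31297 D50940) (tt N31298 D50941) (tt N18051 (iv2 F45215)) (tt N7658 F38772) (tt N31296 (iv4 F80355)) (tt N8225 F38773) (tt N7656 (iv6 D24771)) (tt N31299 D50942))
theorem Q15662 : ∀ i, i < 15662 → P i := stepQ 15661 Q15661 (allL N15661 (tt N18205 F170947) (tt N18209 (iv0 F170949)) (tt N31300 D50945) (tt N7657 (iv3 D24772)) (tt N31294 (iv4 F80351)) (tt N10285 F38774) (tt N31301 D50946) (tt N15525 F38775))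
theorem Q15663 : ∀ i, i < 15663 → P i := stepQ 15662 Q15662 (allL N15662 (tt N31302 D50947) (tt N31303 D50948) (tt N10283 F38776) (tt N31301 (iv3 F80366)) (tt N7658 F38777) (tt N31149 (iv5 F80006)) (tt N7657 (iv6 D24773)) (tt N31304 D50949))
theorem Q15664 : ∀ i, i < 15664 → P i := stepQ 15663 Q15663 (allL N15663 (tt N10284 (iv1 F38782)) (tt N7658 (iv0 D24774)) (tt N10281 F78673) (tt N31305 D50950) (tt N20516 (iv4 F78685)) (tt N30500 (iv5 F78644)) (tt N18211 (iv6 F45517)) (tt N10282 F78674))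
theorem Q15665 : ∀ i, i < 15665 → P i := stepQ 15664 Q15664 (allL N15664 (tt N7658 (iv1 D24775)) (tt N10284 F38778) (tt N10282 F78649) (tt N31262 (iv3 F166120)) (tt N20517 (iv4 F49367)) (tt N29688 (iv5 F76971)) (tt N10282 (iv6 F45833)) (tt N10281 F78650))
theorem Q15666 : ∀ i, i < 15666 → P i := stepQ 15665 Q15665 (allL N15665 (tt N10282 (iv1 F38783)) (tt N10281 F38784) (tt N10284 F38779) (tt N31299 (iv3 F80356)) (tt N31304 (iv4 F80385)) (tt N8232 F38780) (tt N7683 F38781) (tt N7658 (iv7 D24776)))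
theorem Q15667 : ∀ i, i < 15667 → P i := stepQ 15666 Q15666 (allL N15666 (tt N14691 F38786) (tt N14694 F38787) (tt N16213 F40165) (tt N31306 D50952) (tt N7659 (iv4 D24777)) (tt N30408 (iv5 F78484)) (tt N31307 D50953) (tt N10269 F38785))
theorem Q15668 : ∀ i, i < 15668 → P i := stepQ 15667 Q15667 (allL N15667 (tt N18032 F45158) (tt N18072 F45257) (tt N18071 (iv2 F45255)) (tt N7661 F38788) (tt N31307 (iv4 F80394)) (tt N15307 F38789) (tt N7659 (iv6 D24778)) (tt N16103 (iv7 F39906)))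
theorem Q15669 : ∀ i, i < 15669 → P i := stepQ 15668 Q15668 (allL N15668 (tt N27666 (iv1 F323114)) (tt N29468 F322531) (tt N29467 (iv2 F323120)) (tt N7660 (iv3 D24779)) (tt N31306 (iv4 F80392)) (tt N15525 F38790) (tt N31308 D50957) (tt N10285 F38791))
theorem Q15670 : ∀ i, i < 15670 → P i := stepQ 15669 Q15669 (allL N15669 (tt N7819 F38794) (tt N12220 (iv0 F323836)) (tt N15526 F38792) (tt N31308 (iv3 F80402)) (tt N7661 F38793) (tt N31309 D50958) (tt N7660 (iv6 D24780)) (tt N15556 (iv7 F38857)))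
theorem Q15671 : ∀ i, i < 15671 → P i := stepQ 15670 Q15670 (allL N15670 (tt N11879 (iv1 F321501)) (tt N7662 (iv0 D24781)) (tt N11702 (iv2 F321424)) (tt N31310 D50960) (tt N25322 (iv4 F321495)) (tt N16058 F105477) (tt N8579 (iv6 F322494)) (tt N11899 (iv7 F321421)))
theorem Q15672 : ∀ i, i < 15672 → P i := stepQ 15671 Q15671 (allL N15671 (tt N7662 (iv1 D24782)) (tt N11879 (iv0 F321500)) (tt N11899 (iv2 F321419)) (tt N31311 D50965) (tt N25323 F319493) (tt N11870 F319494) (tt N11832 (iv6 F321505)) (tt N11702 (iv7 F321426)))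
theorem Q15673 : ∀ i, i < 15673 → P i := stepQ 15672 Q15672 (allL N15672 (tt N18059 (iv1 F164078)) (tt N18030 (iv0 F164075)) (tt N18057 (iv2 F164072)) (tt N7664 (iv3 D24790)) (tt N31312 D50979) (tt N19137 F164065) (tt N16059 (iv6 F39741)) (tt N16060 (iv7 F45357)))
theorem Q15674 : ∀ i, i < 15674 → P i := stepQ 15673 Q15673 (allL N15673 (tt N15533 F79861) (tt N7804 F79862) (tt N15531 F79864) (tt N22899 (iv3 F326234)) (tt N7664 (iv4 D24791)) (tt N8570 F325363) (tt N15531 (iv6 F79863)) (tt N15532 (iv7 F79868)))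
theorem Q15675 : ∀ i, i < 15675 → P i := stepQ 15674 Q15674 (allL N15674 (tt N7974 (iv1 F164084)) (tt N29523 (iv0 F164085)) (tt N29522 (iv2 F164074)) (tt N7665 (iv3 D24793)) (tt N31313 D50984) (tt N19219 (iv5 F47099)) (tt N31314 D50985) (tt N16059 F45364))
theorem Q15676 : ∀ i, i < 15676 → P i := stepQ 15675 Q15675 (allL N15675 (tt N7804 F79859) (tt N15533 F79860) (tt N15532 (iv2 F79867)) (tt N12537 (iv3 F326233)) (tt N7665 (iv4 D24794)) (tt N8572 F325362) (tt N31315 D50987) (tt N15531 F79866))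
theorem Q15677 : ∀ i, i < 15677 → P i := stepQ 15676 Q15676 (allL N15676 (tt N18211 F45518) (tt N18211 (iv0 F45516)) (tt N16061 F45352) (tt N31314 (iv3 F80417)) (tt N31315 (iv4 F80420)) (tt N16061 (iv5 F39744)) (tt N7665 (iv6 D24795)) (tt N16061 (iv7 F39745)))
theorem Q15678 : ∀ i, i < 15678 → P i := stepQ 15677 Q15677 (allL N15677 (tt N10268 (iv1 F38804)) (tt N20065 (iv0 F48792)) (tt N16065 (iv2 F39761)) (tt N7668 (iv3 D24796)) (tt N7686 F38803) (tt N16085 (iv5 F39828)) (tt N18787 (iv6 F46503)) (tt N9019 F38802))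
theorem Q15679 : ∀ i, i < 15679 → P i := stepQ 15678 Q15678 (allL N15678 (tt N15270 F38805) (tt N18065 F45242) (tt N16109 (iv2 F39924)) (tt N30928 (iv3 F79686)) (tt N7668 (iv4 D24797)) (tt N18271 (iv5 F45676)) (tt N18788 (iv6 F46510)) (tt N16107 (iv7 F39916)))
theorem Q15680 : ∀ i, i < 15680 → P i := stepQ 15679 Q15679 (allL N15679 (tt N19666 (iv1 F48109)) (tt N8945 (iv0 F38810)) (tt N9984 F38806) (tt N7671 F38807) (tt N15456 F38809) (tt N7670 (iv5 D24798)) (tt N31316 D50988) (tt N9630 F38808))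
theorem Q15681 : ∀ i, i < 15681 → P i := stepQ 15680 Q15680 (allL N15680 (tt N16236 (iv1 F40198)) (tt N30562 F78874) (tt N16033 (iv2 F39648)) (tt N31317 D50989) (tt N7671 (iv4 D24799)) (tt N31318 D50990) (tt N31319 D50991) (tt N15263 F38812))
theorem Q15682 : ∀ i, i < 15682 → P i := stepQ 15681 Q15681 (allL N15681 (tt N18147 F166170) (tt N31250 F80277) (tt N16034 (iv2 F39651)) (tt N31316 (iv3 F80426)) (tt N31319 (iv4 F80434)) (tt N15681 F38813) (tt N7671 (iv6 D24800)) (tt N16081 (iv7 F39813)))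
theorem Q15683 : ∀ i, i < 15683 → P i := stepQ 15682 Q15682 (allL N15682 (tt N16044 (iv1 F39686)) (tt N16043 F39685) (tt N7676 F38814) (tt N31320 D50992) (tt N7672 (iv4 D24801)) (tt N31321 D50993) (tt N31322 D50994) (tt N16035 (iv7 F39655)))
theorem Q15684 : ∀ i, i < 15684 → P i := stepQ 15683 Q15683 (allL N15683 (tt N31270 (iv1 F80317)) (tt N16087 (iv0 F39841)) (tt N7677 F38815) (tt N16083 (iv3 F39819)) (tt N31322 (iv4 F80439)) (tt N18283 (iv5 F45722)) (tt N7672 (iv6 D24802)) (tt N31269 (iv7 F80313)))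
theorem Q15685 : ∀ i, i < 15685 → P i := stepQ 15684 Q15684 (allL N15684 (tt N7680 (iv1 F38820)) (tt N7673 (iv0 D24803)) (tt N7678 (iv2 F38818)) (tt N9989 (iv3 F38960)) (tt N16099 (iv4 F39874)) (tt N9001 F38816) (tt N7856 F38817) (tt N7679 F38819))
theorem Q15686 : ∀ i, i < 15686 → P i := stepQ 15685 Q15685 (allL N15685 (tt N7679 (iv1 F38823)) (tt N7678 F38824) (tt N7680 F38821) (tt N16084 (iv3 F39822)) (tt N9837 F38822) (tt N16792 (iv5 F41140)) (tt N16037 (iv6 F39664)) (tt N7673 (iv7 D24804)))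
theorem Q15687 : ∀ i, i < 15687 → P i := stepQ 15686 Q15686 (allL N15686 (tt N18027 (iv1 F45144)) (tt N18061 (iv0 F45231)) (tt N18062 F45234) (tt N7674 (iv3 D24805)) (tt N15516 F38825) (tt N16064 (iv5 F39758)) (tt N31323 D50995) (tt N16038 (iv7 F39668)))
theorem Q15688 : ∀ i, i < 15688 → P i := stepQ 15687 Q15687 (allL N15687 (tt N31324 D50996) (tt N16221 (iv0 F40178)) (tt N16041 (iv2 F39680)) (tt N31325 D50997) (tt N7674 (iv4 D24806)) (tt N31326 D50998) (tt N31327 D50999) (tt N16039 (iv7 F39677)))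
theorem Q15689 : ∀ i, i < 15689 → P i := stepQ 15688 Q15688 (allL N15688 (tt N16083 F39820) (tt N16098 F39870) (tt N16042 (iv2 F39683)) (tt N31323 (iv3 F80440)) (tt N31327 (iv4 F80450)) (tt N15286 F38826) (tt N7674 (iv6 D24807)) (tt N16096 (iv7 F82018)))
theorem Q15690 : ∀ i, i < 15690 → P i := stepQ 15689 Q15689 (allL N15689 (tt N9977 (iv1 F38830)) (tt N7971 F38829) (tt N9986 (iv2 F38832)) (tt N7675 (iv3 D24808)) (tt N15418 (iv4 F38828)) (tt N9017 F38827) (tt N31328 D51001) (tt N9985 (iv7 F38833)))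
theorem Q15691 : ∀ i, i < 15691 → P i := stepQ 15690 Q15690 (allL N15690 (tt N16221 (iv1 F40179)) (tt N31324 F80446) (tt N16039 (iv2 F39676)) (tt N31329 D51002) (tt N7675 (iv4 D24809)) (tt N31330 D51003) (tt N31331 D51004) (tt N16041 (iv7 F39681)))
theorem Q15692 : ∀ i, i < 15692 → P i := stepQ 15691 Q15691 (allL N15691 (tt N31305 (iv1 F166157)) (tt N31332 D51006) (tt N16040 (iv2 F39679)) (tt N31328 (iv3 F80454)) (tt N31331 (iv4 F80460)) (tt N9021 F38835) (tt N7675 (iv6 D24810)) (tt N31333 D51007))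
theorem Q15693 : ∀ i, i < 15693 → P i := stepQ 15692 Q15692 (allL N15692 (tt N16035 (iv1 F39657)) (tt N7676 (iv0 D24811)) (tt N16044 F39688) (tt N31334 D51008) (tt N15863 F39303) (tt N31335 D51009) (tt N31336 D51010) (tt N16043 (iv7 F39691)))
theorem Q15694 : ∀ i, i < 15694 → P i := stepQ 15693 Q15693 (allL N15693 (tt N7676 (iv1 D24812)) (tt N16035 (iv0 F39656)) (tt N16043 F39690) (tt N31337 D51011) (tt N9818 F38836) (tt N31338 D51012) (tt N31339 D51013) (tt N16044 F39689))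
theorem Q15695 : ∀ i, i < 15695 → P i := stepQ 15694 Q15694 (allL N15694 (tt N31340 D51014) (tt N31341 D51015) (tt N31342 D51016) (tt N7676 (iv3 D24813)) (tt N7681 F38837) (tt N31343 D51017) (tt N25504 (iv6 F323894)) (tt N16045 (iv7 F39693)))
theorem Q15696 : ∀ i, i < 15696 → P i := stepQ 15695 Q15695 (allL N15695 (tt N31344 D51019) (tt N21296 (iv0 F51036)) (tt N31321 (iv2 F80435)) (tt N31343 (iv3 F80475)) (tt N31345 D51020) (tt N7676 (iv5 D24814)) (tt N31346 D51021) (tt N16046 (iv7 F39694)))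
theorem Q15697 : ∀ i, i < 15697 → P i := stepQ 15696 Q15696 (allL N15696 (tt N31347 D51022) (tt N31276 (iv0 F81157)) (tt N31322 (iv2 F80438)) (tt N25504 F325157) (tt N7677 F38838) (tt N31348 D51024) (tt N7676 (iv6 D24815)) (tt N31349 D51025))
theorem Q15698 : ∀ i, i < 15698 → P i := stepQ 15697 Q15697 (allL N15697 (tt N31269 (iv1 F80312)) (tt N7677 (iv0 D24816)) (tt N31270 (iv2 F80315)) (tt N31350 D51026) (tt N31351 D51027) (tt N30473 F80302) (tt N31263 F80300) (tt N16087 (iv7 F80301)))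
theorem Q15699 : ∀ i, i < 15699 → P i := stepQ 15698 Q15698 (allL N15698 (tt N16087 (iv1 F39842)) (tt N31270 F80316) (tt N31269 F80314) (tt N7684 F38839) (tt N31349 (iv4 F80486)) (tt N20849 (iv5 F49690)) (tt N16050 (iv6 F39697)) (tt N7677 (iv7 D24817)))
theorem Q15700 : ∀ i, i < 15700 → P i := stepQ 15699 Q15699 (allL N15699 (tt N16109 F39927) (tt N16107 F39928) (tt N18065 F45241) (tt N7678 (iv3 D24818)) (tt N20351 (iv4 F49167)) (tt N9022 F38840) (tt N20350 (iv6 F49164)) (tt N15270 F38841))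
theorem Q15701 : ∀ i, i < 15701 → P i := stepQ 15700 Q15700 (allL N15700 (tt N30445 (iv1 F78570)) (tt N7983 (iv0 F39412)) (tt N16099 F39875) (tt N20353 (iv3 F49178)) (tt N7678 (iv4 D24819)) (tt N9856 F38843) (tt N20352 F49176) (tt N15273 F38842))
theorem Q15702 : ∀ i, i < 15702 → P i := stepQ 15701 Q15701 (allL N15701 (tt N7850 F38846) (tt N7857 (iv0 F38848)) (tt N7856 F38844) (tt N20350 (iv3 F49162)) (tt N20352 (iv4 F49173)) (tt N9430 F38847) (tt N7678 (iv6 D24820)) (tt N7855 F38845))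
theorem Q15703 : ∀ i, i < 15703 → P i := stepQ 15702 Q15702 (allL N15702 (tt N11848 (iv1 F321414)) (tt N7681 (iv0 D24821)) (tt N11870 F319438) (tt N31352 D51029) (tt N25047 F319439) (tt N11899 (iv5 F321420)) (tt N8650 F319440) (tt N16058 F171311))
theorem Q15704 : ∀ i, i < 15704 → P i := stepQ 15703 Q15703 (allL N15703 (tt N7681 (iv1 D24822)) (tt N11848 (iv0 F321413)) (tt N16058 F171307) (tt N31353 D51034) (tt N31354 D51035) (tt N11702 (iv5 F321425)) (tt N11703 (iv6 F321427)) (tt N11870 F319444))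
theorem Q15705 : ∀ i, i < 15705 → P i := stepQ 15704 Q15704 (allL N15704 (tt N11870 F320727) (tt N16058 F39722) (tt N7681 (iv2 D24823)) (tt N11879 (iv3 F321502)) (tt N31342 (iv4 F80474)) (tt N15606 F38849) (tt N11008 (iv6 F322489)) (tt N11848 (iv7 F321416)))
theorem Q15706 : ∀ i, i < 15706 → P i := stepQ 15705 Q15705 (allL N15705 (tt N15940 (iv1 F39353)) (tt N15970 F39460) (tt N8639 (iv2 F324813)) (tt N11020 (iv3 F324432)) (tt N7684 F38852) (tt N8626 F323520) (tt N8627 (iv6 F324843)) (tt N7682 (iv7 D24827)))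
theorem Q15707 : ∀ i, i < 15707 → P i := stepQ 15706 Q15706 (allL N15706 (tt N18402 (iv1 F45889)) (tt N7985 F45884) (tt N18401 F45882) (tt N7683 (iv3 D24828)) (tt N31355 D51047) (tt N30497 (iv5 F78636)) (tt N31299 (iv6 F80358)) (tt N16057 F39721))
theorem Q15708 : ∀ i, i < 15708 → P i := stepQ 15707 Q15707 (allL N15707 (tt N12220 (iv1 F323837)) (tt N7819 F38858) (tt N15556 F38855) (tt N24326 (iv3 F324014)) (tt N7683 (iv4 D24829)) (tt N24319 (iv5 F324122)) (tt N31304 (iv6 F80386)) (tt N15526 F38853))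
theorem Q15709 : ∀ i, i < 15709 → P i := stepQ 15708 Q15708 (allL N15708 (tt N15724 (iv1 F38902)) (tt N10267 (iv0 F38861)) (tt N15756 (iv2 F39009)) (tt N7686 (iv3 D24830)) (tt N30928 (iv4 F79685)) (tt N9985 F38859) (tt N15749 (iv6 F38995)) (tt N9017 F38860))
theorem Q15710 : ∀ i, i < 15710 → P i := stepQ 15709 Q15709 (allL N15709 (tt N7870 F38864) (tt N8994 (iv0 F38866)) (tt N9014 F38862) (tt N15749 (iv3 F38993)) (tt N18787 (iv4 F46505)) (tt N15266 (iv5 F38865)) (tt N7686 (iv6 D24831)) (tt N8999 F38863))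
theorem Q15711 : ∀ i, i < 15711 → P i := stepQ 15710 Q15710 (allL N15710 (tt N14780 F38871) (tt N19899 (iv0 F48559)) (tt N7689 F38867) (tt N7705 F38868) (tt N9833 F38870) (tt N7688 (iv5 D24832)) (tt N14759 F38869) (tt N18276 (iv7 F45695)))
theorem Q15712 : ∀ i, i < 15712 → P i := stepQ 15711 Q15711 (allL N15711 (tt N9733 F38874) (tt N9737 F38875) (tt N9833 F38872) (tt N31356 D51050) (tt N7689 (iv4 D24833)) (tt N31357 D51051) (tt N18016 (iv6 F45110)) (tt N9832 F38873))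
theorem Q15713 : ∀ i, i < 15713 → P i := stepQ 15712 Q15712 (allL N15712 (tt N31358 D51052) (tt N31359 D51053) (tt N31360 D51054) (tt N7690 (iv3 D24834)) (tt N31356 (iv4 F80499)) (tt N15798 (iv5 F39067)) (tt N18023 (iv6 F45130)) (tt N15797 F39065))
theorem Q15714 : ∀ i, i < 15714 → P i := stepQ 15713 Q15713 (allL N15713 (tt N31361 D51055) (tt N26481 (iv0 F65297)) (tt N27231 (iv2 F69405)) (tt N7691 (iv3 D24835)) (tt N15010 F38876) (tt N29994 (iv5 F77749)) (tt N23138 (iv6 F55039)) (tt N15178 F38877))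
theorem Q15715 : ∀ i, i < 15715 → P i := stepQ 15714 Q15714 (allL N15714 (tt N31362 D51056) (tt N7693 (iv0 D24836)) (tt N30675 (iv2 F79122)) (tt N31363 D51057) (tt N21571 F55492) (tt N31364 D51058) (tt N20899 (iv6 F55493)) (tt N31365 D51059))
theorem Q15716 : ∀ i, i < 15716 → P i := stepQ 15715 Q15715 (allL N15715 (tt N7693 (iv1 D24837)) (tt N31362 F80517) (tt N31365 (iv2 F80521)) (tt N19403 (iv3 F78795)) (tt N21572 (iv4 F51527)) (tt N31366 D51060) (tt N31367 D51061) (tt N30675 (iv7 F79123)))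
theorem Q15717 : ∀ i, i < 15717 → P i := stepQ 15716 Q15716 (allL N15716 (tt N30675 F79126) (tt N31365 F80523) (tt N7693 (iv2 D24838)) (tt N15182 F38878) (tt N8487 F38879) (tt N31368 D51062) (tt N8481 F38880) (tt N31362 (iv7 F80516)))
theorem Q15718 : ∀ i, i < 15718 → P i := stepQ 15717 Q15717 (allL N15717 (tt N31369 D51063) (tt N31370 D51064) (tt N31368 (iv2 F80525)) (tt N7694 F38881) (tt N31371 D51065) (tt N7693 (iv5 D24839)) (tt N31372 D51066) (tt N31373 D51067))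
theorem Q15719 : ∀ i, i < 15719 → P i := stepQ 15718 Q15718 (allL N15718 (tt N31365 (iv1 F80524)) (tt N30675 (iv0 F79124)) (tt N31362 F80513) (tt N7695 F38882) (tt N8489 F38883) (tt N31373 (iv5 F80531)) (tt N21483 (iv6 F51375)) (tt N7693 (iv7 D24840)))
theorem Q15720 : ∀ i, i < 15720 → P i := stepQ 15719 Q15719 (allL N15719 (tt N19145 (iv1 F46977)) (tt N19134 (iv0 F46960)) (tt N15185 F38884) (tt N31374 D51068) (tt N7694 (iv4 D24841)) (tt N15035 F38885) (tt N31375 D51069) (tt N15034 (iv7 F38886)))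
theorem Q15721 : ∀ i, i < 15721 → P i := stepQ 15720 Q15720 (allL N15720 (tt N31376 D51070) (tt N31377 D51071) (tt N15186 F38887) (tt N31372 (iv3 F80528)) (tt N31375 (iv4 F80535)) (tt N8483 F38888) (tt N7694 (iv6 D24842)) (tt N31378 D51072))
theorem Q15722 : ∀ i, i < 15722 → P i := stepQ 15721 Q15721 (allL N15721 (tt N14964 (iv1 F38892)) (tt N14959 F38893) (tt N15187 F38889) (tt N31373 (iv3 F80530)) (tt N15034 F38890) (tt N7695 F38891) (tt N31379 D51073) (tt N7694 (iv7 D24843)))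
theorem Q15723 : ∀ i, i < 15723 → P i := stepQ 15722 Q15722 (allL N15722 (tt N31380 D51074) (tt N15210 (iv0 F38897)) (tt N7707 F38894) (tt N14759 F38895) (tt N22708 (iv4 F53723)) (tt N7696 (iv5 D24844)) (tt N7705 F38896) (tt N19545 (iv7 F47949)))
theorem Q15724 : ∀ i, i < 15724 → P i := stepQ 15723 Q15723 (allL N15723 (tt N19675 F48136) (tt N18730 F46441) (tt N9389 F38898) (tt N18228 (iv3 F45574)) (tt N31381 D51075) (tt N7697 (iv5 D24845)) (tt N31382 D51076) (tt N15730 (iv7 F38918)))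
theorem Q15725 : ∀ i, i < 15725 → P i := stepQ 15724 Q15724 (allL N15724 (tt N7715 (iv1 F38901)) (tt N15708 F38902) (tt N9390 F38899) (tt N18229 (iv3 F45576)) (tt N7739 F38900) (tt N19666 (iv5 F48111)) (tt N7697 (iv6 D24846)) (tt N18298 (iv7 F45757)))
theorem Q15726 : ∀ i, i < 15726 → P i := stepQ 15725 Q15725 (allL N15725 (tt N15734 (iv1 F38935)) (tt N7698 (iv0 D24847)) (tt N9400 (iv2 F38903)) (tt N18230 (iv3 F45583)) (tt N9597 (iv4 F46993)) (tt N30135 (iv5 F78071)) (tt N31383 D51077) (tt N15732 F38925))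
theorem Q15727 : ∀ i, i < 15727 → P i := stepQ 15726 Q15726 (allL N15726 (tt N19534 F47917) (tt N15427 F38905) (tt N15733 (iv2 F38928)) (tt N31384 D51078) (tt N7698 (iv4 D24848)) (tt N31385 D51079) (tt N15349 F38904) (tt N19575 (iv7 F47996)))
theorem Q15728 : ∀ i, i < 15728 → P i := stepQ 15727 Q15727 (allL N15727 (tt N15732 (iv1 F38922)) (tt N9400 F38926) (tt N15734 (iv2 F38932)) (tt N8997 F38906) (tt N19575 (iv4 F47994)) (tt N7699 F38907) (tt N31386 D51080) (tt N7698 (iv7 D24849)))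
theorem Q15729 : ∀ i, i < 15729 → P i := stepQ 15728 Q15728 (allL N15728 (tt N30695 F79248) (tt N9207 (iv0 F45149)) (tt N8981 F38908) (tt N7702 F38909) (tt N19745 (iv4 F48221)) (tt N7700 (iv5 D24850)) (tt N8984 F38910) (tt N31387 D51081))
theorem Q15730 : ∀ i, i < 15730 → P i := stepQ 15729 Q15729 (allL N15729 (tt N8980 (iv1 F38915)) (tt N8979 F38916) (tt N8982 F38911) (tt N7703 F38912) (tt N7937 F38913) (tt N31387 (iv5 F80567)) (tt N15729 F38914) (tt N7700 (iv7 D24851)))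
theorem Q15731 : ∀ i, i < 15731 → P i := stepQ 15730 Q15730 (allL N15730 (tt N19125 (iv1 F46941)) (tt N19124 F46938) (tt N11095 F38917) (tt N18243 (iv3 F45599)) (tt N31388 D51082) (tt N7701 (iv5 D24852)) (tt N31389 D51083) (tt N15723 F38918))
theorem Q15732 : ∀ i, i < 15732 → P i := stepQ 15731 Q15731 (allL N15731 (tt N31241 F80255) (tt N7711 F38921) (tt N11096 F38919) (tt N18244 (iv3 F45602)) (tt N7747 F38920) (tt N19667 (iv5 F48115)) (tt N7701 (iv6 D24853)) (tt N31242 (iv7 F80260)))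
theorem Q15733 : ∀ i, i < 15733 → P i := stepQ 15732 Q15732 (allL N15732 (tt N7702 (iv1 D24855)) (tt N15727 F38922) (tt N14991 F38924) (tt N18245 F45608) (tt N19536 (iv4 F47922)) (tt N15048 (iv5 F38923)) (tt N31390 D51084) (tt N15725 (iv7 F38925)))
theorem Q15734 : ∀ i, i < 15734 → P i := stepQ 15733 Q15733 (allL N15733 (tt N9592 F38930) (tt N9595 F38931) (tt N15726 F38928) (tt N31391 D51085) (tt N7702 (iv4 D24856)) (tt N31392 D51086) (tt N15370 F38929) (tt N30865 (iv7 F79599)))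
theorem Q15735 : ∀ i, i < 15735 → P i := stepQ 15734 Q15734 (allL N15734 (tt N14991 (iv1 F38934)) (tt N15725 F38935) (tt N15727 F38932) (tt N31387 (iv3 F80565)) (tt N30865 (iv4 F79600)) (tt N7703 F38933) (tt N31393 D51087) (tt N7702 (iv7 D24857)))
theorem Q15736 : ∀ i, i < 15736 → P i := stepQ 15735 Q15735 (allL N15735 (tt N9991 F38938) (tt N18295 F45745) (tt N7710 F38936) (tt N16186 (iv3 F40100)) (tt N20310 F49130) (tt N7704 (iv5 D24858)) (tt N31394 D51088) (tt N7714 F38937))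
theorem Q15737 : ∀ i, i < 15737 → P i := stepQ 15736 Q15736 (allL N15736 (tt N11096 (iv1 F38946)) (tt N31242 F80262) (tt N7711 F38941) (tt N16187 (iv3 F40104)) (tt N8887 F38942) (tt N9638 F38943) (tt N7704 (iv6 D24859)) (tt N31241 (iv7 F80249)))
theorem Q15738 : ∀ i, i < 15738 → P i := stepQ 15737 Q15737 (allL N15737 (tt N7719 (iv1 F38952)) (tt N7705 (iv0 D24860)) (tt N7716 F38955) (tt N16639 (iv3 F40824)) (tt N19527 (iv4 F47899)) (tt N20421 (iv5 F49249)) (tt N31395 D51089) (tt N7717 F38954))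
theorem Q15739 : ∀ i, i < 15739 → P i := stepQ 15738 Q15738 (allL N15738 (tt N10028 F38948) (tt N8180 F38949) (tt N7718 F38947) (tt N31396 D51090) (tt N7705 (iv4 D24861)) (tt N31397 D51091) (tt N22708 F53726) (tt N10031 F38963))
theorem Q15740 : ∀ i, i < 15740 → P i := stepQ 15739 Q15739 (allL N15739 (tt N7717 (iv1 F38953)) (tt N7716 F38958) (tt N7719 F38950) (tt N18276 (iv3 F45694)) (tt N10031 (iv4 F38962)) (tt N7706 F38951) (tt N31398 D51092) (tt N7705 (iv7 D24862)))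
theorem Q15741 : ∀ i, i < 15741 → P i := stepQ 15740 Q15740 (allL N15740 (tt N19545 (iv1 F47951)) (tt N7707 (iv0 D24863)) (tt N31380 F80548) (tt N15194 (iv3 F38965)) (tt N15807 (iv4 F39079)) (tt N15413 F38964) (tt N31399 D51093) (tt N15210 (iv7 F38966)))
theorem Q15742 : ∀ i, i < 15742 → P i := stepQ 15741 Q15741 (allL N15741 (tt N7707 (iv1 D24864)) (tt N19545 (iv0 F47950)) (tt N15210 F38968) (tt N18280 (iv3 F45706)) (tt N15808 (iv4 F39123)) (tt N15387 (iv5 F38967)) (tt N31400 D51094) (tt N31380 (iv7 F80550)))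
theorem Q15743 : ∀ i, i < 15743 → P i := stepQ 15742 Q15742 (allL N15742 (tt N9896 F38970) (tt N15821 (iv0 F39112)) (tt N22708 F53725) (tt N31401 D51095) (tt N7707 (iv4 D24865)) (tt N31402 D51096) (tt N7718 F38969) (tt N22709 (iv7 F53729)))
theorem Q15744 : ∀ i, i < 15744 → P i := stepQ 15743 Q15743 (allL N15743 (tt N15210 (iv1 F38973)) (tt N31380 F80549) (tt N19545 (iv2 F47947)) (tt N7723 F38971) (tt N22709 F53730) (tt N7708 F38972) (tt N31403 D51097) (tt N7707 (iv7 D24866)))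
theorem Q15745 : ∀ i, i < 15745 → P i := stepQ 15744 Q15744 (allL N15744 (tt N15443 F38976) (tt N15645 F39848) (tt N8886 F38974) (tt N14770 F38975) (tt N31404 D51098) (tt N7709 (iv5 D24867)) (tt N31405 D51099) (tt N18293 (iv7 F45735)))
theorem Q15746 : ∀ i, i < 15746 → P i := stepQ 15745 Q15745 (allL N15745 (tt N9587 (iv1 F38983)) (tt N15657 (iv0 F38982)) (tt N8887 F38977) (tt N14771 F38978) (tt N7711 F38979) (tt N15369 F38980) (tt N7709 (iv6 D24868)) (tt N20347 (iv7 F49153)))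
theorem Q15747 : ∀ i, i < 15747 → P i := stepQ 15746 Q15746 (allL N15746 (tt N7714 (iv1 F38990)) (tt N7710 (iv0 D24869)) (tt N9991 (iv2 F38989)) (tt N18277 (iv3 F45701)) (tt N9936 (iv4 F38991)) (tt N9978 F38988) (tt N31406 D51100) (tt N18295 (iv7 F45746)))
theorem Q15748 : ∀ i, i < 15748 → P i := stepQ 15747 Q15747 (allL N15747 (tt N15452 F38992) (tt N16683 (iv0 F40918)) (tt N20310 (iv2 F49131)) (tt N31407 D51101) (tt N7710 (iv4 D24870)) (tt N31408 D51102) (tt N31409 D51103) (tt N18296 (iv7 F45748)))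
theorem Q15749 : ∀ i, i < 15749 → P i := stepQ 15748 Q15748 (allL N15748 (tt N31410 D51104) (tt N31411 D51105) (tt N31394 (iv2 F80583)) (tt N18259 (iv3 F45646)) (tt N31409 (iv4 F80619)) (tt N30610 (iv5 F78976)) (tt N7710 (iv6 D24871)) (tt N31412 D51106))
theorem Q15750 : ∀ i, i < 15750 → P i := stepQ 15749 Q15749 (allL N15749 (tt N31242 (iv1 F80261)) (tt N11096 (iv0 F46509)) (tt N31241 (iv2 F80254)) (tt N15709 F38993) (tt N20347 (iv4 F49150)) (tt N9637 F38994) (tt N15708 F38995) (tt N7711 (iv7 D24872)))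
theorem Q15751 : ∀ i, i < 15751 → P i := stepQ 15750 Q15750 (allL N15750 (tt N18271 (iv1 F45675)) (tt N16822 F41234) (tt N15431 F38996) (tt N7714 F38997) (tt N20355 (iv4 F49186)) (tt N7712 (iv5 D24873)) (tt N31413 D51107) (tt N16186 (iv7 F40101)))
theorem Q15752 : ∀ i, i < 15752 → P i := stepQ 15751 Q15751 (allL N15751 (tt N16100 F39881) (tt N16101 F39886) (tt N15432 F38998) (tt N7715 F38999) (tt N15430 F39000) (tt N20433 (iv5 F49290)) (tt N7712 (iv6 D24874)) (tt N30448 (iv7 F78579)))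
theorem Q15753 : ∀ i, i < 15753 → P i := stepQ 15752 Q15752 (allL N15752 (tt N15645 (iv1 F39849)) (tt N15443 F39003) (tt N18293 (iv2 F45733)) (tt N8880 F39001) (tt N31414 D51108) (tt N7713 (iv5 D24875)) (tt N31415 D51109) (tt N8886 F39002))
theorem Q15754 : ∀ i, i < 15754 → P i := stepQ 15753 Q15753 (allL N15753 (tt N15462 F39215) (tt N15473 F39007) (tt N18294 (iv2 F45738)) (tt N8881 F39004) (tt N7715 F39005) (tt N10145 (iv5 F39006)) (tt N7713 (iv6 D24876)) (tt N19550 (iv7 F47957)))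
theorem Q15755 : ∀ i, i < 15755 → P i := stepQ 15754 Q15754 (allL N15754 (tt N16683 (iv1 F40919)) (tt N15452 F39008) (tt N18296 (iv2 F45747)) (tt N31416 D51110) (tt N7714 (iv4 D24877)) (tt N31417 D51111) (tt N31418 D51112) (tt N20310 (iv7 F49129)))
theorem Q15756 : ∀ i, i < 15756 → P i := stepQ 15755 Q15755 (allL N15755 (tt N21030 (iv1 F93914)) (tt N31419 D51114) (tt N18297 (iv2 F45751)) (tt N31413 (iv3 F80621)) (tt N31418 (iv4 F80631)) (tt N20435 (iv5 F49299)) (tt N7714 (iv6 D24878)) (tt N31420 D51115))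
theorem Q15757 : ∀ i, i < 15757 → P i := stepQ 15756 Q15756 (allL N15756 (tt N9390 (iv1 F39010)) (tt N18298 F45756) (tt N15708 F39009) (tt N30448 F78582) (tt N19550 (iv4 F47958)) (tt N16261 F40219) (tt N31241 F80253) (tt N7715 (iv7 D24879)))
theorem Q15758 : ∀ i, i < 15758 → P i := stepQ 15757 Q15757 (allL N15757 (tt N16680 (iv1 F40906)) (tt N9565 (iv0 F39011)) (tt N19527 F47900) (tt N31421 D51116) (tt N7716 (iv4 D24880)) (tt N31422 D51117) (tt N31423 D51118) (tt N18315 (iv7 F45774)))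
theorem Q15759 : ∀ i, i < 15759 → P i := stepQ 15758 Q15758 (allL N15758 (tt N31424 D51119) (tt N31425 D51120) (tt N31395 (iv2 F80585)) (tt N18263 (iv3 F45656)) (tt N31423 (iv4 F80638)) (tt N31426 D51121) (tt N7716 (iv6 D24881)) (tt N31427 D51122))
theorem Q15760 : ∀ i, i < 15760 → P i := stepQ 15759 Q15759 (allL N15759 (tt N15189 (iv1 F40758)) (tt N16079 F40757) (tt N16643 (iv2 F40832)) (tt N7717 (iv3 D24882)) (tt N16591 (iv4 F40756)) (tt N18012 (iv5 F45100)) (tt N31428 D51123) (tt N16639 F40826))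
theorem Q15761 : ∀ i, i < 15761 → P i := stepQ 15760 Q15760 (allL N15760 (tt N9565 F39012) (tt N16680 (iv0 F40905)) (tt N18315 (iv2 F45773)) (tt N31429 D51124) (tt N7717 (iv4 D24883)) (tt N31430 D51125) (tt N31431 D51126) (tt N19527 (iv7 F47902)))
theorem Q15762 : ∀ i, i < 15762 → P i := stepQ 15761 Q15761 (allL N15761 (tt N31432 D51127) (tt N31433 D51128) (tt N18316 (iv2 F45777)) (tt N31428 (iv3 F80642)) (tt N31431 (iv4 F80646)) (tt N31434 D51129) (tt N7717 (iv6 D24884)) (tt N31435 D51130))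
theorem Q15763 : ∀ i, i < 15763 → P i := stepQ 15762 Q15762 (allL N15762 (tt N7718 (iv1 D24885)) (tt N10031 F39013) (tt N8180 (iv2 F39016)) (tt N31436 D51131) (tt N8179 F39015) (tt N31437 D51132) (tt N31438 D51133) (tt N10028 F39014))
theorem Q15764 : ∀ i, i < 15764 → P i := stepQ 15763 Q15763 (allL N15763 (tt N31439 D51134) (tt N31440 D51135) (tt N31441 D51136) (tt N7718 (iv3 D24886)) (tt N7733 F39017) (tt N31442 D51137) (tt N31401 (iv6 F80601)) (tt N31443 D51138))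
theorem Q15765 : ∀ i, i < 15765 → P i := stepQ 15764 Q15764 (allL N15764 (tt N9939 F39018) (tt N31444 D51139) (tt N31397 (iv2 F80588)) (tt N31442 (iv3 F80659)) (tt N31445 D51140) (tt N7718 (iv5 D24887)) (tt N31446 D51141) (tt N31447 D51142))
theorem Q15766 : ∀ i, i < 15766 → P i := stepQ 15765 Q15765 (allL N15765 (tt N8180 (iv1 F39021)) (tt N10028 F39022) (tt N10031 F39019) (tt N31443 (iv3 F80660)) (tt N7719 F39020) (tt N31447 (iv5 F80674)) (tt N31448 D51143) (tt N7718 (iv7 D24888)))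
theorem Q15767 : ∀ i, i < 15767 → P i := stepQ 15766 Q15766 (allL N15766 (tt N31449 D51144) (tt N31450 D51145) (tt N31398 (iv2 F80593)) (tt N7736 F39023) (tt N31448 (iv4 F80678)) (tt N15766 F39024) (tt N7719 (iv6 D24889)) (tt N31403 (iv7 F80605)))
theorem Q15768 : ∀ i, i < 15768 → P i := stepQ 15767 Q15767 (allL N15767 (tt N30640 (iv1 F79040)) (tt N30639 F79036) (tt N11134 F39025) (tt N31451 D51146) (tt N7720 (iv4 D24890)) (tt N31452 D51147) (tt N31453 D51148) (tt N18018 (iv7 F45115)))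
theorem Q15769 : ∀ i, i < 15769 → P i := stepQ 15768 Q15768 (allL N15768 (tt N31454 D51149) (tt N31455 D51150) (tt N11135 F39026) (tt N16113 (iv3 F39941)) (tt N31453 (iv4 F80685)) (tt N18353 (iv5 F45823)) (tt N7720 (iv6 D24891)) (tt N31456 D51151))
theorem Q15770 : ∀ i, i < 15770 → P i := stepQ 15769 Q15769 (allL N15769 (tt N15083 F39029) (tt N14944 F39030) (tt N15079 F39027) (tt N31457 D51152) (tt N7721 (iv4 D24892)) (tt N31458 D51153) (tt N31459 D51154) (tt N15080 F39028))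
theorem Q15771 : ∀ i, i < 15771 → P i := stepQ 15770 Q15770 (allL N15770 (tt N31460 D51155) (tt N31461 D51156) (tt N15218 F39031) (tt N16115 (iv3 F39947)) (tt N31459 (iv4 F80700)) (tt N16288 F40268) (tt N7721 (iv6 D24893)) (tt N31462 D51157))
theorem Q15772 : ∀ i, i < 15772 → P i := stepQ 15771 Q15771 (allL N15771 (tt N31463 D51158) (tt N31464 D51159) (tt N31465 D51160) (tt N7722 (iv3 D24894)) (tt N31401 (iv4 F80600)) (tt N31466 D51161) (tt N7733 F39032) (tt N31467 D51162))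
theorem Q15773 : ∀ i, i < 15773 → P i := stepQ 15772 Q15772 (allL N15772 (tt N30167 (iv1 F78137)) (tt N30175 (iv0 F78150)) (tt N18024 (iv2 F45131)) (tt N31466 (iv3 F80708)) (tt N30206 (iv4 F78175)) (tt N7722 (iv5 D24895)) (tt N31468 D51163) (tt N30204 F78173))
theorem Q15774 : ∀ i, i < 15774 → P i := stepQ 15773 Q15773 (allL N15773 (tt N18022 (iv1 F45126)) (tt N18021 F45125) (tt N18025 (iv2 F45132)) (tt N31467 (iv3 F80709)) (tt N7723 F39033) (tt N30204 (iv5 F78172)) (tt N31469 D51164) (tt N7722 (iv7 D24896)))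
theorem Q15775 : ∀ i, i < 15775 → P i := stepQ 15774 Q15774 (allL N15774 (tt N21008 (iv1 F50019)) (tt N18380 F100217) (tt N18026 (iv2 F45136)) (tt N31403 (iv3 F80603)) (tt N31469 (iv4 F80711)) (tt N15774 F39034) (tt N7723 (iv6 D24897)) (tt N7736 F39035))
theorem Q15776 : ∀ i, i < 15776 → P i := stepQ 15775 Q15775 (allL N15775 (tt N31470 D51165) (tt N31471 D51166) (tt N31472 D51167) (tt N7724 (iv3 D24898)) (tt N20788 (iv4 F49615)) (tt N10098 F39036) (tt N29291 F302686) (tt N15167 F39037))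
theorem Q15777 : ∀ i, i < 15777 → P i := stepQ 15776 Q15776 (allL N15776 (tt N31473 D51169) (tt N31474 D51170) (tt N15154 F39038) (tt N29291 F302683) (tt N7725 F39039) (tt N31475 D51171) (tt N7724 (iv6 D24899)) (tt N31476 D51172))
theorem Q15778 : ∀ i, i < 15778 → P i := stepQ 15777 Q15777 (allL N15777 (tt N15158 (iv1 F39047)) (tt N7725 (iv0 D24900)) (tt N15155 F103494) (tt N31477 D51174) (tt N30226 (iv4 F111251)) (tt N10157 F39040) (tt N31454 (iv6 F80686)) (tt N15156 (iv7 F103500)))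
theorem Q15779 : ∀ i, i < 15779 → P i := stepQ 15778 Q15778 (allL N15778 (tt N7725 (iv1 D24901)) (tt N15158 F39041) (tt N15156 (iv2 F103499)) (tt N31411 (iv3 F111412)) (tt N30227 (iv4 F111248)) (tt N10156 (iv5 F39044)) (tt N31478 D51179) (tt N15155 F103495))
theorem Q15780 : ∀ i, i < 15780 → P i := stepQ 15779 Q15779 (allL N15779 (tt N31479 D51180) (tt N31480 D51181) (tt N15157 F39042) (tt N18020 (iv3 F45120)) (tt N31481 D51182) (tt N7725 (iv5 D24902)) (tt N7726 F39043) (tt N31482 D51183))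
theorem Q15781 : ∀ i, i < 15781 → P i := stepQ 15780 Q15780 (allL N15780 (tt N15156 (iv1 F39048)) (tt N15155 F39049) (tt N15158 F39045) (tt N20793 (iv3 F49624)) (tt N31476 (iv4 F80724)) (tt N31482 (iv5 F80740)) (tt N15172 F39046) (tt N7725 (iv7 D24903)))
theorem Q15782 : ∀ i, i < 15782 → P i := stepQ 15781 Q15781 (allL N15781 (tt N7928 F39051) (tt N16180 F40083) (tt N15161 F39050) (tt N31483 D51184) (tt N7726 (iv4 D24904)) (tt N31484 D51185) (tt N31481 (iv6 F80738)) (tt N16114 (iv7 F39944)))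
theorem Q15783 : ∀ i, i < 15783 → P i := stepQ 15782 Q15782 (allL N15782 (tt N18354 (iv1 F45824)) (tt N16176 (iv0 F40077)) (tt N14792 F39052) (tt N31485 D51186) (tt N7728 (iv4 D24905)) (tt N31486 D51187) (tt N31487 D51188) (tt N18352 (iv7 F45819)))
theorem Q15784 : ∀ i, i < 15784 → P i := stepQ 15783 Q15783 (allL N15783 (tt N31488 D51189) (tt N31489 D51190) (tt N14793 F39053) (tt N7730 F39054) (tt N31487 (iv4 F80757)) (tt N19148 (iv5 F46982)) (tt N7728 (iv6 D24906)) (tt N31490 D51191))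
theorem Q15785 : ∀ i, i < 15785 → P i := stepQ 15784 Q15784 (allL N15784 (tt N31491 D51192) (tt N31492 D51193) (tt N31493 D51194) (tt N7729 (iv3 D24907)) (tt N31485 (iv4 F80749)) (tt N10261 F39055) (tt N31494 D51195) (tt N15137 F39056))
theorem Q15786 : ∀ i, i < 15786 → P i := stepQ 15785 Q15785 (allL N15785 (tt N31495 D51196) (tt N31496 D51197) (tt N15136 F39057) (tt N31494 (iv3 F80772)) (tt N7730 F39058) (tt N31497 D51198) (tt N7729 (iv6 D24908)) (tt N31498 D51199))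
theorem Q15787 : ∀ i, i < 15787 → P i := stepQ 15786 Q15786 (allL N15786 (tt N18346 (iv1 F45813)) (tt N7730 (iv0 D24909)) (tt N18343 F103537) (tt N31499 D51201) (tt N30276 (iv4 F103596)) (tt N31500 D51203) (tt N20834 (iv6 F82354)) (tt N18344 F103538))
theorem Q15788 : ∀ i, i < 15788 → P i := stepQ 15787 Q15787 (allL N15787 (tt N7730 (iv1 D24910)) (tt N18346 F45812) (tt N18344 (iv2 F103535)) (tt N31425 (iv3 F101843)) (tt N30277 (iv4 F102059)) (tt N31501 D51208) (tt N31502 D51209) (tt N18343 (iv7 F103536)))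
theorem Q15789 : ∀ i, i < 15789 → P i := stepQ 15788 Q15788 (allL N15788 (tt N9202 F39060) (tt N31503 D51210) (tt N18345 (iv2 F45805)) (tt N19148 (iv3 F46981)) (tt N31504 D51211) (tt N7730 (iv5 D24911)) (tt N14982 F39059) (tt N31505 D51212))
theorem Q15790 : ∀ i, i < 15790 → P i := stepQ 15789 Q15789 (allL N15789 (tt N18344 (iv1 F45804)) (tt N18343 F45811) (tt N18346 (iv2 F45808)) (tt N31490 (iv3 F80760)) (tt N31498 (iv4 F80777)) (tt N31505 (iv5 F80798)) (tt N30405 (iv6 F78478)) (tt N7730 (iv7 D24912)))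
theorem Q15791 : ∀ i, i < 15791 → P i := stepQ 15790 Q15790 (allL N15790 (tt N31506 D51213) (tt N31507 D51214) (tt N15138 F39061) (tt N20683 (iv3 F49518)) (tt N7732 F39062) (tt N31508 D51215) (tt N7731 (iv6 D24913)) (tt N31509 D51216))
theorem Q15792 : ∀ i, i < 15792 → P i := stepQ 15791 Q15791 (allL N15791 (tt N30405 (iv1 F78481)) (tt N7732 (iv0 D24914)) (tt N30403 F166402) (tt N31432 (iv3 F166201)) (tt N30300 (iv4 F163694)) (tt N18357 (iv5 F82339)) (tt N31510 D51221) (tt N30404 (iv7 F166409)))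
theorem Q15793 : ∀ i, i < 15793 → P i := stepQ 15792 Q15792 (allL N15792 (tt N7732 (iv1 D24915)) (tt N30405 F78480) (tt N30404 (iv2 F166408)) (tt N31511 D51223) (tt N30301 (iv4 F163690)) (tt N18358 F80801) (tt N31460 (iv6 F80802)) (tt N30403 F166407))
theorem Q15794 : ∀ i, i < 15794 → P i := stepQ 15793 Q15793 (allL N15793 (tt N30404 (iv1 F78475)) (tt N30403 F78479) (tt N30405 (iv2 F78476)) (tt N14799 F39063) (tt N31509 (iv4 F80807)) (tt N30638 (iv5 F79018)) (tt N18346 (iv6 F45810)) (tt N7732 (iv7 D24916)))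
theorem Q15795 : ∀ i, i < 15795 → P i := stepQ 15794 Q15794 (allL N15794 (tt N31512 D51225) (tt N7733 (iv0 D24917)) (tt N31513 D51226) (tt N31514 D51227) (tt N31515 D51228) (tt N31516 D51229) (tt N31517 D51230) (tt N31518 D51231))
theorem Q15796 : ∀ i, i < 15796 → P i := stepQ 15795 Q15795 (allL N15795 (tt N7733 (iv1 D24918)) (tt N31512 F80819) (tt N31518 (iv2 F80821)) (tt N31519 D51232) (tt N31520 D51233) (tt N31521 D51234) (tt N31522 D51235) (tt N31513 F80820))
theorem Q15797 : ∀ i, i < 15797 → P i := stepQ 15796 Q15796 (allL N15796 (tt N31513 F181242) (tt N31518 (iv0 F181245)) (tt N7733 (iv2 D24919)) (tt N31360 (iv3 F80505)) (tt N31441 (iv4 F80658)) (tt N31523 D51238) (tt N31465 (iv6 F80707)) (tt N31512 (iv7 F80818)))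
theorem Q15798 : ∀ i, i < 15798 → P i := stepQ 15797 Q15797 (allL N15797 (tt N31524 D51239) (tt N31525 D51240) (tt N31523 (iv2 F80824)) (tt N7734 F39064) (tt N20095 (iv4 F48822)) (tt N7733 (iv5 D24920)) (tt N31526 D51241) (tt N15712 (iv7 F39065)))
theorem Q15799 : ∀ i, i < 15799 → P i := stepQ 15798 Q15798 (allL N15798 (tt N31518 (iv1 F181246)) (tt N31513 F181241) (tt N31512 F80816) (tt N7735 F39066) (tt N31443 (iv4 F80661)) (tt N15712 F39067) (tt N31527 D51242) (tt N7733 (iv7 D24921)))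
theorem Q15800 : ∀ i, i < 15800 → P i := stepQ 15799 Q15799 (allL N15799 (tt N31528 D51243) (tt N31529 D51244) (tt N15800 (iv2 F39069)) (tt N31526 (iv3 F80832)) (tt N10252 F39068) (tt N31468 (iv5 F80710)) (tt N7734 (iv6 D24922)) (tt N31530 D51245))
theorem Q15801 : ∀ i, i < 15801 → P i := stepQ 15800 Q15800 (allL N15800 (tt N30346 (iv1 F165540)) (tt N30350 (iv0 F165546)) (tt N15799 F39069) (tt N31527 (iv3 F80833)) (tt N7736 F39070) (tt N31531 D51248) (tt N7735 (iv6 D24923)) (tt N31469 (iv7 F80712)))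
theorem Q15802 : ∀ i, i < 15802 → P i := stepQ 15801 Q15801 (allL N15801 (tt N18026 (iv1 F45140)) (tt N7736 (iv0 D24924)) (tt N18380 F100196) (tt N20787 F168098) (tt N30340 (iv4 F163993)) (tt N31532 D51252) (tt N31533 D51253) (tt N21008 (iv7 F100221)))
theorem Q15803 : ∀ i, i < 15803 → P i := stepQ 15802 Q15802 (allL N15802 (tt N7736 (iv1 D24925)) (tt N18026 F45139) (tt N21008 (iv2 F100220)) (tt N14806 (iv3 F100181)) (tt N30341 (iv4 F163988)) (tt N31534 D51257) (tt N31535 D51258) (tt N18380 (iv7 F100182)))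
theorem Q15804 : ∀ i, i < 15804 → P i := stepQ 15803 Q15803 (allL N15803 (tt N22677 (iv1 F53582)) (tt N22676 F53581) (tt N9878 F39071) (tt N31536 D51259) (tt N7738 (iv4 D24926)) (tt N31537 D51260) (tt N31538 D51261) (tt N15817 (iv7 F39096)))
theorem Q15805 : ∀ i, i < 15805 → P i := stepQ 15804 Q15804 (allL N15804 (tt N31539 D51262) (tt N31540 D51263) (tt N9879 F39072) (tt N15352 F39073) (tt N31538 (iv4 F80853)) (tt N10062 F39074) (tt N7738 (iv6 D24927)) (tt N31541 D51264))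
theorem Q15806 : ∀ i, i < 15806 → P i := stepQ 15805 Q15805 (allL N15805 (tt N22709 (iv1 F53728)) (tt N22708 F53724) (tt N9896 F39075) (tt N31542 D51265) (tt N7740 (iv4 D24928)) (tt N31543 D51266) (tt N31544 D51267) (tt N15821 (iv7 F39111)))
theorem Q15807 : ∀ i, i < 15807 → P i := stepQ 15806 Q15806 (allL N15806 (tt N31545 D51268) (tt N31546 D51269) (tt N9897 F39076) (tt N15354 F39077) (tt N31544 (iv4 F80870)) (tt N15449 F39078) (tt N7740 (iv6 D24929)) (tt N31547 D51270))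
theorem Q15808 : ∀ i, i < 15808 → P i := stepQ 15807 Q15807 (allL N15807 (tt N15827 (iv1 F39128)) (tt N7741 (iv0 D24930)) (tt N15823 F39119) (tt N31548 D51271) (tt N15740 F39079) (tt N31549 D51272) (tt N31550 D51273) (tt N15824 F39118))
theorem Q15809 : ∀ i, i < 15809 → P i := stepQ 15808 Q15808 (allL N15808 (tt N7741 (iv1 D24931)) (tt N15827 F39127) (tt N15824 (iv2 F39121)) (tt N31551 D51274) (tt N15741 F39123) (tt N31552 D51275) (tt N31553 D51276) (tt N15823 F39120))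
theorem Q15810 : ∀ i, i < 15810 → P i := stepQ 15809 Q15809 (allL N15809 (tt N31554 D51277) (tt N31555 D51278) (tt N31556 D51279) (tt N7741 (iv3 D24932)) (tt N16169 (iv4 F40058)) (tt N31557 D51280) (tt N19523 (iv6 F47891)) (tt N31558 D51281))
theorem Q15811 : ∀ i, i < 15811 → P i := stepQ 15810 Q15810 (allL N15810 (tt N31559 D51282) (tt N31560 D51283) (tt N15826 (iv2 F39124)) (tt N31557 (iv3 F80883)) (tt N31561 D51284) (tt N7741 (iv5 D24933)) (tt N17789 (iv6 F329778)) (tt N31562 D51286))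
theorem Q15812 : ∀ i, i < 15812 → P i := stepQ 15811 Q15811 (allL N15811 (tt N15824 (iv1 F39116)) (tt N15823 F39122) (tt N15827 (iv2 F39125)) (tt N31558 (iv3 F80884)) (tt N7742 F39080) (tt N31562 (iv5 F80898)) (tt N31563 D51287) (tt N7741 (iv7 D24934)))
theorem Q15813 : ∀ i, i < 15813 → P i := stepQ 15812 Q15812 (allL N15812 (tt N31564 D51288) (tt N10129 F168225) (tt N15828 (iv2 F39129)) (tt N16172 (iv3 F40062)) (tt N31563 (iv4 F80899)) (tt N15812 F39081) (tt N7742 (iv6 D24935)) (tt N9926 F39082))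
theorem Q15814 : ∀ i, i < 15814 → P i := stepQ 15813 Q15813 (allL N15813 (tt N15207 (iv1 F45712)) (tt N18280 (iv0 F45707)) (tt N7911 F39083) (tt N9623 F39084) (tt N22627 (iv4 F53483)) (tt N7743 (iv5 D24936)) (tt N15189 F39085) (tt N30579 (iv7 F78921)))
theorem Q15815 : ∀ i, i < 15815 → P i := stepQ 15814 Q15814 (allL N15814 (tt N16174 (iv1 F40070)) (tt N7744 (iv0 D24937)) (tt N11075 (iv2 F39087)) (tt N14943 F39088) (tt N15290 (iv4 F39090)) (tt N9789 F39086) (tt N31565 D51290) (tt N9788 F39089))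
theorem Q15816 : ∀ i, i < 15816 → P i := stepQ 15815 Q15815 (allL N15815 (tt N30570 (iv1 F78892)) (tt N18292 (iv0 F45732)) (tt N16173 (iv2 F40064)) (tt N31566 D51291) (tt N7744 (iv4 D24938)) (tt N31567 D51292) (tt N19525 (iv6 F47892)) (tt N30603 (iv7 F78971)))
theorem Q15817 : ∀ i, i < 15817 → P i := stepQ 15816 Q15816 (allL N15816 (tt N9788 (iv1 F39093)) (tt N11075 F39094) (tt N16174 (iv2 F40066)) (tt N7750 F39091) (tt N30603 (iv4 F78969)) (tt N7745 F39092) (tt N31568 D51293) (tt N7744 (iv7 D24939)))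
theorem Q15818 : ∀ i, i < 15818 → P i := stepQ 15817 Q15817 (allL N15817 (tt N20204 (iv1 F48914)) (tt N20203 F48913) (tt N11098 F39095) (tt N31569 D51294) (tt N7746 (iv4 D24940)) (tt N31570 D51295) (tt N31571 D51296) (tt N15803 F39096))
theorem Q15819 : ∀ i, i < 15819 → P i := stepQ 15818 Q15818 (allL N15818 (tt N20323 (iv1 F53594)) (tt N16684 (iv0 F40922)) (tt N11099 F39097) (tt N15373 F39098) (tt N31571 (iv4 F80916)) (tt N19684 (iv5 F48151)) (tt N7746 (iv6 D24941)) (tt N20322 (iv7 F49135)))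
theorem Q15820 : ∀ i, i < 15820 → P i := stepQ 15819 Q15819 (allL N15819 (tt N7764 (iv1 F39104)) (tt N7747 (iv0 D24942)) (tt N7766 (iv2 F39101)) (tt N19781 (iv3 F48293)) (tt N9930 F39102) (tt N9627 F39100) (tt N7775 F39099) (tt N7753 F39103))
theorem Q15821 : ∀ i, i < 15821 → P i := stepQ 15820 Q15820 (allL N15820 (tt N7753 (iv1 F39108)) (tt N7766 F39109) (tt N7764 F39105) (tt N15375 F39106) (tt N31242 (iv4 F80257)) (tt N19358 (iv5 F47410)) (tt N15053 F39107) (tt N7747 (iv7 D24943)))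
theorem Q15822 : ∀ i, i < 15822 → P i := stepQ 15821 Q15821 (allL N15821 (tt N15742 F39112) (tt N20235 F48987) (tt N11113 F39110) (tt N31572 D51297) (tt N7748 (iv4 D24944)) (tt N31573 D51298) (tt N31574 D51299) (tt N15805 F39111))
theorem Q15823 : ∀ i, i < 15823 → P i := stepQ 15822 Q15822 (allL N15822 (tt N31575 D51300) (tt N20543 F79380) (tt N11114 F39113) (tt N15377 F39114) (tt N31574 (iv4 F80922)) (tt N15050 F39115) (tt N7748 (iv6 D24945)) (tt N31576 D51301))
theorem Q15824 : ∀ i, i < 15824 → P i := stepQ 15823 Q15823 (allL N15823 (tt N15811 (iv1 F39122)) (tt N7749 (iv0 D24946)) (tt N15807 (iv2 F39119)) (tt N31577 D51302) (tt N31380 (iv4 F80546)) (tt N31578 D51303) (tt N31579 D51304) (tt N15808 (iv7 F39120)))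
theorem Q15825 : ∀ i, i < 15825 → P i := stepQ 15824 Q15824 (allL N15824 (tt N7749 (iv1 D24947)) (tt N15811 F39116) (tt N15808 F39121) (tt N31580 D51305) (tt N15210 F39117) (tt N31581 D51306) (tt N31582 D51307) (tt N15807 (iv7 F39118)))
theorem Q15826 : ∀ i, i < 15826 → P i := stepQ 15825 Q15825 (allL N15825 (tt N31583 D51308) (tt N31584 D51309) (tt N31585 D51310) (tt N7749 (iv3 D24948)) (tt N31566 (iv4 F80906)) (tt N31586 D51311) (tt N19528 (iv6 F47903)) (tt N31587 D51312))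
theorem Q15827 : ∀ i, i < 15827 → P i := stepQ 15826 Q15826 (allL N15826 (tt N31588 D51313) (tt N31589 D51314) (tt N15810 F39124) (tt N31586 (iv3 F80948)) (tt N19605 (iv4 F48008)) (tt N7749 (iv5 D24949)) (tt N31590 D51315) (tt N19603 F48007))
theorem Q15828 : ∀ i, i < 15828 → P i := stepQ 15827 Q15827 (allL N15827 (tt N15808 (iv1 F39127)) (tt N15807 F39128) (tt N15811 F39125) (tt N31587 (iv3 F80949)) (tt N7750 F39126) (tt N19603 (iv5 F48006)) (tt N31591 D51316) (tt N7749 (iv7 D24950)))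
theorem Q15829 : ∀ i, i < 15829 → P i := stepQ 15828 Q15828 (allL N15828 (tt N16789 F168209) (tt N20303 F49116) (tt N15812 F39129) (tt N31568 (iv3 F80907)) (tt N31591 (iv4 F80959)) (tt N15828 F39130) (tt N7750 (iv6 D24951)) (tt N16681 (iv7 F40909)))
theorem Q15830 : ∀ i, i < 15830 → P i := stepQ 15829 Q15829 (allL N15829 (tt N16220 (iv1 F40172)) (tt N15541 F39134) (tt N14688 F39131) (tt N7752 F39132) (tt N31324 (iv4 F80444)) (tt N7751 (iv5 D24952)) (tt N31592 D51317) (tt N7768 F39133))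
theorem Q15831 : ∀ i, i < 15831 → P i := stepQ 15830 Q15830 (allL N15830 (tt N15068 (iv1 F39330)) (tt N15932 (iv0 F39328)) (tt N14689 F39135) (tt N7753 F39136) (tt N29516 (iv4 F76568)) (tt N9651 F39137) (tt N7751 (iv6 D24953)) (tt N19781 (iv7 F48294)))
theorem Q15832 : ∀ i, i < 15832 → P i := stepQ 15831 Q15831 (allL N15831 (tt N7752 (iv1 D24954)) (tt N7754 F39138) (tt N7761 (iv2 F39141)) (tt N15388 (iv3 F39142)) (tt N31593 D51318) (tt N9982 F39140) (tt N15449 (iv6 F39143)) (tt N7760 F39139))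
theorem Q15833 : ∀ i, i < 15833 → P i := stepQ 15832 Q15832 (allL N15832 (tt N30889 (iv1 F79647)) (tt N31264 (iv0 F80305)) (tt N7762 F39144) (tt N31594 D51319) (tt N7752 (iv4 D24955)) (tt N31595 D51320) (tt N31596 D51321) (tt N7772 F39145))
theorem Q15834 : ∀ i, i < 15834 → P i := stepQ 15833 Q15833 (allL N15833 (tt N15534 F164127) (tt N31597 D51323) (tt N7763 F39146) (tt N31592 (iv3 F80961)) (tt N31596 (iv4 F80973)) (tt N9653 F39147) (tt N7752 (iv6 D24956)) (tt N31598 D51324))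
theorem Q15835 : ∀ i, i < 15835 → P i := stepQ 15834 Q15834 (allL N15834 (tt N31264 (iv1 F80306)) (tt N30889 (iv0 F79646)) (tt N7772 F39148) (tt N31599 D51325) (tt N7754 (iv4 D24957)) (tt N31600 D51326) (tt N31601 D51327) (tt N7762 F39149))
theorem Q15836 : ∀ i, i < 15836 → P i := stepQ 15835 Q15835 (allL N15835 (tt N31602 D51328) (tt N15417 (iv0 F39152)) (tt N7773 F39150) (tt N14695 F39151) (tt N31601 (iv4 F80990)) (tt N16660 (iv5 F40849)) (tt N7754 (iv6 D24958)) (tt N31603 D51329))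
theorem Q15837 : ∀ i, i < 15837 → P i := stepQ 15836 Q15836 (allL N15836 (tt N15913 (iv1 F39278)) (tt N11056 F39155) (tt N14696 F39153) (tt N7756 (iv3 D24959)) (tt N30562 (iv4 F78872)) (tt N9817 F39279) (tt N31604 D51330) (tt N7778 F39154))
theorem Q15838 : ∀ i, i < 15838 → P i := stepQ 15837 Q15837 (allL N15837 (tt N31605 D51331) (tt N19522 (iv0 F47889)) (tt N7776 F39156) (tt N31606 D51332) (tt N7756 (iv4 D24960)) (tt N31607 D51333) (tt N31608 D51334) (tt N7779 F39157))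
theorem Q15839 : ∀ i, i < 15839 → P i := stepQ 15838 Q15838 (allL N15838 (tt N15582 F168264) (tt N31609 D51336) (tt N7777 F39158) (tt N31604 (iv3 F81003)) (tt N31608 (iv4 F81014)) (tt N16691 F40935) (tt N7756 (iv6 D24961)) (tt N31610 D51337))
theorem Q15840 : ∀ i, i < 15840 → P i := stepQ 15839 Q15839 (allL N15839 (tt N19522 (iv1 F47890)) (tt N31605 F81007) (tt N7779 F39159) (tt N31611 D51338) (tt N7757 (iv4 D24962)) (tt N31612 D51339) (tt N31613 D51340) (tt N7776 F39160))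
theorem Q15841 : ∀ i, i < 15841 → P i := stepQ 15840 Q15840 (allL N15840 (tt N31614 D51341) (tt N15603 (iv0 F163890)) (tt N7780 F39161) (tt N14698 F39162) (tt N31613 (iv4 F81027)) (tt N9643 F39163) (tt N7757 (iv6 D24963)) (tt N31615 D51343))
theorem Q15842 : ∀ i, i < 15842 → P i := stepQ 15841 Q15841 (allL N15841 (tt N7785 F39165) (tt N7758 (iv0 D24964)) (tt N7781 F39255) (tt N31616 D51344) (tt N8903 F39164) (tt N31617 D51345) (tt N31618 D51346) (tt N7782 F39256))
theorem Q15843 : ∀ i, i < 15843 → P i := stepQ 15842 Q15842 (allL N15842 (tt N7758 (iv1 D24965)) (tt N7785 F39167) (tt N7782 F39257) (tt N31619 D51347) (tt N19526 F47898) (tt N31620 D51348) (tt N31621 D51349) (tt N7781 F39258))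
theorem Q15844 : ∀ i, i < 15844 → P i := stepQ 15843 Q15843 (allL N15843 (tt N31622 D51350) (tt N31623 D51351) (tt N31624 D51352) (tt N7758 (iv3 D24966)) (tt N15400 F39168) (tt N31625 D51353) (tt N15400 F39169) (tt N31626 D51354))
theorem Q15845 : ∀ i, i < 15845 → P i := stepQ 15844 Q15844 (allL N15844 (tt N31627 D51355) (tt N31628 D51356) (tt N7784 F39170) (tt N31625 (iv3 F81052)) (tt N31447 (iv4 F80673)) (tt N7758 (iv5 D24967)) (tt N31629 D51357) (tt N31445 (iv7 F80671)))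
theorem Q15846 : ∀ i, i < 15846 → P i := stepQ 15845 Q15845 (allL N15845 (tt N7782 (iv1 F39173)) (tt N7781 F39174) (tt N7785 F39171) (tt N31626 (iv3 F81053)) (tt N7759 F39172) (tt N31445 (iv5 F80668)) (tt N31630 D51358) (tt N7758 (iv7 D24968)))
theorem Q15847 : ∀ i, i < 15847 → P i := stepQ 15846 Q15846 (allL N15846 (tt N15497 (iv1 F39179)) (tt N15496 F39180) (tt N7786 F39175) (tt N15403 F39176) (tt N31630 (iv4 F81066)) (tt N15846 F39177) (tt N7759 (iv6 D24969)) (tt N15403 F39178))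
theorem Q15848 : ∀ i, i < 15848 → P i := stepQ 15847 Q15847 (allL N15847 (tt N31414 (iv1 F80626)) (tt N31404 (iv0 F80609)) (tt N10008 F39181) (tt N31631 D51359) (tt N7760 (iv4 D24970)) (tt N31632 D51360) (tt N31633 D51361) (tt N31593 (iv7 F80965)))
theorem Q15849 : ∀ i, i < 15849 → P i := stepQ 15848 Q15848 (allL N15848 (tt N31634 D51362) (tt N31635 D51363) (tt N10005 F39182) (tt N15415 F39183) (tt N31633 (iv4 F81076)) (tt N9980 F39184) (tt N7760 (iv6 D24971)) (tt N31636 D51364))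
theorem Q15850 : ∀ i, i < 15850 → P i := stepQ 15849 Q15849 (allL N15849 (tt N31404 (iv1 F80610)) (tt N31414 (iv0 F80625)) (tt N31593 (iv2 F80963)) (tt N31637 D51365) (tt N7761 (iv4 D24972)) (tt N31638 D51366) (tt N31639 D51367) (tt N10008 F39185))
theorem Q15851 : ∀ i, i < 15851 → P i := stepQ 15850 Q15850 (allL N15850 (tt N15392 F39189) (tt N15451 F39190) (tt N15449 F39186) (tt N7802 F39187) (tt N31639 (iv4 F81093)) (tt N9897 F39188) (tt N7761 (iv6 D24973)) (tt N15448 (iv7 F49344)))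
theorem Q15852 : ∀ i, i < 15852 → P i := stepQ 15851 Q15851 (allL N15851 (tt N7772 (iv1 F39192)) (tt N7762 (iv0 D24974)) (tt N30889 (iv2 F79644)) (tt N31640 D51368) (tt N16088 (iv4 F39845)) (tt N31641 D51369) (tt N31642 D51370) (tt N31264 (iv7 F80304)))
theorem Q15853 : ∀ i, i < 15853 → P i := stepQ 15852 Q15852 (allL N15852 (tt N7762 (iv1 D24975)) (tt N7772 F39193) (tt N31264 (iv2 F80303)) (tt N31643 D51371) (tt N18042 (iv4 F45188)) (tt N31644 D51372) (tt N31645 D51373) (tt N30889 (iv7 F79645)))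
theorem Q15854 : ∀ i, i < 15854 → P i := stepQ 15853 Q15853 (allL N15853 (tt N31646 D51374) (tt N31647 D51375) (tt N31648 D51376) (tt N7762 (iv3 D24976)) (tt N16214 (iv4 F40166)) (tt N31649 D51377) (tt N31650 D51378) (tt N31599 (iv7 F80985)))
theorem Q15855 : ∀ i, i < 15855 → P i := stepQ 15854 Q15854 (allL N15854 (tt N31651 D51379) (tt N31652 D51380) (tt N31595 (iv2 F80969)) (tt N31649 (iv3 F81103)) (tt N31444 F80666) (tt N7762 (iv5 D24977)) (tt N31653 D51381) (tt N31600 (iv7 F80988)))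
theorem Q15856 : ∀ i, i < 15856 → P i := stepQ 15855 Q15855 (allL N15855 (tt N31654 D51382) (tt N31655 D51383) (tt N31596 (iv2 F80972)) (tt N31650 (iv3 F81104)) (tt N7763 F39194) (tt N31656 D51384) (tt N7762 (iv6 D24978)) (tt N31657 D51385))
theorem Q15857 : ∀ i, i < 15857 → P i := stepQ 15856 Q15856 (allL N15856 (tt N31598 (iv1 F80983)) (tt N7763 (iv0 D24979)) (tt N15534 (iv2 F164325)) (tt N15423 (iv3 F164332)) (tt N31658 D51388) (tt N30955 F79717) (tt N15423 F79581) (tt N31597 (iv7 F164331)))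
theorem Q15858 : ∀ i, i < 15858 → P i := stepQ 15857 Q15857 (allL N15857 (tt N7763 (iv1 D24980)) (tt N31598 F80982) (tt N31597 (iv2 F164330)) (tt N7806 (iv3 F164334)) (tt N31659 D51391) (tt N19366 F164324) (tt N31660 D51392) (tt N15534 (iv7 F164326)))
theorem Q15859 : ∀ i, i < 15859 → P i := stepQ 15858 Q15858 (allL N15858 (tt N31661 D51393) (tt N19625 F168277) (tt N9653 F39195) (tt N15032 F39196) (tt N31662 D51395) (tt N7763 (iv5 D24981)) (tt N7765 F39197) (tt N31663 D51396))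
theorem Q15860 : ∀ i, i < 15860 → P i := stepQ 15859 Q15859 (allL N15859 (tt N31597 (iv1 F80976)) (tt N15534 F164128) (tt N31598 (iv2 F80978)) (tt N16219 (iv3 F40171)) (tt N31657 (iv4 F81111)) (tt N31663 (iv5 F81129)) (tt N31603 (iv6 F80999)) (tt N7763 (iv7 D24982)))
theorem Q15861 : ∀ i, i < 15861 → P i := stepQ 15860 Q15860 (allL N15860 (tt N15349 F39200) (tt N30744 F79345) (tt N9652 F39198) (tt N31664 D51397) (tt N7765 (iv4 D24983)) (tt N31665 D51398) (tt N31662 (iv6 F81126)) (tt N9649 F39199))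
theorem Q15862 : ∀ i, i < 15862 → P i := stepQ 15861 Q15861 (allL N15861 (tt N16085 F39832) (tt N29517 F76575) (tt N7982 F39201) (tt N9977 F39202) (tt N20083 (iv4 F48803)) (tt N7767 (iv5 D24984)) (tt N31666 D51399) (tt N29515 (iv7 F76563)))
theorem Q15863 : ∀ i, i < 15863 → P i := stepQ 15862 Q15862 (allL N15862 (tt N16099 F39877) (tt N15273 (iv0 F39206)) (tt N7983 F39203) (tt N9978 F39204) (tt N7769 F39205) (tt N18277 (iv5 F45698)) (tt N7767 (iv6 D24985)) (tt N30445 (iv7 F78571)))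
theorem Q15864 : ∀ i, i < 15864 → P i := stepQ 15863 Q15863 (allL N15863 (tt N14688 (iv1 F39208)) (tt N7768 (iv0 D24986)) (tt N15541 (iv2 F39207)) (tt N15404 (iv3 F39302)) (tt N15692 (iv4 F39303)) (tt N18213 (iv5 F45525)) (tt N31667 D51400) (tt N16220 (iv7 F40173)))
theorem Q15865 : ∀ i, i < 15865 → P i := stepQ 15864 Q15864 (allL N15864 (tt N16041 (iv1 F39682)) (tt N16039 (iv0 F39678)) (tt N16221 (iv2 F40177)) (tt N31668 D51401) (tt N7768 (iv4 D24987)) (tt N31669 D51402) (tt N31670 D51403) (tt N31324 (iv7 F80447)))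
theorem Q15866 : ∀ i, i < 15866 → P i := stepQ 15865 Q15865 (allL N15865 (tt N31671 D51404) (tt N31672 D51405) (tt N16222 (iv2 F40180)) (tt N7773 F39209) (tt N31670 (iv4 F81150)) (tt N19980 (iv5 F48645)) (tt N7768 (iv6 D24988)) (tt N31673 D51406))
theorem Q15867 : ∀ i, i < 15867 → P i := stepQ 15866 Q15866 (allL N15866 (tt N11066 (iv1 F39213)) (tt N9830 F39214) (tt N15162 F39210) (tt N7775 F39211) (tt N30445 (iv4 F78572)) (tt N9784 F39212) (tt N19781 (iv6 F48296)) (tt N7769 (iv7 D24989)))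
theorem Q15868 : ∀ i, i < 15868 → P i := stepQ 15867 Q15867 (allL N15867 (tt N9937 F39218) (tt N9936 F39219) (tt N8163 F39216) (tt N31674 D51407) (tt N7770 (iv4 D24990)) (tt N31444 (iv5 F80664)) (tt N31675 D51408) (tt N9927 F39217))
theorem Q15869 : ∀ i, i < 15869 → P i := stepQ 15868 Q15868 (allL N15868 (tt N31676 D51409) (tt N15882 (iv0 F39242)) (tt N8164 F39220) (tt N9980 F39221) (tt N31675 (iv4 F81168)) (tt N15415 F39222) (tt N7770 (iv6 D24991)) (tt N31677 D51410))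
theorem Q15870 : ∀ i, i < 15870 → P i := stepQ 15869 Q15869 (allL N15869 (tt N31678 D51411) (tt N31679 D51412) (tt N31680 D51413) (tt N7772 (iv3 D24992)) (tt N31668 (iv4 F81148)) (tt N31681 D51414) (tt N31682 D51415) (tt N31594 (iv7 F80968)))
theorem Q15871 : ∀ i, i < 15871 → P i := stepQ 15870 Q15870 (allL N15870 (tt N31652 (iv1 F81108)) (tt N31651 F81107) (tt N31600 (iv2 F80986)) (tt N31681 (iv3 F81181)) (tt N9939 F39223) (tt N7772 (iv5 D24993)) (tt N31683 D51416) (tt N31595 (iv7 F80970)))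
theorem Q15872 : ∀ i, i < 15872 → P i := stepQ 15871 Q15871 (allL N15871 (tt N31684 D51417) (tt N31685 D51418) (tt N31601 (iv2 F80989)) (tt N31682 (iv3 F81182)) (tt N7773 F39224) (tt N31686 D51419) (tt N7772 (iv6 D24994)) (tt N31687 D51420))
theorem Q15873 : ∀ i, i < 15873 → P i := stepQ 15872 Q15872 (allL N15872 (tt N31603 (iv1 F81001)) (tt N7773 (iv0 D24995)) (tt N31602 F80992) (tt N7820 F79381) (tt N31688 D51421) (tt N22695 F79382) (tt N31689 D51422) (tt N15417 F79383))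
theorem Q15874 : ∀ i, i < 15874 → P i := stepQ 15873 Q15873 (allL N15873 (tt N7773 (iv1 D24996)) (tt N31603 F81000) (tt N15417 F39227) (tt N15449 F39228) (tt N31690 D51423) (tt N15354 (iv5 F39226)) (tt N15388 (iv6 F39225)) (tt N31602 (iv7 F80994)))
theorem Q15875 : ∀ i, i < 15875 → P i := stepQ 15874 Q15874 (allL N15874 (tt N15417 (iv1 F39229)) (tt N31602 F80996) (tt N31603 (iv2 F80997)) (tt N31673 (iv3 F81162)) (tt N31687 (iv4 F81187)) (tt N20450 (iv5 F49315)) (tt N31598 (iv6 F80980)) (tt N7773 (iv7 D24997)))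
theorem Q15876 : ∀ i, i < 15876 → P i := stepQ 15875 Q15875 (allL N15875 (tt N7779 (iv1 F39231)) (tt N7776 (iv0 D24998)) (tt N31605 F81006) (tt N31691 D51424) (tt N9924 F39230) (tt N31651 (iv5 F81105)) (tt N31692 D51425) (tt N19522 (iv7 F47888)))
theorem Q15877 : ∀ i, i < 15877 → P i := stepQ 15876 Q15876 (allL N15876 (tt N7776 (iv1 D24999)) (tt N7779 F39237) (tt N19522 (iv2 F47887)) (tt N31693 D51426) (tt N9567 (iv4 F39238)) (tt N31652 (iv5 F81109)) (tt N15457 F39239) (tt N31605 (iv7 F81008)))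
theorem Q15878 : ∀ i, i < 15878 → P i := stepQ 15877 Q15877 (allL N15877 (tt N31694 D51427) (tt N31695 D51428) (tt N31696 D51429) (tt N7776 (iv3 D25000)) (tt N16229 (iv4 F40189)) (tt N31697 D51430) (tt N31698 D51431) (tt N31611 (iv7 F81022)))
theorem Q15879 : ∀ i, i < 15879 → P i := stepQ 15878 Q15878 (allL N15878 (tt N31699 D51432) (tt N31700 D51433) (tt N31607 (iv2 F81010)) (tt N31697 (iv3 F81201)) (tt N31437 (iv4 F80652)) (tt N7776 (iv5 D25001)) (tt N31701 D51434) (tt N31612 (iv7 F81025)))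
theorem Q15880 : ∀ i, i < 15880 → P i := stepQ 15879 Q15879 (allL N15879 (tt N31702 D51435) (tt N31703 D51436) (tt N31608 (iv2 F81013)) (tt N31698 (iv3 F81202)) (tt N7777 F39240) (tt N31704 D51437) (tt N7776 (iv6 D25002)) (tt N31705 D51438))
theorem Q15881 : ∀ i, i < 15881 → P i := stepQ 15880 Q15880 (allL N15880 (tt N31610 (iv1 F81020)) (tt N7777 (iv0 D25003)) (tt N15582 F168263) (tt N15463 (iv3 F168273)) (tt N31706 D51441) (tt N31707 D51442) (tt N15475 F79499) (tt N31609 (iv7 F101118)))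
theorem Q15882 : ∀ i, i < 15882 → P i := stepQ 15881 Q15881 (allL N15881 (tt N7777 (iv1 D25004)) (tt N31610 F81019) (tt N31609 (iv2 F101117)) (tt N7828 (iv3 F168244)) (tt N31708 D51445) (tt N31709 D51446) (tt N31710 D51447) (tt N15582 (iv7 F168246)))
theorem Q15883 : ∀ i, i < 15883 → P i := stepQ 15882 Q15882 (allL N15882 (tt N15868 F39242) (tt N16692 F40939) (tt N16691 (iv2 F40936)) (tt N16234 (iv3 F40192)) (tt N31711 D51448) (tt N7777 (iv5 D25005)) (tt N11097 F39241) (tt N16690 F81037))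
theorem Q15884 : ∀ i, i < 15884 → P i := stepQ 15883 Q15883 (allL N15883 (tt N31609 (iv1 F81015)) (tt N15582 F168265) (tt N31610 (iv2 F81016)) (tt N16235 (iv3 F40195)) (tt N31705 (iv4 F81215)) (tt N16690 (iv5 F81036)) (tt N31615 (iv6 F81033)) (tt N7777 (iv7 D25006)))
theorem Q15885 : ∀ i, i < 15885 → P i := stepQ 15884 Q15884 (allL N15884 (tt N15263 F39243) (tt N16033 (iv0 F39650)) (tt N16236 (iv2 F40196)) (tt N31712 D51449) (tt N7778 (iv4 D25007)) (tt N31713 D51450) (tt N31714 D51451) (tt N30562 (iv7 F78875)))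
theorem Q15886 : ∀ i, i < 15886 → P i := stepQ 15885 Q15885 (allL N15885 (tt N31715 D51452) (tt N31716 D51453) (tt N16237 (iv2 F40199)) (tt N7780 F39244) (tt N31714 (iv4 F81232)) (tt N19778 (iv5 F48287)) (tt N7778 (iv6 D25008)) (tt N31717 D51454))
theorem Q15887 : ∀ i, i < 15887 → P i := stepQ 15886 Q15886 (allL N15886 (tt N31718 D51455) (tt N31719 D51456) (tt N31720 D51457) (tt N7779 (iv3 D25009)) (tt N31712 (iv4 F81229)) (tt N31721 D51458) (tt N31722 D51459) (tt N31606 (iv7 F81009)))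
theorem Q15888 : ∀ i, i < 15888 → P i := stepQ 15887 Q15887 (allL N15887 (tt N31700 (iv1 F81211)) (tt N31699 F81206) (tt N31612 (iv2 F81023)) (tt N31721 (iv3 F81234)) (tt N10033 F39245) (tt N7779 (iv5 D25010)) (tt N31723 D51460) (tt N31607 (iv7 F81011)))
theorem Q15889 : ∀ i, i < 15889 → P i := stepQ 15888 Q15888 (allL N15888 (tt N31724 D51461) (tt N31725 D51462) (tt N31613 (iv2 F81026)) (tt N31722 (iv3 F81235)) (tt N7780 F39246) (tt N31726 D51463) (tt N7779 (iv6 D25011)) (tt N31727 D51464))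
theorem Q15890 : ∀ i, i < 15890 → P i := stepQ 15889 Q15889 (allL N15889 (tt N31615 (iv1 F81038)) (tt N7780 (iv0 D25012)) (tt N31614 (iv2 F101653)) (tt N7835 (iv3 F163895)) (tt N31728 D51467) (tt N19587 F79597) (tt N31729 D51468) (tt N15603 F163892))
theorem Q15891 : ∀ i, i < 15891 → P i := stepQ 15890 Q15890 (allL N15890 (tt N7780 (iv1 D25013)) (tt N31615 F81035) (tt N15603 F163894) (tt N15475 F168280) (tt N31730 D51471) (tt N19588 (iv5 F79593)) (tt N15463 F79595) (tt N31614 (iv7 F101654)))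
theorem Q15892 : ∀ i, i < 15892 → P i := stepQ 15891 Q15891 (allL N15891 (tt N18956 F164313) (tt N30859 (iv0 F79580)) (tt N9643 F39247) (tt N19778 (iv3 F48286)) (tt N31731 D51472) (tt N7780 (iv5 D25014)) (tt N9625 F39248) (tt N31732 D51473))
theorem Q15893 : ∀ i, i < 15893 → P i := stepQ 15892 Q15892 (allL N15892 (tt N15603 F163891) (tt N31614 F81034) (tt N31615 (iv2 F81030)) (tt N31717 (iv3 F81233)) (tt N31727 (iv4 F81237)) (tt N31732 (iv5 F81248)) (tt N31610 (iv6 F81017)) (tt N7780 (iv7 D25015)))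
theorem Q15894 : ∀ i, i < 15894 → P i := stepQ 15893 Q15893 (allL N15893 (tt N31733 D51474) (tt N31734 D51475) (tt N31735 D51476) (tt N7781 (iv3 D25017)) (tt N31736 D51477) (tt N31737 D51478) (tt N31738 D51479) (tt N31619 (iv7 F81045)))
theorem Q15895 : ∀ i, i < 15895 → P i := stepQ 15894 Q15894 (allL N15894 (tt N16679 (iv1 F40902)) (tt N9564 F39250) (tt N8903 F39259) (tt N31739 D51480) (tt N7781 (iv4 D25018)) (tt N20442 (iv5 F49308)) (tt N31740 D51481) (tt N19526 (iv7 F47894)))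
theorem Q15896 : ∀ i, i < 15896 → P i := stepQ 15895 Q15895 (allL N15895 (tt N31741 D51482) (tt N20480 (iv0 F49347)) (tt N31617 (iv2 F81041)) (tt N31737 (iv3 F81253)) (tt N31430 (iv4 F80643)) (tt N7781 (iv5 D25019)) (tt N31742 D51483) (tt N31620 (iv7 F81047)))
theorem Q15897 : ∀ i, i < 15897 → P i := stepQ 15896 Q15896 (allL N15896 (tt N31706 (iv1 F168301)) (tt N31708 (iv0 F111668)) (tt N31618 (iv2 F81043)) (tt N31738 (iv3 F81254)) (tt N31740 (iv4 F81263)) (tt N31743 D51486) (tt N7781 (iv6 D25020)) (tt N31744 D51487))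
theorem Q15898 : ∀ i, i < 15898 → P i := stepQ 15897 Q15897 (allL N15897 (tt N31745 D51488) (tt N31746 D51489) (tt N31747 D51490) (tt N7782 (iv3 D25022)) (tt N31748 D51491) (tt N31749 D51492) (tt N31750 D51493) (tt N31616 (iv7 F81040)))
theorem Q15899 : ∀ i, i < 15899 → P i := stepQ 15898 Q15898 (allL N15898 (tt N9564 (iv1 F39260)) (tt N16679 (iv0 F40901)) (tt N19526 F47896) (tt N8883 F39252) (tt N7782 (iv4 D25023)) (tt N9190 (iv5 F39253)) (tt N31751 D51494) (tt N8903 (iv7 F39254)))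
theorem Q15900 : ∀ i, i < 15900 → P i := stepQ 15899 Q15899 (allL N15899 (tt N20480 (iv1 F49348)) (tt N31741 F81269) (tt N31620 (iv2 F81046)) (tt N31749 (iv3 F81273)) (tt N31422 (iv4 F80635)) (tt N7782 (iv5 D25024)) (tt N31752 D51495) (tt N31617 (iv7 F81042)))
theorem Q15901 : ∀ i, i < 15901 → P i := stepQ 15900 Q15900 (allL N15900 (tt N31728 (iv1 F168439)) (tt N31730 (iv0 F168440)) (tt N31621 (iv2 F81048)) (tt N31750 (iv3 F81274)) (tt N31751 (iv4 F81276)) (tt N31753 D51498) (tt N7782 (iv6 D25025)) (tt N31754 D51499))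
theorem Q15902 : ∀ i, i < 15902 → P i := stepQ 15901 Q15901 (allL N15901 (tt N31219 (iv1 F80197)) (tt N7783 (iv0 D25026)) (tt N31226 F173292) (tt N31755 D51501) (tt N31756 D51502) (tt N31742 (iv5 F343735)) (tt N31743 F343729) (tt N31225 (iv7 F173298)))
theorem Q15903 : ∀ i, i < 15903 → P i := stepQ 15902 Q15902 (allL N15902 (tt N7783 (iv1 D25027)) (tt N31219 F80196) (tt N31225 (iv2 F173297)) (tt N31757 D51506) (tt N23415 F323975) (tt N31758 D51508) (tt N23414 (iv6 F325242)) (tt N31226 F173291))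
theorem Q15904 : ∀ i, i < 15904 → P i := stepQ 15903 Q15903 (allL N15903 (tt N31226 (iv1 F80206)) (tt N31225 F80205) (tt N7783 (iv2 D25028)) (tt N31624 (iv3 F81049)) (tt N7844 F39263) (tt N31759 D51510) (tt N15487 F39264) (tt N31219 (iv7 F80195)))
theorem Q15905 : ∀ i, i < 15905 → P i := stepQ 15904 Q15904 (allL N15904 (tt N31760 D51511) (tt N31761 D51512) (tt N31759 (iv2 F81281)) (tt N7784 F39265) (tt N31762 D51513) (tt N7783 (iv5 D25029)) (tt N31763 D51514) (tt N31227 (iv7 F80209)))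
theorem Q15906 : ∀ i, i < 15906 → P i := stepQ 15905 Q15905 (allL N15905 (tt N31445 (iv1 F80670)) (tt N7784 (iv0 D25030)) (tt N31627 F81057) (tt N31764 D51515) (tt N31417 (iv4 F80629)) (tt N31404 (iv5 F80608)) (tt N31765 D51516) (tt N31628 (iv7 F81060)))
theorem Q15907 : ∀ i, i < 15907 → P i := stepQ 15906 Q15906 (allL N15906 (tt N7784 (iv1 D25031)) (tt N31445 (iv0 F80669)) (tt N31628 F81062) (tt N31766 D51517) (tt N31408 F80618) (tt N31414 (iv5 F80624)) (tt N31767 D51518) (tt N31627 F81058))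
theorem Q15908 : ∀ i, i < 15908 → P i := stepQ 15907 Q15907 (allL N15907 (tt N31444 (iv1 F80662)) (tt N9939 (iv0 F39267)) (tt N31447 (iv2 F80672)) (tt N31768 D51519) (tt N7784 (iv4 D25032)) (tt N10031 F39266) (tt N31769 D51520) (tt N31397 (iv7 F80589)))
theorem Q15909 : ∀ i, i < 15909 → P i := stepQ 15908 Q15908 (allL N15908 (tt N31770 D51521) (tt N31771 D51522) (tt N31629 (iv2 F81063)) (tt N31763 (iv3 F81282)) (tt N31769 (iv4 F81285)) (tt N15493 F39268) (tt N7784 (iv6 D25033)) (tt N31772 D51523))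
theorem Q15910 : ∀ i, i < 15910 → P i := stepQ 15909 Q15909 (allL N15909 (tt N31628 (iv1 F81059)) (tt N31627 F81056) (tt N31445 (iv2 F80667)) (tt N31227 (iv3 F80208)) (tt N31397 (iv4 F80590)) (tt N7785 F39269) (tt N31773 D51524) (tt N7784 (iv7 D25034)))
theorem Q15911 : ∀ i, i < 15911 → P i := stepQ 15910 Q15910 (allL N15910 (tt N31774 D51525) (tt N31775 D51526) (tt N31630 (iv2 F81065)) (tt N31228 (iv3 F80210)) (tt N7786 F39270) (tt N31776 D51527) (tt N7785 (iv6 D25035)) (tt N15495 F39271))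
theorem Q15912 : ∀ i, i < 15912 → P i := stepQ 15911 Q15911 (allL N15911 (tt N15403 (iv1 F39272)) (tt N7786 (iv0 D25036)) (tt N15497 F102456) (tt N16259 F161325) (tt N31777 D51530) (tt N31778 D51531) (tt N31779 D51532) (tt N15496 F102457))
theorem Q15913 : ∀ i, i < 15913 → P i := stepQ 15912 Q15912 (allL N15912 (tt N7786 (iv1 D25037)) (tt N15403 F39273) (tt N15496 (iv2 F102454)) (tt N31780 D51534) (tt N31781 D51535) (tt N31782 D51536) (tt N31783 D51537) (tt N15497 (iv7 F102455)))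
theorem Q15914 : ∀ i, i < 15914 → P i := stepQ 15913 Q15913 (allL N15913 (tt N7962 F39277) (tt N15836 F39278) (tt N15536 F39274) (tt N7950 F39275) (tt N18112 (iv4 F45296)) (tt N7787 (iv5 D25038)) (tt N31784 D51538) (tt N7939 F39276))
theorem Q15915 : ∀ i, i < 15915 → P i := stepQ 15914 Q15914 (allL N15914 (tt N18164 F45404) (tt N22588 F53383) (tt N15537 F39283) (tt N31785 D51539) (tt N7788 (iv4 D25039)) (tt N31786 D51540) (tt N31787 D51541) (tt N11057 F39284))
theorem Q15916 : ∀ i, i < 15916 → P i := stepQ 15915 Q15915 (allL N15915 (tt N31788 D51542) (tt N15627 F161309) (tt N15538 F39285) (tt N31073 (iv3 F79895)) (tt N31787 (iv4 F81318)) (tt N15915 F39286) (tt N7788 (iv6 D25040)) (tt N15499 F39287))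
theorem Q15917 : ∀ i, i < 15917 → P i := stepQ 15916 Q15916 (allL N15916 (tt N15545 F39290) (tt N15544 F39291) (tt N7793 F39288) (tt N31789 D51544) (tt N7789 (iv4 D25041)) (tt N31345 (iv5 F80482)) (tt N31790 D51545) (tt N15539 F39289))
theorem Q15918 : ∀ i, i < 15918 → P i := stepQ 15917 Q15917 (allL N15917 (tt N31791 D51546) (tt N31792 D51547) (tt N7794 F39292) (tt N15501 F39293) (tt N31790 (iv4 F81325)) (tt N9712 F39294) (tt N7789 (iv6 D25042)) (tt N31793 D51548))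
theorem Q15919 : ∀ i, i < 15919 → P i := stepQ 15918 Q15918 (allL N15918 (tt N16284 (iv1 F40264)) (tt N31794 D51549) (tt N9827 F39295) (tt N31795 D51550) (tt N7791 (iv4 D25043)) (tt N31796 D51551) (tt N31797 D51552) (tt N15542 F39296))
theorem Q15920 : ∀ i, i < 15920 → P i := stepQ 15919 Q15919 (allL N15919 (tt N31798 D51553) (tt N31799 D51554) (tt N9825 F39297) (tt N20063 (iv3 F48784)) (tt N31797 (iv4 F81350)) (tt N9731 F39298) (tt N7791 (iv6 D25044)) (tt N31800 D51555))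
theorem Q15921 : ∀ i, i < 15921 → P i := stepQ 15920 Q15920 (allL N15920 (tt N8888 (iv1 F39304)) (tt N8898 F39305) (tt N15404 F39301) (tt N7792 (iv3 D25045)) (tt N31801 D51556) (tt N9814 F39299) (tt N16227 F40186) (tt N9813 F39300))
theorem Q15922 : ∀ i, i < 15922 → P i := stepQ 15921 Q15921 (allL N15921 (tt N31794 (iv1 F81338)) (tt N16284 (iv0 F40263)) (tt N15542 F39306) (tt N31802 D51557) (tt N7792 (iv4 D25046)) (tt N31803 D51558) (tt N31804 D51559) (tt N9827 F39307))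
theorem Q15923 : ∀ i, i < 15923 → P i := stepQ 15922 Q15922 (allL N15922 (tt N7814 F39309) (tt N31805 D51560) (tt N15543 F39308) (tt N16227 (iv3 F40188)) (tt N31804 (iv4 F81373)) (tt N22595 (iv5 F53401)) (tt N7792 (iv6 D25047)) (tt N31806 D51561))
theorem Q15924 : ∀ i, i < 15924 → P i := stepQ 15923 Q15923 (allL N15923 (tt N15539 (iv1 F39310)) (tt N7793 (iv0 D25048)) (tt N15545 (iv2 F39833)) (tt N31807 D51562) (tt N29517 (iv4 F76573)) (tt N31167 (iv5 F80039)) (tt N31808 D51563) (tt N15544 (iv7 F39835)))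
theorem Q15925 : ∀ i, i < 15925 → P i := stepQ 15924 Q15924 (allL N15924 (tt N7793 (iv1 D25049)) (tt N15539 F39311) (tt N15544 F39834) (tt N31809 D51564) (tt N16085 (iv4 F39830)) (tt N31168 (iv5 F80043)) (tt N31810 D51565) (tt N15545 F39831))
theorem Q15926 : ∀ i, i < 15926 → P i := stepQ 15925 Q15925 (allL N15925 (tt N31811 D51566) (tt N31812 D51567) (tt N31813 D51568) (tt N7793 (iv3 D25050)) (tt N7803 F39312) (tt N31814 D51569) (tt N12327 (iv6 F325558)) (tt N15546 F39313))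
theorem Q15927 : ∀ i, i < 15927 → P i := stepQ 15926 Q15926 (allL N15926 (tt N31815 D51571) (tt N31816 D51572) (tt N31345 (iv2 F80481)) (tt N31814 (iv3 F81395)) (tt N31321 (iv4 F80436)) (tt N7793 (iv5 D25051)) (tt N31817 D51573) (tt N15547 F39314))
theorem Q15928 : ∀ i, i < 15928 → P i := stepQ 15927 Q15927 (allL N15927 (tt N31818 D51574) (tt N31819 D51575) (tt N31790 (iv2 F81324)) (tt N12327 F326392) (tt N7794 F39315) (tt N31820 D51576) (tt N7793 (iv6 D25052)) (tt N22946 F326393))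
theorem Q15929 : ∀ i, i < 15929 → P i := stepQ 15928 Q15928 (allL N15928 (tt N31793 (iv1 F81337)) (tt N7794 (iv0 D25053)) (tt N31791 (iv2 F99974)) (tt N31821 D51579) (tt N31822 D51580) (tt N31823 D51581) (tt N15520 F48334) (tt N31792 (iv7 F99983)))
theorem Q15930 : ∀ i, i < 15930 → P i := stepQ 15929 Q15929 (allL N15929 (tt N7794 (iv1 D25054)) (tt N31793 F81335) (tt N31792 (iv2 F99982)) (tt N31824 D51583) (tt N31825 D51584) (tt N31826 D51585) (tt N31827 D51586) (tt N31791 (iv7 F99975)))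
theorem Q15931 : ∀ i, i < 15931 → P i := stepQ 15930 Q15930 (allL N15930 (tt N31792 (iv1 F81329)) (tt N31791 (iv0 F81328)) (tt N31793 (iv2 F81331)) (tt N7807 F39316) (tt N22946 (iv4 F326042)) (tt N19623 (iv5 F48024)) (tt N15551 F39317) (tt N7794 (iv7 D25055)))
theorem Q15932 : ∀ i, i < 15932 → P i := stepQ 15931 Q15931 (allL N15931 (tt N8889 (iv1 F39322)) (tt N15071 F39323) (tt N15073 (iv2 F39320)) (tt N7796 (iv3 D25056)) (tt N15073 (iv4 F39321)) (tt N18662 (iv5 F46371)) (tt N15066 F39318) (tt N11070 F39319))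
theorem Q15933 : ∀ i, i < 15933 → P i := stepQ 15932 Q15932 (allL N15932 (tt N15830 F39328) (tt N19788 (iv0 F48319)) (tt N20110 (iv2 F48834)) (tt N9839 (iv3 F39329)) (tt N7796 (iv4 D25057)) (tt N18975 (iv5 F46709)) (tt N9830 F39326) (tt N11072 F39327))
theorem Q15934 : ∀ i, i < 15934 → P i := stepQ 15933 Q15933 (allL N15933 (tt N20419 (iv1 F49247)) (tt N16262 (iv0 F40222)) (tt N15414 F39331) (tt N31828 D51587) (tt N7798 (iv4 D25058)) (tt N30966 (iv5 F79738)) (tt N31829 D51588) (tt N15416 F39332))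
theorem Q15935 : ∀ i, i < 15935 → P i := stepQ 15934 Q15934 (allL N15934 (tt N31830 D51589) (tt N31831 D51590) (tt N15415 F39333) (tt N7800 F39334) (tt N31829 (iv4 F81424)) (tt N8164 F39335) (tt N7798 (iv6 D25059)) (tt N31689 (iv7 F81192)))
theorem Q15936 : ∀ i, i < 15936 → P i := stepQ 15935 Q15935 (allL N15935 (tt N16021 F170928) (tt N16025 F170929) (tt N31832 D51593) (tt N7799 (iv3 D25060)) (tt N31828 (iv4 F81421)) (tt N10027 F39336) (tt N23607 F325181) (tt N15523 F39337))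
theorem Q15937 : ∀ i, i < 15937 → P i := stepQ 15936 Q15936 (allL N15936 (tt N10026 (iv1 F39345)) (tt N7800 (iv0 D25062)) (tt N10023 F49027) (tt N31833 D51596) (tt N31302 (iv4 F80373)) (tt N22707 (iv5 F53719)) (tt N16029 (iv6 F39628)) (tt N10024 (iv7 F49028)))
theorem Q15938 : ∀ i, i < 15938 → P i := stepQ 15937 Q15937 (allL N15937 (tt N7800 (iv1 D25063)) (tt N10026 F39340) (tt N10024 (iv2 F49010)) (tt N31799 (iv3 F161282)) (tt N31303 (iv4 F80368)) (tt N10081 (iv5 F39341)) (tt N10024 F39541) (tt N10023 F49029))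
theorem Q15939 : ∀ i, i < 15939 → P i := stepQ 15938 Q15938 (allL N15938 (tt N10024 (iv1 F39346)) (tt N10023 (iv0 F39347)) (tt N10026 F39342) (tt N31689 (iv3 F81190)) (tt N23543 F322601) (tt N8169 F39343) (tt N7820 F39344) (tt N7800 (iv7 D25064)))
theorem Q15940 : ∀ i, i < 15940 → P i := stepQ 15939 Q15939 (allL N15939 (tt N31210 (iv1 F170943)) (tt N31195 F170940) (tt N31207 (iv2 F169599)) (tt N7801 (iv3 D25065)) (tt N31637 (iv4 F81086)) (tt N15523 F39348) (tt N31834 D51601) (tt N10027 F39349))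
theorem Q15941 : ∀ i, i < 15941 → P i := stepQ 15940 Q15940 (allL N15940 (tt N7892 F39352) (tt N15705 F39353) (tt N15524 F39350) (tt N31834 (iv3 F81452)) (tt N7802 F39351) (tt N31835 D51602) (tt N7801 (iv6 D25066)) (tt N15557 (iv7 F39354)))
theorem Q15942 : ∀ i, i < 15942 → P i := stepQ 15941 Q15941 (allL N15941 (tt N15555 (iv1 F39355)) (tt N7803 (iv0 D25067)) (tt N15554 F173323) (tt N12368 F322538) (tt N31836 D51605) (tt N15527 (iv5 F171327)) (tt N12209 (iv6 F324019)) (tt N15553 (iv7 F173330)))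
theorem Q15943 : ∀ i, i < 15943 → P i := stepQ 15942 Q15942 (allL N15942 (tt N7803 (iv1 D25068)) (tt N15555 F39359) (tt N15553 (iv2 F173329)) (tt N31837 D51609) (tt N31838 D51610) (tt N15528 (iv5 F171331)) (tt N31839 D51612) (tt N15554 F173324))
theorem Q15944 : ∀ i, i < 15944 → P i := stepQ 15943 Q15943 (allL N15943 (tt N15554 (iv1 F39360)) (tt N15553 F39358) (tt N7803 (iv2 D25069)) (tt N15529 F39356) (tt N31813 (iv4 F81390)) (tt N16006 (iv5 F39563)) (tt N11311 (iv6 F325596)) (tt N15555 F39357))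
theorem Q15945 : ∀ i, i < 15945 → P i := stepQ 15944 Q15944 (allL N15944 (tt N15426 (iv1 F164118)) (tt N15390 (iv0 F164117)) (tt N15423 F164315) (tt N7805 (iv3 D25076)) (tt N31840 D51625) (tt N19367 (iv5 F47436)) (tt N15534 F39372) (tt N15424 F164316))
theorem Q15946 : ∀ i, i < 15946 → P i := stepQ 15945 Q15945 (allL N15945 (tt N16029 F39629) (tt N16029 (iv0 F39627)) (tt N15535 F39378) (tt N31660 (iv3 F164333)) (tt N17569 F324971) (tt N15535 F39375) (tt N7806 (iv6 D25081)) (tt N15535 F39376))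
theorem Q15947 : ∀ i, i < 15947 → P i := stepQ 15946 Q15946 (allL N15946 (tt N19914 (iv1 F48576)) (tt N19913 F48574) (tt N15498 F39393) (tt N31841 D51634) (tt N7808 (iv4 D25082)) (tt N31842 D51635) (tt N31843 D51636) (tt N9746 F39394))
theorem Q15948 : ∀ i, i < 15948 → P i := stepQ 15947 Q15947 (allL N15947 (tt N15627 F161310) (tt N31788 F81320) (tt N15499 F39395) (tt N14704 F39396) (tt N31843 (iv4 F81511)) (tt N15947 F39397) (tt N7808 (iv6 D25083)) (tt N15538 F39398))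
theorem Q15949 : ∀ i, i < 15949 → P i := stepQ 15948 Q15948 (allL N15948 (tt N15516 (iv1 F39401)) (tt N15515 F39402) (tt N7813 F39399) (tt N31844 D51637) (tt N7809 (iv4 D25084)) (tt N31845 D51638) (tt N31846 D51639) (tt N15500 F39400))
theorem Q15950 : ∀ i, i < 15950 → P i := stepQ 15949 Q15949 (allL N15949 (tt N31806 (iv1 F81383)) (tt N15543 (iv0 F39405)) (tt N7814 F39403) (tt N15540 F39404) (tt N31846 (iv4 F81521)) (tt N16601 (iv5 F40787)) (tt N7809 (iv6 D25085)) (tt N31805 (iv7 F81375)))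
theorem Q15951 : ∀ i, i < 15951 → P i := stepQ 15950 Q15950 (allL N15950 (tt N7816 (iv1 F39410)) (tt N7815 F39411) (tt N7817 F39406) (tt N9837 F39407) (tt N18156 (iv4 F45384)) (tt N15085 F39408) (tt N15503 F39409) (tt N7810 (iv7 D25086)))
theorem Q15952 : ∀ i, i < 15952 → P i := stepQ 15951 Q15951 (allL N15951 (tt N15384 (iv1 F39418)) (tt N15429 (iv0 F39417)) (tt N15433 F39414) (tt N7811 (iv3 D25087)) (tt N15649 F39416) (tt N18156 (iv5 F45385)) (tt N31672 F81151) (tt N15434 F39415))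
theorem Q15953 : ∀ i, i < 15953 → P i := stepQ 15952 Q15952 (allL N15952 (tt N31847 D51640) (tt N31848 D51641) (tt N15513 F39419) (tt N31849 D51642) (tt N7811 (iv4 D25088)) (tt N31850 D51643) (tt N31851 D51644) (tt N15511 F39420))
theorem Q15954 : ∀ i, i < 15954 → P i := stepQ 15953 Q15953 (allL N15953 (tt N15540 F39423) (tt N15551 F39424) (tt N15514 F39421) (tt N31672 (iv3 F81154)) (tt N31851 (iv4 F81536)) (tt N9763 F39422) (tt N7811 (iv6 D25089)) (tt N15549 (iv7 F79816)))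
theorem Q15955 : ∀ i, i < 15955 → P i := stepQ 15954 Q15954 (allL N15954 (tt N31848 (iv1 F81527)) (tt N31847 F81524) (tt N15511 F39425) (tt N31852 D51645) (tt N7812 (iv4 D25090)) (tt N31853 D51646) (tt N31854 D51647) (tt N15513 F39426))
theorem Q15956 : ∀ i, i < 15956 → P i := stepQ 15955 Q15955 (allL N15955 (tt N31833 (iv1 F161264)) (tt N31855 D51649) (tt N15512 F39427) (tt N16073 (iv3 F39781)) (tt N31854 (iv4 F81542)) (tt N8133 F39428) (tt N7812 (iv6 D25091)) (tt N31856 D51650))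
theorem Q15957 : ∀ i, i < 15957 → P i := stepQ 15956 Q15956 (allL N15956 (tt N15500 (iv1 F39429)) (tt N7813 (iv0 D25092)) (tt N15516 (iv2 F39672)) (tt N31857 D51651) (tt N18062 (iv4 F45232)) (tt N31131 (iv5 F79984)) (tt N31858 D51652) (tt N15515 (iv7 F39674)))
theorem Q15958 : ∀ i, i < 15958 → P i := stepQ 15957 Q15957 (allL N15957 (tt N7813 (iv1 D25093)) (tt N15500 F39430) (tt N15515 F39673) (tt N31859 D51653) (tt N16038 (iv4 F39669)) (tt N31132 (iv5 F79990)) (tt N31860 D51654) (tt N15516 F39670))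
theorem Q15959 : ∀ i, i < 15959 → P i := stepQ 15958 Q15958 (allL N15958 (tt N31861 D51655) (tt N31862 D51656) (tt N31863 D51657) (tt N7813 (iv3 D25094)) (tt N7818 F39431) (tt N31864 D51658) (tt N31865 D51659) (tt N15517 F39432))
theorem Q15960 : ∀ i, i < 15960 → P i := stepQ 15959 Q15959 (allL N15959 (tt N31866 D51660) (tt N31867 D51661) (tt N31845 (iv2 F81515)) (tt N31864 (iv3 F81564)) (tt N31868 D51662) (tt N7813 (iv5 D25095)) (tt N31869 D51663) (tt N15518 F39433))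
theorem Q15961 : ∀ i, i < 15961 → P i := stepQ 15960 Q15960 (allL N15960 (tt N31870 D51664) (tt N31810 (iv0 F81617)) (tt N31846 (iv2 F81520)) (tt N31865 (iv3 F81566)) (tt N7814 F39434) (tt N31871 D51666) (tt N7813 (iv6 D25096)) (tt N31872 D51667))
theorem Q15962 : ∀ i, i < 15962 → P i := stepQ 15961 Q15961 (allL N15961 (tt N31805 (iv1 F81374)) (tt N7814 (iv0 D25097)) (tt N31806 (iv2 F81379)) (tt N31873 D51668) (tt N31874 D51669) (tt N22631 F81358) (tt N31800 F81359) (tt N15543 F81360))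
theorem Q15963 : ∀ i, i < 15963 → P i := stepQ 15962 Q15962 (allL N15962 (tt N15543 (iv1 F39437)) (tt N31806 F81382) (tt N31805 F81376) (tt N7821 F39435) (tt N31872 (iv4 F81581)) (tt N20361 (iv5 F49192)) (tt N15522 F39436) (tt N7814 (iv7 D25098)))
theorem Q15964 : ∀ i, i < 15964 → P i := stepQ 15963 Q15963 (allL N15963 (tt N15437 (iv1 F39442)) (tt N15430 (iv0 F39443)) (tt N8939 F39438) (tt N7815 (iv3 D25099)) (tt N8941 F39439) (tt N8135 F39440) (tt N30214 (iv6 F78201)) (tt N9754 F39441))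
theorem Q15965 : ∀ i, i < 15965 → P i := stepQ 15964 Q15964 (allL N15964 (tt N15529 (iv1 F39444)) (tt N7818 (iv0 D25100)) (tt N15528 F173321) (tt N12406 F323157) (tt N31875 D51672) (tt N15553 F105474) (tt N12237 (iv6 F324585)) (tt N15527 F173322))
theorem Q15966 : ∀ i, i < 15966 → P i := stepQ 15965 Q15965 (allL N15965 (tt N7818 (iv1 D25101)) (tt N15529 F39448) (tt N15527 (iv2 F173316)) (tt N31876 D51676) (tt N31877 D51677) (tt N15554 F105470) (tt N31878 D51679) (tt N15528 (iv7 F173320)))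
theorem Q15967 : ∀ i, i < 15967 → P i := stepQ 15966 Q15966 (allL N15966 (tt N15528 (iv1 F39449)) (tt N15527 F39447) (tt N7818 (iv2 D25102)) (tt N15555 F39445) (tt N31863 (iv4 F81559)) (tt N15983 (iv5 F39485)) (tt N12319 F325158) (tt N15529 F39446))
theorem Q15968 : ∀ i, i < 15968 → P i := stepQ 15967 Q15967 (allL N15967 (tt N24343 (iv1 F324125)) (tt N31839 F326451) (tt N12319 (iv2 F324126)) (tt N7819 F39450) (tt N31865 (iv4 F81567)) (tt N12099 (iv5 F324128)) (tt N7818 (iv6 D25103)) (tt N12321 (iv7 F324130)))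
theorem Q15969 : ∀ i, i < 15969 → P i := stepQ 15968 Q15968 (allL N15968 (tt N12219 (iv1 F324098)) (tt N11985 (iv0 F324097)) (tt N12221 (iv2 F324116)) (tt N12099 (iv3 F324127)) (tt N23550 (iv4 F323319)) (tt N7819 (iv5 D25104)) (tt N15987 (iv6 F39493)) (tt N12215 (iv7 F324132)))
theorem Q15970 : ∀ i, i < 15970 → P i := stepQ 15969 Q15969 (allL N15969 (tt N15526 (iv1 F39455)) (tt N15556 F39456) (tt N12220 (iv2 F323838)) (tt N12321 (iv3 F324129)) (tt N7821 F39453) (tt N12215 (iv5 F324131)) (tt N15533 F39454) (tt N7819 (iv7 D25105)))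
theorem Q15971 : ∀ i, i < 15971 → P i := stepQ 15970 Q15970 (allL N15970 (tt N15705 (iv1 F39460)) (tt N7892 F39462) (tt N15557 F39458) (tt N31879 D51689) (tt N7820 (iv4 D25107)) (tt N11938 (iv5 F324119)) (tt N23543 F322600) (tt N15524 F39459))
theorem Q15972 : ∀ i, i < 15972 → P i := stepQ 15971 Q15971 (allL N15971 (tt N15589 F39465) (tt N15588 F39466) (tt N7823 F39463) (tt N31880 D51691) (tt N7822 (iv4 D25108)) (tt N31881 D51692) (tt N31882 D51693) (tt N15586 F39464))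
theorem Q15973 : ∀ i, i < 15973 → P i := stepQ 15972 Q15972 (allL N15972 (tt N31883 D51694) (tt N31884 D51695) (tt N7824 F39467) (tt N15564 F39468) (tt N31882 (iv4 F81619)) (tt N16618 F40801) (tt N7822 (iv6 D25109)) (tt N31885 D51696))
theorem Q15974 : ∀ i, i < 15974 → P i := stepQ 15973 Q15973 (allL N15973 (tt N15586 (iv1 F39469)) (tt N7823 (iv0 D25110)) (tt N15589 (iv2 F39475)) (tt N31886 D51697) (tt N16032 (iv4 F39644)) (tt N31815 (iv5 F81399)) (tt N31887 D51698) (tt N15588 (iv7 F39476)))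
theorem Q15975 : ∀ i, i < 15975 → P i := stepQ 15974 Q15974 (allL N15974 (tt N7823 (iv1 D25111)) (tt N15586 F39470) (tt N15588 F39472) (tt N31888 D51699) (tt N15188 (iv4 F39471)) (tt N31816 (iv5 F81406)) (tt N15566 F39473) (tt N15589 F39474))
theorem Q15976 : ∀ i, i < 15976 → P i := stepQ 15975 Q15975 (allL N15975 (tt N31889 D51700) (tt N31890 D51701) (tt N31891 D51702) (tt N7823 (iv3 D25112)) (tt N7825 F39477) (tt N31892 D51703) (tt N31893 D51704) (tt N15590 F39478))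
theorem Q15977 : ∀ i, i < 15977 → P i := stepQ 15976 Q15976 (allL N15976 (tt N31081 (iv1 F79910)) (tt N31084 (iv0 F79911)) (tt N31881 (iv2 F81612)) (tt N31892 (iv3 F81640)) (tt N31894 D51705) (tt N7823 (iv5 D25113)) (tt N31895 D51706) (tt N15591 F39479))
theorem Q15978 : ∀ i, i < 15978 → P i := stepQ 15977 Q15977 (allL N15977 (tt N31896 D51707) (tt N31897 D51708) (tt N31882 (iv2 F81618)) (tt N31893 (iv3 F81642)) (tt N7824 F39480) (tt N31898 D51709) (tt N7823 (iv6 D25114)) (tt N31899 D51710))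
theorem Q15979 : ∀ i, i < 15979 → P i := stepQ 15978 Q15978 (allL N15978 (tt N31885 (iv1 F81626)) (tt N7824 (iv0 D25115)) (tt N31883 (iv2 F99277)) (tt N31900 D51712) (tt N31901 D51713) (tt N31902 D51714) (tt N31903 D51715) (tt N31884 (iv7 F99280)))
theorem Q15980 : ∀ i, i < 15980 → P i := stepQ 15979 Q15979 (allL N15979 (tt N7824 (iv1 D25116)) (tt N31885 F81625) (tt N31884 (iv2 F99279)) (tt N31904 D51717) (tt N31905 D51718) (tt N31906 D51719) (tt N31907 D51720) (tt N31883 (iv7 F99278)))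
theorem Q15981 : ∀ i, i < 15981 → P i := stepQ 15980 Q15980 (allL N15980 (tt N31884 (iv1 F81620)) (tt N31883 F81624) (tt N31885 (iv2 F81621)) (tt N7829 F39481) (tt N31899 (iv4 F81649)) (tt N16617 (iv5 F83902)) (tt N15595 F39482) (tt N7824 (iv7 D25117)))
theorem Q15982 : ∀ i, i < 15982 → P i := stepQ 15981 Q15981 (allL N15981 (tt N15598 (iv1 F39483)) (tt N7825 (iv0 D25118)) (tt N15597 (iv2 F170005)) (tt N25338 F322524) (tt N31908 D51723) (tt N16004 (iv5 F81766)) (tt N31909 D51725) (tt N15596 (iv7 F170006)))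
theorem Q15983 : ∀ i, i < 15983 → P i := stepQ 15982 Q15982 (allL N15982 (tt N7825 (iv1 D25119)) (tt N15598 F39488) (tt N15596 F170010) (tt N31910 D51727) (tt N31911 D51728) (tt N16005 (iv5 F81782)) (tt N15575 (iv6 F324523)) (tt N15597 F170011))
theorem Q15984 : ∀ i, i < 15984 → P i := stepQ 15983 Q15983 (allL N15983 (tt N15597 (iv1 F39489)) (tt N15596 F39487) (tt N7825 (iv2 D25120)) (tt N15576 F39484) (tt N31891 (iv4 F81635)) (tt N15966 F39485) (tt N24588 (iv6 F325258)) (tt N15598 F39486))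
theorem Q15985 : ∀ i, i < 15985 → P i := stepQ 15984 Q15984 (allL N15984 (tt N11309 (iv1 F326187)) (tt N24586 (iv0 F326188)) (tt N24588 F325269) (tt N7826 F39490) (tt N31893 (iv4 F81643)) (tt N24411 (iv5 F325356)) (tt N7825 (iv6 D25121)) (tt N24571 (iv7 F325971)))
theorem Q15986 : ∀ i, i < 15986 → P i := stepQ 15985 Q15985 (allL N15985 (tt N15581 (iv1 F39497)) (tt N7826 (iv0 D25122)) (tt N15578 F47644) (tt N24924 (iv3 F325381)) (tt N8958 F47645) (tt N12135 F324194) (tt N11837 (iv6 F325385)) (tt N15579 F47647))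
theorem Q15987 : ∀ i, i < 15987 → P i := stepQ 15986 Q15986 (allL N15986 (tt N7826 (iv1 D25123)) (tt N15581 F39491) (tt N15579 F47641) (tt N27721 (iv3 F325388)) (tt N8959 F47642) (tt N23913 F324196) (tt N31912 D51740) (tt N15578 F47643))
theorem Q15988 : ∀ i, i < 15988 → P i := stepQ 15987 Q15987 (allL N15987 (tt N21072 (iv1 F50083)) (tt N23589 (iv0 F324779)) (tt N15580 F39492) (tt N24411 (iv3 F325355)) (tt N31913 D51742) (tt N7826 (iv5 D25124)) (tt N15968 F39493) (tt N23908 (iv7 F325360)))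
theorem Q15989 : ∀ i, i < 15989 → P i := stepQ 15988 Q15988 (allL N15988 (tt N15579 (iv1 F39498)) (tt N15578 F39499) (tt N15581 F39494) (tt N24571 (iv3 F325970)) (tt N7829 F39495) (tt N23908 (iv5 F325359)) (tt N15601 F39496) (tt N7826 (iv7 D25125)))
theorem Q15990 : ∀ i, i < 15990 → P i := stepQ 15989 Q15989 (allL N15989 (tt N15466 (iv1 F163907)) (tt N15395 (iv0 F163908)) (tt N15463 (iv2 F163906)) (tt N7827 (iv3 D25127)) (tt N31914 D51747) (tt N31915 D51748) (tt N15603 F39502) (tt N15464 (iv7 F163912)))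
theorem Q15991 : ∀ i, i < 15991 → P i := stepQ 15990 Q15990 (allL N15990 (tt N10081 (iv1 F39540)) (tt N22707 (iv0 F53721)) (tt N15583 F39535) (tt N31915 (iv3 F81701)) (tt N31916 D51751) (tt N7827 (iv5 D25129)) (tt N19616 (iv6 F48014)) (tt N10136 (iv7 F39538)))
theorem Q15992 : ∀ i, i < 15992 → P i := stepQ 15991 Q15991 (allL N15991 (tt N7839 F47802) (tt N11616 (iv0 F323869)) (tt N11653 (iv2 F323846)) (tt N31917 D51758) (tt N7828 (iv4 D25132)) (tt N11604 F323824) (tt N17566 F323825) (tt N11603 (iv7 F324189)))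
theorem Q15993 : ∀ i, i < 15993 → P i := stepQ 15992 Q15992 (allL N15992 (tt N22707 F53722) (tt N10081 (iv0 F39506)) (tt N10136 F39539) (tt N31709 (iv3 F168222)) (tt N31918 D51761) (tt N7828 (iv5 D25133)) (tt N8204 F39505) (tt N15583 F39533))
theorem Q15994 : ∀ i, i < 15994 → P i := stepQ 15993 Q15993 (allL N15993 (tt N20252 F49002) (tt N15630 (iv0 F39510)) (tt N15584 (iv2 F39513)) (tt N31710 (iv3 F168242)) (tt N17566 (iv4 F322282)) (tt N15558 F39508) (tt N7828 (iv6 D25134)) (tt N15602 F39507))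
theorem Q15995 : ∀ i, i < 15995 → P i := stepQ 15994 Q15994 (allL N15994 (tt N15566 F39549) (tt N15565 F39550) (tt N7831 F39547) (tt N31919 D51762) (tt N7830 (iv4 D25135)) (tt N31920 D51763) (tt N31921 D51764) (tt N15563 F39548))
theorem Q15996 : ∀ i, i < 15996 → P i := stepQ 15995 Q15995 (allL N15995 (tt N31922 D51765) (tt N31903 (iv0 F81654)) (tt N7832 F39551) (tt N15587 F39552) (tt N31921 (iv4 F81743)) (tt N16567 (iv5 F40713)) (tt N7830 (iv6 D25136)) (tt N31923 D51766))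
theorem Q15997 : ∀ i, i < 15997 → P i := stepQ 15996 Q15996 (allL N15996 (tt N15563 (iv1 F39553)) (tt N7831 (iv0 D25137)) (tt N15566 (iv2 F39638)) (tt N31924 D51767) (tt N18010 (iv4 F45095)) (tt N31866 (iv5 F81568)) (tt N15588 F39641) (tt N15565 (iv7 F39640)))
theorem Q15998 : ∀ i, i < 15998 → P i := stepQ 15997 Q15997 (allL N15997 (tt N7831 (iv1 D25138)) (tt N15563 F39554) (tt N15565 F39639) (tt N31925 D51768) (tt N16031 (iv4 F39636)) (tt N31867 (iv5 F81574)) (tt N31926 D51769) (tt N15566 F39637))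
theorem Q15999 : ∀ i, i < 15999 → P i := stepQ 15998 Q15998 (allL N15998 (tt N31927 D51770) (tt N31928 D51771) (tt N31929 D51772) (tt N7831 (iv3 D25139)) (tt N7833 F39555) (tt N31930 D51773) (tt N12328 (iv6 F325263)) (tt N15567 F39556))
theorem Q16000 : ∀ i, i < 16000 → P i := stepQ 15999 Q15999 (allL N15999 (tt N31041 (iv1 F79822)) (tt N31044 (iv0 F79823)) (tt N31920 (iv2 F81737)) (tt N31930 (iv3 F81768)) (tt N31931 D51775) (tt N7831 (iv5 D25140)) (tt N31932 D51776) (tt N15568 F39557))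
theorem Q16001 : ∀ i, i < 16001 → P i := stepQ 16000 Q16000 (allL N16000 (tt N31933 D51777) (tt N31934 D51778) (tt N31921 (iv2 F81742)) (tt N12328 (iv3 F325262)) (tt N7832 F39558) (tt N31935 D51779) (tt N7831 (iv6 D25141)) (tt N31936 D51780))
theorem Q16002 : ∀ i, i < 16002 → P i := stepQ 16001 Q16001 (allL N16001 (tt N31923 (iv1 F81752)) (tt N7832 (iv0 D25142)) (tt N31922 (iv2 F99261)) (tt N31937 D51782) (tt N31938 D51783) (tt N19621 F81336) (tt N31939 D51784) (tt N31903 (iv7 F99266)))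
theorem Q16003 : ∀ i, i < 16003 → P i := stepQ 16002 Q16002 (allL N16002 (tt N7832 (iv1 D25143)) (tt N31923 F81749) (tt N31903 (iv2 F99265)) (tt N16242 F165559) (tt N31940 D51787) (tt N19622 F81750) (tt N31883 (iv6 F81751)) (tt N31922 (iv7 F99262)))
theorem Q16004 : ∀ i, i < 16004 → P i := stepQ 16003 Q16003 (allL N16003 (tt N31903 F81653) (tt N31922 (iv0 F81745)) (tt N31923 (iv2 F81746)) (tt N7837 F39559) (tt N31936 (iv4 F81776)) (tt N18939 (iv5 F46675)) (tt N15573 F39560) (tt N7832 (iv7 D25144)))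
theorem Q16005 : ∀ i, i < 16005 → P i := stepQ 16004 Q16004 (allL N16004 (tt N15576 (iv1 F39561)) (tt N7833 (iv0 D25145)) (tt N15575 (iv2 F169998)) (tt N12551 F320741) (tt N31941 D51790) (tt N15981 F81766) (tt N15596 F324515) (tt N15574 (iv7 F170002)))
theorem Q16006 : ∀ i, i < 16006 → P i := stepQ 16005 Q16005 (allL N16005 (tt N7833 (iv1 D25146)) (tt N15576 F39566) (tt N15574 F170003) (tt N31942 D51793) (tt N31943 D51794) (tt N15982 F81782) (tt N31944 D51795) (tt N15575 F170004))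
theorem Q16007 : ∀ i, i < 16007 → P i := stepQ 16006 Q16006 (allL N16006 (tt N15575 (iv1 F39567)) (tt N15574 F39565) (tt N7833 (iv2 D25147)) (tt N15598 F39562) (tt N31929 (iv4 F81762)) (tt N15943 F39563) (tt N11259 (iv6 F324507)) (tt N15576 F39564))
theorem Q16008 : ∀ i, i < 16008 → P i := stepQ 16007 Q16007 (allL N16007 (tt N15601 (iv1 F39575)) (tt N7834 (iv0 D25149)) (tt N11841 (iv2 F325391)) (tt N12740 (iv3 F325941)) (tt N8964 F79883) (tt N8656 F324955) (tt N31945 D51802) (tt N11837 (iv7 F325386)))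
theorem Q16009 : ∀ i, i < 16009 → P i := stepQ 16008 Q16008 (allL N16008 (tt N11837 (iv1 F325383)) (tt N11841 (iv0 F325389)) (tt N15601 F39572) (tt N11248 (iv3 F325265)) (tt N7837 F39573) (tt N11247 F324229) (tt N15581 F39574) (tt N7834 (iv7 D25152)))
theorem Q16010 : ∀ i, i < 16010 → P i := stepQ 16009 Q16009 (allL N16009 (tt N15630 F39583) (tt N20252 (iv0 F49001)) (tt N15602 F39581) (tt N31729 (iv3 F163898)) (tt N11666 (iv4 F322248)) (tt N15559 F39584) (tt N7835 (iv6 D25155)) (tt N15584 F39582))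
theorem Q16011 : ∀ i, i < 16011 → P i := stepQ 16010 Q16010 (allL N16010 (tt N15397 (iv1 F168274)) (tt N15477 (iv0 F168275)) (tt N15475 (iv2 F168270)) (tt N7836 (iv3 D25156)) (tt N31946 D51817) (tt N19625 (iv5 F48029)) (tt N15582 F39585) (tt N15474 (iv7 F168272)))
theorem Q16012 : ∀ i, i < 16012 → P i := stepQ 16011 Q16011 (allL N16011 (tt N8592 (iv1 F321429)) (tt N7838 (iv0 D25158)) (tt N11748 F319446) (tt N31947 D51821) (tt N31948 D51822) (tt N16015 F81881) (tt N31949 D51824) (tt N11747 F319447))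
theorem Q16013 : ∀ i, i < 16013 → P i := stepQ 16012 Q16012 (allL N16012 (tt N7838 (iv1 D25159)) (tt N8592 (iv0 F321428)) (tt N11747 F319452) (tt N31950 D51826) (tt N31951 D51827) (tt N16016 F81884) (tt N15605 F323075) (tt N11748 F319453))
theorem Q16014 : ∀ i, i < 16014 → P i := stepQ 16013 Q16013 (allL N16013 (tt N11748 F320220) (tt N11747 F320221) (tt N7838 (iv2 D25160)) (tt N15606 F39591) (tt N25347 F320222) (tt N11879 (iv5 F321503)) (tt N8583 (iv6 F321905)) (tt N8592 (iv7 F321430)))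
theorem Q16015 : ∀ i, i < 16015 → P i := stepQ 16014 Q16014 (allL N16014 (tt N25341 (iv1 F320740)) (tt N25337 (iv0 F320742)) (tt N25347 F319472) (tt N8916 F39596) (tt N7838 (iv4 D25161)) (tt N31952 D51834) (tt N11713 (iv6 F321459)) (tt N11746 (iv7 F320747)))
theorem Q16016 : ∀ i, i < 16016 → P i := stepQ 16015 Q16015 (allL N16015 (tt N15606 (iv1 F39607)) (tt N7840 (iv0 D25167)) (tt N15605 (iv2 F105350)) (tt N31953 D51844) (tt N31954 D51845) (tt N16011 (iv5 F81881)) (tt N11747 (iv6 F323064)) (tt N15604 (iv7 F105353)))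
theorem Q16017 : ∀ i, i < 16017 → P i := stepQ 16016 Q16016 (allL N16016 (tt N7840 (iv1 D25168)) (tt N15606 F39611) (tt N15604 F105354) (tt N31955 D51849) (tt N31956 D51850) (tt N16012 (iv5 F81884)) (tt N31957 D51852) (tt N15605 F105355))
theorem Q16018 : ∀ i, i < 16018 → P i := stepQ 16017 Q16017 (allL N16017 (tt N15605 (iv1 F39612)) (tt N15604 F39610) (tt N7840 (iv2 D25169)) (tt N8592 F322502) (tt N31958 D51853) (tt N11848 F322503) (tt N8575 (iv6 F323943)) (tt N15606 F39609))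
theorem Q16019 : ∀ i, i < 16019 → P i := stepQ 16018 Q16018 (allL N16018 (tt N31959 D51855) (tt N31960 D51856) (tt N31958 (iv2 F81873)) (tt N8922 F39613) (tt N7840 (iv4 D25170)) (tt N31961 D51857) (tt N23944 (iv6 F323873)) (tt N15607 F39614))
theorem Q16020 : ∀ i, i < 16020 → P i := stepQ 16019 Q16019 (allL N16019 (tt N31955 (iv1 F169981)) (tt N31962 D51872) (tt N31963 D51873) (tt N7842 (iv3 D25177)) (tt N31964 D51874) (tt N31965 D51875) (tt N24036 (iv6 F325187)) (tt N27635 (iv7 F323942)))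
theorem Q16021 : ∀ i, i < 16021 → P i := stepQ 16020 Q16020 (allL N16020 (tt N31966 D51878) (tt N31967 D51879) (tt N31223 (iv2 F170433)) (tt N31968 D51880) (tt N7842 (iv4 D25178)) (tt N31701 (iv5 F341334)) (tt N31704 F341324) (tt N31221 (iv7 F170424)))
theorem Q16022 : ∀ i, i < 16022 → P i := stepQ 16021 Q16021 (allL N16021 (tt N31064 F170927) (tt N15935 (iv0 F170928)) (tt N31063 (iv2 F170435)) (tt N31965 (iv3 F81917)) (tt N31969 D51886) (tt N7842 (iv5 D25179)) (tt N31970 D51887) (tt N31062 F170431))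
theorem Q16023 : ∀ i, i < 16023 → P i := stepQ 16022 Q16022 (allL N16022 (tt N27973 (iv1 F326917)) (tt N31917 (iv0 F326919)) (tt N31224 (iv2 F170437)) (tt N24036 F326109) (tt N31704 F341323) (tt N31971 D51891) (tt N7842 (iv6 D25180)) (tt N31972 D51892))
theorem Q16024 : ∀ i, i < 16024 → P i := stepQ 16023 Q16023 (allL N16023 (tt N31973 D51894) (tt N31947 (iv0 F105374)) (tt N24048 F323052) (tt N7843 (iv3 D25182)) (tt N31974 D51897) (tt N23478 (iv5 F324441)) (tt N11569 (iv6 F324460)) (tt N31222 (iv7 F170432)))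
theorem Q16025 : ∀ i, i < 16025 → P i := stepQ 16024 Q16024 (allL N16024 (tt N31967 (iv1 F81921)) (tt N31966 F81925) (tt N31221 F170428) (tt N31975 D51900) (tt N7843 (iv4 D25183)) (tt N31976 D51901) (tt N17834 (iv6 F325617)) (tt N31223 (iv7 F170434)))
theorem Q16026 : ∀ i, i < 16026 → P i := stepQ 16025 Q16025 (allL N16025 (tt N15935 (iv1 F170929)) (tt N31064 F170926) (tt N31062 F170429) (tt N23478 F325560) (tt N31977 D51903) (tt N7843 (iv5 D25184)) (tt N17827 (iv6 F326395)) (tt N31063 (iv7 F170436)))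
theorem Q16027 : ∀ i, i < 16027 → P i := stepQ 16026 Q16026 (allL N16026 (tt N11665 (iv1 F326399)) (tt N31978 D51906) (tt N23798 (iv2 F326149)) (tt N11569 F325571) (tt N17834 (iv4 F325616)) (tt N11659 (iv5 F326400)) (tt N7843 (iv6 D25185)) (tt N23392 (iv7 F326401)))
theorem Q16028 : ∀ i, i < 16028 → P i := stepQ 16027 Q16027 (allL N16027 (tt N15499 F161250) (tt N15538 (iv0 F161251)) (tt N31788 (iv2 F161311)) (tt N7845 (iv3 D25187)) (tt N31979 D51912) (tt N31980 D51913) (tt N31981 D51914) (tt N15627 F49023))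
theorem Q16029 : ∀ i, i < 16029 → P i := stepQ 16028 Q16028 (allL N16028 (tt N8932 F80377) (tt N8932 F80378) (tt N15628 F49030) (tt N31982 D51915) (tt N7845 (iv4 D25188)) (tt N31240 (iv5 F80245)) (tt N31983 D51916) (tt N15628 F49024))
theorem Q16030 : ∀ i, i < 16030 → P i := stepQ 16029 Q16029 (allL N16029 (tt N15945 F39627) (tt N15945 (iv0 F39629)) (tt N15629 (iv2 F49026)) (tt N31980 (iv3 F81944)) (tt N31238 (iv4 F80246)) (tt N7845 (iv5 D25189)) (tt N15936 F39628) (tt N15629 F49025))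
theorem Q16031 : ∀ i, i < 16031 → P i := stepQ 16030 Q16030 (allL N16030 (tt N15584 F39631) (tt N15602 (iv0 F39632)) (tt N15630 F49020) (tt N31981 (iv3 F81947)) (tt N31983 (iv4 F81951)) (tt N11111 F39630) (tt N7845 (iv6 D25190)) (tt N20252 (iv7 F49019)))
theorem Q16032 : ∀ i, i < 16032 → P i := stepQ 16031 Q16031 (allL N16031 (tt N8906 F39888) (tt N31739 (iv0 F81258)) (tt N20428 (iv2 F49272)) (tt N7848 F39634) (tt N15997 F39636) (tt N7846 (iv5 D25191)) (tt N31984 D51917) (tt N15260 F39635))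
theorem Q16033 : ∀ i, i < 16033 → P i := stepQ 16032 Q16032 (allL N16032 (tt N18163 (iv1 F45401)) (tt N14894 (iv0 F39645)) (tt N15634 F39642) (tt N16679 (iv3 F40899)) (tt N15973 F39644) (tt N7847 (iv5 D25192)) (tt N31985 D51918) (tt N15261 F39643))
theorem Q16034 : ∀ i, i < 16034 → P i := stepQ 16033 Q16033 (allL N16033 (tt N15884 F39650) (tt N29493 (iv0 F76525)) (tt N15680 F39648) (tt N31986 D51919) (tt N7848 (iv4 D25193)) (tt N31987 D51920) (tt N31988 D51921) (tt N15262 F39649))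
theorem Q16035 : ∀ i, i < 16035 → P i := stepQ 16034 Q16034 (allL N16034 (tt N31989 D51922) (tt N18210 (iv0 F166152)) (tt N15681 F39651) (tt N31984 (iv3 F81954)) (tt N31988 (iv4 F81968)) (tt N16034 F39652) (tt N7848 (iv6 D25194)) (tt N15637 F39653))
theorem Q16036 : ∀ i, i < 16036 → P i := stepQ 16035 Q16035 (allL N16035 (tt N15693 F39656) (tt N15692 F39657) (tt N7853 F39654) (tt N31990 D51924) (tt N7849 (iv4 D25195)) (tt N31092 (iv5 F79920)) (tt N31991 D51925) (tt N15682 F39655))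
theorem Q16037 : ∀ i, i < 16037 → P i := stepQ 16036 Q16036 (allL N16036 (tt N31992 D51926) (tt N31993 D51927) (tt N7854 F39658) (tt N15639 F39659) (tt N31991 (iv4 F81975)) (tt N18251 (iv5 F45627)) (tt N7849 (iv6 D25196)) (tt N31994 D51928))
theorem Q16038 : ∀ i, i < 16038 → P i := stepQ 16037 Q16037 (allL N16037 (tt N7856 (iv1 F39665)) (tt N7855 F39666) (tt N7857 F39660) (tt N15641 F39661) (tt N9694 F39662) (tt N8987 F39663) (tt N15685 F39664) (tt N7850 (iv7 D25197)))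
theorem Q16039 : ∀ i, i < 16039 → P i := stepQ 16038 Q16038 (allL N16038 (tt N8896 (iv1 F39675)) (tt N14770 (iv0 F39671)) (tt N20433 (iv2 F49289)) (tt N7851 (iv3 D25198)) (tt N15957 F39669) (tt N15432 F39667) (tt N31995 D51929) (tt N15686 F39668))
theorem Q16040 : ∀ i, i < 16040 → P i := stepQ 16039 Q16039 (allL N16039 (tt N15864 F39678) (tt N29480 (iv0 F76493)) (tt N15690 F39676) (tt N31996 D51930) (tt N7851 (iv4 D25199)) (tt N31997 D51931) (tt N31998 D51932) (tt N15687 F39677))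
theorem Q16041 : ∀ i, i < 16041 → P i := stepQ 16040 Q16040 (allL N16040 (tt N31999 D51933) (tt N21069 F166124) (tt N15691 F39679) (tt N31995 (iv3 F81986)) (tt N31998 (iv4 F81997)) (tt N18261 (iv5 F45651)) (tt N7851 (iv6 D25200)) (tt N32000 D51935))
theorem Q16042 : ∀ i, i < 16042 → P i := stepQ 16041 Q16041 (allL N16041 (tt N29480 (iv1 F76494)) (tt N15864 F39682) (tt N15687 F39680) (tt N32001 D51936) (tt N7852 (iv4 D25201)) (tt N32002 D51937) (tt N32003 D51938) (tt N15690 F39681))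
theorem Q16043 : ∀ i, i < 16043 → P i := stepQ 16042 Q16042 (allL N16042 (tt N7886 F39684) (tt N32004 D51939) (tt N15688 F39683) (tt N20432 (iv3 F49287)) (tt N32003 (iv4 F82009)) (tt N30571 (iv5 F78895)) (tt N7852 (iv6 D25202)) (tt N32005 D51940))
theorem Q16044 : ∀ i, i < 16044 → P i := stepQ 16043 Q16043 (allL N16043 (tt N15682 (iv1 F39685)) (tt N7853 (iv0 D25203)) (tt N15693 (iv2 F39690)) (tt N32006 D51941) (tt N16220 (iv4 F40176)) (tt N32007 D51942) (tt N32008 D51943) (tt N15692 F39691))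
theorem Q16045 : ∀ i, i < 16045 → P i := stepQ 16044 Q16044 (allL N16044 (tt N7853 (iv1 D25204)) (tt N15682 F39686) (tt N15692 (iv2 F39688)) (tt N21344 (iv3 F51123)) (tt N15541 F39687) (tt N21343 F51122) (tt N32009 D51944) (tt N15693 (iv7 F39689)))
theorem Q16046 : ∀ i, i < 16046 → P i := stepQ 16045 Q16045 (allL N16045 (tt N32010 D51945) (tt N24010 F321479) (tt N23957 (iv2 F322479)) (tt N7853 (iv3 D25205)) (tt N7860 F39692) (tt N32011 D51948) (tt N23728 (iv6 F323155)) (tt N15694 F39693))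
theorem Q16047 : ∀ i, i < 16047 → P i := stepQ 16046 Q16046 (allL N16046 (tt N32012 D51950) (tt N32013 D51951) (tt N31092 (iv2 F79919)) (tt N32011 (iv3 F82040)) (tt N31078 (iv4 F79902)) (tt N7853 (iv5 D25206)) (tt N32014 D51952) (tt N15695 F39694))
theorem Q16048 : ∀ i, i < 16048 → P i := stepQ 16047 Q16047 (allL N16047 (tt N32015 D51953) (tt N32016 D51954) (tt N31991 (iv2 F81974)) (tt N23728 F324581) (tt N7854 F39695) (tt N32017 D51955) (tt N7853 (iv6 D25207)) (tt N23917 (iv7 F325708)))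
theorem Q16049 : ∀ i, i < 16049 → P i := stepQ 16048 Q16048 (allL N16048 (tt N31994 (iv1 F81985)) (tt N7854 (iv0 D25208)) (tt N31992 (iv2 F170651)) (tt N32018 D51958) (tt N32019 D51959) (tt N32020 D51960) (tt N15653 F80342) (tt N31993 (iv7 F170657)))
theorem Q16050 : ∀ i, i < 16050 → P i := stepQ 16049 Q16049 (allL N16049 (tt N7854 (iv1 D25209)) (tt N31994 F81984) (tt N31993 (iv2 F170656)) (tt N32021 D51962) (tt N32022 D51963) (tt N32023 D51964) (tt N32024 D51965) (tt N31992 (iv7 F170652)))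
theorem Q16051 : ∀ i, i < 16051 → P i := stepQ 16050 Q16050 (allL N16050 (tt N31993 (iv1 F81978)) (tt N31992 F81983) (tt N31994 (iv2 F81980)) (tt N7864 F39696) (tt N23917 F325952) (tt N19278 (iv5 F47237)) (tt N15698 F39697) (tt N7854 (iv7 D25210)))
theorem Q16052 : ∀ i, i < 16052 → P i := stepQ 16051 Q16051 (allL N16051 (tt N20896 (iv1 F49842)) (tt N14771 (iv0 F39701)) (tt N19672 (iv2 F48127)) (tt N7855 (iv3 D25211)) (tt N9584 F39699) (tt N18678 (iv5 F46385)) (tt N8869 F39698) (tt N20350 (iv7 F49159)))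
theorem Q16053 : ∀ i, i < 16053 → P i := stepQ 16052 Q16052 (allL N16052 (tt N32025 D51966) (tt N14707 (iv0 F39705)) (tt N15281 F39702) (tt N9587 F39703) (tt N7855 (iv4 D25212)) (tt N30002 (iv5 F77752)) (tt N9585 F39704) (tt N20352 (iv7 F49175)))
theorem Q16054 : ∀ i, i < 16054 → P i := stepQ 16053 Q16053 (allL N16053 (tt N15048 (iv1 F39708)) (tt N16265 F40232) (tt N16264 (iv2 F40226)) (tt N7856 (iv3 D25213)) (tt N30740 (iv4 F79331)) (tt N18730 (iv5 F46440)) (tt N9989 F39706) (tt N15279 F39707))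
theorem Q16055 : ∀ i, i < 16055 → P i := stepQ 16054 Q16054 (allL N16054 (tt N14707 F39710) (tt N32025 F82073) (tt N20352 (iv2 F49172)) (tt N15640 F39711) (tt N7856 (iv4 D25214)) (tt N18774 (iv5 F46490)) (tt N16099 (iv6 F39872)) (tt N15281 F39709))
theorem Q16056 : ∀ i, i < 16056 → P i := stepQ 16055 Q16055 (allL N16055 (tt N8878 (iv1 F39716)) (tt N8880 F39715) (tt N7858 (iv2 D25215)) (tt N9065 F39712) (tt N30815 (iv4 F79532)) (tt N15166 F39713) (tt N16288 F40267) (tt N8890 F39714))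
theorem Q16057 : ∀ i, i < 16057 → P i := stepQ 16056 Q16056 (allL N16056 (tt N18047 (iv1 F45202)) (tt N18066 (iv0 F45246)) (tt N30815 F79533) (tt N31067 (iv3 F79834)) (tt N7858 (iv4 D25216)) (tt N32026 D51967) (tt N32027 D51968) (tt N15659 F39717))
theorem Q16058 : ∀ i, i < 16058 → P i := stepQ 16057 Q16057 (allL N16057 (tt N9067 F39720) (tt N16289 F40270) (tt N16288 (iv2 F40269)) (tt N7859 F39718) (tt N32027 (iv4 F82077)) (tt N15218 F39719) (tt N7858 (iv6 D25217)) (tt N15706 (iv7 F39721)))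
theorem Q16059 : ∀ i, i < 16059 → P i := stepQ 16058 Q16058 (allL N16058 (tt N15704 (iv1 F39722)) (tt N7860 (iv0 D25218)) (tt N15703 (iv2 F171307)) (tt N29068 (iv3 F320729)) (tt N32028 D51971) (tt N15670 (iv5 F105477)) (tt N17475 (iv6 F320730)) (tt N15702 (iv7 F171311)))
theorem Q16060 : ∀ i, i < 16060 → P i := stepQ 16059 Q16059 (allL N16059 (tt N16269 (iv1 F164092)) (tt N14709 (iv0 F164091)) (tt N16268 (iv2 F164090)) (tt N7862 (iv3 D25227)) (tt N32029 D51989) (tt N18675 F164083) (tt N15672 F39741) (tt N15674 (iv7 F45364)))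
theorem Q16061 : ∀ i, i < 16061 → P i := stepQ 16060 Q16060 (allL N16060 (tt N8892 (iv1 F164057)) (tt N32030 D51991) (tt N32031 D51992) (tt N7863 (iv3 D25230)) (tt N32032 D51993) (tt N18766 (iv5 F46481)) (tt N32033 D51994) (tt N15672 F45357))
theorem Q16062 : ∀ i, i < 16062 → P i := stepQ 16061 Q16061 (allL N16061 (tt N18148 F45351) (tt N18148 (iv0 F45349)) (tt N15676 (iv2 F45352)) (tt N32033 (iv3 F82111)) (tt N31071 (iv4 F79870)) (tt N15676 F39744) (tt N7863 (iv6 D25232)) (tt N15676 F39745))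
theorem Q16063 : ∀ i, i < 16063 → P i := stepQ 16062 Q16062 (allL N16062 (tt N7865 (iv1 D25233)) (tt N8873 (iv0 F39751)) (tt N8894 F39749) (tt N20896 (iv3 F49838)) (tt N15071 (iv4 F39747)) (tt N9185 (iv5 F39750)) (tt N8902 (iv6 F39748)) (tt N8879 F39746))
theorem Q16064 : ∀ i, i < 16064 → P i := stepQ 16063 Q16063 (allL N16063 (tt N8879 (iv1 F39757)) (tt N8894 F39756) (tt N7865 (iv2 D25234)) (tt N9059 F39752) (tt N16063 F39753) (tt N18645 F46328) (tt N10320 F39754) (tt N8873 F39755))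
theorem Q16065 : ∀ i, i < 16065 → P i := stepQ 16064 Q16064 (allL N16064 (tt N16101 F39885) (tt N16100 (iv0 F39880)) (tt N30448 (iv2 F78584)) (tt N7868 (iv3 D25235)) (tt N15437 F39760) (tt N15686 F39758) (tt N18275 (iv6 F45687)) (tt N15432 F39759))
theorem Q16066 : ∀ i, i < 16066 → P i := stepQ 16065 Q16065 (allL N16065 (tt N18229 F45579) (tt N15173 F39764) (tt N15677 F39761) (tt N15444 F39762) (tt N7868 (iv4 D25236)) (tt N16283 (iv5 F40260)) (tt N18281 (iv6 F45715)) (tt N15439 F39763))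
theorem Q16067 : ∀ i, i < 16067 → P i := stepQ 16066 Q16066 (allL N16066 (tt N8999 F39769) (tt N9014 (iv0 F39770)) (tt N7870 F39765) (tt N10194 F39766) (tt N9710 F39767) (tt N30567 (iv5 F78882)) (tt N7869 (iv6 D25237)) (tt N8994 F39768))
theorem Q16068 : ∀ i, i < 16068 → P i := stepQ 16067 Q16067 (allL N16067 (tt N15070 F39773) (tt N32034 D51995) (tt N15093 F39771) (tt N19981 (iv3 F48646)) (tt N21019 (iv4 F50032)) (tt N15031 F39772) (tt N7871 (iv6 D25238)) (tt N32035 D51996))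
theorem Q16069 : ∀ i, i < 16069 → P i := stepQ 16068 Q16068 (allL N16068 (tt N32036 D51997) (tt N32037 D51998) (tt N15091 F39774) (tt N16660 (iv3 F40848)) (tt N21021 (iv4 F50033)) (tt N14695 F39775) (tt N7872 (iv6 D25239)) (tt N32038 D51999))
theorem Q16070 : ∀ i, i < 16070 → P i := stepQ 16069 Q16069 (allL N16069 (tt N32039 D52000) (tt N32040 D52001) (tt N32041 D52002) (tt N7873 (iv3 D25240)) (tt N16614 (iv4 F40799)) (tt N29938 (iv5 F77650)) (tt N32042 D52003) (tt N15094 F39776))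
theorem Q16071 : ∀ i, i < 16071 → P i := stepQ 16070 Q16070 (allL N16070 (tt N30392 (iv1 F83907)) (tt N30396 (iv0 F83904)) (tt N15113 F39777) (tt N32042 (iv3 F82138)) (tt N7874 F39778) (tt N32043 D52006) (tt N7873 (iv6 D25241)) (tt N32044 D52007))
theorem Q16072 : ∀ i, i < 16072 → P i := stepQ 16071 Q16071 (allL N16071 (tt N15117 (iv1 F39788)) (tt N7874 (iv0 D25242)) (tt N15114 (iv2 F53449)) (tt N32045 D52008) (tt N21026 (iv4 F78255)) (tt N32046 D52009) (tt N32047 D52010) (tt N15115 F53448))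
theorem Q16073 : ∀ i, i < 16073 → P i := stepQ 16072 Q16072 (allL N16072 (tt N7874 (iv1 D25243)) (tt N15117 F39779) (tt N15115 (iv2 F53446)) (tt N15465 F39784) (tt N21027 F50038) (tt N15455 (iv5 F39783)) (tt N15062 F39785) (tt N15114 (iv7 F53451)))
theorem Q16074 : ∀ i, i < 16074 → P i := stepQ 16073 Q16073 (allL N16073 (tt N32048 D52011) (tt N32049 D52012) (tt N15116 F39780) (tt N15955 F39781) (tt N32050 D52013) (tt N7874 (iv5 D25244)) (tt N7876 F39782) (tt N32051 D52014))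
theorem Q16075 : ∀ i, i < 16075 → P i := stepQ 16074 Q16074 (allL N16074 (tt N15115 (iv1 F39789)) (tt N15114 F39790) (tt N15117 F39786) (tt N16619 (iv3 F40804)) (tt N32044 (iv4 F82142)) (tt N32051 (iv5 F82169)) (tt N15099 F39787) (tt N7874 (iv7 D25245)))
theorem Q16076 : ∀ i, i < 16076 → P i := stepQ 16075 Q16075 (allL N16075 (tt N9819 F39796) (tt N9729 (iv0 F39797)) (tt N9817 F39791) (tt N7875 (iv3 D25246)) (tt N15173 F39792) (tt N14696 F39793) (tt N9777 F39794) (tt N9687 F39795))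
theorem Q16077 : ∀ i, i < 16077 → P i := stepQ 16076 Q16076 (allL N16076 (tt N7984 F39799) (tt N7973 F39800) (tt N15118 F39798) (tt N32052 D52015) (tt N7876 (iv4 D25247)) (tt N32053 D52016) (tt N32050 (iv6 F82166)) (tt N18397 (iv7 F45873)))
theorem Q16078 : ∀ i, i < 16078 → P i := stepQ 16077 Q16077 (allL N16077 (tt N21504 F51409) (tt N23218 F55235) (tt N23220 (iv2 F55238)) (tt N7878 (iv3 D25248)) (tt N7899 F39801) (tt N32054 D52017) (tt N16124 (iv6 F39960)) (tt N10216 F39802))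
theorem Q16079 : ∀ i, i < 16079 → P i := stepQ 16078 Q16078 (allL N16078 (tt N14718 F39804) (tt N14720 F39805) (tt N10197 F39803) (tt N32054 (iv3 F82179)) (tt N32055 D52018) (tt N7878 (iv5 D25249)) (tt N32056 D52019) (tt N16314 (iv7 F40328)))
theorem Q16080 : ∀ i, i < 16080 → P i := stepQ 16079 Q16079 (allL N16079 (tt N15759 (iv1 F40757)) (tt N9022 F39929) (tt N15635 F39806) (tt N8221 F39807) (tt N16622 (iv4 F40811)) (tt N7879 (iv5 D25250)) (tt N32057 D52020) (tt N9181 F39808))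
theorem Q16081 : ∀ i, i < 16081 → P i := stepQ 16080 Q16080 (allL N16080 (tt N30427 (iv1 F78531)) (tt N30426 F78528) (tt N15636 F39809) (tt N32058 D52021) (tt N7880 (iv4 D25251)) (tt N32059 D52022) (tt N32060 D52023) (tt N15191 F39810))
theorem Q16082 : ∀ i, i < 16082 → P i := stepQ 16081 Q16081 (allL N16081 (tt N18210 F166153) (tt N31989 F81970) (tt N15637 F39811) (tt N20299 (iv3 F49111)) (tt N32060 (iv4 F82197)) (tt N16081 F39812) (tt N7880 (iv6 D25252)) (tt N15681 F39813))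
theorem Q16083 : ∀ i, i < 16083 → P i := stepQ 16082 Q16082 (allL N16082 (tt N15649 F39817) (tt N15648 F39816) (tt N7885 F39814) (tt N32061 D52024) (tt N7881 (iv4 D25253)) (tt N32062 D52025) (tt N32063 D52026) (tt N15638 F39815))
theorem Q16084 : ∀ i, i < 16084 → P i := stepQ 16083 Q16083 (allL N16083 (tt N32005 (iv1 F82022)) (tt N15688 (iv0 F39820)) (tt N7886 F39818) (tt N15683 F39819) (tt N32063 (iv4 F82207)) (tt N29629 (iv5 F76858)) (tt N7881 (iv6 D25254)) (tt N32004 (iv7 F82011)))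
theorem Q16085 : ∀ i, i < 16085 → P i := stepQ 16084 Q16084 (allL N16084 (tt N7888 (iv1 F39826)) (tt N7887 F39827) (tt N7890 F39821) (tt N15685 F39822) (tt N8940 F39823) (tt N10175 F39824) (tt N15641 F39825) (tt N7882 (iv7 D25255)))
theorem Q16086 : ∀ i, i < 16086 → P i := stepQ 16085 Q16085 (allL N16085 (tt N14706 (iv1 F48793)) (tt N15861 (iv0 F39832)) (tt N16283 F40262) (tt N7883 (iv3 D25256)) (tt N15924 F39830) (tt N15677 F39828) (tt N32064 D52027) (tt N15642 F39829))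
theorem Q16087 : ∀ i, i < 16087 → P i := stepQ 16086 Q16086 (allL N16086 (tt N30774 (iv1 F79429)) (tt N30869 (iv0 F79611)) (tt N15646 F39836) (tt N32065 D52028) (tt N7883 (iv4 D25257)) (tt N32066 D52029) (tt N32067 D52030) (tt N15643 F39837))
theorem Q16088 : ∀ i, i < 16088 → P i := stepQ 16087 Q16087 (allL N16087 (tt N15683 F39841) (tt N15698 F39842) (tt N15647 F39839) (tt N32064 (iv3 F82209)) (tt N32067 (iv4 F82220)) (tt N15209 F39840) (tt N7883 (iv6 D25258)) (tt N15697 F80301))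
theorem Q16089 : ∀ i, i < 16089 → P i := stepQ 16088 Q16088 (allL N16088 (tt N18293 (iv1 F45737)) (tt N8886 (iv0 F39846)) (tt N15443 (iv2 F39847)) (tt N7884 (iv3 D25259)) (tt N15851 F39845) (tt N14777 F39843) (tt N32068 D52031) (tt N15645 F39844))
theorem Q16090 : ∀ i, i < 16090 → P i := stepQ 16089 Q16089 (allL N16089 (tt N30869 (iv1 F79612)) (tt N30774 (iv0 F79428)) (tt N15643 F39850) (tt N32069 D52032) (tt N7884 (iv4 D25260)) (tt N32070 D52033) (tt N32071 D52034) (tt N15646 F39851))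
theorem Q16091 : ∀ i, i < 16091 → P i := stepQ 16090 Q16090 (allL N16090 (tt N21066 F166177) (tt N32072 D52036) (tt N15644 F39852) (tt N32068 (iv3 F82224)) (tt N32071 (iv4 F82233)) (tt N14779 F39853) (tt N7884 (iv6 D25261)) (tt N32073 D52037))
theorem Q16092 : ∀ i, i < 16092 → P i := stepQ 16091 Q16091 (allL N16091 (tt N15638 (iv1 F39855)) (tt N7885 (iv0 D25262)) (tt N15649 (iv2 F39856)) (tt N32074 D52038) (tt N15433 F39854) (tt N32075 D52039) (tt N32076 D52040) (tt N15648 (iv7 F39857)))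
theorem Q16093 : ∀ i, i < 16093 → P i := stepQ 16092 Q16092 (allL N16092 (tt N7885 (iv1 D25263)) (tt N15638 F39858) (tt N15648 (iv2 F39861)) (tt N32077 D52041) (tt N15434 F39860) (tt N32078 D52042) (tt N32079 D52043) (tt N15649 F39859))
theorem Q16094 : ∀ i, i < 16094 → P i := stepQ 16093 Q16093 (allL N16093 (tt N23788 (iv1 F322535)) (tt N23787 (iv0 F322539)) (tt N23789 (iv2 F323126)) (tt N7885 (iv3 D25264)) (tt N7891 F39862) (tt N32080 D52047) (tt N17585 (iv6 F323145)) (tt N15650 F39863))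
theorem Q16095 : ∀ i, i < 16095 → P i := stepQ 16094 Q16094 (allL N16094 (tt N16197 (iv1 F40123)) (tt N16653 (iv0 F45318)) (tt N32062 (iv2 F82201)) (tt N32080 (iv3 F82263)) (tt N16607 (iv4 F40793)) (tt N7885 (iv5 D25265)) (tt N32081 D52049) (tt N15651 F39864))
theorem Q16096 : ∀ i, i < 16096 → P i := stepQ 16095 Q16095 (allL N16095 (tt N32082 D52050) (tt N32009 (iv0 F82032)) (tt N32063 (iv2 F82206)) (tt N17585 F324579) (tt N7886 F39865) (tt N32083 D52051) (tt N7885 (iv6 D25266)) (tt N17583 (iv7 F325704)))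
theorem Q16097 : ∀ i, i < 16097 → P i := stepQ 16096 Q16096 (allL N16096 (tt N32004 F82015) (tt N7886 (iv0 D25267)) (tt N32005 (iv2 F82019)) (tt N32084 D52053) (tt N32085 D52054) (tt N30609 F82016) (tt N32000 F82017) (tt N15688 F82018))
theorem Q16098 : ∀ i, i < 16098 → P i := stepQ 16097 Q16097 (allL N16097 (tt N32086 D52055) (tt N32087 D52056) (tt N29629 (iv2 F76856)) (tt N7894 F39866) (tt N32088 D52057) (tt N7886 (iv5 D25268)) (tt N7889 F39867) (tt N32089 D52058))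
theorem Q16099 : ∀ i, i < 16099 → P i := stepQ 16098 Q16098 (allL N16098 (tt N15688 (iv1 F39870)) (tt N32005 F82021) (tt N32004 F82012) (tt N7895 F39868) (tt N17583 F325864) (tt N32089 (iv5 F82274)) (tt N15655 F39869) (tt N7886 (iv7 D25269)))
theorem Q16100 : ∀ i, i < 16100 → P i := stepQ 16099 Q16099 (allL N16099 (tt N15631 (iv1 F39876)) (tt N15862 (iv0 F39877)) (tt N15700 (iv2 F39875)) (tt N7887 (iv3 D25270)) (tt N15684 F39874) (tt N14780 F39871) (tt N16054 F39872) (tt N15198 F39873))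
theorem Q16101 : ∀ i, i < 16101 → P i := stepQ 16100 Q16100 (allL N16100 (tt N16064 F39880) (tt N15751 (iv0 F39881)) (tt N20841 (iv2 F49676)) (tt N20442 (iv3 F49306)) (tt N7887 (iv4 D25271)) (tt N31739 (iv5 F81256)) (tt N18274 F45684) (tt N15200 F39879))
theorem Q16102 : ∀ i, i < 16102 → P i := stepQ 16101 Q16101 (allL N16101 (tt N15751 (iv1 F39886)) (tt N16064 (iv0 F39885)) (tt N15200 F39882) (tt N8227 F39883) (tt N7888 (iv4 D25272)) (tt N8906 (iv5 F39887)) (tt N8979 F39884) (tt N20841 (iv7 F49679)))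
theorem Q16103 : ∀ i, i < 16103 → P i := stepQ 16102 Q16102 (allL N16102 (tt N15106 F39890) (tt N16596 (iv0 F40771)) (tt N29628 (iv2 F76852)) (tt N20386 (iv3 F49209)) (tt N7889 (iv4 D25273)) (tt N32090 D52059) (tt N32088 (iv6 F82272)) (tt N10176 F39889))
theorem Q16104 : ∀ i, i < 16104 → P i := stepQ 16103 Q16103 (allL N16103 (tt N32091 D52079) (tt N8901 F50047) (tt N32092 D52080) (tt N7893 (iv3 D25280)) (tt N32093 D52081) (tt N30652 (iv5 F79065)) (tt N21038 (iv6 F50046)) (tt N15667 F39906))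
theorem Q16105 : ∀ i, i < 16105 → P i := stepQ 16104 Q16104 (allL N16104 (tt N10174 (iv1 F39911)) (tt N7894 (iv0 D25281)) (tt N10172 F45454) (tt N32094 D52082) (tt N31109 (iv4 F79948)) (tt N18194 (iv5 F45450)) (tt N18384 (iv6 F45849)) (tt N10173 F45451))
theorem Q16106 : ∀ i, i < 16106 → P i := stepQ 16105 Q16105 (allL N16105 (tt N7894 (iv1 D25282)) (tt N10174 F39907) (tt N10173 (iv2 F45453)) (tt N30356 (iv3 F100157)) (tt N31110 (iv4 F79944)) (tt N18201 (iv5 F45507)) (tt N19245 (iv6 F47169)) (tt N10172 (iv7 F45456)))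
theorem Q16107 : ∀ i, i < 16107 → P i := stepQ 16106 Q16106 (allL N16106 (tt N10173 (iv1 F39912)) (tt N10172 F39913) (tt N10174 F39908) (tt N32089 (iv3 F82273)) (tt N20391 (iv4 F49214)) (tt N7895 F39909) (tt N10181 F39910) (tt N7894 (iv7 D25283)))
theorem Q16108 : ∀ i, i < 16108 → P i := stepQ 16107 Q16107 (allL N16107 (tt N15699 (iv1 F39928)) (tt N18012 F45102) (tt N8897 F39914) (tt N18294 (iv3 F45739)) (tt N7896 (iv4 D25284)) (tt N30823 (iv5 F79547)) (tt N8895 F39915) (tt N15678 F39916))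
theorem Q16109 : ∀ i, i < 16109 → P i := stepQ 16108 Q16108 (allL N16108 (tt N15345 F39923) (tt N15442 (iv0 F39922)) (tt N15444 F39917) (tt N7897 (iv3 D25285)) (tt N10035 F39921) (tt N15645 F39918) (tt N15413 F39919) (tt N14777 F39920))
theorem Q16110 : ∀ i, i < 16110 → P i := stepQ 16109 Q16109 (allL N16109 (tt N18012 F45101) (tt N15699 (iv0 F39927)) (tt N15678 F39924) (tt N8902 F39925) (tt N7897 (iv4 D25286)) (tt N10148 (iv5 F39931)) (tt N20896 (iv6 F49839)) (tt N8897 F39926))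
theorem Q16111 : ∀ i, i < 16111 → P i := stepQ 16110 Q16110 (allL N16110 (tt N7899 (iv1 D25288)) (tt N10215 F39937) (tt N10213 F55535) (tt N32095 D52084) (tt N32096 D52085) (tt N29727 F77095) (tt N23380 F77098) (tt N10214 F55536))
theorem Q16112 : ∀ i, i < 16112 → P i := stepQ 16111 Q16111 (allL N16111 (tt N10214 (iv1 F39938)) (tt N10213 F39936) (tt N7899 (iv2 D25289)) (tt N10210 F39934) (tt N23220 (iv4 F55240)) (tt N21121 (iv5 F50164)) (tt N18215 (iv6 F45528)) (tt N10215 F39935))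
theorem Q16113 : ∀ i, i < 16113 → P i := stepQ 16112 Q16112 (allL N16112 (tt N18901 (iv1 F46621)) (tt N18904 (iv0 F46626)) (tt N15296 F39939) (tt N32097 D52086) (tt N7900 (iv4 D25290)) (tt N29990 (iv5 F77742)) (tt N32098 D52087) (tt N16143 (iv7 F39989)))
theorem Q16114 : ∀ i, i < 16114 → P i := stepQ 16113 Q16113 (allL N16113 (tt N32099 D52088) (tt N32100 D52089) (tt N15297 F39940) (tt N15768 F39941) (tt N32098 (iv4 F82328)) (tt N15175 F39942) (tt N7900 (iv6 D25291)) (tt N32101 D52090))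
theorem Q16115 : ∀ i, i < 16115 → P i := stepQ 16114 Q16114 (allL N16114 (tt N16171 (iv1 F40061)) (tt N7934 F39945) (tt N15306 F39943) (tt N32102 D52091) (tt N7901 (iv4 D25292)) (tt N30379 (iv5 F78418)) (tt N32103 D52092) (tt N15781 F39944))
theorem Q16116 : ∀ i, i < 16116 → P i := stepQ 16115 Q16115 (allL N16115 (tt N32104 D52093) (tt N32105 D52094) (tt N15307 F39946) (tt N15770 F39947) (tt N32103 (iv4 F82344)) (tt N18071 F45254) (tt N7901 (iv6 D25293)) (tt N32106 D52095))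
theorem Q16117 : ∀ i, i < 16117 → P i := stepQ 16116 Q16116 (allL N16116 (tt N16148 (iv1 F40002)) (tt N7902 (iv0 D25294)) (tt N16145 F39992) (tt N32107 D52096) (tt N7926 F39948) (tt N19448 (iv5 F47691)) (tt N32108 D52097) (tt N15100 (iv7 F39949)))
theorem Q16118 : ∀ i, i < 16118 → P i := stepQ 16117 Q16117 (allL N16117 (tt N7902 (iv1 D25295)) (tt N16148 F40001) (tt N15100 (iv2 F39951)) (tt N29189 (iv3 F331329)) (tt N7927 F39950) (tt N32109 D52099) (tt N29184 F331328) (tt N16145 (iv7 F39993)))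
theorem Q16119 : ∀ i, i < 16119 → P i := stepQ 16118 Q16118 (allL N16118 (tt N32110 D52101) (tt N32111 D52102) (tt N32112 D52103) (tt N7902 (iv3 D25296)) (tt N19679 (iv4 F48142)) (tt N32113 D52104) (tt N18639 (iv6 F46314)) (tt N32114 D52105))
theorem Q16120 : ∀ i, i < 16120 → P i := stepQ 16119 Q16119 (allL N16119 (tt N19406 (iv1 F47562)) (tt N19389 (iv0 F47521)) (tt N16147 (iv2 F39995)) (tt N32113 (iv3 F82364)) (tt N16165 (iv4 F40050)) (tt N7902 (iv5 D25297)) (tt N32115 D52106) (tt N16163 F40046))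
theorem Q16121 : ∀ i, i < 16121 → P i := stepQ 16120 Q16120 (allL N16120 (tt N15100 (iv1 F39953)) (tt N16145 F39994) (tt N16148 (iv2 F39998)) (tt N32114 (iv3 F82365)) (tt N7903 F39952) (tt N16163 (iv5 F40045)) (tt N32116 D52107) (tt N7902 (iv7 D25298)))
theorem Q16122 : ∀ i, i < 16122 → P i := stepQ 16121 Q16121 (allL N16121 (tt N32117 D52108) (tt N29703 F168095) (tt N16149 (iv2 F40003)) (tt N19682 (iv3 F48146)) (tt N32116 (iv4 F82366)) (tt N16121 F39954) (tt N7903 (iv6 D25299)) (tt N10140 F39955))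
theorem Q16123 : ∀ i, i < 16123 → P i := stepQ 16122 Q16122 (allL N16122 (tt N19151 (iv1 F46988)) (tt N19387 F47515) (tt N9286 F39956) (tt N32118 D52110) (tt N7904 (iv4 D25300)) (tt N19406 (iv5 F47559)) (tt N32119 D52111) (tt N16150 (iv7 F40006)))
theorem Q16124 : ∀ i, i < 16124 → P i := stepQ 16123 Q16123 (allL N16123 (tt N32120 D52112) (tt N32121 D52113) (tt N9287 F39957) (tt N16636 (iv3 F40820)) (tt N32119 (iv4 F82371)) (tt N14950 F39958) (tt N7904 (iv6 D25301)) (tt N32122 D52114))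
theorem Q16125 : ∀ i, i < 16125 → P i := stepQ 16124 Q16124 (allL N16124 (tt N14967 F39962) (tt N22786 (iv0 F54396)) (tt N22788 F54403) (tt N7905 (iv3 D25302)) (tt N8975 F39959) (tt N32123 D52115) (tt N16077 F39960) (tt N11419 F39961))
theorem Q16126 : ∀ i, i < 16126 → P i := stepQ 16125 Q16125 (allL N16125 (tt N19405 (iv1 F47553)) (tt N8060 F39964) (tt N9294 F39963) (tt N32123 (iv3 F82378)) (tt N19389 (iv4 F47520)) (tt N7905 (iv5 D25303)) (tt N32124 D52116) (tt N16152 (iv7 F40010)))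
theorem Q16127 : ∀ i, i < 16127 → P i := stepQ 16126 Q16126 (allL N16126 (tt N18920 (iv1 F46651)) (tt N18918 (iv0 F46647)) (tt N9339 F39965) (tt N19467 (iv3 F47730)) (tt N32109 (iv4 F82360)) (tt N7906 (iv5 D25304)) (tt N32125 D52117) (tt N15633 F39966))
theorem Q16128 : ∀ i, i < 16128 → P i := stepQ 16127 Q16127 (allL N16127 (tt N29901 F77577) (tt N29894 (iv0 F77561)) (tt N29899 F77575) (tt N7907 (iv3 D25305)) (tt N16127 F39967) (tt N32126 D52118) (tt N32127 D52119) (tt N16155 (iv7 F40028)))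
theorem Q16129 : ∀ i, i < 16129 → P i := stepQ 16128 Q16128 (allL N16128 (tt N18916 (iv1 F46642)) (tt N18914 (iv0 F46639)) (tt N16153 (iv2 F40012)) (tt N32126 (iv3 F82385)) (tt N30378 (iv4 F78417)) (tt N7907 (iv5 D25306)) (tt N32128 D52120) (tt N16156 (iv7 F40030)))
theorem Q16130 : ∀ i, i < 16130 → P i := stepQ 16129 Q16129 (allL N16129 (tt N7996 (iv1 F39970)) (tt N18414 F45927) (tt N16154 (iv2 F40014)) (tt N32127 (iv3 F82386)) (tt N8608 F39968) (tt N13162 F39969) (tt N7907 (iv6 D25307)) (tt N18413 (iv7 F45920)))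
theorem Q16131 : ∀ i, i < 16131 → P i := stepQ 16130 Q16130 (allL N16130 (tt N32129 D52121) (tt N7908 (iv0 D25308)) (tt N19066 (iv2 F50599)) (tt N26481 (iv3 F65294)) (tt N19065 F50600) (tt N32130 D52122) (tt N26480 F65292) (tt N32131 D52123))
theorem Q16132 : ∀ i, i < 16132 → P i := stepQ 16131 Q16131 (allL N16131 (tt N7908 (iv1 D25309)) (tt N32129 F82395) (tt N32131 (iv2 F82396)) (tt N29758 (iv3 F77205)) (tt N19069 (iv4 F50577)) (tt N32132 D52124) (tt N19078 F50597) (tt N19066 F50598))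
theorem Q16133 : ∀ i, i < 16133 → P i := stepQ 16132 Q16132 (allL N16132 (tt N19066 F46870) (tt N32131 F82399) (tt N7908 (iv2 D25310)) (tt N16158 (iv3 F40031)) (tt N8362 F39971) (tt N32133 D52125) (tt N8044 F39972) (tt N32129 (iv7 F82394)))
theorem Q16134 : ∀ i, i < 16134 → P i := stepQ 16133 Q16133 (allL N16133 (tt N32134 D52126) (tt N32135 D52127) (tt N32133 (iv2 F82401)) (tt N7909 F39973) (tt N32136 D52128) (tt N7908 (iv5 D25311)) (tt N32137 D52129) (tt N32138 D52130))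
theorem Q16135 : ∀ i, i < 16135 → P i := stepQ 16134 Q16134 (allL N16134 (tt N32131 (iv1 F82400)) (tt N19066 (iv0 F46869)) (tt N32129 F82392) (tt N7910 F39974) (tt N8368 F39975) (tt N32138 (iv5 F82406)) (tt N10821 F39976) (tt N7908 (iv7 D25312)))
theorem Q16136 : ∀ i, i < 16136 → P i := stepQ 16135 Q16135 (allL N16135 (tt N16165 (iv1 F40053)) (tt N7909 (iv0 D25313)) (tt N16161 F40036) (tt N32139 D52131) (tt N22767 (iv4 F53915)) (tt N14876 F39977) (tt N32140 D52132) (tt N16162 (iv7 F40041)))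
theorem Q16137 : ∀ i, i < 16137 → P i := stepQ 16136 Q16136 (allL N16136 (tt N19389 (iv1 F47522)) (tt N19406 (iv0 F47561)) (tt N16163 (iv2 F40044)) (tt N32141 D52133) (tt N7909 (iv4 D25314)) (tt N16148 (iv5 F40000)) (tt N32142 D52134) (tt N16147 F39997))
theorem Q16138 : ∀ i, i < 16138 → P i := stepQ 16137 Q16137 (allL N16137 (tt N32143 D52135) (tt N32144 D52136) (tt N16164 (iv2 F40047)) (tt N32137 (iv3 F82403)) (tt N32142 (iv4 F82414)) (tt N8046 F39978) (tt N7909 (iv6 D25315)) (tt N32145 D52137))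
theorem Q16139 : ∀ i, i < 16139 → P i := stepQ 16138 Q16138 (allL N16138 (tt N16162 (iv1 F40040)) (tt N16161 F40039) (tt N16165 (iv2 F40049)) (tt N32138 (iv3 F82405)) (tt N16147 (iv4 F39996)) (tt N7910 F39979) (tt N32146 D52138) (tt N7909 (iv7 D25316)))
theorem Q16140 : ∀ i, i < 16140 → P i := stepQ 16139 Q16139 (allL N16139 (tt N30579 (iv1 F78923)) (tt N7911 (iv0 D25317)) (tt N15207 (iv2 F39984)) (tt N31380 (iv3 F80547)) (tt N11081 F45716) (tt N18281 (iv5 F45714)) (tt N32147 D52139) (tt N18280 F45711))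
theorem Q16141 : ∀ i, i < 16141 → P i := stepQ 16140 Q16140 (allL N16140 (tt N7911 (iv1 D25318)) (tt N30579 (iv0 F78922)) (tt N18280 (iv2 F45705)) (tt N14775 F39981) (tt N11082 F39983) (tt N14769 (iv5 F39980)) (tt N32148 D52140) (tt N15207 (iv7 F39982)))
theorem Q16142 : ∀ i, i < 16142 → P i := stepQ 16141 Q16141 (allL N16141 (tt N22594 (iv1 F53397)) (tt N9804 F39985) (tt N22627 F53484) (tt N32149 D52141) (tt N7911 (iv4 D25319)) (tt N32150 D52142) (tt N18641 (iv6 F46316)) (tt N22626 F53479))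
theorem Q16143 : ∀ i, i < 16143 → P i := stepQ 16142 Q16142 (allL N16142 (tt N18280 (iv1 F45708)) (tt N15207 F45709) (tt N30579 (iv2 F78919)) (tt N7916 F39986) (tt N22626 (iv4 F53477)) (tt N7912 F39987) (tt N32151 D52143) (tt N7911 (iv7 D25320)))
theorem Q16144 : ∀ i, i < 16144 → P i := stepQ 16143 Q16143 (allL N16143 (tt N19383 (iv1 F47502)) (tt N19385 (iv0 F47509)) (tt N11144 F39988) (tt N32152 D52144) (tt N7913 (iv4 D25321)) (tt N32153 D52145) (tt N32154 D52146) (tt N16112 F39989))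
theorem Q16145 : ∀ i, i < 16145 → P i := stepQ 16144 Q16144 (allL N16144 (tt N20807 (iv1 F53920)) (tt N16821 (iv0 F41229)) (tt N11145 F39990) (tt N18019 (iv3 F45117)) (tt N32154 (iv4 F82432)) (tt N19129 (iv5 F46951)) (tt N7913 (iv6 D25322)) (tt N20806 (iv7 F49638)))
theorem Q16146 : ∀ i, i < 16146 → P i := stepQ 16145 Q16145 (allL N16145 (tt N16120 (iv1 F39994)) (tt N7915 (iv0 D25323)) (tt N16116 (iv2 F39992)) (tt N32155 D52147) (tt N7933 F39991) (tt N31243 (iv5 F80265)) (tt N32156 D52148) (tt N16117 F39993))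
theorem Q16147 : ∀ i, i < 16147 → P i := stepQ 16146 Q16146 (allL N16146 (tt N32157 D52149) (tt N32158 D52150) (tt N32159 D52151) (tt N7915 (iv3 D25324)) (tt N32149 (iv4 F82421)) (tt N32160 D52152) (tt N18643 (iv6 F46324)) (tt N32161 D52153))
theorem Q16148 : ∀ i, i < 16148 → P i := stepQ 16147 Q16147 (allL N16147 (tt N18909 (iv1 F46636)) (tt N18925 (iv0 F46659)) (tt N16119 F39995) (tt N32160 (iv3 F82438)) (tt N16138 F39996) (tt N7915 (iv5 D25325)) (tt N32162 D52154) (tt N16136 (iv7 F39997)))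
theorem Q16149 : ∀ i, i < 16149 → P i := stepQ 16148 Q16148 (allL N16148 (tt N16117 (iv1 F40001)) (tt N16116 F40002) (tt N16120 F39998) (tt N32161 (iv3 F82440)) (tt N7916 F39999) (tt N16136 F40000) (tt N32163 D52155) (tt N7915 (iv7 D25326)))
theorem Q16150 : ∀ i, i < 16150 → P i := stepQ 16149 Q16149 (allL N16149 (tt N18383 F168092) (tt N20787 F49613) (tt N16121 F40003) (tt N32151 (iv3 F82422)) (tt N32163 (iv4 F82445)) (tt N16149 F40004) (tt N7916 (iv6 D25327)) (tt N16819 (iv7 F41224)))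
theorem Q16151 : ∀ i, i < 16151 → P i := stepQ 16150 Q16150 (allL N16150 (tt N18907 (iv1 F46632)) (tt N18906 F46631) (tt N9499 F40005) (tt N32164 D52156) (tt N7917 (iv4 D25328)) (tt N18925 (iv5 F46658)) (tt N32165 D52157) (tt N16122 F40006))
theorem Q16152 : ∀ i, i < 16152 → P i := stepQ 16151 Q16151 (allL N16151 (tt N32166 D52158) (tt N32167 D52159) (tt N9500 F40007) (tt N9760 F40008) (tt N32165 (iv4 F82449)) (tt N30044 (iv5 F77879)) (tt N7917 (iv6 D25329)) (tt N32168 D52160))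
theorem Q16153 : ∀ i, i < 16153 → P i := stepQ 16152 Q16152 (allL N16152 (tt N14744 F40011) (tt N16442 F40532) (tt N9508 F40009) (tt N23224 (iv3 F55251)) (tt N18909 (iv4 F46634)) (tt N7919 (iv5 D25330)) (tt N32169 D52161) (tt N16125 F40010))
theorem Q16154 : ∀ i, i < 16154 → P i := stepQ 16153 Q16153 (allL N16153 (tt N19396 (iv1 F47534)) (tt N19398 (iv0 F47538)) (tt N16128 F40012) (tt N29982 F77729) (tt N31484 (iv4 F80747)) (tt N7920 (iv5 D25331)) (tt N32170 D52162) (tt N15163 F40013))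
theorem Q16155 : ∀ i, i < 16155 → P i := stepQ 16154 Q16154 (allL N16154 (tt N9077 (iv1 F40019)) (tt N13211 (iv0 F40018)) (tt N16129 F40014) (tt N16312 (iv3 F40317)) (tt N8974 F40015) (tt N13371 F40016) (tt N7920 (iv6 D25332)) (tt N16312 (iv7 F40319)))
theorem Q16156 : ∀ i, i < 16156 → P i := stepQ 16155 Q16155 (allL N16155 (tt N14923 F54247) (tt N32171 D52163) (tt N30050 (iv2 F77892)) (tt N7921 (iv3 D25333)) (tt N16155 F40027) (tt N32172 D52164) (tt N30050 (iv6 F77894)) (tt N16127 F40028))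
theorem Q16157 : ∀ i, i < 16157 → P i := stepQ 16156 Q16156 (allL N16156 (tt N19398 (iv1 F47539)) (tt N19396 (iv0 F47533)) (tt N15163 F40029) (tt N32172 (iv3 F82476)) (tt N30648 (iv4 F79062)) (tt N7921 (iv5 D25334)) (tt N32173 D52165) (tt N16128 F40030))
theorem Q16158 : ∀ i, i < 16158 → P i := stepQ 16157 Q16157 (allL N16157 (tt N7922 (iv1 D25336)) (tt N27122 F69003) (tt N22007 F65042) (tt N17176 (iv3 F65044)) (tt N30410 F78490) (tt N32174 D52166) (tt N30410 F78491) (tt N26384 F65041))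
theorem Q16159 : ∀ i, i < 16159 → P i := stepQ 16158 Q16158 (allL N16158 (tt N26384 (iv1 F65043)) (tt N22007 (iv0 F52366)) (tt N7922 (iv2 D25337)) (tt N16132 F40031) (tt N21936 (iv4 F52212)) (tt N32175 D52167) (tt N14737 F40032) (tt N27122 (iv7 F69000)))
theorem Q16160 : ∀ i, i < 16160 → P i := stepQ 16159 Q16159 (allL N16159 (tt N32176 D52168) (tt N32177 D52169) (tt N32175 (iv2 F82480)) (tt N7923 F40033) (tt N32178 D52170) (tt N7922 (iv5 D25338)) (tt N32179 D52171) (tt N32180 D52172))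
theorem Q16161 : ∀ i, i < 16161 → P i := stepQ 16160 Q16160 (allL N16160 (tt N22007 F52367) (tt N26384 F65045) (tt N27122 (iv2 F68999)) (tt N7924 F40034) (tt N19443 (iv4 F47671)) (tt N32180 (iv5 F82487)) (tt N16421 (iv6 F40511)) (tt N7922 (iv7 D25339)))
theorem Q16162 : ∀ i, i < 16162 → P i := stepQ 16161 Q16161 (allL N16161 (tt N16138 (iv1 F40039)) (tt N7923 (iv0 D25340)) (tt N16135 (iv2 F40036)) (tt N14980 (iv3 F40037)) (tt N32153 (iv4 F82427)) (tt N8972 F40035) (tt N32181 D52173) (tt N14975 (iv7 F40038)))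
theorem Q16163 : ∀ i, i < 16163 → P i := stepQ 16162 Q16162 (allL N16162 (tt N7923 (iv1 D25341)) (tt N16138 F40040) (tt N14975 (iv2 F40043)) (tt N30078 (iv3 F77975)) (tt N30635 (iv4 F79013)) (tt N8973 F40042) (tt N32182 D52174) (tt N16135 F40041))
theorem Q16164 : ∀ i, i < 16164 → P i := stepQ 16163 Q16163 (allL N16163 (tt N18925 (iv1 F46660)) (tt N18909 (iv0 F46635)) (tt N16136 F40044) (tt N32183 D52175) (tt N7923 (iv4 D25342)) (tt N16120 F40045) (tt N32184 D52176) (tt N16119 (iv7 F40046)))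
theorem Q16165 : ∀ i, i < 16165 → P i := stepQ 16164 Q16164 (allL N16164 (tt N32185 D52177) (tt N32186 D52178) (tt N16137 F40047) (tt N32179 (iv3 F82484)) (tt N32184 (iv4 F82495)) (tt N14739 F40048) (tt N7923 (iv6 D25343)) (tt N32187 D52179))
theorem Q16166 : ∀ i, i < 16166 → P i := stepQ 16165 Q16165 (allL N16165 (tt N14975 (iv1 F40052)) (tt N16135 F40053) (tt N16138 F40049) (tt N32180 (iv3 F82486)) (tt N16119 F40050) (tt N7924 F40051) (tt N32188 D52180) (tt N7923 (iv7 D25344)))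
theorem Q16167 : ∀ i, i < 16167 → P i := stepQ 16166 Q16166 (allL N16166 (tt N14792 F40055) (tt N18352 (iv0 F45820)) (tt N16176 (iv2 F40075)) (tt N32189 D52181) (tt N7925 (iv4 D25345)) (tt N20820 (iv5 F49650)) (tt N7928 F40054) (tt N18354 (iv7 F45825)))
theorem Q16168 : ∀ i, i < 16168 → P i := stepQ 16167 Q16167 (allL N16167 (tt N32190 D52182) (tt N32191 D52183) (tt N16177 (iv2 F40079)) (tt N19858 (iv3 F48451)) (tt N32108 (iv4 F82358)) (tt N29482 (iv5 F76499)) (tt N7926 (iv6 D25346)) (tt N32192 D52184))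
theorem Q16169 : ∀ i, i < 16169 → P i := stepQ 16168 Q16168 (allL N16168 (tt N32193 D52185) (tt N32194 D52186) (tt N15098 F40056) (tt N31028 (iv3 F79804)) (tt N29184 F331327) (tt N8936 F40057) (tt N7927 (iv6 D25347)) (tt N32195 D52187))
theorem Q16170 : ∀ i, i < 16170 → P i := stepQ 16169 Q16169 (allL N16169 (tt N32196 D52188) (tt N32197 D52189) (tt N32198 D52190) (tt N7928 (iv3 D25348)) (tt N15809 F40058) (tt N32199 D52191) (tt N32189 (iv6 F82505)) (tt N32200 D52192))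
theorem Q16171 : ∀ i, i < 16171 → P i := stepQ 16170 Q16170 (allL N16170 (tt N30635 (iv1 F79015)) (tt N32153 (iv0 F82429)) (tt N16179 (iv2 F40080)) (tt N32199 (iv3 F82517)) (tt N19405 F47557) (tt N7928 (iv5 D25349)) (tt N32201 D52193) (tt N29578 (iv7 F76748)))
theorem Q16172 : ∀ i, i < 16172 → P i := stepQ 16171 Q16171 (allL N16171 (tt N15161 (iv1 F40060)) (tt N16114 F40061) (tt N16180 (iv2 F40081)) (tt N32200 (iv3 F82518)) (tt N7929 F40059) (tt N29578 (iv5 F76747)) (tt N32202 D52194) (tt N7928 (iv7 D25350)))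
theorem Q16173 : ∀ i, i < 16173 → P i := stepQ 16172 Q16172 (allL N16172 (tt N20196 F168339) (tt N32203 D52196) (tt N16181 (iv2 F40085)) (tt N15812 F40062) (tt N32202 (iv4 F82520)) (tt N16172 F40063) (tt N7929 (iv6 D25351)) (tt N20049 (iv7 F48762)))
theorem Q16174 : ∀ i, i < 16174 → P i := stepQ 16173 Q16173 (allL N16173 (tt N15285 F45691) (tt N15288 F40065) (tt N15815 F40064) (tt N32204 D52197) (tt N7930 (iv4 D25352)) (tt N32205 D52198) (tt N19920 (iv6 F48585)) (tt N32206 D52199))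
theorem Q16175 : ∀ i, i < 16175 → P i := stepQ 16174 Q16174 (allL N16174 (tt N9778 (iv1 F40069)) (tt N15814 F40070) (tt N15816 F40066) (tt N7935 F40067) (tt N32206 (iv4 F82528)) (tt N7931 F40068) (tt N32207 D52200) (tt N7930 (iv7 D25353)))
theorem Q16176 : ∀ i, i < 16176 → P i := stepQ 16175 Q16175 (allL N16175 (tt N9805 (iv1 F40072)) (tt N7932 (iv0 D25354)) (tt N9732 (iv2 F40071)) (tt N9828 (iv3 F40074)) (tt N18642 (iv4 F46320)) (tt N16202 (iv5 F40129)) (tt N32208 D52201) (tt N9844 F40073))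
theorem Q16177 : ∀ i, i < 16177 → P i := stepQ 16176 Q16176 (allL N16176 (tt N15782 F40077) (tt N9040 F40078) (tt N16166 F40075) (tt N32209 D52202) (tt N7932 (iv4 D25355)) (tt N32210 D52203) (tt N7934 F40076) (tt N20782 (iv7 F49602)))
theorem Q16178 : ∀ i, i < 16178 → P i := stepQ 16177 Q16177 (allL N16177 (tt N32211 D52204) (tt N32212 D52205) (tt N16167 F40079) (tt N30732 (iv3 F79310)) (tt N32156 (iv4 F82436)) (tt N16212 (iv5 F40161)) (tt N7933 (iv6 D25356)) (tt N32213 D52206))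
theorem Q16179 : ∀ i, i < 16179 → P i := stepQ 16178 Q16178 (allL N16178 (tt N32214 D52207) (tt N32215 D52208) (tt N32216 D52209) (tt N7934 (iv3 D25357)) (tt N32204 (iv4 F82523)) (tt N32217 D52210) (tt N32209 (iv6 F82538)) (tt N32218 D52211))
theorem Q16180 : ∀ i, i < 16180 → P i := stepQ 16179 Q16179 (allL N16179 (tt N29990 (iv1 F77744)) (tt N22767 (iv0 F53916)) (tt N16170 F40080) (tt N32217 (iv3 F82550)) (tt N16442 (iv4 F40530)) (tt N7934 (iv5 D25358)) (tt N32219 D52212) (tt N16441 F40529))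
theorem Q16181 : ∀ i, i < 16181 → P i := stepQ 16180 Q16180 (allL N16180 (tt N15781 (iv1 F40083)) (tt N15306 F40084) (tt N16171 F40081) (tt N32218 (iv3 F82551)) (tt N7935 F40082) (tt N16441 (iv5 F40528)) (tt N32220 D52213) (tt N7934 (iv7 D25359)))
theorem Q16182 : ∀ i, i < 16182 → P i := stepQ 16181 Q16181 (allL N16181 (tt N32221 D52214) (tt N32222 D52215) (tt N16172 F40085) (tt N32207 (iv3 F82532)) (tt N32220 (iv4 F82554)) (tt N16181 F40086) (tt N7935 (iv6 D25360)) (tt N20783 (iv7 F49607)))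
theorem Q16183 : ∀ i, i < 16183 → P i := stepQ 16182 Q16182 (allL N16182 (tt N15208 F45710) (tt N15211 F40089) (tt N15365 F40087) (tt N32223 D52216) (tt N7936 (iv4 D25361)) (tt N32224 D52217) (tt N14940 F40088) (tt N32225 D52218))
theorem Q16184 : ∀ i, i < 16184 → P i := stepQ 16183 Q16183 (allL N16183 (tt N15364 (iv1 F40093)) (tt N15363 F40094) (tt N15366 F40090) (tt N14945 F40091) (tt N32225 (iv4 F82563)) (tt N7937 F40092) (tt N32226 D52219) (tt N7936 (iv7 D25362)))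
theorem Q16185 : ∀ i, i < 16185 → P i := stepQ 16184 Q16184 (allL N16184 (tt N8956 F40096) (tt N18123 (iv0 F45310)) (tt N7944 F40095) (tt N32227 D52220) (tt N7938 (iv4 D25363)) (tt N31281 (iv5 F80333)) (tt N18113 F45300) (tt N18125 (iv7 F45314)))
theorem Q16186 : ∀ i, i < 16186 → P i := stepQ 16185 Q16185 (allL N16185 (tt N18110 (iv1 F45294)) (tt N8962 F40098) (tt N18113 F45299) (tt N32228 D52221) (tt N7939 (iv4 D25364)) (tt N31344 (iv5 F80478)) (tt N7944 F40097) (tt N18112 F45297))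
theorem Q16187 : ∀ i, i < 16187 → P i := stepQ 16186 Q16186 (allL N16186 (tt N30823 F79551) (tt N10148 F40102) (tt N9005 F40099) (tt N15735 F40100) (tt N32229 D52222) (tt N7940 (iv5 D25365)) (tt N32230 D52223) (tt N15750 F40101))
theorem Q16188 : ∀ i, i < 16188 → P i := stepQ 16187 Q16187 (allL N16187 (tt N15656 (iv1 F40107)) (tt N10163 (iv0 F40106)) (tt N9006 F40103) (tt N15736 F40104) (tt N7942 F40105) (tt N19677 (iv5 F48138)) (tt N7940 (iv6 D25366)) (tt N18681 (iv7 F46391)))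
theorem Q16189 : ∀ i, i < 16189 → P i := stepQ 16188 Q16188 (allL N16188 (tt N15643 (iv1 F40109)) (tt N15646 F40108) (tt N30774 (iv2 F79426)) (tt N32231 D52224) (tt N7941 (iv4 D25367)) (tt N32232 D52225) (tt N32233 D52226) (tt N30869 (iv7 F79610)))
theorem Q16190 : ∀ i, i < 16190 → P i := stepQ 16189 Q16189 (allL N16189 (tt N31058 (iv1 F163881)) (tt N32234 D52228) (tt N30775 (iv2 F79430)) (tt N18048 (iv3 F45204)) (tt N32233 (iv4 F82583)) (tt N32235 D52229) (tt N7941 (iv6 D25368)) (tt N32236 D52230))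
theorem Q16191 : ∀ i, i < 16191 → P i := stepQ 16190 Q16190 (allL N16190 (tt N7942 (iv1 D25369)) (tt N30731 F79306) (tt N30214 (iv2 F78199)) (tt N7954 (iv3 F40112)) (tt N8129 (iv4 F40111)) (tt N19560 (iv5 F47970)) (tt N8939 (iv6 F40113)) (tt N9496 F40110))
theorem Q16192 : ∀ i, i < 16192 → P i := stepQ 16191 Q16191 (allL N16191 (tt N8106 F40116) (tt N9752 (iv0 F40117)) (tt N9594 F40114) (tt N15038 F40115) (tt N29606 (iv4 F76792)) (tt N7942 (iv5 D25370)) (tt N32235 (iv6 F82586)) (tt N9750 (iv7 F40706)))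
theorem Q16193 : ∀ i, i < 16193 → P i := stepQ 16192 Q16192 (allL N16192 (tt N30214 (iv1 F78205)) (tt N9496 F40709) (tt N30731 F79305) (tt N18049 (iv3 F45206)) (tt N18681 (iv4 F46388)) (tt N9750 F40707) (tt N18155 F45382) (tt N7942 (iv7 D25371)))
theorem Q16194 : ∀ i, i < 16194 → P i := stepQ 16193 Q16193 (allL N16193 (tt N15636 F40118) (tt N15191 F40119) (tt N30426 F78529) (tt N32237 D52231) (tt N7943 (iv4 D25372)) (tt N32238 D52232) (tt N32239 D52233) (tt N30427 (iv7 F78532)))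
theorem Q16195 : ∀ i, i < 16195 → P i := stepQ 16194 Q16194 (allL N16194 (tt N31138 (iv1 F163875)) (tt N32240 D52235) (tt N30789 (iv2 F79471)) (tt N29475 (iv3 F76476)) (tt N32239 (iv4 F82591)) (tt N20062 (iv5 F48783)) (tt N7943 (iv6 D25373)) (tt N32241 D52236))
theorem Q16196 : ∀ i, i < 16196 → P i := stepQ 16195 Q16195 (allL N16195 (tt N18125 (iv1 F45313)) (tt N7944 (iv0 D25374)) (tt N8956 (iv2 F40121)) (tt N32242 D52237) (tt N8955 F40120) (tt N32243 D52238) (tt N32244 D52239) (tt N18123 (iv7 F45309)))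
theorem Q16197 : ∀ i, i < 16197 → P i := stepQ 16196 Q16196 (allL N16196 (tt N32245 D52240) (tt N32246 D52241) (tt N32247 D52242) (tt N7944 (iv3 D25375)) (tt N7967 F40122) (tt N32248 D52243) (tt N32228 (iv6 F82572)) (tt N32249 D52244))
theorem Q16198 : ∀ i, i < 16198 → P i := stepQ 16197 Q16197 (allL N16197 (tt N31252 (iv1 F80282)) (tt N16094 F40123) (tt N31281 F80334) (tt N32248 (iv3 F82601)) (tt N32250 D52245) (tt N7944 (iv5 D25376)) (tt N32251 D52246) (tt N31280 F80330))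
theorem Q16199 : ∀ i, i < 16199 → P i := stepQ 16198 Q16198 (allL N16198 (tt N18123 (iv1 F45311)) (tt N8956 (iv0 F40125)) (tt N18125 (iv2 F45316)) (tt N32249 (iv3 F82602)) (tt N7945 F40124) (tt N31280 (iv5 F80328)) (tt N32252 D52247) (tt N7944 (iv7 D25377)))
theorem Q16200 : ∀ i, i < 16200 → P i := stepQ 16199 Q16199 (allL N16199 (tt N32253 D52248) (tt N31008 (iv0 F161338)) (tt N30868 (iv2 F79606)) (tt N7970 F40126) (tt N32252 (iv4 F82609)) (tt N16199 F40127) (tt N7945 (iv6 D25378)) (tt N31784 (iv7 F81301)))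
theorem Q16201 : ∀ i, i < 16201 → P i := stepQ 16200 Q16200 (allL N16200 (tt N30815 (iv1 F79530)) (tt N15659 F40128) (tt N18066 (iv2 F45244)) (tt N32254 D52250) (tt N7946 (iv4 D25379)) (tt N32255 D52251) (tt N32256 D52252) (tt N18047 (iv7 F45201)))
theorem Q16202 : ∀ i, i < 16202 → P i := stepQ 16201 Q16201 (allL N16201 (tt N32257 D52253) (tt N29482 (iv0 F76500)) (tt N18067 (iv2 F45248)) (tt N30870 (iv3 F79614)) (tt N32256 (iv4 F82616)) (tt N32258 D52254) (tt N7946 (iv6 D25380)) (tt N32259 D52255))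
theorem Q16203 : ∀ i, i < 16203 → P i := stepQ 16202 Q16202 (allL N16202 (tt N15065 (iv1 F40135)) (tt N7947 (iv0 D25381)) (tt N15066 (iv2 F40132)) (tt N9838 F40131) (tt N15066 F40130) (tt N16175 F40129) (tt N15073 F40133) (tt N14942 F40134))
theorem Q16204 : ∀ i, i < 16204 → P i := stepQ 16203 Q16203 (allL N16203 (tt N9806 F40139) (tt N9723 F40140) (tt N9809 F40137) (tt N15505 F40138) (tt N10151 F40141) (tt N7947 (iv5 D25382)) (tt N32258 (iv6 F82624)) (tt N9808 (iv7 F40142)))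
theorem Q16205 : ∀ i, i < 16205 → P i := stepQ 16204 Q16204 (allL N16204 (tt N14942 (iv1 F40147)) (tt N15066 F40148) (tt N15065 F40144) (tt N18155 (iv3 F45378)) (tt N10319 F40145) (tt N9808 F40146) (tt N18049 (iv6 F45209)) (tt N7947 (iv7 D25383)))
theorem Q16206 : ∀ i, i < 16206 → P i := stepQ 16205 Q16205 (allL N16205 (tt N8884 F40151) (tt N8913 F40152) (tt N8910 F40149) (tt N32260 D52256) (tt N7948 (iv4 D25384)) (tt N32261 D52257) (tt N32262 D52258) (tt N8909 F40150))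
theorem Q16207 : ∀ i, i < 16207 → P i := stepQ 16206 Q16206 (allL N16206 (tt N32263 D52259) (tt N31177 (iv0 F168185)) (tt N29476 (iv2 F76479)) (tt N30934 (iv3 F79699)) (tt N32262 (iv4 F82632)) (tt N18664 (iv5 F46373)) (tt N7948 (iv6 D25385)) (tt N32264 D52261))
theorem Q16208 : ∀ i, i < 16208 → P i := stepQ 16207 Q16207 (allL N16207 (tt N32265 D52262) (tt N32266 D52263) (tt N32267 D52264) (tt N7949 (iv3 D25386)) (tt N32228 (iv4 F82571)) (tt N32268 D52265) (tt N7967 F40153) (tt N32269 D52266))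
theorem Q16209 : ∀ i, i < 16209 → P i := stepQ 16208 Q16208 (allL N16208 (tt N18055 (iv1 F45222)) (tt N18069 (iv0 F45251)) (tt N29478 (iv2 F76485)) (tt N32268 (iv3 F82638)) (tt N32270 D52267) (tt N7949 (iv5 D25387)) (tt N32271 D52268) (tt N32270 F82641))
theorem Q16210 : ∀ i, i < 16210 → P i := stepQ 16209 Q16209 (allL N16209 (tt N18036 F45170) (tt N18034 (iv0 F45162)) (tt N18074 F45260) (tt N32269 (iv3 F82639)) (tt N7950 F40154) (tt N32270 (iv5 F82640)) (tt N32272 D52269) (tt N7949 (iv7 D25388)))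
theorem Q16211 : ∀ i, i < 16211 → P i := stepQ 16210 Q16210 (allL N16210 (tt N29514 (iv1 F76560)) (tt N29513 F76559) (tt N29479 (iv2 F76486)) (tt N31784 (iv3 F81299)) (tt N32272 (iv4 F82643)) (tt N16210 F40155) (tt N7950 (iv6 D25389)) (tt N7970 F40156))
theorem Q16212 : ∀ i, i < 16212 → P i := stepQ 16211 Q16211 (allL N16211 (tt N7973 F40158) (tt N7984 F40159) (tt N18397 F45871) (tt N32273 D52270) (tt N7951 (iv4 D25390)) (tt N32055 (iv5 F82184)) (tt N32274 D52271) (tt N15118 F40157))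
theorem Q16213 : ∀ i, i < 16213 → P i := stepQ 16212 Q16212 (allL N16212 (tt N18067 F45250) (tt N32259 F82626) (tt N29482 (iv2 F76497)) (tt N30873 (iv3 F79621)) (tt N32274 (iv4 F82647)) (tt N16177 F40161) (tt N7951 (iv6 D25391)) (tt N32257 F82620))
theorem Q16214 : ∀ i, i < 16214 → P i := stepQ 16213 Q16213 (allL N16213 (tt N7952 (iv1 D25392)) (tt N7958 F40162) (tt N15666 (iv2 F40165)) (tt N32275 D52272) (tt N9065 F40164) (tt N32276 D52273) (tt N32277 D52274) (tt N15174 F40163))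
theorem Q16215 : ∀ i, i < 16215 → P i := stepQ 16214 Q16214 (allL N16214 (tt N32278 D52275) (tt N32279 D52276) (tt N32280 D52277) (tt N7952 (iv3 D25393)) (tt N15853 F40166) (tt N32281 D52278) (tt N32282 D52279) (tt N29488 (iv7 F76510)))
theorem Q16216 : ∀ i, i < 16216 → P i := stepQ 16215 Q16215 (allL N16215 (tt N14910 F40168) (tt N14899 F40169) (tt N18179 F45424) (tt N32281 (iv3 F82657)) (tt N8010 F40167) (tt N7952 (iv5 D25394)) (tt N32283 D52280) (tt N18180 (iv7 F45427)))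
theorem Q16217 : ∀ i, i < 16217 → P i := stepQ 16216 Q16216 (allL N16216 (tt N32029 (iv1 F164337)) (tt N32284 D52282) (tt N29484 (iv2 F76502)) (tt N32282 (iv3 F82658)) (tt N7953 F40170) (tt N32285 D52283) (tt N7952 (iv6 D25395)) (tt N32286 D52284))
theorem Q16218 : ∀ i, i < 16218 → P i := stepQ 16217 Q16217 (allL N16217 (tt N29487 (iv1 F76509)) (tt N7953 (iv0 D25396)) (tt N29485 (iv2 F165635)) (tt N31018 (iv3 F165636)) (tt N32287 D52287) (tt N32288 D52288) (tt N30819 F79541) (tt N29486 (iv7 F165644)))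
theorem Q16219 : ∀ i, i < 16219 → P i := stepQ 16218 Q16218 (allL N16218 (tt N7953 (iv1 D25397)) (tt N29487 F76508) (tt N29486 F165645) (tt N32234 (iv3 F165647)) (tt N32289 D52291) (tt N32290 D52292) (tt N32291 D52293) (tt N29485 F165646))
theorem Q16220 : ∀ i, i < 16220 → P i := stepQ 16219 Q16219 (allL N16219 (tt N29486 (iv1 F76504)) (tt N29485 F76507) (tt N29487 (iv2 F76505)) (tt N15859 F40171) (tt N32286 (iv4 F82661)) (tt N30101 (iv5 F78013)) (tt N29492 (iv6 F76517)) (tt N7953 (iv7 D25398)))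
theorem Q16221 : ∀ i, i < 16221 → P i := stepQ 16220 Q16220 (allL N16220 (tt N7956 (iv1 D25399)) (tt N15829 F40172) (tt N9818 F40175) (tt N18046 (iv3 F45196)) (tt N16043 F40176) (tt N9729 (iv5 F40174)) (tt N32292 D52294) (tt N15863 F40173))
theorem Q16222 : ∀ i, i < 16222 → P i := stepQ 16221 Q16221 (allL N16221 (tt N15687 F40178) (tt N15690 F40179) (tt N15864 F40177) (tt N32293 D52295) (tt N7956 (iv4 D25400)) (tt N32294 D52296) (tt N32295 D52297) (tt N29480 (iv7 F76492)))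
theorem Q16223 : ∀ i, i < 16223 → P i := stepQ 16222 Q16222 (allL N16222 (tt N31096 (iv1 F81161)) (tt N30873 (iv0 F79623)) (tt N15865 F40180) (tt N7959 F40181) (tt N32295 (iv4 F82675)) (tt N19997 (iv5 F48694)) (tt N7956 (iv6 D25401)) (tt N32296 D52298))
theorem Q16224 : ∀ i, i < 16224 → P i := stepQ 16223 Q16223 (allL N16223 (tt N32297 D52299) (tt N32298 D52300) (tt N32299 D52301) (tt N7958 (iv3 D25402)) (tt N32293 (iv4 F82670)) (tt N32300 D52302) (tt N32301 D52303) (tt N29483 (iv7 F76501)))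
theorem Q16225 : ∀ i, i < 16225 → P i := stepQ 16224 Q16224 (allL N16224 (tt N14899 F40183) (tt N14910 F40184) (tt N18180 F45430) (tt N32300 (iv3 F82680)) (tt N8009 F40182) (tt N7958 (iv5 D25403)) (tt N32302 D52304) (tt N18179 F45425))
theorem Q16226 : ∀ i, i < 16226 → P i := stepQ 16225 Q16225 (allL N16225 (tt N32303 D52305) (tt N32027 (iv0 F82078)) (tt N29489 (iv2 F76511)) (tt N32301 (iv3 F82681)) (tt N7959 F40185) (tt N32304 D52306) (tt N7958 (iv6 D25404)) (tt N32305 D52307))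
theorem Q16227 : ∀ i, i < 16227 → P i := stepQ 16226 Q16226 (allL N16226 (tt N29492 (iv1 F76523)) (tt N7959 (iv0 D25405)) (tt N29490 (iv2 F76521)) (tt N30878 (iv3 F81587)) (tt N32306 D52308) (tt N32307 D52309) (tt N32308 D52310) (tt N29491 F76522))
theorem Q16228 : ∀ i, i < 16228 → P i := stepQ 16227 Q16227 (allL N16227 (tt N7959 (iv1 D25406)) (tt N29492 F76519) (tt N29491 (iv2 F76515)) (tt N15922 F40188) (tt N32309 D52311) (tt N15076 (iv5 F40187)) (tt N15920 (iv6 F40186)) (tt N29490 (iv7 F76520)))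
theorem Q16229 : ∀ i, i < 16229 → P i := stepQ 16228 Q16228 (allL N16228 (tt N29491 (iv1 F76513)) (tt N29490 F76518) (tt N29492 (iv2 F76516)) (tt N32296 (iv3 F82677)) (tt N32305 (iv4 F82685)) (tt N30219 (iv5 F78210)) (tt N29487 (iv6 F76506)) (tt N7959 (iv7 D25407)))
theorem Q16230 : ∀ i, i < 16230 → P i := stepQ 16229 Q16229 (allL N16229 (tt N32310 D52312) (tt N32311 D52313) (tt N32312 D52314) (tt N7960 (iv3 D25408)) (tt N15877 F40189) (tt N32313 D52315) (tt N32314 D52316) (tt N18172 (iv7 F45412)))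
theorem Q16231 : ∀ i, i < 16231 → P i := stepQ 16230 Q16230 (allL N16230 (tt N30408 (iv1 F78487)) (tt N30402 (iv0 F78473)) (tt N18170 (iv2 F45407)) (tt N32313 (iv3 F82694)) (tt N8002 F40190) (tt N7960 (iv5 D25409)) (tt N32315 D52317) (tt N18173 (iv7 F45415)))
theorem Q16232 : ∀ i, i < 16232 → P i := stepQ 16231 Q16231 (allL N16231 (tt N32316 D52318) (tt N32317 D52319) (tt N18171 (iv2 F45410)) (tt N32314 (iv3 F82695)) (tt N7961 F40191) (tt N32318 D52320) (tt N7960 (iv6 D25410)) (tt N32319 D52321))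
theorem Q16233 : ∀ i, i < 16233 → P i := stepQ 16232 Q16232 (allL N16232 (tt N29497 (iv1 F76533)) (tt N7961 (iv0 D25411)) (tt N29495 (iv2 F168345)) (tt N31120 (iv3 F168197)) (tt N32320 D52324) (tt N32321 D52325) (tt N31177 (iv6 F168188)) (tt N29496 F168344))
theorem Q16234 : ∀ i, i < 16234 → P i := stepQ 16233 Q16233 (allL N16233 (tt N7961 (iv1 D25412)) (tt N29497 F76532) (tt N29496 F168342) (tt N32240 (iv3 F168362)) (tt N32322 D52328) (tt N32323 D52329) (tt N32324 D52330) (tt N29495 (iv7 F168346)))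
theorem Q16235 : ∀ i, i < 16235 → P i := stepQ 16234 Q16234 (allL N16234 (tt N9811 F40194) (tt N32325 D52331) (tt N18905 (iv2 F46628)) (tt N15882 F40192) (tt N32326 D52332) (tt N7961 (iv5 D25413)) (tt N9497 F40193) (tt N32327 D52333))
theorem Q16236 : ∀ i, i < 16236 → P i := stepQ 16235 Q16235 (allL N16235 (tt N29496 (iv1 F76528)) (tt N29495 F76531) (tt N29497 (iv2 F76529)) (tt N15883 F40195) (tt N32319 (iv4 F82698)) (tt N32327 (iv5 F82712)) (tt N29500 (iv6 F76536)) (tt N7961 (iv7 D25414)))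
theorem Q16237 : ∀ i, i < 16237 → P i := stepQ 16236 Q16236 (allL N16236 (tt N15262 F40197) (tt N15680 F40198) (tt N15884 F40196) (tt N32328 D52334) (tt N7962 (iv4 D25415)) (tt N32329 D52335) (tt N32330 D52336) (tt N29493 (iv7 F76524)))
theorem Q16238 : ∀ i, i < 16238 → P i := stepQ 16237 Q16237 (allL N16237 (tt N23779 F326910) (tt N23774 (iv0 F327015)) (tt N15885 F40199) (tt N7964 F40200) (tt N32330 (iv4 F82720)) (tt N19787 (iv5 F48314)) (tt N7962 (iv6 D25416)) (tt N32331 D52339))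
theorem Q16239 : ∀ i, i < 16239 → P i := stepQ 16238 Q16238 (allL N16238 (tt N32332 D52340) (tt N32333 D52341) (tt N32334 D52342) (tt N7963 (iv3 D25417)) (tt N32328 (iv4 F82715)) (tt N32335 D52343) (tt N32336 D52344) (tt N18169 (iv7 F45406)))
theorem Q16240 : ∀ i, i < 16240 → P i := stepQ 16239 Q16239 (allL N16239 (tt N30402 (iv1 F78474)) (tt N30408 (iv0 F78486)) (tt N18173 (iv2 F45413)) (tt N32335 (iv3 F82727)) (tt N7999 F40201) (tt N7963 (iv5 D25418)) (tt N32337 D52345) (tt N18170 (iv7 F45408)))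
theorem Q16241 : ∀ i, i < 16241 → P i := stepQ 16240 Q16240 (allL N16240 (tt N32338 D52346) (tt N32339 D52347) (tt N18174 (iv2 F45416)) (tt N32336 (iv3 F82728)) (tt N7964 F40202) (tt N32340 D52348) (tt N7963 (iv6 D25419)) (tt N32341 D52349))
theorem Q16242 : ∀ i, i < 16242 → P i := stepQ 16241 Q16241 (allL N16241 (tt N29500 (iv1 F76539)) (tt N7964 (iv0 D25420)) (tt N29498 (iv2 F165495)) (tt N30938 (iv3 F168162)) (tt N32342 D52352) (tt N32343 D52353) (tt N32344 D52354) (tt N29499 F165494))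
theorem Q16243 : ∀ i, i < 16243 → P i := stepQ 16242 Q16242 (allL N16242 (tt N7964 (iv1 D25421)) (tt N29500 F76538) (tt N29499 F165493) (tt N16002 (iv3 F165559)) (tt N32345 D52357) (tt N32346 D52358) (tt N30911 (iv6 F92951)) (tt N29498 (iv7 F165496)))
theorem Q16244 : ∀ i, i < 16244 → P i := stepQ 16243 Q16243 (allL N16243 (tt N29499 (iv1 F76534)) (tt N29498 F76537) (tt N29500 (iv2 F76535)) (tt N32331 (iv3 F82723)) (tt N32341 (iv4 F82730)) (tt N29959 (iv5 F77683)) (tt N29497 (iv6 F76530)) (tt N7964 (iv7 D25422)))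
theorem Q16245 : ∀ i, i < 16245 → P i := stepQ 16244 Q16244 (allL N16244 (tt N32347 D52360) (tt N32348 D52361) (tt N32349 D52362) (tt N7965 (iv3 D25423)) (tt N30800 (iv4 F79502)) (tt N32350 D52363) (tt N32351 D52364) (tt N29503 (iv7 F76544)))
theorem Q16246 : ∀ i, i < 16246 → P i := stepQ 16245 Q16245 (allL N16245 (tt N20903 (iv1 F49859)) (tt N30265 (iv0 F78267)) (tt N18411 (iv2 F45912)) (tt N32350 (iv3 F82736)) (tt N7995 F40203) (tt N7965 (iv5 D25424)) (tt N32352 D52365) (tt N29504 (iv7 F76547)))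
theorem Q16247 : ∀ i, i < 16247 → P i := stepQ 16246 Q16246 (allL N16246 (tt N32320 (iv1 F161173)) (tt N32322 (iv0 F168360)) (tt N29502 (iv2 F76541)) (tt N32351 (iv3 F82737)) (tt N8946 F40204) (tt N32353 D52368) (tt N7965 (iv6 D25425)) (tt N32354 D52369))
theorem Q16248 : ∀ i, i < 16248 → P i := stepQ 16247 Q16247 (allL N16247 (tt N32355 D52370) (tt N32356 D52371) (tt N32357 D52372) (tt N7966 (iv3 D25426)) (tt N32358 D52373) (tt N32359 D52374) (tt N32360 D52375) (tt N29501 (iv7 F76540)))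
theorem Q16249 : ∀ i, i < 16249 → P i := stepQ 16248 Q16248 (allL N16248 (tt N30265 (iv1 F78268)) (tt N20903 (iv0 F49858)) (tt N29504 (iv2 F76545)) (tt N32359 (iv3 F82741)) (tt N7989 F40205) (tt N7966 (iv5 D25427)) (tt N32361 D52376) (tt N18411 (iv7 F45913)))
theorem Q16250 : ∀ i, i < 16250 → P i := stepQ 16249 Q16249 (allL N16249 (tt N32342 (iv1 F165617)) (tt N32345 (iv0 F165560)) (tt N29505 (iv2 F76548)) (tt N32360 (iv3 F82742)) (tt N8948 F40206) (tt N32362 D52379) (tt N7966 (iv6 D25428)) (tt N32363 D52380))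
theorem Q16251 : ∀ i, i < 16251 → P i := stepQ 16250 Q16250 (allL N16250 (tt N32364 D52381) (tt N7967 (iv0 D25429)) (tt N32365 D52382) (tt N32366 D52383) (tt N32367 D52384) (tt N32368 D52385) (tt N32369 D52386) (tt N32370 D52387))
theorem Q16252 : ∀ i, i < 16252 → P i := stepQ 16251 Q16251 (allL N16251 (tt N7967 (iv1 D25430)) (tt N32364 F82747) (tt N32370 (iv2 F82750)) (tt N32371 D52388) (tt N32372 D52389) (tt N32373 D52390) (tt N32374 D52391) (tt N32365 F82748))
theorem Q16253 : ∀ i, i < 16253 → P i := stepQ 16252 Q16252 (allL N16252 (tt N32365 (iv1 F173410)) (tt N32370 (iv0 F173406)) (tt N7967 (iv2 D25431)) (tt N29508 (iv3 F76550)) (tt N32247 (iv4 F82600)) (tt N32375 D52394) (tt N32267 (iv6 F82637)) (tt N32364 (iv7 F82746)))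
theorem Q16254 : ∀ i, i < 16254 → P i := stepQ 16253 Q16253 (allL N16253 (tt N32376 D52395) (tt N32377 D52396) (tt N32375 (iv2 F82754)) (tt N7968 F40207) (tt N32378 D52397) (tt N7967 (iv5 D25432)) (tt N32379 D52398) (tt N29546 (iv7 F76645)))
theorem Q16255 : ∀ i, i < 16255 → P i := stepQ 16254 Q16254 (allL N16254 (tt N32370 (iv1 F173407)) (tt N32365 (iv0 F173409)) (tt N32364 F82745) (tt N7969 F40208) (tt N32249 (iv4 F82603)) (tt N29546 (iv5 F76644)) (tt N32380 D52399) (tt N7967 (iv7 D25433)))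
theorem Q16256 : ∀ i, i < 16256 → P i := stepQ 16255 Q16255 (allL N16255 (tt N8011 (iv1 F40211)) (tt N7968 (iv0 D25434)) (tt N18407 (iv2 F45900)) (tt N32381 D52400) (tt N7987 F40210) (tt N7973 F40209) (tt N32382 D52401) (tt N18399 (iv7 F45876)))
theorem Q16257 : ∀ i, i < 16257 → P i := stepQ 16256 Q16256 (allL N16256 (tt N7968 (iv1 D25435)) (tt N8011 F40212) (tt N18399 (iv2 F45875)) (tt N32383 D52402) (tt N7979 F40214) (tt N7984 F40213) (tt N32384 D52403) (tt N18407 (iv7 F45902)))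
theorem Q16258 : ∀ i, i < 16258 → P i := stepQ 16257 Q16257 (allL N16257 (tt N32385 D52404) (tt N32386 D52405) (tt N29511 (iv2 F76555)) (tt N32379 (iv3 F82755)) (tt N29551 (iv4 F76655)) (tt N32271 (iv5 F82642)) (tt N7968 (iv6 D25436)) (tt N32387 D52406))
theorem Q16259 : ∀ i, i < 16259 → P i := stepQ 16258 Q16258 (allL N16258 (tt N32388 D52407) (tt N32389 D52408) (tt N29512 (iv2 F76557)) (tt N32380 (iv3 F82756)) (tt N7970 F40215) (tt N32390 D52409) (tt N7969 (iv6 D25437)) (tt N32272 (iv7 F82644)))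
theorem Q16260 : ∀ i, i < 16260 → P i := stepQ 16259 Q16259 (allL N16259 (tt N29479 (iv1 F76491)) (tt N7970 (iv0 D25438)) (tt N29513 (iv2 F161324)) (tt N15911 (iv3 F161325)) (tt N32391 D52412) (tt N32392 D52413) (tt N32393 D52414) (tt N29514 (iv7 F161326)))
theorem Q16261 : ∀ i, i < 16261 → P i := stepQ 16260 Q16260 (allL N16260 (tt N7970 (iv1 D25439)) (tt N29479 F76490) (tt N29514 F161327) (tt N32253 (iv3 F161329)) (tt N32394 D52417) (tt N32395 D52418) (tt N32396 D52419) (tt N29513 F161328))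
theorem Q16262 : ∀ i, i < 16262 → P i := stepQ 16261 Q16261 (allL N16261 (tt N7971 (iv1 D25440)) (tt N9977 F40216) (tt N9985 (iv2 F40218)) (tt N18062 (iv3 F45233)) (tt N15419 (iv4 F40220)) (tt N15756 (iv5 F40219)) (tt N32397 D52420) (tt N9986 F40217))
theorem Q16263 : ∀ i, i < 16263 → P i := stepQ 16262 Q16262 (allL N16262 (tt N15933 F40222) (tt N30778 (iv0 F79441)) (tt N30133 (iv2 F78061)) (tt N32398 D52421) (tt N7971 (iv4 D25441)) (tt N30811 (iv5 F79517)) (tt N32399 D52422) (tt N9987 F40221))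
theorem Q16264 : ∀ i, i < 16264 → P i := stepQ 16263 Q16263 (allL N16263 (tt N32400 D52423) (tt N32401 D52424) (tt N30134 (iv2 F78068)) (tt N7974 F40223) (tt N32399 (iv4 F82771)) (tt N30023 (iv5 F77829)) (tt N7971 (iv6 D25442)) (tt N32402 D52425))
theorem Q16265 : ∀ i, i < 16265 → P i := stepQ 16264 Q16264 (allL N16264 (tt N7972 (iv1 D25444)) (tt N30135 F78073) (tt N16053 F40226) (tt N29627 (iv3 F76850)) (tt N15412 F40224) (tt N19125 (iv5 F46943)) (tt N20421 (iv6 F49252)) (tt N9636 (iv7 F40225)))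
theorem Q16266 : ∀ i, i < 16266 → P i := stepQ 16265 Q16265 (allL N16265 (tt N16053 (iv1 F40232)) (tt N9636 F40233) (tt N30135 (iv2 F78069)) (tt N7975 F40228) (tt N8152 F40229) (tt N9400 F40230) (tt N9992 F40231) (tt N7972 (iv7 D25445)))
theorem Q16267 : ∀ i, i < 16267 → P i := stepQ 16266 Q16266 (allL N16266 (tt N32403 D52426) (tt N32404 D52427) (tt N32405 D52428) (tt N7973 (iv3 D25446)) (tt N32398 (iv4 F82769)) (tt N32381 (iv5 F82757)) (tt N32406 D52429) (tt N18398 (iv7 F45874)))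
theorem Q16268 : ∀ i, i < 16268 → P i := stepQ 16267 Q16267 (allL N16267 (tt N32287 (iv1 F165638)) (tt N32289 (iv0 F165648)) (tt N29521 (iv2 F76587)) (tt N32406 (iv3 F82774)) (tt N7974 F40235) (tt N32407 D52432) (tt N7973 (iv6 D25447)) (tt N32408 D52433))
theorem Q16269 : ∀ i, i < 16269 → P i := stepQ 16268 Q16268 (allL N16268 (tt N29523 (iv1 F76598)) (tt N7974 (iv0 D25448)) (tt N16059 F164090) (tt N18057 (iv3 F164095)) (tt N32409 D52436) (tt N32410 D52437) (tt N18057 F77783) (tt N29522 F161431))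
theorem Q16270 : ∀ i, i < 16270 → P i := stepQ 16269 Q16269 (allL N16269 (tt N29522 (iv1 F76590)) (tt N16059 F164092) (tt N29523 (iv2 F76593)) (tt N32402 (iv3 F82772)) (tt N32408 (iv4 F82775)) (tt N30028 (iv5 F77839)) (tt N18402 (iv6 F45887)) (tt N7974 (iv7 D25450)))
theorem Q16271 : ∀ i, i < 16271 → P i := stepQ 16270 Q16270 (allL N16270 (tt N32411 D52443) (tt N32412 D52444) (tt N11796 F40236) (tt N7976 (iv3 D25451)) (tt N8213 F40237) (tt N32413 D52445) (tt N8537 F40238) (tt N10196 F40239))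
theorem Q16272 : ∀ i, i < 16272 → P i := stepQ 16271 Q16271 (allL N16271 (tt N14720 F40241) (tt N14718 F40242) (tt N16314 F40326) (tt N32413 (iv3 F82797)) (tt N32053 (iv4 F82176)) (tt N7976 (iv5 D25452)) (tt N32414 D52446) (tt N10197 F40240))
theorem Q16273 : ∀ i, i < 16273 → P i := stepQ 16272 Q16272 (allL N16272 (tt N9076 F40244) (tt N14715 F40245) (tt N16300 F40287) (tt N11397 F40243) (tt N30402 (iv4 F78472)) (tt N7977 (iv5 D25453)) (tt N32415 D52447) (tt N16301 (iv7 F40290)))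
theorem Q16274 : ∀ i, i < 16274 → P i := stepQ 16273 Q16273 (allL N16273 (tt N18405 (iv1 F45896)) (tt N7978 (iv0 D25454)) (tt N18404 (iv2 F50626)) (tt N32416 D52448) (tt N20945 F50627) (tt N21246 (iv5 F82883)) (tt N32417 D52450) (tt N18403 F50628))
theorem Q16275 : ∀ i, i < 16275 → P i := stepQ 16274 Q16274 (allL N16274 (tt N7978 (iv1 D25455)) (tt N18405 F45897) (tt N18403 F50625) (tt N11466 F50406) (tt N16842 (iv4 F41283)) (tt N21247 (iv5 F50400)) (tt N11464 (iv6 F50404)) (tt N18404 (iv7 F50624)))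
theorem Q16276 : ∀ i, i < 16276 → P i := stepQ 16275 Q16275 (allL N16275 (tt N18404 F45892) (tt N18403 F45890) (tt N7978 (iv2 D25456)) (tt N29526 (iv3 F76609)) (tt N10486 F40246) (tt N32418 D52451) (tt N32419 D52452) (tt N18405 (iv7 F45895)))
theorem Q16277 : ∀ i, i < 16277 → P i := stepQ 16276 Q16276 (allL N16276 (tt N32420 D52453) (tt N32421 D52454) (tt N32418 (iv2 F82809)) (tt N7979 F40247) (tt N32422 D52455) (tt N7978 (iv5 D25457)) (tt N32423 D52456) (tt N18406 (iv7 F45899)))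
theorem Q16278 : ∀ i, i < 16278 → P i := stepQ 16277 Q16277 (allL N16277 (tt N32424 D52457) (tt N32425 D52458) (tt N32419 (iv2 F82812)) (tt N7980 F40248) (tt N14807 F40249) (tt N32426 D52459) (tt N7978 (iv6 D25458)) (tt N22796 (iv7 F54430)))
theorem Q16279 : ∀ i, i < 16279 → P i := stepQ 16278 Q16278 (allL N16278 (tt N32427 D52460) (tt N32428 D52461) (tt N29528 (iv2 F76616)) (tt N32423 (iv3 F82820)) (tt N32384 (iv4 F82760)) (tt N32429 D52462) (tt N7979 (iv6 D25459)) (tt N32430 D52463))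
theorem Q16280 : ∀ i, i < 16280 → P i := stepQ 16279 Q16279 (allL N16279 (tt N14974 (iv1 F40252)) (tt N7980 (iv0 D25460)) (tt N11442 (iv2 F40253)) (tt N32431 D52464) (tt N11222 F40250) (tt N16430 (iv5 F40516)) (tt N8026 F40251) (tt N18390 (iv7 F45860)))
theorem Q16281 : ∀ i, i < 16281 → P i := stepQ 16280 Q16280 (allL N16280 (tt N7980 (iv1 D25461)) (tt N14974 F40254) (tt N18390 (iv2 F45859)) (tt N32432 D52465) (tt N10681 F40256) (tt N16429 (iv5 F40515)) (tt N32432 F82834) (tt N11442 F40255))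
theorem Q16282 : ∀ i, i < 16282 → P i := stepQ 16281 Q16281 (allL N16281 (tt N18481 (iv1 F46026)) (tt N18482 (iv0 F46029)) (tt N29529 (iv2 F76617)) (tt N32426 (iv3 F82824)) (tt N32433 D52466) (tt N7980 (iv5 D25462)) (tt N32429 (iv6 F82827)) (tt N30067 (iv7 F77950)))
theorem Q16283 : ∀ i, i < 16283 → P i := stepQ 16282 Q16282 (allL N16282 (tt N9057 F40258) (tt N15015 F40259) (tt N18488 (iv2 F46046)) (tt N32434 D52467) (tt N7981 (iv4 D25463)) (tt N16464 (iv5 F40549)) (tt N22577 (iv6 F53339)) (tt N10244 F40257))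
theorem Q16284 : ∀ i, i < 16284 → P i := stepQ 16283 Q16283 (allL N16283 (tt N29515 (iv1 F76565)) (tt N7982 (iv0 D25464)) (tt N16085 (iv2 F40262)) (tt N18042 (iv3 F45187)) (tt N15544 F40261) (tt N16065 F40260) (tt N32435 D52468) (tt N29517 (iv7 F76576)))
theorem Q16285 : ∀ i, i < 16285 → P i := stepQ 16284 Q16284 (allL N16284 (tt N15921 F40263) (tt N15918 F40264) (tt N20083 F48805) (tt N32436 D52469) (tt N7982 (iv4 D25465)) (tt N32437 D52470) (tt N32438 D52471) (tt N20084 (iv7 F48807)))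
theorem Q16286 : ∀ i, i < 16286 → P i := stepQ 16285 Q16285 (allL N16285 (tt N32439 D52472) (tt N31323 (iv0 F80443)) (tt N31666 (iv2 F81140)) (tt N7985 F40265) (tt N32438 (iv4 F82847)) (tt N21013 (iv5 F50028)) (tt N7982 (iv6 D25466)) (tt N32440 D52473))
theorem Q16287 : ∀ i, i < 16287 → P i := stepQ 16286 Q16286 (allL N16286 (tt N32441 D52474) (tt N32442 D52475) (tt N32443 D52476) (tt N7984 (iv3 D25467)) (tt N32436 (iv4 F82844)) (tt N32383 (iv5 F82759)) (tt N32444 D52477) (tt N29520 (iv7 F76586)))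
theorem Q16288 : ∀ i, i < 16288 → P i := stepQ 16287 Q16287 (allL N16287 (tt N32306 (iv1 F94228)) (tt N32309 (iv0 F93090)) (tt N18400 (iv2 F45880)) (tt N32444 (iv3 F82851)) (tt N7985 F40266) (tt N32445 D52480) (tt N7984 (iv6 D25468)) (tt N32446 D52481))
theorem Q16289 : ∀ i, i < 16289 → P i := stepQ 16288 Q16288 (allL N16288 (tt N7985 (iv1 D25470)) (tt N18402 F45888) (tt N16057 F40269) (tt N18071 (iv3 F45256)) (tt N32447 D52482) (tt N15770 (iv5 F40268)) (tt N16055 (iv6 F40267)) (tt N18401 (iv7 F45883)))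
theorem Q16290 : ∀ i, i < 16290 → P i := stepQ 16289 Q16289 (allL N16289 (tt N16057 (iv1 F40270)) (tt N18401 F45885) (tt N18402 (iv2 F45886)) (tt N32440 (iv3 F82850)) (tt N32446 (iv4 F82852)) (tt N21017 (iv5 F50031)) (tt N29523 (iv6 F76595)) (tt N7985 (iv7 D25471)))
theorem Q16291 : ∀ i, i < 16291 → P i := stepQ 16290 Q16290 (allL N16290 (tt N29526 (iv1 F76611)) (tt N7986 (iv0 D25472)) (tt N29525 F76605) (tt N18393 F45865) (tt N29552 (iv4 F76658)) (tt N32448 D52483) (tt N26794 F67753) (tt N29524 (iv7 F76606)))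
theorem Q16292 : ∀ i, i < 16292 → P i := stepQ 16291 Q16291 (allL N16291 (tt N7986 (iv1 D25473)) (tt N29526 F76612) (tt N29524 (iv2 F76608)) (tt N32449 D52484) (tt N32416 (iv4 F82805)) (tt N32450 D52485) (tt N32451 D52486) (tt N29525 F76607))
theorem Q16293 : ∀ i, i < 16293 → P i := stepQ 16292 Q16292 (allL N16292 (tt N29525 F76604) (tt N29524 F76599) (tt N7986 (iv2 D25474)) (tt N18405 (iv3 F45893)) (tt N29865 (iv4 F77476)) (tt N32452 D52487) (tt N30063 (iv6 F77940)) (tt N29526 (iv7 F76610)))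
theorem Q16294 : ∀ i, i < 16294 → P i := stepQ 16293 Q16293 (allL N16293 (tt N32453 D52488) (tt N32454 D52489) (tt N32452 (iv2 F82870)) (tt N7987 F40271) (tt N32455 D52490) (tt N7986 (iv5 D25475)) (tt N32456 D52491) (tt N29527 (iv7 F76614)))
theorem Q16295 : ∀ i, i < 16295 → P i := stepQ 16294 Q16294 (allL N16294 (tt N32457 D52492) (tt N32458 D52493) (tt N18408 (iv2 F45905)) (tt N32456 (iv3 F82873)) (tt N32382 (iv4 F82758)) (tt N30065 (iv5 F77947)) (tt N7987 (iv6 D25476)) (tt N32459 D52494))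
theorem Q16296 : ∀ i, i < 16296 → P i := stepQ 16295 Q16295 (allL N16295 (tt N10370 (iv1 F40272)) (tt N7988 (iv0 D25477)) (tt N10374 (iv2 F41366)) (tt N26483 F65305) (tt N21097 (iv4 F50119)) (tt N32420 (iv5 F82818)) (tt N32460 D52495) (tt N10373 (iv7 F41369)))
theorem Q16297 : ∀ i, i < 16297 → P i := stepQ 16296 Q16296 (allL N16296 (tt N7988 (iv1 D25478)) (tt N10370 F40276) (tt N10373 (iv2 F41367)) (tt N29711 (iv3 F77052)) (tt N16858 (iv4 F41329)) (tt N32421 (iv5 F82814)) (tt N8043 F40416) (tt N10374 F41365))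
theorem Q16298 : ∀ i, i < 16298 → P i := stepQ 16297 Q16297 (allL N16297 (tt N10374 (iv1 F40277)) (tt N10373 F40275) (tt N7988 (iv2 D25479)) (tt N26515 (iv3 F65424)) (tt N8255 F40273) (tt N32461 D52496) (tt N8272 (iv6 F40278)) (tt N10370 F40274))
theorem Q16299 : ∀ i, i < 16299 → P i := stepQ 16298 Q16298 (allL N16298 (tt N32462 D52497) (tt N32463 D52498) (tt N32461 (iv2 F82878)) (tt N7989 F40279) (tt N32464 D52499) (tt N7988 (iv5 D25480)) (tt N32465 D52500) (tt N10375 F40280))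
theorem Q16300 : ∀ i, i < 16300 → P i := stepQ 16299 Q16299 (allL N16299 (tt N32466 D52501) (tt N21099 (iv0 F50130)) (tt N8272 F40281) (tt N7990 F40282) (tt N8257 F40283) (tt N32467 D52502) (tt N7988 (iv6 D25481)) (tt N8275 (iv7 F40284)))
theorem Q16301 : ∀ i, i < 16301 → P i := stepQ 16300 Q16300 (allL N16300 (tt N7995 (iv1 F40286)) (tt N7989 (iv0 D25482)) (tt N16272 (iv2 F40287)) (tt N32468 D52503) (tt N21040 (iv4 F50049)) (tt N9055 F40285) (tt N32469 D52504) (tt N15177 (iv7 F40288)))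
theorem Q16302 : ∀ i, i < 16302 → P i := stepQ 16301 Q16301 (allL N16301 (tt N7989 (iv1 D25483)) (tt N7995 F40289) (tt N15177 (iv2 F40292)) (tt N23190 (iv3 F55151)) (tt N32276 (iv4 F82650)) (tt N9054 F40291) (tt N32470 D52505) (tt N16272 F40290))
theorem Q16303 : ∀ i, i < 16303 → P i := stepQ 16302 Q16302 (allL N16302 (tt N32471 D52506) (tt N32472 D52507) (tt N29531 (iv2 F76622)) (tt N32465 (iv3 F82893)) (tt N32361 (iv4 F82743)) (tt N32473 D52508) (tt N7989 (iv6 D25484)) (tt N32474 D52509))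
theorem Q16304 : ∀ i, i < 16304 → P i := stepQ 16303 Q16303 (allL N16303 (tt N14879 (iv1 F40297)) (tt N7990 (iv0 D25485)) (tt N14882 (iv2 F40294)) (tt N29866 (iv3 F77481)) (tt N11223 F40293) (tt N32475 D52510) (tt N8054 F40295) (tt N14880 F40296))
theorem Q16305 : ∀ i, i < 16305 → P i := stepQ 16304 Q16304 (allL N16304 (tt N16357 (iv1 F40378)) (tt N23190 F55153) (tt N23188 F55150) (tt N32467 (iv3 F82900)) (tt N32476 D52511) (tt N7990 (iv5 D25486)) (tt N32473 (iv6 F82907)) (tt N23187 F55148))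
theorem Q16306 : ∀ i, i < 16306 → P i := stepQ 16305 Q16305 (allL N16305 (tt N14880 (iv1 F40301)) (tt N14882 F40302) (tt N14879 F40298) (tt N8275 F40299) (tt N7993 F40300) (tt N23187 (iv5 F55146)) (tt N18414 (iv6 F45926)) (tt N7990 (iv7 D25487)))
theorem Q16307 : ∀ i, i < 16307 → P i := stepQ 16306 Q16306 (allL N16306 (tt N23194 (iv1 F55168)) (tt N8000 (iv0 F40305)) (tt N10321 F40303) (tt N16896 F41502) (tt N7991 (iv4 D25488)) (tt N32477 D52512) (tt N8058 F40304) (tt N21180 (iv7 F50287)))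
theorem Q16308 : ∀ i, i < 16308 → P i := stepQ 16307 Q16307 (allL N16307 (tt N8000 F40309) (tt N23194 (iv0 F55167)) (tt N21180 (iv2 F50284)) (tt N10365 F40306) (tt N7992 (iv4 D25489)) (tt N32478 D52513) (tt N10598 F40307) (tt N10321 F40308))
theorem Q16309 : ∀ i, i < 16309 → P i := stepQ 16308 Q16308 (allL N16308 (tt N26515 (iv1 F65428)) (tt N7994 (iv0 D25490)) (tt N26512 F65409) (tt N10339 F40310) (tt N26482 F65299) (tt N32453 (iv5 F82871)) (tt N8047 F41342) (tt N26513 (iv7 F65417)))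
theorem Q16310 : ∀ i, i < 16310 → P i := stepQ 16309 Q16309 (allL N16309 (tt N7994 (iv1 D25491)) (tt N26515 F65427) (tt N26513 F65419) (tt N32466 (iv3 F82894)) (tt N26483 (iv4 F65306)) (tt N32454 (iv5 F139187)) (tt N32479 D52515) (tt N26512 F65412))
theorem Q16311 : ∀ i, i < 16311 → P i := stepQ 16310 Q16310 (allL N16310 (tt N32480 D52516) (tt N32481 D52517) (tt N26514 (iv2 F65420)) (tt N7995 F40311) (tt N32482 D52518) (tt N7994 (iv5 D25492)) (tt N13433 F40312) (tt N29530 (iv7 F76621)))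
theorem Q16312 : ∀ i, i < 16312 → P i := stepQ 16311 Q16311 (allL N16311 (tt N32483 D52519) (tt N32484 D52520) (tt N18412 (iv2 F45915)) (tt N13433 F40313) (tt N32352 (iv4 F82738)) (tt N13430 F40314) (tt N7995 (iv6 D25493)) (tt N32485 D52521))
theorem Q16313 : ∀ i, i < 16313 → P i := stepQ 16312 Q16312 (allL N16312 (tt N18414 (iv1 F45928)) (tt N7996 (iv0 D25494)) (tt N18413 F45918) (tt N16154 F40317) (tt N8607 F40316) (tt N13161 F40315) (tt N15004 (iv6 F40318)) (tt N16154 F40319))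
theorem Q16314 : ∀ i, i < 16314 → P i := stepQ 16313 Q16313 (allL N16313 (tt N23899 (iv1 F56710)) (tt N8003 F40324) (tt N11789 F40320) (tt N32486 D52522) (tt N7997 (iv4 D25495)) (tt N13604 F40323) (tt N9509 F40321) (tt N9340 F40322))
theorem Q16315 : ∀ i, i < 16315 → P i := stepQ 16314 Q16314 (allL N16314 (tt N8002 (iv1 F40327)) (tt N7999 (iv0 D25496)) (tt N16271 (iv2 F40326)) (tt N20937 (iv3 F49902)) (tt N30265 (iv4 F78266)) (tt N9068 F40325) (tt N32487 D52523) (tt N16078 F40328))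
theorem Q16316 : ∀ i, i < 16316 → P i := stepQ 16315 Q16315 (allL N16315 (tt N32488 D52524) (tt N32489 D52525) (tt N29533 (iv2 F76625)) (tt N21185 (iv3 F50290)) (tt N32337 (iv4 F82729)) (tt N32490 D52526) (tt N7999 (iv6 D25497)) (tt N32491 D52527))
theorem Q16317 : ∀ i, i < 16317 → P i := stepQ 16316 Q16316 (allL N16316 (tt N11413 F40329) (tt N21495 F51388) (tt N21493 F51386) (tt N21187 (iv3 F50296)) (tt N32492 D52528) (tt N8000 (iv5 D25498)) (tt N32490 (iv6 F82947)) (tt N21492 F51384))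
theorem Q16318 : ∀ i, i < 16318 → P i := stepQ 16317 Q16317 (allL N16317 (tt N21180 (iv1 F50289)) (tt N10321 (iv0 F40331)) (tt N23194 (iv2 F55163)) (tt N21188 (iv3 F50298)) (tt N9075 F40330) (tt N21492 (iv5 F51383)) (tt N23899 (iv6 F56706)) (tt N8000 (iv7 D25499)))
theorem Q16319 : ∀ i, i < 16319 → P i := stepQ 16318 Q16318 (allL N16318 (tt N21173 (iv1 F50265)) (tt N8001 (iv0 D25500)) (tt N26531 (iv2 F83412)) (tt N26543 F65465) (tt N26920 (iv4 F68242)) (tt N32493 D52530) (tt N8062 F55130) (tt N26532 (iv7 F83426)))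
theorem Q16320 : ∀ i, i < 16320 → P i := stepQ 16319 Q16319 (allL N16319 (tt N8001 (iv1 D25501)) (tt N21173 F50264) (tt N26532 (iv2 F83425)) (tt N32494 D52532) (tt N26921 F68246) (tt N32495 D52533) (tt N32496 D52534) (tt N26531 (iv7 F83413)))
theorem Q16321 : ∀ i, i < 16321 → P i := stepQ 16320 Q16320 (allL N16320 (tt N32497 D52535) (tt N32498 D52536) (tt N26533 (iv2 F65453)) (tt N8002 F40332) (tt N32499 D52537) (tt N8001 (iv5 D25502)) (tt N13455 F40333) (tt N29532 (iv7 F76624)))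
theorem Q16322 : ∀ i, i < 16322 → P i := stepQ 16321 Q16321 (allL N16321 (tt N32500 D52538) (tt N32501 D52539) (tt N29534 (iv2 F76626)) (tt N13455 F40334) (tt N32315 (iv4 F82697)) (tt N13454 F40335) (tt N8002 (iv6 D25503)) (tt N32502 D52540))
theorem Q16323 : ∀ i, i < 16323 → P i := stepQ 16322 Q16322 (allL N16322 (tt N8005 (iv1 F40339)) (tt N8004 (iv0 D25504)) (tt N8008 (iv2 F40336)) (tt N21186 (iv3 F50292)) (tt N8270 F40337) (tt N32503 D52541) (tt N10835 (iv6 F40340)) (tt N8006 F40338))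
theorem Q16324 : ∀ i, i < 16324 → P i := stepQ 16323 Q16323 (allL N16323 (tt N8008 F54326) (tt N8006 F54327) (tt N8004 (iv2 D25505)) (tt N32504 D52542) (tt N9081 F54328) (tt N20116 F327035) (tt N32504 F83027) (tt N8005 (iv7 F40341)))
theorem Q16325 : ∀ i, i < 16325 → P i := stepQ 16324 Q16324 (allL N16324 (tt N32494 F82953) (tt N32505 D52544) (tt N29868 (iv2 F77494)) (tt N8004 (iv3 D25506)) (tt N29867 (iv4 F77492)) (tt N32506 D52545) (tt N29868 (iv6 F77496)) (tt N29871 (iv7 F77503)))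
theorem Q16326 : ∀ i, i < 16326 → P i := stepQ 16325 Q16325 (allL N16325 (tt N32507 D52546) (tt N10299 (iv0 F40342)) (tt N9081 F54329) (tt N29709 (iv3 F77035)) (tt N8004 (iv4 D25507)) (tt N32508 D52547) (tt N29707 F77024) (tt N32509 D52548))
theorem Q16327 : ∀ i, i < 16327 → P i := stepQ 16326 Q16326 (allL N16326 (tt N23884 (iv1 F56678)) (tt N20902 F82799) (tt N20116 F327031) (tt N32506 (iv3 F83033)) (tt N19344 F327032) (tt N8004 (iv5 D25508)) (tt N19343 (iv6 F327575)) (tt N32510 D52551))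
theorem Q16328 : ∀ i, i < 16328 → P i := stepQ 16327 Q16327 (allL N16327 (tt N10368 F56679) (tt N10365 F56680) (tt N32504 (iv2 F83022)) (tt N29868 (iv3 F77495)) (tt N29707 (iv4 F77023)) (tt N32511 D52552) (tt N8004 (iv6 D25509)) (tt N29719 (iv7 F77079)))
theorem Q16329 : ∀ i, i < 16329 → P i := stepQ 16328 Q16328 (allL N16328 (tt N8006 F54330) (tt N8008 F54331) (tt N8005 F40343) (tt N29871 (iv3 F77504)) (tt N32509 (iv4 F83043)) (tt N32510 (iv5 F83047)) (tt N32512 D52553) (tt N8004 (iv7 D25510)))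
theorem Q16330 : ∀ i, i < 16330 → P i := stepQ 16329 Q16329 (allL N16329 (tt N10365 F77057) (tt N10368 F77058) (tt N29719 (iv2 F77078)) (tt N8005 (iv3 D25511)) (tt N29718 (iv4 F77077)) (tt N32513 D52554) (tt N32514 D52555) (tt N32504 (iv7 F83024)))
theorem Q16331 : ∀ i, i < 16331 → P i := stepQ 16330 Q16330 (allL N16330 (tt N10299 F45975) (tt N32507 F83038) (tt N32509 (iv2 F83041)) (tt N9084 F54310) (tt N8005 (iv4 D25512)) (tt N32515 D52556) (tt N32516 D52557) (tt N9081 F54311))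
theorem Q16332 : ∀ i, i < 16332 → P i := stepQ 16331 Q16331 (allL N16331 (tt N20902 (iv1 F49856)) (tt N23884 (iv0 F82944)) (tt N32510 (iv2 F83046)) (tt N32513 (iv3 F83055)) (tt N19418 F327036) (tt N8005 (iv5 D25513)) (tt N32517 D52559) (tt N20116 F327037))
theorem Q16333 : ∀ i, i < 16333 → P i := stepQ 16332 Q16332 (allL N16332 (tt N32486 F82943) (tt N32518 D52560) (tt N32512 (iv2 F83049)) (tt N32514 (iv3 F83056)) (tt N32516 (iv4 F83064)) (tt N28635 (iv5 F74311)) (tt N8005 (iv6 D25514)) (tt N32514 (iv7 F83057)))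
theorem Q16334 : ∀ i, i < 16334 → P i := stepQ 16333 Q16333 (allL N16333 (tt N32519 D52561) (tt N32520 D52562) (tt N8007 F40348) (tt N29536 (iv3 F76632)) (tt N32521 D52563) (tt N8006 (iv5 D25517)) (tt N32522 D52564) (tt N32503 (iv7 F83018)))
theorem Q16335 : ∀ i, i < 16335 → P i := stepQ 16334 Q16334 (allL N16334 (tt N32503 (iv1 F83020)) (tt N8007 (iv0 D25518)) (tt N32519 F83074) (tt N32523 D52565) (tt N32524 D52566) (tt N32411 F83021) (tt N32525 D52567) (tt N32520 (iv7 F83077)))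
theorem Q16336 : ∀ i, i < 16336 → P i := stepQ 16335 Q16335 (allL N16335 (tt N8007 (iv1 D25519)) (tt N32503 F83019) (tt N32520 F83079) (tt N32526 D52568) (tt N32527 D52569) (tt N32412 (iv5 F82795)) (tt N32528 D52570) (tt N32519 F83075))
theorem Q16337 : ∀ i, i < 16337 → P i := stepQ 16336 Q16336 (allL N16336 (tt N32529 D52571) (tt N32530 D52572) (tt N32521 (iv2 F83080)) (tt N32531 D52573) (tt N8007 (iv4 D25520)) (tt N32532 D52574) (tt N32533 D52575) (tt N32534 D52576))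
theorem Q16338 : ∀ i, i < 16338 → P i := stepQ 16337 Q16337 (allL N16337 (tt N32535 D52577) (tt N19819 (iv0 F328249)) (tt N32522 (iv2 F83081)) (tt N8012 F40349) (tt N32533 (iv4 F83087)) (tt N8085 F40350) (tt N8007 (iv6 D25521)) (tt N32536 D52579))
theorem Q16339 : ∀ i, i < 16339 → P i := stepQ 16338 Q16338 (allL N16338 (tt N32520 (iv1 F83076)) (tt N32519 F83072) (tt N32503 (iv2 F83017)) (tt N8013 F40351) (tt N32534 (iv4 F83088)) (tt N8008 F40352) (tt N32537 D52580) (tt N8007 (iv7 D25522)))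
theorem Q16340 : ∀ i, i < 16340 → P i := stepQ 16339 Q16339 (allL N16339 (tt N29766 (iv1 F77236)) (tt N32538 D52581) (tt N10835 F40353) (tt N8014 F40354) (tt N8284 F40355) (tt N32539 D52582) (tt N8008 (iv6 D25523)) (tt N8087 F40356))
theorem Q16341 : ∀ i, i < 16341 → P i := stepQ 16340 Q16340 (allL N16340 (tt N21178 F50281) (tt N21181 F50545) (tt N32540 D52583) (tt N8009 (iv3 D25524)) (tt N32541 D52584) (tt N9056 F40357) (tt N32542 D52585) (tt N29544 (iv7 F76642)))
theorem Q16342 : ∀ i, i < 16342 → P i := stepQ 16341 Q16341 (allL N16341 (tt N32543 D52586) (tt N32544 D52587) (tt N29543 (iv2 F76640)) (tt N32542 (iv3 F83101)) (tt N32302 (iv4 F82682)) (tt N32545 D52588) (tt N8009 (iv6 D25525)) (tt N32546 D52589))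
theorem Q16343 : ∀ i, i < 16343 → P i := stepQ 16342 Q16342 (allL N16342 (tt N32493 (iv1 F114373)) (tt N32495 (iv0 F139188)) (tt N32547 D52592) (tt N8010 (iv3 D25526)) (tt N32548 D52593) (tt N14902 F40358) (tt N32549 D52594) (tt N29542 (iv7 F76639)))
theorem Q16344 : ∀ i, i < 16344 → P i := stepQ 16343 Q16343 (allL N16343 (tt N32550 D52595) (tt N32551 D52596) (tt N29545 (iv2 F76643)) (tt N32549 (iv3 F83104)) (tt N32283 (iv4 F82660)) (tt N29975 (iv5 F77704)) (tt N8010 (iv6 D25527)) (tt N32552 D52597))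
theorem Q16345 : ∀ i, i < 16345 → P i := stepQ 16344 Q16344 (allL N16344 (tt N32553 D52598) (tt N32554 D52599) (tt N32555 D52600) (tt N8011 (iv3 D25528)) (tt N32531 (iv4 F83086)) (tt N29510 (iv5 F76554)) (tt N32556 D52601) (tt N29509 F76552))
theorem Q16346 : ∀ i, i < 16346 → P i := stepQ 16345 Q16345 (allL N16345 (tt N32557 D52602) (tt N32558 D52603) (tt N29547 (iv2 F76646)) (tt N32556 (iv3 F83105)) (tt N8012 F40359) (tt N32559 D52604) (tt N8011 (iv6 D25529)) (tt N32560 D52605))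
theorem Q16347 : ∀ i, i < 16347 → P i := stepQ 16346 Q16346 (allL N16346 (tt N29550 (iv1 F76653)) (tt N8012 (iv0 D25530)) (tt N29548 (iv2 F193491)) (tt N32561 D52607) (tt N32562 D52608) (tt N32563 D52609) (tt N32564 D52610) (tt N29549 F193490))
theorem Q16348 : ∀ i, i < 16348 → P i := stepQ 16347 Q16347 (allL N16347 (tt N8012 (iv1 D25531)) (tt N29550 F76652) (tt N29549 F193485) (tt N32565 D52612) (tt N32566 D52613) (tt N32567 D52614) (tt N32568 D52615) (tt N29548 (iv7 F193492)))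
theorem Q16349 : ∀ i, i < 16349 → P i := stepQ 16348 Q16348 (allL N16348 (tt N29549 (iv1 F76648)) (tt N29548 F76651) (tt N29550 (iv2 F76649)) (tt N32536 (iv3 F83089)) (tt N32560 (iv4 F83106)) (tt N8094 F40360) (tt N32569 D52616) (tt N8012 (iv7 D25532)))
theorem Q16350 : ∀ i, i < 16350 → P i := stepQ 16349 Q16349 (allL N16349 (tt N32570 D52617) (tt N32571 D52618) (tt N29551 (iv2 F76654)) (tt N32537 (iv3 F83091)) (tt N29511 (iv4 F76556)) (tt N32572 D52619) (tt N8013 (iv6 D25533)) (tt N32569 (iv7 F83110)))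
theorem Q16351 : ∀ i, i < 16351 → P i := stepQ 16350 Q16350 (allL N16350 (tt N23135 (iv1 F55029)) (tt N23134 F55027) (tt N23137 (iv2 F55034)) (tt N32539 (iv3 F83098)) (tt N32573 D52620) (tt N8014 (iv5 D25534)) (tt N32572 (iv6 F83111)) (tt N8098 F40361))
theorem Q16352 : ∀ i, i < 16352 → P i := stepQ 16351 Q16351 (allL N16351 (tt N11405 (iv1 F40363)) (tt N8015 (iv0 D25535)) (tt N11404 F42935) (tt N10513 F40362) (tt N32574 D52621) (tt N21660 (iv5 F51649)) (tt N11404 F50912) (tt N11403 F42930))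
theorem Q16353 : ∀ i, i < 16353 → P i := stepQ 16352 Q16352 (allL N16352 (tt N8015 (iv1 D25536)) (tt N11405 (iv0 F40365)) (tt N11403 (iv2 F42934)) (tt N11463 (iv3 F40364)) (tt N17332 (iv4 F42809)) (tt N29906 (iv5 F77582)) (tt N32575 D52622) (tt N11404 (iv7 F42936)))
theorem Q16354 : ∀ i, i < 16354 → P i := stepQ 16353 Q16353 (allL N16353 (tt N11404 (iv1 F40370)) (tt N11403 F40369) (tt N8015 (iv2 D25537)) (tt N8038 F40366) (tt N16353 F40367) (tt N32576 D52623) (tt N18385 (iv6 F45853)) (tt N11405 F40368))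
theorem Q16355 : ∀ i, i < 16355 → P i := stepQ 16354 Q16354 (allL N16354 (tt N14922 F51706) (tt N14926 (iv0 F54167)) (tt N32576 (iv2 F83126)) (tt N8016 F40371) (tt N21313 (iv4 F54028)) (tt N8015 (iv5 D25538)) (tt N32577 D52624) (tt N11406 F40372))
theorem Q16356 : ∀ i, i < 16356 → P i := stepQ 16355 Q16355 (allL N16355 (tt N30406 (iv1 F78482)) (tt N30072 (iv0 F77961)) (tt N18385 (iv2 F45851)) (tt N8017 F40373) (tt N16355 F40374) (tt N32578 D52625) (tt N8015 (iv6 D25539)) (tt N30084 (iv7 F77988)))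
theorem Q16357 : ∀ i, i < 16357 → P i := stepQ 16356 Q16356 (allL N16356 (tt N32579 D52626) (tt N32580 D52627) (tt N11396 F40375) (tt N32577 (iv3 F83132)) (tt N11407 F40376) (tt N32581 D52628) (tt N8016 (iv6 D25540)) (tt N32582 D52629))
theorem Q16358 : ∀ i, i < 16358 → P i := stepQ 16357 Q16357 (allL N16357 (tt N29825 (iv1 F77423)) (tt N16304 F40378) (tt N11397 F40377) (tt N32578 (iv3 F83134)) (tt N32583 D52630) (tt N8017 (iv5 D25541)) (tt N32581 (iv6 F83139)) (tt N30095 (iv7 F78010)))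
theorem Q16359 : ∀ i, i < 16359 → P i := stepQ 16358 Q16358 (allL N16358 (tt N17199 (iv1 F42490)) (tt N23157 (iv0 F55099)) (tt N11784 F40379) (tt N8019 F40380) (tt N27602 (iv4 F70617)) (tt N8018 (iv5 D25542)) (tt N32584 D52631) (tt N11395 F40381))
theorem Q16360 : ∀ i, i < 16360 → P i := stepQ 16359 Q16359 (allL N16359 (tt N32585 D52632) (tt N32586 D52633) (tt N11407 F40382) (tt N32584 (iv3 F83148)) (tt N11396 F40383) (tt N14979 F40384) (tt N8019 (iv6 D25543)) (tt N32587 D52634))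
theorem Q16361 : ∀ i, i < 16361 → P i := stepQ 16360 Q16360 (allL N16360 (tt N8036 F40386) (tt N13183 (iv0 F40388)) (tt N26794 F67750) (tt N8020 (iv3 D25544)) (tt N8033 F40387) (tt N22079 (iv5 F52458)) (tt N29525 (iv6 F76602)) (tt N11768 F40385))
theorem Q16362 : ∀ i, i < 16362 → P i := stepQ 16361 Q16361 (allL N16361 (tt N32588 D52635) (tt N22883 F56607) (tt N11774 F40389) (tt N29525 F76600) (tt N20955 F50618) (tt N19417 (iv5 F325872)) (tt N8020 (iv6 D25545)) (tt N32449 (iv7 F82861)))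
theorem Q16363 : ∀ i, i < 16363 → P i := stepQ 16362 Q16362 (allL N16362 (tt N10510 F40396) (tt N10513 (iv0 F40393)) (tt N11472 F40392) (tt N8021 (iv3 D25546)) (tt N8615 F40390) (tt N22081 (iv5 F52459)) (tt N30523 (iv6 F78789)) (tt N11772 F40391))
theorem Q16364 : ∀ i, i < 16364 → P i := stepQ 16363 Q16363 (allL N16363 (tt N14970 (iv1 F50517)) (tt N18967 (iv0 F50516)) (tt N11771 F40397) (tt N30523 (iv3 F78788)) (tt N17008 (iv4 F41872)) (tt N32589 D52637) (tt N8021 (iv6 D25547)) (tt N22794 (iv7 F54424)))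
theorem Q16365 : ∀ i, i < 16365 → P i := stepQ 16364 Q16364 (allL N16364 (tt N10812 (iv1 F40402)) (tt N10810 F40400) (tt N8023 F40398) (tt N26819 (iv3 F67861)) (tt N32590 D52638) (tt N8022 (iv5 D25548)) (tt N26817 (iv6 F67856)) (tt N11775 F40399))
theorem Q16366 : ∀ i, i < 16366 → P i := stepQ 16365 Q16365 (allL N16365 (tt N11775 (iv1 F40403)) (tt N8023 (iv0 D25549)) (tt N10812 (iv2 F40405)) (tt N32591 D52639) (tt N32592 D52640) (tt N8042 F40404) (tt N32593 D52641) (tt N10810 (iv7 F40406)))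
theorem Q16367 : ∀ i, i < 16367 → P i := stepQ 16366 Q16366 (allL N16366 (tt N8023 (iv1 D25550)) (tt N11775 F40407) (tt N10810 (iv2 F40410)) (tt N29753 (iv3 F77185)) (tt N32594 D52642) (tt N8043 F40409) (tt N32595 D52643) (tt N10812 F40408))
theorem Q16368 : ∀ i, i < 16368 → P i := stepQ 16367 Q16367 (allL N16367 (tt N32596 D52644) (tt N32597 D52645) (tt N32590 (iv2 F83167)) (tt N16521 (iv3 F40635)) (tt N8023 (iv4 D25551)) (tt N32598 D52646) (tt N32599 D52647) (tt N11776 F40411))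
theorem Q16369 : ∀ i, i < 16369 → P i := stepQ 16368 Q16368 (allL N16368 (tt N32600 D52648) (tt N32601 D52649) (tt N26817 (iv2 F67854)) (tt N8025 F40412) (tt N32599 (iv4 F83195)) (tt N26815 (iv5 F67852)) (tt N8023 (iv6 D25552)) (tt N32602 D52650))
theorem Q16370 : ∀ i, i < 16370 → P i := stepQ 16369 Q16369 (allL N16369 (tt N13181 F40415) (tt N8024 (iv0 D25553)) (tt N21615 (iv2 F51582)) (tt N13164 F40413) (tt N21614 F51583) (tt N12836 (iv5 F40414)) (tt N32424 (iv6 F82821)) (tt N26792 (iv7 F67743)))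
theorem Q16371 : ∀ i, i < 16371 → P i := stepQ 16370 Q16370 (allL N16370 (tt N8024 (iv1 D25554)) (tt N13181 F40419) (tt N26792 (iv2 F67741)) (tt N11487 (iv3 F40420)) (tt N21588 (iv4 F51553)) (tt N13225 F40421) (tt N32603 D52651) (tt N21615 (iv7 F51578)))
theorem Q16372 : ∀ i, i < 16372 → P i := stepQ 16371 Q16371 (allL N16371 (tt N26792 F67745) (tt N21615 (iv0 F51579)) (tt N13181 F40422) (tt N8029 F40423) (tt N8544 F40424) (tt N13180 F40425) (tt N10484 F40426) (tt N8024 (iv7 D25555)))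
theorem Q16373 : ∀ i, i < 16373 → P i := stepQ 16372 Q16372 (allL N16372 (tt N29559 (iv1 F76697)) (tt N8025 (iv0 D25556)) (tt N29557 F161664) (tt N32604 D52653) (tt N11780 (iv4 F83209)) (tt N32605 D52655) (tt N32606 D52656) (tt N29558 F161665))
theorem Q16374 : ∀ i, i < 16374 → P i := stepQ 16373 Q16373 (allL N16373 (tt N8025 (iv1 D25557)) (tt N29559 F76696) (tt N29558 (iv2 F161661)) (tt N32607 D52658) (tt N11781 (iv4 F83205)) (tt N32608 D52660) (tt N32609 D52661) (tt N29557 (iv7 F161662)))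
theorem Q16375 : ∀ i, i < 16375 → P i := stepQ 16374 Q16374 (allL N16374 (tt N32610 D52662) (tt N32611 D52663) (tt N13163 F40427) (tt N26815 (iv3 F67851)) (tt N27470 (iv4 F70320)) (tt N8025 (iv5 D25558)) (tt N8028 F40428) (tt N32612 D52664))
theorem Q16376 : ∀ i, i < 16376 → P i := stepQ 16375 Q16375 (allL N16375 (tt N29558 (iv1 F76689)) (tt N29557 F76695) (tt N29559 (iv2 F76690)) (tt N32602 (iv3 F83196)) (tt N16526 (iv4 F40638)) (tt N32612 (iv5 F83212)) (tt N11783 F40429) (tt N8025 (iv7 D25559)))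
theorem Q16377 : ∀ i, i < 16377 → P i := stepQ 16376 Q16376 (allL N16376 (tt N32575 (iv1 F83125)) (tt N32575 (iv0 F83124)) (tt N11443 F40430) (tt N8026 (iv3 D25560)) (tt N16376 F40431) (tt N26876 (iv5 F68100)) (tt N32431 (iv6 F82830)) (tt N11443 F40432))
theorem Q16378 : ∀ i, i < 16378 → P i := stepQ 16377 Q16377 (allL N16377 (tt N16557 (iv1 F40683)) (tt N16560 (iv0 F40687)) (tt N11445 F40433) (tt N11442 F40434) (tt N11394 F40435) (tt N32613 D52665) (tt N8027 (iv6 D25561)) (tt N32432 (iv7 F82832)))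
theorem Q16379 : ∀ i, i < 16379 → P i := stepQ 16378 Q16378 (allL N16378 (tt N18157 (iv1 F45395)) (tt N14960 F40439) (tt N17118 (iv2 F42275)) (tt N8357 F40436) (tt N8030 (iv4 D25562)) (tt N17528 (iv5 F43586)) (tt N8057 F40437) (tt N10598 F40438))
theorem Q16380 : ∀ i, i < 16380 → P i := stepQ 16379 Q16379 (allL N16379 (tt N13183 F40442) (tt N8036 (iv0 F40443)) (tt N11768 F40440) (tt N11472 F40441) (tt N8032 (iv4 D25563)) (tt N32614 D52666) (tt N32615 D52667) (tt N26794 (iv7 F67752)))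
theorem Q16381 : ∀ i, i < 16381 → P i := stepQ 16380 Q16380 (allL N16380 (tt N16412 (iv1 F55473)) (tt N14738 (iv0 F55471)) (tt N16415 F46141) (tt N11475 F40444) (tt N32616 D52668) (tt N8032 (iv5 D25564)) (tt N32617 D52669) (tt N16414 F46138))
theorem Q16382 : ∀ i, i < 16382 → P i := stepQ 16381 Q16381 (allL N16381 (tt N30063 (iv1 F77942)) (tt N14972 (iv0 F50510)) (tt N29553 (iv2 F76660)) (tt N11476 F40445) (tt N32615 (iv4 F83226)) (tt N32618 D52670) (tt N8032 (iv6 D25565)) (tt N30062 (iv7 F77937)))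
theorem Q16383 : ∀ i, i < 16383 → P i := stepQ 16382 Q16382 (allL N16382 (tt N10483 F40448) (tt N10484 (iv0 F40449)) (tt N11464 F40446) (tt N8033 (iv3 D25566)) (tt N17012 (iv4 F41894)) (tt N17171 (iv5 F42426)) (tt N18403 (iv6 F50629)) (tt N11778 F40447))
theorem Q16384 : ∀ i, i < 16384 → P i := stepQ 16383 Q16383 (allL N16383 (tt N14738 (iv1 F55472)) (tt N16412 F55474) (tt N16414 (iv2 F46139)) (tt N17171 F42427) (tt N32619 D52671) (tt N8033 (iv5 D25567)) (tt N32620 D52672) (tt N16415 (iv7 F46140)))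
theorem Q16385 : ∀ i, i < 16385 → P i := stepQ 16384 Q16384 (allL N16384 (tt N23264 F76603) (tt N32621 D52673) (tt N29552 (iv2 F76656)) (tt N18403 F50630) (tt N29525 F76601) (tt N32622 D52674) (tt N8033 (iv6 D25568)) (tt N32416 (iv7 F82803)))
theorem Q16386 : ∀ i, i < 16386 → P i := stepQ 16385 Q16385 (allL N16385 (tt N29555 (iv1 F76667)) (tt N29554 F76666) (tt N8035 F40450) (tt N11775 F40451) (tt N32623 D52675) (tt N8034 (iv5 D25569)) (tt N32624 D52676) (tt N26819 (iv7 F67863)))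
theorem Q16387 : ∀ i, i < 16387 → P i := stepQ 16386 Q16386 (allL N16386 (tt N11768 (iv1 F40455)) (tt N26794 F67751) (tt N8036 F40452) (tt N10483 F40453) (tt N21536 (iv4 F51465)) (tt N32625 D52677) (tt N8034 (iv6 D25570)) (tt N13183 F40454))
theorem Q16388 : ∀ i, i < 16388 → P i := stepQ 16387 Q16387 (allL N16387 (tt N26819 (iv1 F67864)) (tt N8035 (iv0 D25571)) (tt N29555 F76669) (tt N10739 F52199) (tt N32626 D52678) (tt N8047 F52200) (tt N32627 D52679) (tt N29554 (iv7 F76676)))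
theorem Q16389 : ∀ i, i < 16389 → P i := stepQ 16388 Q16388 (allL N16388 (tt N8035 (iv1 D25572)) (tt N26819 F67865) (tt N29554 F76674) (tt N32628 D52680) (tt N32629 D52681) (tt N8048 F76672) (tt N32630 D52682) (tt N29555 F76673))
theorem Q16390 : ∀ i, i < 16390 → P i := stepQ 16389 Q16389 (allL N16389 (tt N32631 D52683) (tt N22215 (iv0 F52733)) (tt N32623 (iv2 F83240)) (tt N11422 F40456) (tt N8035 (iv4 D25573)) (tt N22304 (iv5 F52889)) (tt N32632 D52684) (tt N29556 (iv7 F76688)))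
theorem Q16391 : ∀ i, i < 16391 → P i := stepQ 16390 Q16390 (allL N16390 (tt N32633 D52685) (tt N32634 D52686) (tt N32624 (iv2 F83241)) (tt N8037 F40457) (tt N32632 (iv4 F83259)) (tt N32635 D52687) (tt N8035 (iv6 D25574)) (tt N32636 D52688))
theorem Q16392 : ∀ i, i < 16392 → P i := stepQ 16391 Q16391 (allL N16391 (tt N32637 D52689) (tt N32591 F83247) (tt N32625 (iv2 F83243)) (tt N8039 F40458) (tt N32638 D52690) (tt N8036 (iv5 D25575)) (tt N32635 (iv6 F83261)) (tt N26795 (iv7 F67757)))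
theorem Q16393 : ∀ i, i < 16393 → P i := stepQ 16392 Q16392 (allL N16392 (tt N11783 (iv1 F40464)) (tt N8037 (iv0 D25576)) (tt N11780 (iv2 F161671)) (tt N32639 D52692) (tt N29557 (iv4 F114627)) (tt N32640 D52694) (tt N32641 D52695) (tt N11781 F161666))
theorem Q16394 : ∀ i, i < 16394 → P i := stepQ 16393 Q16393 (allL N16393 (tt N8037 (iv1 D25577)) (tt N11783 F40459) (tt N11781 F161663) (tt N32642 D52697) (tt N29558 (iv4 F114619)) (tt N32643 D52699) (tt N32644 D52700) (tt N11780 (iv7 F161672)))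
theorem Q16395 : ∀ i, i < 16395 → P i := stepQ 16394 Q16394 (allL N16394 (tt N32639 F290502) (tt N32645 D52702) (tt N11782 F40460) (tt N32635 (iv3 F83260)) (tt N32646 D52703) (tt N8037 (iv5 D25578)) (tt N8039 F40461) (tt N32647 D52704))
theorem Q16396 : ∀ i, i < 16396 → P i := stepQ 16395 Q16395 (allL N16395 (tt N11781 (iv1 F40465)) (tt N11780 F40466) (tt N11783 F40462) (tt N32636 (iv3 F83262)) (tt N11431 F40463) (tt N32647 (iv5 F83274)) (tt N29559 (iv6 F76694)) (tt N8037 (iv7 D25579)))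
theorem Q16397 : ∀ i, i < 16397 → P i := stepQ 16396 Q16396 (allL N16396 (tt N23157 (iv1 F55100)) (tt N17199 (iv0 F42489)) (tt N11395 F40467) (tt N32576 (iv3 F83127)) (tt N27603 (iv4 F70625)) (tt N8038 (iv5 D25580)) (tt N32648 D52705) (tt N11784 F40468))
theorem Q16398 : ∀ i, i < 16398 → P i := stepQ 16397 Q16397 (allL N16397 (tt N8039 (iv1 D25581)) (tt N11787 F40469) (tt N11383 (iv2 F40472)) (tt N29893 (iv3 F77553)) (tt N27300 (iv4 F70035)) (tt N11382 F40471) (tt N32649 D52706) (tt N11785 F40470))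
theorem Q16399 : ∀ i, i < 16399 → P i := stepQ 16398 Q16398 (allL N16398 (tt N27472 (iv1 F70325)) (tt N27471 F70322) (tt N11786 F40473) (tt N27450 (iv3 F70295)) (tt N8039 (iv4 D25582)) (tt N13890 F40474) (tt N32646 (iv6 F83272)) (tt N27469 (iv7 F70316)))
theorem Q16400 : ∀ i, i < 16400 → P i := stepQ 16399 Q16399 (allL N16399 (tt N11383 (iv1 F40477)) (tt N11785 F40478) (tt N11787 F40475) (tt N26795 (iv3 F67755)) (tt N27469 (iv4 F70315)) (tt N8040 F40476) (tt N26789 (iv6 F67734)) (tt N8039 (iv7 D25583)))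
theorem Q16401 : ∀ i, i < 16401 → P i := stepQ 16400 Q16400 (allL N16400 (tt N23903 (iv1 F56731)) (tt N23902 F56728) (tt N11788 F40479) (tt N11792 F40480) (tt N27467 (iv4 F70310)) (tt N8041 (iv5 D25584)) (tt N32650 D52707) (tt N10639 F40481))
theorem Q16402 : ∀ i, i < 16402 → P i := stepQ 16401 Q16401 (allL N16401 (tt N14887 F40483) (tt N8411 (iv0 F40485)) (tt N29560 (iv2 F76698)) (tt N8042 (iv3 D25585)) (tt N8048 F40484) (tt N32591 (iv5 F83172)) (tt N32651 D52708) (tt N10808 F40482))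
theorem Q16403 : ∀ i, i < 16403 → P i := stepQ 16402 Q16402 (allL N16402 (tt N32652 D52709) (tt N8427 (iv0 F42432)) (tt N10813 F40486) (tt N32651 (iv3 F83285)) (tt N21757 (iv4 F51827)) (tt N32653 D52710) (tt N8042 (iv6 D25586)) (tt N32460 (iv7 F82875)))
theorem Q16404 : ∀ i, i < 16404 → P i := stepQ 16403 Q16403 (allL N16403 (tt N10815 (iv1 F40490)) (tt N10814 F40489) (tt N8045 F40487) (tt N29562 (iv3 F76707)) (tt N32654 D52711) (tt N8044 (iv5 D25587)) (tt N32655 D52712) (tt N10803 F40488))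
theorem Q16405 : ∀ i, i < 16405 → P i := stepQ 16404 Q16404 (allL N16404 (tt N23875 (iv1 F56653)) (tt N23882 (iv0 F56674)) (tt N32654 (iv2 F83296)) (tt N16454 (iv3 F40542)) (tt N8045 (iv4 D25588)) (tt N32656 D52713) (tt N32657 D52714) (tt N10816 F40491))
theorem Q16406 : ∀ i, i < 16406 → P i := stepQ 16405 Q16405 (allL N16405 (tt N32658 D52715) (tt N32659 D52716) (tt N32655 (iv2 F83301)) (tt N8046 F40492) (tt N32657 (iv4 F83305)) (tt N32137 (iv5 F82404)) (tt N8045 (iv6 D25589)) (tt N32660 D52717))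
theorem Q16407 : ∀ i, i < 16407 → P i := stepQ 16406 Q16406 (allL N16406 (tt N29567 (iv1 F76722)) (tt N8046 (iv0 D25590)) (tt N29565 F178221) (tt N32661 D52719) (tt N18476 (iv4 F114629)) (tt N32662 D52721) (tt N32663 D52722) (tt N29566 F178222))
theorem Q16408 : ∀ i, i < 16408 → P i := stepQ 16407 Q16407 (allL N16407 (tt N8046 (iv1 D25591)) (tt N29567 F76721) (tt N29566 (iv2 F178218)) (tt N32664 D52724) (tt N18477 (iv4 F114632)) (tt N32665 D52726) (tt N32666 D52727) (tt N29565 (iv7 F178219)))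
theorem Q16409 : ∀ i, i < 16409 → P i := stepQ 16408 Q16408 (allL N16408 (tt N29566 (iv1 F76716)) (tt N29565 F76720) (tt N29567 (iv2 F76717)) (tt N32660 (iv3 F83306)) (tt N16463 (iv4 F40548)) (tt N32145 (iv5 F82415)) (tt N18479 (iv6 F46016)) (tt N8046 (iv7 D25592)))
theorem Q16410 : ∀ i, i < 16410 → P i := stepQ 16409 Q16409 (allL N16409 (tt N8411 F40495) (tt N14887 F40496) (tt N10808 F40493) (tt N10737 F40494) (tt N8047 (iv4 D25593)) (tt N32637 (iv5 F83264)) (tt N26482 F65300) (tt N29560 (iv7 F76700)))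
theorem Q16411 : ∀ i, i < 16411 → P i := stepQ 16410 Q16410 (allL N16410 (tt N8414 (iv1 F40501)) (tt N8401 F40502) (tt N8409 F40499) (tt N8048 (iv3 D25596)) (tt N16476 (iv4 F40574)) (tt N32628 (iv5 F83253)) (tt N10818 (iv6 F50254)) (tt N8410 F40500))
theorem Q16412 : ∀ i, i < 16412 → P i := stepQ 16411 Q16411 (allL N16411 (tt N23138 F77237) (tt N32667 D52728) (tt N29561 (iv2 F76703)) (tt N10818 F50255) (tt N32651 (iv4 F83286)) (tt N32668 D52729) (tt N8048 (iv6 D25598)) (tt N32479 (iv7 F82921)))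
theorem Q16413 : ∀ i, i < 16413 → P i := stepQ 16412 Q16412 (allL N16412 (tt N16383 (iv1 F55474)) (tt N16380 F55473) (tt N8050 F40503) (tt N10803 F40504) (tt N32669 D52730) (tt N8049 (iv5 D25599)) (tt N32670 D52731) (tt N29562 (iv7 F76708)))
theorem Q16414 : ∀ i, i < 16414 → P i := stepQ 16413 Q16413 (allL N16413 (tt N32651 F83288) (tt N32671 D52732) (tt N8051 F40505) (tt N10804 F40506) (tt N16451 (iv4 F40541)) (tt N32672 D52733) (tt N8049 (iv6 D25600)) (tt N32673 D52734))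
theorem Q16415 : ∀ i, i < 16415 → P i := stepQ 16414 Q16414 (allL N16414 (tt N29562 (iv1 F76709)) (tt N8050 (iv0 D25601)) (tt N16383 F46139) (tt N17536 F46136) (tt N17760 F46135) (tt N14731 (iv5 F46137)) (tt N32674 D52735) (tt N16380 (iv7 F46138)))
theorem Q16416 : ∀ i, i < 16416 → P i := stepQ 16415 Q16415 (allL N16415 (tt N8050 (iv1 D25602)) (tt N29562 F76710) (tt N16380 (iv2 F46141)) (tt N23853 (iv3 F56617)) (tt N32675 D52736) (tt N14732 (iv5 F46142)) (tt N32676 D52737) (tt N16383 F46140))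
theorem Q16417 : ∀ i, i < 16417 → P i := stepQ 16416 Q16416 (allL N16416 (tt N32677 D52738) (tt N32678 D52739) (tt N32669 (iv2 F83316)) (tt N10757 F40507) (tt N8050 (iv4 D25603)) (tt N22212 (iv5 F52730)) (tt N32679 D52740) (tt N29563 (iv7 F76713)))
theorem Q16418 : ∀ i, i < 16418 → P i := stepQ 16417 Q16417 (allL N16417 (tt N32680 D52741) (tt N32681 D52742) (tt N32670 (iv2 F83318)) (tt N8052 F40508) (tt N32679 (iv4 F83339)) (tt N32682 D52743) (tt N8050 (iv6 D25604)) (tt N32683 D52744))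
theorem Q16419 : ∀ i, i < 16419 → P i := stepQ 16418 Q16418 (allL N16418 (tt N32673 (iv1 F83333)) (tt N8051 (iv0 D25605)) (tt N32651 (iv2 F83284)) (tt N29752 F77181) (tt N29561 F77182) (tt N32684 D52745) (tt N29560 (iv6 F77183)) (tt N32671 (iv7 F83321)))
theorem Q16420 : ∀ i, i < 16420 → P i := stepQ 16419 Q16419 (allL N16419 (tt N8051 (iv1 D25606)) (tt N32673 F83332) (tt N32671 F83322) (tt N32460 (iv3 F82925)) (tt N32479 (iv4 F82923)) (tt N32685 D52746) (tt N26483 F82924) (tt N32651 (iv7 F83287)))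
theorem Q16421 : ∀ i, i < 16421 → P i := stepQ 16420 Q16420 (allL N16420 (tt N32686 D52747) (tt N32687 D52748) (tt N32672 (iv2 F83325)) (tt N8055 F40509) (tt N32688 D52749) (tt N8051 (iv5 D25607)) (tt N32682 (iv6 F83342)) (tt N32689 D52750))
theorem Q16422 : ∀ i, i < 16422 → P i := stepQ 16421 Q16421 (allL N16421 (tt N32671 (iv1 F83320)) (tt N32651 (iv0 F83289)) (tt N32673 (iv2 F83328)) (tt N8056 F40510) (tt N16459 (iv4 F40546)) (tt N32689 (iv5 F83348)) (tt N16160 F40511) (tt N8051 (iv7 D25608)))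
theorem Q16423 : ∀ i, i < 16423 → P i := stepQ 16422 Q16422 (allL N16422 (tt N18479 (iv1 F46019)) (tt N8052 (iv0 D25609)) (tt N18476 (iv2 F178216)) (tt N32690 D52752) (tt N29565 (iv4 F94481)) (tt N32691 D52754) (tt N32692 D52755) (tt N18477 F178215))
theorem Q16424 : ∀ i, i < 16424 → P i := stepQ 16423 Q16423 (allL N16423 (tt N8052 (iv1 D25610)) (tt N18479 F46018) (tt N18477 F178210) (tt N32693 D52757) (tt N29566 (iv4 F161722)) (tt N32694 D52759) (tt N32695 D52760) (tt N18476 (iv7 F178217)))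
theorem Q16425 : ∀ i, i < 16425 → P i := stepQ 16424 Q16424 (allL N16424 (tt N32696 D52761) (tt N32697 D52762) (tt N18478 (iv2 F46013)) (tt N32682 (iv3 F83341)) (tt N32698 D52763) (tt N8052 (iv5 D25611)) (tt N8055 F40512) (tt N32699 D52764))
theorem Q16426 : ∀ i, i < 16426 → P i := stepQ 16425 Q16425 (allL N16425 (tt N18477 (iv1 F46012)) (tt N18476 F46017) (tt N18479 (iv2 F46015)) (tt N32683 (iv3 F83343)) (tt N16440 (iv4 F40527)) (tt N32699 (iv5 F83355)) (tt N29567 (iv6 F76719)) (tt N8052 (iv7 D25612)))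
theorem Q16427 : ∀ i, i < 16427 → P i := stepQ 16426 Q16426 (allL N16426 (tt N30067 (iv1 F77952)) (tt N29529 (iv0 F76618)) (tt N18481 (iv2 F46024)) (tt N11385 F40513) (tt N32700 D52765) (tt N8053 (iv5 D25613)) (tt N32701 D52766) (tt N18482 (iv7 F46028)))
theorem Q16428 : ∀ i, i < 16428 → P i := stepQ 16427 Q16427 (allL N16427 (tt N29770 (iv1 F77249)) (tt N29905 F77580) (tt N29880 (iv2 F77519)) (tt N8054 (iv3 D25614)) (tt N16427 F40514) (tt N32702 D52767) (tt N29866 F77485) (tt N18480 (iv7 F46023)))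
theorem Q16429 : ∀ i, i < 16429 → P i := stepQ 16428 Q16428 (allL N16428 (tt N29529 (iv1 F76619)) (tt N30067 (iv0 F77951)) (tt N18482 (iv2 F46027)) (tt N32702 (iv3 F83358)) (tt N32703 D52768) (tt N8054 (iv5 D25615)) (tt N32704 D52769) (tt N18481 (iv7 F46025)))
theorem Q16430 : ∀ i, i < 16430 → P i := stepQ 16429 Q16429 (allL N16429 (tt N18486 (iv1 F46042)) (tt N8055 (iv0 D25616)) (tt N18483 F46031) (tt N32705 D52770) (tt N32706 D52771) (tt N16280 F40515) (tt N32707 D52772) (tt N18484 (iv7 F46035)))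
theorem Q16431 : ∀ i, i < 16431 → P i := stepQ 16430 Q16430 (allL N16430 (tt N8055 (iv1 D25617)) (tt N18486 F46041) (tt N18484 F46037) (tt N32708 D52773) (tt N32709 D52774) (tt N16279 F40516) (tt N32710 D52775) (tt N18483 F46032))
theorem Q16432 : ∀ i, i < 16432 → P i := stepQ 16431 Q16431 (allL N16431 (tt N32711 D52776) (tt N32712 D52777) (tt N18485 (iv2 F46038)) (tt N32713 D52778) (tt N8055 (iv4 D25618)) (tt N32714 D52779) (tt N32698 (iv6 F83354)) (tt N32715 D52780))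
theorem Q16433 : ∀ i, i < 16433 → P i := stepQ 16432 Q16432 (allL N16432 (tt N18484 (iv1 F46034)) (tt N18483 F46033) (tt N18486 (iv2 F46039)) (tt N32689 (iv3 F83347)) (tt N32715 (iv4 F83376)) (tt N8056 F40517) (tt N32716 D52781) (tt N8055 (iv7 D25619)))
theorem Q16434 : ∀ i, i < 16434 → P i := stepQ 16433 Q16433 (allL N16433 (tt N32717 D52782) (tt N8080 F50901) (tt N10799 F40518) (tt N8057 (iv3 D25620)) (tt N8353 F40519) (tt N32718 D52783) (tt N8357 F40520) (tt N10723 F40521))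
theorem Q16435 : ∀ i, i < 16435 → P i := stepQ 16434 Q16434 (allL N16434 (tt N29979 (iv1 F77718)) (tt N29824 (iv0 F77416)) (tt N18487 (iv2 F46043)) (tt N32718 (iv3 F83387)) (tt N32719 D52784) (tt N8057 (iv5 D25621)) (tt N32720 D52785) (tt N10724 F40522))
theorem Q16436 : ∀ i, i < 16436 → P i := stepQ 16435 Q16435 (allL N16435 (tt N17314 F42762) (tt N21923 (iv0 F52190)) (tt N21179 (iv2 F50275)) (tt N8058 (iv3 D25622)) (tt N8349 F40523) (tt N32721 D52786) (tt N16896 (iv6 F41504)) (tt N10710 F40524))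
theorem Q16437 : ∀ i, i < 16437 → P i := stepQ 16436 Q16436 (allL N16436 (tt N29824 (iv1 F77417)) (tt N29979 (iv0 F77717)) (tt N10724 F40525) (tt N32721 (iv3 F83391)) (tt N32722 D52787) (tt N8058 (iv5 D25623)) (tt N32723 D52788) (tt N18487 (iv7 F46044)))
theorem Q16438 : ∀ i, i < 16438 → P i := stepQ 16437 Q16437 (allL N16437 (tt N29577 (iv1 F76745)) (tt N8059 (iv0 D25624)) (tt N29574 (iv2 F145371)) (tt N32724 D52790) (tt N16460 (iv4 F136455)) (tt N32725 D52792) (tt N32726 D52793) (tt N29575 (iv7 F145382)))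
theorem Q16439 : ∀ i, i < 16439 → P i := stepQ 16438 Q16438 (allL N16438 (tt N8059 (iv1 D25625)) (tt N29577 F76744) (tt N29575 (iv2 F145380)) (tt N32727 D52795) (tt N16461 (iv4 F136458)) (tt N32728 D52797) (tt N32729 D52798) (tt N29574 (iv7 F145372)))
theorem Q16440 : ∀ i, i < 16440 → P i := stepQ 16439 Q16439 (allL N16439 (tt N32730 D52799) (tt N32731 D52800) (tt N29576 (iv2 F76738)) (tt N21966 (iv3 F52287)) (tt N32732 D52801) (tt N8059 (iv5 D25626)) (tt N8060 F40526) (tt N32733 D52802))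
theorem Q16441 : ∀ i, i < 16441 → P i := stepQ 16440 Q16440 (allL N16440 (tt N29575 (iv1 F76737)) (tt N29574 F76743) (tt N29577 (iv2 F76740)) (tt N21967 (iv3 F52289)) (tt N16425 F40527) (tt N32733 (iv5 F83399)) (tt N22892 (iv6 F54601)) (tt N8059 (iv7 D25627)))
theorem Q16442 : ∀ i, i < 16442 → P i := stepQ 16441 Q16441 (allL N16441 (tt N32153 (iv1 F82430)) (tt N30635 (iv0 F79014)) (tt N29578 (iv2 F76746)) (tt N32734 D52803) (tt N8060 (iv4 D25628)) (tt N16180 F40528) (tt N32732 (iv6 F83398)) (tt N16179 (iv7 F40529)))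
theorem Q16443 : ∀ i, i < 16443 → P i := stepQ 16442 Q16442 (allL N16442 (tt N16152 (iv1 F40532)) (tt N9294 F40533) (tt N19405 F47556) (tt N21974 (iv3 F52299)) (tt N16179 F40530) (tt N8061 F40531) (tt N32735 D52804) (tt N8060 (iv7 D25629)))
theorem Q16444 : ∀ i, i < 16444 → P i := stepQ 16443 Q16443 (allL N16443 (tt N17155 F42384) (tt N29581 F76757) (tt N16444 (iv2 F83407)) (tt N8062 (iv3 D25631)) (tt N14741 F40535) (tt N32736 D52808) (tt N26543 (iv6 F65466)) (tt N16447 (iv7 F83418)))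
theorem Q16445 : ∀ i, i < 16445 → P i := stepQ 16444 Q16444 (allL N16444 (tt N27235 F69416) (tt N14748 (iv0 F40536)) (tt N16443 F83407) (tt N16473 F40571) (tt N8062 (iv4 D25632)) (tt N32737 D52809) (tt N26920 F68243) (tt N29568 (iv7 F83417)))
theorem Q16446 : ∀ i, i < 16446 → P i := stepQ 16445 Q16445 (allL N16445 (tt N23174 (iv1 F55129)) (tt N8088 F41850) (tt N23176 (iv2 F83429)) (tt N32736 (iv3 F83434)) (tt N32738 D52810) (tt N8062 (iv5 D25633)) (tt N32739 D52811) (tt N23175 F83430))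
theorem Q16447 : ∀ i, i < 16447 → P i := stepQ 16446 Q16446 (allL N16446 (tt N29765 F77232) (tt N8072 F42424) (tt N29895 F83420) (tt N8063 (iv3 D25636)) (tt N29895 (iv4 F77562)) (tt N32740 D52812) (tt N32741 D52813) (tt N29570 (iv7 F83411)))
theorem Q16448 : ∀ i, i < 16448 → P i := stepQ 16447 Q16447 (allL N16447 (tt N14748 F42423) (tt N27235 (iv0 F69417)) (tt N29568 (iv2 F83419)) (tt N14740 F40538) (tt N8063 (iv4 D25637)) (tt N32742 D52814) (tt N16456 F76685) (tt N16443 F83418))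
theorem Q16449 : ∀ i, i < 16449 → P i := stepQ 16448 Q16448 (allL N16448 (tt N8088 F76681) (tt N23174 F76682) (tt N23175 F83428) (tt N32740 (iv3 F83445)) (tt N32743 D52815) (tt N8063 (iv5 D25638)) (tt N32744 D52816) (tt N23176 (iv7 F83427)))
theorem Q16450 : ∀ i, i < 16450 → P i := stepQ 16449 Q16449 (allL N16449 (tt N23131 F76683) (tt N29583 F76762) (tt N29569 (iv2 F83431)) (tt N32741 (iv3 F83448)) (tt N16456 (iv4 F76684)) (tt N32745 D52817) (tt N8063 (iv6 D25639)) (tt N32496 (iv7 F82954)))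
theorem Q16451 : ∀ i, i < 16451 → P i := stepQ 16450 Q16450 (allL N16450 (tt N29572 (iv1 F76734)) (tt N29571 F76732) (tt N8065 F40539) (tt N17110 (iv3 F42243)) (tt N32746 D52818) (tt N8064 (iv5 D25640)) (tt N32747 D52819) (tt N21935 (iv7 F52207)))
theorem Q16452 : ∀ i, i < 16452 → P i := stepQ 16451 Q16451 (allL N16451 (tt N32748 D52820) (tt N32749 D52821) (tt N8066 F40540) (tt N17111 (iv3 F42248)) (tt N16413 F40541) (tt N26563 (iv5 F65502)) (tt N8064 (iv6 D25641)) (tt N27124 (iv7 F69005)))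
theorem Q16453 : ∀ i, i < 16453 → P i := stepQ 16452 Q16452 (allL N16452 (tt N21935 (iv1 F52209)) (tt N8065 (iv0 D25642)) (tt N29572 (iv2 F106559)) (tt N32750 D52823) (tt N32751 D52824) (tt N11388 F65521) (tt N24830 F323219) (tt N29571 (iv7 F106566)))
theorem Q16454 : ∀ i, i < 16454 → P i := stepQ 16453 Q16453 (allL N16453 (tt N8065 (iv1 D25643)) (tt N21935 F52208) (tt N29571 (iv2 F106565)) (tt N32752 D52827) (tt N32753 D52828) (tt N11389 F46143) (tt N32754 D52829) (tt N29572 (iv7 F106560)))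
theorem Q16455 : ∀ i, i < 16455 → P i := stepQ 16454 Q16454 (allL N16454 (tt N24828 F319796) (tt N32755 D52831) (tt N32746 (iv2 F83454)) (tt N16404 F40542) (tt N8065 (iv4 D25644)) (tt N32756 D52832) (tt N32757 D52833) (tt N22086 (iv7 F52463)))
theorem Q16456 : ∀ i, i < 16456 → P i := stepQ 16455 Q16455 (allL N16455 (tt N32758 D52834) (tt N32759 D52835) (tt N32747 (iv2 F83455)) (tt N8067 F40543) (tt N32757 (iv4 F83485)) (tt N32760 D52836) (tt N8065 (iv6 D25645)) (tt N32761 D52837))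
theorem Q16457 : ∀ i, i < 16457 → P i := stepQ 16456 Q16456 (allL N16456 (tt N27124 (iv1 F69007)) (tt N8066 (iv0 D25646)) (tt N32748 F83458) (tt N29569 (iv3 F76725)) (tt N16449 F76684) (tt N32762 D52838) (tt N16447 (iv6 F76685)) (tt N32749 (iv7 F83463)))
theorem Q16458 : ∀ i, i < 16458 → P i := stepQ 16457 Q16457 (allL N16457 (tt N8066 (iv1 D25647)) (tt N27124 F69006) (tt N32749 F83466) (tt N32763 D52839) (tt N32764 D52840) (tt N32765 D52841) (tt N26544 (iv6 F83461)) (tt N32748 F83460))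
theorem Q16459 : ∀ i, i < 16459 → P i := stepQ 16458 Q16458 (allL N16458 (tt N26566 (iv1 F138887)) (tt N26444 (iv0 F65153)) (tt N26563 F65503) (tt N8068 F40544) (tt N32766 D52843) (tt N8066 (iv5 D25648)) (tt N32760 (iv6 F83488)) (tt N26564 (iv7 F65504)))
theorem Q16460 : ∀ i, i < 16460 → P i := stepQ 16459 Q16459 (allL N16459 (tt N32749 (iv1 F83462)) (tt N32748 F83457) (tt N27124 (iv2 F69004)) (tt N8069 F40545) (tt N16421 F40546) (tt N26564 F65506) (tt N19443 (iv6 F47672)) (tt N8066 (iv7 D25649)))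
theorem Q16461 : ∀ i, i < 16461 → P i := stepQ 16460 Q16460 (allL N16460 (tt N22892 (iv1 F54604)) (tt N8067 (iv0 D25650)) (tt N22889 (iv2 F145369)) (tt N32767 D52845) (tt N16437 F136455) (tt N32768 D52847) (tt N32769 D52848) (tt N22890 (iv7 F145370)))
theorem Q16462 : ∀ i, i < 16462 → P i := stepQ 16461 Q16461 (allL N16461 (tt N8067 (iv1 D25651)) (tt N22892 F54603) (tt N22890 F145373) (tt N21165 F316576) (tt N16438 F136458) (tt N32770 D52852) (tt N32771 D52853) (tt N22889 F145374))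
theorem Q16463 : ∀ i, i < 16463 → P i := stepQ 16462 Q16462 (allL N16462 (tt N32772 D52854) (tt N32773 D52855) (tt N22891 (iv2 F54598)) (tt N32760 (iv3 F83487)) (tt N32774 D52856) (tt N8067 (iv5 D25652)) (tt N8068 F40547) (tt N32775 D52857))
theorem Q16464 : ∀ i, i < 16464 → P i := stepQ 16463 Q16463 (allL N16463 (tt N22890 (iv1 F54597)) (tt N22889 F54602) (tt N22892 (iv2 F54600)) (tt N32761 (iv3 F83489)) (tt N16408 F40548) (tt N32775 (iv5 F83502)) (tt N29577 (iv6 F76742)) (tt N8067 (iv7 D25653)))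
theorem Q16465 : ∀ i, i < 16465 → P i := stepQ 16464 Q16464 (allL N16464 (tt N22895 (iv1 F54613)) (tt N8068 (iv0 D25654)) (tt N22893 F54606) (tt N32776 D52858) (tt N32711 (iv4 F83369)) (tt N16282 F40549) (tt N32777 D52859) (tt N20998 (iv7 F49968)))
theorem Q16466 : ∀ i, i < 16466 → P i := stepQ 16465 Q16465 (allL N16465 (tt N8068 (iv1 D25655)) (tt N22895 F54612) (tt N20998 (iv2 F49967)) (tt N32778 D52860) (tt N32712 (iv4 F83370)) (tt N11433 F40550) (tt N32779 D52861) (tt N22893 (iv7 F54607)))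
theorem Q16467 : ∀ i, i < 16467 → P i := stepQ 16466 Q16466 (allL N16466 (tt N32780 D52862) (tt N32781 D52863) (tt N22894 (iv2 F54609)) (tt N32782 D52864) (tt N8068 (iv4 D25656)) (tt N32783 D52865) (tt N32774 (iv6 F83501)) (tt N32784 D52866))
theorem Q16468 : ∀ i, i < 16468 → P i := stepQ 16467 Q16467 (allL N16467 (tt N20998 (iv1 F49970)) (tt N22893 F54608) (tt N22895 (iv2 F54610)) (tt N26564 F65505) (tt N32784 (iv4 F83518)) (tt N8069 F40551) (tt N32785 D52867) (tt N8068 (iv7 D25657)))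
theorem Q16469 : ∀ i, i < 16469 → P i := stepQ 16468 Q16468 (allL N16468 (tt N8083 (iv1 F40554)) (tt N8082 F40555) (tt N8086 F40552) (tt N16529 (iv3 F40649)) (tt N32786 D52868) (tt N8070 (iv5 D25658)) (tt N32787 D52869) (tt N8081 F40553))
theorem Q16470 : ∀ i, i < 16470 → P i := stepQ 16469 Q16469 (allL N16469 (tt N32538 (iv1 F83092)) (tt N29766 (iv0 F77235)) (tt N8087 F40557) (tt N17122 (iv3 F42288)) (tt N8400 F40558) (tt N32788 D52870) (tt N8070 (iv6 D25659)) (tt N10835 F40559))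
theorem Q16471 : ∀ i, i < 16471 → P i := stepQ 16470 Q16470 (allL N16470 (tt N8357 F40563) (tt N8359 (iv0 F40564)) (tt N10793 F40560) (tt N8071 (iv3 D25660)) (tt N9119 F40561) (tt N23874 (iv5 F56647)) (tt N32789 D52871) (tt N8077 F40562))
theorem Q16472 : ∀ i, i < 16472 → P i := stepQ 16471 Q16471 (allL N16471 (tt N8482 F40567) (tt N21476 (iv0 F51361)) (tt N8074 F40565) (tt N23874 F56649) (tt N32790 D52872) (tt N8071 (iv5 D25661)) (tt N32791 D52873) (tt N8079 F40566))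
theorem Q16473 : ∀ i, i < 16473 → P i := stepQ 16472 Q16472 (allL N16472 (tt N9338 F54059) (tt N19445 F54060) (tt N8075 F40569) (tt N32789 (iv3 F83532)) (tt N9117 F40570) (tt N32792 D52874) (tt N8071 (iv6 D25662)) (tt N19444 (iv7 F54346)))
theorem Q16474 : ∀ i, i < 16474 → P i := stepQ 16473 Q16473 (allL N16473 (tt N8072 (iv1 D25664)) (tt N29765 (iv0 F77231)) (tt N29570 (iv2 F83410)) (tt N16444 (iv3 F40571)) (tt N29570 (iv4 F76729)) (tt N32793 D52875) (tt N32505 (iv6 F83032)) (tt N29895 (iv7 F83421)))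
theorem Q16475 : ∀ i, i < 16475 → P i := stepQ 16474 Q16474 (allL N16474 (tt N32752 F83477) (tt N32794 D52876) (tt N29896 (iv2 F77565)) (tt N8074 F40572) (tt N17002 (iv4 F41849)) (tt N8072 (iv5 D25665)) (tt N32795 D52877) (tt N21688 (iv7 F51702)))
theorem Q16476 : ∀ i, i < 16476 → P i := stepQ 16475 Q16475 (allL N16475 (tt N27079 F69408) (tt N32796 D52878) (tt N29897 (iv2 F77568)) (tt N8075 F40573) (tt N29894 (iv4 F77560)) (tt N32797 D52879) (tt N8072 (iv6 D25666)) (tt N32798 D52880))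
theorem Q16477 : ∀ i, i < 16477 → P i := stepQ 16476 Q16476 (allL N16476 (tt N8078 (iv1 F40578)) (tt N8073 (iv0 D25667)) (tt N8336 (iv2 F40575)) (tt N10642 F40576) (tt N16410 F40574) (tt N25069 (iv5 F60253)) (tt N22093 (iv6 F52471)) (tt N9115 F40577))
theorem Q16478 : ∀ i, i < 16478 → P i := stepQ 16477 Q16477 (allL N16477 (tt N8330 F40581) (tt N9131 (iv0 F40582)) (tt N9112 F40579) (tt N8073 (iv3 D25668)) (tt N10730 F40580) (tt N21698 (iv5 F51731)) (tt N19490 (iv6 F54283)) (tt N9132 F40583))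
theorem Q16479 : ∀ i, i < 16479 → P i := stepQ 16478 Q16478 (allL N16478 (tt N21566 (iv1 F51513)) (tt N10655 F40585) (tt N9116 F40584) (tt N21698 F51732) (tt N11287 F40586) (tt N8073 (iv5 D25669)) (tt N32799 D52881) (tt N21569 (iv7 F51522)))
theorem Q16480 : ∀ i, i < 16480 → P i := stepQ 16479 Q16479 (allL N16479 (tt N32800 D52882) (tt N9370 F54275) (tt N9117 F40587) (tt N19490 F54276) (tt N8075 F40588) (tt N32801 D52883) (tt N8073 (iv6 D25670)) (tt N32802 D52884))
theorem Q16481 : ∀ i, i < 16481 → P i := stepQ 16480 Q16480 (allL N16480 (tt N9115 (iv1 F40592)) (tt N8336 F40593) (tt N8078 F40589) (tt N9132 F40590) (tt N8076 F40591) (tt N21569 (iv5 F51518)) (tt N23148 (iv6 F55082)) (tt N8073 (iv7 D25671)))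
theorem Q16482 : ∀ i, i < 16482 → P i := stepQ 16481 Q16481 (allL N16481 (tt N8079 (iv1 F40598)) (tt N8074 (iv0 D25672)) (tt N8482 (iv2 F40595)) (tt N21533 (iv3 F51458)) (tt N32803 D52885) (tt N8481 F40594) (tt N32804 D52886) (tt N21476 (iv7 F51360)))
theorem Q16483 : ∀ i, i < 16483 → P i := stepQ 16482 Q16482 (allL N16482 (tt N32805 D52887) (tt N32806 D52888) (tt N32790 (iv2 F83538)) (tt N8237 F309097) (tt N8074 (iv4 D25673)) (tt N21715 (iv5 F51763)) (tt N8236 (iv6 F311232)) (tt N21692 (iv7 F51713)))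
theorem Q16484 : ∀ i, i < 16484 → P i := stepQ 16483 Q16483 (allL N16483 (tt N32807 D52890) (tt N32727 (iv0 F290389)) (tt N32791 (iv2 F83541)) (tt N32795 (iv3 F83548)) (tt N8236 F313561) (tt N32808 D52892) (tt N8074 (iv6 D25674)) (tt N10230 (iv7 F316012)))
theorem Q16485 : ∀ i, i < 16485 → P i := stepQ 16484 Q16484 (allL N16484 (tt N21476 (iv1 F51362)) (tt N8482 F40599) (tt N8079 F40596) (tt N21688 F51704) (tt N21692 (iv4 F51712)) (tt N8076 F40597) (tt N32809 D52894) (tt N8074 (iv7 D25675)))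
theorem Q16486 : ∀ i, i < 16486 → P i := stepQ 16485 Q16485 (allL N16485 (tt N19444 F54277) (tt N8075 (iv0 D25676)) (tt N9338 F54278) (tt N19464 F54279) (tt N8419 F54280) (tt N32810 D52895) (tt N32518 F83071) (tt N19445 F54281))
theorem Q16487 : ∀ i, i < 16487 → P i := stepQ 16486 Q16486 (allL N16486 (tt N32811 D52896) (tt N19404 (iv0 F50921)) (tt N32792 (iv2 F83542)) (tt N32797 (iv3 F83551)) (tt N32812 D52897) (tt N8075 (iv5 D25678)) (tt N32808 (iv6 F83583)) (tt N32813 D52898))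
theorem Q16488 : ∀ i, i < 16488 → P i := stepQ 16487 Q16487 (allL N16487 (tt N19445 F54269) (tt N9338 F54270) (tt N19444 F54347) (tt N32798 (iv3 F83552)) (tt N32802 (iv4 F83568)) (tt N32813 (iv5 F83588)) (tt N32717 F83385) (tt N8075 (iv7 D25679)))
theorem Q16489 : ∀ i, i < 16489 → P i := stepQ 16488 Q16488 (allL N16488 (tt N10799 F50920) (tt N10723 F50922) (tt N8080 F40600) (tt N29902 (iv3 F77578)) (tt N23148 (iv4 F55083)) (tt N32814 D52899) (tt N8076 (iv6 D25680)) (tt N32717 (iv7 F83381)))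
theorem Q16490 : ∀ i, i < 16490 → P i := stepQ 16489 Q16489 (allL N16489 (tt N17442 (iv1 F43266)) (tt N17443 F43270) (tt N23873 F56643) (tt N8079 F40601) (tt N32815 D52900) (tt N8077 (iv5 D25681)) (tt N32816 D52901) (tt N23874 (iv7 F56646)))
theorem Q16491 : ∀ i, i < 16491 → P i := stepQ 16490 Q16490 (allL N16490 (tt N8087 F50918) (tt N10835 F50919) (tt N29766 (iv2 F77233)) (tt N8080 F40602) (tt N29764 (iv4 F77225)) (tt N32817 D52902) (tt N8077 (iv6 D25682)) (tt N32538 (iv7 F83093)))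
theorem Q16492 : ∀ i, i < 16492 → P i := stepQ 16491 Q16491 (allL N16491 (tt N10655 (iv1 F40605)) (tt N21566 (iv0 F51511)) (tt N21569 F51520) (tt N9126 F40603) (tt N11288 F40606) (tt N8078 (iv5 D25683)) (tt N32818 D52903) (tt N9116 F40604))
theorem Q16493 : ∀ i, i < 16493 → P i := stepQ 16492 Q16492 (allL N16492 (tt N10643 F50888) (tt N32819 D52904) (tt N23148 (iv2 F55081)) (tt N9130 F40607) (tt N8080 F40608) (tt N32820 D52905) (tt N8078 (iv6 D25684)) (tt N32821 D52906))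
theorem Q16494 : ∀ i, i < 16494 → P i := stepQ 16493 Q16493 (allL N16493 (tt N32806 (iv1 F83580)) (tt N32805 F83579) (tt N21692 F51714) (tt N32822 D52907) (tt N8079 (iv4 D25685)) (tt N32823 D52908) (tt N32824 D52909) (tt N32790 (iv7 F83540)))
theorem Q16495 : ∀ i, i < 16495 → P i := stepQ 16494 Q16494 (allL N16494 (tt N32767 F290329) (tt N32825 D52911) (tt N32809 (iv2 F83584)) (tt N32816 (iv3 F83593)) (tt N32824 (iv4 F83612)) (tt N32826 D52912) (tt N8079 (iv6 D25686)) (tt N32827 D52913))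
theorem Q16496 : ∀ i, i < 16496 → P i := stepQ 16495 Q16495 (allL N16495 (tt N8080 (iv1 D25688)) (tt N32717 F83380) (tt N10723 F50902) (tt N21179 F50903) (tt N8430 F50904) (tt N32828 D52914) (tt N10368 F50905) (tt N10799 F50906))
theorem Q16497 : ∀ i, i < 16497 → P i := stepQ 16496 Q16496 (allL N16496 (tt N32776 F83504) (tt N32829 D52915) (tt N32814 (iv2 F83590)) (tt N32817 (iv3 F83594)) (tt N32830 D52916) (tt N8080 (iv5 D25689)) (tt N32826 (iv6 F83613)) (tt N32831 D52917))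
theorem Q16498 : ∀ i, i < 16498 → P i := stepQ 16497 Q16497 (allL N16497 (tt N10723 (iv1 F50923)) (tt N10799 F50924) (tt N32717 F83379) (tt N32538 (iv3 F83096)) (tt N32821 (iv4 F83605)) (tt N32831 (iv5 F83616)) (tt N19444 F54348) (tt N8080 (iv7 D25690)))
theorem Q16499 : ∀ i, i < 16499 → P i := stepQ 16498 Q16498 (allL N16498 (tt N8086 (iv1 F40609)) (tt N8081 (iv0 D25691)) (tt N8082 F42885) (tt N32832 D52918) (tt N32833 D52919) (tt N10472 F40610) (tt N32834 D52920) (tt N8083 F42886))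
theorem Q16500 : ∀ i, i < 16500 → P i := stepQ 16499 Q16499 (allL N16499 (tt N8081 (iv1 D25692)) (tt N8086 F40611) (tt N8083 F42879) (tt N23360 (iv3 F55672)) (tt N21672 F51661) (tt N10471 F40612) (tt N32835 D52921) (tt N8082 F42880))
theorem Q16501 : ∀ i, i < 16501 → P i := stepQ 16500 Q16500 (allL N16500 (tt N24265 (iv1 F58226)) (tt N32836 D52922) (tt N8084 F40613) (tt N32837 D52923) (tt N8081 (iv4 D25693)) (tt N12266 F40614) (tt N32838 D52924) (tt N32786 (iv7 F83524)))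
theorem Q16502 : ∀ i, i < 16502 → P i := stepQ 16501 Q16501 (allL N16501 (tt N32839 D52925) (tt N21112 (iv0 F318014)) (tt N8085 F40615) (tt N29588 (iv3 F76769)) (tt N32838 (iv4 F83635)) (tt N32522 (iv5 F83082)) (tt N8081 (iv6 D25694)) (tt N32840 D52927))
theorem Q16503 : ∀ i, i < 16503 → P i := stepQ 16502 Q16502 (allL N16502 (tt N32740 F83447) (tt N32793 (iv0 F83545)) (tt N32841 D52928) (tt N8082 (iv3 D25696)) (tt N17454 (iv4 F43299)) (tt N17332 (iv5 F42810)) (tt N32842 D52929) (tt N23360 (iv7 F55673)))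
theorem Q16504 : ∀ i, i < 16504 → P i := stepQ 16503 Q16503 (allL N16503 (tt N32843 D52930) (tt N32844 D52931) (tt N32833 (iv2 F83622)) (tt N16999 F41823) (tt N8082 (iv4 D25697)) (tt N21753 (iv5 F51823)) (tt N32845 D52932) (tt N21672 (iv7 F51660)))
theorem Q16505 : ∀ i, i < 16505 → P i := stepQ 16504 Q16504 (allL N16504 (tt N32846 D52933) (tt N23240 (iv0 F290299)) (tt N32834 (iv2 F83625)) (tt N32842 (iv3 F83644)) (tt N32845 (iv4 F83650)) (tt N32847 D52935) (tt N8082 (iv6 D25698)) (tt N32848 D52936))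
theorem Q16506 : ∀ i, i < 16506 → P i := stepQ 16505 Q16505 (allL N16505 (tt N10794 F41870) (tt N10798 F42109) (tt N32849 D52937) (tt N8083 (iv3 D25700)) (tt N32850 D52938) (tt N11791 (iv5 F41869)) (tt N32851 D52939) (tt N32832 (iv7 F83618)))
theorem Q16507 : ∀ i, i < 16507 → P i := stepQ 16506 Q16506 (allL N16506 (tt N32844 (iv1 F83648)) (tt N32843 F83647) (tt N21672 (iv2 F51665)) (tt N32852 D52940) (tt N8083 (iv4 D25701)) (tt N32853 D52941) (tt N32854 D52942) (tt N32833 (iv7 F83624)))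
theorem Q16508 : ∀ i, i < 16508 → P i := stepQ 16507 Q16507 (allL N16507 (tt N32855 D52943) (tt N32856 D52944) (tt N32835 (iv2 F83626)) (tt N32851 (iv3 F83659)) (tt N32854 (iv4 F83664)) (tt N32851 (iv5 F83660)) (tt N8083 (iv6 D25702)) (tt N32857 D52945))
theorem Q16509 : ∀ i, i < 16509 → P i := stepQ 16508 Q16508 (allL N16508 (tt N32786 (iv1 F83526)) (tt N8084 (iv0 D25703)) (tt N24265 (iv2 F58222)) (tt N32858 D52946) (tt N17354 (iv4 F42847)) (tt N24264 F58221) (tt N32859 D52947) (tt N32836 (iv7 F83628)))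
theorem Q16510 : ∀ i, i < 16510 → P i := stepQ 16509 Q16509 (allL N16509 (tt N8084 (iv1 D25704)) (tt N32786 (iv0 F83525)) (tt N32836 F83631) (tt N13837 F40619) (tt N11779 (iv4 F40618)) (tt N13836 F40620) (tt N32860 D52948) (tt N24265 (iv7 F58224)))
theorem Q16511 : ∀ i, i < 16511 → P i := stepQ 16510 Q16510 (allL N16510 (tt N32861 D52949) (tt N22500 F310737) (tt N32862 D52950) (tt N8084 (iv3 D25705)) (tt N8090 F40621) (tt N32863 D52951) (tt N21198 (iv6 F312977)) (tt N14754 (iv7 F40622)))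
theorem Q16512 : ∀ i, i < 16512 → P i := stepQ 16511 Q16511 (allL N16511 (tt N27695 (iv1 F71085)) (tt N12001 (iv0 F40625)) (tt N12266 F40623) (tt N32863 (iv3 F83680)) (tt N12262 F40624) (tt N8084 (iv5 D25706)) (tt N32864 D52953) (tt N27694 (iv7 F71080)))
theorem Q16513 : ∀ i, i < 16513 → P i := stepQ 16512 Q16512 (allL N16512 (tt N32865 D52954) (tt N32866 D52955) (tt N32838 (iv2 F83634)) (tt N21198 F313001) (tt N8085 F40626) (tt N32867 D52956) (tt N8084 (iv6 D25707)) (tt N32868 D52957))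
theorem Q16514 : ∀ i, i < 16514 → P i := stepQ 16513 Q16513 (allL N16513 (tt N32836 (iv1 F83627)) (tt N24265 F58227) (tt N32786 (iv2 F83522)) (tt N14754 F40627) (tt N8086 F40628) (tt N27694 (iv5 F71076)) (tt N32869 D52958) (tt N8084 (iv7 D25708)))
theorem Q16515 : ∀ i, i < 16515 → P i := stepQ 16514 Q16514 (allL N16514 (tt N32840 (iv1 F83640)) (tt N8085 (iv0 D25709)) (tt N32839 (iv2 F177849)) (tt N32870 D52960) (tt N21115 F317666) (tt N32871 D52962) (tt N32872 D52963) (tt N21112 (iv7 F318017)))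
theorem Q16516 : ∀ i, i < 16516 → P i := stepQ 16515 Q16515 (allL N16515 (tt N8085 (iv1 D25710)) (tt N32840 F83639) (tt N21112 (iv2 F318016)) (tt N32873 D52965) (tt N21102 (iv4 F318013)) (tt N32874 D52967) (tt N21101 (iv6 F319878)) (tt N32839 (iv7 F177850)))
theorem Q16517 : ∀ i, i < 16517 → P i := stepQ 16516 Q16516 (allL N16516 (tt N21112 (iv1 F318015)) (tt N32839 F83638) (tt N32840 (iv2 F83637)) (tt N8094 F40629) (tt N32868 (iv4 F83688)) (tt N32536 (iv5 F83090)) (tt N32875 D52969) (tt N8085 (iv7 D25711)))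
theorem Q16518 : ∀ i, i < 16518 → P i := stepQ 16517 Q16517 (allL N16517 (tt N32876 D52970) (tt N32877 D52971) (tt N32787 (iv2 F83528)) (tt N8095 F40630) (tt N32869 (iv4 F83690)) (tt N32878 D52972) (tt N8086 (iv6 D25712)) (tt N32875 (iv7 F83694)))
theorem Q16519 : ∀ i, i < 16519 → P i := stepQ 16518 Q16518 (allL N16518 (tt N10835 (iv1 F40631)) (tt N8087 (iv0 D25713)) (tt N32538 (iv2 F83095)) (tt N32879 D52973) (tt N29769 (iv4 F77243)) (tt N32880 D52974) (tt N32881 D52975) (tt N29766 F77238))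
theorem Q16520 : ∀ i, i < 16520 → P i := stepQ 16519 Q16519 (allL N16519 (tt N32882 D52976) (tt N32883 D52977) (tt N32788 (iv2 F83529)) (tt N8098 F40633) (tt N32884 D52978) (tt N8087 (iv5 D25715)) (tt N32878 (iv6 F83696)) (tt N32539 (iv7 F83099)))
theorem Q16521 : ∀ i, i < 16521 → P i := stepQ 16520 Q16520 (allL N16520 (tt N23176 (iv1 F55132)) (tt N23175 F55131) (tt N8088 (iv2 D25718)) (tt N17520 (iv3 F43569)) (tt N32885 D52979) (tt N14916 F40634) (tt N32886 D52980) (tt N23174 (iv7 F55127)))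
theorem Q16522 : ∀ i, i < 16522 → P i := stepQ 16521 Q16521 (allL N16521 (tt N32887 D52981) (tt N32888 D52982) (tt N32885 (iv2 F83703)) (tt N16367 F40635) (tt N8088 (iv4 D25719)) (tt N32889 D52983) (tt N32890 D52984) (tt N23177 (iv7 F55134)))
theorem Q16523 : ∀ i, i < 16523 → P i := stepQ 16522 Q16522 (allL N16522 (tt N32891 D52985) (tt N32892 D52986) (tt N32886 (iv2 F83704)) (tt N8089 F40636) (tt N32890 (iv4 F83713)) (tt N32893 D52987) (tt N8088 (iv6 D25720)) (tt N32894 D52988))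
theorem Q16524 : ∀ i, i < 16524 → P i := stepQ 16523 Q16523 (allL N16523 (tt N17526 (iv1 F43583)) (tt N8089 (iv0 D25721)) (tt N17523 (iv2 F153450)) (tt N32855 F325987) (tt N11428 (iv4 F136445)) (tt N32895 D52992) (tt N32896 D52993) (tt N17524 F153448))
theorem Q16525 : ∀ i, i < 16525 → P i := stepQ 16524 Q16524 (allL N16524 (tt N8089 (iv1 D25722)) (tt N17526 F43582) (tt N17524 F153447) (tt N32897 D52995) (tt N11429 F136441) (tt N32898 D52997) (tt N32899 D52998) (tt N17523 (iv7 F153451)))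
theorem Q16526 : ∀ i, i < 16526 → P i := stepQ 16525 Q16525 (allL N16525 (tt N32900 D52999) (tt N32901 D53000) (tt N17525 (iv2 F43577)) (tt N32893 (iv3 F83714)) (tt N32902 D53001) (tt N8089 (iv5 D25723)) (tt N14918 F40637) (tt N32903 D53002))
theorem Q16527 : ∀ i, i < 16527 → P i := stepQ 16526 Q16526 (allL N16526 (tt N17524 (iv1 F43576)) (tt N17523 F43581) (tt N17526 (iv2 F43579)) (tt N32894 (iv3 F83716)) (tt N16375 F40638) (tt N32903 (iv5 F83723)) (tt N23180 (iv6 F55138)) (tt N8089 (iv7 D25724)))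
theorem Q16528 : ∀ i, i < 16528 → P i := stepQ 16527 Q16527 (allL N16527 (tt N14751 (iv1 F40640)) (tt N8090 (iv0 D25725)) (tt N14753 (iv2 F40642)) (tt N8605 F40639) (tt N24936 (iv4 F59961)) (tt N8603 F40641) (tt N32904 D53003) (tt N14752 (iv7 F40647)))
theorem Q16529 : ∀ i, i < 16529 → P i := stepQ 16528 Q16528 (allL N16528 (tt N8090 (iv1 D25726)) (tt N14751 F40648) (tt N14752 F40645) (tt N26550 (iv3 F65480)) (tt N32905 D53004) (tt N11408 F40644) (tt N27216 (iv6 F69360)) (tt N14753 F40643))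
theorem Q16530 : ∀ i, i < 16530 → P i := stepQ 16529 Q16529 (allL N16529 (tt N14753 (iv1 F40653)) (tt N14752 F40652) (tt N8090 (iv2 D25727)) (tt N16468 F40649) (tt N32862 (iv4 F83674)) (tt N11362 F40650) (tt N32906 D53005) (tt N14751 F40651))
theorem Q16531 : ∀ i, i < 16531 → P i := stepQ 16530 Q16530 (allL N16530 (tt N32907 D53006) (tt N32908 D53007) (tt N32906 (iv2 F83730)) (tt N8091 F40654) (tt N21198 F315370) (tt N32909 D53008) (tt N8090 (iv6 D25728)) (tt N32910 D53009))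
theorem Q16532 : ∀ i, i < 16532 → P i := stepQ 16531 Q16531 (allL N16531 (tt N16543 (iv1 F40664)) (tt N8091 (iv0 D25729)) (tt N16544 (iv2 F177817)) (tt N32911 D53011) (tt N14891 (iv4 F177819)) (tt N32912 D53013) (tt N32913 D53014) (tt N16545 (iv7 F177822)))
theorem Q16533 : ∀ i, i < 16533 → P i := stepQ 16532 Q16532 (allL N16532 (tt N8091 (iv1 D25730)) (tt N16543 F40663) (tt N16545 F177823) (tt N32914 D53016) (tt N14892 (iv4 F177826)) (tt N32915 D53018) (tt N32916 D53019) (tt N16544 F177824))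
theorem Q16534 : ∀ i, i < 16534 → P i := stepQ 16533 Q16533 (allL N16533 (tt N32917 D53020) (tt N32918 D53021) (tt N16546 (iv2 F40667)) (tt N32909 (iv3 F83732)) (tt N32919 D53022) (tt N8091 (iv5 D25731)) (tt N11366 F40655) (tt N32920 D53023))
theorem Q16535 : ∀ i, i < 16535 → P i := stepQ 16534 Q16534 (allL N16534 (tt N16545 (iv1 F40666)) (tt N16544 F40665) (tt N16543 (iv2 F40660)) (tt N32910 (iv3 F83734)) (tt N8094 F40656) (tt N32920 (iv5 F83739)) (tt N14758 F40657) (tt N8091 (iv7 D25732)))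
theorem Q16536 : ∀ i, i < 16536 → P i := stepQ 16535 Q16535 (allL N16535 (tt N32921 D53030) (tt N21956 F259135) (tt N32922 D53032) (tt N8092 (iv3 D25734)) (tt N32923 D53033) (tt N32924 D53034) (tt N32925 D53035) (tt N29602 (iv7 F161782)))
theorem Q16537 : ∀ i, i < 16537 → P i := stepQ 16536 Q16536 (allL N16536 (tt N23163 (iv1 F177625)) (tt N14934 (iv0 F177626)) (tt N23160 F177786) (tt N32926 D53039) (tt N8092 (iv4 D25735)) (tt N32927 D53040) (tt N32928 D53041) (tt N23161 (iv7 F177793)))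
theorem Q16538 : ∀ i, i < 16538 → P i := stepQ 16537 Q16537 (allL N16537 (tt N32929 D53043) (tt N32930 D53044) (tt N29600 (iv2 F161777)) (tt N32924 (iv3 F83748)) (tt N32931 D53045) (tt N8092 (iv5 D25736)) (tt N32932 D53046) (tt N29603 (iv7 F161786)))
theorem Q16539 : ∀ i, i < 16539 → P i := stepQ 16538 Q16538 (allL N16538 (tt N32899 (iv1 F161886)) (tt N32933 D53049) (tt N29601 (iv2 F161772)) (tt N32925 (iv3 F83749)) (tt N32928 (iv4 F83752)) (tt N30423 F78524) (tt N8092 (iv6 D25737)) (tt N32934 D53050))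
theorem Q16540 : ∀ i, i < 16540 → P i := stepQ 16539 Q16539 (allL N16539 (tt N32739 F206246) (tt N32935 D53053) (tt N32936 D53054) (tt N8093 (iv3 D25739)) (tt N32937 D53055) (tt N32938 D53056) (tt N32939 D53057) (tt N29599 (iv7 F161774)))
theorem Q16541 : ∀ i, i < 16541 → P i := stepQ 16540 Q16540 (allL N16540 (tt N14934 F177627) (tt N23163 F177628) (tt N23161 (iv2 F177792)) (tt N32940 D53058) (tt N8093 (iv4 D25740)) (tt N32941 D53059) (tt N32942 D53060) (tt N23160 F177791))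
theorem Q16542 : ∀ i, i < 16542 → P i := stepQ 16541 Q16541 (allL N16541 (tt N32930 (iv1 F83757)) (tt N32929 F83760) (tt N29603 (iv2 F161785)) (tt N32938 (iv3 F83762)) (tt N32943 D53061) (tt N8093 (iv5 D25741)) (tt N32944 D53062) (tt N29600 (iv7 F161778)))
theorem Q16543 : ∀ i, i < 16543 → P i := stepQ 16542 Q16542 (allL N16542 (tt N32945 D53063) (tt N23239 F161767) (tt N29604 (iv2 F161787)) (tt N32939 (iv3 F83763)) (tt N32942 (iv4 F83764)) (tt N32946 D53065) (tt N8093 (iv6 D25742)) (tt N32947 D53066))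
theorem Q16544 : ∀ i, i < 16544 → P i := stepQ 16543 Q16543 (allL N16543 (tt N16532 (iv1 F40663)) (tt N16531 F40664) (tt N16534 F40660) (tt N32875 (iv3 F83693)) (tt N14758 F40661) (tt N32948 D53067) (tt N8094 (iv6 D25743)) (tt N8095 F40662))
theorem Q16545 : ∀ i, i < 16545 → P i := stepQ 16544 Q16544 (allL N16544 (tt N16534 (iv1 F40665)) (tt N8095 (iv0 D25744)) (tt N16531 F177817) (tt N32949 D53069) (tt N14935 (iv4 F177643)) (tt N32950 D53071) (tt N32951 D53072) (tt N16532 (iv7 F177824)))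
theorem Q16546 : ∀ i, i < 16546 → P i := stepQ 16545 Q16545 (allL N16545 (tt N8095 (iv1 D25745)) (tt N16534 F40666) (tt N16532 (iv2 F177823)) (tt N32952 D53074) (tt N14936 (iv4 F177650)) (tt N32953 D53076) (tt N32954 D53077) (tt N16531 F177822))
theorem Q16547 : ∀ i, i < 16547 → P i := stepQ 16546 Q16546 (allL N16546 (tt N32955 D53078) (tt N32956 D53079) (tt N16533 F40667) (tt N32878 (iv3 F83695)) (tt N32957 D53080) (tt N8095 (iv5 D25746)) (tt N8098 F40668) (tt N32948 (iv7 F83768)))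
theorem Q16548 : ∀ i, i < 16548 → P i := stepQ 16547 Q16547 (allL N16547 (tt N32958 D53081) (tt N32959 D53082) (tt N23132 (iv2 F55021)) (tt N22530 (iv3 F53309)) (tt N32960 D53083) (tt N8096 (iv5 D25747)) (tt N32961 D53084) (tt N23133 (iv7 F55024)))
theorem Q16549 : ∀ i, i < 16549 → P i := stepQ 16548 Q16548 (allL N16548 (tt N29569 F76726) (tt N32496 F83432) (tt N29583 (iv2 F76759)) (tt N8097 (iv3 D25748)) (tt N16558 (iv4 F40684)) (tt N32962 D53085) (tt N29581 F76756) (tt N23131 (iv7 F55020)))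
theorem Q16550 : ∀ i, i < 16550 → P i := stepQ 16549 Q16549 (allL N16549 (tt N32959 (iv1 F83780)) (tt N32958 F83778) (tt N23133 (iv2 F55023)) (tt N32962 (iv3 F83785)) (tt N32963 D53086) (tt N8097 (iv5 D25749)) (tt N32964 D53087) (tt N23132 (iv7 F55022)))
theorem Q16551 : ∀ i, i < 16551 → P i := stepQ 16550 Q16550 (allL N16550 (tt N10598 (iv1 F40671)) (tt N17118 (iv0 F42279)) (tt N18157 (iv2 F45390)) (tt N29581 (iv3 F76752)) (tt N10608 F40669) (tt N21750 (iv5 F51819)) (tt N8097 (iv6 D25750)) (tt N14960 F40670))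
theorem Q16552 : ∀ i, i < 16552 → P i := stepQ 16551 Q16551 (allL N16551 (tt N23137 (iv1 F55037)) (tt N8098 (iv0 D25751)) (tt N23134 F55026) (tt N32965 D53088) (tt N32966 D53089) (tt N18630 (iv5 F46282)) (tt N32967 D53090) (tt N23135 (iv7 F55030)))
theorem Q16553 : ∀ i, i < 16553 → P i := stepQ 16552 Q16552 (allL N16552 (tt N8098 (iv1 D25752)) (tt N23137 F55036) (tt N23135 F55032) (tt N26942 (iv3 F83013)) (tt N32968 D53091) (tt N23193 (iv5 F55161)) (tt N32969 D53092) (tt N23134 F55028))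
theorem Q16554 : ∀ i, i < 16554 → P i := stepQ 16553 Q16553 (allL N16553 (tt N32970 D53093) (tt N32971 D53094) (tt N23136 (iv2 F55033)) (tt N32972 D53095) (tt N8098 (iv4 D25753)) (tt N32973 D53096) (tt N32957 (iv6 F83776)) (tt N32573 (iv7 F83112)))
theorem Q16555 : ∀ i, i < 16555 → P i := stepQ 16554 Q16554 (allL N16554 (tt N32460 (iv1 F82877)) (tt N10813 (iv0 F40675)) (tt N32652 F83291) (tt N8099 (iv3 D25754)) (tt N8432 F40672) (tt N32974 D53097) (tt N15179 F40673) (tt N8427 F40674))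
theorem Q16556 : ∀ i, i < 16556 → P i := stepQ 16555 Q16555 (allL N16555 (tt N23262 (iv1 F55320)) (tt N32705 F83361) (tt N23139 (iv2 F55041)) (tt N32974 (iv3 F83799)) (tt N32975 D53098) (tt N8099 (iv5 D25755)) (tt N32976 D53099) (tt N18632 (iv7 F46288)))
theorem Q16557 : ∀ i, i < 16557 → P i := stepQ 16556 Q16556 (allL N16556 (tt N8102 (iv1 F40680)) (tt N8100 (iv0 D25756)) (tt N11045 (iv2 F40679)) (tt N8552 F40676) (tt N32977 D53100) (tt N8551 F40677) (tt N9109 F40678) (tt N8551 F40681))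
theorem Q16558 : ∀ i, i < 16558 → P i := stepQ 16557 Q16557 (allL N16557 (tt N23263 (iv1 F55324)) (tt N16377 F40683) (tt N19399 (iv2 F47540)) (tt N32978 D53101) (tt N8100 (iv4 D25757)) (tt N23164 (iv5 F55109)) (tt N9288 F40682) (tt N18633 (iv7 F46291)))
theorem Q16559 : ∀ i, i < 16559 → P i := stepQ 16558 Q16558 (allL N16558 (tt N29561 F76705) (tt N32479 F82922) (tt N32667 (iv2 F83313)) (tt N8101 (iv3 D25758)) (tt N16548 F40684) (tt N32979 D53102) (tt N14887 F40685) (tt N23138 (iv7 F55040)))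
theorem Q16560 : ∀ i, i < 16560 → P i := stepQ 16559 Q16559 (allL N16559 (tt N32705 (iv1 F83362)) (tt N23262 (iv0 F55319)) (tt N18632 (iv2 F46286)) (tt N32979 (iv3 F83811)) (tt N32980 D53103) (tt N8101 (iv5 D25759)) (tt N32981 D53104) (tt N23139 (iv7 F55042)))
theorem Q16561 : ∀ i, i < 16561 → P i := stepQ 16560 Q16560 (allL N16560 (tt N16377 F40687) (tt N23263 F55323) (tt N18633 (iv2 F46289)) (tt N26941 (iv3 F83002)) (tt N8102 (iv4 D25760)) (tt N23165 F55110) (tt N11447 F40686) (tt N19399 (iv7 F47542)))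
theorem Q16562 : ∀ i, i < 16562 → P i := stepQ 16561 Q16561 (allL N16561 (tt N19382 (iv1 F47492)) (tt N19409 F47568) (tt N9748 F40688) (tt N9570 F40689) (tt N32982 D53105) (tt N8104 (iv5 D25761)) (tt N30940 (iv6 F79706)) (tt N9583 F40690))
theorem Q16563 : ∀ i, i < 16563 → P i := stepQ 16562 Q16562 (allL N16562 (tt N19409 F47567) (tt N19382 (iv0 F47494)) (tt N9583 F40691) (tt N15037 F40692) (tt N32983 D53106) (tt N8105 (iv5 D25762)) (tt N32984 D53107) (tt N9748 F40693))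
theorem Q16564 : ∀ i, i < 16564 → P i := stepQ 16563 Q16563 (allL N16563 (tt N9752 (iv1 F40700)) (tt N8106 (iv0 D25763)) (tt N9750 F40704) (tt N9572 (iv3 F40703)) (tt N29605 (iv4 F76786)) (tt N30731 (iv5 F79302)) (tt N32985 D53108) (tt N9594 F40702))
theorem Q16565 : ∀ i, i < 16565 → P i := stepQ 16564 Q16564 (allL N16564 (tt N9443 F40696) (tt N18828 (iv0 F46555)) (tt N9751 F40694) (tt N32986 D53109) (tt N8106 (iv4 D25764)) (tt N32987 D53110) (tt N9684 F40695) (tt N18830 (iv7 F46559)))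
theorem Q16566 : ∀ i, i < 16566 → P i := stepQ 16565 Q16565 (allL N16565 (tt N9594 (iv1 F40701)) (tt N9750 F40708) (tt N9752 F40697) (tt N8112 F40698) (tt N18830 F46560) (tt N8107 F40699) (tt N32988 D53111) (tt N8106 (iv7 D25765)))
theorem Q16567 : ∀ i, i < 16567 → P i := stepQ 16566 Q16566 (allL N16566 (tt N19414 (iv1 F47579)) (tt N19413 F47576) (tt N9297 F40710) (tt N32989 D53112) (tt N8108 (iv4 D25766)) (tt N32990 D53113) (tt N32991 D53114) (tt N16576 (iv7 F40722)))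
theorem Q16568 : ∀ i, i < 16568 → P i := stepQ 16567 Q16567 (allL N16567 (tt N31826 F81417) (tt N31823 (iv0 F81414)) (tt N9298 F40711) (tt N9692 F40712) (tt N32991 (iv4 F83840)) (tt N15995 F40713) (tt N8108 (iv6 D25767)) (tt N32992 D53115))
theorem Q16569 : ∀ i, i < 16569 → P i := stepQ 16568 Q16568 (allL N16568 (tt N19746 (iv1 F48226)) (tt N19745 F48222) (tt N9603 F40714) (tt N32993 D53116) (tt N8110 (iv4 D25768)) (tt N32994 D53117) (tt N32995 D53118) (tt N16578 (iv7 F40727)))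
theorem Q16570 : ∀ i, i < 16570 → P i := stepQ 16569 Q16569 (allL N16569 (tt N32996 D53119) (tt N32997 D53120) (tt N9604 F40715) (tt N9695 F40716) (tt N32995 (iv4 F83850)) (tt N22622 F53467) (tt N8110 (iv6 D25769)) (tt N32998 D53121))
theorem Q16571 : ∀ i, i < 16571 → P i := stepQ 16570 Q16570 (allL N16570 (tt N16584 (iv1 F40741)) (tt N8111 (iv0 D25770)) (tt N16580 F45561) (tt N32999 D53122) (tt N18224 (iv4 F45557)) (tt N33000 D53123) (tt N33001 D53124) (tt N16581 (iv7 F45560)))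
theorem Q16572 : ∀ i, i < 16572 → P i := stepQ 16571 Q16571 (allL N16571 (tt N8111 (iv1 D25771)) (tt N16584 F40740) (tt N16581 (iv2 F45562)) (tt N33002 D53125) (tt N18225 (iv4 F45567)) (tt N33003 D53126) (tt N33004 D53127) (tt N16580 F45563))
theorem Q16573 : ∀ i, i < 16573 → P i := stepQ 16572 Q16572 (allL N16572 (tt N33005 D53128) (tt N33006 D53129) (tt N33007 D53130) (tt N8111 (iv3 D25772)) (tt N32986 (iv4 F83827)) (tt N33008 D53131) (tt N9698 F40717) (tt N33009 D53132))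
theorem Q16574 : ∀ i, i < 16574 → P i := stepQ 16573 Q16573 (allL N16573 (tt N33010 D53133) (tt N23883 F328839) (tt N16583 (iv2 F40736)) (tt N33008 (iv3 F83859)) (tt N30491 (iv4 F78629)) (tt N8111 (iv5 D25773)) (tt N33011 D53135) (tt N30489 F78627))
theorem Q16575 : ∀ i, i < 16575 → P i := stepQ 16574 Q16574 (allL N16574 (tt N16581 (iv1 F40731)) (tt N16580 F40739) (tt N16584 (iv2 F40737)) (tt N33009 (iv3 F83860)) (tt N8112 F40718) (tt N30489 (iv5 F78626)) (tt N33012 D53136) (tt N8111 (iv7 D25774)))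
theorem Q16576 : ∀ i, i < 16576 → P i := stepQ 16575 Q16575 (allL N16575 (tt N19854 (iv1 F48441)) (tt N19774 F101991) (tt N16585 (iv2 F40742)) (tt N32988 (iv3 F83834)) (tt N33012 (iv4 F83862)) (tt N16575 F40719) (tt N8112 (iv6 D25775)) (tt N9701 F40720))
theorem Q16577 : ∀ i, i < 16577 → P i := stepQ 16576 Q16576 (allL N16576 (tt N18933 (iv1 F46671)) (tt N18932 F46670) (tt N9512 F40721) (tt N33013 D53137) (tt N8113 (iv4 D25776)) (tt N23842 F326295) (tt N23843 (iv6 F326699)) (tt N16566 F40722))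
theorem Q16578 : ∀ i, i < 16578 → P i := stepQ 16577 Q16577 (allL N16577 (tt N33014 D53140) (tt N9842 (iv0 F40725)) (tt N9513 F40723) (tt N9707 F40724) (tt N23843 (iv4 F326698)) (tt N19931 (iv5 F48607)) (tt N8113 (iv6 D25777)) (tt N33015 D53141))
theorem Q16579 : ∀ i, i < 16579 → P i := stepQ 16578 Q16578 (allL N16578 (tt N18226 (iv1 F45569)) (tt N19609 F48011) (tt N9665 F40726) (tt N33016 D53142) (tt N8115 (iv4 D25778)) (tt N33017 D53143) (tt N33018 D53144) (tt N16568 F40727))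
theorem Q16580 : ∀ i, i < 16580 → P i := stepQ 16579 Q16579 (allL N16579 (tt N33019 D53145) (tt N33020 D53146) (tt N9666 F40728) (tt N9712 F40729) (tt N33018 (iv4 F83893)) (tt N15501 F40730) (tt N8115 (iv6 D25779)) (tt N33021 D53147))
theorem Q16581 : ∀ i, i < 16581 → P i := stepQ 16580 Q16580 (allL N16580 (tt N16574 (iv1 F40739)) (tt N8116 (iv0 D25780)) (tt N16570 (iv2 F45561)) (tt N33022 D53148) (tt N30695 (iv4 F79247)) (tt N33023 D53149) (tt N33024 D53150) (tt N16571 (iv7 F45563)))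
theorem Q16582 : ∀ i, i < 16582 → P i := stepQ 16581 Q16581 (allL N16581 (tt N8116 (iv1 D25781)) (tt N16574 F40731) (tt N16571 F45562) (tt N33025 D53151) (tt N9207 (iv4 F40732)) (tt N33026 D53152) (tt N33027 D53153) (tt N16570 F45560))
theorem Q16583 : ∀ i, i < 16583 → P i := stepQ 16582 Q16582 (allL N16582 (tt N33028 D53154) (tt N33029 D53155) (tt N33030 D53156) (tt N8116 (iv3 D25782)) (tt N15033 F40734) (tt N33031 D53157) (tt N9715 F40735) (tt N33032 D53158))
theorem Q16584 : ∀ i, i < 16584 → P i := stepQ 16583 Q16583 (allL N16583 (tt N33033 D53159) (tt N33034 D53160) (tt N16573 F40736) (tt N33031 (iv3 F83930)) (tt N33035 D53161) (tt N8116 (iv5 D25783)) (tt N33036 D53162) (tt N33037 D53163))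
theorem Q16585 : ∀ i, i < 16585 → P i := stepQ 16584 Q16584 (allL N16584 (tt N16571 (iv1 F40740)) (tt N16570 F40741) (tt N16574 F40737) (tt N33032 (iv3 F83931)) (tt N8117 F40738) (tt N33037 (iv5 F83948)) (tt N32535 F328638) (tt N8116 (iv7 D25784)))
theorem Q16586 : ∀ i, i < 16586 → P i := stepQ 16585 Q16585 (allL N16585 (tt N19645 F102005) (tt N19820 F48365) (tt N16575 F40742) (tt N15036 F40743) (tt N32535 F328633) (tt N16585 F40744) (tt N8117 (iv6 D25785)) (tt N9718 F40745))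
theorem Q16587 : ∀ i, i < 16587 → P i := stepQ 16586 Q16586 (allL N16586 (tt N20801 (iv1 F49635)) (tt N30209 F78184) (tt N8132 F40746) (tt N33038 D53165) (tt N8118 (iv4 D25786)) (tt N31282 (iv5 F80338)) (tt N33039 D53166) (tt N8127 F40747))
theorem Q16588 : ∀ i, i < 16588 → P i := stepQ 16587 Q16587 (allL N16587 (tt N33040 D53167) (tt N10021 (iv0 F40750)) (tt N8133 F40748) (tt N30240 (iv3 F78232)) (tt N33039 (iv4 F83956)) (tt N15512 F40749) (tt N8118 (iv6 D25787)) (tt N33041 D53168))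
theorem Q16589 : ∀ i, i < 16589 → P i := stepQ 16588 Q16588 (allL N16588 (tt N18641 (iv1 F46319)) (tt N30266 F78271) (tt N8138 F40751) (tt N33042 D53169) (tt N8120 (iv4 D25788)) (tt N33043 D53170) (tt N33044 D53171) (tt N8136 F40752))
theorem Q16590 : ∀ i, i < 16590 → P i := stepQ 16589 Q16589 (allL N16589 (tt N33045 D53172) (tt N10082 F161275) (tt N8139 F40753) (tt N30289 (iv3 F78300)) (tt N33044 (iv4 F83976)) (tt N9758 F40754) (tt N8120 (iv6 D25789)) (tt N33046 D53174))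
theorem Q16591 : ∀ i, i < 16591 → P i := stepQ 16590 Q16590 (allL N16590 (tt N8144 (iv1 F40763)) (tt N8121 (iv0 D25790)) (tt N8140 F40829) (tt N33047 D53175) (tt N9022 F40765) (tt N33048 D53176) (tt N33049 D53177) (tt N8141 F40830))
theorem Q16592 : ∀ i, i < 16592 → P i := stepQ 16591 Q16591 (allL N16591 (tt N8121 (iv1 D25791)) (tt N8144 F40755) (tt N8141 F40828) (tt N33050 D53178) (tt N15759 F40756) (tt N33051 D53179) (tt N33052 D53180) (tt N8140 (iv7 F40827)))
theorem Q16593 : ∀ i, i < 16593 → P i := stepQ 16592 Q16592 (allL N16592 (tt N33053 D53181) (tt N33054 D53182) (tt N33055 D53183) (tt N8121 (iv3 D25792)) (tt N9741 F40759) (tt N33056 D53184) (tt N22598 (iv6 F53411)) (tt N33057 D53185))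
theorem Q16594 : ∀ i, i < 16594 → P i := stepQ 16593 Q16593 (allL N16593 (tt N33058 D53186) (tt N33059 D53187) (tt N8143 F40760) (tt N33056 (iv3 F84000)) (tt N31280 F80331) (tt N8121 (iv5 D25793)) (tt N33060 D53188) (tt N32250 (iv7 F82606)))
theorem Q16595 : ∀ i, i < 16595 → P i := stepQ 16594 Q16594 (allL N16594 (tt N8141 (iv1 F40764)) (tt N8140 F40766) (tt N8144 F40761) (tt N33057 (iv3 F84001)) (tt N8122 F40762) (tt N32250 (iv5 F82605)) (tt N33061 D53189) (tt N8121 (iv7 D25794)))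
theorem Q16596 : ∀ i, i < 16596 → P i := stepQ 16595 Q16595 (allL N16595 (tt N22657 (iv1 F53515)) (tt N22656 F53514) (tt N8145 F40767) (tt N9744 F40768) (tt N33061 (iv4 F84013)) (tt N16595 F40769) (tt N8122 (iv6 D25795)) (tt N22601 (iv7 F53420)))
theorem Q16597 : ∀ i, i < 16597 → P i := stepQ 16596 Q16596 (allL N16596 (tt N16102 F40771) (tt N20860 (iv0 F49718)) (tt N15506 F40770) (tt N33062 D53190) (tt N8123 (iv4 D25796)) (tt N31868 (iv5 F81577)) (tt N33063 D53191) (tt N20862 (iv7 F49723)))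
theorem Q16598 : ∀ i, i < 16598 → P i := stepQ 16597 Q16597 (allL N16597 (tt N33064 D53192) (tt N33065 D53193) (tt N15507 F40772) (tt N8128 F40773) (tt N33063 (iv4 F84016)) (tt N30733 (iv5 F79314)) (tt N8123 (iv6 D25797)) (tt N33066 D53194))
theorem Q16599 : ∀ i, i < 16599 → P i := stepQ 16598 Q16598 (allL N16598 (tt N8124 (iv1 D25798)) (tt N15510 F40774) (tt N9946 (iv2 F40777)) (tt N19994 (iv3 F48680)) (tt N29627 (iv4 F76847)) (tt N19378 (iv5 F47478)) (tt N15108 (iv6 F40776)) (tt N15508 F40775))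
theorem Q16600 : ∀ i, i < 16600 → P i := stepQ 16599 Q16599 (allL N16599 (tt N9946 (iv1 F40782)) (tt N15508 F40783) (tt N15510 F40778) (tt N8131 F40779) (tt N15503 F40780) (tt N9761 F40781) (tt N18156 (iv6 F45386)) (tt N8124 (iv7 D25799)))
theorem Q16601 : ∀ i, i < 16601 → P i := stepQ 16600 Q16600 (allL N16600 (tt N30871 (iv1 F79618)) (tt N32229 (iv0 F82576)) (tt N9950 F40784) (tt N33067 D53195) (tt N8125 (iv4 D25800)) (tt N33068 D53196) (tt N33069 D53197) (tt N30208 (iv7 F78180)))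
theorem Q16602 : ∀ i, i < 16602 → P i := stepQ 16601 Q16601 (allL N16601 (tt N33070 D53198) (tt N33071 D53199) (tt N9951 F40785) (tt N9791 F40786) (tt N33069 (iv4 F84031)) (tt N15949 F40787) (tt N8125 (iv6 D25801)) (tt N33072 D53200))
theorem Q16603 : ∀ i, i < 16603 → P i := stepQ 16602 Q16602 (allL N16602 (tt N32229 (iv1 F82577)) (tt N30871 (iv0 F79617)) (tt N30208 (iv2 F78179)) (tt N33073 D53201) (tt N8126 (iv4 D25802)) (tt N33074 D53202) (tt N33075 D53203) (tt N9950 F40788))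
theorem Q16604 : ∀ i, i < 16604 → P i := stepQ 16603 Q16603 (allL N16603 (tt N22593 F53394) (tt N22623 F53471) (tt N22622 (iv2 F53468)) (tt N8154 F40789) (tt N33075 (iv4 F84047)) (tt N9604 F40790) (tt N8126 (iv6 D25803)) (tt N22621 F53465))
theorem Q16605 : ∀ i, i < 16605 → P i := stepQ 16604 Q16604 (allL N16604 (tt N8132 (iv1 F40791)) (tt N8127 (iv0 D25804)) (tt N30209 F78183) (tt N33076 D53204) (tt N16822 (iv4 F41232)) (tt N33077 D53205) (tt N33078 D53206) (tt N20801 (iv7 F49633)))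
theorem Q16606 : ∀ i, i < 16606 → P i := stepQ 16605 Q16605 (allL N16605 (tt N8127 (iv1 D25805)) (tt N8132 F40792) (tt N20801 (iv2 F49632)) (tt N33079 D53207) (tt N18271 F45678) (tt N33080 D53208) (tt N33081 D53209) (tt N30209 (iv7 F78185)))
theorem Q16607 : ∀ i, i < 16607 → P i := stepQ 16606 Q16606 (allL N16606 (tt N33082 D53210) (tt N33083 D53211) (tt N33084 D53212) (tt N8127 (iv3 D25806)) (tt N33062 (iv4 F84014)) (tt N33085 D53213) (tt N33086 D53214) (tt N33038 (iv7 F83954)))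
theorem Q16608 : ∀ i, i < 16608 → P i := stepQ 16607 Q16607 (allL N16607 (tt N33087 D53215) (tt N33088 D53216) (tt N30211 (iv2 F78188)) (tt N33085 (iv3 F84055)) (tt N16094 F40793) (tt N8127 (iv5 D25807)) (tt N33089 D53217) (tt N31282 (iv7 F80337)))
theorem Q16609 : ∀ i, i < 16609 → P i := stepQ 16608 Q16608 (allL N16608 (tt N33090 D53218) (tt N33091 D53219) (tt N30212 (iv2 F78190)) (tt N33086 (iv3 F84056)) (tt N8128 F40794) (tt N33092 D53220) (tt N8127 (iv6 D25808)) (tt N33093 D53221))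
theorem Q16610 : ∀ i, i < 16610 → P i := stepQ 16609 Q16609 (allL N16609 (tt N30213 (iv1 F78198)) (tt N8128 (iv0 D25809)) (tt N9972 (iv2 F111204)) (tt N9799 F111207) (tt N33094 D53224) (tt N19873 F48493) (tt N22610 (iv6 F53433)) (tt N20038 (iv7 F99839)))
theorem Q16611 : ∀ i, i < 16611 → P i := stepQ 16610 Q16610 (allL N16610 (tt N8128 (iv1 D25810)) (tt N30213 F78197) (tt N20038 (iv2 F99838)) (tt N8158 (iv3 F111208)) (tt N33095 D53227) (tt N16677 F111198) (tt N33096 D53228) (tt N9972 (iv7 F111206)))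
theorem Q16612 : ∀ i, i < 16612 → P i := stepQ 16611 Q16611 (allL N16611 (tt N33097 D53229) (tt N22721 (iv0 F101965)) (tt N9765 F40795) (tt N30733 (iv3 F79312)) (tt N33098 D53231) (tt N8128 (iv5 D25811)) (tt N8130 F40796) (tt N33099 D53232))
theorem Q16613 : ∀ i, i < 16613 → P i := stepQ 16612 Q16612 (allL N16612 (tt N20038 (iv1 F48754)) (tt N9972 F111215) (tt N30213 (iv2 F78192)) (tt N33066 (iv3 F84021)) (tt N33093 (iv4 F84064)) (tt N33099 (iv5 F84073)) (tt N33041 (iv6 F83967)) (tt N8128 (iv7 D25812)))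
theorem Q16614 : ∀ i, i < 16614 → P i := stepQ 16613 Q16613 (allL N16613 (tt N18016 (iv1 F45111)) (tt N33100 D53233) (tt N9764 F40797) (tt N33101 D53234) (tt N8130 (iv4 D25813)) (tt N33102 D53235) (tt N33098 (iv6 F84071)) (tt N9762 F40798))
theorem Q16615 : ∀ i, i < 16615 → P i := stepQ 16614 Q16614 (allL N16614 (tt N33103 D53236) (tt N33104 D53237) (tt N33105 D53238) (tt N8132 (iv3 D25814)) (tt N16069 F40799) (tt N33106 D53239) (tt N33107 D53240) (tt N30210 (iv7 F78187)))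
theorem Q16616 : ∀ i, i < 16616 → P i := stepQ 16615 Q16615 (allL N16615 (tt N33088 (iv1 F84060)) (tt N33087 F84059) (tt N31282 (iv2 F80336)) (tt N33106 (iv3 F84087)) (tt N31252 (iv4 F80280)) (tt N8132 (iv5 D25815)) (tt N33108 D53241) (tt N30211 (iv7 F78189)))
theorem Q16617 : ∀ i, i < 16617 → P i := stepQ 16616 Q16616 (allL N16616 (tt N33109 D53242) (tt N33110 D53243) (tt N33039 (iv2 F83955)) (tt N33107 (iv3 F84088)) (tt N8133 F40800) (tt N33111 D53244) (tt N8132 (iv6 D25816)) (tt N33112 D53245))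
theorem Q16618 : ∀ i, i < 16618 → P i := stepQ 16617 Q16617 (allL N16617 (tt N33041 (iv1 F83969)) (tt N8133 (iv0 D25817)) (tt N33040 F83958) (tt N8168 F83901) (tt N33113 D53246) (tt N15980 F83902) (tt N33114 D53247) (tt N10021 F83903))
theorem Q16619 : ∀ i, i < 16619 → P i := stepQ 16618 Q16618 (allL N16618 (tt N8133 (iv1 D25818)) (tt N33041 F83968) (tt N10021 F40802) (tt N9824 F40803) (tt N33115 D53248) (tt N15972 (iv5 F40801)) (tt N19833 F48401) (tt N33040 (iv7 F83960)))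
theorem Q16620 : ∀ i, i < 16620 → P i := stepQ 16619 Q16619 (allL N16619 (tt N10021 (iv1 F40805)) (tt N33040 F83961) (tt N33041 (iv2 F83965)) (tt N16074 F40804) (tt N33112 (iv4 F84090)) (tt N31856 (iv5 F81545)) (tt N30213 (iv6 F78195)) (tt N8133 (iv7 D25819)))
theorem Q16621 : ∀ i, i < 16621 → P i := stepQ 16620 Q16620 (allL N16620 (tt N14790 F40808) (tt N14766 F40809) (tt N14786 F40806) (tt N33116 D53249) (tt N8135 (iv4 D25820)) (tt N31931 (iv5 F81773)) (tt N33117 D53250) (tt N14787 F40807))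
theorem Q16622 : ∀ i, i < 16622 → P i := stepQ 16621 Q16621 (allL N16621 (tt N33118 D53251) (tt N33119 D53252) (tt N29937 (iv2 F77646)) (tt N8137 F40810) (tt N33117 (iv4 F84099)) (tt N33120 D53253) (tt N8135 (iv6 D25821)) (tt N33121 D53254))
theorem Q16623 : ∀ i, i < 16623 → P i := stepQ 16622 Q16622 (allL N16622 (tt N8138 (iv1 F40812)) (tt N8136 (iv0 D25822)) (tt N30266 F78270) (tt N33122 D53255) (tt N16079 F40811) (tt N33087 (iv5 F84057)) (tt N33123 D53256) (tt N18641 (iv7 F46317)))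
theorem Q16624 : ∀ i, i < 16624 → P i := stepQ 16623 Q16623 (allL N16623 (tt N8136 (iv1 D25823)) (tt N8138 F40813) (tt N18641 (iv2 F46315)) (tt N33124 D53257) (tt N15189 (iv4 F40814)) (tt N33088 (iv5 F84061)) (tt N22627 F53485) (tt N30266 (iv7 F78272)))
theorem Q16625 : ∀ i, i < 16625 → P i := stepQ 16624 Q16624 (allL N16624 (tt N33125 D53258) (tt N33126 D53259) (tt N33127 D53260) (tt N8136 (iv3 D25824)) (tt N33116 (iv4 F84096)) (tt N33128 D53261) (tt N33129 D53262) (tt N33042 (iv7 F83971)))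
theorem Q16626 : ∀ i, i < 16626 → P i := stepQ 16625 Q16625 (allL N16625 (tt N33130 D53263) (tt N33131 D53264) (tt N30268 (iv2 F78275)) (tt N33128 (iv3 F84106)) (tt N18126 (iv4 F45319)) (tt N8136 (iv5 D25825)) (tt N33132 D53265) (tt N33043 (iv7 F83973)))
theorem Q16627 : ∀ i, i < 16627 → P i := stepQ 16626 Q16626 (allL N16626 (tt N33133 D53266) (tt N33134 D53267) (tt N30269 (iv2 F78277)) (tt N33129 (iv3 F84107)) (tt N8137 F40815) (tt N33135 D53268) (tt N8136 (iv6 D25826)) (tt N33136 D53269))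
theorem Q16628 : ∀ i, i < 16628 → P i := stepQ 16627 Q16627 (allL N16627 (tt N30271 (iv1 F78286)) (tt N8137 (iv0 D25827)) (tt N10054 F102000) (tt N9840 (iv3 F102015)) (tt N33137 D53272) (tt N33138 D53273) (tt N22637 F81363) (tt N30270 (iv7 F99948)))
theorem Q16629 : ∀ i, i < 16629 → P i := stepQ 16628 Q16628 (allL N16628 (tt N8137 (iv1 D25828)) (tt N30271 F78285) (tt N30270 (iv2 F99947)) (tt N8176 (iv3 F102018)) (tt N33139 D53276) (tt N33140 D53277) (tt N33141 D53278) (tt N10054 F102003))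
theorem Q16630 : ∀ i, i < 16630 → P i := stepQ 16629 Q16629 (allL N16629 (tt N9707 F40817) (tt N18987 F46727) (tt N18931 (iv2 F46666)) (tt N33120 (iv3 F84100)) (tt N33142 D53279) (tt N8137 (iv5 D25829)) (tt N9510 F40816) (tt N18985 (iv7 F48392)))
theorem Q16631 : ∀ i, i < 16631 → P i := stepQ 16630 Q16630 (allL N16630 (tt N30270 (iv1 F78279)) (tt N10054 F102001) (tt N30271 (iv2 F78280)) (tt N33121 (iv3 F84103)) (tt N33136 (iv4 F84118)) (tt N18985 F48393) (tt N33046 (iv6 F83982)) (tt N8137 (iv7 D25830)))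
theorem Q16632 : ∀ i, i < 16632 → P i := stepQ 16631 Q16631 (allL N16631 (tt N33143 D53280) (tt N33144 D53281) (tt N33145 D53282) (tt N8138 (iv3 D25831)) (tt N29944 (iv4 F77663)) (tt N33146 D53283) (tt N33147 D53284) (tt N30267 (iv7 F78274)))
theorem Q16633 : ∀ i, i < 16633 → P i := stepQ 16632 Q16632 (allL N16632 (tt N33131 (iv1 F84113)) (tt N33130 F84110) (tt N33043 (iv2 F83972)) (tt N33146 (iv3 F84124)) (tt N32243 (iv4 F82595)) (tt N8138 (iv5 D25832)) (tt N33148 D53285) (tt N30268 (iv7 F78276)))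
theorem Q16634 : ∀ i, i < 16634 → P i := stepQ 16633 Q16633 (allL N16633 (tt N33149 D53286) (tt N33150 D53287) (tt N33044 (iv2 F83975)) (tt N33147 (iv3 F84125)) (tt N8139 F40818) (tt N33151 D53288) (tt N8138 (iv6 D25833)) (tt N33152 D53289))
theorem Q16635 : ∀ i, i < 16635 → P i := stepQ 16634 Q16634 (allL N16634 (tt N33046 (iv1 F83985)) (tt N8139 (iv0 D25834)) (tt N33045 (iv2 F99897)) (tt N8185 (iv3 F161284)) (tt N33153 D53292) (tt N9851 F84129) (tt N33154 D53293) (tt N10082 F161274))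
theorem Q16636 : ∀ i, i < 16636 → P i := stepQ 16635 Q16635 (allL N16635 (tt N8139 (iv1 D25835)) (tt N33046 F83984) (tt N10082 F161272) (tt N9852 F161290) (tt N33155 D53296) (tt N9852 F83877) (tt N22629 F83878) (tt N33045 (iv7 F99898)))
theorem Q16637 : ∀ i, i < 16637 → P i := stepQ 16636 Q16636 (allL N16636 (tt N22671 (iv1 F111200)) (tt N33156 D53298) (tt N9758 F40819) (tt N16123 F40820) (tt N28330 F328998) (tt N8139 (iv5 D25836)) (tt N9415 F40821) (tt N28911 F328999))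
theorem Q16638 : ∀ i, i < 16638 → P i := stepQ 16637 Q16637 (allL N16637 (tt N10082 F161276) (tt N33045 F83983) (tt N33046 (iv2 F83980)) (tt N29948 (iv3 F77670)) (tt N33152 (iv4 F84126)) (tt N28911 F328995) (tt N30271 (iv6 F78283)) (tt N8139 (iv7 D25837)))
theorem Q16639 : ∀ i, i < 16639 → P i := stepQ 16638 Q16638 (allL N16638 (tt N33157 D53301) (tt N33158 D53302) (tt N33159 D53303) (tt N8140 (iv3 D25839)) (tt N33160 D53304) (tt N33049 F330511) (tt N33161 D53306) (tt N33050 (iv7 F83993)))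
theorem Q16640 : ∀ i, i < 16640 → P i := stepQ 16639 Q16639 (allL N16639 (tt N15635 (iv1 F40831)) (tt N9181 F40823) (tt N9022 (iv2 F40825)) (tt N15737 F40824) (tt N8140 (iv4 D25840)) (tt N18065 (iv5 F45239)) (tt N33162 D53307) (tt N15759 (iv7 F40826)))
theorem Q16641 : ∀ i, i < 16641 → P i := stepQ 16640 Q16640 (allL N16640 (tt N33163 D53308) (tt N20357 (iv0 F49188)) (tt N33048 (iv2 F83988)) (tt N33049 (iv3 F330509)) (tt N30936 (iv4 F79702)) (tt N8140 (iv5 D25841)) (tt N33047 (iv6 F330510)) (tt N33051 (iv7 F83995)))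
theorem Q16642 : ∀ i, i < 16642 → P i := stepQ 16641 Q16641 (allL N16641 (tt N33137 (iv1 F102033)) (tt N33139 (iv0 F97707)) (tt N33049 (iv2 F83990)) (tt N33161 (iv3 F84152)) (tt N33162 (iv4 F84155)) (tt N33159 (iv5 F330515)) (tt N8140 (iv6 D25842)) (tt N33164 D53313))
theorem Q16643 : ∀ i, i < 16643 → P i := stepQ 16642 Q16642 (allL N16642 (tt N33165 D53314) (tt N33166 D53315) (tt N33167 D53316) (tt N8141 (iv3 D25843)) (tt N33168 D53317) (tt N33169 D53318) (tt N33170 D53319) (tt N33047 (iv7 F83987)))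
theorem Q16644 : ∀ i, i < 16644 → P i := stepQ 16643 Q16643 (allL N16643 (tt N9181 F40837) (tt N15635 F40834) (tt N15759 F40832) (tt N9002 F40835) (tt N8141 (iv4 D25844)) (tt N15270 (iv5 F40836)) (tt N33171 D53320) (tt N9022 F40833))
theorem Q16645 : ∀ i, i < 16645 → P i := stepQ 16644 Q16644 (allL N16644 (tt N20357 (iv1 F49189)) (tt N33163 F84159) (tt N33051 (iv2 F83994)) (tt N33169 (iv3 F84163)) (tt N32238 (iv4 F82588)) (tt N8141 (iv5 D25845)) (tt N33172 D53321) (tt N33048 (iv7 F83989)))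
theorem Q16646 : ∀ i, i < 16646 → P i := stepQ 16645 Q16645 (allL N16645 (tt N33153 (iv1 F166079)) (tt N33155 (iv0 F166208)) (tt N33052 (iv2 F83996)) (tt N33170 (iv3 F84164)) (tt N33171 (iv4 F84167)) (tt N33173 D53324) (tt N8141 (iv6 D25846)) (tt N33174 D53325))
theorem Q16647 : ∀ i, i < 16647 → P i := stepQ 16646 Q16646 (allL N16646 (tt N33175 D53326) (tt N8142 (iv0 D25847)) (tt N33176 D53327) (tt N33177 D53328) (tt N33178 D53329) (tt N33179 D53330) (tt N33180 D53331) (tt N33181 D53332))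
theorem Q16648 : ∀ i, i < 16648 → P i := stepQ 16647 Q16647 (allL N16647 (tt N8142 (iv1 D25848)) (tt N33175 F84172) (tt N33181 (iv2 F84174)) (tt N33182 D53333) (tt N33183 D53334) (tt N33184 D53335) (tt N33185 D53336) (tt N33176 F84173))
theorem Q16649 : ∀ i, i < 16649 → P i := stepQ 16648 Q16648 (allL N16648 (tt N33176 (iv1 F173695)) (tt N33181 (iv0 F173699)) (tt N8142 (iv2 D25849)) (tt N33055 (iv3 F83998)) (tt N8196 F40838) (tt N33186 D53339) (tt N22647 (iv6 F53506)) (tt N33175 (iv7 F84171)))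
theorem Q16650 : ∀ i, i < 16650 → P i := stepQ 16649 Q16649 (allL N16649 (tt N33187 D53340) (tt N33188 D53341) (tt N33186 (iv2 F84179)) (tt N8143 F40839) (tt N33189 D53342) (tt N8142 (iv5 D25850)) (tt N33190 D53343) (tt N33191 D53344))
theorem Q16651 : ∀ i, i < 16651 → P i := stepQ 16650 Q16650 (allL N16650 (tt N33181 (iv1 F173700)) (tt N33176 (iv0 F173694)) (tt N33175 F84169) (tt N8144 F40840) (tt N8198 F40841) (tt N33191 (iv5 F84182)) (tt N33192 D53345) (tt N8142 (iv7 D25851)))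
theorem Q16652 : ∀ i, i < 16652 → P i := stepQ 16651 Q16651 (allL N16651 (tt N32250 (iv1 F82608)) (tt N8143 (iv0 D25852)) (tt N33058 F84005) (tt N33193 D53346) (tt N30876 F80283) (tt N32229 (iv5 F82575)) (tt N33194 D53347) (tt N33059 (iv7 F84008)))
theorem Q16653 : ∀ i, i < 16653 → P i := stepQ 16652 Q16652 (allL N16652 (tt N8143 (iv1 D25853)) (tt N32250 (iv0 F82607)) (tt N33059 F84010) (tt N33195 D53348) (tt N32232 (iv4 F82580)) (tt N30871 F79619) (tt N33196 D53349) (tt N33058 F84006))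
theorem Q16654 : ∀ i, i < 16654 → P i := stepQ 16653 Q16653 (allL N16653 (tt N16094 F45318) (tt N31252 (iv0 F80281)) (tt N31280 F80329) (tt N33197 D53350) (tt N8143 (iv4 D25854)) (tt N18125 (iv5 F45317)) (tt N33198 D53351) (tt N31281 (iv7 F80332)))
theorem Q16655 : ∀ i, i < 16655 → P i := stepQ 16654 Q16654 (allL N16654 (tt N33199 D53352) (tt N33200 D53353) (tt N33060 (iv2 F84011)) (tt N33190 (iv3 F84180)) (tt N33198 (iv4 F84185)) (tt N22653 (iv5 F53510)) (tt N8143 (iv6 D25855)) (tt N33201 D53354))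
theorem Q16656 : ∀ i, i < 16656 → P i := stepQ 16655 Q16655 (allL N16655 (tt N33059 (iv1 F84007)) (tt N33058 F84004) (tt N32250 (iv2 F82604)) (tt N33191 (iv3 F84181)) (tt N31281 F80335) (tt N8144 F40842) (tt N33202 D53355) (tt N8143 (iv7 D25856)))
theorem Q16657 : ∀ i, i < 16657 → P i := stepQ 16656 Q16656 (allL N16656 (tt N33203 D53356) (tt N33204 D53357) (tt N33061 (iv2 F84012)) (tt N33192 (iv3 F84183)) (tt N8145 F40843) (tt N33205 D53358) (tt N8144 (iv6 D25857)) (tt N22655 (iv7 F53513)))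
theorem Q16658 : ∀ i, i < 16658 → P i := stepQ 16657 Q16657 (allL N16657 (tt N22601 (iv1 F53422)) (tt N8145 (iv0 D25858)) (tt N22657 (iv2 F99273)) (tt N33206 D53360) (tt N33207 D53361) (tt N33208 D53362) (tt N33209 D53363) (tt N22656 (iv7 F99276)))
theorem Q16659 : ∀ i, i < 16659 → P i := stepQ 16658 Q16658 (allL N16658 (tt N8145 (iv1 D25859)) (tt N22601 F53421) (tt N22656 (iv2 F99275)) (tt N29953 F165544) (tt N33210 D53366) (tt N33211 D53367) (tt N31906 F81657) (tt N22657 (iv7 F99274)))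
theorem Q16660 : ∀ i, i < 16660 → P i := stepQ 16659 Q16659 (allL N16659 (tt N29639 (iv1 F76874)) (tt N30776 (iv0 F79436)) (tt N9996 F40844) (tt N33212 D53368) (tt N8146 (iv4 D25860)) (tt N33213 D53369) (tt N33214 D53370) (tt N9993 F40845))
theorem Q16661 : ∀ i, i < 16661 → P i := stepQ 16660 Q16660 (allL N16660 (tt N33215 D53371) (tt N31108 (iv0 F163916)) (tt N9997 F40847) (tt N16068 F40848) (tt N33214 (iv4 F84199)) (tt N15835 F40849) (tt N8146 (iv6 D25861)) (tt N33216 D53373))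
theorem Q16662 : ∀ i, i < 16662 → P i := stepQ 16661 Q16661 (allL N16661 (tt N30776 (iv1 F79435)) (tt N29639 (iv0 F76873)) (tt N9993 F40850) (tt N33217 D53374) (tt N8147 (iv4 D25862)) (tt N33218 D53375) (tt N33219 D53376) (tt N9996 F40851))
theorem Q16663 : ∀ i, i < 16663 → P i := stepQ 16662 Q16662 (allL N16662 (tt N9890 F40853) (tt N30750 F79369) (tt N9995 F40852) (tt N19999 (iv3 F48700)) (tt N33219 (iv4 F84220)) (tt N19659 (iv5 F48086)) (tt N8147 (iv6 D25863)) (tt N30749 (iv7 F79360)))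
theorem Q16664 : ∀ i, i < 16664 → P i := stepQ 16663 Q16663 (allL N16663 (tt N9979 (iv1 F40854)) (tt N8148 (iv0 D25864)) (tt N9999 F40862) (tt N33220 D53377) (tt N15408 F40855) (tt N20606 (iv5 F49461)) (tt N33221 D53378) (tt N9998 (iv7 F40863)))
theorem Q16665 : ∀ i, i < 16665 → P i := stepQ 16664 Q16664 (allL N16664 (tt N8148 (iv1 D25865)) (tt N9979 F40856) (tt N9998 (iv2 F40864)) (tt N33222 D53379) (tt N15409 F40857) (tt N20607 (iv5 F49465)) (tt N33223 D53380) (tt N9999 (iv7 F40860)))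
theorem Q16666 : ∀ i, i < 16666 → P i := stepQ 16665 Q16665 (allL N16665 (tt N33224 D53381) (tt N33225 D53382) (tt N33226 D53383) (tt N8148 (iv3 D25866)) (tt N8155 F40865) (tt N33227 D53384) (tt N21893 (iv6 F320900)) (tt N10000 F40866))
theorem Q16667 : ∀ i, i < 16667 → P i := stepQ 16666 Q16666 (allL N16666 (tt N33228 D53386) (tt N33229 D53387) (tt N30137 (iv2 F78077)) (tt N33227 (iv3 F84235)) (tt N30812 F79526) (tt N8148 (iv5 D25867)) (tt N33230 D53388) (tt N10001 F40867))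
theorem Q16668 : ∀ i, i < 16668 → P i := stepQ 16667 Q16667 (allL N16667 (tt N33231 D53389) (tt N33232 D53390) (tt N30138 (iv2 F78082)) (tt N21893 (iv3 F320899)) (tt N8149 F40868) (tt N33233 D53391) (tt N8148 (iv6 D25868)) (tt N33234 D53392))
theorem Q16669 : ∀ i, i < 16669 → P i := stepQ 16668 Q16668 (allL N16668 (tt N30139 (iv1 F78089)) (tt N8149 (iv0 D25869)) (tt N20345 (iv2 F101212)) (tt N18152 F111181) (tt N33235 D53395) (tt N20308 F49123) (tt N22663 (iv6 F53526)) (tt N20342 (iv7 F101213)))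
theorem Q16670 : ∀ i, i < 16670 → P i := stepQ 16669 Q16669 (allL N16669 (tt N8149 (iv1 D25870)) (tt N30139 F78088) (tt N20342 F101217) (tt N20003 F111299) (tt N33236 D53398) (tt N20307 (iv5 F49121)) (tt N33237 D53399) (tt N20345 F101218))
theorem Q16671 : ∀ i, i < 16671 → P i := stepQ 16670 Q16670 (allL N16670 (tt N20342 (iv1 F49146)) (tt N20345 F78087) (tt N30139 (iv2 F78084)) (tt N8159 F40869) (tt N33234 (iv4 F84249)) (tt N22715 (iv5 F53738)) (tt N10006 F40870) (tt N8149 (iv7 D25871)))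
theorem Q16672 : ∀ i, i < 16672 → P i := stepQ 16671 Q16671 (allL N16671 (tt N33238 D53400) (tt N33239 D53401) (tt N33240 D53402) (tt N8153 (iv3 D25872)) (tt N33073 (iv4 F84041)) (tt N20660 (iv5 F49499)) (tt N33241 D53403) (tt N9952 F40871))
theorem Q16673 : ∀ i, i < 16673 → P i := stepQ 16672 Q16672 (allL N16672 (tt N15305 F40874) (tt N22775 F53931) (tt N9960 F40872) (tt N33241 (iv3 F84260)) (tt N8154 F40873) (tt N33242 D53404) (tt N8153 (iv6 D25873)) (tt N22688 (iv7 F53617)))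
theorem Q16674 : ∀ i, i < 16674 → P i := stepQ 16673 Q16673 (allL N16673 (tt N10011 (iv1 F40875)) (tt N8155 (iv0 D25874)) (tt N10010 F180241) (tt N33243 D53406) (tt N33244 D53407) (tt N20625 F180312) (tt N33245 D53409) (tt N10009 (iv7 F180244)))
theorem Q16675 : ∀ i, i < 16675 → P i := stepQ 16674 Q16674 (allL N16674 (tt N8155 (iv1 D25875)) (tt N10011 F40879) (tt N10009 (iv2 F180243)) (tt N33246 D53411) (tt N33247 D53412) (tt N20626 (iv5 F180303)) (tt N33248 D53414) (tt N10010 F180242))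
theorem Q16676 : ∀ i, i < 16676 → P i := stepQ 16675 Q16675 (allL N16675 (tt N10010 (iv1 F40880)) (tt N10009 F40878) (tt N8155 (iv2 D25876)) (tt N9969 F40876) (tt N33226 (iv4 F84231)) (tt N33249 D53415) (tt N18545 (iv6 F320898)) (tt N10011 F40877))
theorem Q16677 : ∀ i, i < 16677 → P i := stepQ 16676 Q16676 (allL N16676 (tt N33250 D53417) (tt N33251 D53418) (tt N33249 (iv2 F84264)) (tt N8156 F40881) (tt N33252 D53419) (tt N8155 (iv5 D25877)) (tt N10577 F314042) (tt N10012 F40882))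
theorem Q16678 : ∀ i, i < 16678 → P i := stepQ 16677 Q16677 (allL N16677 (tt N9802 F111192) (tt N9727 (iv0 F111193)) (tt N9799 (iv2 F111196)) (tt N8157 (iv3 D25885)) (tt N33253 D53436) (tt N16610 (iv5 F111198)) (tt N22671 (iv6 F53553)) (tt N9800 (iv7 F111194)))
theorem Q16679 : ∀ i, i < 16679 → P i := stepQ 16678 Q16678 (allL N16678 (tt N16787 F41129) (tt N16791 F41138) (tt N9973 (iv2 F48950)) (tt N33096 (iv3 F111209)) (tt N10850 F317146) (tt N20773 (iv5 F49586)) (tt N8158 (iv6 D25890)) (tt N20773 (iv7 F49590)))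
theorem Q16680 : ∀ i, i < 16680 → P i := stepQ 16679 Q16679 (allL N16679 (tt N15898 F40901) (tt N15894 F40902) (tt N9924 F40898) (tt N16032 F40899) (tt N31605 (iv4 F81005)) (tt N8160 (iv5 D25891)) (tt N33254 D53447) (tt N9567 F40900))
theorem Q16681 : ∀ i, i < 16681 → P i := stepQ 16680 Q16680 (allL N16680 (tt N15760 F40905) (tt N15757 F40906) (tt N9925 F40903) (tt N33255 D53448) (tt N8161 (iv4 D25892)) (tt N33256 D53449) (tt N33257 D53450) (tt N9568 F40904))
theorem Q16682 : ∀ i, i < 16682 → P i := stepQ 16681 Q16681 (allL N16681 (tt N10129 F168226) (tt N31564 F80901) (tt N9926 F40907) (tt N30239 (iv3 F78229)) (tt N33257 (iv4 F84337)) (tt N16681 F40908) (tt N8161 (iv6 D25893)) (tt N15828 F40909))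
theorem Q16683 : ∀ i, i < 16683 → P i := stepQ 16682 Q16682 (allL N16682 (tt N9723 (iv1 F40915)) (tt N9806 (iv0 F40914)) (tt N9808 F40910) (tt N8162 (iv3 D25894)) (tt N10152 F40913) (tt N15065 F40911) (tt N32167 F82451) (tt N9809 F40912))
theorem Q16684 : ∀ i, i < 16684 → P i := stepQ 16683 Q16683 (allL N16683 (tt N15747 F40918) (tt N15754 F40919) (tt N9934 F40916) (tt N33258 D53451) (tt N8162 (iv4 D25895)) (tt N33259 D53452) (tt N33260 D53453) (tt N9931 F40917))
theorem Q16685 : ∀ i, i < 16685 → P i := stepQ 16684 Q16684 (allL N16684 (tt N15818 F40922) (tt N22682 F53601) (tt N9935 F40920) (tt N32167 (iv3 F82454)) (tt N33260 (iv4 F84345)) (tt N9593 F40921) (tt N8162 (iv6 D25896)) (tt N22681 (iv7 F53593)))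
theorem Q16686 : ∀ i, i < 16686 → P i := stepQ 16685 Q16685 (allL N16685 (tt N9927 (iv1 F40923)) (tt N8163 (iv0 D25897)) (tt N9937 (iv2 F40928)) (tt N33261 D53454) (tt N18295 (iv4 F45743)) (tt N20533 (iv5 F49386)) (tt N33262 D53455) (tt N9936 F40929))
theorem Q16687 : ∀ i, i < 16687 → P i := stepQ 16686 Q16686 (allL N16686 (tt N8163 (iv1 D25898)) (tt N9927 F40924) (tt N9936 (iv2 F40926)) (tt N33263 D53456) (tt N9991 F40925) (tt N20534 (iv5 F49391)) (tt N33264 D53457) (tt N9937 (iv7 F40927)))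
theorem Q16688 : ∀ i, i < 16688 → P i := stepQ 16687 Q16687 (allL N16687 (tt N33265 D53458) (tt N33266 D53459) (tt N33267 D53460) (tt N8163 (iv3 D25899)) (tt N8165 F40930) (tt N33268 D53461) (tt N33269 D53462) (tt N9938 F40931))
theorem Q16689 : ∀ i, i < 16689 → P i := stepQ 16688 Q16688 (allL N16688 (tt N31397 (iv1 F80592)) (tt N31447 F80675) (tt N31444 F80665) (tt N33268 (iv3 F84361)) (tt N31595 (iv4 F80971)) (tt N8163 (iv5 D25900)) (tt N33270 D53463) (tt N9939 F40932))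
theorem Q16690 : ∀ i, i < 16690 → P i := stepQ 16689 Q16689 (allL N16689 (tt N33271 D53464) (tt N33272 D53465) (tt N31675 (iv2 F81167)) (tt N33269 (iv3 F84363)) (tt N8164 F40933) (tt N24397 (iv5 F328502)) (tt N8163 (iv6 D25901)) (tt N24396 F328064))
theorem Q16691 : ∀ i, i < 16691 → P i := stepQ 16690 Q16690 (allL N16690 (tt N31677 (iv1 F81180)) (tt N8164 (iv0 D25902)) (tt N31676 F81169) (tt N32327 (iv3 F82711)) (tt N33273 D53468) (tt N15883 F81036) (tt N33274 D53469) (tt N15882 (iv7 F81037)))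
theorem Q16692 : ∀ i, i < 16692 → P i := stepQ 16691 Q16691 (allL N16691 (tt N8164 (iv1 D25903)) (tt N31677 F81179) (tt N15882 F40936) (tt N30247 (iv3 F78246)) (tt N17754 (iv4 F329116)) (tt N15838 (iv5 F40935)) (tt N9877 (iv6 F40934)) (tt N31676 (iv7 F81171)))
theorem Q16693 : ∀ i, i < 16693 → P i := stepQ 16692 Q16692 (allL N16692 (tt N15882 (iv1 F40939)) (tt N31676 F81172) (tt N31677 (iv2 F81175)) (tt N8169 F40937) (tt N24396 F328062) (tt N31689 (iv5 F81191)) (tt N9943 F40938) (tt N8164 (iv7 D25904)))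
theorem Q16694 : ∀ i, i < 16694 → P i := stepQ 16693 Q16693 (allL N16693 (tt N9969 (iv1 F40940)) (tt N8165 (iv0 D25905)) (tt N9968 F180647) (tt N33275 D53472) (tt N33276 D53473) (tt N20562 F181543) (tt N33277 D53475) (tt N9967 (iv7 F180650)))
theorem Q16695 : ∀ i, i < 16695 → P i := stepQ 16694 Q16694 (allL N16694 (tt N8165 (iv1 D25906)) (tt N9969 F40944) (tt N9967 (iv2 F180649)) (tt N33278 D53477) (tt N33279 D53478) (tt N20563 F181554) (tt N33280 D53480) (tt N9968 F180648))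
theorem Q16696 : ∀ i, i < 16696 → P i := stepQ 16695 Q16695 (allL N16695 (tt N9968 (iv1 F40945)) (tt N9967 F40943) (tt N8165 (iv2 D25907)) (tt N10011 F40941) (tt N33267 (iv4 F84356)) (tt N33281 D53481) (tt N33282 D53482) (tt N9969 F40942))
theorem Q16697 : ∀ i, i < 16697 → P i := stepQ 16696 Q16696 (allL N16696 (tt N33283 D53483) (tt N33284 D53484) (tt N33281 (iv2 F84376)) (tt N8166 F40946) (tt N33285 D53485) (tt N8165 (iv5 D25908)) (tt N33286 D53486) (tt N9970 F40947))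
theorem Q16698 : ∀ i, i < 16698 → P i := stepQ 16697 Q16697 (allL N16697 (tt N33287 D53487) (tt N33288 D53488) (tt N33282 (iv2 F84381)) (tt N8167 F40948) (tt N33269 (iv4 F84364)) (tt N33289 D53489) (tt N8165 (iv6 D25909)) (tt N21892 (iv7 F316482)))
theorem Q16699 : ∀ i, i < 16699 → P i := stepQ 16698 Q16698 (allL N16698 (tt N18373 F318773) (tt N14829 F318774) (tt N10014 F40949) (tt N33286 (iv3 F84387)) (tt N8286 F40950) (tt N20850 F318775) (tt N8166 (iv6 D25910)) (tt N10584 F314044))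
theorem Q16700 : ∀ i, i < 16700 → P i := stepQ 16699 Q16699 (allL N16699 (tt N25265 (iv1 F317401)) (tt N17982 (iv0 F318515)) (tt N10017 F40952) (tt N33289 (iv3 F84388)) (tt N23602 (iv4 F322099)) (tt N8167 (iv5 D25913)) (tt N20850 (iv6 F318255)) (tt N21861 (iv7 F316484)))
theorem Q16701 : ∀ i, i < 16701 → P i := stepQ 16700 Q16700 (allL N16700 (tt N10275 F46774) (tt N8229 F46775) (tt N10019 F40961) (tt N33290 D53499) (tt N8168 (iv4 D25916)) (tt N33291 D53500) (tt N33292 D53501) (tt N10022 F40962))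
theorem Q16702 : ∀ i, i < 16702 → P i := stepQ 16701 Q16701 (allL N16701 (tt N19430 (iv1 F47614)) (tt N19429 F47610) (tt N10020 F40963) (tt N33114 (iv3 F84092)) (tt N33292 (iv4 F84412)) (tt N9329 F40964) (tt N8168 (iv6 D25917)) (tt N9328 F40965))
theorem Q16703 : ∀ i, i < 16703 → P i := stepQ 16702 Q16702 (allL N16702 (tt N10061 (iv1 F40967)) (tt N8170 (iv0 D25918)) (tt N10064 (iv2 F40968)) (tt N33293 D53502) (tt N15407 F40966) (tt N33228 (iv5 F84239)) (tt N33294 D53503) (tt N10063 (iv7 F40969)))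
theorem Q16704 : ∀ i, i < 16704 → P i := stepQ 16703 Q16703 (allL N16703 (tt N8170 (iv1 D25919)) (tt N10061 F40970) (tt N10063 F40973) (tt N33295 D53504) (tt N9179 (iv4 F40972)) (tt N33229 (iv5 F84246)) (tt N9639 F40974) (tt N10064 F40971))
theorem Q16705 : ∀ i, i < 16705 → P i := stepQ 16704 Q16704 (allL N16704 (tt N33296 D53505) (tt N33297 D53506) (tt N33298 D53507) (tt N8170 (iv3 D25920)) (tt N8172 F40975) (tt N33299 D53508) (tt N33300 D53509) (tt N10065 F40976))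
theorem Q16706 : ∀ i, i < 16706 → P i := stepQ 16705 Q16705 (allL N16705 (tt N20453 (iv1 F49449)) (tt N20456 (iv0 F49321)) (tt N30141 (iv2 F78092)) (tt N33299 (iv3 F84427)) (tt N30804 (iv4 F79511)) (tt N8170 (iv5 D25921)) (tt N33301 D53510) (tt N10066 F40977))
theorem Q16707 : ∀ i, i < 16707 → P i := stepQ 16706 Q16706 (allL N16706 (tt N33302 D53511) (tt N33303 D53512) (tt N30142 (iv2 F78097)) (tt N33300 (iv3 F84429)) (tt N8171 F40978) (tt N33304 D53513) (tt N8170 (iv6 D25922)) (tt N33305 D53514))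
theorem Q16708 : ∀ i, i < 16708 → P i := stepQ 16707 Q16707 (allL N16707 (tt N30145 (iv1 F78105)) (tt N8171 (iv0 D25923)) (tt N30143 (iv2 F102100)) (tt N29940 (iv3 F95185)) (tt N33306 D53517) (tt N33307 D53518) (tt N30755 F79384) (tt N30144 (iv7 F102097)))
theorem Q16709 : ∀ i, i < 16709 → P i := stepQ 16708 Q16708 (allL N16708 (tt N8171 (iv1 D25924)) (tt N30145 F78104) (tt N30144 (iv2 F102096)) (tt N33308 D53520) (tt N33309 D53521) (tt N33310 D53522) (tt N33311 D53523) (tt N30143 (iv7 F102101)))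
theorem Q16710 : ∀ i, i < 16710 → P i := stepQ 16709 Q16709 (allL N16709 (tt N19533 F47914) (tt N19572 F47992) (tt N19570 (iv2 F47989)) (tt N8177 F40979) (tt N33312 D53524) (tt N8171 (iv5 D25925)) (tt N9481 F40980) (tt N18994 (iv7 F46734)))
theorem Q16711 : ∀ i, i < 16711 → P i := stepQ 16710 Q16710 (allL N16710 (tt N30144 (iv1 F78099)) (tt N30143 F78103) (tt N30145 (iv2 F78100)) (tt N8178 F40981) (tt N33305 (iv4 F84431)) (tt N18994 (iv5 F46733)) (tt N10070 F40982) (tt N8171 (iv7 D25926)))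
theorem Q16712 : ∀ i, i < 16712 → P i := stepQ 16711 Q16711 (allL N16711 (tt N10073 (iv1 F40983)) (tt N8172 (iv0 D25927)) (tt N10072 (iv2 F102521)) (tt N33313 D53526) (tt N33314 D53527) (tt N33250 (iv5 F180352)) (tt N33315 D53529) (tt N10071 (iv7 F102524)))
theorem Q16713 : ∀ i, i < 16713 → P i := stepQ 16712 Q16712 (allL N16712 (tt N8172 (iv1 D25928)) (tt N10073 F40987) (tt N10071 F102525) (tt N33316 D53531) (tt N33317 D53532) (tt N33251 F180357) (tt N22697 (iv6 F317414)) (tt N10072 F102526))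
theorem Q16714 : ∀ i, i < 16714 → P i := stepQ 16713 Q16713 (allL N16713 (tt N10072 (iv1 F40988)) (tt N10071 F40986) (tt N8172 (iv2 D25929)) (tt N10044 F40984) (tt N33298 (iv4 F84423)) (tt N33318 D53535) (tt N33319 D53536) (tt N10073 F40985))
theorem Q16715 : ∀ i, i < 16715 → P i := stepQ 16714 Q16714 (allL N16714 (tt N20483 F180969) (tt N20487 (iv0 F180970)) (tt N33318 (iv2 F84441)) (tt N8173 F40989) (tt N33320 D53539) (tt N8172 (iv5 D25930)) (tt N33321 D53540) (tt N10074 F40990))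
theorem Q16716 : ∀ i, i < 16716 → P i := stepQ 16715 Q16715 (allL N16715 (tt N33322 D53541) (tt N33323 D53542) (tt N33319 (iv2 F84446)) (tt N8174 F40991) (tt N33300 (iv4 F84430)) (tt N33324 D53543) (tt N8172 (iv6 D25931)) (tt N33325 D53544))
theorem Q16717 : ∀ i, i < 16717 → P i := stepQ 16716 Q16716 (allL N16716 (tt N21150 (iv1 F110676)) (tt N21152 (iv0 F110677)) (tt N10049 F40992) (tt N33321 (iv3 F84452)) (tt N8267 F40993) (tt N16867 (iv5 F315571)) (tt N8173 (iv6 D25932)) (tt N21153 (iv7 F317419)))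
theorem Q16718 : ∀ i, i < 16718 → P i := stepQ 16717 Q16717 (allL N16717 (tt N10053 (iv1 F40999)) (tt N8174 (iv0 D25933)) (tt N10050 F76945) (tt N22581 (iv3 F314549)) (tt N14794 F46742) (tt N8216 (iv5 F314554)) (tt N8218 (iv6 F312703)) (tt N10051 F76946))
theorem Q16719 : ∀ i, i < 16719 → P i := stepQ 16718 Q16718 (allL N16718 (tt N8174 (iv1 D25934)) (tt N10053 F40994) (tt N10051 F76938) (tt N33326 D53551) (tt N14795 (iv4 F47154)) (tt N10238 (iv5 F314543)) (tt N33327 D53553) (tt N10050 F76939))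
theorem Q16720 : ∀ i, i < 16720 → P i := stepQ 16719 Q16719 (allL N16719 (tt N33328 D53554) (tt N33329 D53555) (tt N10052 F40995) (tt N33324 (iv3 F84453)) (tt N33330 D53556) (tt N8174 (iv5 D25935)) (tt N16867 (iv6 F315572)) (tt N33331 D53557))
theorem Q16721 : ∀ i, i < 16721 → P i := stepQ 16720 Q16720 (allL N16720 (tt N10051 (iv1 F41000)) (tt N10050 F41001) (tt N10053 F40996) (tt N33325 (iv3 F84454)) (tt N8178 F40997) (tt N33331 (iv5 F84483)) (tt N10079 F40998) (tt N8174 (iv7 D25936)))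
theorem Q16722 : ∀ i, i < 16722 → P i := stepQ 16721 Q16721 (allL N16721 (tt N9843 F101954) (tt N9735 (iv0 F101955)) (tt N9840 (iv2 F101960)) (tt N8175 (iv3 D25938)) (tt N33332 D53561) (tt N33333 D53562) (tt N22721 (iv6 F53771)) (tt N9841 (iv7 F101956)))
theorem Q16723 : ∀ i, i < 16723 → P i := stepQ 16722 Q16722 (allL N16722 (tt N19752 F48243) (tt N19744 (iv0 F48220)) (tt N10056 (iv2 F49067)) (tt N33333 (iv3 F84493)) (tt N33334 D53565) (tt N8175 (iv5 D25940)) (tt N10056 F41003) (tt N10058 (iv7 F49071)))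
theorem Q16724 : ∀ i, i < 16724 → P i := stepQ 16723 Q16723 (allL N16723 (tt N8190 F46731) (tt N10094 F46732) (tt N10057 F49080) (tt N33335 D53572) (tt N8176 (iv4 D25943)) (tt N16957 (iv5 F314524)) (tt N33336 D53574) (tt N10055 F49065))
theorem Q16725 : ∀ i, i < 16725 → P i := stepQ 16724 Q16724 (allL N16724 (tt N19744 F48219) (tt N19752 (iv0 F48242)) (tt N10058 F49068) (tt N33140 (iv3 F102011)) (tt N33337 D53575) (tt N8176 (iv5 D25944)) (tt N9620 F41005) (tt N10056 F49066))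
theorem Q16726 : ∀ i, i < 16726 → P i := stepQ 16725 Q16725 (allL N16725 (tt N19616 F48016) (tt N10132 (iv0 F48045)) (tt N10059 (iv2 F49054)) (tt N33141 (iv3 F102020)) (tt N33336 (iv4 F84517)) (tt N18944 (iv5 F46682)) (tt N8176 (iv6 D25945)) (tt N22720 (iv7 F53767)))
theorem Q16727 : ∀ i, i < 16727 → P i := stepQ 16726 Q16726 (allL N16726 (tt N9245 F46476) (tt N19242 F47152) (tt N10060 F41006) (tt N33338 D53576) (tt N8177 (iv4 D25946)) (tt N20395 F322106) (tt N9226 F41007) (tt N18995 (iv7 F46735)))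
theorem Q16728 : ∀ i, i < 16728 → P i := stepQ 16727 Q16727 (allL N16727 (tt N33339 D53578) (tt N33340 D53579) (tt N8181 F41008) (tt N10062 F41009) (tt N31438 (iv4 F80657)) (tt N15352 F41010) (tt N8179 (iv6 D25947)) (tt N33341 D53580))
theorem Q16729 : ∀ i, i < 16729 → P i := stepQ 16728 Q16728 (allL N16728 (tt N33342 D53581) (tt N33343 D53582) (tt N33344 D53583) (tt N8180 (iv3 D25948)) (tt N8182 F41011) (tt N33345 D53584) (tt N33346 D53585) (tt N10032 F41012))
theorem Q16730 : ∀ i, i < 16730 → P i := stepQ 16729 Q16729 (allL N16729 (tt N20325 (iv1 F49136)) (tt N20328 (iv0 F49137)) (tt N31437 (iv2 F80651)) (tt N33345 (iv3 F84540)) (tt N31607 (iv4 F81012)) (tt N8180 (iv5 D25949)) (tt N33347 D53586) (tt N10033 F41013))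
theorem Q16731 : ∀ i, i < 16731 → P i := stepQ 16730 Q16730 (allL N16730 (tt N33348 D53587) (tt N33349 D53588) (tt N31438 (iv2 F80656)) (tt N33346 (iv3 F84542)) (tt N8181 F41014) (tt N33350 D53589) (tt N8180 (iv6 D25950)) (tt N33351 D53590))
theorem Q16732 : ∀ i, i < 16732 → P i := stepQ 16731 Q16731 (allL N16731 (tt N33341 F84531) (tt N8181 (iv0 D25951)) (tt N33339 (iv2 F102439)) (tt N30305 (iv3 F104351)) (tt N33352 D53593) (tt N10068 F80864) (tt N33353 D53594) (tt N33340 (iv7 F102448)))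
theorem Q16733 : ∀ i, i < 16733 → P i := stepQ 16732 Q16732 (allL N16732 (tt N8181 (iv1 D25952)) (tt N33341 F84530) (tt N33340 (iv2 F102447)) (tt N30294 (iv3 F163550)) (tt N33354 D53597) (tt N10069 F84548) (tt N31545 F84549) (tt N33339 (iv7 F102440)))
theorem Q16734 : ∀ i, i < 16734 → P i := stepQ 16733 Q16733 (allL N16733 (tt N33340 (iv1 F84525)) (tt N33339 (iv0 F84524)) (tt N33341 (iv2 F84526)) (tt N8187 F41015) (tt N33351 (iv4 F84544)) (tt N22665 (iv5 F53528)) (tt N10039 F41016) (tt N8181 (iv7 D25953)))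
theorem Q16735 : ∀ i, i < 16735 → P i := stepQ 16734 Q16734 (allL N16734 (tt N10044 (iv1 F41017)) (tt N8182 (iv0 D25954)) (tt N10043 F102813) (tt N33355 D53599) (tt N33356 D53600) (tt N33283 F181689) (tt N22716 (iv6 F317420)) (tt N10042 F102814))
theorem Q16736 : ∀ i, i < 16736 → P i := stepQ 16735 Q16735 (allL N16735 (tt N8182 (iv1 D25955)) (tt N10044 F41021) (tt N10042 (iv2 F102806)) (tt N33357 D53604) (tt N33358 D53605) (tt N33284 (iv5 F181672)) (tt N33359 D53607) (tt N10043 (iv7 F102812)))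
theorem Q16737 : ∀ i, i < 16737 → P i := stepQ 16736 Q16736 (allL N16736 (tt N10043 (iv1 F41022)) (tt N10042 F41020) (tt N8182 (iv2 D25956)) (tt N10073 F41018) (tt N33344 (iv4 F84535)) (tt N33360 D53608) (tt N33361 D53609) (tt N10044 F41019))
theorem Q16738 : ∀ i, i < 16738 → P i := stepQ 16737 Q16737 (allL N16737 (tt N20402 F181587) (tt N20406 (iv0 F181588)) (tt N33360 (iv2 F84561)) (tt N8183 F41023) (tt N33362 D53612) (tt N8182 (iv5 D25957)) (tt N21638 (iv6 F317421)) (tt N10045 F41024))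
theorem Q16739 : ∀ i, i < 16739 → P i := stepQ 16738 Q16738 (allL N16738 (tt N33363 D53614) (tt N33364 D53615) (tt N33361 (iv2 F84566)) (tt N8184 F41025) (tt N33346 (iv4 F84543)) (tt N10701 (iv5 F317422)) (tt N8182 (iv6 D25958)) (tt N24202 (iv7 F317424)))
theorem Q16740 : ∀ i, i < 16740 → P i := stepQ 16739 Q16739 (allL N16739 (tt N8184 (iv1 D25961)) (tt N10079 F41028) (tt N10078 F78657) (tt N33365 D53625) (tt N14798 F53667) (tt N12500 F315177) (tt N22702 (iv6 F53669)) (tt N10077 F78658))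
theorem Q16741 : ∀ i, i < 16741 → P i := stepQ 16740 Q16740 (allL N16740 (tt N10102 F53802) (tt N8193 F53803) (tt N10080 F49036) (tt N33366 D53636) (tt N8185 (iv4 D25966)) (tt N8835 F313836) (tt N33367 D53638) (tt N10083 F49032))
theorem Q16742 : ∀ i, i < 16742 → P i := stepQ 16741 Q16741 (allL N16741 (tt N10136 F41040) (tt N15583 F41041) (tt N10081 (iv2 F49009)) (tt N33154 (iv3 F161267)) (tt N33367 (iv4 F84630)) (tt N10024 F41039) (tt N8185 (iv6 D25967)) (tt N22707 (iv7 F53720)))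
theorem Q16743 : ∀ i, i < 16743 → P i := stepQ 16742 Q16742 (allL N16742 (tt N9738 (iv1 F161287)) (tt N9854 (iv0 F161288)) (tt N9852 (iv2 F161277)) (tt N8186 (iv3 D25969)) (tt N33368 D53642) (tt N10082 F41044) (tt N22705 (iv6 F53700)) (tt N9851 (iv7 F161286)))
theorem Q16744 : ∀ i, i < 16744 → P i := stepQ 16743 Q16743 (allL N16743 (tt N8193 F53800) (tt N10102 F53801) (tt N10083 F49034) (tt N33369 D53643) (tt N8186 (iv4 D25970)) (tt N12461 F313837) (tt N21910 (iv6 F316084)) (tt N10080 (iv7 F49035)))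
theorem Q16745 : ∀ i, i < 16745 → P i := stepQ 16744 Q16744 (allL N16744 (tt N10097 (iv1 F41045)) (tt N8188 (iv0 D25971)) (tt N10096 (iv2 F102851)) (tt N33370 D53646) (tt N33371 D53647) (tt N33372 D53648) (tt N33373 D53649) (tt N10095 (iv7 F102857)))
theorem Q16746 : ∀ i, i < 16746 → P i := stepQ 16745 Q16745 (allL N16745 (tt N8188 (iv1 D25972)) (tt N10097 F41049) (tt N10095 F102858) (tt N33374 D53651) (tt N33375 D53652) (tt N33376 D53653) (tt N22723 (iv6 F320516)) (tt N10096 F102859))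
theorem Q16747 : ∀ i, i < 16747 → P i := stepQ 16746 Q16746 (allL N16746 (tt N10096 (iv1 F41050)) (tt N10095 F41048) (tt N8188 (iv2 D25973)) (tt N10086 F41046) (tt N30312 (iv4 F78318)) (tt N33377 D53655) (tt N33378 D53656) (tt N10097 F41047))
theorem Q16748 : ∀ i, i < 16748 → P i := stepQ 16747 Q16747 (allL N16747 (tt N21043 F166895) (tt N21047 F166896) (tt N33377 (iv2 F84648)) (tt N8189 F41051) (tt N33379 D53659) (tt N8188 (iv5 D25974)) (tt N33380 D53660) (tt N10099 F41052))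
theorem Q16749 : ∀ i, i < 16749 → P i := stepQ 16748 Q16748 (allL N16748 (tt N21348 (iv1 F319188)) (tt N33381 D53662) (tt N33378 (iv2 F84653)) (tt N8190 F41053) (tt N30313 (iv4 F78324)) (tt N33382 D53663) (tt N8188 (iv6 D25975)) (tt N33383 D53664))
theorem Q16750 : ∀ i, i < 16750 → P i := stepQ 16749 Q16749 (allL N16749 (tt N33384 D53665) (tt N33385 D53666) (tt N10092 F41054) (tt N33380 (iv3 F84659)) (tt N8249 F41055) (tt N10383 (iv5 F315925)) (tt N8189 (iv6 D25976)) (tt N33386 D53668))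
theorem Q16751 : ∀ i, i < 16751 → P i := stepQ 16750 Q16750 (allL N16750 (tt N33387 D53669) (tt N33388 D53670) (tt N10093 F41057) (tt N33382 (iv3 F84660)) (tt N33389 D53671) (tt N8190 (iv5 D25979)) (tt N10383 (iv6 F315926)) (tt N33390 D53672))
theorem Q16752 : ∀ i, i < 16752 → P i := stepQ 16751 Q16751 (allL N16751 (tt N10057 (iv1 F47606)) (tt N10055 (iv0 F47160)) (tt N10094 F41058) (tt N33383 (iv3 F84661)) (tt N9038 F41059) (tt N33390 (iv5 F84682)) (tt N10102 F41060) (tt N8190 (iv7 D25980)))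
theorem Q16753 : ∀ i, i < 16753 → P i := stepQ 16752 Q16752 (allL N16752 (tt N10086 (iv1 F41064)) (tt N8191 (iv0 D25981)) (tt N10085 F102963) (tt N33391 D53674) (tt N33392 D53675) (tt N33393 D53676) (tt N22730 (iv6 F319052)) (tt N10084 F102964))
theorem Q16754 : ∀ i, i < 16754 → P i := stepQ 16753 Q16753 (allL N16753 (tt N8191 (iv1 D25982)) (tt N10086 F41068) (tt N10084 (iv2 F102956)) (tt N25171 (iv3 F319062)) (tt N33394 D53680) (tt N33395 D53681) (tt N33396 D53682) (tt N10085 (iv7 F102962)))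
theorem Q16755 : ∀ i, i < 16755 → P i := stepQ 16754 Q16754 (allL N16754 (tt N10085 (iv1 F41069)) (tt N10084 F41067) (tt N8191 (iv2 D25983)) (tt N10097 F41065) (tt N33397 D53683) (tt N33398 D53684) (tt N33399 D53685) (tt N10086 F41066))
theorem Q16756 : ∀ i, i < 16756 → P i := stepQ 16755 Q16755 (allL N16755 (tt N33400 D53686) (tt N33401 D53687) (tt N33397 (iv2 F84688)) (tt N9040 F41070) (tt N8191 (iv4 D25984)) (tt N33402 D53688) (tt N33403 D53689) (tt N10087 F41071))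
theorem Q16757 : ∀ i, i < 16757 → P i := stepQ 16756 Q16756 (allL N16756 (tt N20879 F181563) (tt N20883 F181564) (tt N33398 (iv2 F84692)) (tt N8192 F41072) (tt N33404 D53692) (tt N8191 (iv5 D25985)) (tt N33405 D53693) (tt N10088 F41073))
theorem Q16758 : ∀ i, i < 16758 → P i := stepQ 16757 Q16757 (allL N16757 (tt N33406 D53694) (tt N33407 D53695) (tt N33399 (iv2 F84697)) (tt N8193 F41074) (tt N33403 (iv4 F84705)) (tt N17141 (iv5 F318493)) (tt N8191 (iv6 D25986)) (tt N22155 (iv7 F319195)))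
theorem Q16759 : ∀ i, i < 16759 → P i := stepQ 16758 Q16758 (allL N16758 (tt N8454 F313298) (tt N10985 F313299) (tt N10101 F41075) (tt N33405 (iv3 F84710)) (tt N8241 F41076) (tt N17142 (iv5 F315700)) (tt N8192 (iv6 D25987)) (tt N10984 (iv7 F313410)))
theorem Q16760 : ∀ i, i < 16760 → P i := stepQ 16759 Q16759 (allL N16759 (tt N8195 (iv1 F41089)) (tt N8194 (iv0 D25992)) (tt N8198 (iv2 F41085)) (tt N10103 F41086) (tt N33175 (iv4 F84170)) (tt N10452 F41087) (tt N33408 D53706) (tt N8196 F41088))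
theorem Q16761 : ∀ i, i < 16761 → P i := stepQ 16760 Q16760 (allL N16760 (tt N8198 F181459) (tt N8196 F181460) (tt N8194 (iv2 D25993)) (tt N33409 D53709) (tt N33410 D53710) (tt N33411 D53711) (tt N33412 D53712) (tt N8195 (iv7 F41090)))
theorem Q16762 : ∀ i, i < 16762 → P i := stepQ 16761 Q16761 (allL N16761 (tt N25171 (iv1 F319061)) (tt N17950 (iv0 F319058)) (tt N25169 (iv2 F319053)) (tt N8194 (iv3 D25994)) (tt N33413 D53716) (tt N33414 D53717) (tt N22559 (iv6 F320460)) (tt N25170 (iv7 F319057)))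
theorem Q16763 : ∀ i, i < 16763 → P i := stepQ 16762 Q16762 (allL N16762 (tt N33415 D53720) (tt N33416 D53721) (tt N33410 (iv2 F84741)) (tt N33132 F326820) (tt N8194 (iv4 D25995)) (tt N33417 D53723) (tt N33128 (iv6 F327061)) (tt N33418 D53725))
theorem Q16764 : ∀ i, i < 16764 → P i := stepQ 16763 Q16763 (allL N16763 (tt N33419 D53726) (tt N20365 (iv0 F175005)) (tt N33411 (iv2 F84743)) (tt N33414 (iv3 F84749)) (tt N33420 D53728) (tt N8194 (iv5 D25996)) (tt N33421 D53729) (tt N33422 D53730))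
theorem Q16765 : ∀ i, i < 16765 → P i := stepQ 16764 Q16764 (allL N16764 (tt N33423 D53731) (tt N33335 (iv0 F319196)) (tt N33412 (iv2 F84745)) (tt N22559 (iv3 F320459)) (tt N33128 (iv4 F327060)) (tt N33424 D53733) (tt N8194 (iv6 D25997)) (tt N33425 D53734))
theorem Q16766 : ∀ i, i < 16766 → P i := stepQ 16765 Q16765 (allL N16765 (tt N8196 (iv1 F181455)) (tt N8198 (iv0 F181456)) (tt N8195 F41091) (tt N25170 (iv3 F319055)) (tt N33418 (iv4 F84756)) (tt N33422 (iv5 F84760)) (tt N22123 (iv6 F320432)) (tt N8194 (iv7 D25998)))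
theorem Q16767 : ∀ i, i < 16767 → P i := stepQ 16766 Q16766 (allL N16766 (tt N33426 D53736) (tt N33370 (iv0 F102849)) (tt N33427 D53738) (tt N8195 (iv3 D25999)) (tt N33428 D53739) (tt N33429 D53740) (tt N33430 D53741) (tt N33409 (iv7 F84740)))
theorem Q16768 : ∀ i, i < 16768 → P i := stepQ 16767 Q16767 (allL N16767 (tt N33416 (iv1 F84753)) (tt N33415 F84757) (tt N33418 (iv2 F84755)) (tt N33431 D53742) (tt N8195 (iv4 D26000)) (tt N33432 D53743) (tt N33433 D53744) (tt N33410 (iv7 F84742)))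
theorem Q16769 : ∀ i, i < 16769 → P i := stepQ 16768 Q16768 (allL N16768 (tt N20365 F175006) (tt N33419 F84761) (tt N33422 (iv2 F84759)) (tt N33429 (iv3 F84766)) (tt N33434 D53745) (tt N8195 (iv5 D26001)) (tt N33435 D53746) (tt N33411 (iv7 F84744)))
theorem Q16770 : ∀ i, i < 16770 → P i := stepQ 16769 Q16769 (allL N16769 (tt N33366 (iv1 F320710)) (tt N33436 D53748) (tt N22123 (iv2 F320431)) (tt N33430 (iv3 F84767)) (tt N33433 (iv4 F84768)) (tt N22064 (iv5 F320464)) (tt N8195 (iv6 D26002)) (tt N22127 (iv7 F320466)))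
theorem Q16771 : ∀ i, i < 16771 → P i := stepQ 16770 Q16770 (allL N16770 (tt N10451 (iv1 F41097)) (tt N10450 F41098) (tt N8197 F41094) (tt N10114 F41095) (tt N33437 D53761) (tt N8196 (iv5 D26005)) (tt N33438 D53762) (tt N10452 F41096))
theorem Q16772 : ∀ i, i < 16772 → P i := stepQ 16771 Q16771 (allL N16771 (tt N10452 (iv1 F41099)) (tt N8197 (iv0 D26006)) (tt N10451 (iv2 F173377)) (tt N17006 (iv3 F317996)) (tt N33439 D53765) (tt N33238 (iv5 F171348)) (tt N17004 (iv6 F317997)) (tt N10450 (iv7 F173382)))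
theorem Q16773 : ∀ i, i < 16773 → P i := stepQ 16772 Q16772 (allL N16772 (tt N8197 (iv1 D26007)) (tt N10452 F41100) (tt N10450 F173383) (tt N33440 D53769) (tt N33441 D53770) (tt N33239 (iv5 F171172)) (tt N33442 D53772) (tt N10451 F173384))
theorem Q16774 : ∀ i, i < 16774 → P i := stepQ 16773 Q16773 (allL N16773 (tt N33443 D53773) (tt N33444 D53774) (tt N33437 (iv2 F84772)) (tt N10430 F41101) (tt N8197 (iv4 D26008)) (tt N33445 D53775) (tt N33446 D53776) (tt N10427 F41102))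
theorem Q16775 : ∀ i, i < 16775 → P i := stepQ 16774 Q16774 (allL N16774 (tt N22445 (iv1 F313307)) (tt N25088 (iv0 F313308)) (tt N33438 (iv2 F84776)) (tt N8201 F41103) (tt N33446 (iv4 F84792)) (tt N22741 (iv5 F53857)) (tt N8197 (iv6 D26009)) (tt N33447 D53779))
theorem Q16776 : ∀ i, i < 16776 → P i := stepQ 16775 Q16775 (allL N16775 (tt N33448 D53780) (tt N33449 D53781) (tt N33408 (iv2 F84736)) (tt N8202 F41104) (tt N33192 (iv4 F84184)) (tt N33450 D53782) (tt N8198 (iv6 D26010)) (tt N22742 (iv7 F53859)))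
theorem Q16777 : ∀ i, i < 16777 → P i := stepQ 16776 Q16776 (allL N16776 (tt N33372 (iv1 F172107)) (tt N33376 (iv0 F172104)) (tt N33451 D53785) (tt N8199 (iv3 D26011)) (tt N32795 (iv4 F316007)) (tt N8207 F41105) (tt N17002 F313562) (tt N10121 F41106))
theorem Q16778 : ∀ i, i < 16778 → P i := stepQ 16777 Q16777 (allL N16777 (tt N33393 (iv1 F181666)) (tt N33395 (iv0 F181667)) (tt N33442 F318242) (tt N8200 (iv3 D26013)) (tt N33452 D53795) (tt N8228 F41109) (tt N10450 F318243) (tt N10120 F41110))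
theorem Q16779 : ∀ i, i < 16779 → P i := stepQ 16778 Q16778 (allL N16778 (tt N21694 (iv1 F314009)) (tt N21693 F313567) (tt N10122 F41111) (tt N10450 F318239) (tt N8216 F41112) (tt N33453 D53799) (tt N8200 (iv6 D26014)) (tt N17006 F313568))
theorem Q16780 : ∀ i, i < 16780 → P i := stepQ 16779 Q16779 (allL N16779 (tt N10125 (iv1 F41117)) (tt N8201 (iv0 D26015)) (tt N10123 (iv2 F182237)) (tt N33454 D53802) (tt N29749 (iv4 F114314)) (tt N23897 F307054) (tt N33455 D53805) (tt N10124 (iv7 F182240)))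
theorem Q16781 : ∀ i, i < 16781 → P i := stepQ 16780 Q16780 (allL N16780 (tt N8201 (iv1 D26016)) (tt N10125 F41113) (tt N10124 F182243) (tt N33456 D53807) (tt N29750 (iv4 F114322)) (tt N23898 F308972) (tt N33457 D53810) (tt N10123 F182244))
theorem Q16782 : ∀ i, i < 16782 → P i := stepQ 16781 Q16781 (allL N16781 (tt N10124 (iv1 F41118)) (tt N10123 F41119) (tt N10125 F41114) (tt N33447 (iv3 F84793)) (tt N10466 F41115) (tt N22747 (iv5 F53868)) (tt N10457 F41116) (tt N8201 (iv7 D26017)))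
theorem Q16783 : ∀ i, i < 16783 → P i := stepQ 16782 Q16782 (allL N16782 (tt N9923 (iv1 F41120)) (tt N8202 (iv0 D26018)) (tt N10126 F101301) (tt N33458 D53812) (tt N9052 F94145) (tt N22038 (iv5 F316098)) (tt N33459 D53815) (tt N10127 (iv7 F101309)))
theorem Q16784 : ∀ i, i < 16784 → P i := stepQ 16783 Q16783 (allL N16783 (tt N8202 (iv1 D26019)) (tt N9923 F41121) (tt N10127 (iv2 F101308)) (tt N33460 D53817) (tt N9053 (iv4 F94151)) (tt N22037 (iv5 F316095)) (tt N33461 D53820) (tt N10126 F101307))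
theorem Q16785 : ∀ i, i < 16785 → P i := stepQ 16784 Q16784 (allL N16784 (tt N33462 D53821) (tt N33463 D53822) (tt N10128 F41122) (tt N33450 (iv3 F84795)) (tt N33464 D53823) (tt N8202 (iv5 D26020)) (tt N10456 F41123) (tt N22748 (iv7 F53873)))
theorem Q16786 : ∀ i, i < 16786 → P i := stepQ 16785 Q16785 (allL N16785 (tt N15360 (iv1 F163971)) (tt N9976 (iv0 F163970)) (tt N30163 (iv2 F163974)) (tt N8203 (iv3 D26021)) (tt N33465 D53827) (tt N33466 D53828) (tt N33467 D53829) (tt N10133 F41124))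
theorem Q16787 : ∀ i, i < 16787 → P i := stepQ 16786 Q16786 (allL N16786 (tt N15224 F100814) (tt N10041 F100815) (tt N10130 F41125) (tt N33468 D53832) (tt N8203 (iv4 D26022)) (tt N19521 (iv5 F313743)) (tt N33469 D53834) (tt N10134 F41126))
theorem Q16788 : ∀ i, i < 16788 → P i := stepQ 16787 Q16787 (allL N16787 (tt N20217 F48949) (tt N16678 (iv0 F41129)) (tt N10131 F41127) (tt N33466 (iv3 F84851)) (tt N33470 D53835) (tt N8203 (iv5 D26023)) (tt N18996 (iv6 F46743)) (tt N10135 F41128))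
theorem Q16789 : ∀ i, i < 16789 → P i := stepQ 16788 Q16788 (allL N16788 (tt N10059 (iv1 F48211)) (tt N22720 (iv0 F53768)) (tt N10132 F41130) (tt N33467 (iv3 F84853)) (tt N33469 (iv4 F84861)) (tt N9663 F41131) (tt N8203 (iv6 D26024)) (tt N19616 (iv7 F48015)))
theorem Q16790 : ∀ i, i < 16790 → P i := stepQ 16789 Q16789 (allL N16789 (tt N9926 F168208) (tt N15828 (iv0 F168209)) (tt N31564 (iv2 F168217)) (tt N8204 (iv3 D26025)) (tt N33471 D53839) (tt N33472 D53840) (tt N31709 (iv6 F168223)) (tt N10129 F41132))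
theorem Q16791 : ∀ i, i < 16791 → P i := stepQ 16790 Q16790 (allL N16790 (tt N10041 (iv1 F100812)) (tt N15224 (iv0 F100813)) (tt N10134 F41133) (tt N33473 D53841) (tt N8204 (iv4 D26026)) (tt N19520 (iv5 F313742)) (tt N31918 (iv6 F81732)) (tt N10130 F41134))
theorem Q16792 : ∀ i, i < 16792 → P i := stepQ 16791 Q16791 (allL N16791 (tt N16678 (iv1 F41138)) (tt N20217 (iv0 F48948)) (tt N10135 F41135) (tt N33472 (iv3 F84871)) (tt N33474 D53843) (tt N8204 (iv5 D26027)) (tt N15558 F41136) (tt N10131 F41137))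
theorem Q16793 : ∀ i, i < 16793 → P i := stepQ 16792 Q16792 (allL N16792 (tt N8998 (iv1 F41143)) (tt N9000 F41142) (tt N8205 (iv2 D26028)) (tt N10175 F41139) (tt N19982 (iv4 F48650)) (tt N15685 F41140) (tt N30464 F78606) (tt N9010 F41141))
theorem Q16794 : ∀ i, i < 16794 → P i := stepQ 16793 Q16793 (allL N16793 (tt N9785 F41145) (tt N9815 F41146) (tt N19982 F48651) (tt N20395 (iv3 F49215)) (tt N8205 (iv4 D26029)) (tt N33338 (iv5 F323781)) (tt N33475 D53845) (tt N10168 F41144))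
theorem Q16795 : ∀ i, i < 16795 → P i := stepQ 16794 Q16794 (allL N16794 (tt N30434 F78542) (tt N30465 F78610) (tt N30464 (iv2 F78608)) (tt N8206 F41147) (tt N33475 (iv4 F84883)) (tt N9251 F41148) (tt N8205 (iv6 D26030)) (tt N22776 (iv7 F53935)))
theorem Q16796 : ∀ i, i < 16796 → P i := stepQ 16795 Q16795 (allL N16795 (tt N10272 (iv1 F41149)) (tt N8207 (iv0 D26031)) (tt N10271 F182492) (tt N33476 D53847) (tt N33477 D53848) (tt N20684 (iv5 F180722)) (tt N33478 D53850) (tt N10270 (iv7 F182495)))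
theorem Q16797 : ∀ i, i < 16797 → P i := stepQ 16796 Q16796 (allL N16796 (tt N8207 (iv1 D26032)) (tt N10272 F41153) (tt N10270 (iv2 F182494)) (tt N33479 D53852) (tt N33480 D53853) (tt N20685 (iv5 F180718)) (tt N33481 D53855) (tt N10271 F182493))
theorem Q16798 : ∀ i, i < 16798 → P i := stepQ 16797 Q16797 (allL N16797 (tt N10271 (iv1 F41154)) (tt N10270 F41152) (tt N8207 (iv2 D26033)) (tt N10184 F41150) (tt N30365 (iv4 F78397)) (tt N33451 (iv5 F84799)) (tt N10911 (iv6 F320381)) (tt N10272 F41151))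
theorem Q16799 : ∀ i, i < 16799 → P i := stepQ 16798 Q16798 (allL N16798 (tt N10892 (iv1 F320382)) (tt N10913 (iv0 F320383)) (tt N10911 (iv2 F320380)) (tt N8208 F41155) (tt N30366 (iv4 F78404)) (tt N16816 F318228) (tt N8207 (iv6 D26034)) (tt N10849 F318229))
theorem Q16800 : ∀ i, i < 16800 → P i := stepQ 16799 Q16799 (allL N16799 (tt N29637 (iv1 F101938)) (tt N29612 (iv0 F101925)) (tt N29635 (iv2 F111387)) (tt N8209 (iv3 D26040)) (tt N33482 D53868) (tt N16800 (iv5 F41167)) (tt N22761 (iv6 F53895)) (tt N10188 F49815))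
theorem Q16801 : ∀ i, i < 16801 → P i := stepQ 16800 Q16800 (allL N16800 (tt N9012 (iv1 F101929)) (tt N33483 D53870) (tt N33484 D53871) (tt N8210 (iv3 D26043)) (tt N33485 D53872) (tt N16799 F41167) (tt N33486 D53873) (tt N10186 F49809))
theorem Q16802 : ∀ i, i < 16802 → P i := stepQ 16801 Q16801 (allL N16801 (tt N18381 F45847) (tt N18384 (iv0 F45850)) (tt N10189 F49807) (tt N33486 (iv3 F84921)) (tt N10717 (iv4 F318096)) (tt N22763 (iv5 F53899)) (tt N8210 (iv6 D26045)) (tt N22763 (iv7 F53900)))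
theorem Q16803 : ∀ i, i < 16803 → P i := stepQ 16802 Q16802 (allL N16802 (tt N8212 (iv1 D26047)) (tt N10205 F41177) (tt N10203 F50956) (tt N20949 F49921) (tt N11203 (iv4 F41170)) (tt N10415 F50957) (tt N22813 (iv6 F54470)) (tt N10204 F50958))
theorem Q16804 : ∀ i, i < 16804 → P i := stepQ 16803 Q16803 (allL N16803 (tt N10204 (iv1 F41178)) (tt N10203 F41176) (tt N8212 (iv2 D26048)) (tt N10200 F41172) (tt N10210 F41173) (tt N21211 (iv5 F50349)) (tt N9492 F41174) (tt N10205 F41175))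
theorem Q16805 : ∀ i, i < 16805 → P i := stepQ 16804 Q16804 (allL N16804 (tt N10200 (iv1 F41180)) (tt N8213 (iv0 D26049)) (tt N10199 (iv2 F41179)) (tt N11469 F50653) (tt N32588 (iv4 F83158)) (tt N8279 F41539) (tt N33487 D53874) (tt N10198 F41181))
theorem Q16806 : ∀ i, i < 16806 → P i := stepQ 16805 Q16805 (allL N16805 (tt N10210 (iv1 F41182)) (tt N8214 (iv0 D26050)) (tt N10209 F55527) (tt N33488 D53875) (tt N10504 (iv4 F41183)) (tt N9090 F50824) (tt N33489 D53876) (tt N10208 F55528))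
theorem Q16807 : ∀ i, i < 16807 → P i := stepQ 16806 Q16806 (allL N16806 (tt N8214 (iv1 D26051)) (tt N10210 F41189) (tt N10208 F55512) (tt N23273 F55359) (tt N10505 F54264) (tt N9091 F50886) (tt N15321 F55513) (tt N10209 F55514))
theorem Q16808 : ∀ i, i < 16808 → P i := stepQ 16807 Q16807 (allL N16807 (tt N10209 (iv1 F41190)) (tt N10208 F41188) (tt N8214 (iv2 D26052)) (tt N10215 F41184) (tt N10205 F41185) (tt N18424 (iv5 F50764)) (tt N10613 F41186) (tt N10210 F41187))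
theorem Q16809 : ∀ i, i < 16809 → P i := stepQ 16808 Q16808 (allL N16808 (tt N10288 (iv1 F41192)) (tt N8215 (iv0 D26053)) (tt N10290 (iv2 F41193)) (tt N33490 D53877) (tt N33491 D53878) (tt N8238 F41191) (tt N33492 D53879) (tt N10289 (iv7 F41194)))
theorem Q16810 : ∀ i, i < 16810 → P i := stepQ 16809 Q16809 (allL N16809 (tt N8215 (iv1 D26054)) (tt N10288 F41195) (tt N10289 (iv2 F41198)) (tt N33493 D53880) (tt N33494 D53881) (tt N8239 F41197) (tt N33495 D53882) (tt N10290 F41196))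
theorem Q16811 : ∀ i, i < 16811 → P i := stepQ 16810 Q16810 (allL N16810 (tt N33496 D53883) (tt N33497 D53884) (tt N22887 (iv2 F54589)) (tt N33452 (iv3 F84823)) (tt N8215 (iv4 D26055)) (tt N10317 F41200) (tt N33498 D53885) (tt N10291 F41199))
theorem Q16812 : ∀ i, i < 16812 → P i := stepQ 16811 Q16811 (allL N16811 (tt N33499 D53886) (tt N33500 D53887) (tt N22888 (iv2 F54594)) (tt N8216 F41201) (tt N33498 (iv4 F84973)) (tt N22581 (iv5 F53357)) (tt N8215 (iv6 D26056)) (tt N33501 D53888))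
theorem Q16813 : ∀ i, i < 16813 → P i := stepQ 16812 Q16812 (allL N16812 (tt N10238 (iv1 F41207)) (tt N8216 (iv0 D26057)) (tt N10236 (iv2 F182718)) (tt N29739 F316391) (tt N9048 F316392) (tt N33502 D53892) (tt N33503 D53893) (tt N10237 (iv7 F182723)))
theorem Q16814 : ∀ i, i < 16814 → P i := stepQ 16813 Q16813 (allL N16813 (tt N8216 (iv1 D26058)) (tt N10238 F41202) (tt N10237 F182726) (tt N33504 D53895) (tt N20499 (iv4 F105658)) (tt N33505 D53897) (tt N33506 D53898) (tt N10236 F182727))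
theorem Q16815 : ∀ i, i < 16815 → P i := stepQ 16814 Q16814 (allL N16814 (tt N10237 (iv1 F41208)) (tt N10236 F41209) (tt N10238 F41205) (tt N33501 (iv3 F84975)) (tt N17006 (iv4 F311234)) (tt N10051 F312226) (tt N10296 F41206) (tt N8216 (iv7 D26060)))
theorem Q16816 : ∀ i, i < 16816 → P i := stepQ 16815 Q16815 (allL N16815 (tt N33489 (iv1 F84941)) (tt N15328 (iv0 F79145)) (tt N33507 D53902) (tt N8217 (iv3 D26061)) (tt N10246 F41210) (tt N17059 (iv5 F42055)) (tt N22578 (iv6 F53344)) (tt N10239 F41211))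
theorem Q16817 : ∀ i, i < 16817 → P i := stepQ 16816 Q16816 (allL N16816 (tt N22807 F54459) (tt N22813 F54471) (tt N22272 (iv2 F54111)) (tt N8219 (iv3 D26063)) (tt N10239 F41216) (tt N16798 (iv5 F318228)) (tt N8308 F41217) (tt N10246 F41218))
theorem Q16818 : ∀ i, i < 16818 → P i := stepQ 16817 Q16817 (allL N16817 (tt N33487 F84927) (tt N17346 (iv0 F42831)) (tt N33508 D53904) (tt N8220 (iv3 D26064)) (tt N32434 (iv4 F82838)) (tt N17147 (iv5 F42356)) (tt N22138 F52520) (tt N10245 F41219))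
theorem Q16819 : ∀ i, i < 16819 → P i := stepQ 16818 Q16818 (allL N16818 (tt N18638 (iv1 F46311)) (tt N18637 F46309) (tt N10139 F41220) (tt N33509 D53905) (tt N8221 (iv4 D26065)) (tt N33510 D53906) (tt N33511 D53907) (tt N9182 F41221))
theorem Q16820 : ∀ i, i < 16820 → P i := stepQ 16819 Q16819 (allL N16819 (tt N29703 F168096) (tt N32117 F82368) (tt N10140 F41222) (tt N32057 (iv3 F82190)) (tt N33511 (iv4 F85008)) (tt N16819 F41223) (tt N8221 (iv6 D26066)) (tt N16149 F41224))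
theorem Q16821 : ∀ i, i < 16821 → P i := stepQ 16820 Q16820 (allL N16820 (tt N19865 (iv1 F48474)) (tt N20050 (iv0 F48765)) (tt N10149 F41225) (tt N33512 D53908) (tt N8222 (iv4 D26067)) (tt N33513 D53909) (tt N33514 D53910) (tt N10146 F41226))
theorem Q16822 : ∀ i, i < 16822 → P i := stepQ 16821 Q16821 (allL N16821 (tt N16144 F41229) (tt N22770 F53926) (tt N10150 F41227) (tt N30825 (iv3 F79553)) (tt N33514 (iv4 F85016)) (tt N9206 F41228) (tt N8222 (iv6 D26068)) (tt N22769 (iv7 F53919)))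
theorem Q16823 : ∀ i, i < 16823 → P i := stepQ 16822 Q16822 (allL N16822 (tt N15750 (iv1 F41234)) (tt N9005 (iv0 F41233)) (tt N30823 (iv2 F79546)) (tt N8223 (iv3 D26069)) (tt N16604 F41232) (tt N8897 F41230) (tt N33515 D53911) (tt N10148 F41231))
theorem Q16824 : ∀ i, i < 16824 → P i := stepQ 16823 Q16823 (allL N16823 (tt N20050 (iv1 F48766)) (tt N19865 (iv0 F48473)) (tt N10146 F41235) (tt N33516 D53912) (tt N8223 (iv4 D26070)) (tt N33517 D53913) (tt N33518 D53914) (tt N10149 F41236))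
theorem Q16825 : ∀ i, i < 16825 → P i := stepQ 16824 Q16824 (allL N16824 (tt N32094 (iv1 F168055)) (tt N33519 D53916) (tt N10147 F41237) (tt N33515 (iv3 F85018)) (tt N33518 (iv4 F85027)) (tt N8901 F41238) (tt N8223 (iv6 D26071)) (tt N33520 D53917))
theorem Q16826 : ∀ i, i < 16826 → P i := stepQ 16825 Q16825 (allL N16825 (tt N10141 (iv1 F41240)) (tt N8224 (iv0 D26072)) (tt N10152 (iv2 F41241)) (tt N33521 D53918) (tt N9808 F41239) (tt N33522 D53919) (tt N33523 D53920) (tt N10151 (iv7 F41242)))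
theorem Q16827 : ∀ i, i < 16827 → P i := stepQ 16826 Q16826 (allL N16826 (tt N8224 (iv1 D26073)) (tt N10141 F41243) (tt N10151 (iv2 F41246)) (tt N33524 D53921) (tt N9809 F41245) (tt N33525 D53922) (tt N33526 D53923) (tt N10152 F41244))
theorem Q16828 : ∀ i, i < 16828 → P i := stepQ 16827 Q16827 (allL N16827 (tt N33527 D53924) (tt N33528 D53925) (tt N33529 D53926) (tt N8224 (iv3 D26074)) (tt N8228 F41247) (tt N33530 D53927) (tt N33531 D53928) (tt N10153 F41248))
theorem Q16829 : ∀ i, i < 16829 → P i := stepQ 16828 Q16828 (allL N16828 (tt N32210 (iv1 F82542)) (tt N33532 D53929) (tt N20821 (iv2 F49652)) (tt N33530 (iv3 F85058)) (tt N20789 (iv4 F49617)) (tt N8224 (iv5 D26075)) (tt N33533 D53930) (tt N10154 F41249))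
theorem Q16830 : ∀ i, i < 16830 → P i := stepQ 16829 Q16829 (allL N16829 (tt N33534 D53931) (tt N32326 (iv0 F82709)) (tt N30382 (iv2 F78421)) (tt N33531 (iv3 F85060)) (tt N8225 F41250) (tt N33535 D53932) (tt N8224 (iv6 D26076)) (tt N33536 D53933))
theorem Q16831 : ∀ i, i < 16831 → P i := stepQ 16830 Q16830 (allL N16830 (tt N30384 (iv1 F78433)) (tt N8225 (iv0 D26077)) (tt N30383 (iv2 F78430)) (tt N30885 (iv3 F101678)) (tt N33537 D53935) (tt N18162 F78431) (tt N33538 D53936) (tt N18161 F78432))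
theorem Q16832 : ∀ i, i < 16832 → P i := stepQ 16831 Q16831 (allL N16831 (tt N8225 (iv1 D26078)) (tt N30384 F78427) (tt N18161 (iv2 F45397)) (tt N33539 D53937) (tt N33540 D53938) (tt N14895 (iv5 F41252)) (tt N15160 (iv6 F41251)) (tt N30383 (iv7 F78428)))
theorem Q16833 : ∀ i, i < 16833 → P i := stepQ 16832 Q16832 (allL N16832 (tt N18161 (iv1 F45400)) (tt N30383 F78426) (tt N30384 (iv2 F78423)) (tt N8232 F41253) (tt N33536 (iv4 F85067)) (tt N31299 (iv5 F80357)) (tt N10159 F41254) (tt N8225 (iv7 D26079)))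
theorem Q16834 : ∀ i, i < 16834 → P i := stepQ 16833 Q16833 (allL N16833 (tt N10184 (iv1 F41255)) (tt N8228 (iv0 D26080)) (tt N10183 F183013) (tt N33541 D53940) (tt N33542 D53941) (tt N20652 (iv5 F181596)) (tt N33543 D53943) (tt N10182 (iv7 F183016)))
theorem Q16835 : ∀ i, i < 16835 → P i := stepQ 16834 Q16834 (allL N16834 (tt N8228 (iv1 D26081)) (tt N10184 F41259) (tt N10182 (iv2 F183015)) (tt N33544 D53945) (tt N33545 D53946) (tt N20653 (iv5 F181599)) (tt N33546 D53948) (tt N10183 F183014))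
theorem Q16836 : ∀ i, i < 16836 → P i := stepQ 16835 Q16835 (allL N16835 (tt N10183 (iv1 F41260)) (tt N10182 F41258) (tt N8228 (iv2 D26082)) (tt N10272 F41256) (tt N33529 (iv4 F85054)) (tt N33442 F319499) (tt N33547 D53949) (tt N10184 F41257))
theorem Q16837 : ∀ i, i < 16837 → P i := stepQ 16836 Q16836 (allL N16836 (tt N33548 D53950) (tt N33549 D53951) (tt N33547 (iv2 F85079)) (tt N8229 F41261) (tt N33531 (iv4 F85061)) (tt N33550 D53952) (tt N8228 (iv6 D26083)) (tt N33551 D53953))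
theorem Q16838 : ∀ i, i < 16838 → P i := stepQ 16837 Q16837 (allL N16837 (tt N33552 D53954) (tt N12459 (iv0 F316185)) (tt N10274 F41263) (tt N33550 (iv3 F85081)) (tt N33553 D53956) (tt N8229 (iv5 D26086)) (tt N33453 (iv6 F84829)) (tt N33554 D53957))
theorem Q16839 : ∀ i, i < 16839 → P i := stepQ 16838 Q16838 (allL N16838 (tt N10022 (iv1 F47638)) (tt N10019 (iv0 F47639)) (tt N10275 F41264) (tt N33551 (iv3 F85082)) (tt N8232 F41265) (tt N33554 (iv5 F85089)) (tt N8398 (iv6 F316110)) (tt N8229 (iv7 D26087)))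
theorem Q16840 : ∀ i, i < 16840 → P i := stepQ 16839 Q16839 (allL N16839 (tt N33555 D53958) (tt N9021 F85100) (tt N33556 D53959) (tt N8230 (iv3 D26088)) (tt N33557 D53960) (tt N18190 (iv5 F45441)) (tt N33558 D53961) (tt N10279 F41270))
theorem Q16841 : ∀ i, i < 16841 → P i := stepQ 16840 Q16840 (allL N16840 (tt N19245 (iv1 F47167)) (tt N19244 F47166) (tt N10278 F41273) (tt N33558 (iv3 F85108)) (tt N20502 (iv4 F49359)) (tt N9248 F41274) (tt N8230 (iv6 D26090)) (tt N9247 F41275))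
theorem Q16842 : ∀ i, i < 16842 → P i := stepQ 16841 Q16841 (allL N16841 (tt N29614 F76809) (tt N29645 F76886) (tt N29644 (iv2 F76880)) (tt N8231 (iv3 D26091)) (tt N33559 D53962) (tt N8917 F41276) (tt N15275 F41277) (tt N10276 F41278))
theorem Q16843 : ∀ i, i < 16843 → P i := stepQ 16842 Q16842 (allL N16842 (tt N32095 F82320) (tt N33560 D53963) (tt N33561 D53964) (tt N8233 (iv3 D26094)) (tt N16274 F41283) (tt N21103 F50407) (tt N8318 F50408) (tt N10219 F50457))
theorem Q16844 : ∀ i, i < 16844 → P i := stepQ 16843 Q16843 (allL N16843 (tt N23279 F55392) (tt N33488 (iv0 F84931)) (tt N33562 D53965) (tt N8234 (iv3 D26099)) (tt N23844 (iv4 F56604)) (tt N21106 (iv5 F50613)) (tt N22780 (iv6 F53939)) (tt N10223 F50477))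
theorem Q16845 : ∀ i, i < 16845 → P i := stepQ 16844 Q16844 (allL N16844 (tt N20914 F49918) (tt N23286 F55390) (tt N10220 F50478) (tt N9060 (iv3 F41285)) (tt N8234 (iv4 D26100)) (tt N33563 D53966) (tt N22781 (iv6 F53942)) (tt N10224 F50479))
theorem Q16846 : ∀ i, i < 16846 → P i := stepQ 16845 Q16845 (allL N16845 (tt N10229 (iv1 F41289)) (tt N10228 F41290) (tt N8236 F41286) (tt N10288 F41287) (tt N32791 (iv4 F311995)) (tt N8235 (iv5 D26103)) (tt N32790 F309785) (tt N10226 F41288))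
theorem Q16847 : ∀ i, i < 16847 → P i := stepQ 16846 Q16846 (allL N16846 (tt N10226 (iv1 F41291)) (tt N8236 (iv0 D26104)) (tt N10229 (iv2 F50446)) (tt N33564 D53969) (tt N33565 D53970) (tt N8244 F50426) (tt N33566 D53971) (tt N10228 F50445))
theorem Q16848 : ∀ i, i < 16848 → P i := stepQ 16847 Q16847 (allL N16847 (tt N8236 (iv1 D26105)) (tt N10226 F41292) (tt N10228 F50443) (tt N33567 D53972) (tt N33568 D53973) (tt N8245 F50429) (tt N33569 D53974) (tt N10229 (iv7 F50447)))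
theorem Q16849 : ∀ i, i < 16849 → P i := stepQ 16848 Q16848 (allL N16848 (tt N8237 (iv1 D26109)) (tt N10296 F41295) (tt N10294 (iv2 F131099)) (tt N27498 (iv3 F305316)) (tt N10327 (iv4 F307191)) (tt N13851 F305257) (tt N33570 D53991) (tt N10293 (iv7 F131105)))
theorem Q16850 : ∀ i, i < 16850 → P i := stepQ 16849 Q16849 (allL N16849 (tt N9085 F45944) (tt N29709 F77040) (tt N21177 (iv2 F50269)) (tt N8238 (iv3 D26111)) (tt N16896 F41503) (tt N33490 (iv5 F84942)) (tt N8349 F41301) (tt N10315 F41302))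
theorem Q16851 : ∀ i, i < 16851 → P i := stepQ 16850 Q16850 (allL N16850 (tt N9082 F41306) (tt N9086 F45943) (tt N21285 (iv2 F50718)) (tt N8239 (iv3 D26112)) (tt N10323 F41303) (tt N33493 (iv5 F84952)) (tt N8331 F41304) (tt N10314 F41305))
theorem Q16852 : ∀ i, i < 16852 → P i := stepQ 16851 Q16851 (allL N16851 (tt N11217 F41309) (tt N21511 F51425) (tt N10317 F41307) (tt N33404 (iv3 F84708)) (tt N8240 (iv4 D26113)) (tt N22887 (iv5 F54590)) (tt N33571 D53992) (tt N10325 F41308))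
theorem Q16853 : ∀ i, i < 16853 → P i := stepQ 16852 Q16852 (allL N16852 (tt N33572 D53993) (tt N33573 D53994) (tt N10312 F41310) (tt N8241 F41311) (tt N33571 (iv4 F85172)) (tt N8241 F41312) (tt N8240 (iv6 D26114)) (tt N33574 D53995))
theorem Q16854 : ∀ i, i < 16854 → P i := stepQ 16853 Q16853 (allL N16853 (tt N10313 (iv1 F41316)) (tt N8241 (iv0 D26115)) (tt N10310 F131513) (tt N33575 D53997) (tt N8303 (iv4 F312982)) (tt N33576 D53999) (tt N8307 F311511) (tt N10311 F131514))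
theorem Q16855 : ∀ i, i < 16855 → P i := stepQ 16854 Q16854 (allL N16854 (tt N8241 (iv1 D26116)) (tt N10313 F41313) (tt N10311 (iv2 F131506)) (tt N33577 D54002) (tt N10574 F313314) (tt N33578 D54004) (tt N33579 D54005) (tt N10310 (iv7 F131512)))
theorem Q16856 : ∀ i, i < 16856 → P i := stepQ 16855 Q16855 (allL N16855 (tt N10311 (iv1 F41317)) (tt N10310 F41318) (tt N10313 F41314) (tt N33574 (iv3 F85176)) (tt N10984 (iv4 F313409)) (tt N33574 (iv5 F85177)) (tt N10331 F41315) (tt N8241 (iv7 D26117)))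
theorem Q16857 : ∀ i, i < 16857 → P i := stepQ 16856 Q16856 (allL N16856 (tt N10491 F41321) (tt N10489 F41322) (tt N10322 F41319) (tt N21284 (iv3 F50716)) (tt N33496 (iv4 F84964)) (tt N8242 (iv5 D26118)) (tt N33580 D54006) (tt N10324 F41320))
theorem Q16858 : ∀ i, i < 16858 → P i := stepQ 16857 Q16857 (allL N16857 (tt N10489 F41326) (tt N10491 F41327) (tt N10324 F41323) (tt N10366 F41324) (tt N33497 (iv4 F84971)) (tt N8243 (iv5 D26119)) (tt N33581 D54007) (tt N10322 F41325))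
theorem Q16859 : ∀ i, i < 16859 → P i := stepQ 16858 Q16858 (allL N16858 (tt N29707 F77025) (tt N29718 F77076) (tt N21243 (iv2 F50390)) (tt N8244 (iv3 D26121)) (tt N16296 F41329) (tt N33564 (iv5 F85143)) (tt N8335 (iv6 F41330)) (tt N10297 (iv7 F41363)))
theorem Q16860 : ∀ i, i < 16860 → P i := stepQ 16859 Q16859 (allL N16859 (tt N32509 (iv1 F83045)) (tt N9081 (iv0 F41376)) (tt N32507 F83036) (tt N8245 (iv3 D26123)) (tt N16917 (iv4 F41561)) (tt N33567 (iv5 F85149)) (tt N22095 (iv6 F52475)) (tt N10299 F41375))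
theorem Q16861 : ∀ i, i < 16861 → P i := stepQ 16860 Q16860 (allL N16860 (tt N8339 (iv1 F41381)) (tt N8344 F41382) (tt N8342 F41379) (tt N22095 (iv3 F52474)) (tt N21161 (iv4 F50244)) (tt N33582 D54008) (tt N8245 (iv6 D26125)) (tt N8337 F41380))
theorem Q16862 : ∀ i, i < 16862 → P i := stepQ 16861 Q16861 (allL N16861 (tt N10303 (iv1 F41386)) (tt N10302 F41389) (tt N8247 F41383) (tt N10318 F41384) (tt N33583 D54009) (tt N8246 (iv5 D26126)) (tt N33584 D54010) (tt N10301 F41385))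
theorem Q16863 : ∀ i, i < 16863 → P i := stepQ 16862 Q16862 (allL N16862 (tt N9368 F46890) (tt N9368 F46891) (tt N8248 F41390) (tt N8251 F41391) (tt N16862 F41392) (tt N21618 (iv5 F51588)) (tt N8246 (iv6 D26127)) (tt N8248 F41393))
theorem Q16864 : ∀ i, i < 16864 → P i := stepQ 16863 Q16863 (allL N16863 (tt N33585 D54011) (tt N33586 D54012) (tt N33583 (iv2 F85195)) (tt N33379 (iv3 F84657)) (tt N8247 (iv4 D26129)) (tt N33587 D54013) (tt N33588 D54014) (tt N10304 F41397))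
theorem Q16865 : ∀ i, i < 16865 → P i := stepQ 16864 Q16864 (allL N16864 (tt N33589 D54015) (tt N33590 D54016) (tt N33584 (iv2 F85199)) (tt N8249 F41398) (tt N33588 (iv4 F85210)) (tt N33591 D54017) (tt N8247 (iv6 D26130)) (tt N33592 D54018))
theorem Q16866 : ∀ i, i < 16866 → P i := stepQ 16865 Q16865 (allL N16865 (tt N8248 (iv1 F41400)) (tt N8248 (iv0 D26131)) (tt N9368 F50565) (tt N33593 D54019) (tt N21309 (iv4 F54356)) (tt N10565 F41399) (tt N9364 (iv6 F50567)) (tt N9368 F50566))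
theorem Q16867 : ∀ i, i < 16867 → P i := stepQ 16866 Q16866 (allL N16866 (tt N21589 F51558) (tt N21589 (iv0 F51557)) (tt N21618 F51590) (tt N8250 F41402) (tt N13819 (iv4 F41403)) (tt N8248 (iv5 D26132)) (tt N33591 (iv6 F85212)) (tt N21618 F51592))
theorem Q16868 : ∀ i, i < 16868 → P i := stepQ 16867 Q16867 (allL N16867 (tt N10331 (iv1 F41409)) (tt N8249 (iv0 D26133)) (tt N10328 F77379) (tt N33594 D54020) (tt N20574 F105863) (tt N16716 F315571) (tt N16719 F315572) (tt N10329 F77380))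
theorem Q16869 : ∀ i, i < 16869 → P i := stepQ 16868 Q16868 (allL N16868 (tt N8249 (iv1 D26134)) (tt N10331 F41404) (tt N10329 F77377) (tt N33595 D54024) (tt N20575 F105858) (tt N20576 (iv5 F315754)) (tt N29816 (iv6 F77376)) (tt N10328 F77378))
theorem Q16870 : ∀ i, i < 16870 → P i := stepQ 16869 Q16869 (allL N16869 (tt N33596 D54027) (tt N33597 D54028) (tt N10330 F41405) (tt N33591 (iv3 F85211)) (tt N21842 (iv4 F52030)) (tt N8249 (iv5 D26135)) (tt N8250 F41406) (tt N33598 D54029))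
theorem Q16871 : ∀ i, i < 16871 → P i := stepQ 16870 Q16870 (allL N16870 (tt N10329 (iv1 F41410)) (tt N10328 F41411) (tt N10331 F41407) (tt N33592 (iv3 F85214)) (tt N33386 (iv4 F84667)) (tt N33598 (iv5 F85236)) (tt N10313 F41408) (tt N8249 (iv7 D26136)))
theorem Q16872 : ∀ i, i < 16872 → P i := stepQ 16871 Q16871 (allL N16871 (tt N10372 (iv1 F41416)) (tt N8277 (iv0 F41415)) (tt N10381 F41579) (tt N8252 (iv3 D26137)) (tt N32486 (iv4 F82939)) (tt N11497 F41412) (tt N8365 F41413) (tt N9342 F41414))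
theorem Q16873 : ∀ i, i < 16873 → P i := stepQ 16872 Q16872 (allL N16872 (tt N29719 F77081) (tt N32504 (iv0 F83025)) (tt N10368 F41417) (tt N10321 F41418) (tt N8253 (iv4 D26138)) (tt N33599 D54030) (tt N10723 F41419) (tt N10365 F41420))
theorem Q16874 : ∀ i, i < 16874 → P i := stepQ 16873 Q16873 (allL N16873 (tt N10444 (iv1 F41425)) (tt N8285 (iv0 F41424)) (tt N10369 F41421) (tt N10322 F41422) (tt N33600 D54031) (tt N8253 (iv5 D26139)) (tt N33601 D54032) (tt N10366 F41423))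
theorem Q16875 : ∀ i, i < 16875 → P i := stepQ 16874 Q16874 (allL N16874 (tt N32504 F83026) (tt N29719 (iv0 F77080)) (tt N10365 F41426) (tt N16895 (iv3 F41495)) (tt N8254 (iv4 D26140)) (tt N33602 D54033) (tt N8359 F41427) (tt N10368 F41428))
theorem Q16876 : ∀ i, i < 16876 → P i := stepQ 16875 Q16875 (allL N16875 (tt N8285 (iv1 F41432)) (tt N10444 (iv0 F41431)) (tt N10366 F41429) (tt N21286 (iv3 F50725)) (tt N33603 D54034) (tt N8254 (iv5 D26141)) (tt N33604 D54035) (tt N10369 F41430))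
theorem Q16877 : ∀ i, i < 16877 → P i := stepQ 16876 Q16876 (allL N16876 (tt N10378 (iv1 F41436)) (tt N10377 F41439) (tt N8256 F41433) (tt N10342 F41434) (tt N33605 D54036) (tt N8255 (iv5 D26142)) (tt N33606 D54037) (tt N10371 F41435))
theorem Q16878 : ∀ i, i < 16878 → P i := stepQ 16877 Q16877 (allL N16877 (tt N8256 (iv1 D26143)) (tt N10371 F41443) (tt N10377 (iv2 F41445)) (tt N21288 F51022) (tt N33607 D54038) (tt N9071 (iv5 F41446)) (tt N33608 D54039) (tt N10378 F41444))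
theorem Q16879 : ∀ i, i < 16879 → P i := stepQ 16878 Q16878 (allL N16878 (tt N33609 D54040) (tt N33610 D54041) (tt N33605 (iv2 F85254)) (tt N33362 (iv3 F84570)) (tt N8256 (iv4 D26144)) (tt N33611 D54042) (tt N33612 D54043) (tt N10379 F41447))
theorem Q16880 : ∀ i, i < 16880 → P i := stepQ 16879 Q16879 (allL N16879 (tt N33613 D54044) (tt N33614 D54045) (tt N33606 (iv2 F85258)) (tt N8258 F41448) (tt N33612 (iv4 F85272)) (tt N33615 D54046) (tt N8256 (iv6 D26145)) (tt N33616 D54047))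
theorem Q16881 : ∀ i, i < 16881 → P i := stepQ 16880 Q16880 (allL N16880 (tt N10354 F41452) (tt N20907 (iv0 F49867)) (tt N8273 F41449) (tt N8259 F41450) (tt N33617 D54048) (tt N8257 (iv5 D26146)) (tt N33615 (iv6 F85275)) (tt N8276 F41451))
theorem Q16882 : ∀ i, i < 16882 → P i := stepQ 16881 Q16881 (allL N16881 (tt N10361 (iv1 F41459)) (tt N8258 (iv0 D26147)) (tt N10358 F105982) (tt N33618 D54050) (tt N8454 (iv4 F312991)) (tt N33619 D54052) (tt N8547 F310759) (tt N10359 F105983))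
theorem Q16883 : ∀ i, i < 16883 → P i := stepQ 16882 Q16882 (allL N16882 (tt N8258 (iv1 D26148)) (tt N10361 F41454) (tt N10359 (iv2 F105975)) (tt N33620 D54055) (tt N10985 F312974) (tt N33621 D54057) (tt N33622 D54058) (tt N10358 (iv7 F105981)))
theorem Q16884 : ∀ i, i < 16884 → P i := stepQ 16883 Q16883 (allL N16883 (tt N33623 D54059) (tt N33624 D54060) (tt N10360 F41455) (tt N33615 (iv3 F85274)) (tt N25046 (iv4 F317218)) (tt N8258 (iv5 D26149)) (tt N8259 F41456) (tt N33625 D54062))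
theorem Q16885 : ∀ i, i < 16885 → P i := stepQ 16884 Q16884 (allL N16884 (tt N10359 (iv1 F41460)) (tt N10358 F41461) (tt N10361 F41457) (tt N33616 (iv3 F85276)) (tt N16994 (iv4 F313317)) (tt N33625 (iv5 F85289)) (tt N10386 F41458) (tt N8258 (iv7 D26150)))
theorem Q16886 : ∀ i, i < 16886 → P i := stepQ 16885 Q16885 (allL N16885 (tt N10509 F41463) (tt N21135 (iv0 F50191)) (tt N10363 F41462) (tt N33626 D54063) (tt N8259 (iv4 D26151)) (tt N22881 (iv5 F54576)) (tt N25046 F319441) (tt N21508 (iv7 F51416)))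
theorem Q16887 : ∀ i, i < 16887 → P i := stepQ 16886 Q16886 (allL N16886 (tt N29712 F77056) (tt N29870 (iv0 F77502)) (tt N10339 F41464) (tt N21099 (iv3 F50127)) (tt N8261 (iv4 D26152)) (tt N33627 D54064) (tt N8375 F41465) (tt N10335 F41466))
theorem Q16888 : ∀ i, i < 16888 → P i := stepQ 16887 Q16887 (allL N16887 (tt N10437 F50511) (tt N8287 F50512) (tt N10340 F41467) (tt N21100 (iv3 F50133)) (tt N33628 D54065) (tt N8261 (iv5 D26153)) (tt N33629 D54066) (tt N10336 F41468))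
theorem Q16889 : ∀ i, i < 16889 → P i := stepQ 16888 Q16888 (allL N16888 (tt N10353 (iv1 F41546)) (tt N8271 F41545) (tt N10351 F41469) (tt N8262 (iv3 D26154)) (tt N29710 (iv4 F77042)) (tt N33630 D54067) (tt N8391 F42231) (tt N10338 F41470))
theorem Q16890 : ∀ i, i < 16890 → P i := stepQ 16889 Q16889 (allL N16889 (tt N29870 F77501) (tt N29712 (iv0 F77055)) (tt N10335 F41473) (tt N26513 F65418) (tt N8262 (iv4 D26155)) (tt N33631 D54068) (tt N29771 (iv6 F77254)) (tt N10339 F41474))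
theorem Q16891 : ∀ i, i < 16891 → P i := stepQ 16890 Q16890 (allL N16890 (tt N8287 F50513) (tt N10437 F50514) (tt N10336 F41475) (tt N33630 (iv3 F85301)) (tt N33632 D54069) (tt N8262 (iv5 D26156)) (tt N33633 D54070) (tt N10340 F41476))
theorem Q16892 : ∀ i, i < 16892 → P i := stepQ 16891 Q16891 (allL N16891 (tt N8469 (iv1 F41479)) (tt N10735 F41480) (tt N10337 F41477) (tt N8391 F42230) (tt N29771 F77252) (tt N33634 D54071) (tt N8262 (iv6 D26157)) (tt N8380 F41478))
theorem Q16893 : ∀ i, i < 16893 → P i := stepQ 16892 Q16892 (allL N16892 (tt N10344 F41484) (tt N10343 F41486) (tt N8264 F41481) (tt N13238 F41482) (tt N8263 (iv4 D26158)) (tt N33635 D54072) (tt N13236 (iv6 F41485)) (tt N10341 F41483))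
theorem Q16894 : ∀ i, i < 16894 → P i := stepQ 16893 Q16893 (allL N16893 (tt N10348 (iv1 F41490)) (tt N10347 F41491) (tt N8265 F41487) (tt N10371 F41488) (tt N33636 D54073) (tt N8263 (iv5 D26159)) (tt N33637 D54074) (tt N10342 F41489))
theorem Q16895 : ∀ i, i < 16895 → P i := stepQ 16894 Q16894 (allL N16894 (tt N30509 F78735) (tt N10774 (iv0 F52345)) (tt N8266 F41492) (tt N10372 F41493) (tt N13236 F41494) (tt N23336 (iv5 F55635)) (tt N8263 (iv6 D26160)) (tt N26916 (iv7 F68238)))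
theorem Q16896 : ∀ i, i < 16896 → P i := stepQ 16895 Q16895 (allL N16895 (tt N10341 (iv1 F41496)) (tt N8264 (iv0 D26161)) (tt N10344 F41499) (tt N16874 F41495) (tt N18429 (iv4 F45964)) (tt N33638 D54075) (tt N8384 (iv6 F41497)) (tt N10343 (iv7 F41498)))
theorem Q16897 : ∀ i, i < 16897 → P i := stepQ 16896 Q16896 (allL N16896 (tt N8264 (iv1 D26162)) (tt N10341 F41500) (tt N10343 F41505) (tt N16306 (iv3 F41502)) (tt N16849 (iv4 F41503)) (tt N33639 D54076) (tt N16435 F41504) (tt N10344 F41501))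
theorem Q16898 : ∀ i, i < 16898 → P i := stepQ 16897 Q16897 (allL N16897 (tt N33640 D54077) (tt N23208 (iv0 F55203)) (tt N33635 (iv2 F85318)) (tt N14720 F41506) (tt N33641 D54078) (tt N8264 (iv5 D26163)) (tt N33642 D54079) (tt N10345 F41507))
theorem Q16899 : ∀ i, i < 16899 → P i := stepQ 16898 Q16898 (allL N16898 (tt N26915 (iv1 F68229)) (tt N21158 (iv0 F50226)) (tt N13236 F41508) (tt N14721 F41509) (tt N8266 F41510) (tt N13234 (iv5 F41511)) (tt N8264 (iv6 D26164)) (tt N26913 (iv7 F68222)))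
theorem Q16900 : ∀ i, i < 16900 → P i := stepQ 16899 Q16899 (allL N16899 (tt N10342 (iv1 F41512)) (tt N8265 (iv0 D26165)) (tt N10348 (iv2 F50312)) (tt N33563 (iv3 F85132)) (tt N33643 D54080) (tt N9060 F50546) (tt N33644 D54081) (tt N10347 (iv7 F50313)))
theorem Q16901 : ∀ i, i < 16901 → P i := stepQ 16900 Q16900 (allL N16900 (tt N8265 (iv1 D26166)) (tt N10342 F41513) (tt N10347 F50310) (tt N17539 (iv3 F43634)) (tt N33645 D54082) (tt N9061 F50532) (tt N33646 D54083) (tt N10348 F50311))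
theorem Q16902 : ∀ i, i < 16902 → P i := stepQ 16901 Q16901 (allL N16901 (tt N33647 D54084) (tt N23283 (iv0 F55384)) (tt N33636 (iv2 F85324)) (tt N33320 (iv3 F84450)) (tt N8265 (iv4 D26167)) (tt N33648 D54085) (tt N33649 D54086) (tt N10349 F41514))
theorem Q16903 : ∀ i, i < 16903 → P i := stepQ 16902 Q16902 (allL N16902 (tt N33650 D54087) (tt N33651 D54088) (tt N33637 (iv2 F85328)) (tt N8267 F41515) (tt N33649 (iv4 F85361)) (tt N33652 D54089) (tt N8265 (iv6 D26168)) (tt N33653 D54090))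
theorem Q16904 : ∀ i, i < 16904 → P i := stepQ 16903 Q16903 (allL N16903 (tt N26916 F68240) (tt N8266 (iv0 D26169)) (tt N30509 (iv2 F78729)) (tt N19072 F46893) (tt N33654 D54091) (tt N11493 (iv5 F55581)) (tt N15318 (iv6 F46895)) (tt N10774 (iv7 F50593)))
theorem Q16905 : ∀ i, i < 16905 → P i := stepQ 16904 Q16904 (allL N16904 (tt N8266 (iv1 D26170)) (tt N26916 (iv0 F68239)) (tt N10774 F55480) (tt N30509 (iv3 F78730)) (tt N14034 (iv4 F41516)) (tt N11494 F55481) (tt N10746 F55482) (tt N30509 (iv7 F78732)))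
theorem Q16906 : ∀ i, i < 16906 → P i := stepQ 16905 Q16905 (allL N16905 (tt N23328 (iv1 F55605)) (tt N23325 (iv0 F55591)) (tt N23336 F55636) (tt N8268 F41517) (tt N33655 D54092) (tt N8266 (iv5 D26171)) (tt N33652 (iv6 F85363)) (tt N21682 (iv7 F51682)))
theorem Q16907 : ∀ i, i < 16907 → P i := stepQ 16906 Q16906 (allL N16906 (tt N10774 F52344) (tt N30509 (iv0 F78733)) (tt N26916 (iv2 F68235)) (tt N8269 F41518) (tt N26913 (iv4 F68223)) (tt N21682 (iv5 F51681)) (tt N10353 F41519) (tt N8266 (iv7 D26172)))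
theorem Q16908 : ∀ i, i < 16908 → P i := stepQ 16907 Q16907 (allL N16907 (tt N10386 (iv1 F41525)) (tt N8267 (iv0 D26173)) (tt N10383 F53269) (tt N33656 D54093) (tt N33384 (iv4 F110656)) (tt N10092 F316219) (tt N10093 F316220) (tt N10384 F53270))
theorem Q16909 : ∀ i, i < 16909 → P i := stepQ 16908 Q16908 (allL N16908 (tt N8267 (iv1 D26174)) (tt N10386 F41520) (tt N10384 F53264) (tt N33657 D54097) (tt N33385 (iv4 F110652)) (tt N33386 F317449) (tt N11010 F53265) (tt N10383 F53266))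
theorem Q16910 : ∀ i, i < 16910 → P i := stepQ 16909 Q16909 (allL N16909 (tt N33457 F313440) (tt N33658 D54101) (tt N10385 F41521) (tt N33652 (iv3 F85362)) (tt N33659 D54102) (tt N8267 (iv5 D26175)) (tt N8268 F41522) (tt N33660 D54103))
theorem Q16911 : ∀ i, i < 16911 → P i := stepQ 16910 Q16910 (allL N16910 (tt N10384 (iv1 F41526)) (tt N10383 F41527) (tt N10386 F41523) (tt N33653 (iv3 F85364)) (tt N21153 (iv4 F317418)) (tt N33660 (iv5 F85395)) (tt N10361 F41524) (tt N8267 (iv7 D26176)))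
theorem Q16912 : ∀ i, i < 16912 → P i := stepQ 16911 Q16911 (allL N16911 (tt N10449 F309355) (tt N8288 F309356) (tt N10387 F41528) (tt N33661 D54104) (tt N8268 (iv4 D26177)) (tt N17197 (iv5 F42480)) (tt N33659 (iv6 F85393)) (tt N10447 F309357))
theorem Q16913 : ∀ i, i < 16913 → P i := stepQ 16912 Q16912 (allL N16912 (tt N8280 (iv1 F41534)) (tt N8279 F41538) (tt N8283 F41531) (tt N10389 F41532) (tt N33662 D54105) (tt N8270 (iv5 D26178)) (tt N33663 D54106) (tt N8278 F41533))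
theorem Q16914 : ∀ i, i < 16914 → P i := stepQ 16913 Q16913 (allL N16913 (tt N8271 (iv1 D26180)) (tt N10353 F41540) (tt N10338 (iv2 F41542)) (tt N10404 F41541) (tt N29711 F77050) (tt N33664 D54107) (tt N8403 (iv6 F41543)) (tt N10351 (iv7 F41544)))
theorem Q16915 : ∀ i, i < 16915 → P i := stepQ 16914 Q16914 (allL N16914 (tt N14725 F41549) (tt N14723 (iv0 F41550)) (tt N10346 F41547) (tt N26923 (iv3 F68251)) (tt N8271 (iv4 D26181)) (tt N33665 D54108) (tt N10341 F41548) (tt N14722 (iv7 F41551)))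
theorem Q16916 : ∀ i, i < 16916 → P i := stepQ 16915 Q16915 (allL N16915 (tt N17539 F43635) (tt N23304 F55454) (tt N10352 F41554) (tt N8273 F41555) (tt N33666 D54109) (tt N8271 (iv5 D26182)) (tt N33667 D54110) (tt N23302 (iv7 F55449)))
theorem Q16917 : ∀ i, i < 16917 → P i := stepQ 16916 Q16916 (allL N16916 (tt N10338 (iv1 F41559)) (tt N10351 F41560) (tt N10353 F41556) (tt N8274 F41557) (tt N14722 F41558) (tt N23302 (iv5 F55448)) (tt N26916 (iv6 F68237)) (tt N8271 (iv7 D26183)))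
theorem Q16918 : ∀ i, i < 16918 → P i := stepQ 16917 Q16917 (allL N16917 (tt N8275 F41563) (tt N8272 (iv0 D26184)) (tt N32466 F82895) (tt N10335 (iv3 F41562)) (tt N16859 F41561) (tt N33668 D54111) (tt N10819 (iv6 F50251)) (tt N21099 (iv7 F50129)))
theorem Q16919 : ∀ i, i < 16919 → P i := stepQ 16918 Q16918 (allL N16918 (tt N8272 (iv1 D26185)) (tt N8275 F41564) (tt N21099 (iv2 F50126)) (tt N26512 F65410) (tt N18418 (iv4 F50395)) (tt N33669 D54112) (tt N8410 F42848) (tt N32466 (iv7 F82897)))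
theorem Q16920 : ∀ i, i < 16920 → P i := stepQ 16919 Q16919 (allL N16919 (tt N26483 (iv1 F65303)) (tt N26482 (iv0 F65301)) (tt N26485 (iv2 F65308)) (tt N8272 (iv3 D26186)) (tt N26923 (iv4 F68252)) (tt N33670 D54113) (tt N26515 (iv6 F65426)) (tt N13440 F41569))
theorem Q16921 : ∀ i, i < 16921 → P i := stepQ 16920 Q16920 (allL N16920 (tt N23843 (iv1 F56602)) (tt N33671 D54114) (tt N32467 (iv2 F82899)) (tt N33670 (iv3 F85421)) (tt N33672 D54115) (tt N8272 (iv5 D26187)) (tt N18980 F326214) (tt N33673 D54117))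
theorem Q16922 : ∀ i, i < 16922 → P i := stepQ 16921 Q16921 (allL N16921 (tt N21099 F50131) (tt N32466 F82896) (tt N8275 F41565) (tt N13440 (iv3 F41568)) (tt N8274 F41566) (tt N33673 (iv5 F85430)) (tt N13438 F41567) (tt N8272 (iv7 D26188)))
theorem Q16923 : ∀ i, i < 16923 → P i := stepQ 16922 Q16922 (allL N16922 (tt N33674 D54118) (tt N33675 D54119) (tt N33617 (iv2 F85278)) (tt N33676 D54120) (tt N8273 (iv4 D26189)) (tt N33677 D54121) (tt N33678 D54122) (tt N33679 D54123))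
theorem Q16924 : ∀ i, i < 16924 → P i := stepQ 16923 Q16923 (allL N16923 (tt N33680 D54124) (tt N33620 F183639) (tt N33615 (iv2 F85273)) (tt N33667 (iv3 F85418)) (tt N33678 (iv4 F85436)) (tt N33606 (iv5 F85260)) (tt N8273 (iv6 D26190)) (tt N33681 D54126))
theorem Q16925 : ∀ i, i < 16925 → P i := stepQ 16924 Q16924 (allL N16924 (tt N20907 F49868) (tt N10354 F41573) (tt N8276 F41570) (tt N23302 (iv3 F55447)) (tt N33679 (iv4 F85438)) (tt N8274 F41571) (tt N33682 D54127) (tt N8273 (iv7 D26191)))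
theorem Q16926 : ∀ i, i < 16926 → P i := stepQ 16925 Q16925 (allL N16925 (tt N10381 (iv1 F41577)) (tt N9342 F41578) (tt N8277 F41574) (tt N26916 (iv3 F68236)) (tt N13438 F41575) (tt N21680 (iv5 F51676)) (tt N8274 (iv6 D26192)) (tt N10372 F41576))
theorem Q16927 : ∀ i, i < 16927 → P i := stepQ 16926 Q16926 (allL N16926 (tt N33671 (iv1 F85424)) (tt N23843 (iv0 F56601)) (tt N33673 (iv2 F85428)) (tt N23187 F55147) (tt N33683 D54128) (tt N8275 (iv5 D26193)) (tt N33684 D54129) (tt N32467 (iv7 F82901)))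
theorem Q16928 : ∀ i, i < 16928 → P i := stepQ 16927 Q16927 (allL N16927 (tt N26480 F65290) (tt N26509 F65402) (tt N13438 F41580) (tt N18414 (iv3 F45923)) (tt N8277 F41581) (tt N13437 (iv5 F41583)) (tt N8275 (iv6 D26194)) (tt N10376 F41582))
theorem Q16929 : ∀ i, i < 16929 → P i := stepQ 16928 Q16928 (allL N16928 (tt N33675 (iv1 F85435)) (tt N33674 F85434) (tt N33679 (iv2 F85437)) (tt N33685 D54130) (tt N8276 (iv4 D26195)) (tt N9858 F328419) (tt N33686 D54132) (tt N33617 (iv7 F85279)))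
theorem Q16930 : ∀ i, i < 16930 → P i := stepQ 16929 Q16929 (allL N16929 (tt N33656 (iv1 F183991)) (tt N33687 D54134) (tt N33682 (iv2 F85439)) (tt N21509 (iv3 F51420)) (tt N33686 (iv4 F85442)) (tt N33688 D54135) (tt N8276 (iv6 D26196)) (tt N33689 D54136))
theorem Q16931 : ∀ i, i < 16931 → P i := stepQ 16930 Q16930 (allL N16930 (tt N8277 (iv1 D26197)) (tt N10372 F41584) (tt N9342 (iv2 F41586)) (tt N10412 F54015) (tt N32518 (iv4 F83068)) (tt N33690 D54137) (tt N8419 F41587) (tt N10381 F41585))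
theorem Q16932 : ∀ i, i < 16932 → P i := stepQ 16931 Q16931 (allL N16931 (tt N17004 F46707) (tt N17448 (iv0 F43283)) (tt N21680 F51677) (tt N10388 F41588) (tt N33691 D54138) (tt N8277 (iv5 D26198)) (tt N33688 (iv6 F85444)) (tt N10382 F41589))
theorem Q16933 : ∀ i, i < 16933 → P i := stepQ 16932 Q16932 (allL N16932 (tt N8283 (iv1 F41590)) (tt N8278 (iv0 D26199)) (tt N8279 F41592) (tt N10489 F41593) (tt N33692 D54139) (tt N10199 (iv5 F41591)) (tt N33693 D54140) (tt N8280 F41594))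
theorem Q16934 : ∀ i, i < 16934 → P i := stepQ 16933 Q16933 (allL N16933 (tt N8278 (iv1 D26200)) (tt N8283 F41595) (tt N8280 F41598) (tt N33694 D54141) (tt N33695 D54142) (tt N10198 (iv5 F41597)) (tt N33696 D54143) (tt N8279 F41596))
theorem Q16935 : ∀ i, i < 16935 → P i := stepQ 16934 Q16934 (allL N16934 (tt N33697 D54144) (tt N33698 D54145) (tt N8281 F41599) (tt N33699 D54146) (tt N8278 (iv4 D26201)) (tt N20106 F328582) (tt N33700 D54148) (tt N33662 (iv7 F85400)))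
theorem Q16936 : ∀ i, i < 16936 → P i := stepQ 16935 Q16935 (allL N16935 (tt N33701 D54149) (tt N33702 D54150) (tt N8282 F41600) (tt N10418 F41601) (tt N33700 (iv4 F85471)) (tt N8434 F41602) (tt N8278 (iv6 D26202)) (tt N33703 D54151))
theorem Q16937 : ∀ i, i < 16937 → P i := stepQ 16936 Q16936 (allL N16936 (tt N33630 F85304) (tt N33664 F85410) (tt N22879 (iv2 F54564)) (tt N8279 (iv3 D26203)) (tt N33704 D54152) (tt N11469 (iv5 F50654)) (tt N33705 D54153) (tt N33694 (iv7 F85458)))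
theorem Q16938 : ∀ i, i < 16938 → P i := stepQ 16937 Q16937 (allL N16937 (tt N33706 D54154) (tt N33707 D54155) (tt N33692 (iv2 F85451)) (tt N33708 D54156) (tt N8279 (iv4 D26204)) (tt N33709 D54157) (tt N33710 D54158) (tt N33695 (iv7 F85463)))
theorem Q16939 : ∀ i, i < 16939 → P i := stepQ 16938 Q16938 (allL N16938 (tt N33711 D54159) (tt N33712 D54160) (tt N33693 (iv2 F85453)) (tt N33705 (iv3 F85484)) (tt N33710 (iv4 F85488)) (tt N20656 F320554) (tt N8279 (iv6 D26205)) (tt N33713 D54162))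
theorem Q16940 : ∀ i, i < 16940 → P i := stepQ 16939 Q16939 (allL N16939 (tt N33707 (iv1 F85487)) (tt N33706 F85486) (tt N33695 (iv2 F85462)) (tt N33714 D54163) (tt N8280 (iv4 D26206)) (tt N33715 D54164) (tt N33716 D54165) (tt N33692 (iv7 F85452)))
theorem Q16941 : ∀ i, i < 16941 → P i := stepQ 16940 Q16940 (allL N16940 (tt N33661 (iv1 F308207)) (tt N33717 D54167) (tt N33696 (iv2 F85464)) (tt N22885 (iv3 F54587)) (tt N33716 (iv4 F85491)) (tt N23895 (iv5 F306836)) (tt N8280 (iv6 D26207)) (tt N33718 D54169))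
theorem Q16942 : ∀ i, i < 16942 → P i := stepQ 16941 Q16941 (allL N16941 (tt N33662 (iv1 F85402)) (tt N8281 (iv0 D26208)) (tt N33697 (iv2 F85498)) (tt N33719 D54171) (tt N33720 D54172) (tt N33721 D54173) (tt N33722 D54174) (tt N33698 F85501))
theorem Q16943 : ∀ i, i < 16943 → P i := stepQ 16942 Q16942 (allL N16942 (tt N8281 (iv1 D26209)) (tt N33662 F85401) (tt N33698 F85500) (tt N33723 D54175) (tt N33724 D54176) (tt N33725 D54177) (tt N33726 D54178) (tt N33697 (iv7 F85499)))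
theorem Q16944 : ∀ i, i < 16944 → P i := stepQ 16943 Q16943 (allL N16943 (tt N33727 D54179) (tt N33728 D54180) (tt N33729 D54181) (tt N8281 (iv3 D26210)) (tt N8289 F41603) (tt N33730 D54182) (tt N33731 D54183) (tt N10117 (iv7 F41604)))
theorem Q16945 : ∀ i, i < 16945 → P i := stepQ 16944 Q16944 (allL N16944 (tt N20109 F328044) (tt N19886 F328045) (tt N20106 (iv2 F328442)) (tt N33730 (iv3 F85512)) (tt N33732 D54186) (tt N8281 (iv5 D26211)) (tt N33733 D54187) (tt N20107 (iv7 F328443)))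
theorem Q16946 : ∀ i, i < 16946 → P i := stepQ 16945 Q16945 (allL N16945 (tt N33734 D54189) (tt N33735 D54190) (tt N33700 (iv2 F85470)) (tt N33731 (iv3 F85514)) (tt N8282 F41605) (tt N33736 D54191) (tt N8281 (iv6 D26212)) (tt N33737 D54192))
theorem Q16947 : ∀ i, i < 16947 → P i := stepQ 16946 Q16946 (allL N16946 (tt N33698 (iv1 F85467)) (tt N33697 F85466) (tt N33662 (iv2 F85399)) (tt N10117 F41606) (tt N8283 F41607) (tt N20107 F328583) (tt N33738 D54193) (tt N8281 (iv7 D26213)))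
theorem Q16948 : ∀ i, i < 16948 → P i := stepQ 16947 Q16947 (allL N16947 (tt N33703 (iv1 F85479)) (tt N8282 (iv0 D26214)) (tt N33701 (iv2 F113754)) (tt N33739 D54195) (tt N33740 D54196) (tt N33741 D54197) (tt N33742 D54198) (tt N33702 (iv7 F113753)))
theorem Q16949 : ∀ i, i < 16949 → P i := stepQ 16948 Q16948 (allL N16948 (tt N8282 (iv1 D26215)) (tt N33703 F85478) (tt N33702 (iv2 F113752)) (tt N33743 D54200) (tt N33744 D54201) (tt N33745 D54202) (tt N33746 D54203) (tt N33701 (iv7 F113755)))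
theorem Q16950 : ∀ i, i < 16950 → P i := stepQ 16949 Q16949 (allL N16949 (tt N33702 (iv1 F85472)) (tt N33701 F85477) (tt N33703 (iv2 F85474)) (tt N8293 F41608) (tt N33737 (iv4 F85518)) (tt N8446 F41609) (tt N33747 D54204) (tt N8282 (iv7 D26216)))
theorem Q16951 : ∀ i, i < 16951 → P i := stepQ 16950 Q16950 (allL N16950 (tt N33748 D54205) (tt N33749 D54206) (tt N33663 (iv2 F85403)) (tt N8294 F41610) (tt N33738 (iv4 F85520)) (tt N33750 D54207) (tt N8283 (iv6 D26217)) (tt N33747 (iv7 F85527)))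
theorem Q16952 : ∀ i, i < 16952 → P i := stepQ 16951 Q16951 (allL N16951 (tt N33751 D54208) (tt N22799 (iv0 F54435)) (tt N10836 F41611) (tt N8295 F41612) (tt N33752 D54209) (tt N8284 (iv5 D26218)) (tt N33750 (iv6 F85530)) (tt N8448 F41613))
theorem Q16953 : ∀ i, i < 16953 → P i := stepQ 16952 Q16952 (allL N16952 (tt N10369 (iv1 F41618)) (tt N10366 F41617) (tt N8285 (iv2 D26219)) (tt N10437 F41614) (tt N33753 D54210) (tt N10486 F41615) (tt N33754 D54211) (tt N10444 F41616))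
theorem Q16954 : ∀ i, i < 16954 → P i := stepQ 16953 Q16953 (allL N16953 (tt N33755 D54212) (tt N33756 D54213) (tt N33753 (iv2 F85538)) (tt N33285 (iv3 F84385)) (tt N8285 (iv4 D26220)) (tt N33757 D54214) (tt N33758 D54215) (tt N10445 F41619))
theorem Q16955 : ∀ i, i < 16955 → P i := stepQ 16954 Q16954 (allL N16954 (tt N33759 D54216) (tt N33760 D54217) (tt N33754 (iv2 F85542)) (tt N8286 F41620) (tt N33758 (iv4 F85552)) (tt N20585 F318782) (tt N8285 (iv6 D26221)) (tt N33761 D54219))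
theorem Q16956 : ∀ i, i < 16956 → P i := stepQ 16955 Q16955 (allL N16955 (tt N10443 (iv1 F41626)) (tt N8286 (iv0 D26222)) (tt N10440 F183568) (tt N33762 D54221) (tt N21694 (iv4 F314011)) (tt N33763 D54223) (tt N33764 D54224) (tt N10441 F183569))
theorem Q16957 : ∀ i, i < 16957 → P i := stepQ 16956 Q16956 (allL N16956 (tt N8286 (iv1 D26223)) (tt N10443 F41621) (tt N10441 (iv2 F183562)) (tt N33712 (iv3 F183597)) (tt N21693 F314035) (tt N33765 D54228) (tt N33766 D54229) (tt N10440 (iv7 F183567)))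
theorem Q16958 : ∀ i, i < 16958 → P i := stepQ 16957 Q16957 (allL N16957 (tt N10441 (iv1 F41627)) (tt N10440 F41628) (tt N10443 F41624) (tt N33761 (iv3 F85555)) (tt N10584 (iv4 F311595)) (tt N16723 F314524) (tt N10449 F41625) (tt N8286 (iv7 D26225)))
theorem Q16959 : ∀ i, i < 16959 → P i := stepQ 16958 Q16958 (allL N16958 (tt N10340 (iv1 F50539)) (tt N10336 F50536) (tt N8287 (iv2 D26228)) (tt N10444 F41630) (tt N33767 D54234) (tt N14811 F41631) (tt N33768 D54235) (tt N10437 F41632))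
theorem Q16960 : ∀ i, i < 16960 → P i := stepQ 16959 Q16959 (allL N16959 (tt N33769 D54236) (tt N33770 D54237) (tt N33767 (iv2 F85574)) (tt N33252 (iv3 F84273)) (tt N8287 (iv4 D26229)) (tt N33771 D54238) (tt N14850 F312044) (tt N10438 F41636))
theorem Q16961 : ∀ i, i < 16961 → P i := stepQ 16960 Q16960 (allL N16960 (tt N23205 (iv1 F310073)) (tt N33772 D54241) (tt N33768 (iv2 F85578)) (tt N8288 F41637) (tt N14850 (iv4 F309850)) (tt N22793 (iv5 F54414)) (tt N8287 (iv6 D26230)) (tt N23388 (iv7 F310072)))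
theorem Q16962 : ∀ i, i < 16962 → P i := stepQ 16961 Q16961 (allL N16961 (tt N8288 (iv1 D26232)) (tt N10449 F41638) (tt N10447 F105733) (tt N33773 D54249) (tt N10388 (iv4 F307334)) (tt N21700 F305350) (tt N33774 D54252) (tt N10387 (iv7 F307335)))
theorem Q16963 : ∀ i, i < 16963 → P i := stepQ 16962 Q16962 (allL N16962 (tt N10114 (iv1 F41644)) (tt N8289 (iv0 D26234)) (tt N10116 F205087) (tt N33775 D54254) (tt N33776 D54255) (tt N31114 (iv5 F169574)) (tt N33777 D54257) (tt N10115 (iv7 F205090)))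
theorem Q16964 : ∀ i, i < 16964 → P i := stepQ 16963 Q16963 (allL N16963 (tt N8289 (iv1 D26235)) (tt N10114 F41649) (tt N10115 (iv2 F205089)) (tt N23342 (iv3 F320237)) (tt N33778 D54260) (tt N31115 (iv5 F169670)) (tt N23325 (iv6 F320239)) (tt N10116 F205088))
theorem Q16965 : ∀ i, i < 16965 → P i := stepQ 16964 Q16964 (allL N16964 (tt N10116 (iv1 F41650)) (tt N10115 F41648) (tt N8289 (iv2 D26236)) (tt N10452 F41645) (tt N33729 (iv4 F85507)) (tt N10103 F41646) (tt N33779 D54263) (tt N10114 F41647))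
theorem Q16966 : ∀ i, i < 16966 → P i := stepQ 16965 Q16965 (allL N16965 (tt N33780 D54264) (tt N33781 D54265) (tt N33779 (iv2 F85600)) (tt N8290 F41651) (tt N33731 (iv4 F85515)) (tt N33782 D54266) (tt N8289 (iv6 D26237)) (tt N33783 D54267))
theorem Q16967 : ∀ i, i < 16967 → P i := stepQ 16966 Q16966 (allL N16966 (tt N10457 (iv1 F41658)) (tt N8290 (iv0 D26238)) (tt N10454 F43203) (tt N33784 D54268) (tt N9098 F43130) (tt N33785 D54269) (tt N33786 D54270) (tt N10455 (iv7 F43202)))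
theorem Q16968 : ∀ i, i < 16968 → P i := stepQ 16967 Q16967 (allL N16967 (tt N8290 (iv1 D26239)) (tt N10457 F41652) (tt N10455 (iv2 F43198)) (tt N25379 (iv3 F315600)) (tt N9099 (iv4 F43127)) (tt N22032 (iv5 F315608)) (tt N17275 F313211) (tt N10454 F43204))
theorem Q16969 : ∀ i, i < 16969 → P i := stepQ 16968 Q16968 (allL N16968 (tt N9345 (iv1 F313949)) (tt N19442 (iv0 F314881)) (tt N10456 F41653) (tt N33782 (iv3 F85602)) (tt N33787 D54276) (tt N8290 (iv5 D26240)) (tt N10128 F41654) (tt N19441 (iv7 F313306)))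
theorem Q16970 : ∀ i, i < 16970 → P i := stepQ 16969 Q16969 (allL N16969 (tt N10455 (iv1 F41659)) (tt N10454 F41660) (tt N10457 F41655) (tt N33783 (iv3 F85604)) (tt N8293 F41656) (tt N19441 (iv5 F313305)) (tt N10125 F41657) (tt N8290 (iv7 D26241)))
theorem Q16971 : ∀ i, i < 16971 → P i := stepQ 16970 Q16970 (allL N16970 (tt N33788 D54278) (tt N33604 (iv0 F130860)) (tt N33789 D54280) (tt N8291 (iv3 D26243)) (tt N33790 D54281) (tt N33791 D54282) (tt N23059 F130859) (tt N10462 F51256))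
theorem Q16972 : ∀ i, i < 16972 → P i := stepQ 16971 Q16971 (allL N16971 (tt N18465 F46002) (tt N14830 (iv0 F46227)) (tt N10459 F51257) (tt N33792 D54284) (tt N8291 (iv4 D26244)) (tt N33793 D54285) (tt N33794 D54286) (tt N10463 F51258))
theorem Q16973 : ∀ i, i < 16973 → P i := stepQ 16972 Q16972 (allL N16972 (tt N22509 (iv1 F53263)) (tt N10845 F41663) (tt N10460 F51259) (tt N33791 (iv3 F85646)) (tt N11981 (iv4 F41674)) (tt N8291 (iv5 D26245)) (tt N23914 F303560) (tt N10464 F51260))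
theorem Q16974 : ∀ i, i < 16974 → P i := stepQ 16973 Q16973 (allL N16973 (tt N33774 F85597) (tt N33795 D54288) (tt N10461 F51261) (tt N23059 (iv3 F130857)) (tt N33794 (iv4 F85654)) (tt N23057 F130855) (tt N8291 (iv6 D26246)) (tt N33796 D54290))
theorem Q16975 : ∀ i, i < 16975 → P i := stepQ 16974 Q16974 (allL N16974 (tt N33629 F232245) (tt N33797 D54292) (tt N33798 D54293) (tt N8292 (iv3 D26248)) (tt N33799 D54294) (tt N33800 D54295) (tt N33801 D54296) (tt N10458 F51250))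
theorem Q16976 : ∀ i, i < 16976 → P i := stepQ 16975 Q16975 (allL N16975 (tt N14830 (iv1 F41675)) (tt N18465 F46001) (tt N10463 F51251) (tt N33802 D54297) (tt N8292 (iv4 D26249)) (tt N19518 (iv5 F315563)) (tt N10568 (iv6 F313219)) (tt N10459 F51252))
theorem Q16977 : ∀ i, i < 16977 → P i := stepQ 16976 Q16976 (allL N16976 (tt N10845 F41668) (tt N22509 (iv0 F53268)) (tt N10464 F51247) (tt N33800 (iv3 F85678)) (tt N11947 (iv4 F41666)) (tt N8292 (iv5 D26250)) (tt N8524 F41665) (tt N10460 F51248))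
theorem Q16978 : ∀ i, i < 16978 → P i := stepQ 16977 Q16977 (allL N16977 (tt N33803 D54300) (tt N33764 (iv0 F85954)) (tt N10465 F51330) (tt N33801 (iv3 F85681)) (tt N10568 (iv4 F313218)) (tt N33804 D54302) (tt N8292 (iv6 D26251)) (tt N23991 F312721))
theorem Q16979 : ∀ i, i < 16979 → P i := stepQ 16978 Q16978 (allL N16978 (tt N10468 (iv1 F41682)) (tt N10467 F41683) (tt N10466 F41678) (tt N33747 (iv3 F85525)) (tt N10125 F41679) (tt N12474 F41680) (tt N8293 (iv6 D26252)) (tt N8294 F41681))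
theorem Q16980 : ∀ i, i < 16980 → P i := stepQ 16979 Q16979 (allL N16979 (tt N10466 (iv1 F41684)) (tt N8294 (iv0 D26253)) (tt N10467 (iv2 F105924)) (tt N33805 D54305) (tt N18376 F166580) (tt N33806 D54307) (tt N33807 D54308) (tt N10468 F105923))
theorem Q16981 : ∀ i, i < 16981 → P i := stepQ 16980 Q16980 (allL N16980 (tt N8294 (iv1 D26254)) (tt N10466 F41685) (tt N10468 F105922) (tt N33808 D54310) (tt N18377 F166584) (tt N33809 D54312) (tt N33810 D54313) (tt N10467 (iv7 F105925)))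
theorem Q16982 : ∀ i, i < 16982 → P i := stepQ 16981 Q16981 (allL N16981 (tt N33811 D54314) (tt N33812 D54315) (tt N10469 F41686) (tt N33750 (iv3 F85529)) (tt N22569 (iv4 F53335)) (tt N8294 (iv5 D26255)) (tt N8295 F41687) (tt N12474 F41688))
theorem Q16983 : ∀ i, i < 16983 → P i := stepQ 16982 Q16982 (allL N16982 (tt N10622 F41692) (tt N10621 F41693) (tt N8300 F41689) (tt N33813 D54316) (tt N8297 (iv4 D26256)) (tt N8307 F41690) (tt N33814 D54317) (tt N8326 F41691))
theorem Q16984 : ∀ i, i < 16984 → P i := stepQ 16983 Q16983 (allL N16983 (tt N33815 D54318) (tt N33816 D54319) (tt N8301 F41694) (tt N10546 F41695) (tt N33814 (iv4 F85711)) (tt N10595 F41696) (tt N8297 (iv6 D26257)) (tt N33817 D54320))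
theorem Q16985 : ∀ i, i < 16985 → P i := stepQ 16984 Q16984 (allL N16984 (tt N9150 (iv1 F46129)) (tt N23906 (iv0 F56746)) (tt N21951 (iv2 F52268)) (tt N8298 (iv3 D26258)) (tt N17282 F42677) (tt N8330 F41697) (tt N22719 F312990) (tt N10617 F41698))
theorem Q16986 : ∀ i, i < 16986 → P i := stepQ 16985 Q16985 (allL N16985 (tt N10943 F41703) (tt N10947 F42921) (tt N22184 (iv2 F52653)) (tt N8299 (iv3 D26260)) (tt N17899 (iv4 F44808)) (tt N8331 F41701) (tt N33818 D54325) (tt N10620 F41702))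
theorem Q16987 : ∀ i, i < 16987 → P i := stepQ 16986 Q16986 (allL N16986 (tt N9164 F110501) (tt N29817 F110502) (tt N10619 F41704) (tt N33818 (iv3 F85729)) (tt N22803 F308879) (tt N33495 (iv5 F84962)) (tt N8299 (iv6 D26261)) (tt N22701 F308880))
theorem Q16988 : ∀ i, i < 16988 → P i := stepQ 16987 Q16987 (allL N16987 (tt N8300 (iv1 D26263)) (tt N8326 F41710) (tt N10621 (iv2 F41714)) (tt N24752 (iv3 F59397)) (tt N8618 F41713) (tt N10605 F41712) (tt N21006 F308889) (tt N10622 F41711))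
theorem Q16989 : ∀ i, i < 16989 → P i := stepQ 16988 Q16988 (allL N16988 (tt N33819 D54332) (tt N33820 D54333) (tt N33814 (iv2 F85710)) (tt N8807 F41715) (tt N8301 F41716) (tt N33821 D54334) (tt N8300 (iv6 D26264)) (tt N33822 D54335))
theorem Q16990 : ∀ i, i < 16990 → P i := stepQ 16989 Q16989 (allL N16989 (tt N33817 (iv1 F85719)) (tt N8301 (iv0 D26265)) (tt N33815 (iv2 F131090)) (tt N21934 (iv3 F305019)) (tt N33823 D54338) (tt N18376 (iv5 F309391)) (tt N21932 F302672) (tt N33816 (iv7 F131086)))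
theorem Q16991 : ∀ i, i < 16991 → P i := stepQ 16990 Q16990 (allL N16990 (tt N8301 (iv1 D26266)) (tt N33817 F85718) (tt N33816 (iv2 F131085)) (tt N33824 D54342) (tt N33825 D54343) (tt N18377 (iv5 F311060)) (tt N25224 F199804) (tt N33815 (iv7 F131091)))
theorem Q16992 : ∀ i, i < 16992 → P i := stepQ 16991 Q16991 (allL N16991 (tt N33826 D54346) (tt N33827 D54347) (tt N10595 F41717) (tt N8303 F41718) (tt N33828 D54348) (tt N8301 (iv5 D26267)) (tt N8302 F41719) (tt N33829 D54349))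
theorem Q16993 : ∀ i, i < 16993 → P i := stepQ 16992 Q16992 (allL N16992 (tt N33816 (iv1 F85712)) (tt N33815 F85717) (tt N33817 (iv2 F85713)) (tt N8304 F41720) (tt N33822 (iv4 F85745)) (tt N33829 (iv5 F85757)) (tt N10626 F41721) (tt N8301 (iv7 D26268)))
theorem Q16994 : ∀ i, i < 16994 → P i := stepQ 16993 Q16993 (allL N16993 (tt N10593 F41725) (tt N10592 F41726) (tt N10594 F41722) (tt N29259 (iv3 F75475)) (tt N8302 (iv4 D26269)) (tt N8326 F41723) (tt N33828 (iv6 F85754)) (tt N8307 F41724))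
theorem Q16995 : ∀ i, i < 16995 → P i := stepQ 16994 Q16994 (allL N16994 (tt N10574 (iv1 F41769)) (tt N8303 (iv0 D26270)) (tt N10572 F41810) (tt N33830 D54350) (tt N16884 F313317) (tt N21871 (iv5 F52077)) (tt N20576 (iv6 F315755)) (tt N10573 F41809))
theorem Q16996 : ∀ i, i < 16996 → P i := stepQ 16995 Q16995 (allL N16995 (tt N10573 (iv1 F41770)) (tt N10572 F41812) (tt N10574 F41767) (tt N33829 (iv3 F85756)) (tt N10311 (iv4 F313946)) (tt N8304 F41768) (tt N33829 (iv6 F85758)) (tt N8303 (iv7 D26273)))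
theorem Q16997 : ∀ i, i < 16997 → P i := stepQ 16996 Q16996 (allL N16996 (tt N23373 F55705) (tt N23271 (iv0 F55356)) (tt N33831 D54358) (tt N8305 (iv3 D26274)) (tt N23351 (iv4 F55662)) (tt N10332 F41813) (tt N33832 D54359) (tt N10589 F41814))
theorem Q16998 : ∀ i, i < 16998 → P i := stepQ 16997 Q16997 (allL N16997 (tt N20571 (iv1 F314036)) (tt N33833 D54361) (tt N10588 F41815) (tt N33832 (iv3 F85790)) (tt N21214 F311593) (tt N19494 (iv5 F47804)) (tt N8305 (iv6 D26275)) (tt N22528 (iv7 F314041)))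
theorem Q16999 : ∀ i, i < 16999 → P i := stepQ 16998 Q16998 (allL N16998 (tt N22583 F54172) (tt N23381 (iv0 F55751)) (tt N33834 D54363) (tt N8306 (iv3 D26276)) (tt N14929 (iv4 F54360)) (tt N9353 F41816) (tt N22512 (iv6 F312983)) (tt N10586 F41817))
theorem Q17000 : ∀ i, i < 17000 → P i := stepQ 16999 Q16999 (allL N16999 (tt N10594 (iv1 F41822)) (tt N8307 (iv0 D26278)) (tt N10592 (iv2 F41824)) (tt N16503 (iv3 F41823)) (tt N8545 F41821) (tt N10640 F41820) (tt N20928 (iv6 F311224)) (tt N10593 (iv7 F41825)))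
theorem Q17001 : ∀ i, i < 17001 → P i := stepQ 17000 Q17000 (allL N17000 (tt N8307 (iv1 D26279)) (tt N10594 F41826) (tt N10593 (iv2 F41830)) (tt N33835 D54369) (tt N8546 F41829) (tt N10636 F41828) (tt N9165 (iv6 F309304)) (tt N10592 F41827))
theorem Q17002 : ∀ i, i < 17002 → P i := stepQ 17001 Q17001 (allL N17001 (tt N29258 (iv1 F75480)) (tt N29257 F75464) (tt N14521 F41831) (tt N8307 (iv3 D26280)) (tt N29259 (iv4 F75476)) (tt N33813 (iv5 F85706)) (tt N33575 (iv6 F312998)) (tt N29259 (iv7 F75478)))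
theorem Q17003 : ∀ i, i < 17003 → P i := stepQ 17002 Q17002 (allL N17002 (tt N21303 F54195) (tt N21323 F54197) (tt N21321 (iv2 F54214)) (tt N8309 F41842) (tt N16474 F41849) (tt N8308 (iv5 D26284)) (tt N16776 (iv6 F313562)) (tt N10603 F41843))
theorem Q17004 : ∀ i, i < 17004 → P i := stepQ 17003 Q17003 (allL N17003 (tt N8544 (iv1 F41855)) (tt N8541 F41854) (tt N8311 (iv2 D26287)) (tt N10602 F41852) (tt N23234 (iv4 F55277)) (tt N21266 F50671) (tt N22142 (iv6 F52532)) (tt N8542 F41853))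
theorem Q17005 : ∀ i, i < 17005 → P i := stepQ 17004 Q17004 (allL N17004 (tt N21241 (iv1 F50386)) (tt N16931 (iv0 F46707)) (tt N21266 (iv2 F50672)) (tt N8312 F41856) (tt N33836 D54376) (tt N8311 (iv5 D26288)) (tt N16771 F317997) (tt N10599 F41857))
theorem Q17006 : ∀ i, i < 17006 → P i := stepQ 17005 Q17005 (allL N17005 (tt N18969 (iv1 F46706)) (tt N14807 (iv0 F41859)) (tt N22142 (iv2 F52530)) (tt N8313 F41858) (tt N23250 (iv4 F55305)) (tt N22069 F52443) (tt N8311 (iv6 D26289)) (tt N22138 (iv7 F52521)))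
theorem Q17007 : ∀ i, i < 17007 → P i := stepQ 17006 Q17006 (allL N17006 (tt N20751 (iv1 F311572)) (tt N20750 (iv0 F313563)) (tt N10606 F41864) (tt N16771 F317996) (tt N16814 F311234) (tt N22535 (iv5 F53314)) (tt N8312 (iv6 D26291)) (tt N16778 (iv7 F313568)))
theorem Q17008 : ∀ i, i < 17008 → P i := stepQ 17007 Q17007 (allL N17007 (tt N8315 (iv1 D26292)) (tt N10528 F41865) (tt N10512 F42916) (tt N10496 (iv3 F41866)) (tt N11791 F41867) (tt N29790 (iv5 F77319)) (tt N10495 F50914) (tt N10527 F42915))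
theorem Q17009 : ∀ i, i < 17009 → P i := stepQ 17008 Q17008 (allL N17008 (tt N30520 F78777) (tt N30530 (iv0 F78820)) (tt N23834 (iv2 F56573)) (tt N8317 F41871) (tt N16363 F41872) (tt N19089 (iv5 F46918)) (tt N8315 (iv6 D26293)) (tt N22780 (iv7 F53940)))
theorem Q17010 : ∀ i, i < 17010 → P i := stepQ 17009 Q17009 (allL N17009 (tt N10894 F41876) (tt N10852 F41877) (tt N10540 F41873) (tt N17541 (iv3 F43642)) (tt N10658 F41874) (tt N8316 (iv5 D26294)) (tt N33837 D54383) (tt N10533 F41875))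
theorem Q17011 : ∀ i, i < 17011 → P i := stepQ 17010 Q17010 (allL N17010 (tt N19373 F51128) (tt N11170 F50490) (tt N10541 F41878) (tt N17542 (iv3 F43648)) (tt N8317 F41879) (tt N33838 D54384) (tt N8316 (iv6 D26295)) (tt N22781 (iv7 F53943)))
theorem Q17012 : ∀ i, i < 17012 → P i := stepQ 17011 Q17011 (allL N17011 (tt N10536 (iv1 F41889)) (tt N8318 (iv0 D26299)) (tt N10495 F42881) (tt N10514 (iv3 F50854)) (tt N10471 F41888) (tt N12256 (iv5 F41890)) (tt N10512 F50913) (tt N10535 (iv7 F42875)))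
theorem Q17013 : ∀ i, i < 17013 → P i := stepQ 17012 Q17012 (allL N17012 (tt N10495 (iv1 F41897)) (tt N10535 F41896) (tt N8318 (iv2 D26300)) (tt N10528 F41893) (tt N16382 F41894) (tt N18498 (iv5 F46079)) (tt N33561 (iv6 F85122)) (tt N10536 F41895))
theorem Q17014 : ∀ i, i < 17014 → P i := stepQ 17013 Q17013 (allL N17013 (tt N10555 F41912) (tt N10554 F41913) (tt N8322 F41909) (tt N33839 D54385) (tt N8319 (iv4 D26305)) (tt N14289 F41911) (tt N33840 D54386) (tt N10545 F41910))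
theorem Q17015 : ∀ i, i < 17015 → P i := stepQ 17014 Q17014 (allL N17014 (tt N33841 D54387) (tt N28825 F321068) (tt N8323 F41914) (tt N8324 F41915) (tt N33840 (iv4 F85866)) (tt N8323 F41916) (tt N8319 (iv6 D26306)) (tt N33842 D54389))
theorem Q17016 : ∀ i, i < 17016 → P i := stepQ 17015 Q17015 (allL N17015 (tt N12648 (iv1 F51496)) (tt N29790 F77322) (tt N22072 (iv2 F52447)) (tt N8320 (iv3 D26307)) (tt N17267 F42616) (tt N8335 F41917) (tt N33843 D54390) (tt N10549 F41918))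
theorem Q17017 : ∀ i, i < 17017 → P i := stepQ 17016 Q17016 (allL N17016 (tt N29812 (iv1 F184571)) (tt N9167 (iv0 F184572)) (tt N10553 F41919) (tt N33843 (iv3 F85875)) (tt N26138 (iv4 F64279)) (tt N33566 (iv5 F85148)) (tt N8320 (iv6 D26308)) (tt N29811 F184615))
theorem Q17018 : ∀ i, i < 17018 → P i := stepQ 17017 Q17017 (allL N17017 (tt N12256 (iv1 F41922)) (tt N9147 F42538) (tt N25069 (iv2 F60251)) (tt N8321 (iv3 D26309)) (tt N17222 (iv4 F42536)) (tt N8336 F41920) (tt N33844 D54394) (tt N10551 F41921))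
theorem Q17019 : ∀ i, i < 17019 → P i := stepQ 17018 Q17018 (allL N17018 (tt N8843 (iv1 F155111)) (tt N12511 (iv0 F155112)) (tt N10550 F41923) (tt N33844 (iv3 F85882)) (tt N28777 (iv4 F74499)) (tt N30660 F313760) (tt N8321 (iv6 D26310)) (tt N12510 (iv7 F155118)))
theorem Q17020 : ∀ i, i < 17020 → P i := stepQ 17019 Q17019 (allL N17019 (tt N10545 (iv1 F41926)) (tt N8322 (iv0 D26311)) (tt N10555 (iv2 F41925)) (tt N25665 (iv3 F61856)) (tt N10893 F41924) (tt N25523 (iv5 F61391)) (tt N33845 D54399) (tt N10554 F41927))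
theorem Q17021 : ∀ i, i < 17021 → P i := stepQ 17020 Q17020 (allL N17020 (tt N33846 D54400) (tt N33847 D54401) (tt N33840 (iv2 F85865)) (tt N8791 F41928) (tt N8323 F41929) (tt N33848 D54402) (tt N8322 (iv6 D26312)) (tt N33849 D54403))
theorem Q17022 : ∀ i, i < 17022 → P i := stepQ 17021 Q17021 (allL N17021 (tt N33842 (iv1 F85874)) (tt N8323 (iv0 D26313)) (tt N33841 (iv2 F155323)) (tt N33850 D54405) (tt N28307 F321077) (tt N33851 D54407) (tt N33852 D54408) (tt N28825 F321078))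
theorem Q17023 : ∀ i, i < 17023 → P i := stepQ 17022 Q17022 (allL N17022 (tt N8323 (iv1 D26314)) (tt N33842 F85873) (tt N28825 F321063) (tt N33853 D54410) (tt N28824 F321064) (tt N21790 (iv5 F51898)) (tt N33854 D54412) (tt N33841 (iv7 F155325)))
theorem Q17024 : ∀ i, i < 17024 → P i := stepQ 17023 Q17023 (allL N17023 (tt N28825 F321069) (tt N33841 F85872) (tt N33842 (iv2 F85868)) (tt N8325 F41930) (tt N33849 (iv4 F85895)) (tt N33842 (iv5 F85870)) (tt N10561 F41931) (tt N8323 (iv7 D26315)))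
theorem Q17025 : ∀ i, i < 17025 → P i := stepQ 17024 Q17024 (allL N17024 (tt N10626 (iv1 F41939)) (tt N8324 (iv0 D26316)) (tt N10624 F41967) (tt N33855 D54413) (tt N22488 (iv4 F53219)) (tt N21819 (iv5 F51972)) (tt N33856 D54414) (tt N10625 F41966))
theorem Q17026 : ∀ i, i < 17026 → P i := stepQ 17025 Q17025 (allL N17025 (tt N8324 (iv1 D26317)) (tt N10626 F41932) (tt N10625 F41934) (tt N33857 D54415) (tt N22489 (iv4 F53223)) (tt N11989 F300286) (tt N22873 F308994) (tt N10624 (iv7 F41968)))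
theorem Q17027 : ∀ i, i < 17027 → P i := stepQ 17026 Q17026 (allL N17026 (tt N33858 D54417) (tt N33859 D54418) (tt N10623 F41935) (tt N33860 D54419) (tt N8324 (iv4 D26318)) (tt N22575 F308901) (tt N8326 F41936) (tt N33861 D54421))
theorem Q17028 : ∀ i, i < 17028 → P i := stepQ 17027 Q17027 (allL N17027 (tt N10625 (iv1 F41940)) (tt N10624 F41969) (tt N10626 F41937) (tt N33842 (iv3 F85869)) (tt N33861 (iv4 F85931)) (tt N8325 F41938) (tt N33817 (iv6 F85716)) (tt N8324 (iv7 D26319)))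
theorem Q17029 : ∀ i, i < 17029 → P i := stepQ 17028 Q17028 (allL N17028 (tt N28283 (iv1 F74242)) (tt N28286 F73554) (tt N12333 F41970) (tt N8326 (iv3 D26320)) (tt N33839 (iv4 F85860)) (tt N29259 (iv5 F75477)) (tt N33860 (iv6 F85926)) (tt N33813 (iv7 F85707)))
theorem Q17030 : ∀ i, i < 17030 → P i := stepQ 17029 Q17029 (allL N17029 (tt N17350 F308392) (tt N22841 (iv0 F309942)) (tt N10637 F41971) (tt N11794 F41972) (tt N15340 F308393) (tt N9523 F41973) (tt N8327 (iv6 D26321)) (tt N22839 (iv7 F310523)))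
theorem Q17031 : ∀ i, i < 17031 → P i := stepQ 17030 Q17030 (allL N17030 (tt N33862 D54425) (tt N23057 F130852) (tt N10641 F41974) (tt N22171 (iv3 F52623)) (tt N21840 (iv4 F52022)) (tt N10207 F41975) (tt N8329 (iv6 D26322)) (tt N33863 D54426))
theorem Q17032 : ∀ i, i < 17032 → P i := stepQ 17031 Q17031 (allL N17031 (tt N21738 F51784) (tt N21982 (iv0 F300125)) (tt N8333 F41976) (tt N10651 F41977) (tt N19497 F302912) (tt N11142 F41978) (tt N8332 (iv6 D26323)) (tt N33864 D54428))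
theorem Q17033 : ∀ i, i < 17033 → P i := stepQ 17032 Q17032 (allL N17032 (tt N33864 (iv1 F85966)) (tt N8333 (iv0 D26324)) (tt N21738 (iv2 F51783)) (tt N11477 (iv3 F302707)) (tt N22830 (iv4 F302965)) (tt N25436 (iv5 F302708)) (tt N11699 F41979) (tt N21982 (iv7 F300128)))
theorem Q17034 : ∀ i, i < 17034 → P i := stepQ 17033 Q17033 (allL N17033 (tt N8333 (iv1 D26325)) (tt N33864 F85965) (tt N21982 (iv2 F300127)) (tt N14618 (iv3 F302074)) (tt N15227 (iv4 F302964)) (tt N25394 (iv5 F302709)) (tt N9892 (iv6 F305289)) (tt N21738 F51785))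
theorem Q17035 : ∀ i, i < 17035 → P i := stepQ 17034 Q17034 (allL N17034 (tt N21982 (iv1 F300126)) (tt N21738 (iv0 F85749)) (tt N33864 (iv2 F85961)) (tt N8334 F41980) (tt N12743 F297835) (tt N19498 (iv5 F47810)) (tt N10697 F41981) (tt N8333 (iv7 D26326)))
theorem Q17036 : ∀ i, i < 17036 → P i := stepQ 17035 Q17035 (allL N17035 (tt N29769 F77245) (tt N29764 (iv0 F77226)) (tt N22093 (iv2 F52470)) (tt N8337 F41982) (tt N17164 (iv4 F42409)) (tt N33865 D54436) (tt N8336 (iv6 D26327)) (tt N22095 (iv7 F52476)))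
theorem Q17037 : ∀ i, i < 17037 → P i := stepQ 17036 Q17036 (allL N17036 (tt N22579 F53350) (tt N10234 F50493) (tt N10647 F41983) (tt N33865 (iv3 F85972)) (tt N33866 D54437) (tt N8337 (iv5 D26328)) (tt N30660 F315141) (tt N33582 (iv7 F85192)))
theorem Q17038 : ∀ i, i < 17038 → P i := stepQ 17037 Q17037 (allL N17037 (tt N10659 F41986) (tt N10658 F41987) (tt N8340 F41984) (tt N33867 D54438) (tt N8338 (iv4 D26329)) (tt N21785 (iv5 F51890)) (tt N33868 D54439) (tt N10650 F41985))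
theorem Q17039 : ∀ i, i < 17039 → P i := stepQ 17038 Q17038 (allL N17038 (tt N33869 D54440) (tt N33870 D54441) (tt N8341 F41988) (tt N10683 F41989) (tt N33868 (iv4 F85981)) (tt N33871 D54442) (tt N8338 (iv6 D26330)) (tt N33872 D54443))
theorem Q17040 : ∀ i, i < 17040 → P i := stepQ 17039 Q17039 (allL N17039 (tt N20982 F50604) (tt N20979 (iv0 F50632)) (tt N8343 F41990) (tt N8477 F41991) (tt N33873 D54444) (tt N8339 (iv5 D26331)) (tt N33871 (iv6 F85985)) (tt N11042 F41992))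
theorem Q17041 : ∀ i, i < 17041 → P i := stepQ 17040 Q17040 (allL N17040 (tt N10650 (iv1 F41996)) (tt N8340 (iv0 D26332)) (tt N10659 (iv2 F41995)) (tt N28388 (iv3 F73775)) (tt N10533 F41994) (tt N12801 F41993) (tt N33874 D54445) (tt N10658 F41997))
theorem Q17042 : ∀ i, i < 17042 → P i := stepQ 17041 Q17041 (allL N17041 (tt N33875 D54446) (tt N33876 D54447) (tt N33868 (iv2 F85980)) (tt N8688 F41998) (tt N8341 F41999) (tt N33877 D54448) (tt N8340 (iv6 D26333)) (tt N33878 D54449))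
theorem Q17043 : ∀ i, i < 17043 → P i := stepQ 17042 Q17042 (allL N17042 (tt N33872 (iv1 F85991)) (tt N8341 (iv0 D26334)) (tt N33869 (iv2 F187630)) (tt N33879 D54451) (tt N33880 D54452) (tt N33881 D54453) (tt N33882 D54454) (tt N33870 F187629))
theorem Q17044 : ∀ i, i < 17044 → P i := stepQ 17043 Q17043 (allL N17043 (tt N8341 (iv1 D26335)) (tt N33872 F85990) (tt N33870 F187623) (tt N33883 D54456) (tt N33884 D54457) (tt N33885 D54458) (tt N33886 D54459) (tt N33869 (iv7 F187631)))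
theorem Q17045 : ∀ i, i < 17045 → P i := stepQ 17044 Q17044 (allL N17044 (tt N33887 D54460) (tt N33888 D54461) (tt N33871 (iv2 F85983)) (tt N8345 F42000) (tt N33889 D54462) (tt N8341 (iv5 D26336)) (tt N8343 F42001) (tt N33890 D54463))
theorem Q17046 : ∀ i, i < 17046 → P i := stepQ 17045 Q17045 (allL N17045 (tt N33870 (iv1 F85982)) (tt N33869 F85989) (tt N33872 (iv2 F85986)) (tt N8346 F42002) (tt N33878 (iv4 F85998)) (tt N33890 (iv5 F86004)) (tt N10663 F42003) (tt N8341 (iv7 D26337)))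
theorem Q17047 : ∀ i, i < 17047 → P i := stepQ 17046 Q17046 (allL N17046 (tt N23148 F55084) (tt N32821 F83607) (tt N32819 (iv2 F83600)) (tt N8342 (iv3 D26338)) (tt N17202 F42494) (tt N33891 D54464) (tt N10297 F42004) (tt N10643 F42005))
theorem Q17048 : ∀ i, i < 17048 → P i := stepQ 17047 Q17047 (allL N17047 (tt N10234 F50494) (tt N22579 (iv0 F53349)) (tt N33582 (iv2 F85191)) (tt N33891 (iv3 F86005)) (tt N33892 D54465) (tt N8342 (iv5 D26340)) (tt N33893 D54466) (tt N10647 F42008))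
theorem Q17049 : ∀ i, i < 17049 → P i := stepQ 17048 Q17048 (allL N17048 (tt N11042 (iv1 F42013)) (tt N8343 (iv0 D26341)) (tt N20982 F50647) (tt N33894 D54467) (tt N33895 D54468) (tt N20963 (iv5 F50602)) (tt N33896 D54469) (tt N20979 (iv7 F50640)))
theorem Q17050 : ∀ i, i < 17050 → P i := stepQ 17049 Q17049 (allL N17049 (tt N8343 (iv1 D26342)) (tt N11042 F42009) (tt N20979 (iv2 F50645)) (tt N33897 D54470) (tt N33898 D54471) (tt N20962 F50644) (tt N20384 (iv6 F322610)) (tt N20982 (iv7 F50646)))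
theorem Q17051 : ∀ i, i < 17051 → P i := stepQ 17050 Q17050 (allL N17050 (tt N33899 D54473) (tt N33900 D54474) (tt N33873 (iv2 F85992)) (tt N33482 (iv3 F320620)) (tt N8343 (iv4 D26343)) (tt N33901 D54476) (tt N33889 (iv6 F86002)) (tt N33902 D54477))
theorem Q17052 : ∀ i, i < 17052 → P i := stepQ 17051 Q17051 (allL N17051 (tt N20979 (iv1 F50634)) (tt N20982 (iv0 F50601)) (tt N11042 F42010) (tt N8352 F42011) (tt N33902 (iv4 F86013)) (tt N8344 F42012) (tt N33903 D54478) (tt N8343 (iv7 D26344)))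
theorem Q17053 : ∀ i, i < 17053 → P i := stepQ 17052 Q17052 (allL N17052 (tt N10707 (iv1 F42016)) (tt N8345 (iv0 D26345)) (tt N10705 F42017) (tt N33904 D54479) (tt N11094 (iv4 F315099)) (tt N11969 F42014) (tt N20233 F312643) (tt N10706 (iv7 F42015)))
theorem Q17054 : ∀ i, i < 17054 → P i := stepQ 17053 Q17053 (allL N17053 (tt N10706 (iv1 F42026)) (tt N10705 F42027) (tt N10707 F42024) (tt N33890 (iv3 F86003)) (tt N15299 (iv4 F315101)) (tt N8346 F42025) (tt N33905 D54486) (tt N8345 (iv7 D26348)))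
theorem Q17055 : ∀ i, i < 17055 → P i := stepQ 17054 Q17054 (allL N17054 (tt N9140 F50832) (tt N8347 (iv0 D26349)) (tt N9142 F50833) (tt N32821 (iv3 F83604)) (tt N9162 (iv4 F42093)) (tt N33906 D54487) (tt N9129 F50834) (tt N9130 F50835))
theorem Q17056 : ∀ i, i < 17056 → P i := stepQ 17055 Q17055 (allL N17055 (tt N9142 (iv1 F50860)) (tt N9130 (iv0 F50861)) (tt N8347 (iv2 D26351)) (tt N10709 F42029) (tt N10719 F42030) (tt N33907 D54488) (tt N9118 F42031) (tt N9140 F50836))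
theorem Q17057 : ∀ i, i < 17057 → P i := stepQ 17056 Q17056 (allL N17056 (tt N33908 D54489) (tt N33909 D54490) (tt N33907 (iv2 F86050)) (tt N8348 F42036) (tt N33910 D54491) (tt N8347 (iv5 D26352)) (tt N9906 F314692) (tt N10712 F42037))
theorem Q17058 : ∀ i, i < 17058 → P i := stepQ 17057 Q17057 (allL N17057 (tt N33911 D54498) (tt N30537 (iv0 F78831)) (tt N29778 (iv2 F77264)) (tt N8350 F42049) (tt N33912 D54499) (tt N8349 (iv5 D26358)) (tt N33913 D54500) (tt N10711 F42050))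
theorem Q17059 : ∀ i, i < 17059 → P i := stepQ 17058 Q17058 (allL N17058 (tt N22703 F315109) (tt N22702 F315110) (tt N10713 F42054) (tt N33913 (iv3 F86085)) (tt N9903 (iv4 F316162)) (tt N33492 (iv5 F84951)) (tt N8350 (iv6 D26360)) (tt N9900 F315111))
theorem Q17060 : ∀ i, i < 17060 → P i := stepQ 17059 Q17059 (allL N17059 (tt N33906 F86049) (tt N9141 F54115) (tt N33914 D54506) (tt N8351 (iv3 D26361)) (tt N33915 D54507) (tt N16815 F42055) (tt N20498 F318620) (tt N10716 F42056))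
theorem Q17061 : ∀ i, i < 17061 → P i := stepQ 17060 Q17060 (allL N17060 (tt N33470 F317299) (tt N33474 F317300) (tt N10717 F42070) (tt N33903 (iv3 F86018)) (tt N10189 F317301) (tt N9388 F42071) (tt N8352 (iv6 D26368)) (tt N33905 (iv7 F86043)))
theorem Q17062 : ∀ i, i < 17062 → P i := stepQ 17061 Q17061 (allL N17061 (tt N8430 (iv1 F42073)) (tt N8353 (iv0 D26369)) (tt N8432 (iv2 F42072)) (tt N10735 F42076) (tt N32652 (iv4 F83290)) (tt N33916 D54527) (tt N8421 (iv6 F42075)) (tt N8422 F42074))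
theorem Q17063 : ∀ i, i < 17063 → P i := stepQ 17062 Q17062 (allL N17062 (tt N33917 D54528) (tt N11035 (iv0 F46298)) (tt N10802 F42077) (tt N8354 F42078) (tt N33918 D54529) (tt N8353 (iv5 D26370)) (tt N11123 F315209) (tt N10725 F42079))
theorem Q17064 : ∀ i, i < 17064 → P i := stepQ 17063 Q17063 (allL N17063 (tt N33919 D54536) (tt N22812 (iv0 F54466)) (tt N10910 F50996) (tt N8356 F42094) (tt N33920 D54537) (tt N8355 (iv5 D26374)) (tt N33921 D54538) (tt N10720 F42095))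
theorem Q17065 : ∀ i, i < 17065 → P i := stepQ 17064 Q17064 (allL N17064 (tt N20253 F316090) (tt N20251 F316091) (tt N10727 F42100) (tt N33921 (iv3 F86175)) (tt N15221 (iv4 F317323)) (tt N33580 (iv5 F85187)) (tt N8356 (iv6 D26376)) (tt N11122 F316092))
theorem Q17066 : ∀ i, i < 17066 → P i := stepQ 17065 Q17065 (allL N17065 (tt N32849 (iv1 F83655)) (tt N32832 F83621) (tt N10798 F42101) (tt N17528 F43587) (tt N32596 (iv4 F83184)) (tt N8357 (iv5 D26377)) (tt N33922 D54544) (tt N10794 F42102))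
theorem Q17067 : ∀ i, i < 17067 → P i := stepQ 17066 Q17066 (allL N17066 (tt N29791 (iv1 F77327)) (tt N33923 D54545) (tt N10800 F42103) (tt N17244 F42579) (tt N8358 (iv4 D26378)) (tt N22993 (iv5 F54847)) (tt N33924 D54546) (tt N10795 F42104))
theorem Q17068 : ∀ i, i < 17068 → P i := stepQ 17067 Q17067 (allL N17067 (tt N12443 (iv1 F199843)) (tt N8833 (iv0 F199856)) (tt N10801 F42105) (tt N11124 F312227) (tt N33924 (iv4 F86199)) (tt N11123 (iv5 F313578)) (tt N8358 (iv6 D26379)) (tt N12442 (iv7 F199835)))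
theorem Q17069 : ∀ i, i < 17069 → P i := stepQ 17068 Q17068 (allL N17068 (tt N32832 F83620) (tt N32849 F83656) (tt N10794 F42107) (tt N17117 (iv3 F42271)) (tt N32597 F83190) (tt N8359 (iv5 D26380)) (tt N33925 D54550) (tt N10798 F42108))
theorem Q17070 : ∀ i, i < 17070 → P i := stepQ 17069 Q17069 (allL N17069 (tt N33923 (iv1 F86193)) (tt N29791 (iv0 F77326)) (tt N10795 F42110) (tt N33926 D54551) (tt N8360 (iv4 D26381)) (tt N33927 D54552) (tt N33928 D54553) (tt N10800 F42111))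
theorem Q17071 : ∀ i, i < 17071 → P i := stepQ 17070 Q17070 (allL N17070 (tt N8463 (iv1 F130735)) (tt N11016 (iv0 F130736)) (tt N10796 F42112) (tt N22186 (iv3 F52665)) (tt N33928 (iv4 F86213)) (tt N33604 (iv5 F85253)) (tt N8360 (iv6 D26382)) (tt N11015 F130765))
theorem Q17072 : ∀ i, i < 17072 → P i := stepQ 17071 Q17071 (allL N17071 (tt N10828 F42115) (tt N10827 F42116) (tt N8363 F42113) (tt N33929 D54557) (tt N8361 (iv4 D26383)) (tt N12123 F51499) (tt N33929 F302369) (tt N10805 F42114))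
theorem Q17073 : ∀ i, i < 17073 → P i := stepQ 17072 Q17072 (allL N17072 (tt N33930 D54559) (tt N33931 D54560) (tt N8364 F42117) (tt N10745 (iv3 F301043)) (tt N33929 F301042) (tt N33932 D54561) (tt N8361 (iv6 D26384)) (tt N33933 D54562))
theorem Q17074 : ∀ i, i < 17074 → P i := stepQ 17073 Q17073 (allL N17073 (tt N8368 (iv1 F42124)) (tt N8362 (iv0 D26385)) (tt N8365 (iv2 F42119)) (tt N10861 F53988) (tt N21968 (iv4 F52292)) (tt N33934 D54563) (tt N10381 F42120) (tt N8366 (iv7 F42121)))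
theorem Q17075 : ∀ i, i < 17075 → P i := stepQ 17074 Q17074 (allL N17074 (tt N33935 D54564) (tt N8488 (iv0 F42127)) (tt N8367 F42125) (tt N10748 F42126) (tt N33936 D54565) (tt N8362 (iv5 D26386)) (tt N33932 (iv6 F86231)) (tt N33937 D54566))
theorem Q17076 : ∀ i, i < 17076 → P i := stepQ 17075 Q17075 (allL N17075 (tt N8366 (iv1 F42131)) (tt N8365 F42132) (tt N8368 F42128) (tt N10749 F42129) (tt N32129 (iv4 F82390)) (tt N33937 (iv5 F86250)) (tt N8447 F42130) (tt N8362 (iv7 D26387)))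
theorem Q17077 : ∀ i, i < 17077 → P i := stepQ 17076 Q17076 (allL N17076 (tt N10805 (iv1 F42134)) (tt N8363 (iv0 D26388)) (tt N10828 (iv2 F42133)) (tt N24652 (iv3 F59256)) (tt N21769 (iv4 F51847)) (tt N22464 (iv5 F53185)) (tt N33938 D54567) (tt N10827 F42135))
theorem Q17078 : ∀ i, i < 17078 → P i := stepQ 17077 Q17077 (allL N17077 (tt N12124 (iv1 F42139)) (tt N11271 (iv0 F42138)) (tt N12123 (iv2 F51500)) (tt N8669 F42136) (tt N33939 D54568) (tt N8363 (iv5 D26389)) (tt N33940 D54569) (tt N10829 F42137))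
theorem Q17079 : ∀ i, i < 17079 → P i := stepQ 17078 Q17078 (allL N17078 (tt N33941 D54570) (tt N33942 D54571) (tt N33929 (iv2 F300387)) (tt N8666 F297973) (tt N8364 F42141) (tt N33943 D54572) (tt N8363 (iv6 D26390)) (tt N11907 (iv7 F299458)))
theorem Q17080 : ∀ i, i < 17080 → P i := stepQ 17079 Q17079 (allL N17079 (tt N33933 (iv1 F86237)) (tt N8364 (iv0 D26391)) (tt N33930 (iv2 F86914)) (tt N22483 (iv3 F53238)) (tt N26170 (iv4 F302403)) (tt N33944 D54576) (tt N22480 F53237) (tt N33931 (iv7 F86917)))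
theorem Q17081 : ∀ i, i < 17081 → P i := stepQ 17080 Q17080 (allL N17080 (tt N8364 (iv1 D26392)) (tt N33933 F86236) (tt N33931 (iv2 F86916)) (tt N22194 F190465) (tt N26171 (iv4 F302404)) (tt N33945 D54580) (tt N33946 D54581) (tt N33930 (iv7 F86915)))
theorem Q17082 : ∀ i, i < 17082 → P i := stepQ 17081 Q17081 (allL N17081 (tt N33947 D54582) (tt N33948 D54583) (tt N33932 (iv2 F86229)) (tt N8371 F42142) (tt N33949 D54584) (tt N8364 (iv5 D26393)) (tt N8367 F42143) (tt N33950 D54585))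
theorem Q17083 : ∀ i, i < 17083 → P i := stepQ 17082 Q17082 (allL N17082 (tt N33931 (iv1 F86228)) (tt N33930 F86235) (tt N33933 (iv2 F86232)) (tt N8372 F42144) (tt N11907 (iv4 F299457)) (tt N33950 (iv5 F86267)) (tt N10834 F42145) (tt N8364 (iv7 D26394)))
theorem Q17084 : ∀ i, i < 17084 → P i := stepQ 17083 Q17083 (allL N17083 (tt N32881 (iv1 F83700)) (tt N32789 (iv0 F83534)) (tt N21968 (iv2 F52290)) (tt N9509 F42146) (tt N8365 (iv4 D26395)) (tt N33951 D54586) (tt N32486 (iv6 F82941)) (tt N19447 F47689))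
theorem Q17085 : ∀ i, i < 17085 → P i := stepQ 17084 Q17084 (allL N17084 (tt N17342 F42822) (tt N17345 (iv0 F42828)) (tt N33934 (iv2 F86238)) (tt N9524 F42147) (tt N25111 F311555) (tt N8365 (iv5 D26396)) (tt N33952 D54588) (tt N19454 (iv7 F47704)))
theorem Q17086 : ∀ i, i < 17086 → P i := stepQ 17085 Q17085 (allL N17085 (tt N32789 (iv1 F83537)) (tt N32881 F83699) (tt N19447 (iv2 F47686)) (tt N21939 (iv3 F52220)) (tt N8366 (iv4 D26398)) (tt N33953 D54589) (tt N19445 F47683) (tt N21968 (iv7 F52291)))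
theorem Q17087 : ∀ i, i < 17087 → P i := stepQ 17086 Q17086 (allL N17086 (tt N17345 F52522) (tt N17342 (iv0 F42821)) (tt N19454 (iv2 F47702)) (tt N22198 (iv3 F54366)) (tt N33954 D54590) (tt N8366 (iv5 D26399)) (tt N33955 D54591) (tt N33934 (iv7 F86240)))
theorem Q17088 : ∀ i, i < 17088 → P i := stepQ 17087 Q17087 (allL N17087 (tt N33937 (iv1 F86252)) (tt N8367 (iv0 D26400)) (tt N33935 F86243) (tt N8492 F42150) (tt N33956 D54592) (tt N8489 F42151) (tt N33957 D54593) (tt N8488 (iv7 F42152)))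
theorem Q17089 : ∀ i, i < 17089 → P i := stepQ 17088 Q17088 (allL N17088 (tt N8367 (iv1 D26401)) (tt N33937 F86251) (tt N8488 F42154) (tt N11173 F42155) (tt N33958 D54594) (tt N8487 (iv5 F42153)) (tt N33959 D54595) (tt N33935 (iv7 F86245)))
theorem Q17090 : ∀ i, i < 17090 → P i := stepQ 17089 Q17089 (allL N17089 (tt N33960 D54596) (tt N33961 D54597) (tt N33936 (iv2 F86247)) (tt N33962 D54598) (tt N8367 (iv4 D26402)) (tt N33963 D54599) (tt N33949 (iv6 F86265)) (tt N33964 D54600))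
theorem Q17091 : ∀ i, i < 17091 → P i := stepQ 17090 Q17090 (allL N17090 (tt N8488 (iv1 F42158)) (tt N33935 F86246) (tt N33937 (iv2 F86248)) (tt N8374 F42156) (tt N33964 (iv4 F86286)) (tt N8368 F42157) (tt N33965 D54601) (tt N8367 (iv7 D26403)))
theorem Q17092 : ∀ i, i < 17092 → P i := stepQ 17091 Q17091 (allL N17091 (tt N11322 (iv1 F53203)) (tt N23914 (iv0 F300756)) (tt N10784 (iv2 F42191)) (tt N25407 (iv3 F301434)) (tt N8694 F42178) (tt N17294 F42702) (tt N8369 (iv6 D26408)) (tt N22485 (iv7 F53212)))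
theorem Q17093 : ∀ i, i < 17093 → P i := stepQ 17092 Q17092 (allL N17092 (tt N8417 F85920) (tt N33966 D54610) (tt N25424 (iv2 F300648)) (tt N8370 (iv3 D26410)) (tt N33967 D54612) (tt N23931 (iv5 F300654)) (tt N33968 D54614) (tt N10782 F42195))
theorem Q17094 : ∀ i, i < 17094 → P i := stepQ 17093 Q17093 (allL N17093 (tt N12464 F42202) (tt N11208 F44886) (tt N10787 F42200) (tt N33968 (iv3 F86316)) (tt N8696 (iv4 F42201)) (tt N17935 (iv5 F44884)) (tt N8370 (iv6 D26413)) (tt N25139 (iv7 F60347)))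
theorem Q17095 : ∀ i, i < 17095 → P i := stepQ 17094 Q17094 (allL N17094 (tt N8371 (iv1 D26415)) (tt N8658 (iv0 F298460)) (tt N10789 (iv2 F42646)) (tt N27938 (iv3 F300683)) (tt N11629 (iv4 F299180)) (tt N8562 F298199) (tt N21437 F317788) (tt N10788 (iv7 F42648)))
theorem Q17096 : ∀ i, i < 17096 → P i := stepQ 17095 Q17095 (allL N17095 (tt N10789 (iv1 F42168)) (tt N10788 F42203) (tt N8658 F298700) (tt N33950 (iv3 F86266)) (tt N8669 (iv4 F299528)) (tt N8372 F42166) (tt N33969 D54624) (tt N8371 (iv7 D26417)))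
theorem Q17097 : ∀ i, i < 17097 → P i := stepQ 17096 Q17096 (allL N17096 (tt N33970 D54625) (tt N33971 D54626) (tt N33972 D54627) (tt N8373 (iv3 D26418)) (tt N33962 (iv4 F86283)) (tt N9617 F42204) (tt N10829 F305113) (tt N9616 F42205))
theorem Q17098 : ∀ i, i < 17098 → P i := stepQ 17097 Q17097 (allL N17097 (tt N20763 F316183) (tt N20760 F316184) (tt N10792 F42206) (tt N33965 (iv3 F86287)) (tt N9618 F42207) (tt N10850 F42208) (tt N8374 (iv6 D26419)) (tt N33969 (iv7 F86342)))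
theorem Q17099 : ∀ i, i < 17099 → P i := stepQ 17098 Q17098 (allL N17098 (tt N33973 D54630) (tt N29909 F77594) (tt N10739 F42209) (tt N21763 (iv3 F51832)) (tt N33974 D54631) (tt N8375 (iv5 D26420)) (tt N33975 D54632) (tt N10731 F42210))
theorem Q17100 : ∀ i, i < 17100 → P i := stepQ 17099 Q17099 (allL N17099 (tt N33976 D54633) (tt N33977 D54634) (tt N10740 F42211) (tt N14320 F42212) (tt N8376 (iv4 D26421)) (tt N17640 (iv5 F44203)) (tt N33978 D54635) (tt N10733 F42213))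
theorem Q17101 : ∀ i, i < 17101 → P i := stepQ 17100 Q17100 (allL N17100 (tt N11005 F232264) (tt N8466 (iv0 F232278)) (tt N10741 F42214) (tt N21764 (iv3 F51836)) (tt N33978 (iv4 F86375)) (tt N33629 (iv5 F85299)) (tt N8376 (iv6 D26422)) (tt N11004 F232265))
theorem Q17102 : ∀ i, i < 17102 → P i := stepQ 17101 Q17101 (allL N17101 (tt N8403 (iv1 F42218)) (tt N8377 (iv0 D26423)) (tt N8408 (iv2 F42217)) (tt N8423 F42215) (tt N11361 F42216) (tt N21742 (iv5 F51794)) (tt N8469 (iv6 F42220)) (tt N8404 F42219))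
theorem Q17103 : ∀ i, i < 17103 → P i := stepQ 17102 Q17102 (allL N17102 (tt N8616 F42224) (tt N8435 F42225) (tt N12415 F42221) (tt N8379 F42222) (tt N29786 (iv4 F77299)) (tt N8377 (iv5 D26424)) (tt N20286 (iv6 F306067)) (tt N10738 F42223))
theorem Q17104 : ∀ i, i < 17104 → P i := stepQ 17103 Q17103 (allL N17103 (tt N8393 (iv1 F42262)) (tt N8383 (iv0 F42228)) (tt N8390 F42226) (tt N8380 F42227) (tt N29752 (iv4 F77178)) (tt N20287 (iv5 F310034)) (tt N8377 (iv6 D26425)) (tt N8391 (iv7 F42229)))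
theorem Q17105 : ∀ i, i < 17105 → P i := stepQ 17104 Q17104 (allL N17104 (tt N29909 F77593) (tt N33973 F86357) (tt N10731 F42232) (tt N29554 F76677) (tt N17657 (iv4 F44243)) (tt N8378 (iv5 D26426)) (tt N33979 D54641) (tt N10739 F42233))
theorem Q17106 : ∀ i, i < 17106 → P i := stepQ 17105 Q17105 (allL N17105 (tt N29773 (iv1 F77259)) (tt N23141 (iv0 F55052)) (tt N10732 F42234) (tt N29561 (iv3 F76704)) (tt N8380 F42235) (tt N33980 D54642) (tt N8378 (iv6 D26427)) (tt N29771 (iv7 F77251)))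
theorem Q17107 : ∀ i, i < 17107 → P i := stepQ 17106 Q17106 (allL N17106 (tt N33977 (iv1 F86368)) (tt N33976 F86365) (tt N10733 F42236) (tt N33981 D54643) (tt N8379 (iv4 D26428)) (tt N25662 (iv5 F61836)) (tt N33982 D54644) (tt N10740 F42237))
theorem Q17108 : ∀ i, i < 17108 → P i := stepQ 17107 Q17107 (allL N17107 (tt N8830 F232340) (tt N12454 F232341) (tt N10734 F42238) (tt N20286 F308013) (tt N33982 (iv4 F86394)) (tt N20284 (iv5 F310033)) (tt N8379 (iv6 D26429)) (tt N12453 F232342))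
theorem Q17109 : ∀ i, i < 17109 → P i := stepQ 17108 Q17108 (allL N17108 (tt N8380 (iv1 D26431)) (tt N10337 F42240) (tt N8469 F43612) (tt N8422 F43613) (tt N14750 F43614) (tt N33983 D54649) (tt N8408 F43615) (tt N10735 F43616))
theorem Q17110 : ∀ i, i < 17110 → P i := stepQ 17109 Q17109 (allL N17109 (tt N11032 F50496) (tt N33984 D54650) (tt N10736 F42241) (tt N20287 F312291) (tt N33985 D54651) (tt N8380 (iv5 D26432)) (tt N20284 F312292) (tt N33634 (iv7 F85315)))
theorem Q17111 : ∀ i, i < 17111 → P i := stepQ 17110 Q17110 (allL N17110 (tt N10756 (iv1 F42246)) (tt N10755 F42245) (tt N8386 F42242) (tt N16450 F42243) (tt N33986 D54652) (tt N8381 (iv5 D26433)) (tt N33987 D54653) (tt N10743 F42244))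
theorem Q17112 : ∀ i, i < 17112 → P i := stepQ 17111 Q17111 (allL N17111 (tt N11363 F42250) (tt N22133 F52515) (tt N8387 F42247) (tt N16451 F42248) (tt N8383 F42249) (tt N33988 D54654) (tt N8381 (iv6 D26434)) (tt N33989 D54655))
theorem Q17113 : ∀ i, i < 17113 → P i := stepQ 17112 Q17112 (allL N17112 (tt N10769 F42253) (tt N10768 F42254) (tt N8388 F42251) (tt N33933 (iv3 F301438)) (tt N8382 (iv4 D26435)) (tt N33990 D54657) (tt N33991 D54658) (tt N10745 F42252))
theorem Q17114 : ∀ i, i < 17114 → P i := stepQ 17113 Q17113 (allL N17113 (tt N20727 (iv1 F316966)) (tt N33992 D54660) (tt N8389 F42255) (tt N10806 F42256) (tt N33991 (iv4 F86442)) (tt N33993 D54661) (tt N8382 (iv6 D26436)) (tt N33991 (iv7 F303866)))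
theorem Q17115 : ∀ i, i < 17115 → P i := stepQ 17114 Q17114 (allL N17114 (tt N8383 (iv1 D26437)) (tt N8393 F42257) (tt N8391 (iv2 F42261)) (tt N10898 (iv3 F50999)) (tt N33994 D54663) (tt N33995 D54664) (tt N10351 F42260) (tt N8390 F42258))
theorem Q17116 : ∀ i, i < 17116 → P i := stepQ 17115 Q17115 (allL N17115 (tt N33996 D54665) (tt N23338 (iv0 F55642)) (tt N8392 F42263) (tt N10807 F42264) (tt N33997 D54666) (tt N8383 (iv5 D26438)) (tt N33993 (iv6 F86446)) (tt N33998 D54667))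
theorem Q17117 : ∀ i, i < 17117 → P i := stepQ 17116 Q17116 (allL N17116 (tt N8391 (iv1 F42268)) (tt N8390 F42269) (tt N8393 F42265) (tt N8447 F42266) (tt N33989 (iv4 F86425)) (tt N33998 (iv5 F86472)) (tt N10749 F42267) (tt N8383 (iv7 D26439)))
theorem Q17118 : ∀ i, i < 17118 → P i := stepQ 17117 Q17117 (allL N17117 (tt N11420 F42273) (tt N8602 F42274) (tt N10754 F42270) (tt N17068 F42271) (tt N33999 D54668) (tt N8384 (iv5 D26440)) (tt N34000 D54669) (tt N10751 F42272))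
theorem Q17119 : ∀ i, i < 17119 → P i := stepQ 17118 Q17118 (allL N17118 (tt N16550 F42279) (tt N14745 (iv0 F42280)) (tt N16378 F42275) (tt N8385 (iv3 D26441)) (tt N8550 F42276) (tt N29892 (iv5 F77548)) (tt N9108 F42277) (tt N10753 F42278))
theorem Q17120 : ∀ i, i < 17120 → P i := stepQ 17119 Q17119 (allL N17119 (tt N8602 F42283) (tt N11420 F42285) (tt N10751 F42281) (tt N29892 (iv3 F77551)) (tt N34001 D54670) (tt N8385 (iv5 D26442)) (tt N34002 D54671) (tt N10754 F42282))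
theorem Q17121 : ∀ i, i < 17121 → P i := stepQ 17120 Q17120 (allL N17120 (tt N23291 (iv1 F55422)) (tt N23309 (iv0 F55468)) (tt N33986 (iv2 F86414)) (tt N29563 (iv3 F76712)) (tt N8386 (iv4 D26443)) (tt N17654 (iv5 F44240)) (tt N34003 D54672) (tt N10757 F42286))
theorem Q17122 : ∀ i, i < 17122 → P i := stepQ 17121 Q17121 (allL N17121 (tt N34004 D54673) (tt N34005 D54674) (tt N33987 (iv2 F86419)) (tt N11219 F42287) (tt N34003 (iv4 F86484)) (tt N34006 D54675) (tt N8386 (iv6 D26444)) (tt N34007 D54676))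
theorem Q17123 : ∀ i, i < 17123 → P i := stepQ 17122 Q17122 (allL N17122 (tt N33989 (iv1 F86428)) (tt N8387 (iv0 D26445)) (tt N11363 (iv2 F42290)) (tt N16469 F42288) (tt N11373 (iv4 F42291)) (tt N34008 D54677) (tt N11362 F42289) (tt N22133 (iv7 F52513)))
theorem Q17124 : ∀ i, i < 17124 → P i := stepQ 17123 Q17123 (allL N17123 (tt N8387 (iv1 D26446)) (tt N33989 F86427) (tt N22133 (iv2 F52511)) (tt N11367 (iv3 F42293)) (tt N11377 (iv4 F42294)) (tt N34009 D54678) (tt N14725 F42295) (tt N11363 F42292))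
theorem Q17125 : ∀ i, i < 17125 → P i := stepQ 17124 Q17124 (allL N17124 (tt N34010 D54679) (tt N34011 D54680) (tt N33988 (iv2 F86421)) (tt N11220 F42296) (tt N34012 D54681) (tt N8387 (iv5 D26447)) (tt N34006 (iv6 F86486)) (tt N34013 D54682))
theorem Q17126 : ∀ i, i < 17126 → P i := stepQ 17125 Q17125 (allL N17125 (tt N22133 F52514) (tt N11363 (iv0 F42300)) (tt N33989 (iv2 F86423)) (tt N11221 F42297) (tt N8393 F42298) (tt N34013 (iv5 F86496)) (tt N10762 F42299) (tt N8387 (iv7 D26448)))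
theorem Q17127 : ∀ i, i < 17127 → P i := stepQ 17126 Q17126 (allL N17126 (tt N10745 (iv1 F42301)) (tt N8388 (iv0 D26449)) (tt N10769 (iv2 F42305)) (tt N34014 D54683) (tt N18532 (iv4 F46148)) (tt N22431 (iv5 F53012)) (tt N34015 D54684) (tt N10768 (iv7 F42307)))
theorem Q17128 : ∀ i, i < 17128 → P i := stepQ 17127 Q17127 (allL N17127 (tt N8388 (iv1 D26450)) (tt N10745 F42302) (tt N10768 F42306) (tt N25480 (iv3 F61203)) (tt N10610 (iv4 F42303)) (tt N22360 F52942) (tt N34016 D54685) (tt N10769 F42304))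
theorem Q17129 : ∀ i, i < 17129 → P i := stepQ 17128 Q17128 (allL N17128 (tt N34017 D54686) (tt N29761 (iv0 F77214)) (tt N33990 (iv2 F86436)) (tt N8658 F42308) (tt N17655 F44241) (tt N8388 (iv5 D26451)) (tt N34018 D54687) (tt N10770 F42309))
theorem Q17130 : ∀ i, i < 17130 → P i := stepQ 17129 Q17129 (allL N17129 (tt N33992 (iv1 F303867)) (tt N20727 (iv0 F321299)) (tt N33991 (iv2 F86441)) (tt N8397 F301110) (tt N8389 F42311) (tt N34019 D54690) (tt N8388 (iv6 D26452)) (tt N8389 F301111))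
theorem Q17131 : ∀ i, i < 17131 → P i := stepQ 17130 Q17130 (allL N17130 (tt N33991 (iv1 F303865)) (tt N8389 (iv0 D26453)) (tt N20727 F319255) (tt N34020 D54693) (tt N34021 D54694) (tt N20715 F319256) (tt N34022 D54696) (tt N33992 F190236))
theorem Q17132 : ∀ i, i < 17132 → P i := stepQ 17131 Q17131 (allL N17131 (tt N8389 (iv1 D26454)) (tt N33991 (iv0 F303864)) (tt N33992 F190230) (tt N34023 D54698) (tt N21847 (iv4 F305696)) (tt N20728 F319258) (tt N34024 D54701) (tt N20727 F319259))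
theorem Q17133 : ∀ i, i < 17133 → P i := stepQ 17132 Q17132 (allL N17132 (tt N34025 D54702) (tt N34026 D54703) (tt N33993 (iv2 F86444)) (tt N8396 F42312) (tt N34027 D54704) (tt N8389 (iv5 D26455)) (tt N8392 F42313) (tt N34019 (iv7 F303870)))
theorem Q17134 : ∀ i, i < 17134 → P i := stepQ 17133 Q17133 (allL N17133 (tt N23146 F55078) (tt N23149 (iv0 F55088)) (tt N29752 (iv2 F77177)) (tt N10813 F42316) (tt N8390 (iv4 D26457)) (tt N34028 D54706) (tt N10811 F42317) (tt N33994 (iv7 F86456)))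
theorem Q17135 : ∀ i, i < 17135 → P i := stepQ 17134 Q17134 (allL N17134 (tt N34029 D54707) (tt N18396 (iv0 F50535)) (tt N20287 F312282) (tt N21761 (iv3 F51830)) (tt N34030 D54708) (tt N8390 (iv5 D26458)) (tt N20283 F312283) (tt N33995 (iv7 F86460)))
theorem Q17136 : ∀ i, i < 17136 → P i := stepQ 17135 Q17135 (allL N17135 (tt N23149 F55089) (tt N23146 (iv0 F55077)) (tt N33994 (iv2 F86453)) (tt N32671 F83323) (tt N8391 (iv4 D26459)) (tt N34031 D54710) (tt N29710 F77045) (tt N29752 (iv7 F77179)))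
theorem Q17137 : ∀ i, i < 17137 → P i := stepQ 17136 Q17136 (allL N17136 (tt N18396 F50556) (tt N34029 F86519) (tt N33995 (iv2 F86458)) (tt N33634 (iv3 F85314)) (tt N34032 D54711) (tt N8391 (iv5 D26460)) (tt N34033 D54712) (tt N20287 F312297))
theorem Q17138 : ∀ i, i < 17138 → P i := stepQ 17137 Q17137 (allL N17137 (tt N33998 (iv1 F86474)) (tt N8392 (iv0 D26461)) (tt N33996 (iv2 F86466)) (tt N34034 D54713) (tt N34035 D54714) (tt N23339 F86468) (tt N34036 D54715) (tt N23338 (iv7 F86467)))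
theorem Q17139 : ∀ i, i < 17139 → P i := stepQ 17138 Q17138 (allL N17138 (tt N8392 (iv1 D26462)) (tt N33998 F86473) (tt N23338 (iv2 F55640)) (tt N23343 (iv3 F55652)) (tt N34037 D54716) (tt N23326 (iv5 F55595)) (tt N31115 (iv6 F319246)) (tt N33996 F86464))
theorem Q17140 : ∀ i, i < 17140 → P i := stepQ 17139 Q17139 (allL N17139 (tt N34038 D54718) (tt N34039 D54719) (tt N33997 (iv2 F86469)) (tt N33253 (iv3 F320621)) (tt N8392 (iv4 D26463)) (tt N34040 D54721) (tt N34027 (iv6 F86513)) (tt N34041 D54722))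
theorem Q17141 : ∀ i, i < 17141 → P i := stepQ 17140 Q17140 (allL N17140 (tt N23338 F55643) (tt N33996 (iv0 F86465)) (tt N33998 (iv2 F86470)) (tt N8399 F42318) (tt N34041 (iv4 F86528)) (tt N8393 F42319) (tt N34042 D54723) (tt N8392 (iv7 D26464)))
theorem Q17142 : ∀ i, i < 17142 → P i := stepQ 17141 Q17141 (allL N17141 (tt N34043 D54724) (tt N8429 (iv0 F113935)) (tt N34044 D54726) (tt N8394 (iv3 D26465)) (tt N34045 D54727) (tt N16757 F318493) (tt N34046 D54729) (tt N10843 F42320))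
theorem Q17143 : ∀ i, i < 17143 → P i := stepQ 17142 Q17142 (allL N17142 (tt N11211 (iv1 F53032)) (tt N34047 D54732) (tt N10842 F42323) (tt N34046 (iv3 F86541)) (tt N8692 F42324) (tt N16758 F315700) (tt N8394 (iv6 D26467)) (tt N22453 (iv7 F53146)))
theorem Q17144 : ∀ i, i < 17144 → P i := stepQ 17143 Q17143 (allL N17143 (tt N10887 (iv1 F190103)) (tt N10909 (iv0 F190099)) (tt N10907 F190097) (tt N8395 (iv3 D26468)) (tt N34048 D54736) (tt N20690 F318494) (tt N34049 D54738) (tt N10841 F42325))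
theorem Q17145 : ∀ i, i < 17145 → P i := stepQ 17144 Q17144 (allL N17144 (tt N10460 F43221) (tt N10464 F42730) (tt N10845 F42328) (tt N34049 (iv3 F86563)) (tt N8693 F42329) (tt N17302 (iv5 F42723)) (tt N8395 (iv6 D26470)) (tt N22509 (iv7 F53261)))
theorem Q17146 : ∀ i, i < 17146 → P i := stepQ 17145 Q17145 (allL N17145 (tt N10848 (iv1 F42333)) (tt N8396 (iv0 D26471)) (tt N10846 (iv2 F42331)) (tt N34050 D54740) (tt N15300 (iv4 F314919)) (tt N12460 F42330) (tt N22775 F312477) (tt N10847 (iv7 F42332)))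
theorem Q17147 : ∀ i, i < 17147 → P i := stepQ 17146 Q17146 (allL N17146 (tt N10847 (iv1 F42354)) (tt N10846 F42355) (tt N10848 F42352) (tt N34019 (iv3 F303869)) (tt N9886 (iv4 F316121)) (tt N8397 F42353) (tt N34051 D54745) (tt N8396 (iv7 D26474)))
theorem Q17148 : ∀ i, i < 17148 → P i := stepQ 17147 Q17147 (allL N17147 (tt N33916 F86144) (tt N8431 F51648) (tt N34052 D54746) (tt N8398 (iv3 D26475)) (tt N34053 D54747) (tt N16817 F42356) (tt N33551 F318343) (tt N10185 F318344))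
theorem Q17149 : ∀ i, i < 17149 → P i := stepQ 17148 Q17148 (allL N17148 (tt N34054 D54761) (tt N34055 D54762) (tt N10850 F42363) (tt N34042 (iv3 F86529)) (tt N9973 (iv4 F317139)) (tt N10792 F42364) (tt N8399 (iv6 D26480)) (tt N34051 (iv7 F86582)))
theorem Q17150 : ∀ i, i < 17150 → P i := stepQ 17149 Q17149 (allL N17149 (tt N22799 F54436) (tt N33751 F85534) (tt N8448 F42365) (tt N10851 F42366) (tt N34056 D54763) (tt N8400 (iv5 D26481)) (tt N11126 F316080) (tt N10836 F42368))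
theorem Q17151 : ∀ i, i < 17151 → P i := stepQ 17150 Q17150 (allL N17150 (tt N23853 (iv1 F56620)) (tt N23288 (iv0 F55406)) (tt N8412 F42369) (tt N14886 F42370) (tt N27696 (iv4 F71091)) (tt N8401 (iv5 D26482)) (tt N34057 D54764) (tt N8426 F42371))
theorem Q17152 : ∀ i, i < 17152 → P i := stepQ 17151 Q17151 (allL N17151 (tt N34058 D54765) (tt N21776 (iv0 F51868)) (tt N8416 F42372) (tt N27982 (iv3 F72437)) (tt N8402 (iv4 D26483)) (tt N34059 D54766) (tt N34060 D54767) (tt N8428 F42373))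
theorem Q17153 : ∀ i, i < 17153 → P i := stepQ 17152 Q17152 (allL N17152 (tt N10782 F53174) (tt N25424 (iv0 F300646)) (tt N8417 F42374) (tt N21744 (iv3 F51806)) (tt N34060 (iv4 F86638)) (tt N27936 (iv5 F300990)) (tt N8402 (iv6 D26484)) (tt N33966 (iv7 F86303)))
theorem Q17154 : ∀ i, i < 17154 → P i := stepQ 17153 Q17153 (allL N17153 (tt N8435 F42378) (tt N8616 (iv0 F42379)) (tt N10738 F42375) (tt N10893 F42376) (tt N29787 (iv4 F77305)) (tt N8403 (iv5 D26485)) (tt N34061 D54768) (tt N12415 F42377))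
theorem Q17155 : ∀ i, i < 17155 → P i := stepQ 17154 Q17154 (allL N17154 (tt N17541 (iv1 F43646)) (tt N10765 (iv0 F43065)) (tt N8406 F42380) (tt N15319 F42381) (tt N21806 (iv4 F51929)) (tt N8404 (iv5 D26486)) (tt N34062 D54769) (tt N21742 (iv7 F51795)))
theorem Q17156 : ∀ i, i < 17156 → P i := stepQ 17155 Q17155 (allL N17155 (tt N29568 F76724) (tt N16443 (iv0 F42384)) (tt N27235 (iv2 F69413)) (tt N8405 (iv3 D26487)) (tt N8411 F42382) (tt N34063 D54770) (tt N27119 (iv6 F68991)) (tt N14748 F42383))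
theorem Q17157 : ∀ i, i < 17157 → P i := stepQ 17156 Q17156 (allL N17156 (tt N10519 F43053) (tt N23203 (iv0 F55183)) (tt N14746 F42385) (tt N34063 (iv3 F86644)) (tt N34064 D54771) (tt N8405 (iv5 D26488)) (tt N34065 D54772) (tt N14749 F42386))
theorem Q17158 : ∀ i, i < 17158 → P i := stepQ 17157 Q17157 (allL N17157 (tt N9540 F42389) (tt N19049 F46844) (tt N14747 F42387) (tt N27119 F68989) (tt N8407 F42388) (tt N34066 D54773) (tt N8405 (iv6 D26489)) (tt N19052 (iv7 F46849)))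
theorem Q17159 : ∀ i, i < 17159 → P i := stepQ 17158 Q17158 (allL N17158 (tt N8406 (iv1 D26491)) (tt N21742 (iv0 F51796)) (tt N10765 (iv2 F42392)) (tt N10533 (iv3 F42393)) (tt N29760 (iv4 F77209)) (tt N10532 F42391) (tt N34067 D54774) (tt N17541 (iv7 F43643)))
theorem Q17160 : ∀ i, i < 17160 → P i := stepQ 17159 Q17159 (allL N17159 (tt N10522 F42390) (tt N21804 (iv0 F51925)) (tt N21806 F51931) (tt N9560 F301063) (tt N8406 (iv4 D26492)) (tt N11823 F42458) (tt N24295 F300294) (tt N19119 (iv7 F303814)))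
theorem Q17161 : ∀ i, i < 17161 → P i := stepQ 17160 Q17160 (allL N17160 (tt N25480 (iv1 F303017)) (tt N25484 F300292) (tt N34062 (iv2 F86641)) (tt N8417 F42394) (tt N24295 F300293) (tt N29760 (iv5 F303020)) (tt N8406 (iv6 D26493)) (tt N34068 D54779))
theorem Q17162 : ∀ i, i < 17162 → P i := stepQ 17161 Q17161 (allL N17161 (tt N10765 (iv1 F43066)) (tt N17541 (iv0 F43644)) (tt N21742 (iv2 F51793)) (tt N8418 F42395) (tt N19119 F301138) (tt N8408 F42396) (tt N34069 D54780) (tt N8406 (iv7 D26494)))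
theorem Q17163 : ∀ i, i < 17163 → P i := stepQ 17162 Q17162 (allL N17162 (tt N23324 (iv1 F55587)) (tt N17534 (iv0 F43608)) (tt N11179 F42397) (tt N8420 F42398) (tt N34067 (iv4 F307455)) (tt N8407 (iv5 D26495)) (tt N29760 F305412) (tt N23322 (iv7 F55577)))
theorem Q17164 : ∀ i, i < 17164 → P i := stepQ 17163 Q17163 (allL N17163 (tt N11779 F42407) (tt N17354 (iv0 F42845)) (tt N32628 (iv2 F83252)) (tt N10731 F42406) (tt N34070 D54782) (tt N8409 (iv5 D26497)) (tt N34071 D54783) (tt N21763 (iv7 F51833)))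
theorem Q17165 : ∀ i, i < 17165 → P i := stepQ 17164 Q17164 (allL N17164 (tt N10821 F42411) (tt N10804 (iv0 F42410)) (tt N10818 F50253) (tt N10732 F42408) (tt N17035 F42409) (tt N34072 D54784) (tt N8409 (iv6 D26498)) (tt N10819 (iv7 F50252)))
theorem Q17166 : ∀ i, i < 17166 → P i := stepQ 17165 Q17165 (allL N17165 (tt N17354 (iv1 F42846)) (tt N11779 F46075) (tt N21763 (iv2 F51831)) (tt N29555 F76670) (tt N34073 D54785) (tt N8410 (iv5 D26499)) (tt N34074 D54786) (tt N32628 (iv7 F83254)))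
theorem Q17167 : ∀ i, i < 17167 → P i := stepQ 17166 Q17166 (allL N17166 (tt N29560 F76702) (tt N10808 (iv0 F42415)) (tt N8411 (iv2 D26501)) (tt N11381 F42412) (tt N27235 (iv4 F69415)) (tt N34075 D54787) (tt N15178 (iv6 F42414)) (tt N14887 (iv7 F42413)))
theorem Q17168 : ∀ i, i < 17168 → P i := stepQ 17167 Q17167 (allL N17167 (tt N23832 F76711) (tt N34076 D54788) (tt N34075 (iv2 F86679)) (tt N8412 F42416) (tt N34077 D54789) (tt N8411 (iv5 D26502)) (tt N34078 D54790) (tt N34079 D54791))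
theorem Q17169 : ∀ i, i < 17169 → P i := stepQ 17168 Q17168 (allL N17168 (tt N26481 F65296) (tt N31361 F80509) (tt N15178 F42417) (tt N8413 F42418) (tt N27119 (iv4 F68990)) (tt N34080 D54792) (tt N8411 (iv6 D26503)) (tt N27231 (iv7 F69407)))
theorem Q17170 : ∀ i, i < 17170 → P i := stepQ 17169 Q17169 (allL N17169 (tt N10808 (iv1 F42422)) (tt N29560 (iv0 F76701)) (tt N14887 F42419) (tt N8414 F42420) (tt N14748 F42421) (tt N34079 (iv5 F86692)) (tt N32667 (iv6 F83314)) (tt N8411 (iv7 D26504)))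
theorem Q17171 : ∀ i, i < 17171 → P i := stepQ 17170 Q17170 (allL N17170 (tt N8426 (iv1 F42430)) (tt N8412 (iv0 D26505)) (tt N23853 (iv2 F56616)) (tt N17532 (iv3 F43602)) (tt N34081 D54793) (tt N10537 F42431) (tt N34082 D54794) (tt N23288 (iv7 F55405)))
theorem Q17172 : ∀ i, i < 17172 → P i := stepQ 17171 Q17171 (allL N17171 (tt N8412 (iv1 D26506)) (tt N8426 F42425) (tt N23288 (iv2 F55403)) (tt N16383 (iv3 F42427)) (tt N34083 D54795) (tt N16382 F42426) (tt N34084 D54796) (tt N23853 (iv7 F56618)))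
theorem Q17173 : ∀ i, i < 17173 → P i := stepQ 17172 Q17172 (allL N17172 (tt N32803 (iv1 F83576)) (tt N21478 (iv0 F51367)) (tt N27696 (iv2 F71088)) (tt N10424 F308661) (tt N8412 (iv4 D26507)) (tt N27695 F71087) (tt N10422 (iv6 F310772)) (tt N34085 D54799))
theorem Q17174 : ∀ i, i < 17174 → P i := stepQ 17173 Q17173 (allL N17173 (tt N20968 (iv1 F315426)) (tt N20965 (iv0 F315427)) (tt N34057 (iv2 F86623)) (tt N34078 (iv3 F86689)) (tt N10422 F313007) (tt N34086 D54802) (tt N8412 (iv6 D26508)) (tt N34087 D54803))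
theorem Q17175 : ∀ i, i < 17175 → P i := stepQ 17174 Q17174 (allL N17174 (tt N23288 (iv1 F55407)) (tt N23853 (iv0 F56619)) (tt N8426 F42428) (tt N34079 (iv3 F86691)) (tt N34085 (iv4 F86712)) (tt N8414 F42429) (tt N34088 D54804) (tt N8412 (iv7 D26509)))
theorem Q17176 : ∀ i, i < 17176 → P i := stepQ 17175 Q17175 (allL N17175 (tt N15179 (iv1 F42437)) (tt N8413 (iv0 D26510)) (tt N30505 F78715) (tt N10772 (iv3 F42438)) (tt N18500 (iv4 F54057)) (tt N34089 D54805) (tt N26509 F65404) (tt N19078 F50606))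
theorem Q17177 : ∀ i, i < 17177 → P i := stepQ 17176 Q17176 (allL N17176 (tt N8413 (iv1 D26511)) (tt N15179 F42434) (tt N19078 (iv2 F50607)) (tt N16157 F65044) (tt N18501 (iv4 F83536)) (tt N34090 D54806) (tt N32131 (iv6 F82398)) (tt N30505 (iv7 F78717)))
theorem Q17178 : ∀ i, i < 17178 → P i := stepQ 17177 Q17177 (allL N17177 (tt N34091 D54807) (tt N23837 (iv0 F56584)) (tt N29992 F77747) (tt N34080 (iv3 F86696)) (tt N34092 D54808) (tt N8413 (iv5 D26512)) (tt N34086 (iv6 F86715)) (tt N34093 D54809))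
theorem Q17179 : ∀ i, i < 17179 → P i := stepQ 17178 Q17178 (allL N17178 (tt N19078 F46900) (tt N30505 F78716) (tt N15179 F42435) (tt N27231 (iv3 F69406)) (tt N8421 F42436) (tt N34093 (iv5 F86722)) (tt N32652 F83294) (tt N8413 (iv7 D26513)))
theorem Q17180 : ∀ i, i < 17180 → P i := stepQ 17179 Q17179 (allL N17179 (tt N10813 F42441) (tt N32460 (iv0 F82876)) (tt N8427 F42439) (tt N32667 F83311) (tt N8422 F42440) (tt N34094 D54810) (tt N8414 (iv6 D26514)) (tt N32652 (iv7 F83293)))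
theorem Q17181 : ∀ i, i < 17181 → P i := stepQ 17180 Q17180 (allL N17180 (tt N11288 F42444) (tt N11287 F42445) (tt N8496 F42442) (tt N34095 D54811) (tt N8415 (iv4 D26515)) (tt N24732 (iv5 F59375)) (tt N34096 D54812) (tt N11289 F42443))
theorem Q17182 : ∀ i, i < 17182 → P i := stepQ 17181 Q17181 (allL N17181 (tt N34097 D54813) (tt N34098 D54814) (tt N8497 F42446) (tt N10877 F42447) (tt N34096 (iv4 F86735)) (tt N33959 (iv5 F86281)) (tt N8415 (iv6 D26516)) (tt N34099 D54815))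
theorem Q17183 : ∀ i, i < 17183 → P i := stepQ 17182 Q17182 (allL N17182 (tt N8428 (iv1 F42449)) (tt N8416 (iv0 D26517)) (tt N34058 F86627) (tt N28578 (iv3 F74204)) (tt N10538 F42448) (tt N25071 (iv5 F60257)) (tt N34100 D54816) (tt N21776 (iv7 F51867)))
theorem Q17184 : ∀ i, i < 17184 → P i := stepQ 17183 Q17183 (allL N17183 (tt N8416 (iv1 D26518)) (tt N8428 F42450) (tt N21776 (iv2 F51866)) (tt N12141 F51523) (tt N18498 F46081) (tt N25072 (iv5 F60263)) (tt N34101 D54817) (tt N34058 (iv7 F86629)))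
theorem Q17185 : ∀ i, i < 17185 → P i := stepQ 17184 Q17184 (allL N17184 (tt N8669 F42451) (tt N10790 F301064) (tt N11634 F42453) (tt N8416 (iv3 D26519)) (tt N9560 F301065) (tt N8635 (iv5 F42452)) (tt N34102 D54818) (tt N11637 F42454))
theorem Q17186 : ∀ i, i < 17186 → P i := stepQ 17185 Q17185 (allL N17185 (tt N34103 D54819) (tt N34104 D54820) (tt N34059 (iv2 F86631)) (tt N8635 F42459) (tt N12001 (iv4 F42460)) (tt N8416 (iv5 D26520)) (tt N34105 D54821) (tt N11636 (iv7 F42461)))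
theorem Q17187 : ∀ i, i < 17187 → P i := stepQ 17186 Q17186 (allL N17186 (tt N34106 D54822) (tt N34107 D54823) (tt N34060 (iv2 F86637)) (tt N34102 (iv3 F86747)) (tt N8417 F42462) (tt N34108 D54824) (tt N8416 (iv6 D26521)) (tt N34109 D54825))
theorem Q17188 : ∀ i, i < 17188 → P i := stepQ 17187 Q17187 (allL N17187 (tt N21776 (iv1 F51869)) (tt N34058 F86628) (tt N8428 F42463) (tt N11637 F42464) (tt N8418 F42465) (tt N11636 F42466) (tt N34110 D54826) (tt N8416 (iv7 D26522)))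
theorem Q17189 : ∀ i, i < 17189 → P i := stepQ 17188 Q17188 (allL N17188 (tt N33966 (iv1 F86307)) (tt N8417 (iv0 D26523)) (tt N10782 F85919) (tt N10884 F190527) (tt N34111 D54827) (tt N25390 (iv5 F300979)) (tt N22475 F53197) (tt N25424 (iv7 F300649)))
theorem Q17190 : ∀ i, i < 17190 → P i := stepQ 17189 Q17189 (allL N17189 (tt N12583 F303439) (tt N27938 F303440) (tt N27936 F303441) (tt N29760 F303442) (tt N28388 (iv4 F305575)) (tt N8417 (iv5 D26525)) (tt N8420 F42467) (tt N27937 F303443))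
theorem Q17191 : ∀ i, i < 17191 → P i := stepQ 17190 Q17190 (allL N17190 (tt N25424 (iv1 F300647)) (tt N10782 F86306) (tt N33966 F86304) (tt N34068 (iv3 F86663)) (tt N34109 (iv4 F86760)) (tt N27937 (iv5 F300988)) (tt N34043 (iv6 F113933)) (tt N8417 (iv7 D26526)))
theorem Q17192 : ∀ i, i < 17192 → P i := stepQ 17191 Q17191 (allL N17191 (tt N34044 F110796) (tt N10843 F110797) (tt N8429 F42468) (tt N34069 (iv3 F86664)) (tt N34110 (iv4 F86763)) (tt N34112 D54836) (tt N8418 (iv6 D26527)) (tt N34043 (iv7 F113934)))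
theorem Q17193 : ∀ i, i < 17193 → P i := stepQ 17192 Q17192 (allL N17192 (tt N15233 F42471) (tt N18968 (iv0 F46702)) (tt N9341 F42470) (tt N10888 F54014) (tt N34113 D54837) (tt N8419 (iv5 D26529)) (tt N34114 D54838) (tt N19451 (iv7 F47697)))
theorem Q17194 : ∀ i, i < 17194 → P i := stepQ 17193 Q17193 (allL N17193 (tt N11181 F42474) (tt N8420 (iv0 D26530)) (tt N9318 (iv2 F42473)) (tt N10889 (iv3 F50968)) (tt N34115 D54839) (tt N9317 F42472) (tt N34116 D54840) (tt N17445 (iv7 F43274)))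
theorem Q17195 : ∀ i, i < 17195 → P i := stepQ 17194 Q17194 (allL N17194 (tt N28511 (iv1 F309595)) (tt N34117 D54842) (tt N29343 F307602) (tt N33874 (iv3 F309593)) (tt N8420 (iv4 D26531)) (tt N34118 D54844) (tt N28388 F307603) (tt N34119 D54845))
theorem Q17196 : ∀ i, i < 17196 → P i := stepQ 17195 Q17195 (allL N17195 (tt N17445 F43276) (tt N9318 (iv0 F42477)) (tt N11181 F42475) (tt N23322 (iv3 F55580)) (tt N34119 (iv4 F86786)) (tt N8421 F42476) (tt N34120 D54846) (tt N8420 (iv7 D26532)))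
theorem Q17197 : ∀ i, i < 17197 → P i := stepQ 17196 Q17196 (allL N17196 (tt N34052 (iv1 F86588)) (tt N10185 F319500) (tt N8431 F42478) (tt N33983 (iv3 F86404)) (tt N34121 D54847) (tt N8422 (iv5 D26533)) (tt N34112 (iv6 F86776)) (tt N33916 (iv7 F86142)))
theorem Q17198 : ∀ i, i < 17198 → P i := stepQ 17197 Q17197 (allL N17197 (tt N10615 F42481) (tt N10611 F42482) (tt N21274 (iv2 F50678)) (tt N34122 D54848) (tt N8424 (iv4 D26534)) (tt N16911 F42480) (tt N34123 D54849) (tt N21423 F307332))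
theorem Q17199 : ∀ i, i < 17199 → P i := stepQ 17198 Q17198 (allL N17198 (tt N34124 D54850) (tt N34125 D54851) (tt N21743 (iv2 F51799)) (tt N8429 F42483) (tt N34123 (iv4 F86792)) (tt N11031 F42484) (tt N8424 (iv6 D26535)) (tt N34126 D54852))
theorem Q17200 : ∀ i, i < 17200 → P i := stepQ 17199 Q17199 (allL N17199 (tt N16396 F42489) (tt N16358 F42490) (tt N14888 F42485) (tt N8426 F42486) (tt N13729 F42488) (tt N8425 (iv5 D26536)) (tt N34127 D54853) (tt N14886 F42487))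
theorem Q17201 : ∀ i, i < 17201 → P i := stepQ 17200 Q17200 (allL N17200 (tt N21478 (iv1 F51368)) (tt N32803 (iv0 F83575)) (tt N34085 (iv2 F86711)) (tt N12002 F42491) (tt N8426 (iv4 D26537)) (tt N12001 F42492) (tt N34128 D54854) (tt N27696 (iv7 F71090)))
theorem Q17202 : ∀ i, i < 17202 → P i := stepQ 17201 Q17201 (allL N17201 (tt N34129 D54855) (tt N34130 D54856) (tt N34088 (iv2 F86716)) (tt N34127 (iv3 F86796)) (tt N34128 (iv4 F86799)) (tt N34131 D54857) (tt N8426 (iv6 D26538)) (tt N34132 D54858))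
theorem Q17203 : ∀ i, i < 17203 → P i := stepQ 17202 Q17202 (allL N17202 (tt N8427 (iv1 D26539)) (tt N32652 F83292) (tt N32460 (iv2 F82874)) (tt N33994 (iv3 F86454)) (tt N17046 (iv4 F42494)) (tt N34133 D54859) (tt N10374 F42495) (tt N10813 F42493))
theorem Q17204 : ∀ i, i < 17204 → P i := stepQ 17203 Q17203 (allL N17203 (tt N34134 D54860) (tt N34135 D54861) (tt N34094 (iv2 F86727)) (tt N18632 (iv3 F46287)) (tt N34136 D54862) (tt N8427 (iv5 D26540)) (tt N34131 (iv6 F86800)) (tt N32974 (iv7 F83800)))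
theorem Q17205 : ∀ i, i < 17205 → P i := stepQ 17204 Q17204 (allL N17204 (tt N27984 (iv1 F72451)) (tt N12120 (iv0 F42496)) (tt N27983 (iv2 F72444)) (tt N8428 (iv3 D26541)) (tt N34122 (iv4 F86790)) (tt N34137 D54863) (tt N34138 D54864) (tt N27982 F72440))
theorem Q17206 : ∀ i, i < 17206 → P i := stepQ 17205 Q17205 (allL N17205 (tt N34104 (iv1 F86753)) (tt N34103 F86750) (tt N11636 F42497) (tt N34137 (iv3 F86804)) (tt N27695 (iv4 F71083)) (tt N8428 (iv5 D26542)) (tt N34139 D54865) (tt N34059 (iv7 F86633)))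
theorem Q17207 : ∀ i, i < 17207 → P i := stepQ 17206 Q17206 (allL N17206 (tt N34140 D54866) (tt N34141 D54867) (tt N34110 (iv2 F86761)) (tt N34138 (iv3 F86810)) (tt N8429 F42498) (tt N34142 D54868) (tt N8428 (iv6 D26543)) (tt N34143 D54869))
theorem Q17208 : ∀ i, i < 17208 → P i := stepQ 17207 Q17207 (allL N17207 (tt N8429 (iv1 D26545)) (tt N34043 F113936) (tt N10843 F113937) (tt N10907 F190098) (tt N34144 D54877) (tt N34145 D54878) (tt N34146 D54879) (tt N34044 F113938))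
theorem Q17209 : ∀ i, i < 17209 → P i := stepQ 17208 Q17208 (allL N17208 (tt N34050 (iv1 F113927)) (tt N34147 D54881) (tt N34112 (iv2 F86775)) (tt N11031 F42499) (tt N34148 D54882) (tt N8429 (iv5 D26546)) (tt N8431 F42500) (tt N34149 D54883))
theorem Q17210 : ∀ i, i < 17210 → P i := stepQ 17209 Q17209 (allL N17209 (tt N10843 (iv1 F110794)) (tt N34044 (iv0 F110795)) (tt N34043 (iv2 F113932)) (tt N34126 (iv3 F86793)) (tt N34143 (iv4 F86812)) (tt N34149 (iv5 F86819)) (tt N33966 F86305) (tt N8429 (iv7 D26547)))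
theorem Q17211 : ∀ i, i < 17211 → P i := stepQ 17210 Q17210 (allL N17210 (tt N11035 F46297) (tt N33917 F86147) (tt N10725 F42504) (tt N10910 (iv3 F50995)) (tt N34150 D54884) (tt N8430 (iv5 D26549)) (tt N34151 D54885) (tt N10802 F42505))
theorem Q17212 : ∀ i, i < 17212 → P i := stepQ 17211 Q17211 (allL N17211 (tt N8431 (iv1 D26551)) (tt N33916 (iv0 F86143)) (tt N10185 F319495) (tt N10911 F54110) (tt N34152 D54886) (tt N17449 (iv5 F43285)) (tt N10184 F319496) (tt N34052 (iv7 F86587)))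
theorem Q17213 : ∀ i, i < 17213 → P i := stepQ 17212 Q17212 (allL N17212 (tt N34153 D54888) (tt N34154 D54889) (tt N34121 (iv2 F86789)) (tt N27593 F329939) (tt N8431 (iv4 D26552)) (tt N27592 (iv5 F329962)) (tt N34148 (iv6 F86817)) (tt N34155 D54892))
theorem Q17214 : ∀ i, i < 17214 → P i := stepQ 17213 Q17213 (allL N17213 (tt N10185 F319501) (tt N34052 F86589) (tt N33916 (iv2 F86140)) (tt N8468 F42506) (tt N34155 (iv4 F86831)) (tt N8432 F42507) (tt N34156 D54893) (tt N8431 (iv7 D26553)))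
theorem Q17215 : ∀ i, i < 17215 → P i := stepQ 17214 Q17214 (allL N17214 (tt N12166 (iv1 F42512)) (tt N12165 F42514) (tt N12097 F42509) (tt N8433 (iv3 D26554)) (tt N10914 F42510) (tt N14351 (iv5 F42513)) (tt N34157 D54894) (tt N12167 F42511))
theorem Q17216 : ∀ i, i < 17216 → P i := stepQ 17215 Q17215 (allL N17215 (tt N12265 (iv1 F42518)) (tt N12264 F42519) (tt N8442 F42515) (tt N14351 F42516) (tt N27694 (iv4 F71075)) (tt N8433 (iv5 D26555)) (tt N34158 D54895) (tt N12262 F42517))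
theorem Q17217 : ∀ i, i < 17217 → P i := stepQ 17216 Q17216 (allL N17216 (tt N34159 D54896) (tt N34160 D54897) (tt N8443 F42520) (tt N34157 (iv3 F86835)) (tt N8434 F42521) (tt N34161 D54898) (tt N8433 (iv6 D26556)) (tt N34162 D54899))
theorem Q17218 : ∀ i, i < 17218 → P i := stepQ 17217 Q17217 (allL N17217 (tt N8446 (iv1 F42526)) (tt N8434 (iv0 D26557)) (tt N8444 F162712) (tt N34163 D54901) (tt N34164 D54902) (tt N34165 D54903) (tt N34166 D54904) (tt N8445 F162713))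
theorem Q17219 : ∀ i, i < 17219 → P i := stepQ 17218 Q17218 (allL N17218 (tt N8434 (iv1 D26558)) (tt N8446 F42522) (tt N8445 (iv2 F162705)) (tt N34167 D54906) (tt N34168 D54907) (tt N34169 D54908) (tt N34170 D54909) (tt N8444 (iv7 F162711)))
theorem Q17220 : ∀ i, i < 17220 → P i := stepQ 17219 Q17219 (allL N17219 (tt N8445 (iv1 F42527)) (tt N8444 F42528) (tt N8446 F42523) (tt N10919 F42524) (tt N34162 (iv4 F86842)) (tt N33703 (iv5 F85476)) (tt N12432 F42525) (tt N8434 (iv7 D26559)))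
theorem Q17221 : ∀ i, i < 17221 → P i := stepQ 17220 Q17220 (allL N17220 (tt N12415 (iv1 F42534)) (tt N10738 F42533) (tt N8435 (iv2 D26560)) (tt N8621 F42529) (tt N14865 F42530) (tt N8617 F42531) (tt N34171 D54910) (tt N8616 F42532))
theorem Q17222 : ∀ i, i < 17222 → P i := stepQ 17221 Q17221 (allL N17221 (tt N34172 D54911) (tt N34173 D54912) (tt N34171 (iv2 F86851)) (tt N8437 F42535) (tt N25445 (iv4 F61032)) (tt N34174 D54913) (tt N8435 (iv6 D26561)) (tt N34175 D54914))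
theorem Q17223 : ∀ i, i < 17223 → P i := stepQ 17222 Q17222 (allL N17222 (tt N8438 (iv1 F42537)) (tt N8436 (iv0 D26562)) (tt N12419 F42540) (tt N34176 D54915) (tt N17017 F42536) (tt N34103 (iv5 F86749)) (tt N34177 D54916) (tt N12418 (iv7 F42539)))
theorem Q17224 : ∀ i, i < 17224 → P i := stepQ 17223 Q17223 (allL N17223 (tt N8436 (iv1 D26563)) (tt N8438 F42541) (tt N12418 (iv2 F42543)) (tt N12223 F46076) (tt N18497 (iv4 F46074)) (tt N34104 (iv5 F86755)) (tt N34178 D54917) (tt N12419 F42542))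
theorem Q17225 : ∀ i, i < 17225 → P i := stepQ 17224 Q17224 (allL N17224 (tt N34179 D54918) (tt N34180 D54919) (tt N12426 F42544) (tt N24118 (iv3 F57449)) (tt N8437 F42545) (tt N34181 D54920) (tt N8436 (iv6 D26564)) (tt N34182 D54921))
theorem Q17226 : ∀ i, i < 17226 → P i := stepQ 17225 Q17225 (allL N17225 (tt N12429 (iv1 F42550)) (tt N8437 (iv0 D26565)) (tt N10980 F131611) (tt N10928 F190735) (tt N34183 D54924) (tt N34184 D54925) (tt N27939 F303478) (tt N12427 F131612))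
theorem Q17227 : ∀ i, i < 17227 → P i := stepQ 17226 Q17226 (allL N17226 (tt N8437 (iv1 D26566)) (tt N12429 F42546) (tt N12427 (iv2 F131601)) (tt N8453 (iv3 F131602)) (tt N34185 D54929) (tt N34186 D54930) (tt N25221 F131600) (tt N10980 (iv7 F131610)))
theorem Q17228 : ∀ i, i < 17228 → P i := stepQ 17227 Q17227 (allL N17227 (tt N34187 D54932) (tt N33405 F317982) (tt N12428 F42547) (tt N34174 (iv3 F86856)) (tt N34188 D54934) (tt N8437 (iv5 D26567)) (tt N17355 (iv6 F42849)) (tt N34189 D54935))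
theorem Q17229 : ∀ i, i < 17229 → P i := stepQ 17228 Q17228 (allL N17228 (tt N12427 (iv1 F42551)) (tt N10980 F130257) (tt N12429 F42548) (tt N34175 (iv3 F86858)) (tt N34182 (iv4 F86872)) (tt N34189 (iv5 F86883)) (tt N12423 F42549) (tt N8437 (iv7 D26568)))
theorem Q17230 : ∀ i, i < 17230 → P i := stepQ 17229 Q17229 (allL N17229 (tt N27957 (iv1 F72365)) (tt N12192 (iv0 F42555)) (tt N24110 (iv2 F57435)) (tt N8438 (iv3 D26569)) (tt N11802 F42553) (tt N24108 F57433) (tt N34190 D54936) (tt N12424 F42554))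
theorem Q17231 : ∀ i, i < 17231 → P i := stepQ 17230 Q17230 (allL N17230 (tt N24116 (iv1 F57446)) (tt N24115 F57445) (tt N12420 F42556) (tt N24108 (iv3 F57432)) (tt N24264 (iv4 F58220)) (tt N8438 (iv5 D26570)) (tt N34191 D54937) (tt N12425 F42557))
theorem Q17232 : ∀ i, i < 17232 → P i := stepQ 17231 Q17231 (allL N17231 (tt N34192 D54938) (tt N34193 D54939) (tt N12421 F42558) (tt N34190 (iv3 F86887)) (tt N8439 F42559) (tt N34194 D54940) (tt N8438 (iv6 D26571)) (tt N34195 D54941))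
theorem Q17233 : ∀ i, i < 17233 → P i := stepQ 17232 Q17232 (allL N17232 (tt N12423 (iv1 F42565)) (tt N8439 (iv0 D26572)) (tt N12422 F53235) (tt N8459 F53224) (tt N34196 D54942) (tt N34197 D54943) (tt N24344 (iv6 F58348)) (tt N10997 F53225))
theorem Q17234 : ∀ i, i < 17234 → P i := stepQ 17233 Q17233 (allL N17233 (tt N8439 (iv1 D26573)) (tt N12423 F42560) (tt N10997 F53226) (tt N10939 F190514) (tt N34198 D54945) (tt N34199 D54946) (tt N34200 D54947) (tt N12422 (iv7 F53234)))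
theorem Q17235 : ∀ i, i < 17235 → P i := stepQ 17234 Q17234 (allL N17234 (tt N10997 F53233) (tt N12422 F42567) (tt N12423 F42561) (tt N11003 F42562) (tt N34195 (iv4 F86894)) (tt N10994 F42563) (tt N12429 F42564) (tt N8439 (iv7 D26574)))
theorem Q17236 : ∀ i, i < 17236 → P i := stepQ 17235 Q17235 (allL N17235 (tt N34201 D54948) (tt N34202 D54949) (tt N34203 D54950) (tt N8440 (iv3 D26576)) (tt N18599 F301545) (tt N34204 D54952) (tt N18597 (iv6 F304312)) (tt N12255 (iv7 F42873)))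
theorem Q17237 : ∀ i, i < 17237 → P i := stepQ 17236 Q17236 (allL N17236 (tt N25069 (iv1 F60254)) (tt N10551 F42570) (tt N9147 (iv2 F42887)) (tt N23906 (iv3 F56744)) (tt N8440 (iv4 D26577)) (tt N10535 F42569) (tt N34205 D54954) (tt N12256 (iv7 F42874)))
theorem Q17238 : ∀ i, i < 17238 → P i := stepQ 17237 Q17237 (allL N17237 (tt N22995 (iv1 F54852)) (tt N17358 (iv0 F42861)) (tt N12260 (iv2 F42870)) (tt N34204 (iv3 F86939)) (tt N32853 (iv4 F83662)) (tt N8440 (iv5 D26578)) (tt N34206 D54955) (tt N12257 (iv7 F42872)))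
theorem Q17239 : ∀ i, i < 17239 → P i := stepQ 17238 Q17238 (allL N17238 (tt N34183 F188397) (tt N34185 (iv0 F188398)) (tt N12261 (iv2 F42944)) (tt N18597 (iv3 F304311)) (tt N34205 (iv4 F86945)) (tt N34207 D54958) (tt N8440 (iv6 D26579)) (tt N34208 D54959))
theorem Q17240 : ∀ i, i < 17240 → P i := stepQ 17239 Q17239 (allL N17239 (tt N34209 D54960) (tt N34210 D54961) (tt N23886 (iv2 F56682)) (tt N8441 (iv3 D26581)) (tt N34211 D54962) (tt N10822 F42864) (tt N34212 D54963) (tt N12259 F42945))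
theorem Q17241 : ∀ i, i < 17241 → P i := stepQ 17240 Q17240 (allL N17240 (tt N10551 (iv1 F42574)) (tt N25069 (iv0 F60256)) (tt N12256 (iv2 F42898)) (tt N9144 F42573) (tt N8441 (iv4 D26582)) (tt N10495 F42572) (tt N34213 D54964) (tt N9147 F42897))

end Cfsg.Agent.Helper17.ONTC
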