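import Cfsg.Agent.Helper17.ONTC.Fin14

set_option autoImplicit false
set_option linter.all false
set_option maxRecDepth 100000

noncomputable section

namespace Cfsg.Agent.Helper17.ONTC

theorem Q17242 : ∀ i, i < 17242 → P i := stepQ 17241 Q17241 (allL N17241 (tt N17358 (iv1 F42862)) (tt N22995 (iv0 F54851)) (tt N12257 F42871) (tt N10822 (iv3 F42863)) (tt N21753 (iv4 F51822)) (tt N8441 (iv5 D26583)) (tt N34214 D54965) (tt N12260 F42865))
theorem Q17243 : ∀ i, i < 17243 → P i := stepQ 17242 Q17242 (allL N17242 (tt N34196 (iv1 F190062)) (tt N34198 (iv0 F190063)) (tt N12258 F42946) (tt N34212 (iv3 F86969)) (tt N34213 (iv4 F86972)) (tt N34215 D54968) (tt N8441 (iv6 D26584)) (tt N34216 D54969))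
theorem Q17244 : ∀ i, i < 17244 → P i := stepQ 17243 Q17243 (allL N17243 (tt N12262 (iv1 F42576)) (tt N8442 (iv0 D26585)) (tt N12265 (iv2 F42581)) (tt N34217 D54970) (tt N32823 (iv4 F83610)) (tt N11287 F42575) (tt N34218 D54971) (tt N12264 (iv7 F42583)))
theorem Q17245 : ∀ i, i < 17245 → P i := stepQ 17244 Q17244 (allL N17244 (tt N8442 (iv1 D26586)) (tt N12262 F42577) (tt N12264 F42582) (tt N17066 (iv3 F42579)) (tt N21715 (iv4 F51762)) (tt N11288 F42578) (tt N22782 (iv6 F313250)) (tt N12265 F42580))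
theorem Q17246 : ∀ i, i < 17246 → P i := stepQ 17245 Q17245 (allL N17245 (tt N12001 F42586) (tt N27695 F71086) (tt N27694 F71078) (tt N14115 F42584) (tt N8442 (iv4 D26587)) (tt N32786 (iv5 F83523)) (tt N34219 D54973) (tt N12266 F42585))
theorem Q17247 : ∀ i, i < 17247 → P i := stepQ 17246 Q17246 (allL N17246 (tt N34220 D54974) (tt N34221 D54975) (tt N34158 (iv2 F86837)) (tt N12281 F42587) (tt N34219 (iv4 F86991)) (tt N34222 D54976) (tt N8442 (iv6 D26588)) (tt N34223 D54977))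
theorem Q17248 : ∀ i, i < 17248 → P i := stepQ 17247 Q17247 (allL N17247 (tt N34162 (iv1 F86847)) (tt N8443 (iv0 D26589)) (tt N34159 (iv2 F185364)) (tt N34224 D54979) (tt N34225 D54980) (tt N34226 D54981) (tt N34227 D54982) (tt N34160 (iv7 F185367)))
theorem Q17249 : ∀ i, i < 17249 → P i := stepQ 17248 Q17248 (allL N17248 (tt N8443 (iv1 D26590)) (tt N34162 F86845) (tt N34160 (iv2 F185366)) (tt N34228 D54984) (tt N34229 D54985) (tt N34230 D54986) (tt N34231 D54987) (tt N34159 (iv7 F185365)))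
theorem Q17250 : ∀ i, i < 17250 → P i := stepQ 17249 Q17249 (allL N17249 (tt N34232 D54988) (tt N34233 D54989) (tt N34161 (iv2 F86840)) (tt N12297 F42588) (tt N34234 D54990) (tt N8443 (iv5 D26591)) (tt N34222 (iv6 F86993)) (tt N34235 D54991))
theorem Q17251 : ∀ i, i < 17251 → P i := stepQ 17250 Q17250 (allL N17250 (tt N34160 (iv1 F86839)) (tt N34159 F86844) (tt N34162 (iv2 F86841)) (tt N12294 F42589) (tt N8446 F42590) (tt N34235 (iv5 F87000)) (tt N12271 F42591) (tt N8443 (iv7 D26592)))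
theorem Q17252 : ∀ i, i < 17252 → P i := stepQ 17251 Q17251 (allL N17251 (tt N34236 D54998) (tt N34061 F232327) (tt N34237 D55000) (tt N8444 (iv3 D26594)) (tt N34238 D55001) (tt N34239 D55002) (tt N34240 D55003) (tt N34167 (iv7 F162704)))
theorem Q17253 : ∀ i, i < 17253 → P i := stepQ 17252 Q17252 (allL N17252 (tt N34241 D55005) (tt N34178 (iv0 F184587)) (tt N34164 (iv2 F162716)) (tt N34242 D55007) (tt N8444 (iv4 D26595)) (tt N34243 D55008) (tt N34244 D55009) (tt N34168 (iv7 F162707)))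
theorem Q17254 : ∀ i, i < 17254 → P i := stepQ 17253 Q17253 (allL N17253 (tt N34245 D55011) (tt N34246 D55012) (tt N34165 (iv2 F162718)) (tt N34239 (iv3 F87011)) (tt N34247 D55013) (tt N8444 (iv5 D26596)) (tt N34248 D55014) (tt N34169 (iv7 F162709)))
theorem Q17255 : ∀ i, i < 17255 → P i := stepQ 17254 Q17254 (allL N17254 (tt N34200 (iv1 F113931)) (tt N34249 D55017) (tt N34166 (iv2 F162720)) (tt N34240 (iv3 F87012)) (tt N34244 (iv4 F87015)) (tt N34250 D55018) (tt N8444 (iv6 D26597)) (tt N34251 D55019))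
theorem Q17256 : ∀ i, i < 17256 → P i := stepQ 17255 Q17255 (allL N17255 (tt N11800 F131159) (tt N20270 (iv0 F308768)) (tt N34252 D55023) (tt N8445 (iv3 D26599)) (tt N22774 F308188) (tt N34253 D55025) (tt N34254 D55026) (tt N34163 (iv7 F162715)))
theorem Q17257 : ∀ i, i < 17257 → P i := stepQ 17256 Q17256 (allL N17256 (tt N34178 (iv1 F184588)) (tt N34241 F87018) (tt N34168 (iv2 F162706)) (tt N34255 D55027) (tt N8445 (iv4 D26600)) (tt N34256 D55028) (tt N34257 D55029) (tt N34164 (iv7 F162717)))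
theorem Q17258 : ∀ i, i < 17258 → P i := stepQ 17257 Q17257 (allL N17257 (tt N34246 (iv1 F87020)) (tt N34245 F87023) (tt N34169 (iv2 F162708)) (tt N34253 (iv3 F87026)) (tt N34258 D55030) (tt N8445 (iv5 D26601)) (tt N34259 D55031) (tt N34165 (iv7 F162719)))
theorem Q17259 : ∀ i, i < 17259 → P i := stepQ 17258 Q17258 (allL N17258 (tt N11826 F298698) (tt N27939 (iv0 F300682)) (tt N34170 (iv2 F162710)) (tt N34254 (iv3 F87027)) (tt N34257 (iv4 F87028)) (tt N25668 (iv5 F301356)) (tt N8445 (iv6 D26602)) (tt N34260 D55035))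
theorem Q17260 : ∀ i, i < 17260 → P i := stepQ 17259 Q17259 (allL N17259 (tt N10819 (iv1 F42596)) (tt N10818 F42597) (tt N10821 F42594) (tt N32673 (iv3 F83329)) (tt N8447 (iv4 D26603)) (tt N34261 D55036) (tt N32129 (iv6 F82393)) (tt N10804 F42595))
theorem Q17261 : ∀ i, i < 17261 → P i := stepQ 17260 Q17260 (allL N17260 (tt N10838 (iv1 F42600)) (tt N10837 F42601) (tt N10840 F42598) (tt N33998 (iv3 F86471)) (tt N34262 D55037) (tt N8447 (iv5 D26604)) (tt N34263 D55038) (tt N10807 F42599))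
theorem Q17262 : ∀ i, i < 17262 → P i := stepQ 17261 Q17261 (allL N17261 (tt N10836 (iv1 F42602)) (tt N8448 (iv0 D26605)) (tt N22799 (iv2 F54432)) (tt N34029 (iv3 F86520)) (tt N34264 D55039) (tt N18969 (iv5 F46705)) (tt N34265 D55040) (tt N33751 (iv7 F85535)))
theorem Q17263 : ∀ i, i < 17263 → P i := stepQ 17262 Q17262 (allL N17262 (tt N8448 (iv1 D26606)) (tt N10836 F42603) (tt N33751 F85533) (tt N10722 F42605) (tt N34266 D55041) (tt N14807 (iv5 F42604)) (tt N20585 (iv6 F316524)) (tt N22799 (iv7 F54434)))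
theorem Q17264 : ∀ i, i < 17264 → P i := stepQ 17263 Q17263 (allL N17263 (tt N34267 D55042) (tt N34268 D55043) (tt N34056 (iv2 F86620)) (tt N34269 D55044) (tt N8448 (iv4 D26607)) (tt N34270 D55045) (tt N12441 F42606) (tt N33752 (iv7 F85537)))
theorem Q17265 : ∀ i, i < 17265 → P i := stepQ 17264 Q17264 (allL N17264 (tt N10989 F42609) (tt N10988 F42610) (tt N8450 F42607) (tt N34271 D55046) (tt N8449 (iv4 D26608)) (tt N12194 F52453) (tt N34272 D55047) (tt N10986 F42608))
theorem Q17266 : ∀ i, i < 17266 → P i := stepQ 17265 Q17265 (allL N17265 (tt N34273 D55048) (tt N34274 D55049) (tt N8451 F42611) (tt N10972 F42612) (tt N34272 (iv4 F87050)) (tt N34275 D55050) (tt N8449 (iv6 D26609)) (tt N34276 D55051))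
theorem Q17267 : ∀ i, i < 17267 → P i := stepQ 17266 Q17266 (allL N17266 (tt N10986 (iv1 F42613)) (tt N8450 (iv0 D26610)) (tt N10989 (iv2 F42619)) (tt N34277 D55052) (tt N21590 (iv4 F51559)) (tt N12124 F42622) (tt N34278 D55053) (tt N10988 (iv7 F42621)))
theorem Q17268 : ∀ i, i < 17268 → P i := stepQ 17267 Q17267 (allL N17267 (tt N8450 (iv1 D26611)) (tt N10986 F42614) (tt N10988 F42620) (tt N11272 (iv3 F42615)) (tt N17015 (iv4 F42616)) (tt N11271 (iv5 F42618)) (tt N34279 D55054) (tt N10989 F42617))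
theorem Q17269 : ∀ i, i < 17269 → P i := stepQ 17268 Q17268 (allL N17268 (tt N12195 (iv1 F42626)) (tt N12156 F42625) (tt N12194 (iv2 F52454)) (tt N8636 F42623) (tt N34280 D55055) (tt N8450 (iv5 D26612)) (tt N34281 D55056) (tt N10990 F42624))
theorem Q17270 : ∀ i, i < 17270 → P i := stepQ 17269 Q17269 (allL N17269 (tt N34282 D55057) (tt N34283 D55058) (tt N34272 (iv2 F87049)) (tt N8637 F42627) (tt N8451 F42628) (tt N34284 D55059) (tt N8450 (iv6 D26613)) (tt N34285 D55060))
theorem Q17271 : ∀ i, i < 17271 → P i := stepQ 17270 Q17270 (allL N17270 (tt N34276 (iv1 F87060)) (tt N8451 (iv0 D26614)) (tt N34273 (iv2 F184960)) (tt N20754 F307119) (tt N28791 (iv4 F306169)) (tt N20753 (iv5 F308971)) (tt N28790 F304063) (tt N34274 (iv7 F184959)))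
theorem Q17272 : ∀ i, i < 17272 → P i := stepQ 17271 Q17271 (allL N17271 (tt N8451 (iv1 D26615)) (tt N34276 F87059) (tt N34274 (iv2 F184957)) (tt N34286 D55067) (tt N34287 D55068) (tt N34288 D55069) (tt N34289 D55070) (tt N34273 (iv7 F184962)))
theorem Q17273 : ∀ i, i < 17273 → P i := stepQ 17272 Q17272 (allL N17272 (tt N34290 D55071) (tt N33435 F322149) (tt N34275 (iv2 F87052)) (tt N8454 F42629) (tt N34291 D55073) (tt N8451 (iv5 D26616)) (tt N8543 F42630) (tt N34292 D55074))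
theorem Q17274 : ∀ i, i < 17274 → P i := stepQ 17273 Q17273 (allL N17273 (tt N34274 (iv1 F87051)) (tt N34273 F87058) (tt N34276 (iv2 F87055)) (tt N8455 F42631) (tt N34285 (iv4 F87081)) (tt N34292 (iv5 F87087)) (tt N10994 F42632) (tt N8451 (iv7 D26617)))
theorem Q17275 : ∀ i, i < 17275 → P i := stepQ 17274 Q17274 (allL N17274 (tt N10931 F190378) (tt N8824 (iv0 F190379)) (tt N10928 F190733) (tt N8452 (iv3 D26619)) (tt N12852 F302510) (tt N34293 D55079) (tt N11828 F302511) (tt N10929 F190734))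
theorem Q17276 : ∀ i, i < 17276 → P i := stepQ 17275 Q17275 (allL N17275 (tt N34294 D55081) (tt N34295 D55082) (tt N10981 F42649) (tt N34293 (iv3 F87097)) (tt N18470 F313160) (tt N8452 (iv5 D26621)) (tt N16967 (iv6 F313211)) (tt N10982 (iv7 F42651)))
theorem Q17277 : ∀ i, i < 17277 → P i := stepQ 17276 Q17276 (allL N17276 (tt N34295 (iv1 F87106)) (tt N34294 F87103) (tt N10982 F42653) (tt N34186 (iv3 F131608)) (tt N34296 D55090) (tt N8453 (iv5 D26624)) (tt N34297 D55091) (tt N10981 F42654))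
theorem Q17278 : ∀ i, i < 17278 → P i := stepQ 17277 Q17277 (allL N17277 (tt N10985 (iv1 F42662)) (tt N8454 (iv0 D26625)) (tt N10984 F42665) (tt N34298 D55092) (tt N10313 (iv4 F313945)) (tt N22153 (iv5 F52550)) (tt N33386 (iv6 F315701)) (tt N10101 (iv7 F313408)))
theorem Q17279 : ∀ i, i < 17279 → P i := stepQ 17278 Q17278 (allL N17278 (tt N10101 (iv1 F313407)) (tt N10984 F42667) (tt N10985 F42660) (tt N34292 (iv3 F87086)) (tt N10359 (iv4 F312992)) (tt N8455 F42661) (tt N34299 D55098) (tt N8454 (iv7 D26628)))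
theorem Q17280 : ∀ i, i < 17280 → P i := stepQ 17279 Q17279 (allL N17279 (tt N10974 F42670) (tt N10973 F42671) (tt N8457 F42668) (tt N34300 D55099) (tt N8456 (iv4 D26629)) (tt N34301 D55100) (tt N34302 D55101) (tt N10971 F42669))
theorem Q17281 : ∀ i, i < 17281 → P i := stepQ 17280 Q17280 (allL N17280 (tt N34303 D55102) (tt N34304 D55103) (tt N8458 F42672) (tt N10987 F42673) (tt N34302 (iv4 F87160)) (tt N12417 F42674) (tt N8456 (iv6 D26630)) (tt N34305 D55104))
theorem Q17282 : ∀ i, i < 17282 → P i := stepQ 17281 Q17281 (allL N17281 (tt N10971 (iv1 F42675)) (tt N8457 (iv0 D26631)) (tt N10974 (iv2 F42679)) (tt N34306 D55105) (tt N18528 (iv4 F46128)) (tt N34017 (iv5 F86502)) (tt N10976 (iv6 F302832)) (tt N10973 (iv7 F42681)))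
theorem Q17283 : ∀ i, i < 17283 → P i := stepQ 17282 Q17282 (allL N17282 (tt N8457 (iv1 D26632)) (tt N10971 F42676) (tt N10973 F42680) (tt N29762 (iv3 F77218)) (tt N16984 (iv4 F42677)) (tt N29761 F77215) (tt N34307 D55107) (tt N10974 F42678))
theorem Q17284 : ∀ i, i < 17284 → P i := stepQ 17283 Q17283 (allL N17283 (tt N21989 (iv1 F52311)) (tt N21992 (iv0 F52316)) (tt N34301 (iv2 F87154)) (tt N8564 F42682) (tt N17709 F44377) (tt N8457 (iv5 D26633)) (tt N34308 D55108) (tt N10975 F42683))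
theorem Q17285 : ∀ i, i < 17285 → P i := stepQ 17284 Q17284 (allL N17284 (tt N34309 D55109) (tt N34310 D55110) (tt N34302 (iv2 F87159)) (tt N8565 F42684) (tt N8458 F42685) (tt N22842 (iv5 F303897)) (tt N8457 (iv6 D26634)) (tt N11007 (iv7 F303899)))
theorem Q17286 : ∀ i, i < 17286 → P i := stepQ 17285 Q17285 (allL N17285 (tt N34305 (iv1 F87168)) (tt N8458 (iv0 D26635)) (tt N34303 (iv2 F187217)) (tt N34311 D55114) (tt N34312 D55115) (tt N34313 D55116) (tt N34314 D55117) (tt N34304 (iv7 F187216)))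
theorem Q17287 : ∀ i, i < 17287 → P i := stepQ 17286 Q17286 (allL N17286 (tt N8458 (iv1 D26636)) (tt N34305 F87167) (tt N34304 (iv2 F187215)) (tt N34315 D55119) (tt N34316 D55120) (tt N34317 D55121) (tt N34310 (iv6 F303896)) (tt N34303 (iv7 F187218)))
theorem Q17288 : ∀ i, i < 17288 → P i := stepQ 17287 Q17287 (allL N17287 (tt N34318 D55123) (tt N34315 (iv0 F187228)) (tt N12417 F42686) (tt N8461 F42687) (tt N25444 (iv4 F61030)) (tt N8458 (iv5 D26637)) (tt N8616 F42688) (tt N34319 D55125))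
theorem Q17289 : ∀ i, i < 17289 → P i := stepQ 17288 Q17288 (allL N17288 (tt N34304 (iv1 F87161)) (tt N34303 F87166) (tt N34305 (iv2 F87162)) (tt N8462 F42689) (tt N11007 (iv4 F303898)) (tt N34319 (iv5 F87186)) (tt N10979 F42690) (tt N8458 (iv7 D26638)))
theorem Q17290 : ∀ i, i < 17290 → P i := stepQ 17289 Q17289 (allL N17289 (tt N34320 D55126) (tt N34321 D55127) (tt N10995 F42692) (tt N34197 (iv3 F86903)) (tt N15336 F305282) (tt N8459 (iv5 D26640)) (tt N9921 (iv6 F307196)) (tt N10998 F42693))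
theorem Q17291 : ∀ i, i < 17291 → P i := stepQ 17290 Q17290 (allL N17290 (tt N8821 (iv1 F190515)) (tt N10941 (iv0 F190516)) (tt N10939 F190496) (tt N8460 (iv3 D26641)) (tt N28730 F310326) (tt N34322 D55133) (tt N28728 F310327) (tt N10938 (iv7 F190519)))
theorem Q17292 : ∀ i, i < 17292 → P i := stepQ 17291 Q17291 (allL N17291 (tt N34321 (iv1 F87194)) (tt N34320 F87191) (tt N10998 F42695) (tt N34322 (iv3 F87207)) (tt N22779 F305270) (tt N8460 (iv5 D26642)) (tt N34323 D55136) (tt N10995 F42696))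
theorem Q17293 : ∀ i, i < 17293 → P i := stepQ 17292 Q17292 (allL N17292 (tt N8565 F301123) (tt N8465 F42737) (tt N10999 F42697) (tt N28728 F310318) (tt N8799 F42698) (tt N34324 D55137) (tt N8460 (iv6 D26643)) (tt N11013 F42699))
theorem Q17294 : ∀ i, i < 17294 → P i := stepQ 17293 Q17293 (allL N17293 (tt N11003 (iv1 F42708)) (tt N8461 (iv0 D26644)) (tt N11000 F42711) (tt N10992 F85911) (tt N33858 (iv4 F85906)) (tt N22025 (iv5 F52378)) (tt N34325 D55138) (tt N11001 F42710))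
theorem Q17295 : ∀ i, i < 17295 → P i := stepQ 17294 Q17294 (allL N17294 (tt N8461 (iv1 D26645)) (tt N11003 F42701) (tt N11001 F42703) (tt N34326 D55139) (tt N33859 (iv4 F85923)) (tt N17091 (iv5 F42702)) (tt N34327 D55140) (tt N11000 (iv7 F42712)))
theorem Q17296 : ∀ i, i < 17296 → P i := stepQ 17295 Q17295 (allL N17295 (tt N21721 F53204) (tt N21725 (iv0 F51772)) (tt N11002 F42704) (tt N34328 D55141) (tt N8461 (iv4 D26646)) (tt N22540 F309633) (tt N8620 F42705) (tt N34329 D55143))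
theorem Q17297 : ∀ i, i < 17297 → P i := stepQ 17296 Q17296 (allL N17296 (tt N11001 (iv1 F42709)) (tt N11000 F42713) (tt N11003 F42706) (tt N34319 (iv3 F87185)) (tt N34329 (iv4 F87232)) (tt N8462 F42707) (tt N34330 D55144) (tt N8461 (iv7 D26647)))
theorem Q17298 : ∀ i, i < 17298 → P i := stepQ 17297 Q17297 (allL N17297 (tt N11016 (iv1 F53132)) (tt N8463 (iv0 D26653)) (tt N11015 F130763) (tt N20270 F310921) (tt N34331 D55147) (tt N33788 (iv5 F130934)) (tt N12442 F199865) (tt N10796 F130738))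
theorem Q17299 : ∀ i, i < 17299 → P i := stepQ 17298 Q17298 (allL N17298 (tt N11015 (iv1 F53133)) (tt N10796 (iv0 F130761)) (tt N8463 (iv2 D26655)) (tt N11005 (iv3 F53136)) (tt N34332 D55155) (tt N34333 D55156) (tt N34334 D55157) (tt N11016 F53129))
theorem Q17300 : ∀ i, i < 17300 → P i := stepQ 17299 Q17299 (allL N17299 (tt N34335 D55158) (tt N34279 (iv0 F184569)) (tt N34332 (iv2 F87243)) (tt N25503 (iv3 F61303)) (tt N8463 (iv4 D26656)) (tt N34336 D55160) (tt N34337 D55161) (tt N11017 F53130))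
theorem Q17301 : ∀ i, i < 17301 → P i := stepQ 17300 Q17300 (allL N17300 (tt N34338 D55162) (tt N34339 D55163) (tt N34333 (iv2 F87247)) (tt N8464 F42720) (tt N34340 D55164) (tt N8463 (iv5 D26657)) (tt N21668 F310202) (tt N11018 F53125))
theorem Q17302 : ∀ i, i < 17302 → P i := stepQ 17301 Q17301 (allL N17301 (tt N34341 D55166) (tt N34342 D55167) (tt N34334 (iv2 F87252)) (tt N8465 F42721) (tt N34337 (iv4 F87257)) (tt N22844 (iv5 F54512)) (tt N8463 (iv6 D26658)) (tt N34343 D55168))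
theorem Q17303 : ∀ i, i < 17303 → P i := stepQ 17302 Q17302 (allL N17302 (tt N8467 (iv1 F42729)) (tt N8464 (iv0 D26660)) (tt N11009 (iv2 F42724)) (tt N34344 D55169) (tt N34345 D55170) (tt N17144 F42723) (tt N33390 F316218) (tt N11010 (iv7 F42725)))
theorem Q17304 : ∀ i, i < 17304 → P i := stepQ 17303 Q17303 (allL N17303 (tt N8464 (iv1 D26661)) (tt N8467 F42726) (tt N11010 (iv2 F42728)) (tt N34246 (iv3 F113948)) (tt N34346 D55173) (tt N21448 F51222) (tt N10384 F51223) (tt N11009 F42727))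
theorem Q17305 : ∀ i, i < 17305 → P i := stepQ 17304 Q17304 (allL N17304 (tt N8465 (iv1 D26666)) (tt N8565 F301122) (tt N11013 F42735) (tt N34249 (iv3 F113928)) (tt N12371 F42733) (tt N34347 D55182) (tt N12460 (iv6 F42734)) (tt N10999 F42736))
theorem Q17306 : ∀ i, i < 17306 → P i := stepQ 17305 Q17305 (allL N17305 (tt N11013 (iv1 F53095)) (tt N10999 (iv0 F53092)) (tt N8565 F298692) (tt N34343 (iv3 F87262)) (tt N8555 F298693) (tt N17351 F53089) (tt N8554 F298694) (tt N8465 (iv7 D26667)))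
theorem Q17307 : ∀ i, i < 17307 → P i := stepQ 17306 Q17306 (allL N17306 (tt N8466 (iv1 D26670)) (tt N11005 F53123) (tt N11004 (iv2 F162852)) (tt N34236 (iv3 F163004)) (tt N34348 D55190) (tt N33797 (iv5 F205252)) (tt N12453 (iv6 F210889)) (tt N10741 F232249))
theorem Q17308 : ∀ i, i < 17308 → P i := stepQ 17307 Q17307 (allL N17307 (tt N10741 F232262) (tt N11004 F53122) (tt N8466 (iv2 D26671)) (tt N11016 (iv3 F53135)) (tt N10972 F304080) (tt N34349 D55194) (tt N10971 F304081) (tt N11005 (iv7 F53119)))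
theorem Q17309 : ∀ i, i < 17309 → P i := stepQ 17308 Q17308 (allL N17308 (tt N34350 D55200) (tt N34351 D55201) (tt N34349 (iv2 F87320)) (tt N8467 F42739) (tt N34352 D55202) (tt N8466 (iv5 D26673)) (tt N34353 D55203) (tt N11006 (iv7 F53103)))
theorem Q17310 : ∀ i, i < 17310 → P i := stepQ 17309 Q17309 (allL N17309 (tt N21670 (iv1 F313548)) (tt N21669 (iv0 F313544)) (tt N11021 (iv2 F53105)) (tt N34354 D55208) (tt N8467 (iv4 D26675)) (tt N19045 (iv5 F315386)) (tt N21664 (iv6 F315390)) (tt N11011 (iv7 F53104)))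
theorem Q17311 : ∀ i, i < 17311 → P i := stepQ 17310 Q17310 (allL N17310 (tt N20911 (iv1 F50360)) (tt N10357 (iv0 F42741)) (tt N11022 (iv2 F53106)) (tt N34353 (iv3 F87334)) (tt N21664 (iv4 F315389)) (tt N11831 F304085) (tt N8467 (iv6 D26676)) (tt N20910 (iv7 F53108)))
theorem Q17312 : ∀ i, i < 17312 → P i := stepQ 17311 Q17311 (allL N17311 (tt N8468 (iv1 D26680)) (tt N8470 F42750) (tt N11027 (iv2 F42753)) (tt N10837 F52525) (tt N34355 D55214) (tt N11046 F42752) (tt N33554 F318244) (tt N11026 F42751))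
theorem Q17313 : ∀ i, i < 17313 → P i := stepQ 17312 Q17312 (allL N17312 (tt N21863 (iv1 F52051)) (tt N21860 (iv0 F52043)) (tt N11028 F42754) (tt N34356 D55215) (tt N8468 (iv4 D26681)) (tt N17322 (iv5 F42779)) (tt N23692 F313770) (tt N11030 F42755))
theorem Q17314 : ∀ i, i < 17314 → P i := stepQ 17313 Q17313 (allL N17313 (tt N23713 F309336) (tt N22491 F309337) (tt N11029 F42756) (tt N34156 (iv3 F86832)) (tt N23692 (iv4 F311374)) (tt N11182 F42757) (tt N8468 (iv6 D26682)) (tt N34357 D55219))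
theorem Q17315 : ∀ i, i < 17315 → P i := stepQ 17314 Q17314 (allL N17314 (tt N10752 (iv1 F42763)) (tt N16435 (iv0 F42762)) (tt N14750 F42758) (tt N11365 F42759) (tt N8469 (iv4 D26683)) (tt N34358 D55220) (tt N11361 F42760) (tt N11024 F42761))
theorem Q17316 : ∀ i, i < 17316 → P i := stepQ 17315 Q17315 (allL N17315 (tt N34359 D55221) (tt N23343 (iv0 F55653)) (tt N33983 (iv2 F86403)) (tt N8470 F42764) (tt N34360 D55222) (tt N8469 (iv5 D26684)) (tt N34361 D55223) (tt N11025 F42765))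
theorem Q17317 : ∀ i, i < 17317 → P i := stepQ 17316 Q17316 (allL N17316 (tt N21860 (iv1 F52044)) (tt N21863 (iv0 F52050)) (tt N11030 F42766) (tt N34362 D55224) (tt N8470 (iv4 D26685)) (tt N17319 (iv5 F42772)) (tt N34363 D55225) (tt N11028 F42767))
theorem Q17318 : ∀ i, i < 17318 → P i := stepQ 17317 Q17317 (allL N17317 (tt N34364 D55226) (tt N34365 D55227) (tt N11031 F42768) (tt N34361 (iv3 F87379)) (tt N34363 (iv4 F87382)) (tt N21743 (iv5 F51800)) (tt N8470 (iv6 D26686)) (tt N34366 D55228))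
theorem Q17319 : ∀ i, i < 17319 → P i := stepQ 17318 Q17318 (allL N17318 (tt N10725 F42774) (tt N10802 F42775) (tt N33917 F86146) (tt N8471 (iv3 D26687)) (tt N34367 D55229) (tt N17346 (iv5 F42830)) (tt N34368 D55230) (tt N11035 F42769))
theorem Q17320 : ∀ i, i < 17320 → P i := stepQ 17319 Q17319 (allL N17319 (tt N18475 (iv1 F46011)) (tt N11378 F42773) (tt N11033 F42770) (tt N34369 D55231) (tt N8471 (iv4 D26688)) (tt N17316 F42772) (tt N34370 D55232) (tt N11036 F42771))
theorem Q17321 : ∀ i, i < 17321 → P i := stepQ 17320 Q17320 (allL N17320 (tt N34371 D55233) (tt N34372 D55234) (tt N11034 F42776) (tt N34368 (iv3 F87397)) (tt N34370 (iv4 F87401)) (tt N18964 (iv5 F46698)) (tt N8471 (iv6 D26689)) (tt N34373 D55235))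
theorem Q17322 : ∀ i, i < 17322 → P i := stepQ 17321 Q17321 (allL N17321 (tt N10736 F54571) (tt N33634 (iv0 F85316)) (tt N33984 (iv2 F86411)) (tt N8472 (iv3 D26690)) (tt N34374 D55236) (tt N22880 F54572) (tt N34375 D55237) (tt N11032 F42777))
theorem Q17323 : ∀ i, i < 17323 → P i := stepQ 17322 Q17322 (allL N17322 (tt N11378 F42781) (tt N18475 (iv0 F46010)) (tt N11036 F42778) (tt N34376 D55238) (tt N8472 (iv4 D26691)) (tt N17312 F42779) (tt N34377 D55239) (tt N11033 F42780))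
theorem Q17324 : ∀ i, i < 17324 → P i := stepQ 17323 Q17323 (allL N17323 (tt N34378 D55240) (tt N34379 D55241) (tt N11037 F42782) (tt N34375 (iv3 F87410)) (tt N34377 (iv4 F87414)) (tt N22882 (iv5 F54578)) (tt N8472 (iv6 D26692)) (tt N34380 D55242))
theorem Q17325 : ∀ i, i < 17325 → P i := stepQ 17324 Q17324 (allL N17324 (tt N10470 (iv1 F42784)) (tt N8473 (iv0 D26693)) (tt N11038 (iv2 F42785)) (tt N34381 D55243) (tt N9170 F42783) (tt N17330 (iv5 F42803)) (tt N34382 D55244) (tt N11039 (iv7 F42786)))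
theorem Q17326 : ∀ i, i < 17326 → P i := stepQ 17325 Q17325 (allL N17325 (tt N8473 (iv1 D26694)) (tt N10470 F42787) (tt N11039 (iv2 F42790)) (tt N34383 D55245) (tt N9171 F42789) (tt N17328 (iv5 F42798)) (tt N34384 D55246) (tt N11038 F42788))
theorem Q17327 : ∀ i, i < 17327 → P i := stepQ 17326 Q17326 (allL N17326 (tt N34385 D55247) (tt N34386 D55248) (tt N34387 D55249) (tt N8473 (iv3 D26695)) (tt N34269 (iv4 F87041)) (tt N21473 (iv5 F51354)) (tt N12471 F42791) (tt N22568 (iv7 F53333)))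
theorem Q17328 : ∀ i, i < 17328 → P i := stepQ 17327 Q17327 (allL N17327 (tt N8475 (iv1 D26696)) (tt N8477 F42792) (tt N10698 (iv2 F42795)) (tt N34388 D55250) (tt N22536 (iv4 F53320)) (tt N11047 F42794) (tt N20506 F318257) (tt N10699 F42793))
theorem Q17329 : ∀ i, i < 17329 → P i := stepQ 17328 Q17328 (allL N17328 (tt N21696 (iv1 F51719)) (tt N34355 (iv0 F87357)) (tt N11043 F42796) (tt N33485 (iv3 F322041)) (tt N8475 (iv4 D26697)) (tt N17325 F42798) (tt N23712 F311364) (tt N10700 F42797))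
theorem Q17330 : ∀ i, i < 17330 → P i := stepQ 17329 Q17329 (allL N17329 (tt N24992 F307206) (tt N21718 F307207) (tt N11044 F42799) (tt N10717 F42800) (tt N23712 (iv4 F309163)) (tt N11150 F42801) (tt N8475 (iv6 D26698)) (tt N34389 D55255))
theorem Q17331 : ∀ i, i < 17331 → P i := stepQ 17330 Q17330 (allL N17330 (tt N34355 (iv1 F87358)) (tt N21696 (iv0 F51718)) (tt N10700 F42802) (tt N34390 D55256) (tt N8477 (iv4 D26699)) (tt N17324 F42803) (tt N34391 D55257) (tt N11043 F42804))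
theorem Q17332 : ∀ i, i < 17332 → P i := stepQ 17331 Q17331 (allL N17331 (tt N34392 D55258) (tt N34393 D55259) (tt N10696 F42805) (tt N33871 (iv3 F85984)) (tt N34391 (iv4 F87449)) (tt N10683 F42806) (tt N8477 (iv6 D26700)) (tt N34394 D55260))
theorem Q17333 : ∀ i, i < 17333 → P i := stepQ 17332 Q17332 (allL N17332 (tt N29889 F77542) (tt N34395 D55261) (tt N23196 (iv2 F55172)) (tt N8479 (iv3 D26702)) (tt N16352 F42809) (tt N16502 F42810) (tt N26436 (iv6 F65145)) (tt N21474 (iv7 F51357)))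
theorem Q17334 : ∀ i, i < 17334 → P i := stepQ 17333 Q17333 (allL N17333 (tt N17447 F54158) (tt N11434 (iv0 F54157)) (tt N21475 (iv2 F51358)) (tt N26436 F65144) (tt N21565 (iv4 F51508)) (tt N27203 (iv5 F69243)) (tt N8479 (iv6 D26703)) (tt N21676 (iv7 F55281)))
theorem Q17335 : ∀ i, i < 17335 → P i := stepQ 17334 Q17334 (allL N17334 (tt N34085 F86714) (tt N27696 (iv0 F71092)) (tt N32803 (iv2 F83573)) (tt N23205 (iv3 F55192)) (tt N8482 (iv4 D26706)) (tt N27711 (iv5 F71168)) (tt N34396 D55262) (tt N21478 (iv7 F51366)))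
theorem Q17336 : ∀ i, i < 17336 → P i := stepQ 17335 Q17335 (allL N17335 (tt N34397 D55263) (tt N34398 D55264) (tt N32804 (iv2 F83577)) (tt N8483 F42813) (tt N34396 (iv4 F87466)) (tt N31372 (iv5 F80529)) (tt N8482 (iv6 D26707)) (tt N34399 D55265))
theorem Q17337 : ∀ i, i < 17337 → P i := stepQ 17336 Q17336 (allL N17336 (tt N23831 (iv1 F56569)) (tt N8483 (iv0 D26708)) (tt N23829 (iv2 F177458)) (tt N34400 D55267) (tt N32579 F177778) (tt N34401 D55269) (tt N34402 D55270) (tt N23830 (iv7 F177459)))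
theorem Q17338 : ∀ i, i < 17338 → P i := stepQ 17337 Q17337 (allL N17337 (tt N8483 (iv1 D26709)) (tt N23831 F56568) (tt N23830 F177460) (tt N34403 D55272) (tt N32580 (iv4 F177773)) (tt N34404 D55274) (tt N34405 D55275) (tt N23829 F177461))
theorem Q17339 : ∀ i, i < 17339 → P i := stepQ 17338 Q17338 (allL N17338 (tt N23830 (iv1 F56563)) (tt N23829 F56567) (tt N23831 (iv2 F56564)) (tt N34399 (iv3 F87467)) (tt N23213 (iv4 F55217)) (tt N31378 (iv5 F80539)) (tt N21487 (iv6 F51378)) (tt N8483 (iv7 D26710)))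
theorem Q17340 : ∀ i, i < 17340 → P i := stepQ 17339 Q17339 (allL N17339 (tt N8486 (iv1 F42818)) (tt N8485 (iv0 D26711)) (tt N8489 (iv2 F42815)) (tt N11165 F42816) (tt N31362 (iv4 F80512)) (tt N33935 (iv5 F86242)) (tt N9071 F42814) (tt N8487 F42817))
theorem Q17341 : ∀ i, i < 17341 → P i := stepQ 17340 Q17340 (allL N17340 (tt N19369 (iv1 F47447)) (tt N17542 (iv0 F50491)) (tt N9314 F42820) (tt N8485 (iv3 D26712)) (tt N30412 (iv4 F78497)) (tt N22001 (iv5 F52354)) (tt N17538 (iv6 F50523)) (tt N19370 (iv7 F47445)))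
theorem Q17342 : ∀ i, i < 17342 → P i := stepQ 17341 Q17341 (allL N17341 (tt N34406 D55276) (tt N23854 F76665) (tt N19371 (iv2 F47454)) (tt N34407 D55277) (tt N8485 (iv4 D26713)) (tt N34408 D55278) (tt N20905 (iv6 F49863)) (tt N34409 D55279))
theorem Q17343 : ∀ i, i < 17343 → P i := stepQ 17342 Q17342 (allL N17342 (tt N17086 F42821) (tt N17084 (iv0 F42822)) (tt N19023 (iv2 F46803)) (tt N22001 (iv3 F52358)) (tt N34410 D55280) (tt N8485 (iv5 D26714)) (tt N34411 D55281) (tt N34412 D55282))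
theorem Q17344 : ∀ i, i < 17344 → P i := stepQ 17343 Q17343 (allL N17343 (tt N8487 (iv1 F42824)) (tt N8489 F42825) (tt N8486 F42823) (tt N19370 (iv3 F47444)) (tt N34409 (iv4 F87484)) (tt N34412 (iv5 F87490)) (tt N20999 (iv6 F49972)) (tt N8485 (iv7 D26715)))
theorem Q17345 : ∀ i, i < 17345 → P i := stepQ 17344 Q17344 (allL N17344 (tt N23854 F76663) (tt N34406 F87476) (tt N34409 (iv2 F87483)) (tt N9288 F42826) (tt N8486 (iv4 D26716)) (tt N34413 D55283) (tt N32978 (iv6 F83809)) (tt N19371 (iv7 F47456)))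
theorem Q17346 : ∀ i, i < 17346 → P i := stepQ 17345 Q17345 (allL N17345 (tt N17084 F42828) (tt N17086 (iv0 F52522)) (tt N34412 (iv2 F87489)) (tt N9312 F42827) (tt N34414 D55284) (tt N8486 (iv5 D26717)) (tt N34415 D55285) (tt N19023 (iv7 F46802)))
theorem Q17347 : ∀ i, i < 17347 → P i := stepQ 17346 Q17346 (allL N17346 (tt N16817 F42831) (tt N17449 (iv0 F50388)) (tt N20999 F49971) (tt N9313 F42829) (tt N32978 (iv4 F83808)) (tt N17318 F42830) (tt N8486 (iv6 D26718)) (tt N18634 (iv7 F46295)))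
theorem Q17348 : ∀ i, i < 17348 → P i := stepQ 17347 Q17347 (allL N17347 (tt N34416 D55286) (tt N34417 D55287) (tt N33958 (iv2 F86278)) (tt N34418 D55288) (tt N8488 (iv4 D26719)) (tt N34419 D55289) (tt N34420 D55290) (tt N33956 (iv7 F86275)))
theorem Q17349 : ∀ i, i < 17349 → P i := stepQ 17348 Q17348 (allL N17348 (tt N34421 D55291) (tt N34422 D55292) (tt N33959 (iv2 F86279)) (tt N8491 F42832) (tt N34420 (iv4 F87500)) (tt N8497 F42833) (tt N8488 (iv6 D26720)) (tt N34423 D55293))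
theorem Q17350 : ∀ i, i < 17350 → P i := stepQ 17349 Q17349 (allL N17349 (tt N33968 (iv1 F309123)) (tt N34424 D55295) (tt N34425 D55296) (tt N8490 (iv3 D26721)) (tt N34418 (iv4 F87498)) (tt N11129 F42834) (tt N34097 (iv6 F309125)) (tt N11128 F42835))
theorem Q17351 : ∀ i, i < 17351 → P i := stepQ 17350 Q17350 (allL N17350 (tt N21747 (iv1 F309126)) (tt N17029 (iv0 F308392)) (tt N11184 F42836) (tt N34097 (iv3 F309124)) (tt N8491 F42837) (tt N34426 D55298) (tt N8490 (iv6 D26722)) (tt N21746 (iv7 F309128)))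
theorem Q17352 : ∀ i, i < 17352 → P i := stepQ 17351 Q17351 (allL N17351 (tt N11187 (iv1 F42840)) (tt N8491 (iv0 D26723)) (tt N11185 F53090) (tt N34427 D55300) (tt N21838 F311323) (tt N17305 (iv5 F53089)) (tt N34428 D55301) (tt N11186 F53091))
theorem Q17353 : ∀ i, i < 17353 → P i := stepQ 17352 Q17352 (allL N17352 (tt N11186 (iv1 F42841)) (tt N11185 F42842) (tt N11187 F42838) (tt N34423 (iv3 F87502)) (tt N21746 F311324) (tt N8500 F42839) (tt N34429 D55302) (tt N8491 (iv7 D26724)))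
theorem Q17354 : ∀ i, i < 17354 → P i := stepQ 17353 Q17353 (allL N17353 (tt N34430 D55303) (tt N34431 D55304) (tt N11188 F42843) (tt N33957 (iv3 F86276)) (tt N11132 F42844) (tt N21512 (iv5 F51429)) (tt N8492 (iv6 D26725)) (tt N34429 (iv7 F87527)))
theorem Q17355 : ∀ i, i < 17355 → P i := stepQ 17354 Q17354 (allL N17354 (tt N17163 F42845) (tt N17165 F42846) (tt N21500 (iv2 F51395)) (tt N26421 (iv3 F65114)) (tt N16508 F42847) (tt N8494 (iv5 D26726)) (tt N26419 (iv6 F65111)) (tt N21499 (iv7 F51394)))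
theorem Q17356 : ∀ i, i < 17356 → P i := stepQ 17355 Q17355 (allL N17355 (tt N17451 (iv1 F43291)) (tt N17450 (iv0 F43290)) (tt N17453 (iv2 F43294)) (tt N23332 (iv3 F55616)) (tt N34432 D55305) (tt N8495 (iv5 D26727)) (tt N17227 F42849) (tt N17446 (iv7 F43279)))
theorem Q17357 : ∀ i, i < 17357 → P i := stepQ 17356 Q17356 (allL N17356 (tt N11289 (iv1 F42851)) (tt N8496 (iv0 D26728)) (tt N11288 (iv2 F42852)) (tt N34433 D55306) (tt N21569 (iv4 F51519)) (tt N12264 F42850) (tt N34434 D55307) (tt N11287 (iv7 F42853)))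
theorem Q17358 : ∀ i, i < 17358 → P i := stepQ 17357 Q17357 (allL N17357 (tt N8496 (iv1 D26729)) (tt N11289 F42854) (tt N11287 F42858) (tt N22046 (iv3 F52410)) (tt N9116 (iv4 F42857)) (tt N12265 F42856) (tt N34435 D55308) (tt N11288 F42855))
theorem Q17359 : ∀ i, i < 17359 → P i := stepQ 17358 Q17358 (allL N17358 (tt N17237 F42861) (tt N17241 F42862) (tt N24732 F59376) (tt N11293 F42859) (tt N27712 (iv4 F71174)) (tt N8496 (iv5 D26730)) (tt N34436 D55309) (tt N11290 F42860))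
theorem Q17360 : ∀ i, i < 17360 → P i := stepQ 17359 Q17359 (allL N17359 (tt N34437 D55310) (tt N34438 D55311) (tt N34096 (iv2 F86734)) (tt N11298 F42947) (tt N8497 F42948) (tt N34439 D55312) (tt N8496 (iv6 D26731)) (tt N34440 D55313))
theorem Q17361 : ∀ i, i < 17361 → P i := stepQ 17360 Q17360 (allL N17360 (tt N34099 (iv1 F86743)) (tt N8497 (iv0 D26732)) (tt N34097 (iv2 F186132)) (tt N34441 D55315) (tt N34442 D55316) (tt N34443 D55317) (tt N34425 F309940) (tt N34098 (iv7 F186207)))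
theorem Q17362 : ∀ i, i < 17362 → P i := stepQ 17361 Q17361 (allL N17361 (tt N8497 (iv1 D26733)) (tt N34099 F86742) (tt N34098 (iv2 F186206)) (tt N21746 F162889) (tt N34444 D55321) (tt N34445 D55322) (tt N34446 D55323) (tt N34097 (iv7 F186133)))
theorem Q17363 : ∀ i, i < 17363 → P i := stepQ 17362 Q17362 (allL N17362 (tt N34098 (iv1 F86738)) (tt N34097 (iv0 F86737)) (tt N34099 (iv2 F86739)) (tt N8500 F42949) (tt N34440 (iv4 F87543)) (tt N34423 (iv5 F87503)) (tt N11317 F42950) (tt N8497 (iv7 D26734)))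
theorem Q17364 : ∀ i, i < 17364 → P i := stepQ 17363 Q17363 (allL N17363 (tt N23881 F130956) (tt N10826 (iv0 F130957)) (tt N23880 F130989) (tt N8498 (iv3 D26736)) (tt N34447 D55327) (tt N34448 D55328) (tt N34449 D55329) (tt N11209 (iv7 F51316)))
theorem Q17365 : ∀ i, i < 17365 → P i := stepQ 17364 Q17364 (allL N17364 (tt N34324 (iv1 F87218)) (tt N34347 (iv0 F87311)) (tt N11207 F51295) (tt N34448 (iv3 F87556)) (tt N21726 F309394) (tt N8498 (iv5 D26737)) (tt N21725 (iv6 F311620)) (tt N11210 (iv7 F51317)))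
theorem Q17366 : ∀ i, i < 17366 → P i := stepQ 17365 Q17365 (allL N17365 (tt N10787 (iv1 F43211)) (tt N25139 (iv0 F60352)) (tt N11208 F51296) (tt N34449 (iv3 F87558)) (tt N11948 F42954) (tt N8837 F42955) (tt N8498 (iv6 D26738)) (tt N12464 F51307))
theorem Q17367 : ∀ i, i < 17367 → P i := stepQ 17366 Q17366 (allL N17366 (tt N10764 (iv1 F232503)) (tt N23319 F232462) (tt N23317 F232565) (tt N8499 (iv3 D26740)) (tt N34450 D55335) (tt N34451 D55336) (tt N34452 D55337) (tt N11206 F51293))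
theorem Q17368 : ∀ i, i < 17368 → P i := stepQ 17367 Q17367 (allL N17367 (tt N34347 (iv1 F87312)) (tt N34324 (iv0 F87217)) (tt N11210 F51318) (tt N34451 (iv3 F87573)) (tt N34453 D55338) (tt N8499 (iv5 D26741)) (tt N34454 D55339) (tt N11207 F51294))
theorem Q17369 : ∀ i, i < 17369 → P i := stepQ 17368 Q17368 (allL N17368 (tt N22453 (iv1 F53148)) (tt N10842 F52548) (tt N11211 F51284) (tt N34452 (iv3 F87575)) (tt N11960 F42958) (tt N34294 (iv5 F87102)) (tt N8499 (iv6 D26742)) (tt N34047 (iv7 F86547)))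
theorem Q17370 : ∀ i, i < 17370 → P i := stepQ 17369 Q17369 (allL N17369 (tt N8782 (iv1 F42964)) (tt N8779 (iv0 F42963)) (tt N8622 F42959) (tt N11238 F42960) (tt N8622 F42961) (tt N31978 F327208) (tt N8501 (iv6 D26743)) (tt N8704 F42962))
theorem Q17371 : ∀ i, i < 17371 → P i := stepQ 17370 Q17370 (allL N17370 (tt N34455 D55341) (tt N11650 F121119) (tt N23391 (iv2 F55789)) (tt N13767 F42965) (tt N8752 F42966) (tt N31972 (iv5 F326972)) (tt N8502 (iv6 D26744)) (tt N31971 F326643))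
theorem Q17372 : ∀ i, i < 17372 → P i := stepQ 17371 Q17371 (allL N17371 (tt N11659 (iv1 F42970)) (tt N8503 (iv0 D26745)) (tt N11618 (iv2 F42969)) (tt N11655 F42968) (tt N11618 F42967) (tt N34456 D55345) (tt N8716 F42972) (tt N11660 F42971))
theorem Q17373 : ∀ i, i < 17373 → P i := stepQ 17372 Q17372 (allL N17372 (tt N31978 F326992) (tt N11665 F42974) (tt N23392 (iv2 F55792)) (tt N13640 F42973) (tt N17833 (iv4 F44571)) (tt N8503 (iv5 D26746)) (tt N31972 F326993) (tt N23798 (iv7 F56517)))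
theorem Q17374 : ∀ i, i < 17374 → P i := stepQ 17373 Q17373 (allL N17373 (tt N34457 D55346) (tt N34458 D55347) (tt N23393 (iv2 F55796)) (tt N34459 D55348) (tt N8504 (iv4 D26747)) (tt N34460 D55349) (tt N17727 (iv6 F44396)) (tt N23414 (iv7 F55838)))
theorem Q17375 : ∀ i, i < 17375 → P i := stepQ 17374 Q17374 (allL N17374 (tt N11621 F296252) (tt N34461 D55352) (tt N23389 (iv2 F55782)) (tt N11549 F42976) (tt N8755 F42977) (tt N34462 D55353) (tt N8506 (iv6 D26749)) (tt N34463 D55354))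
theorem Q17376 : ∀ i, i < 17376 → P i := stepQ 17375 Q17375 (allL N17375 (tt N11661 F42979) (tt N34456 (iv0 F87592)) (tt N17825 (iv2 F44556)) (tt N11550 F42978) (tt N34464 D55355) (tt N8507 (iv5 D26750)) (tt N34462 (iv6 F87605)) (tt N17827 (iv7 F44564)))
theorem Q17377 : ∀ i, i < 17377 → P i := stepQ 17376 Q17376 (allL N17376 (tt N34465 D55356) (tt N34466 D55357) (tt N17826 (iv2 F44559)) (tt N34467 D55358) (tt N8508 (iv4 D26751)) (tt N34468 D55359) (tt N17745 (iv6 F44414)) (tt N17828 (iv7 F44566)))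
theorem Q17378 : ∀ i, i < 17378 → P i := stepQ 17377 Q17377 (allL N17377 (tt N34469 D55360) (tt N34470 D55361) (tt N34471 D55362) (tt N8509 (iv3 D26752)) (tt N11264 F42980) (tt N34472 D55363) (tt N34473 D55364) (tt N23394 (iv7 F55800)))
theorem Q17379 : ∀ i, i < 17379 → P i := stepQ 17378 Q17378 (allL N17378 (tt N17681 (iv1 F44335)) (tt N17684 (iv0 F44341)) (tt N8517 F42981) (tt N34472 (iv3 F87624)) (tt N11526 F42982) (tt N8509 (iv5 D26753)) (tt N34474 D55365) (tt N17399 (iv7 F43074)))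
theorem Q17380 : ∀ i, i < 17380 → P i := stepQ 17379 Q17379 (allL N17379 (tt N34475 D55366) (tt N34476 D55367) (tt N8518 F42983) (tt N34473 (iv3 F87625)) (tt N8510 F42984) (tt N34477 D55368) (tt N8509 (iv6 D26754)) (tt N34478 D55369))
theorem Q17381 : ∀ i, i < 17381 → P i := stepQ 17380 Q17380 (allL N17380 (tt N8521 (iv1 F42989)) (tt N8510 (iv0 D26755)) (tt N8519 (iv2 F115435)) (tt N8530 (iv3 F299504)) (tt N34479 D55372) (tt N8528 F297358) (tt N34480 D55374) (tt N8520 F115430))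
theorem Q17382 : ∀ i, i < 17382 → P i := stepQ 17381 Q17381 (allL N17381 (tt N8510 (iv1 D26756)) (tt N8521 F42985) (tt N8520 F115429) (tt N22228 F310617) (tt N34481 D55377) (tt N11341 F297359) (tt N12082 (iv6 F298599)) (tt N8519 (iv7 F115436)))
theorem Q17383 : ∀ i, i < 17383 → P i := stepQ 17382 Q17382 (allL N17382 (tt N8520 (iv1 F42990)) (tt N8519 F42991) (tt N8521 F42986) (tt N11269 F42987) (tt N34478 (iv4 F87632)) (tt N8730 F42988) (tt N23397 (iv6 F55811)) (tt N8510 (iv7 D26757)))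
theorem Q17384 : ∀ i, i < 17384 → P i := stepQ 17383 Q17383 (allL N17383 (tt N8511 (iv1 D26758)) (tt N8512 F42992) (tt N8710 (iv2 F42995)) (tt N28487 (iv3 F74049)) (tt N8705 F42994) (tt N17714 (iv5 F44388)) (tt N34482 D55379) (tt N8711 F42993))
theorem Q17385 : ∀ i, i < 17385 → P i := stepQ 17384 Q17384 (allL N17384 (tt N21962 F52285) (tt N21996 (iv0 F52323)) (tt N34483 D55380) (tt N8511 (iv3 D26759)) (tt N12772 F42996) (tt N21930 (iv5 F52197)) (tt N12077 F297839) (tt N8712 F42997))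
theorem Q17386 : ∀ i, i < 17386 → P i := stepQ 17385 Q17385 (allL N17385 (tt N23556 (iv1 F56141)) (tt N34484 D55382) (tt N8718 F42998) (tt N21930 F52201) (tt N17393 (iv4 F43033)) (tt N8511 (iv5 D26760)) (tt N34485 D55383) (tt N8713 F42999))
theorem Q17387 : ∀ i, i < 17387 → P i := stepQ 17386 Q17386 (allL N17386 (tt N34486 D55405) (tt N34487 D55406) (tt N34488 D55407) (tt N8512 (iv3 D26767)) (tt N10663 (iv4 F300274)) (tt N34489 D55408) (tt N33878 (iv6 F302700)) (tt N8717 F43015))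
theorem Q17388 : ∀ i, i < 17388 → P i := stepQ 17387 Q17387 (allL N17387 (tt N34484 (iv1 F87653)) (tt N23556 (iv0 F56140)) (tt N8713 F43016) (tt N34489 (iv3 F87704)) (tt N17391 (iv4 F43029)) (tt N8512 (iv5 D26768)) (tt N34490 D55410) (tt N8718 F43017))
theorem Q17389 : ∀ i, i < 17389 → P i := stepQ 17388 Q17388 (allL N17388 (tt N27979 F299876) (tt N24125 F299877) (tt N8714 F43018) (tt N33878 (iv3 F302699)) (tt N8513 F43019) (tt N34491 D55413) (tt N8512 (iv6 D26769)) (tt N8688 F299878))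
theorem Q17390 : ∀ i, i < 17390 → P i := stepQ 17389 Q17389 (allL N17389 (tt N8513 (iv1 D26771)) (tt N8680 F297363) (tt N8689 (iv2 F297711)) (tt N11279 (iv3 F121143)) (tt N34492 D55421) (tt N17722 (iv5 F44393)) (tt N25031 (iv6 F299525)) (tt N8690 F297364))
theorem Q17391 : ∀ i, i < 17391 → P i := stepQ 17390 Q17390 (allL N17390 (tt N34493 D55423) (tt N34494 D55424) (tt N34495 D55425) (tt N8514 (iv3 D26773)) (tt N25386 F296239) (tt N34496 D55426) (tt N25383 F296240) (tt N17646 (iv7 F44224)))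
theorem Q17392 : ∀ i, i < 17392 → P i := stepQ 17391 Q17391 (allL N17391 (tt N8727 F43030) (tt N8765 F43031) (tt N8762 F43027) (tt N34496 (iv3 F87718)) (tt N17387 F43029) (tt N8514 (iv5 D26774)) (tt N34497 D55428) (tt N8761 F43028))
theorem Q17393 : ∀ i, i < 17393 → P i := stepQ 17392 Q17392 (allL N17392 (tt N34498 D55433) (tt N26173 (iv0 F298837)) (tt N34499 D55435) (tt N8515 (iv3 D26776)) (tt N23457 (iv4 F55944)) (tt N32626 F83250) (tt N34500 D55436) (tt N17663 (iv7 F44264)))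
theorem Q17394 : ∀ i, i < 17394 → P i := stepQ 17393 Q17393 (allL N17393 (tt N8765 F43035) (tt N8727 F43036) (tt N8761 F43032) (tt N32626 (iv3 F83248)) (tt N17385 F43033) (tt N8515 (iv5 D26777)) (tt N34501 D55437) (tt N8762 F43034))
theorem Q17395 : ∀ i, i < 17395 → P i := stepQ 17394 Q17394 (allL N17394 (tt N12052 (iv1 F121343)) (tt N34492 (iv0 F121344)) (tt N17647 (iv2 F44225)) (tt N34500 (iv3 F87723)) (tt N13967 F298113) (tt N34502 D55440) (tt N8515 (iv6 D26778)) (tt N13965 F298114))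
theorem Q17396 : ∀ i, i < 17396 → P i := stepQ 17395 Q17395 (allL N17395 (tt N8516 (iv1 D26780)) (tt N10876 F43043) (tt N11196 F43067) (tt N34503 D55444) (tt N9136 (iv4 F43045)) (tt N10951 (iv5 F43044)) (tt N34504 D55445) (tt N11197 (iv7 F43057)))
theorem Q17397 : ∀ i, i < 17397 → P i := stepQ 17396 Q17396 (allL N17396 (tt N11197 (iv1 F43054)) (tt N11196 F43042) (tt N8516 (iv2 D26781)) (tt N34471 (iv3 F87620)) (tt N8522 F43040) (tt N22353 (iv5 F52932)) (tt N34505 D55446) (tt N10876 F43041))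
theorem Q17398 : ∀ i, i < 17398 → P i := stepQ 17397 Q17397 (allL N17397 (tt N17767 (iv1 F44431)) (tt N17770 (iv0 F44436)) (tt N22353 F52934) (tt N8517 F43069) (tt N34506 D55447) (tt N8516 (iv5 D26782)) (tt N34507 D55448) (tt N11198 F43070))
theorem Q17399 : ∀ i, i < 17399 → P i := stepQ 17398 Q17398 (allL N17398 (tt N34508 D55449) (tt N34509 D55450) (tt N34505 (iv2 F87736)) (tt N8518 F43071) (tt N8523 F43072) (tt N34510 D55451) (tt N8516 (iv6 D26783)) (tt N34511 D55452))
theorem Q17400 : ∀ i, i < 17400 → P i := stepQ 17399 Q17399 (allL N17399 (tt N8754 F43076) (tt N8751 F43077) (tt N11526 F43073) (tt N34512 D55453) (tt N8517 (iv4 D26784)) (tt N11523 F43075) (tt N34513 D55454) (tt N17378 F43074))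
theorem Q17401 : ∀ i, i < 17401 → P i := stepQ 17400 Q17400 (allL N17400 (tt N34514 D55455) (tt N34515 D55456) (tt N34474 (iv2 F87627)) (tt N34507 (iv3 F87747)) (tt N34513 (iv4 F87755)) (tt N34516 D55457) (tt N8517 (iv6 D26785)) (tt N34517 D55458))
theorem Q17402 : ∀ i, i < 17402 → P i := stepQ 17401 Q17401 (allL N17401 (tt N34478 (iv1 F87636)) (tt N8518 (iv0 D26786)) (tt N34475 (iv2 F115895)) (tt N34518 D55460) (tt N23522 (iv4 F91405)) (tt N34519 D55462) (tt N34520 D55463) (tt N34476 (iv7 F115902)))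
theorem Q17403 : ∀ i, i < 17403 → P i := stepQ 17402 Q17402 (allL N17402 (tt N8518 (iv1 D26787)) (tt N34478 F87634) (tt N34476 (iv2 F115901)) (tt N34521 D55465) (tt N23523 (iv4 F91465)) (tt N34522 D55467) (tt N34523 D55468) (tt N34475 (iv7 F115896)))
theorem Q17404 : ∀ i, i < 17404 → P i := stepQ 17403 Q17403 (allL N17403 (tt N34524 D55469) (tt N34525 D55470) (tt N34477 (iv2 F87630)) (tt N34510 (iv3 F87748)) (tt N34526 D55471) (tt N8518 (iv5 D26788)) (tt N34516 (iv6 F87756)) (tt N34527 D55472))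
theorem Q17405 : ∀ i, i < 17405 → P i := stepQ 17404 Q17404 (allL N17404 (tt N34476 (iv1 F87629)) (tt N34475 F87633) (tt N34478 (iv2 F87631)) (tt N34511 (iv3 F87749)) (tt N8521 F43078) (tt N34527 (iv5 F87761)) (tt N23403 (iv6 F55822)) (tt N8518 (iv7 D26789)))
theorem Q17406 : ∀ i, i < 17406 → P i := stepQ 17405 Q17405 (allL N17405 (tt N22229 (iv1 F308510)) (tt N12742 F116642) (tt N11330 (iv2 F297701)) (tt N8519 (iv3 D26791)) (tt N30674 F308484) (tt N11328 (iv5 F296932)) (tt N34528 D55484) (tt N22228 (iv7 F308509)))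
theorem Q17407 : ∀ i, i < 17407 → P i := stepQ 17406 Q17406 (allL N17406 (tt N34529 D55486) (tt N34482 (iv0 F91215)) (tt N34479 (iv2 F115438)) (tt N22016 F312864) (tt N8519 (iv4 D26792)) (tt N34530 D55489) (tt N34531 D55490) (tt N34481 (iv7 F115433)))
theorem Q17408 : ∀ i, i < 17408 → P i := stepQ 17407 Q17407 (allL N17407 (tt N11340 F298604) (tt N8682 F298605) (tt N8528 F298606) (tt N11328 F298607) (tt N34532 D55494) (tt N8519 (iv5 D26793)) (tt N34533 D55495) (tt N11341 F298608))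
theorem Q17409 : ∀ i, i < 17409 → P i := stepQ 17408 Q17408 (allL N17408 (tt N25031 F299827) (tt N25028 (iv0 F301315)) (tt N34480 (iv2 F115440)) (tt N34528 (iv3 F87776)) (tt N34531 (iv4 F87779)) (tt N34534 D55499) (tt N8519 (iv6 D26794)) (tt N34535 D55500))
theorem Q17410 : ∀ i, i < 17410 → P i := stepQ 17409 Q17409 (allL N17409 (tt N34482 (iv1 F91216)) (tt N34529 F87782) (tt N34481 (iv2 F115432)) (tt N34536 D55507) (tt N8520 (iv4 D26797)) (tt N34537 D55508) (tt N23420 F300554) (tt N34479 (iv7 F115439)))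
theorem Q17411 : ∀ i, i < 17411 → P i := stepQ 17410 Q17410 (allL N17410 (tt N34538 D55515) (tt N34539 D55516) (tt N8523 F43081) (tt N11313 F43082) (tt N34505 (iv4 F87737)) (tt N34540 D55517) (tt N8522 (iv6 D26800)) (tt N34541 D55518))
theorem Q17412 : ∀ i, i < 17412 → P i := stepQ 17411 Q17411 (allL N17411 (tt N34541 (iv1 F87807)) (tt N8523 (iv0 D26801)) (tt N34538 (iv2 F192064)) (tt N34542 D55520) (tt N34543 D55521) (tt N27504 F312754) (tt N34544 D55523) (tt N34539 (iv7 F192067)))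
theorem Q17413 : ∀ i, i < 17413 → P i := stepQ 17412 Q17412 (allL N17412 (tt N8523 (iv1 D26802)) (tt N34541 F87806) (tt N34539 (iv2 F192066)) (tt N34545 D55525) (tt N34546 D55526) (tt N27508 F315069) (tt N34547 D55528) (tt N34538 (iv7 F192065)))
theorem Q17414 : ∀ i, i < 17414 → P i := stepQ 17413 Q17413 (allL N17413 (tt N34548 D55529) (tt N34549 D55530) (tt N34540 (iv2 F87800)) (tt N8526 F43083) (tt N34550 D55531) (tt N8523 (iv5 D26803)) (tt N11205 F43084) (tt N34551 D55532))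
theorem Q17415 : ∀ i, i < 17415 → P i := stepQ 17414 Q17414 (allL N17414 (tt N34539 (iv1 F87799)) (tt N34538 (iv0 F87798)) (tt N34541 (iv2 F87803)) (tt N8527 F43085) (tt N34511 (iv4 F87750)) (tt N34551 (iv5 F87813)) (tt N11202 F43086) (tt N8523 (iv7 D26804)))
theorem Q17416 : ∀ i, i < 17416 → P i := stepQ 17415 Q17415 (allL N17415 (tt N23300 (iv1 F232398)) (tt N10767 (iv0 F232399)) (tt N23298 F232311) (tt N8524 (iv3 D26806)) (tt N34552 D55536) (tt N34553 D55537) (tt N33800 F85680) (tt N11320 (iv7 F51334)))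
theorem Q17417 : ∀ i, i < 17417 → P i := stepQ 17416 Q17416 (allL N17416 (tt N25222 (iv1 F60520)) (tt N25220 (iv0 F60507)) (tt N11319 F51333) (tt N34553 (iv3 F87822)) (tt N34554 D55538) (tt N8524 (iv5 D26807)) (tt N33804 (iv6 F85691)) (tt N11321 (iv7 F51335)))
theorem Q17418 : ∀ i, i < 17418 → P i := stepQ 17417 Q17417 (allL N17417 (tt N10823 (iv1 F130874)) (tt N23890 (iv0 F130873)) (tt N23888 (iv2 F130878)) (tt N8525 (iv3 D26809)) (tt N34555 D55542) (tt N34556 D55543) (tt N34557 D55544) (tt N11318 F51331))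
theorem Q17419 : ∀ i, i < 17419 → P i := stepQ 17418 Q17418 (allL N17418 (tt N25220 (iv1 F60508)) (tt N25222 (iv0 F60519)) (tt N11321 F51336) (tt N34556 (iv3 F87835)) (tt N34558 D55545) (tt N8525 (iv5 D26810)) (tt N34559 D55546) (tt N11319 F51332))
theorem Q17420 : ∀ i, i < 17420 → P i := stepQ 17419 Q17419 (allL N17419 (tt N22485 (iv1 F53214)) (tt N10784 F51339) (tt N11322 F51237) (tt N34557 (iv3 F87837)) (tt N11949 F43091) (tt N34320 (iv5 F87190)) (tt N8525 (iv6 D26811)) (tt N23914 (iv7 F300759)))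
theorem Q17421 : ∀ i, i < 17421 → P i := stepQ 17420 Q17420 (allL N17420 (tt N11326 (iv1 F43094)) (tt N8526 (iv0 D26812)) (tt N11323 (iv2 F43092)) (tt N25154 (iv3 F304128)) (tt N34560 D55548) (tt N12661 F301365) (tt N34561 D55549) (tt N11324 F43093))
theorem Q17422 : ∀ i, i < 17422 → P i := stepQ 17421 Q17421 (allL N17421 (tt N34562 D55550) (tt N25218 (iv0 F60491)) (tt N11325 F43095) (tt N34563 D55551) (tt N8526 (iv4 D26813)) (tt N12473 F43097) (tt N11217 F43096) (tt N12472 (iv7 F43098)))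
theorem Q17423 : ∀ i, i < 17423 → P i := stepQ 17422 Q17422 (allL N17422 (tt N11324 (iv1 F43102)) (tt N11323 F43103) (tt N11326 F43099) (tt N34551 (iv3 F87812)) (tt N12472 F43100) (tt N8527 F43101) (tt N34564 D55552) (tt N8526 (iv7 D26814)))
theorem Q17424 : ∀ i, i < 17424 → P i := stepQ 17423 Q17423 (allL N17423 (tt N11341 (iv1 F43186)) (tt N8528 (iv0 D26821)) (tt N11340 F91471) (tt N11335 (iv3 F300703)) (tt N34565 D55555) (tt N8840 (iv5 F91447)) (tt N12084 (iv6 F117219)) (tt N8682 (iv7 F117188)))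
theorem Q17425 : ∀ i, i < 17425 → P i := stepQ 17424 Q17424 (allL N17424 (tt N34566 D55566) (tt N12092 (iv0 F91443)) (tt N34532 (iv2 F298995)) (tt N34567 D55568) (tt N8528 (iv4 D26824)) (tt N34568 D55569) (tt N34569 D55570) (tt N11342 F43183))
theorem Q17426 : ∀ i, i < 17426 → P i := stepQ 17425 Q17425 (allL N17425 (tt N12054 (iv1 F301285)) (tt N34570 D55576) (tt N34533 (iv2 F301279)) (tt N8531 F43115) (tt N34569 (iv4 F87881)) (tt N12531 (iv5 F43116)) (tt N8528 (iv6 D26826)) (tt N23409 (iv7 F301414)))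
theorem Q17427 : ∀ i, i < 17427 → P i := stepQ 17426 Q17426 (allL N17426 (tt N21564 (iv1 F155245)) (tt N10657 (iv0 F155246)) (tt N21563 F155352) (tt N8529 (iv3 D26828)) (tt N34567 (iv4 F87878)) (tt N34571 D55581) (tt N34572 D55582) (tt N11344 F43180))
theorem Q17428 : ∀ i, i < 17428 → P i := stepQ 17427 Q17427 (allL N17427 (tt N23993 (iv1 F57124)) (tt N23923 F301901) (tt N11333 (iv2 F43205)) (tt N34571 (iv3 F87897)) (tt N34573 D55583) (tt N8529 (iv5 D26829)) (tt N34574 D55584) (tt N11345 F43181))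
theorem Q17429 : ∀ i, i < 17429 → P i := stepQ 17428 Q17428 (allL N17428 (tt N10704 F51205) (tt N24205 F57692) (tt N11334 (iv2 F43196)) (tt N34572 (iv3 F87899)) (tt N8531 F43118) (tt N9099 F43119) (tt N8529 (iv6 D26830)) (tt N24204 (iv7 F57687)))
theorem Q17430 : ∀ i, i < 17430 → P i := stepQ 17429 Q17429 (allL N17429 (tt N23996 (iv1 F57134)) (tt N10679 F43134) (tt N11336 (iv2 F43208)) (tt N30663 F310465) (tt N8530 (iv4 D26832)) (tt N12655 F43133) (tt N24185 F57636) (tt N11347 (iv7 F43207)))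
theorem Q17431 : ∀ i, i < 17431 → P i := stepQ 17430 Q17430 (allL N17430 (tt N8692 F43136) (tt N12057 (iv0 F43139)) (tt N11337 (iv2 F43140)) (tt N34480 F299816) (tt N24185 (iv4 F57635)) (tt N12400 (iv5 F43137)) (tt N8530 (iv6 D26833)) (tt N11356 F43168))
theorem Q17432 : ∀ i, i < 17432 → P i := stepQ 17431 Q17431 (allL N17431 (tt N8531 (iv1 D26834)) (tt N11339 F43212) (tt N11338 F43215) (tt N25028 (iv3 F301316)) (tt N22509 (iv4 F53262)) (tt N17984 F45034) (tt N12057 (iv6 F43214)) (tt N8693 F43213))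
theorem Q17433 : ∀ i, i < 17433 → P i := stepQ 17432 Q17432 (allL N17432 (tt N11338 (iv1 F43219)) (tt N8693 F43220) (tt N11339 F43216) (tt N23409 (iv3 F301412)) (tt N24204 (iv4 F57684)) (tt N8858 F43217) (tt N11350 F43218) (tt N8531 (iv7 D26835)))
theorem Q17434 : ∀ i, i < 17434 → P i := stepQ 17433 Q17433 (allL N17433 (tt N12034 F59775) (tt N27742 F71286) (tt N27731 (iv2 F116709)) (tt N34575 D55595) (tt N8532 (iv4 D26839)) (tt N34576 D55596) (tt N24158 F297844) (tt N11329 F43228))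
theorem Q17435 : ∀ i, i < 17435 → P i := stepQ 17434 Q17434 (allL N17434 (tt N24964 (iv1 F116997)) (tt N12025 F297841) (tt N23404 F297842) (tt N8535 F43232) (tt N24158 F297843) (tt N34577 D55603) (tt N8532 (iv6 D26841)) (tt N27748 (iv7 F116833)))
theorem Q17436 : ∀ i, i < 17436 → P i := stepQ 17435 Q17435 (allL N17435 (tt N10686 (iv1 F130803)) (tt N21709 (iv0 F130802)) (tt N21708 (iv2 F130807)) (tt N8533 (iv3 D26842)) (tt N34575 (iv4 F87937)) (tt N18468 (iv5 F130809)) (tt N21733 (iv6 F130819)) (tt N11332 F43233))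
theorem Q17437 : ∀ i, i < 17437 → P i := stepQ 17436 Q17436 (allL N17436 (tt N23923 F301902) (tt N23993 (iv0 F57123)) (tt N11345 F43234) (tt N18468 F130823) (tt N34578 D55610) (tt N8533 (iv5 D26843)) (tt N18466 (iv6 F130825)) (tt N11333 F43235))
theorem Q17438 : ∀ i, i < 17438 → P i := stepQ 17437 Q17437 (allL N17437 (tt N21722 (iv1 F51771)) (tt N10676 F51969) (tt N11346 F43236) (tt N21733 F130824) (tt N8535 F43237) (tt N23662 (iv5 F56332)) (tt N8533 (iv6 D26844)) (tt N24216 (iv7 F300285)))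
theorem Q17439 : ∀ i, i < 17439 → P i := stepQ 17438 Q17438 (allL N17438 (tt N8798 (iv1 F43247)) (tt N8797 (iv0 F43246)) (tt N11349 F43244) (tt N34577 (iv3 F87945)) (tt N23666 (iv4 F56352)) (tt N8535 (iv5 D26846)) (tt N11353 F43245) (tt N12364 (iv7 F43248)))
theorem Q17440 : ∀ i, i < 17440 → P i := stepQ 17439 Q17439 (allL N17439 (tt N8694 (iv1 F43252)) (tt N11348 F43253) (tt N11350 F43249) (tt N27748 (iv3 F116831)) (tt N24216 (iv4 F300284)) (tt N12364 F43250) (tt N11339 F43251) (tt N8535 (iv7 D26847)))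
theorem Q17441 : ∀ i, i < 17441 → P i := stepQ 17440 Q17440 (allL N17440 (tt N8539 (iv1 F43255)) (tt N8537 (iv0 D26848)) (tt N11791 (iv2 F43256)) (tt N32574 (iv3 F83115)) (tt N10512 F43254) (tt N32849 (iv5 F83653)) (tt N10471 F50915) (tt N11790 (iv7 F43257)))
theorem Q17442 : ∀ i, i < 17442 → P i := stepQ 17441 Q17441 (allL N17441 (tt N8537 (iv1 D26849)) (tt N8539 F43258) (tt N11790 F43262) (tt N10472 (iv3 F43261)) (tt N10527 (iv4 F43260)) (tt N32832 (iv5 F83617)) (tt N23248 (iv6 F55299)) (tt N11791 F43259))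
theorem Q17443 : ∀ i, i < 17443 → P i := stepQ 17442 Q17442 (allL N17442 (tt N22039 (iv1 F52403)) (tt N16489 F43266) (tt N11795 F43263) (tt N10639 F43264) (tt N22084 (iv4 F52460)) (tt N8537 (iv5 D26850)) (tt N33034 F328473) (tt N11792 F43265))
theorem Q17444 : ∀ i, i < 17444 → P i := stepQ 17443 Q17443 (allL N17443 (tt N16489 (iv1 F43270)) (tt N22039 (iv0 F52402)) (tt N11792 F43267) (tt N10755 F43268) (tt N22085 (iv4 F52461)) (tt N8539 (iv5 D26851)) (tt N34579 D55614) (tt N11795 F43269))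
theorem Q17445 : ∀ i, i < 17445 → P i := stepQ 17444 Q17444 (allL N17444 (tt N18922 (iv1 F46656)) (tt N18921 F46653) (tt N9507 F43271) (tt N17519 (iv3 F43566)) (tt N8540 F43272) (tt N34580 D55615) (tt N8539 (iv6 D26852)) (tt N18923 (iv7 F46655)))
theorem Q17446 : ∀ i, i < 17446 → P i := stepQ 17445 Q17445 (allL N17445 (tt N15226 F43275) (tt N17195 (iv0 F43276)) (tt N9522 F43273) (tt N19004 (iv3 F46759)) (tt N34581 D55616) (tt N8540 (iv5 D26853)) (tt N22111 (iv6 F52493)) (tt N17193 F43274))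
theorem Q17447 : ∀ i, i < 17447 → P i := stepQ 17446 Q17446 (allL N17446 (tt N33690 (iv1 F85449)) (tt N11497 (iv0 F43280)) (tt N8543 F43277) (tt N11484 F43278) (tt N34582 D55617) (tt N8541 (iv5 D26854)) (tt N34275 (iv6 F87054)) (tt N17355 F43279))
theorem Q17448 : ∀ i, i < 17448 → P i := stepQ 17447 Q17447 (allL N17447 (tt N23248 (iv1 F55295)) (tt N17333 (iv0 F54158)) (tt N10596 F43281) (tt N23227 F55262) (tt N8542 (iv4 D26855)) (tt N26910 (iv5 F68205)) (tt N34583 D55618) (tt N23234 (iv7 F55278)))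
theorem Q17449 : ∀ i, i < 17449 → P i := stepQ 17448 Q17448 (allL N17448 (tt N16931 F43283) (tt N21241 F50387) (tt N10599 F43282) (tt N21321 (iv3 F54215)) (tt N34584 D55619) (tt N8542 (iv5 D26856)) (tt N20745 (iv6 F314982)) (tt N21266 (iv7 F50670)))
theorem Q17450 : ∀ i, i < 17450 → P i := stepQ 17449 Q17449 (allL N17449 (tt N17346 F50388) (tt N33487 (iv0 F84925)) (tt N10245 F43284) (tt N22272 F54112) (tt N34583 (iv4 F87981)) (tt N17211 F43285) (tt N8542 (iv6 D26857)) (tt N33508 (iv7 F84999)))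
theorem Q17451 : ∀ i, i < 17451 → P i := stepQ 17450 Q17450 (allL N17450 (tt N17355 F43290) (tt N8543 (iv0 D26858)) (tt N33690 (iv2 F85445)) (tt N8546 F43287) (tt N34585 D55621) (tt N9342 F43288) (tt N34586 D55622) (tt N11497 (iv7 F43289)))
theorem Q17452 : ∀ i, i < 17452 → P i := stepQ 17451 Q17451 (allL N17451 (tt N8543 (iv1 D26859)) (tt N17355 F43291) (tt N11497 F43293) (tt N22850 (iv3 F54537)) (tt N34587 D55623) (tt N10381 (iv5 F43292)) (tt N34588 D55624) (tt N33690 (iv7 F85447)))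
theorem Q17453 : ∀ i, i < 17453 → P i := stepQ 17452 Q17452 (allL N17452 (tt N34589 D55625) (tt N34590 D55626) (tt N34582 (iv2 F87978)) (tt N34591 D55627) (tt N8543 (iv4 D26860)) (tt N28025 (iv5 F72576)) (tt N34291 (iv6 F87085)) (tt N34592 D55628))
theorem Q17454 : ∀ i, i < 17454 → P i := stepQ 17453 Q17453 (allL N17453 (tt N11497 (iv1 F43297)) (tt N33690 (iv0 F85448)) (tt N17355 F43294) (tt N8548 F43295) (tt N34592 (iv4 F87995)) (tt N8544 F43296) (tt N12428 (iv6 F43298)) (tt N8543 (iv7 D26861)))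
theorem Q17455 : ∀ i, i < 17455 → P i := stepQ 17454 Q17454 (allL N17454 (tt N22849 (iv1 F54531)) (tt N22848 (iv0 F54524)) (tt N22850 F54534) (tt N8545 (iv3 D26862)) (tt N16502 F43299) (tt N10333 F43300) (tt N34593 D55629) (tt N11499 F43301))
theorem Q17456 : ∀ i, i < 17456 → P i := stepQ 17455 Q17455 (allL N17455 (tt N20380 F311584) (tt N34594 D55631) (tt N11498 F43302) (tt N34593 (iv3 F87999)) (tt N20928 F311585) (tt N19013 (iv5 F46783)) (tt N8545 (iv6 D26863)) (tt N34595 D55632))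
theorem Q17457 : ∀ i, i < 17457 → P i := stepQ 17456 Q17456 (allL N17456 (tt N34345 (iv1 F313947)) (tt N34346 (iv0 F313948)) (tt N11500 F43303) (tt N34586 (iv3 F87987)) (tt N9165 F311512) (tt N9345 F43304) (tt N8546 (iv6 D26864)) (tt N29819 (iv7 F313951)))
theorem Q17458 : ∀ i, i < 17458 → P i := stepQ 17457 Q17457 (allL N17457 (tt N27725 F71226) (tt N34596 D55636) (tt N34597 D55637) (tt N8547 (iv3 D26865)) (tt N34591 (iv4 F87993)) (tt N24251 (iv5 F58186)) (tt N33618 (iv6 F308649)) (tt N34598 D55638))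
theorem Q17459 : ∀ i, i < 17459 → P i := stepQ 17458 Q17458 (allL N17458 (tt N11159 (iv1 F308646)) (tt N11801 F43309) (tt N11503 F43305) (tt N24251 F58185) (tt N8621 F43306) (tt N8547 (iv5 D26866)) (tt N34599 D55639) (tt N8620 F43307))
theorem Q17460 : ∀ i, i < 17460 → P i := stepQ 17459 Q17459 (allL N17459 (tt N11012 F306847) (tt N11501 F43314) (tt N11504 F43310) (tt N34598 (iv3 F88022)) (tt N8548 F43311) (tt N8620 F43312) (tt N34600 D55640) (tt N8547 (iv7 D26867)))
theorem Q17461 : ∀ i, i < 17461 → P i := stepQ 17460 Q17460 (allL N17460 (tt N34601 D55641) (tt N34602 D55642) (tt N11505 F43315) (tt N12428 F43316) (tt N34600 (iv4 F88029)) (tt N11803 F43317) (tt N8548 (iv6 D26868)) (tt N34299 (iv7 F87146)))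
theorem Q17462 : ∀ i, i < 17462 → P i := stepQ 17461 Q17461 (allL N17461 (tt N19401 F47548) (tt N21489 F51381) (tt N11436 F43318) (tt N21650 (iv3 F51640)) (tt N8551 F43319) (tt N32958 (iv5 F83777)) (tt N8549 (iv6 D26869)) (tt N32977 (iv7 F83805)))
theorem Q17463 : ∀ i, i < 17463 → P i := stepQ 17462 Q17462 (allL N17462 (tt N28790 F74508) (tt N28792 (iv0 F74511)) (tt N34300 (iv2 F87149)) (tt N8554 (iv3 D26870)) (tt N11611 F43320) (tt N34603 D55643) (tt N34343 (iv6 F301349)) (tt N11019 F298690))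
theorem Q17464 : ∀ i, i < 17464 → P i := stepQ 17463 Q17463 (allL N17463 (tt N11830 F43325) (tt N11829 F43326) (tt N8564 F43322) (tt N34603 (iv3 F88032)) (tt N8636 F43323) (tt N8554 (iv5 D26871)) (tt N19033 (iv6 F301351)) (tt N11023 F298691))
theorem Q17465 : ∀ i, i < 17465 → P i := stepQ 17464 Q17464 (allL N17464 (tt N11812 F43343) (tt N11758 (iv0 F43344)) (tt N8572 F43339) (tt N12717 F43340) (tt N8556 (iv4 D26877)) (tt N15532 (iv5 F324957)) (tt N17464 F43341) (tt N8570 F43342))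
theorem Q17466 : ∀ i, i < 17466 → P i := stepQ 17465 Q17465 (allL N17465 (tt N34604 D55660) (tt N24066 (iv0 F57301)) (tt N8574 F43345) (tt N34605 D55661) (tt N8557 (iv4 D26878)) (tt N9229 (iv5 F318093)) (tt N23123 (iv6 F299298)) (tt N23944 (iv7 F56965)))
theorem Q17467 : ∀ i, i < 17467 → P i := stepQ 17466 Q17466 (allL N17466 (tt N8559 (iv1 D26879)) (tt N8560 F43346) (tt N11821 (iv2 F43349)) (tt N25437 (iv3 F61011)) (tt N12666 F43348) (tt N24214 (iv5 F57757)) (tt N18616 (iv6 F298477)) (tt N11822 F43347))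
theorem Q17468 : ∀ i, i < 17468 → P i := stepQ 17467 Q17467 (allL N17467 (tt N14866 F43352) (tt N25446 (iv0 F61035)) (tt N25448 F61040) (tt N8559 (iv3 D26880)) (tt N13794 F43350) (tt N19119 (iv5 F298478)) (tt N11852 (iv6 F298479)) (tt N11823 F43351))
theorem Q17469 : ∀ i, i < 17469 → P i := stepQ 17468 Q17468 (allL N17468 (tt N34606 D55683) (tt N18599 (iv0 F300708)) (tt N34607 D55684) (tt N8560 (iv3 D26887)) (tt N13959 F43368) (tt N19117 (iv5 F300709)) (tt N25217 (iv6 F300711)) (tt N11825 F43369))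
theorem Q17470 : ∀ i, i < 17470 → P i := stepQ 17469 Q17469 (allL N17469 (tt N34170 (iv1 F300677)) (tt N34260 (iv0 F300679)) (tt N27939 (iv2 F72257)) (tt N8562 (iv3 D26893)) (tt N34608 D55692) (tt N27938 F72256) (tt N10980 (iv6 F300685)) (tt N11826 F43383))
theorem Q17471 : ∀ i, i < 17471 → P i := stepQ 17470 Q17470 (allL N17470 (tt N11640 F43396) (tt N11639 F43397) (tt N8636 F43393) (tt N34609 D55703) (tt N8564 (iv4 D26897)) (tt N8625 F43394) (tt N34610 D55704) (tt N11612 F43395))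
theorem Q17472 : ∀ i, i < 17472 → P i := stepQ 17471 Q17471 (allL N17471 (tt N9535 (iv1 F303900)) (tt N19035 (iv0 F303901)) (tt N19033 (iv2 F301350)) (tt N34308 (iv3 F87174)) (tt N34610 (iv4 F88153)) (tt N22843 (iv5 F303902)) (tt N8564 (iv6 D26898)) (tt N19032 (iv7 F303903)))
theorem Q17473 : ∀ i, i < 17473 → P i := stepQ 17472 Q17472 (allL N17472 (tt N25474 F296866) (tt N13767 F121220) (tt N24943 (iv2 F89178)) (tt N8566 (iv3 D26904)) (tt N24916 (iv4 F59924)) (tt N34611 D55732) (tt N17593 F296867) (tt N11697 F296868))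
theorem Q17474 : ∀ i, i < 17474 → P i := stepQ 17473 Q17473 (allL N17473 (tt N14873 (iv1 F301886)) (tt N18616 F301084) (tt N18615 (iv2 F302836)) (tt N34612 D55737) (tt N8566 (iv4 D26905)) (tt N34613 D55738) (tt N17595 F301085) (tt N11700 F301086))
theorem Q17475 : ∀ i, i < 17475 → P i := stepQ 17474 Q17474 (allL N17474 (tt N11957 F300111) (tt N11959 F300112) (tt N11873 (iv2 F300427)) (tt N34611 (iv3 F88168)) (tt N25050 (iv4 F302666)) (tt N8566 (iv5 D26906)) (tt N8651 F300113) (tt N11703 F300114))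
theorem Q17476 : ∀ i, i < 17476 → P i := stepQ 17475 Q17475 (allL N17475 (tt N11959 F300108) (tt N11957 F300109) (tt N11703 F300110) (tt N25984 (iv3 F118783)) (tt N34614 D55757) (tt N8567 (iv5 D26911)) (tt N16058 F320730) (tt N11873 (iv7 F300428)))
theorem Q17477 : ∀ i, i < 17477 → P i := stepQ 17476 Q17476 (allL N17476 (tt N23110 (iv1 F299690)) (tt N11543 (iv0 F299648)) (tt N23123 (iv2 F299297)) (tt N34615 D55773) (tt N8568 (iv4 D26915)) (tt N19217 F314096) (tt N8574 F43402) (tt N23124 (iv7 F299620)))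
theorem Q17478 : ∀ i, i < 17478 → P i := stepQ 17477 Q17477 (allL N17477 (tt N18867 F322583) (tt N23809 (iv0 F296845)) (tt N11720 (iv2 F296265)) (tt N34616 D55780) (tt N8571 (iv4 D26919)) (tt N19220 F322584) (tt N8584 (iv6 F296232)) (tt N11844 F43412))
theorem Q17479 : ∀ i, i < 17479 → P i := stepQ 17478 Q17478 (allL N17478 (tt N23809 F297204) (tt N18867 (iv0 F320829)) (tt N11844 F43416) (tt N34617 D55788) (tt N8573 (iv4 D26922)) (tt N19221 (iv5 F320971)) (tt N34618 D55790) (tt N11720 F297206))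
theorem Q17480 : ∀ i, i < 17480 → P i := stepQ 17479 Q17479 (allL N17479 (tt N11730 (iv1 F298894)) (tt N11729 (iv0 F298893)) (tt N11731 F297207) (tt N25987 (iv3 F63835)) (tt N34618 (iv4 F88245)) (tt N17479 F43419) (tt N8573 (iv6 D26923)) (tt N8589 F297208))
theorem Q17481 : ∀ i, i < 17481 → P i := stepQ 17480 Q17480 (allL N17480 (tt N23944 (iv1 F56968)) (tt N8574 (iv0 D26924)) (tt N34604 F88061) (tt N34619 D55794) (tt N11599 F43420) (tt N19285 (iv5 F320951)) (tt N11710 (iv6 F298785)) (tt N24066 (iv7 F57300)))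
theorem Q17482 : ∀ i, i < 17482 → P i := stepQ 17481 Q17481 (allL N17481 (tt N8574 (iv1 D26925)) (tt N23944 (iv0 F56967)) (tt N24066 (iv2 F57299)) (tt N34620 D55796) (tt N17567 (iv4 F43720)) (tt N19286 (iv5 F320952)) (tt N17887 (iv6 F299731)) (tt N34604 (iv7 F88063)))
theorem Q17483 : ∀ i, i < 17483 → P i := stepQ 17482 Q17482 (allL N17482 (tt N34621 D55798) (tt N34622 D55799) (tt N34623 D55800) (tt N8574 (iv3 D26926)) (tt N8590 F43421) (tt N19216 (iv5 F320950)) (tt N34615 (iv6 F88204)) (tt N25344 (iv7 F60738)))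
theorem Q17484 : ∀ i, i < 17484 → P i := stepQ 17483 Q17483 (allL N17483 (tt N24066 (iv1 F57302)) (tt N34604 F88062) (tt N23944 (iv2 F56964)) (tt N25344 (iv3 F60737)) (tt N8575 F43422) (tt N19218 (iv5 F320954)) (tt N31958 F324572) (tt N8574 (iv7 D26928)))
theorem Q17485 : ∀ i, i < 17485 → P i := stepQ 17484 Q17484 (allL N17484 (tt N25273 (iv1 F297805)) (tt N17699 F121185) (tt N25412 (iv2 F118822)) (tt N21729 (iv3 F51773)) (tt N8576 (iv4 D26933)) (tt N21799 (iv5 F309470)) (tt N24195 (iv6 F57663)) (tt N11695 F43431))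
theorem Q17486 : ∀ i, i < 17486 → P i := stepQ 17485 Q17485 (allL N17485 (tt N34624 D55825) (tt N34625 D55826) (tt N25413 (iv2 F118825)) (tt N8577 F43432) (tt N34626 D55827) (tt N8576 (iv5 D26934)) (tt N24198 (iv6 F57665)) (tt N11696 F43433))
theorem Q17487 : ∀ i, i < 17487 → P i := stepQ 17486 Q17486 (allL N17486 (tt N8579 (iv1 F43436)) (tt N8577 (iv0 D26935)) (tt N11688 F51238) (tt N20517 (iv3 F323442)) (tt N34627 D55829) (tt N11949 F43434) (tt N11957 F43435) (tt N11689 (iv7 F51263)))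
theorem Q17488 : ∀ i, i < 17488 → P i := stepQ 17487 Q17487 (allL N17487 (tt N8577 (iv1 D26936)) (tt N8579 F43437) (tt N11689 (iv2 F51328)) (tt N11959 F300115) (tt N34628 D55830) (tt N11958 F300116) (tt N11730 F43439) (tt N11688 F51234))
theorem Q17489 : ∀ i, i < 17489 → P i := stepQ 17488 Q17488 (allL N17488 (tt N23109 (iv1 F54995)) (tt N24976 (iv0 F60034)) (tt N11690 F43440) (tt N34629 D55831) (tt N8577 (iv4 D26937)) (tt N24991 (iv5 F60074)) (tt N24206 (iv6 F57697)) (tt N11701 F43441))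
theorem Q17490 : ∀ i, i < 17490 → P i := stepQ 17489 Q17489 (allL N17489 (tt N8578 (iv1 D26939)) (tt N11681 F43446) (tt N11680 (iv2 F119362)) (tt N25474 F297470) (tt N34630 D55839) (tt N27996 F297471) (tt N11857 (iv6 F121272)) (tt N11553 (iv7 F121252)))
theorem Q17491 : ∀ i, i < 17491 → P i := stepQ 17490 Q17490 (allL N17490 (tt N11553 (iv1 F121251)) (tt N11680 F43445) (tt N8578 (iv2 D26940)) (tt N11694 F43443) (tt N24579 (iv4 F117745)) (tt N34631 D55843) (tt N24615 (iv6 F297798)) (tt N11681 F43444))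
theorem Q17492 : ∀ i, i < 17492 → P i := stepQ 17491 Q17491 (allL N17491 (tt N24569 (iv1 F117855)) (tt N24581 (iv0 F117749)) (tt N24579 (iv2 F117744)) (tt N21734 (iv3 F51780)) (tt N8578 (iv4 D26941)) (tt N34632 D55847) (tt N24509 (iv6 F299360)) (tt N11682 F43448))
theorem Q17493 : ∀ i, i < 17493 → P i := stepQ 17492 Q17492 (allL N17492 (tt N34633 D55849) (tt N34634 D55850) (tt N34631 (iv2 F88326)) (tt N8579 F43449) (tt N34635 D55851) (tt N8578 (iv5 D26942)) (tt N31310 F323925) (tt N11683 F43450))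
theorem Q17494 : ∀ i, i < 17494 → P i := stepQ 17493 Q17493 (allL N17493 (tt N24976 (iv1 F60035)) (tt N23109 (iv0 F54994)) (tt N11701 F43452) (tt N34636 D55856) (tt N8579 (iv4 D26944)) (tt N22538 F311430) (tt N25322 (iv6 F60695)) (tt N11690 F43453))
theorem Q17495 : ∀ i, i < 17495 → P i := stepQ 17494 Q17494 (allL N17494 (tt N25416 (iv1 F118521)) (tt N24029 (iv0 F118523)) (tt N25414 (iv2 F118094)) (tt N8580 (iv3 D26948)) (tt N34637 D55863) (tt N24211 F297051) (tt N17577 F43781) (tt N11707 F43468))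
theorem Q17496 : ∀ i, i < 17496 → P i := stepQ 17495 Q17495 (allL N17495 (tt N11713 (iv1 F43482)) (tt N8582 (iv0 D26951)) (tt N11709 (iv2 F43478)) (tt N34638 D55869) (tt N8800 F43476) (tt N34639 D55870) (tt N17890 (iv6 F44778)) (tt N11710 F43477))
theorem Q17497 : ∀ i, i < 17497 → P i := stepQ 17496 Q17496 (allL N17496 (tt N8582 (iv1 D26952)) (tt N11713 F43471) (tt N11710 (iv2 F43473)) (tt N34640 D55871) (tt N8801 F43472) (tt N34641 D55872) (tt N34604 F301436) (tt N11709 (iv7 F43481)))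
theorem Q17498 : ∀ i, i < 17498 → P i := stepQ 17497 Q17497 (allL N17497 (tt N34642 D55874) (tt N34643 D55875) (tt N34644 D55876) (tt N8582 (iv3 D26953)) (tt N34615 (iv4 F88203)) (tt N31283 F323132) (tt N8590 F43483) (tt N34645 D55878))
theorem Q17499 : ∀ i, i < 17499 → P i := stepQ 17498 Q17498 (allL N17498 (tt N34646 D55879) (tt N22573 F309183) (tt N11712 F43484) (tt N31283 (iv3 F321468)) (tt N22539 (iv4 F309334)) (tt N8582 (iv5 D26954)) (tt N31279 F319479) (tt N34647 D55883))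
theorem Q17500 : ∀ i, i < 17500 → P i := stepQ 17499 Q17499 (allL N17499 (tt N11710 (iv1 F43487)) (tt N11709 F43488) (tt N11713 F43485) (tt N34645 (iv3 F88383)) (tt N8583 F43486) (tt N34647 (iv5 F88399)) (tt N25347 (iv6 F60745)) (tt N8582 (iv7 D26955)))
theorem Q17501 : ∀ i, i < 17501 → P i := stepQ 17500 Q17500 (allL N17500 (tt N34648 D55884) (tt N34649 D55885) (tt N34650 D55886) (tt N8584 (iv3 D26957)) (tt N26744 (iv4 F67180)) (tt N11719 F43494) (tt N34616 F297047) (tt N11727 F43495))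
theorem Q17502 : ∀ i, i < 17502 → P i := stepQ 17501 Q17501 (allL N17501 (tt N11716 F43509) (tt N11550 (iv0 F43510)) (tt N8587 F43506) (tt N11723 F43507) (tt N34651 D55895) (tt N8586 (iv5 D26962)) (tt N34652 D55896) (tt N11715 F43508))
theorem Q17503 : ∀ i, i < 17503 → P i := stepQ 17502 Q17502 (allL N17502 (tt N31050 F327202) (tt N24892 (iv0 F59870)) (tt N34651 (iv2 F88429)) (tt N34653 D55898) (tt N8587 (iv4 D26963)) (tt N34654 D55899) (tt N34655 D55900) (tt N11717 F43511))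
theorem Q17504 : ∀ i, i < 17504 → P i := stepQ 17503 Q17503 (allL N17503 (tt N34656 D55901) (tt N34657 D55902) (tt N34652 (iv2 F88433)) (tt N8589 F43512) (tt N34655 (iv4 F88443)) (tt N17503 F43513) (tt N8587 (iv6 D26964)) (tt N25987 (iv7 F296268)))
theorem Q17505 : ∀ i, i < 17505 → P i := stepQ 17504 Q17504 (allL N17504 (tt N34658 D55904) (tt N34659 D55905) (tt N34660 D55906) (tt N8588 (iv3 D26965)) (tt N34653 (iv4 F88440)) (tt N11727 F43514) (tt N34661 D55907) (tt N11719 F43515))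
theorem Q17506 : ∀ i, i < 17506 → P i := stepQ 17505 Q17505 (allL N17505 (tt N23529 F318846) (tt N23828 (iv0 F115644)) (tt N11728 F43516) (tt N34661 (iv3 F88454)) (tt N8589 F43517) (tt N23562 (iv5 F320986)) (tt N8588 (iv6 D26966)) (tt N34618 (iv7 F299318)))
theorem Q17507 : ∀ i, i < 17507 → P i := stepQ 17506 Q17506 (allL N17506 (tt N11731 (iv1 F43523)) (tt N8589 (iv0 D26967)) (tt N11729 (iv2 F51324)) (tt N11730 (iv3 F298895)) (tt N24113 F318810) (tt N34662 D55913) (tt N11959 F43518) (tt N11730 (iv7 F51321)))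
theorem Q17508 : ∀ i, i < 17508 → P i := stepQ 17507 Q17507 (allL N17507 (tt N8589 (iv1 D26968)) (tt N11731 F43519) (tt N11730 (iv2 F51327)) (tt N31233 (iv3 F323453)) (tt N34663 D55915) (tt N23770 (iv5 F56484)) (tt N11689 (iv6 F43989)) (tt N11729 F51326))
theorem Q17509 : ∀ i, i < 17509 → P i := stepQ 17508 Q17508 (allL N17508 (tt N25343 (iv1 F60734)) (tt N8590 (iv0 D26970)) (tt N23780 (iv2 F254379)) (tt N34664 D55917) (tt N34665 D55918) (tt N23777 F254376) (tt N34666 D55920) (tt N23775 (iv7 F254380)))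
theorem Q17510 : ∀ i, i < 17510 → P i := stepQ 17509 Q17509 (allL N17509 (tt N8590 (iv1 D26971)) (tt N25343 F60736) (tt N23775 F254384) (tt N34667 D55922) (tt N34668 D55923) (tt N23772 F254385) (tt N34669 D55925) (tt N23780 F254386))
theorem Q17511 : ∀ i, i < 17511 → P i := stepQ 17510 Q17510 (allL N17510 (tt N23780 (iv1 F248741)) (tt N23775 F248738) (tt N8590 (iv2 D26972)) (tt N11742 F43526) (tt N34623 (iv4 F88261)) (tt N31253 F325686) (tt N34644 (iv6 F88381)) (tt N25343 (iv7 F60733)))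
theorem Q17512 : ∀ i, i < 17512 → P i := stepQ 17511 Q17511 (allL N17511 (tt N8783 F43542) (tt N8780 (iv0 F43543)) (tt N8595 F43539) (tt N11759 F43540) (tt N34670 D55942) (tt N8594 (iv5 D26978)) (tt N34671 D55943) (tt N11751 F43541))
theorem Q17513 : ∀ i, i < 17513 → P i := stepQ 17512 Q17512 (allL N17512 (tt N34672 D55944) (tt N34464 (iv0 F87610)) (tt N34670 (iv2 F88520)) (tt N34673 D55945) (tt N8595 (iv4 D26979)) (tt N34674 D55946) (tt N34675 D55947) (tt N11752 F43544))
theorem Q17514 : ∀ i, i < 17514 → P i := stepQ 17513 Q17513 (allL N17513 (tt N34676 D55948) (tt N34677 D55949) (tt N34671 (iv2 F88524)) (tt N8597 F43545) (tt N34675 (iv4 F88534)) (tt N17513 F43546) (tt N8595 (iv6 D26980)) (tt N22916 F297516))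
theorem Q17515 : ∀ i, i < 17515 → P i := stepQ 17514 Q17514 (allL N17514 (tt N25350 F254087) (tt N25354 (iv0 F254088)) (tt N34678 D55953) (tt N8596 (iv3 D26981)) (tt N34673 (iv4 F88531)) (tt N11762 F43547) (tt N34679 D55954) (tt N11754 F43548))
theorem Q17516 : ∀ i, i < 17516 → P i := stepQ 17515 Q17515 (allL N17515 (tt N24113 F318812) (tt N34663 (iv0 F114173)) (tt N11763 F43549) (tt N34679 (iv3 F88545)) (tt N8597 F43550) (tt N25501 (iv5 F320943)) (tt N8596 (iv6 D26982)) (tt N34680 D55958))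
theorem Q17517 : ∀ i, i < 17517 → P i := stepQ 17516 Q17516 (allL N17516 (tt N11766 F43558) (tt N8597 (iv0 D26983)) (tt N11764 (iv2 F43552)) (tt N34677 (iv3 F298659)) (tt N23747 (iv4 F114141)) (tt N34681 D55961) (tt N11355 F43551) (tt N11765 (iv7 F43553)))
theorem Q17518 : ∀ i, i < 17518 → P i := stepQ 17517 Q17517 (allL N17517 (tt N8597 (iv1 D26984)) (tt N11766 F43554) (tt N11765 (iv2 F43559)) (tt N34682 D55962) (tt N23748 (iv4 F114145)) (tt N12530 (iv5 F43557)) (tt N12364 (iv6 F43556)) (tt N11764 F43555))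
theorem Q17519 : ∀ i, i < 17519 → P i := stepQ 17518 Q17518 (allL N17518 (tt N11765 (iv1 F43563)) (tt N11764 F43564) (tt N11766 F43560) (tt N22916 F297517) (tt N34680 (iv4 F88550)) (tt N17518 F43561) (tt N11663 F297518) (tt N8597 (iv7 D26985)))
theorem Q17520 : ∀ i, i < 17520 → P i := stepQ 17519 Q17519 (allL N17519 (tt N22786 F54397) (tt N14967 (iv0 F43567)) (tt N11419 F43565) (tt N17444 F43566) (tt N18221 (iv4 F45542)) (tt N34683 D55964) (tt N8599 (iv6 D26986)) (tt N22788 (iv7 F54404)))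
theorem Q17521 : ∀ i, i < 17521 → P i := stepQ 17520 Q17520 (allL N17520 (tt N10754 (iv1 F43573)) (tt N10751 F43571) (tt N8602 F43568) (tt N16520 F43569) (tt N34684 D55965) (tt N8601 (iv5 D26987)) (tt N34685 D55966) (tt N11420 F43570))
theorem Q17522 : ∀ i, i < 17522 → P i := stepQ 17521 Q17521 (allL N17521 (tt N33974 (iv1 F86362)) (tt N17657 (iv0 F76679)) (tt N34684 (iv2 F88575)) (tt N29556 (iv3 F76686)) (tt N8602 (iv4 D26988)) (tt N17708 (iv5 F44376)) (tt N34686 D55967) (tt N11422 F43574))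
theorem Q17523 : ∀ i, i < 17523 → P i := stepQ 17522 Q17522 (allL N17522 (tt N34687 D55968) (tt N34688 D55969) (tt N34685 (iv2 F88580)) (tt N8604 F43575) (tt N34686 (iv4 F88584)) (tt N32904 (iv5 F83726)) (tt N8602 (iv6 D26989)) (tt N34689 D55970))
theorem Q17524 : ∀ i, i < 17524 → P i := stepQ 17523 Q17523 (allL N17523 (tt N16526 (iv1 F43581)) (tt N8604 (iv0 D26990)) (tt N16523 F153450) (tt N34690 D55972) (tt N23178 F136679) (tt N34691 D55974) (tt N34692 D55975) (tt N16524 F153451))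
theorem Q17525 : ∀ i, i < 17525 → P i := stepQ 17524 Q17524 (allL N17524 (tt N8604 (iv1 D26991)) (tt N16526 F43576) (tt N16524 (iv2 F153447)) (tt N34693 D55977) (tt N23179 F136674) (tt N34694 D55979) (tt N34695 D55980) (tt N16523 (iv7 F153448)))
theorem Q17526 : ∀ i, i < 17526 → P i := stepQ 17525 Q17525 (allL N17525 (tt N34696 D55981) (tt N34697 D55982) (tt N16525 F43577) (tt N32904 (iv3 F83725)) (tt N27760 (iv4 F71431)) (tt N8604 (iv5 D26992)) (tt N8605 F43578) (tt N34698 D55983))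
theorem Q17527 : ∀ i, i < 17527 → P i := stepQ 17526 Q17526 (allL N17526 (tt N16524 (iv1 F43582)) (tt N16523 F43583) (tt N16526 F43579) (tt N34689 (iv3 F88585)) (tt N29559 (iv4 F76692)) (tt N34698 (iv5 F88592)) (tt N11431 F43580) (tt N8604 (iv7 D26993)))
theorem Q17528 : ∀ i, i < 17528 → P i := stepQ 17527 Q17527 (allL N17527 (tt N21748 (iv1 F51813)) (tt N8605 (iv0 D26994)) (tt N21679 (iv2 F51671)) (tt N10754 (iv3 F43585)) (tt N23868 (iv4 F56635)) (tt N10753 F43584) (tt N34699 D55984) (tt N29892 (iv7 F77547)))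
theorem Q17529 : ∀ i, i < 17529 → P i := stepQ 17528 Q17528 (allL N17528 (tt N8605 (iv1 D26995)) (tt N21748 (iv0 F51812)) (tt N29892 F77550) (tt N17065 (iv3 F43587)) (tt N23869 (iv4 F56637)) (tt N16378 F43586) (tt N34700 D55985) (tt N21679 (iv7 F51673)))
theorem Q17530 : ∀ i, i < 17530 → P i := stepQ 17529 Q17529 (allL N17529 (tt N29892 (iv1 F77546)) (tt N21679 (iv0 F51674)) (tt N21748 (iv2 F51810)) (tt N14752 F43588) (tt N13689 F43589) (tt N8606 F43590) (tt N34701 D55986) (tt N8605 (iv7 D26996)))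
theorem Q17531 : ∀ i, i < 17531 → P i := stepQ 17530 Q17530 (allL N17530 (tt N8612 (iv1 F43593)) (tt N8609 (iv0 D26997)) (tt N11463 (iv2 F43594)) (tt N10510 F43592) (tt N10497 F43591) (tt N33973 (iv5 F86354)) (tt N23372 (iv6 F55697)) (tt N11462 (iv7 F43595)))
theorem Q17532 : ∀ i, i < 17532 → P i := stepQ 17531 Q17531 (allL N17531 (tt N8609 (iv1 D26998)) (tt N8612 F43596) (tt N11462 F43599) (tt N11404 F43600) (tt N10514 (iv4 F50855)) (tt N29909 (iv5 F77591)) (tt N10513 F50910) (tt N11463 F43597))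
theorem Q17533 : ∀ i, i < 17533 → P i := stepQ 17532 Q17532 (allL N17532 (tt N18530 (iv1 F46144)) (tt N21913 (iv0 F52175)) (tt N11475 F43601) (tt N17170 F43602) (tt N21961 (iv4 F52281)) (tt N8609 (iv5 D26999)) (tt N34702 D55987) (tt N11465 F43603))
theorem Q17534 : ∀ i, i < 17534 → P i := stepQ 17533 Q17533 (allL N17533 (tt N30524 (iv1 F78793)) (tt N30074 (iv0 F77972)) (tt N11476 F43604) (tt N21568 (iv3 F51515)) (tt N8610 F43605) (tt N34703 D55988) (tt N8609 (iv6 D27000)) (tt N22784 (iv7 F54392)))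
theorem Q17535 : ∀ i, i < 17535 → P i := stepQ 17534 Q17534 (allL N17534 (tt N17162 F43608) (tt N15231 F43609) (tt N11480 F43607) (tt N21576 (iv3 F51536)) (tt N21808 (iv4 F307954)) (tt N8610 (iv5 D27003)) (tt N21978 (iv6 F52304)) (tt N22785 (iv7 F54393)))
theorem Q17536 : ∀ i, i < 17536 → P i := stepQ 17535 Q17535 (allL N17535 (tt N10513 F43624) (tt N10510 (iv0 F43625)) (tt N11772 F43622) (tt N26794 (iv3 F67748)) (tt N8611 (iv4 D27005)) (tt N34704 D55990) (tt N18393 (iv6 F50534)) (tt N11472 F43623))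
theorem Q17537 : ∀ i, i < 17537 → P i := stepQ 17536 Q17536 (allL N17536 (tt N21913 (iv1 F52176)) (tt N18530 (iv0 F46133)) (tt N11465 F43628) (tt N16414 (iv3 F46136)) (tt N17711 (iv4 F44379)) (tt N8612 (iv5 D27007)) (tt N34705 D55991) (tt N11475 F43629))
theorem Q17538 : ∀ i, i < 17538 → P i := stepQ 17537 Q17537 (allL N17537 (tt N32096 F82325) (tt N30526 (iv0 F78800)) (tt N11466 F43630) (tt N29552 (iv3 F76657)) (tt N8613 F43631) (tt N34706 D55992) (tt N8612 (iv6 D27008)) (tt N34707 D55993))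
theorem Q17539 : ∀ i, i < 17539 → P i := stepQ 17538 Q17538 (allL N17538 (tt N8613 (iv1 D27010)) (tt N11471 F43632) (tt N10490 F50520) (tt N10198 F50521) (tt N20936 F50522) (tt N33694 (iv5 F85457)) (tt N17340 F50523) (tt N11469 (iv7 F50651)))
theorem Q17540 : ∀ i, i < 17540 → P i := stepQ 17539 Q17539 (allL N17539 (tt N21205 F52355) (tt N16915 (iv0 F43635)) (tt N11470 F43633) (tt N16900 F43634) (tt N34708 D55994) (tt N8613 (iv5 D27011)) (tt N21986 (iv6 F52310)) (tt N21191 (iv7 F50314)))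
theorem Q17541 : ∀ i, i < 17541 → P i := stepQ 17540 Q17540 (allL N17540 (tt N10490 (iv1 F50650)) (tt N11469 F43640) (tt N11471 F43636) (tt N14810 (iv3 F50552)) (tt N34707 (iv4 F88621)) (tt N21191 F50315) (tt N11481 F43637) (tt N8613 (iv7 D27012)))
theorem Q17542 : ∀ i, i < 17542 → P i := stepQ 17541 Q17541 (allL N17541 (tt N17161 F43644) (tt N17154 F43646) (tt N11473 F43641) (tt N17009 F43642) (tt N34709 D55995) (tt N8615 (iv5 D27013)) (tt N34710 D55996) (tt N17158 F43643))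
theorem Q17543 : ∀ i, i < 17543 → P i := stepQ 17542 Q17542 (allL N17542 (tt N17340 F50491) (tt N9488 F50492) (tt N11474 F43647) (tt N17010 F43648) (tt N30523 F78786) (tt N21948 F52260) (tt N8615 (iv6 D27014)) (tt N18392 (iv7 F50550)))
theorem Q17544 : ∀ i, i < 17544 → P i := stepQ 17543 Q17543 (allL N17543 (tt N34163 (iv1 F162882)) (tt N34252 (iv0 F162945)) (tt N11800 F43649) (tt N10796 F43650) (tt N21006 F308887) (tt N33581 (iv5 F85190)) (tt N8618 (iv6 D27015)) (tt N20270 F308888))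
theorem Q17545 : ∀ i, i < 17545 → P i := stepQ 17544 Q17544 (allL N17544 (tt N13829 F43653) (tt N21355 F305638) (tt N24250 F58183) (tt N8620 (iv3 D27017)) (tt N25443 (iv4 F61027)) (tt N34598 (iv5 F88023)) (tt N34328 (iv6 F87227)) (tt N24251 (iv7 F58184)))
theorem Q17546 : ∀ i, i < 17546 → P i := stepQ 17545 Q17545 (allL N17545 (tt N20754 F307117) (tt N20757 F307118) (tt N11803 F43654) (tt N34171 (iv3 F86852)) (tt N34599 (iv4 F88027)) (tt N11505 F43655) (tt N8621 (iv6 D27018)) (tt N34330 (iv7 F87238)))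
theorem Q17547 : ∀ i, i < 17547 → P i := stepQ 17546 Q17546 (allL N17546 (tt N23798 (iv1 F56519)) (tt N23392 (iv0 F55795)) (tt N31978 F327206) (tt N8624 F43657) (tt N34457 (iv4 F87594)) (tt N8622 (iv5 D27020)) (tt N24092 (iv6 F57384)) (tt N11665 F43658))
theorem Q17548 : ∀ i, i < 17548 → P i := stepQ 17547 Q17547 (allL N17547 (tt N17830 F44569) (tt N23119 F297378) (tt N11599 F43659) (tt N11239 F43660) (tt N34604 (iv4 F88060)) (tt N8623 (iv5 D27021)) (tt N8801 (iv6 F298781)) (tt N17567 (iv7 F43719)))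
theorem Q17549 : ∀ i, i < 17549 → P i := stepQ 17548 Q17548 (allL N17548 (tt N34711 D56010) (tt N34712 D56011) (tt N34271 (iv2 F87043)) (tt N8625 (iv3 D27023)) (tt N11019 (iv4 F298467)) (tt N34609 (iv5 F88150)) (tt N11017 (iv6 F300345)) (tt N11611 F43664))
theorem Q17550 : ∀ i, i < 17550 → P i := stepQ 17549 Q17549 (allL N17549 (tt N11635 F297957) (tt N34713 D56014) (tt N8637 F43665) (tt N11017 (iv3 F300344)) (tt N8626 F43666) (tt N34714 D56015) (tt N8625 (iv6 D27024)) (tt N25503 (iv7 F299420)))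
theorem Q17551 : ∀ i, i < 17551 → P i := stepQ 17550 Q17550 (allL N17550 (tt N8626 (iv1 D27026)) (tt N8640 F43667) (tt N8638 (iv2 F91535)) (tt N25017 (iv3 F60133)) (tt N24645 (iv4 F118563)) (tt N23611 (iv5 F56206)) (tt N11632 (iv6 F300523)) (tt N8633 F299024))
theorem Q17552 : ∀ i, i < 17552 → P i := stepQ 17551 Q17551 (allL N17551 (tt N25399 (iv1 F91425)) (tt N25467 (iv0 F91422)) (tt N12063 F43678) (tt N8630 F43679) (tt N17842 (iv4 F44601)) (tt N11910 F43680) (tt N8628 (iv6 D27030)) (tt N25234 (iv7 F91164)))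
theorem Q17553 : ∀ i, i < 17553 → P i := stepQ 17552 Q17552 (allL N17552 (tt N23749 F322032) (tt N24858 (iv0 F91418)) (tt N11630 F43681) (tt N22988 (iv3 F54837)) (tt N8630 F43682) (tt N25282 F322033) (tt N8629 (iv6 D27031)) (tt N24860 (iv7 F91170)))
theorem Q17554 : ∀ i, i < 17554 → P i := stepQ 17553 Q17553 (allL N17553 (tt N25421 (iv1 F297091)) (tt N25417 (iv0 F296731)) (tt N17643 (iv2 F44219)) (tt N8633 F43690) (tt N17705 (iv4 F44372)) (tt N23620 (iv5 F56254)) (tt N8631 (iv6 D27035)) (tt N25017 (iv7 F297092)))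
theorem Q17555 : ∀ i, i < 17555 → P i := stepQ 17554 Q17554 (allL N17554 (tt N24695 (iv1 F59341)) (tt N24691 (iv0 F59326)) (tt N22983 (iv2 F54817)) (tt N8632 (iv3 D27036)) (tt N17704 (iv4 F44371)) (tt N22981 F54809) (tt N24549 (iv6 F307504)) (tt N11628 F43691))
theorem Q17556 : ∀ i, i < 17556 → P i := stepQ 17555 Q17555 (allL N17555 (tt N24647 F299019) (tt N24638 F299020) (tt N11623 F43692) (tt N24549 F309549) (tt N8633 F43693) (tt N34715 D56051) (tt N8632 (iv6 D27037)) (tt N24645 (iv7 F299917)))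
theorem Q17557 : ∀ i, i < 17557 → P i := stepQ 17556 Q17556 (allL N17556 (tt N27958 F72369) (tt N34716 D56063) (tt N34137 (iv2 F86803)) (tt N8634 (iv3 D27041)) (tt N25406 (iv4 F60962)) (tt N27983 (iv5 F72445)) (tt N34717 D56064) (tt N11633 F43700))
theorem Q17558 : ∀ i, i < 17558 → P i := stepQ 17557 Q17557 (allL N17557 (tt N10790 F301061) (tt N8669 F43705) (tt N11637 F43701) (tt N27983 F72443) (tt N9561 F301062) (tt N8634 (iv5 D27042)) (tt N25289 F318547) (tt N11634 F43703))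
theorem Q17559 : ∀ i, i < 17559 → P i := stepQ 17558 Q17558 (allL N17558 (tt N25501 (iv1 F116692)) (tt N25365 (iv0 F116693)) (tt N11638 F43706) (tt N34717 (iv3 F88733)) (tt N11984 F43707) (tt N25290 F321513) (tt N8634 (iv6 D27043)) (tt N25502 (iv7 F116671)))
theorem Q17560 : ∀ i, i < 17560 → P i := stepQ 17559 Q17559 (allL N17559 (tt N25503 (iv1 F125928)) (tt N8637 (iv0 F297718)) (tt N11635 F43708) (tt N34105 (iv3 F86758)) (tt N11985 F43709) (tt N34718 D56072) (tt N8635 (iv6 D27044)) (tt N34713 (iv7 F299423)))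
theorem Q17561 : ∀ i, i < 17561 → P i := stepQ 17560 Q17560 (allL N17560 (tt N19262 (iv1 F304922)) (tt N34719 D56075) (tt N34610 (iv2 F88152)) (tt N34281 (iv3 F87078)) (tt N19033 F302496) (tt N34720 D56076) (tt N8636 (iv6 D27045)) (tt N34721 D56077))
theorem Q17562 : ∀ i, i < 17562 → P i := stepQ 17561 Q17561 (allL N17561 (tt N8637 (iv1 D27047)) (tt N25503 (iv0 F299418)) (tt N34713 (iv2 F117014)) (tt N34722 D56084) (tt N12219 (iv4 F118399)) (tt N34723 D56086) (tt N25502 F297965) (tt N11635 F297966))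
theorem Q17563 : ∀ i, i < 17563 → P i := stepQ 17562 Q17562 (allL N17562 (tt N34724 D56088) (tt N34725 D56089) (tt N34714 (iv2 F88669)) (tt N34284 (iv3 F87079)) (tt N20856 (iv4 F321806)) (tt N8637 (iv5 D27048)) (tt N34720 (iv6 F88752)) (tt N34726 D56091))
theorem Q17564 : ∀ i, i < 17564 → P i := stepQ 17563 Q17563 (allL N17563 (tt N34713 (iv1 F88668)) (tt N11635 F297963) (tt N25503 (iv2 F299419)) (tt N34285 (iv3 F87080)) (tt N8640 F43710) (tt N34726 (iv5 F88757)) (tt N11645 F43711) (tt N8637 (iv7 D27049)))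
theorem Q17565 : ∀ i, i < 17565 → P i := stepQ 17564 Q17564 (allL N17564 (tt N23389 F120796) (tt N34463 (iv0 F120797)) (tt N34461 (iv2 F120835)) (tt N8638 (iv3 D27056)) (tt N17738 F120718) (tt N34727 D56124) (tt N25234 (iv6 F297066)) (tt N11621 F296253))
theorem Q17566 : ∀ i, i < 17566 → P i := stepQ 17565 Q17565 (allL N17565 (tt N24638 (iv1 F118392)) (tt N24647 (iv0 F118000)) (tt N24645 (iv2 F118562)) (tt N24781 (iv3 F301946)) (tt N8638 (iv4 D27057)) (tt N34728 D56127) (tt N24860 (iv6 F299930)) (tt N11623 F299205))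
theorem Q17567 : ∀ i, i < 17567 → P i := stepQ 17566 Q17566 (allL N17566 (tt N23622 (iv1 F301738)) (tt N23621 (iv0 F301737)) (tt N23611 (iv2 F91533)) (tt N34727 (iv3 F88784)) (tt N15993 F322282) (tt N8638 (iv5 D27058)) (tt N15991 (iv6 F323825)) (tt N11624 F299207))
theorem Q17568 : ∀ i, i < 17568 → P i := stepQ 17567 Q17567 (allL N17567 (tt N23390 F55788) (tt N23515 F56039) (tt N11906 F43717) (tt N8675 F43718) (tt N17481 F43720) (tt N8642 (iv5 D27064)) (tt N8812 (iv6 F297551)) (tt N17547 F43719))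
theorem Q17569 : ∀ i, i < 17569 → P i := stepQ 17568 Q17568 (allL N17568 (tt N23511 (iv1 F56217)) (tt N14481 (iv0 F43723)) (tt N25982 (iv2 F63814)) (tt N8643 (iv3 D27065)) (tt N25312 (iv4 F60682)) (tt N11619 F43721) (tt N34729 D56149) (tt N11656 F43722))
theorem Q17570 : ∀ i, i < 17570 → P i := stepQ 17569 Q17569 (allL N17569 (tt N31233 F324762) (tt N31233 F324763) (tt N11664 F43726) (tt N34729 (iv3 F88804)) (tt N15945 (iv4 F324971)) (tt N17569 F43727) (tt N8643 (iv6 D27067)) (tt N11664 F299551))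
theorem Q17571 : ∀ i, i < 17571 → P i := stepQ 17570 Q17570 (allL N17570 (tt N17825 (iv1 F44558)) (tt N17827 (iv0 F44565)) (tt N34456 (iv2 F87589)) (tt N8644 (iv3 D27068)) (tt N34466 (iv4 F87617)) (tt N11618 F43728) (tt N11656 (iv6 F296051)) (tt N11661 F43729))
theorem Q17572 : ∀ i, i < 17572 → P i := stepQ 17571 Q17571 (allL N17571 (tt N11858 (iv1 F43737)) (tt N8645 (iv0 D27077)) (tt N11857 F120805) (tt N34463 (iv3 F120783)) (tt N12295 (iv4 F298923)) (tt N34730 D56183) (tt N11680 F121223) (tt N11549 (iv7 F120791)))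
theorem Q17573 : ∀ i, i < 17573 → P i := stepQ 17572 Q17572 (allL N17572 (tt N34731 D56197) (tt N34732 D56198) (tt N13957 (iv2 F296703)) (tt N8646 F43744) (tt N34733 D56199) (tt N8645 (iv5 D27081)) (tt N11840 F296269) (tt N11860 F43745))
theorem Q17574 : ∀ i, i < 17574 → P i := stepQ 17573 Q17573 (allL N17573 (tt N8648 (iv1 F43749)) (tt N8646 (iv0 D27083)) (tt N11854 F51280) (tt N11676 (iv3 F300451)) (tt N34734 D56205) (tt N11960 F43748) (tt N34662 (iv6 F88468)) (tt N11855 F51278))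
theorem Q17575 : ∀ i, i < 17575 → P i := stepQ 17574 Q17574 (allL N17574 (tt N8646 (iv1 D27084)) (tt N8648 F43753) (tt N11855 (iv2 F51276)) (tt N23622 (iv3 F301739)) (tt N34735 D56207) (tt N11971 F43754) (tt N11677 F43755) (tt N11854 (iv7 F51279)))
theorem Q17576 : ∀ i, i < 17576 → P i := stepQ 17575 Q17575 (allL N17575 (tt N25039 (iv1 F60182)) (tt N25040 (iv0 F60187)) (tt N11856 F43756) (tt N34736 D56208) (tt N8646 (iv4 D27085)) (tt N25056 (iv5 F60227)) (tt N11842 F299340) (tt N11865 F43757))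
theorem Q17577 : ∀ i, i < 17577 → P i := stepQ 17576 Q17576 (allL N17576 (tt N17987 F296889) (tt N24237 (iv0 F297319)) (tt N24931 (iv2 F297801)) (tt N21631 (iv3 F51605)) (tt N8647 (iv4 D27093)) (tt N34737 D56226) (tt N15327 (iv6 F309865)) (tt N11850 F43778))
theorem Q17578 : ∀ i, i < 17578 → P i := stepQ 17577 Q17577 (allL N17577 (tt N27284 (iv1 F297421)) (tt N27283 (iv0 F297417)) (tt N25430 (iv2 F118099)) (tt N8648 F43779) (tt N34738 D56230) (tt N8647 (iv5 D27094)) (tt N17494 (iv6 F43781)) (tt N11851 F43780))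
theorem Q17579 : ∀ i, i < 17579 → P i := stepQ 17578 Q17578 (allL N17578 (tt N25040 (iv1 F60188)) (tt N25039 (iv0 F60181)) (tt N11865 F43783) (tt N34739 D56234) (tt N8648 (iv4 D27096)) (tt N25057 (iv5 F60231)) (tt N12374 F43784) (tt N11856 F43785))
theorem Q17580 : ∀ i, i < 17580 → P i := stepQ 17579 Q17579 (allL N17579 (tt N34730 F121292) (tt N23480 (iv0 F121319)) (tt N34740 D56237) (tt N8650 (iv3 D27098)) (tt N27646 F323559) (tt N24181 (iv5 F57614)) (tt N31352 (iv6 F321417)) (tt N11871 F43791))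
theorem Q17581 : ∀ i, i < 17581 → P i := stepQ 17580 Q17580 (allL N17580 (tt N25393 (iv1 F118849)) (tt N25433 (iv0 F118831)) (tt N25431 (iv2 F118843)) (tt N8651 (iv3 D27100)) (tt N34741 D56243) (tt N17594 F43879) (tt N34611 (iv6 F297857)) (tt N11867 F43794))
theorem Q17582 : ∀ i, i < 17582 → P i := stepQ 17581 Q17581 (allL N17581 (tt N11878 (iv1 F43810)) (tt N8652 (iv0 D27102)) (tt N11874 (iv2 F43807)) (tt N34742 D56245) (tt N8815 F43805) (tt N33571 F318599) (tt N31340 F322484) (tt N11875 F43806))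
theorem Q17583 : ∀ i, i < 17583 → P i := stepQ 17582 Q17582 (allL N17582 (tt N8652 (iv1 D27103)) (tt N11878 F43800) (tt N11875 (iv2 F43802)) (tt N34743 D56248) (tt N8816 F43801) (tt N34744 D56249) (tt N34745 D56250) (tt N11874 (iv7 F43809)))
theorem Q17584 : ∀ i, i < 17584 → P i := stepQ 17583 Q17583 (allL N17583 (tt N31336 (iv1 F326506)) (tt N34746 D56252) (tt N34747 D56253) (tt N8652 (iv3 D27104)) (tt N16098 (iv4 F325864)) (tt N34748 D56254) (tt N8654 F43811) (tt N16095 F325704))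
theorem Q17585 : ∀ i, i < 17585 → P i := stepQ 17584 Q17584 (allL N17584 (tt N34749 D56256) (tt N34750 D56257) (tt N11877 F43812) (tt N34748 (iv3 F88978)) (tt N33621 F316527) (tt N8652 (iv5 D27105)) (tt N25346 (iv6 F60742)) (tt N34751 D56259))
theorem Q17586 : ∀ i, i < 17586 → P i := stepQ 17585 Q17585 (allL N17585 (tt N11875 (iv1 F43815)) (tt N11874 F43816) (tt N11878 F43813) (tt N16095 (iv3 F324579)) (tt N8653 F43814) (tt N34751 (iv5 F88993)) (tt N16093 F323145) (tt N8652 (iv7 D27106)))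
theorem Q17587 : ∀ i, i < 17587 → P i := stepQ 17586 Q17586 (allL N17586 (tt N31253 F325683) (tt N8654 (iv0 D27108)) (tt N31285 F325684) (tt N34752 D56261) (tt N32234 (iv4 F326499)) (tt N11896 (iv5 F194345)) (tt N34753 D56264) (tt N31284 F325685))
theorem Q17588 : ∀ i, i < 17588 → P i := stepQ 17587 Q17587 (allL N17587 (tt N8654 (iv1 D27109)) (tt N31253 F325680) (tt N31284 F325681) (tt N34754 D56266) (tt N31058 (iv4 F326497)) (tt N11897 (iv5 F194342)) (tt N34755 D56269) (tt N31285 F325682))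
theorem Q17589 : ∀ i, i < 17589 → P i := stepQ 17588 Q17588 (allL N17588 (tt N31285 F325687) (tt N31284 F325688) (tt N8654 (iv2 D27110)) (tt N11898 F43822) (tt N31256 (iv4 F326500)) (tt N25343 (iv5 F60732)) (tt N34747 (iv6 F88977)) (tt N31253 F325689))
theorem Q17590 : ∀ i, i < 17590 → P i := stepQ 17589 Q17589 (allL N17589 (tt N12221 (iv1 F296577)) (tt N12215 (iv0 F296570)) (tt N11985 F43827) (tt N8808 F296117) (tt N11635 F43829) (tt N31945 (iv5 F324840)) (tt N8655 (iv6 D27112)) (tt N12219 (iv7 F296580)))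
theorem Q17591 : ∀ i, i < 17591 → P i := stepQ 17590 Q17590 (allL N17590 (tt N18954 F318104) (tt N23915 F56797) (tt N11842 F43834) (tt N34756 D56275) (tt N8657 (iv4 D27114)) (tt N18849 (iv5 F320282)) (tt N11856 (iv6 F297440)) (tt N11839 F43835))
theorem Q17592 : ∀ i, i < 17592 → P i := stepQ 17591 Q17591 (allL N17591 (tt N11637 F43862) (tt N11634 F43863) (tt N8669 F43859) (tt N33943 (iv3 F300346)) (tt N8658 (iv4 D27124)) (tt N8666 F43860) (tt N19773 (iv6 F302754)) (tt N10790 F299922))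
theorem Q17593 : ∀ i, i < 17593 → P i := stepQ 17592 Q17592 (allL N17592 (tt N20760 F316181) (tt N20763 F316182) (tt N33969 (iv2 F301364)) (tt N34018 (iv3 F86506)) (tt N19773 (iv4 F302753)) (tt N34051 (iv5 F303873)) (tt N8658 (iv6 D27125)) (tt N10792 (iv7 F303874)))
theorem Q17594 : ∀ i, i < 17594 → P i := stepQ 17593 Q17593 (allL N17593 (tt N25466 F118868) (tt N12640 F118869) (tt N25381 (iv2 F118835)) (tt N8660 F43876) (tt N34757 D56383) (tt N8659 (iv5 D27144)) (tt N17472 (iv6 F296867)) (tt N11976 F43877))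
theorem Q17595 : ∀ i, i < 17595 → P i := stepQ 17594 Q17594 (allL N17594 (tt N34758 D56384) (tt N34759 D56385) (tt N25382 (iv2 F118873)) (tt N8661 F43878) (tt N24313 (iv4 F297929)) (tt N17580 (iv5 F43879)) (tt N8659 (iv6 D27145)) (tt N23999 (iv7 F57137)))
theorem Q17596 : ∀ i, i < 17596 → P i := stepQ 17595 Q17595 (allL N17595 (tt N12517 F43883) (tt N8852 F43884) (tt N11969 F43880) (tt N34760 D56386) (tt N8660 (iv4 D27146)) (tt N10705 F43882) (tt N17473 (iv6 F301085)) (tt N10629 F43881))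
theorem Q17597 : ∀ i, i < 17597 → P i := stepQ 17596 Q17596 (allL N17596 (tt N8661 (iv1 D27147)) (tt N11972 F43885) (tt N11971 (iv2 F51277)) (tt N11947 (iv3 F300629)) (tt N34047 (iv4 F86548)) (tt N11855 (iv5 F43886)) (tt N11946 F299597) (tt N11960 F51283))
theorem Q17598 : ∀ i, i < 17598 → P i := stepQ 17597 Q17597 (allL N17597 (tt N34761 D56402) (tt N34762 D56403) (tt N13987 F298192) (tt N8663 F43895) (tt N24465 (iv4 F298883)) (tt N23655 (iv5 F56321)) (tt N8662 (iv6 D27152)) (tt N34763 D56404))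
theorem Q17599 : ∀ i, i < 17599 → P i := stepQ 17598 Q17598 (allL N17598 (tt N11983 F43899) (tt N8663 (iv0 D27153)) (tt N11981 (iv2 F51267)) (tt N11960 F300117) (tt N10460 (iv4 F43898)) (tt N11676 F43897) (tt N11958 F300118) (tt N11947 F51269))
theorem Q17600 : ∀ i, i < 17600 → P i := stepQ 17599 Q17599 (allL N17599 (tt N11947 (iv1 F43902)) (tt N11981 F43903) (tt N11983 F43900) (tt N34763 (iv3 F89253)) (tt N21875 (iv4 F52086)) (tt N22504 F53255) (tt N11972 F43901) (tt N8663 (iv7 D27154)))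
theorem Q17601 : ∀ i, i < 17601 → P i := stepQ 17600 Q17600 (allL N17600 (tt N24606 F59164) (tt N34764 D56429) (tt N25080 (iv2 F60271)) (tt N8667 (iv3 D27164)) (tt N25377 (iv4 F60857)) (tt N23581 (iv5 F56164)) (tt N34765 D56430) (tt N11928 F43927))
theorem Q17602 : ∀ i, i < 17602 → P i := stepQ 17601 Q17601 (allL N17601 (tt N23521 F116666) (tt N23486 F116667) (tt N11933 F43928) (tt N34765 (iv3 F89302)) (tt N12135 F43929) (tt N23594 (iv5 F299463)) (tt N8667 (iv6 D27165)) (tt N34766 D56434))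
theorem Q17603 : ∀ i, i < 17603 → P i := stepQ 17602 Q17602 (allL N17602 (tt N23505 (iv1 F116609)) (tt N23531 (iv0 F116610)) (tt N11930 F43930) (tt N25073 (iv3 F60267)) (tt N12018 F43931) (tt N23751 F318092) (tt N8668 (iv6 D27166)) (tt N34767 D56438))
theorem Q17604 : ∀ i, i < 17604 → P i := stepQ 17603 Q17603 (allL N17603 (tt N19772 (iv1 F304919)) (tt N19771 (iv0 F304920)) (tt N19773 (iv2 F302752)) (tt N33940 (iv3 F86258)) (tt N33969 F302494) (tt N19773 F302495) (tt N8669 (iv6 D27167)) (tt N9618 (iv7 F304921)))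
theorem Q17605 : ∀ i, i < 17605 → P i := stepQ 17604 Q17604 (allL N17604 (tt N34463 (iv1 F297070)) (tt N23389 (iv0 F297072)) (tt N11621 F44033) (tt N17643 (iv3 F44220)) (tt N17737 (iv4 F297068)) (tt N34768 D56622) (tt N8671 (iv6 D27225)) (tt N34461 (iv7 F297076)))
theorem Q17606 : ∀ i, i < 17606 → P i := stepQ 17605 Q17605 (allL N17605 (tt N12933 F44035) (tt N23512 F56024) (tt N11903 F44034) (tt N17644 (iv3 F44222)) (tt N25324 (iv4 F60706)) (tt N8672 (iv5 D27226)) (tt N34768 (iv6 F89546)) (tt N22913 (iv7 F54641)))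
theorem Q17607 : ∀ i, i < 17607 → P i := stepQ 17606 Q17606 (allL N17606 (tt N34769 D56624) (tt N8755 F297367) (tt N12072 F44036) (tt N12852 F44037) (tt N8674 F44038) (tt N34770 D56626) (tt N8673 (iv6 D27227)) (tt N12402 (iv7 F299533)))
theorem Q17608 : ∀ i, i < 17608 → P i := stepQ 17607 Q17607 (allL N17607 (tt N8747 F297316) (tt N8674 (iv0 D27228)) (tt N8749 F297317) (tt N12004 (iv3 F125976)) (tt N34771 D56630) (tt N34772 D56631) (tt N8741 (iv6 F297721)) (tt N8723 F297318))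
theorem Q17609 : ∀ i, i < 17609 → P i := stepQ 17608 Q17608 (allL N17608 (tt N34773 D56638) (tt N12531 (iv0 F117291)) (tt N12073 F44040) (tt N8812 (iv3 F297550)) (tt N34774 D56640) (tt N8674 (iv5 D27230)) (tt N8675 F44041) (tt N12403 (iv7 F297552)))
theorem Q17610 : ∀ i, i < 17610 → P i := stepQ 17609 Q17609 (allL N17609 (tt N34775 D56642) (tt N31217 F327001) (tt N12076 F44047) (tt N34776 D56644) (tt N8675 (iv4 D27232)) (tt N34777 D56645) (tt N34774 (iv6 F89567)) (tt N22914 (iv7 F54643)))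
theorem Q17611 : ∀ i, i < 17611 → P i := stepQ 17610 Q17610 (allL N17610 (tt N11552 F44050) (tt N11548 F44051) (tt N12104 F44048) (tt N34778 D56646) (tt N8676 (iv4 D27233)) (tt N34779 D56647) (tt N24853 (iv6 F296664)) (tt N12067 F44049))
theorem Q17612 : ∀ i, i < 17612 → P i := stepQ 17611 Q17611 (allL N17611 (tt N28684 F74368) (tt N28636 (iv0 F74315)) (tt N12850 F44055) (tt N8677 (iv3 D27235)) (tt N34778 (iv4 F89584)) (tt N26152 (iv5 F64297)) (tt N34780 D56652) (tt N12070 F44056))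
theorem Q17613 : ∀ i, i < 17613 → P i := stepQ 17612 Q17612 (allL N17612 (tt N34781 D56653) (tt N25468 (iv0 F117198)) (tt N12066 F44057) (tt N34780 (iv3 F89606)) (tt N8678 F44058) (tt N34782 D56655) (tt N8677 (iv6 D27236)) (tt N12501 (iv7 F117183)))
theorem Q17614 : ∀ i, i < 17614 → P i := stepQ 17613 Q17613 (allL N17613 (tt N34783 D56665) (tt N34784 D56666) (tt N33867 (iv2 F85974)) (tt N8679 (iv3 D27240)) (tt N12014 F44066) (tt N14002 F44067) (tt N34785 D56667) (tt N12077 F44068))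
theorem Q17615 : ∀ i, i < 17615 → P i := stepQ 17614 Q17614 (allL N17614 (tt N24125 F57470) (tt N27979 (iv0 F118996)) (tt N8688 F44069) (tt N34785 (iv3 F89626)) (tt N8680 F44070) (tt N34786 D56669) (tt N8679 (iv6 D27241)) (tt N8714 (iv7 F297709)))
theorem Q17616 : ∀ i, i < 17616 → P i := stepQ 17615 Q17615 (allL N17615 (tt N34787 D56678) (tt N34788 D56679) (tt N12089 F44079) (tt N14150 F44080) (tt N8682 F44081) (tt N34789 D56680) (tt N8681 (iv6 D27245)) (tt N34565 F117250))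
theorem Q17617 : ∀ i, i < 17617 → P i := stepQ 17616 Q17616 (allL N17616 (tt N11900 F44091) (tt N11283 F296128) (tt N12095 F296129) (tt N34790 D56692) (tt N8683 (iv4 D27249)) (tt N34791 D56693) (tt N34792 D56694) (tt N12085 F44090))
theorem Q17618 : ∀ i, i < 17618 → P i := stepQ 17617 Q17617 (allL N17617 (tt N11305 (iv1 F296678)) (tt N34793 D56696) (tt N12096 F296141) (tt N8685 F44094) (tt N34792 (iv4 F89664)) (tt N24514 (iv5 F296683)) (tt N8683 (iv6 D27250)) (tt N24630 (iv7 F296686)))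
theorem Q17619 : ∀ i, i < 17619 → P i := stepQ 17618 Q17618 (allL N17618 (tt N25790 (iv1 F62316)) (tt N25789 F62311) (tt N14309 F44095) (tt N8684 (iv3 D27251)) (tt N34790 (iv4 F89654)) (tt N14308 F44096) (tt N34794 D56699) (tt N12087 F44097))
theorem Q17620 : ∀ i, i < 17620 → P i := stepQ 17619 Q17619 (allL N17619 (tt N34523 (iv1 F297168)) (tt N34795 D56701) (tt N12081 F44098) (tt N34794 (iv3 F89676)) (tt N8685 F44099) (tt N34796 D56702) (tt N8684 (iv6 D27252)) (tt N34797 D56703))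
theorem Q17621 : ∀ i, i < 17621 → P i := stepQ 17620 Q17620 (allL N17620 (tt N8685 (iv1 D27254)) (tt N12084 F44100) (tt N11354 F117350) (tt N12029 (iv3 F117312)) (tt N28400 (iv4 F117313)) (tt N34798 D56711) (tt N34535 (iv6 F300697)) (tt N12082 F117351))
theorem Q17622 : ∀ i, i < 17622 → P i := stepQ 17621 Q17621 (allL N17621 (tt N17674 (iv1 F297547)) (tt N17728 (iv0 F297524)) (tt N12083 F44101) (tt N24514 (iv3 F296682)) (tt N34799 D56715) (tt N8685 (iv5 D27255)) (tt N11236 F44102) (tt N17726 (iv7 F297549)))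
theorem Q17623 : ∀ i, i < 17623 → P i := stepQ 17622 Q17622 (allL N17622 (tt N11354 (iv1 F117287)) (tt N12082 F44107) (tt N12084 F44103) (tt N24630 F298207) (tt N34797 (iv4 F89680)) (tt N17726 F298208) (tt N11340 F117242) (tt N8685 (iv7 D27256)))
theorem Q17624 : ∀ i, i < 17624 → P i := stepQ 17623 Q17623 (allL N17623 (tt N34532 (iv1 F298994)) (tt N11342 F91392) (tt N12092 F44108) (tt N28488 (iv3 F74055)) (tt N22909 (iv4 F54633)) (tt N34800 D56719) (tt N8686 (iv6 D27257)) (tt N34566 (iv7 F91442)))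
theorem Q17625 : ∀ i, i < 17625 → P i := stepQ 17624 Q17624 (allL N17624 (tt N34801 D56721) (tt N34802 D56722) (tt N14003 F44109) (tt N25619 (iv3 F61718)) (tt N24376 (iv4 F58396)) (tt N34803 D56723) (tt N8687 (iv6 D27258)) (tt N34804 D56724))
theorem Q17626 : ∀ i, i < 17626 → P i := stepQ 17625 Q17625 (allL N17625 (tt N8714 (iv1 F297708)) (tt N8688 (iv0 D27259)) (tt N24125 (iv2 F91364)) (tt N34805 D56726) (tt N24124 (iv4 F91369)) (tt N34806 D56728) (tt N34807 D56729) (tt N27979 (iv7 F118999)))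
theorem Q17627 : ∀ i, i < 17627 → P i := stepQ 17626 Q17626 (allL N17626 (tt N8688 (iv1 D27260)) (tt N8714 (iv0 F297707)) (tt N27979 (iv2 F118998)) (tt N28415 F306706) (tt N24070 F297182) (tt N34808 D56732) (tt N34809 D56733) (tt N24125 (iv7 F91365)))
theorem Q17628 : ∀ i, i < 17628 → P i := stepQ 17627 Q17627 (allL N17627 (tt N34810 D56734) (tt N34811 D56735) (tt N34786 (iv2 F89629)) (tt N33877 (iv3 F85996)) (tt N34812 D56736) (tt N8688 (iv5 D27261)) (tt N34803 (iv6 F89708)) (tt N34491 (iv7 F302701)))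
theorem Q17629 : ∀ i, i < 17629 → P i := stepQ 17628 Q17628 (allL N17628 (tt N17647 F299001) (tt N13965 F118896) (tt N34492 F299002) (tt N34048 (iv3 F301687)) (tt N8689 (iv4 D27265)) (tt N34813 D56753) (tt N34814 D56754) (tt N12052 F299003))
theorem Q17630 : ∀ i, i < 17630 → P i := stepQ 17629 Q17629 (allL N17629 (tt N34535 (iv1 F300695)) (tt N34480 F299673) (tt N25031 (iv2 F117382)) (tt N8693 (iv3 F301336)) (tt N34814 (iv4 F89746)) (tt N24975 F299674) (tt N8689 (iv6 D27267)) (tt N25028 (iv7 F117426)))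
theorem Q17631 : ∀ i, i < 17631 → P i := stepQ 17630 Q17630 (allL N17630 (tt N13965 F118897) (tt N17647 F298884) (tt N12052 F298885) (tt N34815 D56771) (tt N8690 (iv4 D27270)) (tt N34816 D56772) (tt N34817 D56773) (tt N34492 F298886))
theorem Q17632 : ∀ i, i < 17632 → P i := stepQ 17631 Q17631 (allL N17631 (tt N23409 (iv1 F301411)) (tt N34533 (iv0 F301278)) (tt N12054 (iv2 F301286)) (tt N12134 F298888) (tt N34817 (iv4 F89765)) (tt N17744 (iv5 F300423)) (tt N8690 (iv6 D27272)) (tt N34570 (iv7 F117416)))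
theorem Q17633 : ∀ i, i < 17633 → P i := stepQ 17632 Q17632 (allL N17632 (tt N13984 (iv1 F118890)) (tt N11286 F118882) (tt N12132 F117795) (tt N34045 (iv3 F86537)) (tt N8691 (iv4 D27276)) (tt N34818 D56791) (tt N34819 D56792) (tt N12058 F44120))
theorem Q17634 : ∀ i, i < 17634 → P i := stepQ 17633 Q17633 (allL N17633 (tt N34820 D56793) (tt N34821 D56794) (tt N12134 (iv2 F117771)) (tt N8692 F44121) (tt N34819 (iv4 F89796)) (tt N17892 (iv5 F44784)) (tt N8691 (iv6 D27277)) (tt N24682 (iv7 F117788)))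
theorem Q17635 : ∀ i, i < 17635 → P i := stepQ 17634 Q17634 (allL N17634 (tt N11283 (iv1 F117956)) (tt N11900 F296130) (tt N12085 F296131) (tt N33967 (iv3 F86312)) (tt N8695 (iv4 D27295)) (tt N34822 D56852) (tt N34823 D56853) (tt N12095 F44151))
theorem Q17636 : ∀ i, i < 17636 → P i := stepQ 17635 Q17635 (allL N17635 (tt N11299 (iv1 F296689)) (tt N11304 (iv0 F117908)) (tt N12086 F296143) (tt N8696 F44155) (tt N34823 (iv4 F89880)) (tt N12105 F296144) (tt N8695 (iv6 D27297)) (tt N24855 F117885))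
theorem Q17637 : ∀ i, i < 17637 → P i := stepQ 17636 Q17636 (allL N17636 (tt N34824 D56886) (tt N34825 D56887) (tt N10914 F44180) (tt N8697 (iv3 D27308)) (tt N12097 F44181) (tt N17786 (iv5 F44465)) (tt N34826 D56888) (tt N8726 F44182))
theorem Q17638 : ∀ i, i < 17638 → P i := stepQ 17637 Q17637 (allL N17637 (tt N34827 D56889) (tt N25419 F297327) (tt N8770 F44183) (tt N34826 (iv3 F89928)) (tt N8698 F44184) (tt N34828 D56891) (tt N8697 (iv6 D27309)) (tt N12393 (iv7 F299443)))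
theorem Q17639 : ∀ i, i < 17639 → P i := stepQ 17638 Q17638 (allL N17638 (tt N34829 D56903) (tt N34534 (iv0 F87789)) (tt N8778 F44186) (tt N12101 F44187) (tt N34830 D56904) (tt N8698 (iv5 D27312)) (tt N8699 F44188) (tt N12394 (iv7 F297562)))
theorem Q17640 : ∀ i, i < 17640 → P i := stepQ 17639 Q17639 (allL N17639 (tt N23417 (iv1 F55842)) (tt N23416 F55841) (tt N8785 F44195) (tt N34831 D56906) (tt N8699 (iv4 D27314)) (tt N34832 D56907) (tt N34830 (iv6 F89945)) (tt N23398 (iv7 F55815)))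
theorem Q17641 : ∀ i, i < 17641 → P i := stepQ 17640 Q17640 (allL N17640 (tt N34833 D56915) (tt N34834 D56916) (tt N21933 (iv2 F52202)) (tt N8701 (iv3 D27317)) (tt N8712 F44202) (tt N17099 F44203) (tt N34835 D56917) (tt N12772 F44204))
theorem Q17642 : ∀ i, i < 17642 → P i := stepQ 17641 Q17641 (allL N17641 (tt N12042 (iv1 F296560)) (tt N12041 (iv0 F296562)) (tt N12044 (iv2 F296515)) (tt N34835 (iv3 F89982)) (tt N8702 F44206) (tt N34836 D56920) (tt N8701 (iv6 D27318)) (tt N12015 (iv7 F296892)))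
theorem Q17643 : ∀ i, i < 17643 → P i := stepQ 17642 Q17642 (allL N17642 (tt N8722 F44217) (tt N8720 F44218) (tt N8733 F44215) (tt N34837 D56932) (tt N8703 (iv4 D27322)) (tt N34484 (iv5 F87655)) (tt N12389 (iv6 F298099)) (tt N8734 F44216))
theorem Q17644 : ∀ i, i < 17644 → P i := stepQ 17643 Q17643 (allL N17643 (tt N23633 F125981) (tt N12607 F296615) (tt N17553 F44219) (tt N17604 F44220) (tt N12389 (iv4 F298098)) (tt N34838 D56936) (tt N8703 (iv6 D27323)) (tt N34839 D56937))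
theorem Q17645 : ∀ i, i < 17645 → P i := stepQ 17644 Q17644 (allL N17644 (tt N23392 (iv1 F55794)) (tt N23798 (iv0 F56518)) (tt N11665 F44221) (tt N17605 F44222) (tt N34458 (iv4 F87598)) (tt N8704 (iv5 D27324)) (tt N34838 (iv6 F90006)) (tt N31978 F327205))
theorem Q17646 : ∀ i, i < 17646 → P i := stepQ 17645 Q17645 (allL N17645 (tt N24146 (iv1 F91433)) (tt N34840 D56939) (tt N11605 F44223) (tt N22909 (iv3 F54632)) (tt N34482 (iv4 F87644)) (tt N23554 (iv5 F56132)) (tt N8705 (iv6 D27325)) (tt N34841 D56940))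
theorem Q17647 : ∀ i, i < 17647 → P i := stepQ 17646 Q17646 (allL N17646 (tt N34842 D56941) (tt N34843 D56942) (tt N34844 D56943) (tt N8706 (iv3 D27326)) (tt N24262 (iv4 F58216)) (tt N17782 (iv5 F44461)) (tt N34845 D56944) (tt N17390 F44224))
theorem Q17648 : ∀ i, i < 17648 → P i := stepQ 17647 Q17647 (allL N17647 (tt N17630 (iv1 F298884)) (tt N17628 (iv0 F299001)) (tt N17394 F44225) (tt N34845 (iv3 F90023)) (tt N8707 F44226) (tt N34846 D56947) (tt N8706 (iv6 D27327)) (tt N24333 (iv7 F121348)))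
theorem Q17649 : ∀ i, i < 17649 → P i := stepQ 17648 Q17648 (allL N17648 (tt N13993 (iv1 F299047)) (tt N28421 (iv0 F299048)) (tt N24699 (iv2 F59346)) (tt N8710 (iv3 D27333)) (tt N11606 F44236) (tt N34847 D56965) (tt N34848 D56966) (tt N24088 (iv7 F57380)))
theorem Q17650 : ∀ i, i < 17650 → P i := stepQ 17649 Q17649 (allL N17649 (tt N17671 (iv1 F44302)) (tt N17677 (iv0 F44318)) (tt N17714 F44390) (tt N34847 (iv3 F90046)) (tt N17713 (iv4 F44382)) (tt N8710 (iv5 D27334)) (tt N34849 D56967) (tt N17713 F44385))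
theorem Q17651 : ∀ i, i < 17651 → P i := stepQ 17650 Q17650 (allL N17650 (tt N34479 (iv1 F115447)) (tt N34481 (iv0 F91391)) (tt N34482 (iv2 F87643)) (tt N34848 (iv3 F90048)) (tt N11605 F44237) (tt N25241 (iv5 F299050)) (tt N8710 (iv6 D27335)) (tt N34529 (iv7 F91214)))
theorem Q17652 : ∀ i, i < 17652 → P i := stepQ 17651 Q17651 (allL N17651 (tt N10904 F44239) (tt N28494 (iv0 F299036)) (tt N28200 (iv2 F73271)) (tt N8711 (iv3 D27336)) (tt N12090 F44238) (tt N34850 D56972) (tt N34851 D56973) (tt N28487 (iv7 F74051)))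
theorem Q17653 : ∀ i, i < 17653 → P i := stepQ 17652 Q17652 (allL N17652 (tt N17677 (iv1 F44319)) (tt N17671 (iv0 F44301)) (tt N17713 F44384) (tt N34850 (iv3 F90052)) (tt N17714 (iv4 F44389)) (tt N8711 (iv5 D27337)) (tt N34852 D56974) (tt N17714 (iv7 F44387)))
theorem Q17654 : ∀ i, i < 17654 → P i := stepQ 17653 Q17653 (allL N17653 (tt N23405 (iv1 F115381)) (tt N23407 (iv0 F112810)) (tt N24089 (iv2 F57381)) (tt N34851 (iv3 F90055)) (tt N24087 (iv4 F57378)) (tt N34853 D56977) (tt N8711 (iv6 D27338)) (tt N34854 D56978))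
theorem Q17655 : ∀ i, i < 17655 → P i := stepQ 17654 Q17654 (allL N17654 (tt N34483 (iv1 F87649)) (tt N8712 (iv0 D27339)) (tt N21996 (iv2 F52321)) (tt N34855 D56979) (tt N21942 (iv4 F52230)) (tt N17120 F44240) (tt N21949 (iv6 F307264)) (tt N21962 (iv7 F52283)))
theorem Q17656 : ∀ i, i < 17656 → P i := stepQ 17655 Q17655 (allL N17655 (tt N8712 (iv1 D27340)) (tt N34483 F87650) (tt N21962 (iv2 F52282)) (tt N34856 D56981) (tt N17128 (iv4 F44241)) (tt N21937 (iv5 F52214)) (tt N34857 D56982) (tt N21996 (iv7 F52322)))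
theorem Q17657 : ∀ i, i < 17657 → P i := stepQ 17656 Q17656 (allL N17656 (tt N21996 (iv1 F52324)) (tt N21962 (iv0 F52284)) (tt N8712 (iv2 D27341)) (tt N34488 (iv3 F87700)) (tt N21933 (iv4 F52203)) (tt N21917 F52183) (tt N34858 D56983) (tt N34483 (iv7 F87648)))
theorem Q17658 : ∀ i, i < 17658 → P i := stepQ 17657 Q17657 (allL N17657 (tt N17521 F76679) (tt N23225 (iv0 F55254)) (tt N21917 (iv2 F52181)) (tt N8713 F44242) (tt N17104 F44243) (tt N8712 (iv5 D27342)) (tt N34859 D56984) (tt N21930 (iv7 F52196)))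
theorem Q17659 : ∀ i, i < 17659 → P i := stepQ 17658 Q17658 (allL N17658 (tt N34860 D56985) (tt N34861 D56986) (tt N34858 (iv2 F90064)) (tt N8714 F44244) (tt N34835 (iv4 F89983)) (tt N34862 D56987) (tt N8712 (iv6 D27343)) (tt N34785 F299879))
theorem Q17660 : ∀ i, i < 17660 → P i := stepQ 17659 Q17659 (allL N17659 (tt N8718 (iv1 F44246)) (tt N8713 (iv0 D27344)) (tt N34484 F87658) (tt N34863 D56989) (tt N23556 (iv4 F56139)) (tt N8733 F44245) (tt N34864 D56990) (tt N23556 (iv7 F56138)))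
theorem Q17661 : ∀ i, i < 17661 → P i := stepQ 17660 Q17660 (allL N17660 (tt N8713 (iv1 D27345)) (tt N8718 F44247) (tt N23556 (iv2 F56137)) (tt N34865 D56991) (tt N34484 (iv4 F87656)) (tt N8734 F44248) (tt N34866 D56992) (tt N34484 (iv7 F87654)))
theorem Q17662 : ∀ i, i < 17662 → P i := stepQ 17661 Q17661 (allL N17661 (tt N34867 D56993) (tt N34868 D56994) (tt N34490 (iv2 F87707)) (tt N34859 (iv3 F90065)) (tt N17785 (iv4 F44464)) (tt N34869 D56995) (tt N8713 (iv6 D27346)) (tt N34870 D56996))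
theorem Q17663 : ∀ i, i < 17663 → P i := stepQ 17662 Q17662 (allL N17662 (tt N34811 (iv1 F302129)) (tt N34810 (iv0 F302114)) (tt N34491 (iv2 F87709)) (tt N34862 (iv3 F90067)) (tt N34871 D57009) (tt N8714 (iv5 D27349)) (tt N34869 (iv6 F90075)) (tt N34786 F299880))
theorem Q17664 : ∀ i, i < 17664 → P i := stepQ 17663 Q17663 (allL N17663 (tt N34872 D57078) (tt N34873 D57079) (tt N28591 (iv2 F298110)) (tt N8715 (iv3 D27370)) (tt N22984 F296616) (tt N17784 (iv5 F44463)) (tt N22982 F296617) (tt N17392 F44264))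
theorem Q17665 : ∀ i, i < 17665 → P i := stepQ 17664 Q17664 (allL N17664 (tt N34488 (iv1 F87702)) (tt N8717 (iv0 D27378)) (tt N34487 (iv2 F87697)) (tt N34874 D57103) (tt N34875 D57104) (tt N34876 D57105) (tt N34877 D57106) (tt N34486 F87698))
theorem Q17666 : ∀ i, i < 17666 → P i := stepQ 17665 Q17665 (allL N17665 (tt N8717 (iv1 D27379)) (tt N34488 F87703) (tt N34486 F87696) (tt N10879 (iv3 F51748)) (tt N34014 (iv4 F86497)) (tt N34878 D57107) (tt N34879 D57108) (tt N34487 (iv7 F87695)))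
theorem Q17667 : ∀ i, i < 17667 → P i := stepQ 17666 Q17666 (allL N17666 (tt N34487 (iv1 F87699)) (tt N34486 F87692) (tt N8717 (iv2 D27380)) (tt N34483 (iv3 F87645)) (tt N10651 F301773) (tt N34880 D57109) (tt N10650 F301774) (tt N34488 (iv7 F87701)))
theorem Q17668 : ∀ i, i < 17668 → P i := stepQ 17667 Q17667 (allL N17667 (tt N34881 D57111) (tt N34882 D57112) (tt N34880 (iv2 F90158)) (tt N8718 F44275) (tt N34883 D57113) (tt N8717 (iv5 D27381)) (tt N34884 D57114) (tt N34489 (iv7 F87705)))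
theorem Q17669 : ∀ i, i < 17669 → P i := stepQ 17668 Q17668 (allL N17668 (tt N34885 D57119) (tt N28980 (iv0 F304454)) (tt N34485 (iv2 F87659)) (tt N34884 (iv3 F90163)) (tt N17783 (iv4 F44462)) (tt N12094 F301731) (tt N8718 (iv6 D27383)) (tt N34886 D57122))
theorem Q17670 : ∀ i, i < 17670 → P i := stepQ 17669 Q17669 (allL N17669 (tt N12371 (iv1 F299817)) (tt N8799 (iv0 F299753)) (tt N12369 F298197) (tt N8721 F44297) (tt N23689 (iv4 F300674)) (tt N11541 F298198) (tt N8719 (iv6 D27408)) (tt N8855 (iv7 F299688)))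
theorem Q17671 : ∀ i, i < 17671 → P i := stepQ 17670 Q17670 (allL N17670 (tt N34887 D57213) (tt N34888 D57214) (tt N34889 D57215) (tt N8720 (iv3 D27409)) (tt N23918 (iv4 F56830)) (tt N34890 D57216) (tt N34891 D57217) (tt N8744 F44298))
theorem Q17672 : ∀ i, i < 17672 → P i := stepQ 17671 Q17671 (allL N17671 (tt N17652 F44301) (tt N17649 F44302) (tt N8736 F44299) (tt N34890 (iv3 F90261)) (tt N17684 (iv4 F44339)) (tt N8720 (iv5 D27410)) (tt N34892 D57218) (tt N8745 F44300))
theorem Q17673 : ∀ i, i < 17673 → P i := stepQ 17672 Q17672 (allL N17672 (tt N34893 D57219) (tt N23606 F121093) (tt N8737 F44303) (tt N34891 (iv3 F90263)) (tt N8721 F44304) (tt N33272 F328877) (tt N8720 (iv6 D27411)) (tt N34894 D57222))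
theorem Q17674 : ∀ i, i < 17674 → P i := stepQ 17673 Q17673 (allL N17673 (tt N8721 (iv1 D27413)) (tt N8741 F44306) (tt N8739 (iv2 F91092)) (tt N12152 (iv3 F121067)) (tt N34895 D57229) (tt N34896 D57230) (tt N8793 F299934) (tt N8738 F91084))
theorem Q17675 : ∀ i, i < 17675 → P i := stepQ 17674 Q17674 (allL N17674 (tt N12372 F120664) (tt N17621 F297547) (tt N8740 F44307) (tt N11541 F297548) (tt N34897 D57234) (tt N8721 (iv5 D27414)) (tt N11522 F44308) (tt N23120 (iv7 F299639)))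
theorem Q17676 : ∀ i, i < 17676 → P i := stepQ 17675 Q17675 (allL N17675 (tt N8739 (iv1 F44312)) (tt N8738 F44313) (tt N8741 F44309) (tt N8855 (iv3 F299687)) (tt N34894 (iv4 F90268)) (tt N23120 (iv5 F299638)) (tt N8749 F44310) (tt N8721 (iv7 D27415)))
theorem Q17677 : ∀ i, i < 17677 → P i := stepQ 17676 Q17676 (allL N17676 (tt N23228 F55267) (tt N22432 (iv0 F53017)) (tt N34898 D57236) (tt N8722 (iv3 D27416)) (tt N12617 F44314) (tt N23309 (iv5 F55467)) (tt N34899 D57237) (tt N8735 F44315))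
theorem Q17678 : ∀ i, i < 17678 → P i := stepQ 17677 Q17677 (allL N17677 (tt N17649 F44318) (tt N17652 F44319) (tt N8745 F44316) (tt N23309 (iv3 F55470)) (tt N17681 (iv4 F44333)) (tt N8722 (iv5 D27417)) (tt N34900 D57238) (tt N8736 F44317))
theorem Q17679 : ∀ i, i < 17679 → P i := stepQ 17678 Q17678 (allL N17678 (tt N12386 F297162) (tt N34901 D57240) (tt N8746 F44320) (tt N34899 (iv3 F90297)) (tt N8723 F44321) (tt N34902 D57241) (tt N8722 (iv6 D27418)) (tt N34771 (iv7 F298968)))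
theorem Q17680 : ∀ i, i < 17680 → P i := stepQ 17679 Q17679 (allL N17679 (tt N34903 D57252) (tt N12407 F121169) (tt N8748 F44323) (tt N25510 (iv3 F61364)) (tt N34904 D57254) (tt N8723 (iv5 D27421)) (tt N8780 F44324) (tt N34772 (iv7 F299428)))
theorem Q17681 : ∀ i, i < 17681 → P i := stepQ 17680 Q17680 (allL N17680 (tt N34905 D57256) (tt N34906 D57257) (tt N34907 D57258) (tt N8724 (iv3 D27423)) (tt N25357 (iv4 F60760)) (tt N32616 F83230) (tt N34908 D57259) (tt N8753 F44330))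
theorem Q17682 : ∀ i, i < 17682 → P i := stepQ 17681 Q17681 (allL N17681 (tt N11526 F44334) (tt N17378 F44335) (tt N8751 F44331) (tt N32616 (iv3 F83228)) (tt N17677 F44333) (tt N8724 (iv5 D27424)) (tt N34909 D57260) (tt N8754 F44332))
theorem Q17683 : ∀ i, i < 17683 → P i := stepQ 17682 Q17682 (allL N17682 (tt N12361 (iv1 F121198)) (tt N34895 (iv0 F121195)) (tt N8752 F44336) (tt N34908 (iv3 F90327)) (tt N23391 (iv4 F55791)) (tt N31711 F329229) (tt N8724 (iv6 D27425)) (tt N34910 D57264))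
theorem Q17684 : ∀ i, i < 17684 → P i := stepQ 17683 Q17683 (allL N17683 (tt N34911 D57265) (tt N34912 D57266) (tt N34913 D57267) (tt N8725 (iv3 D27426)) (tt N27280 (iv4 F69994)) (tt N34914 D57268) (tt N34915 D57269) (tt N8750 F44337))
theorem Q17685 : ∀ i, i < 17685 → P i := stepQ 17684 Q17684 (allL N17684 (tt N17378 F44341) (tt N11526 F44342) (tt N8754 F44338) (tt N34914 (iv3 F90343)) (tt N17671 F44339) (tt N8725 (iv5 D27427)) (tt N34916 D57270) (tt N8751 F44340))
theorem Q17686 : ∀ i, i < 17686 → P i := stepQ 17685 Q17685 (allL N17685 (tt N12072 F298740) (tt N12402 F120795) (tt N8755 F44343) (tt N34915 (iv3 F90345)) (tt N23389 (iv4 F55784)) (tt N34917 D57273) (tt N8725 (iv6 D27428)) (tt N34769 F298741))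
theorem Q17687 : ∀ i, i < 17687 → P i := stepQ 17686 Q17686 (allL N17686 (tt N10914 (iv1 F44344)) (tt N8726 (iv0 D27429)) (tt N34825 (iv2 F125376)) (tt N28153 (iv3 F72938)) (tt N34918 D57276) (tt N34919 D57277) (tt N34920 D57278) (tt N34824 (iv7 F125383)))
theorem Q17688 : ∀ i, i < 17688 → P i := stepQ 17687 Q17687 (allL N17687 (tt N8726 (iv1 D27430)) (tt N10914 F44348) (tt N34824 (iv2 F125382)) (tt N34921 D57280) (tt N34922 D57281) (tt N34923 D57282) (tt N34924 D57283) (tt N34825 (iv7 F125377)))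
theorem Q17689 : ∀ i, i < 17689 → P i := stepQ 17688 Q17688 (allL N17688 (tt N34825 (iv1 F89926)) (tt N34824 F89925) (tt N8726 (iv2 D27431)) (tt N8758 F44345) (tt N12167 F44346) (tt N34925 D57284) (tt N34926 D57285) (tt N10914 F44347))
theorem Q17690 : ∀ i, i < 17690 → P i := stepQ 17689 Q17689 (allL N17689 (tt N34927 D57286) (tt N34928 D57287) (tt N34925 (iv2 F90363)) (tt N8727 F44349) (tt N22367 (iv4 F52949)) (tt N8726 (iv5 D27432)) (tt N34929 D57288) (tt N17786 (iv7 F44466)))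
theorem Q17691 : ∀ i, i < 17691 → P i := stepQ 17690 Q17690 (allL N17690 (tt N34930 D57289) (tt N34931 D57290) (tt N34926 (iv2 F90366)) (tt N8728 F44350) (tt N12169 F44351) (tt N34932 D57291) (tt N8726 (iv6 D27433)) (tt N34933 D57292))
theorem Q17692 : ∀ i, i < 17692 → P i := stepQ 17691 Q17691 (allL N17691 (tt N34934 D57293) (tt N31590 (iv0 F342785)) (tt N8764 F44352) (tt N34929 (iv3 F90371)) (tt N17792 (iv4 F44471)) (tt N34935 D57295) (tt N8727 (iv6 D27434)) (tt N34936 D57296))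
theorem Q17693 : ∀ i, i < 17693 → P i := stepQ 17692 Q17692 (allL N17692 (tt N8769 (iv1 F44357)) (tt N8728 (iv0 D27435)) (tt N8766 F90419) (tt N34937 D57298) (tt N25364 (iv4 F60787)) (tt N34938 D57299) (tt N34781 (iv6 F298945)) (tt N8767 (iv7 F90422)))
theorem Q17694 : ∀ i, i < 17694 → P i := stepQ 17693 Q17693 (allL N17693 (tt N8728 (iv1 D27436)) (tt N8769 F44353) (tt N8767 (iv2 F90421)) (tt N34113 F313355) (tt N27347 (iv4 F70115)) (tt N34939 D57303) (tt N34940 D57304) (tt N8766 F90420))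
theorem Q17695 : ∀ i, i < 17695 → P i := stepQ 17694 Q17694 (allL N17694 (tt N34941 D57305) (tt N34942 D57306) (tt N8768 F44354) (tt N34932 (iv3 F90372)) (tt N34943 D57307) (tt N8728 (iv5 D27437)) (tt N34935 (iv6 F90377)) (tt N34944 D57308))
theorem Q17696 : ∀ i, i < 17696 → P i := stepQ 17695 Q17695 (allL N17695 (tt N8767 (iv1 F44358)) (tt N8766 F44359) (tt N8769 F44355) (tt N34933 (iv3 F90373)) (tt N8730 F44356) (tt N34944 (iv5 F90388)) (tt N12393 F300011) (tt N8728 (iv7 D27438)))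
theorem Q17697 : ∀ i, i < 17697 → P i := stepQ 17696 Q17696 (allL N17696 (tt N23557 (iv1 F91190)) (tt N25247 F299871) (tt N8774 F44531) (tt N34945 D57320) (tt N8729 (iv4 D27445)) (tt N34946 D57321) (tt N34947 D57322) (tt N8772 F44532))
theorem Q17698 : ∀ i, i < 17698 → P i := stepQ 17697 Q17697 (allL N17697 (tt N12509 F299872) (tt N12363 F121091) (tt N8775 F44528) (tt N24323 F299873) (tt N34947 (iv4 F90499)) (tt N12503 F299874) (tt N8729 (iv6 D27446)) (tt N12503 F299875))
theorem Q17699 : ∀ i, i < 17699 → P i := stepQ 17698 Q17698 (allL N17698 (tt N34948 D57323) (tt N34949 D57324) (tt N23315 (iv2 F55551)) (tt N8731 (iv3 D27447)) (tt N8735 F44363) (tt N10763 F44364) (tt N34950 D57325) (tt N12617 F44365))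
theorem Q17700 : ∀ i, i < 17700 → P i := stepQ 17699 Q17699 (allL N17699 (tt N17484 (iv1 F121185)) (tt N23673 (iv0 F121186)) (tt N12616 F44366) (tt N34950 (iv3 F90511)) (tt N8732 F44367) (tt N34951 D57328) (tt N8731 (iv6 D27448)) (tt N23676 F121051))
theorem Q17701 : ∀ i, i < 17701 → P i := stepQ 17700 Q17700 (allL N17700 (tt N12523 (iv1 F297692)) (tt N8732 (iv0 D27449)) (tt N24325 (iv2 F297688)) (tt N12335 (iv3 F121173)) (tt N25408 (iv4 F121174)) (tt N34952 D57333) (tt N24258 (iv6 F297726)) (tt N12354 (iv7 F121178)))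
theorem Q17702 : ∀ i, i < 17702 → P i := stepQ 17701 Q17701 (allL N17701 (tt N8732 (iv1 D27450)) (tt N12523 (iv0 F297691)) (tt N12354 (iv2 F121177)) (tt N31149 F325291) (tt N25409 (iv4 F121184)) (tt N31301 F325292) (tt N12336 F296463) (tt N24325 (iv7 F297689)))
theorem Q17703 : ∀ i, i < 17703 → P i := stepQ 17702 Q17702 (allL N17702 (tt N24286 (iv1 F296376)) (tt N13840 (iv0 F296367)) (tt N23117 (iv2 F296305)) (tt N8740 F44368) (tt N34953 D57341) (tt N8732 (iv5 D27451)) (tt N13133 F44369) (tt N18206 F326198))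
theorem Q17704 : ∀ i, i < 17704 → P i := stepQ 17703 Q17703 (allL N17703 (tt N12354 (iv1 F121059)) (tt N24325 (iv0 F297686)) (tt N12523 (iv2 F297693)) (tt N8741 F44370) (tt N23676 F121053) (tt N18206 F326197) (tt N12004 F296465) (tt N8732 (iv7 D27452)))
theorem Q17705 : ∀ i, i < 17705 → P i := stepQ 17704 Q17704 (allL N17704 (tt N34954 D57343) (tt N34955 D57344) (tt N34956 D57345) (tt N8733 (iv3 D27453)) (tt N17554 F44371) (tt N34863 (iv5 F90069)) (tt N34957 D57346) (tt N23555 (iv7 F56134)))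
theorem Q17706 : ∀ i, i < 17706 → P i := stepQ 17705 Q17705 (allL N17705 (tt N12392 (iv1 F299025)) (tt N12382 (iv0 F297777)) (tt N12389 (iv2 F298097)) (tt N34957 (iv3 F90532)) (tt N17553 F44372) (tt N34958 D57349) (tt N8733 (iv6 D27454)) (tt N12390 (iv7 F299026)))
theorem Q17707 : ∀ i, i < 17707 → P i := stepQ 17706 Q17706 (allL N17706 (tt N10935 F44374) (tt N34959 D57351) (tt N14052 (iv2 F44375)) (tt N8734 (iv3 D27455)) (tt N12384 F44373) (tt N34865 (iv5 F90071)) (tt N34960 D57352) (tt N34837 (iv7 F89997)))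
theorem Q17708 : ∀ i, i < 17708 → P i := stepQ 17707 Q17707 (allL N17707 (tt N8772 (iv1 F91146)) (tt N8774 (iv0 F91147)) (tt N23557 (iv2 F56142)) (tt N34960 (iv3 F90540)) (tt N23554 (iv4 F56131)) (tt N34961 D57355) (tt N8734 (iv6 D27456)) (tt N25247 (iv7 F299017)))
theorem Q17709 : ∀ i, i < 17709 → P i := stepQ 17708 Q17708 (allL N17708 (tt N34898 (iv1 F90295)) (tt N8735 (iv0 D27457)) (tt N22432 (iv2 F53015)) (tt N34962 D57357) (tt N22423 (iv4 F52997)) (tt N17521 F44376) (tt N34963 D57358) (tt N23228 (iv7 F55266)))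
theorem Q17710 : ∀ i, i < 17710 → P i := stepQ 17709 Q17709 (allL N17709 (tt N8735 (iv1 D27458)) (tt N34898 F90296) (tt N23228 (iv2 F55264)) (tt N34964 D57359) (tt N17283 (iv4 F44377)) (tt N23225 (iv5 F55253)) (tt N34965 D57360) (tt N22432 (iv7 F53016)))
theorem Q17711 : ∀ i, i < 17711 → P i := stepQ 17710 Q17710 (allL N17710 (tt N22432 (iv1 F55269)) (tt N23228 F55268) (tt N8735 (iv2 D27459)) (tt N34889 (iv3 F90257)) (tt N23315 (iv4 F55552)) (tt N23291 (iv5 F55420)) (tt N34966 D57361) (tt N34898 (iv7 F90294)))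
theorem Q17712 : ∀ i, i < 17712 → P i := stepQ 17711 Q17711 (allL N17711 (tt N10757 F46134) (tt N33986 (iv0 F86417)) (tt N23291 (iv2 F55418)) (tt N8736 F44378) (tt N17536 F44379) (tt N8735 (iv5 D27460)) (tt N34967 D57362) (tt N23309 (iv7 F55466)))
theorem Q17713 : ∀ i, i < 17713 → P i := stepQ 17712 Q17712 (allL N17712 (tt N34968 D57363) (tt N34969 D57364) (tt N34966 (iv2 F90551)) (tt N8737 F44380) (tt N34950 (iv4 F90512)) (tt N34970 D57365) (tt N8735 (iv6 D27461)) (tt N34971 D57366))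
theorem Q17714 : ∀ i, i < 17714 → P i := stepQ 17713 Q17713 (allL N17713 (tt N8745 (iv1 F44383)) (tt N8736 (iv0 D27462)) (tt N17652 (iv2 F44384)) (tt N34972 D57367) (tt N17649 F44382) (tt N11919 F44381) (tt N34973 D57368) (tt N17649 (iv7 F44385)))
theorem Q17715 : ∀ i, i < 17715 → P i := stepQ 17714 Q17714 (allL N17714 (tt N8736 (iv1 D27463)) (tt N8745 F44386) (tt N17649 (iv2 F44390)) (tt N23341 (iv3 F55649)) (tt N17652 F44389) (tt N17383 F44388) (tt N34974 D57369) (tt N17652 F44387))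
theorem Q17716 : ∀ i, i < 17716 → P i := stepQ 17715 Q17715 (allL N17715 (tt N31573 (iv1 F329212)) (tt N20237 (iv0 F329213)) (tt N34892 (iv2 F90264)) (tt N34967 (iv3 F90552)) (tt N17762 (iv4 F44423)) (tt N22676 F328885) (tt N8736 (iv6 D27464)) (tt N34975 D57373))
theorem Q17717 : ∀ i, i < 17717 → P i := stepQ 17716 Q17716 (allL N17716 (tt N34894 (iv1 F90272)) (tt N8737 (iv0 D27465)) (tt N34893 (iv2 F121518)) (tt N34976 D57375) (tt N23541 (iv4 F121187)) (tt N34977 D57377) (tt N34978 D57378) (tt N23606 (iv7 F121189)))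
theorem Q17718 : ∀ i, i < 17718 → P i := stepQ 17717 Q17717 (allL N17717 (tt N8737 (iv1 D27466)) (tt N34894 F90271) (tt N23606 (iv2 F121188)) (tt N34979 D57380) (tt N23605 (iv4 F121190)) (tt N34980 D57382) (tt N34981 D57383) (tt N34893 (iv7 F121519)))
theorem Q17719 : ∀ i, i < 17719 → P i := stepQ 17718 Q17718 (allL N17718 (tt N31675 (iv1 F328489)) (tt N24396 F299224) (tt N33272 (iv2 F328492)) (tt N34970 (iv3 F90554)) (tt N31419 (iv4 F328493)) (tt N8737 (iv5 D27467)) (tt N22676 (iv6 F328494)) (tt N33271 (iv7 F328496)))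
theorem Q17720 : ∀ i, i < 17720 → P i := stepQ 17719 Q17719 (allL N17719 (tt N23606 (iv1 F121074)) (tt N34893 F90270) (tt N34894 (iv2 F90267)) (tt N34971 (iv3 F90555)) (tt N8741 F44391) (tt N33271 F328884) (tt N34771 F299935) (tt N8737 (iv7 D27468)))
theorem Q17721 : ∀ i, i < 17721 → P i := stepQ 17720 Q17720 (allL N17720 (tt N34910 F121191) (tt N8752 F121192) (tt N12361 F121079) (tt N34982 D57403) (tt N8738 (iv4 D27471)) (tt N34983 D57404) (tt N34984 D57405) (tt N34895 (iv7 F91096)))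
theorem Q17722 : ∀ i, i < 17722 → P i := stepQ 17721 Q17721 (allL N17721 (tt N23421 (iv1 F300693)) (tt N34798 F299936) (tt N12362 F121085) (tt N12206 (iv3 F121108)) (tt N34985 D57408) (tt N8738 (iv5 D27472)) (tt N12396 F299937) (tt N34896 (iv7 F91098)))
theorem Q17723 : ∀ i, i < 17723 → P i := stepQ 17722 Q17722 (allL N17722 (tt N8775 F44549) (tt N12503 F299522) (tt N12363 F121086) (tt N12207 (iv3 F121109)) (tt N34984 (iv4 F90582)) (tt N17389 F44393) (tt N8738 (iv6 D27473)) (tt N12509 F299523))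
theorem Q17724 : ∀ i, i < 17724 → P i := stepQ 17723 Q17723 (allL N17723 (tt N8752 F121193) (tt N34910 F121194) (tt N34895 (iv2 F91095)) (tt N28730 F310316) (tt N8739 (iv4 D27476)) (tt N34986 D57420) (tt N28727 F310317) (tt N12361 F121076))
theorem Q17725 : ∀ i, i < 17725 → P i := stepQ 17724 Q17724 (allL N17724 (tt N34798 F299938) (tt N23421 (iv0 F300692)) (tt N34896 (iv2 F91097)) (tt N8798 (iv3 F121097)) (tt N34987 D57422) (tt N8739 (iv5 D27477)) (tt N34988 D57423) (tt N12362 F121077))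
theorem Q17726 : ∀ i, i < 17726 → P i := stepQ 17725 Q17725 (allL N17725 (tt N8787 F297563) (tt N8795 (iv0 F298943)) (tt N8793 (iv2 F298942)) (tt N8799 (iv3 F121098)) (tt N28727 F310311) (tt N34989 D57426) (tt N8739 (iv6 D27478)) (tt N8792 (iv7 F298940)))
theorem Q17727 : ∀ i, i < 17727 → P i := stepQ 17726 Q17726 (allL N17726 (tt N23120 (iv1 F299636)) (tt N8740 (iv0 D27479)) (tt N12372 F120627) (tt N12210 (iv3 F120682)) (tt N34990 D57430) (tt N17622 (iv5 F298208)) (tt N17742 F44412) (tt N17621 F297549))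
theorem Q17728 : ∀ i, i < 17728 → P i := stepQ 17727 Q17727 (allL N17727 (tt N34991 D57436) (tt N34992 D57437) (tt N34897 (iv2 F90283)) (tt N34993 D57438) (tt N8740 (iv4 D27481)) (tt N34994 D57439) (tt N17373 F44396) (tt N34995 D57440))
theorem Q17729 : ∀ i, i < 17729 → P i := stepQ 17728 Q17728 (allL N17728 (tt N17621 F297524) (tt N12372 F120663) (tt N23120 (iv2 F299637)) (tt N18206 (iv3 F325281)) (tt N34995 (iv4 F90622)) (tt N8741 F44397) (tt N18203 F324518) (tt N8740 (iv7 D27482)))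
theorem Q17730 : ∀ i, i < 17730 → P i := stepQ 17729 Q17729 (allL N17729 (tt N34996 D57446) (tt N34997 D57447) (tt N34998 D57448) (tt N8743 (iv3 D27484)) (tt N8744 F44400) (tt N34999 D57449) (tt N9167 (iv6 F301128)) (tt N23918 (iv7 F56831)))
theorem Q17731 : ∀ i, i < 17731 → P i := stepQ 17730 Q17730 (allL N17730 (tt N11993 F44401) (tt N11988 F44402) (tt N21815 F298474) (tt N34999 (iv3 F90635)) (tt N24078 (iv4 F57352)) (tt N8743 (iv5 D27485)) (tt N35000 D57451) (tt N21816 (iv7 F298517)))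
theorem Q17732 : ∀ i, i < 17732 → P i := stepQ 17731 Q17731 (allL N17731 (tt N34889 (iv1 F90259)) (tt N8744 (iv0 D27491)) (tt N34888 (iv2 F90254)) (tt N35001 D57470) (tt N35002 D57471) (tt N34881 (iv5 F110125)) (tt N35003 D57473) (tt N34887 F90255))
theorem Q17733 : ∀ i, i < 17733 → P i := stepQ 17732 Q17732 (allL N17732 (tt N8744 (iv1 D27492)) (tt N34889 F90260) (tt N34887 F90253) (tt N10924 (iv3 F52659)) (tt N34306 (iv4 F87169)) (tt N34882 (iv5 F107827)) (tt N35004 D57475) (tt N34888 (iv7 F90252)))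
theorem Q17734 : ∀ i, i < 17734 → P i := stepQ 17733 Q17733 (allL N17733 (tt N34888 (iv1 F90256)) (tt N34887 F90249) (tt N8744 (iv2 D27493)) (tt N34898 (iv3 F90291)) (tt N34998 (iv4 F90634)) (tt N35005 D57476) (tt N35006 D57477) (tt N34889 (iv7 F90258)))
theorem Q17735 : ∀ i, i < 17735 → P i := stepQ 17734 Q17734 (allL N17734 (tt N35007 D57478) (tt N33716 F310226) (tt N35005 (iv2 F90649)) (tt N8745 F44407) (tt N35008 D57480) (tt N8744 (iv5 D27494)) (tt N35009 D57481) (tt N34890 (iv7 F90262)))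
theorem Q17736 : ∀ i, i < 17736 → P i := stepQ 17735 Q17735 (allL N17735 (tt N33845 (iv1 F304381)) (tt N35010 D57483) (tt N35006 (iv2 F90651)) (tt N8746 F44408) (tt N9167 F301625) (tt N35011 D57484) (tt N8744 (iv6 D27495)) (tt N29813 F301626))
theorem Q17737 : ∀ i, i < 17737 → P i := stepQ 17736 Q17736 (allL N17736 (tt N19591 (iv1 F328338)) (tt N19594 (iv0 F328339)) (tt N34900 (iv2 F90299)) (tt N35009 (iv3 F90654)) (tt N17753 (iv4 F44419)) (tt N19353 F327940) (tt N8745 (iv6 D27496)) (tt N35012 D57489))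
theorem Q17738 : ∀ i, i < 17738 → P i := stepQ 17737 Q17737 (allL N17737 (tt N34771 (iv1 F298966)) (tt N8746 (iv0 D27497)) (tt N12386 F297067) (tt N35013 D57491) (tt N17604 F297068) (tt N35014 D57493) (tt N8788 F297069) (tt N34901 (iv7 F120850)))
theorem Q17739 : ∀ i, i < 17739 → P i := stepQ 17738 Q17738 (allL N17738 (tt N8746 (iv1 D27498)) (tt N34771 (iv0 F298965)) (tt N34901 (iv2 F120848)) (tt N14016 (iv3 F299216)) (tt N17564 (iv4 F120718)) (tt N35015 D57498) (tt N12504 (iv6 F298956)) (tt N12386 F297163))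
theorem Q17740 : ∀ i, i < 17740 → P i := stepQ 17739 Q17739 (allL N17739 (tt N35016 D57500) (tt N35017 D57501) (tt N34902 (iv2 F90301)) (tt N35011 (iv3 F90655)) (tt N19354 (iv4 F328337)) (tt N8746 (iv5 D27499)) (tt N19353 F327941) (tt N35018 D57503))
theorem Q17741 : ∀ i, i < 17741 → P i := stepQ 17740 Q17740 (allL N17740 (tt N34901 (iv1 F90300)) (tt N12386 F297161) (tt N34771 (iv2 F298967)) (tt N29813 (iv3 F299215)) (tt N8749 F44409) (tt N35018 (iv5 F90661)) (tt N34894 (iv6 F90269)) (tt N8746 (iv7 D27500)))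
theorem Q17742 : ∀ i, i < 17742 → P i := stepQ 17741 Q17741 (allL N17741 (tt N8755 F120819) (tt N34769 F298742) (tt N12402 F120579) (tt N35019 D57537) (tt N8747 (iv4 D27508)) (tt N35020 D57538) (tt N12501 (iv6 F298947)) (tt N12072 F298743))
theorem Q17743 : ∀ i, i < 17743 → P i := stepQ 17742 Q17742 (allL N17742 (tt N12531 F298747) (tt N34773 F298748) (tt N12403 F120609) (tt N12235 (iv3 F120625)) (tt N35021 D57540) (tt N8747 (iv5 D27509)) (tt N17726 (iv6 F44412)) (tt N12073 F298749))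
theorem Q17744 : ∀ i, i < 17744 → P i := stepQ 17743 Q17743 (allL N17743 (tt N34772 (iv1 F299425)) (tt N8748 (iv0 D27511)) (tt N34903 (iv2 F91108)) (tt N8815 (iv3 F121125)) (tt N35022 D57545) (tt N24338 (iv5 F121130)) (tt N35023 D57547) (tt N12407 (iv7 F121122)))
theorem Q17745 : ∀ i, i < 17745 → P i := stepQ 17744 Q17744 (allL N17744 (tt N8748 (iv1 D27512)) (tt N34772 F300422) (tt N12407 (iv2 F121121)) (tt N12238 (iv3 F121123)) (tt N35024 D57550) (tt N17631 F300423) (tt N35025 D57551) (tt N34903 (iv7 F91110)))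
theorem Q17746 : ∀ i, i < 17746 → P i := stepQ 17745 Q17745 (allL N17745 (tt N35026 D57552) (tt N35027 D57553) (tt N34904 (iv2 F90313)) (tt N35028 D57554) (tt N8748 (iv4 D27513)) (tt N35029 D57555) (tt N17376 F44414) (tt N35030 D57556))
theorem Q17747 : ∀ i, i < 17747 → P i := stepQ 17746 Q17746 (allL N17746 (tt N12407 F121132) (tt N34903 F90317) (tt N34772 (iv2 F299426)) (tt N8854 (iv3 F299792)) (tt N35030 (iv4 F90704)) (tt N8749 F44415) (tt N35031 D57557) (tt N8748 (iv7 D27514)))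
theorem Q17748 : ∀ i, i < 17748 → P i := stepQ 17747 Q17747 (allL N17747 (tt N34913 (iv1 F90340)) (tt N8750 (iv0 D27515)) (tt N34912 (iv2 F90714)) (tt N35032 D57559) (tt N35033 D57560) (tt N35034 D57561) (tt N35035 D57562) (tt N34911 F90712))
theorem Q17749 : ∀ i, i < 17749 → P i := stepQ 17748 Q17748 (allL N17748 (tt N8750 (iv1 D27516)) (tt N34913 F90342) (tt N34911 (iv2 F90713)) (tt N35036 D57563) (tt N35037 D57564) (tt N35038 D57565) (tt N35039 D57566) (tt N34912 (iv7 F90715)))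
theorem Q17750 : ∀ i, i < 17750 → P i := stepQ 17749 Q17749 (allL N17749 (tt N34912 (iv1 F90341)) (tt N34911 F90337) (tt N8750 (iv2 D27517)) (tt N34907 (iv3 F90321)) (tt N35040 D57567) (tt N35041 D57568) (tt N35042 D57569) (tt N34913 (iv7 F90339)))
theorem Q17751 : ∀ i, i < 17751 → P i := stepQ 17750 Q17750 (allL N17750 (tt N23893 F56698) (tt N35043 D57570) (tt N35040 (iv2 F90721)) (tt N12000 F44416) (tt N8750 (iv4 D27518)) (tt N35044 D57571) (tt N35045 D57572) (tt N27280 (iv7 F69995)))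
theorem Q17752 : ∀ i, i < 17752 → P i := stepQ 17751 Q17751 (allL N17751 (tt N35046 D57573) (tt N21417 F311633) (tt N35041 (iv2 F90723)) (tt N8751 F44417) (tt N35047 D57575) (tt N8750 (iv5 D27519)) (tt N35048 D57576) (tt N34914 (iv7 F90344)))
theorem Q17753 : ∀ i, i < 17753 → P i := stepQ 17752 Q17752 (allL N17752 (tt N35049 D57577) (tt N35050 D57578) (tt N35042 (iv2 F90725)) (tt N8752 F44418) (tt N35045 (iv4 F90731)) (tt N35051 D57579) (tt N8750 (iv6 D27520)) (tt N35052 D57580))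
theorem Q17754 : ∀ i, i < 17754 → P i := stepQ 17753 Q17753 (allL N17753 (tt N31552 (iv1 F328727)) (tt N31549 (iv0 F328728)) (tt N34909 (iv2 F90328)) (tt N35048 (iv3 F90735)) (tt N17736 F44419) (tt N20202 (iv5 F328729)) (tt N8751 (iv6 D27521)) (tt N35053 D57584))
theorem Q17755 : ∀ i, i < 17755 → P i := stepQ 17754 Q17754 (allL N17754 (tt N31418 (iv1 F329210)) (tt N24380 F301082) (tt N31711 F329115) (tt N35051 (iv3 F90736)) (tt N16691 F329116) (tt N8752 (iv5 D27524)) (tt N20202 F329117) (tt N35054 D57598))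
theorem Q17756 : ∀ i, i < 17756 → P i := stepQ 17755 Q17755 (allL N17755 (tt N34895 (iv1 F121196)) (tt N12361 (iv0 F121197)) (tt N34910 (iv2 F90332)) (tt N35052 (iv3 F90737)) (tt N31971 F326642) (tt N35054 (iv5 F90742)) (tt N34769 F299220) (tt N8752 (iv7 D27525)))
theorem Q17757 : ∀ i, i < 17757 → P i := stepQ 17756 Q17756 (allL N17756 (tt N34907 (iv1 F90324)) (tt N8753 (iv0 D27526)) (tt N34906 (iv2 F109318)) (tt N35055 D57600) (tt N35056 D57601) (tt N35057 D57602) (tt N35058 D57603) (tt N34905 (iv7 F109317)))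
theorem Q17758 : ∀ i, i < 17758 → P i := stepQ 17757 Q17757 (allL N17757 (tt N8753 (iv1 D27527)) (tt N34907 F90326) (tt N34905 (iv2 F109315)) (tt N28852 F309542) (tt N35059 D57606) (tt N35060 D57607) (tt N28849 (iv6 F311722)) (tt N34906 (iv7 F109321)))
theorem Q17759 : ∀ i, i < 17759 → P i := stepQ 17758 Q17758 (allL N17758 (tt N34906 (iv1 F90325)) (tt N34905 F90320) (tt N8753 (iv2 D27528)) (tt N34913 (iv3 F90338)) (tt N35061 D57609) (tt N32619 F83235) (tt N28766 F304603) (tt N34907 (iv7 F90323)))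
theorem Q17760 : ∀ i, i < 17760 → P i := stepQ 17759 Q17759 (allL N17759 (tt N35062 D57611) (tt N35063 D57612) (tt N35061 (iv2 F90750)) (tt N11548 F44420) (tt N8753 (iv4 D27529)) (tt N32755 (iv5 F83480)) (tt N35064 D57613) (tt N25357 (iv7 F60761)))
theorem Q17761 : ∀ i, i < 17761 → P i := stepQ 17760 Q17760 (allL N17760 (tt N35065 D57614) (tt N35066 D57615) (tt N32619 (iv2 F83234)) (tt N8754 F44421) (tt N16414 (iv4 F46135)) (tt N8753 (iv5 D27530)) (tt N35067 D57616) (tt N32616 (iv7 F83229)))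
theorem Q17762 : ∀ i, i < 17762 → P i := stepQ 17761 Q17761 (allL N17761 (tt N28760 (iv1 F301992)) (tt N28768 (iv0 F301993)) (tt N28766 (iv2 F301994)) (tt N8755 F44422) (tt N35064 (iv4 F90760)) (tt N35068 D57619) (tt N8753 (iv6 D27531)) (tt N28765 (iv7 F301404)))
theorem Q17763 : ∀ i, i < 17763 → P i := stepQ 17762 Q17762 (allL N17762 (tt N19577 (iv1 F329503)) (tt N19585 (iv0 F329504)) (tt N34916 (iv2 F90346)) (tt N35067 (iv3 F90766)) (tt N17715 F44423) (tt N35069 D57623) (tt N8754 (iv6 D27532)) (tt N35070 D57624))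
theorem Q17764 : ∀ i, i < 17764 → P i := stepQ 17763 Q17763 (allL N17763 (tt N35071 D57635) (tt N35072 D57636) (tt N34917 (iv2 F90349)) (tt N35068 (iv3 F90768)) (tt N35073 D57637) (tt N8755 (iv5 D27535)) (tt N35069 (iv6 F90770)) (tt N35074 D57638))
theorem Q17765 : ∀ i, i < 17765 → P i := stepQ 17764 Q17764 (allL N17764 (tt N12402 (iv1 F120792)) (tt N12072 F298738) (tt N34769 F298739) (tt N28765 (iv3 F301403)) (tt N34463 (iv4 F87607)) (tt N35074 (iv5 F90774)) (tt N34910 (iv6 F90333)) (tt N8755 (iv7 D27536)))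
theorem Q17766 : ∀ i, i < 17766 → P i := stepQ 17765 Q17765 (allL N17765 (tt N28852 (iv1 F307500)) (tt N35075 D57639) (tt N35076 D57640) (tt N8756 (iv3 D27537)) (tt N24691 (iv4 F59327)) (tt N35077 D57641) (tt N28831 (iv6 F308330)) (tt N10942 F44424))
theorem Q17767 : ∀ i, i < 17767 → P i := stepQ 17766 Q17766 (allL N17766 (tt N22184 (iv1 F52657)) (tt N10620 F44428) (tt N10947 F44425) (tt N29790 (iv3 F77318)) (tt N8756 (iv4 D27538)) (tt N10496 F44427) (tt N35078 D57643) (tt N10943 F44426))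
theorem Q17768 : ∀ i, i < 17768 → P i := stepQ 17767 Q17767 (allL N17767 (tt N22201 (iv1 F52714)) (tt N17397 F44431) (tt N10948 F44429) (tt N35077 (iv3 F90783)) (tt N35079 D57644) (tt N8756 (iv5 D27539)) (tt N35080 D57645) (tt N10944 F44430))
theorem Q17769 : ∀ i, i < 17769 → P i := stepQ 17768 Q17768 (allL N17768 (tt N35081 D57646) (tt N28730 (iv0 F308267)) (tt N10949 F44432) (tt N28831 (iv3 F308328)) (tt N35078 (iv4 F90787)) (tt N35082 D57648) (tt N8756 (iv6 D27540)) (tt N35083 D57649))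
theorem Q17770 : ∀ i, i < 17770 → P i := stepQ 17769 Q17769 (allL N17769 (tt N35084 D57650) (tt N35032 F90711) (tt N35085 D57651) (tt N8757 (iv3 D27541)) (tt N21992 (iv4 F52315)) (tt N21957 F52280) (tt N35086 D57652) (tt N10946 F44433))
theorem Q17771 : ∀ i, i < 17771 → P i := stepQ 17770 Q17770 (allL N17770 (tt N17397 F44436) (tt N22201 (iv0 F52713)) (tt N10944 F44434) (tt N21957 (iv3 F52279)) (tt N35087 D57653) (tt N8757 (iv5 D27542)) (tt N35088 D57654) (tt N10948 F44435))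
theorem Q17772 : ∀ i, i < 17772 → P i := stepQ 17771 Q17771 (allL N17771 (tt N12852 F302513) (tt N28713 (iv0 F304954)) (tt N10945 F44437) (tt N35086 (iv3 F90816)) (tt N29785 (iv4 F77298)) (tt N35089 D57657) (tt N8757 (iv6 D27543)) (tt N28711 (iv7 F304951)))
theorem Q17773 : ∀ i, i < 17773 → P i := stepQ 17772 Q17772 (allL N17772 (tt N10951 (iv1 F44442)) (tt N10950 F44441) (tt N8759 F44438) (tt N34925 (iv3 F90364)) (tt N9155 F44440) (tt N8758 (iv5 D27544)) (tt N35090 D57659) (tt N10915 F44439))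
theorem Q17774 : ∀ i, i < 17774 → P i := stepQ 17773 Q17773 (allL N17773 (tt N35091 D57660) (tt N35092 D57661) (tt N8760 F44443) (tt N34926 (iv3 F90367)) (tt N8825 F44444) (tt N35093 D57662) (tt N8758 (iv6 D27545)) (tt N35094 D57663))
theorem Q17775 : ∀ i, i < 17775 → P i := stepQ 17774 Q17774 (allL N17774 (tt N10915 (iv1 F44445)) (tt N8759 (iv0 D27546)) (tt N10951 (iv2 F44447)) (tt N26184 F303360) (tt N35095 D57665) (tt N11196 F44446) (tt N35096 D57666) (tt N10950 (iv7 F44448)))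
theorem Q17776 : ∀ i, i < 17776 → P i := stepQ 17775 Q17775 (allL N17775 (tt N8759 (iv1 D27547)) (tt N10915 F44449) (tt N10950 (iv2 F44452)) (tt N33999 (iv3 F86478)) (tt N35097 D57667) (tt N11197 F44451) (tt N26157 (iv6 F305547)) (tt N10951 F44450))
theorem Q17777 : ∀ i, i < 17777 → P i := stepQ 17776 Q17776 (allL N17776 (tt N22173 (iv1 F52629)) (tt N35098 D57669) (tt N9155 F44453) (tt N35099 D57670) (tt N8759 (iv4 D27548)) (tt N9145 F44455) (tt N35100 D57671) (tt N10952 F44454))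
theorem Q17778 : ∀ i, i < 17778 → P i := stepQ 17777 Q17777 (allL N17777 (tt N35101 D57672) (tt N35102 D57673) (tt N35090 (iv2 F90829)) (tt N8764 F44456) (tt N35100 (iv4 F90861)) (tt N35103 D57674) (tt N8759 (iv6 D27549)) (tt N35104 D57675))
theorem Q17779 : ∀ i, i < 17779 → P i := stepQ 17778 Q17778 (allL N17778 (tt N35094 (iv1 F90839)) (tt N8760 (iv0 D27550)) (tt N35091 (iv2 F191226)) (tt N28783 (iv3 F308280)) (tt N35105 D57678) (tt N35106 D57679) (tt N27950 F306352) (tt N35092 (iv7 F191229)))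
theorem Q17780 : ∀ i, i < 17780 → P i := stepQ 17779 Q17779 (allL N17779 (tt N8760 (iv1 D27551)) (tt N35094 F90837) (tt N35092 (iv2 F191228)) (tt N35107 D57682) (tt N35108 D57683) (tt N35109 D57684) (tt N35110 D57685) (tt N35091 (iv7 F191227)))
theorem Q17781 : ∀ i, i < 17781 → P i := stepQ 17780 Q17780 (allL N17780 (tt N35111 D57686) (tt N35112 D57687) (tt N35093 (iv2 F90832)) (tt N8768 F44457) (tt N35113 D57688) (tt N8760 (iv5 D27552)) (tt N35103 (iv6 F90863)) (tt N35114 D57689))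
theorem Q17782 : ∀ i, i < 17782 → P i := stepQ 17781 Q17781 (allL N17781 (tt N35092 (iv1 F90831)) (tt N35091 F90836) (tt N35094 (iv2 F90833)) (tt N8769 F44458) (tt N8829 F44459) (tt N35114 (iv5 F90871)) (tt N10957 F44460) (tt N8760 (iv7 D27553)))
theorem Q17783 : ∀ i, i < 17783 → P i := stepQ 17782 Q17782 (allL N17782 (tt N35034 (iv1 F107813)) (tt N35038 (iv0 F90874)) (tt N35115 D57692) (tt N8761 (iv3 D27554)) (tt N35116 D57693) (tt N17646 F44461) (tt N35117 D57694) (tt N34496 (iv7 F87719)))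
theorem Q17784 : ∀ i, i < 17784 → P i := stepQ 17783 Q17783 (allL N17783 (tt N35118 D57695) (tt N35119 D57696) (tt N34501 (iv2 F87724)) (tt N35117 (iv3 F90875)) (tt N17668 F44462) (tt N35120 D57697) (tt N8761 (iv6 D27555)) (tt N35121 D57698))
theorem Q17785 : ∀ i, i < 17785 → P i := stepQ 17784 Q17784 (allL N17784 (tt N35057 (iv1 F90744)) (tt N35060 (iv0 F92115)) (tt N32629 (iv2 F83257)) (tt N8762 (iv3 D27556)) (tt N29554 (iv4 F76678)) (tt N17663 F44463) (tt N35122 D57700) (tt N32626 (iv7 F83249)))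
theorem Q17786 : ∀ i, i < 17786 → P i := stepQ 17785 Q17785 (allL N17785 (tt N35123 D57701) (tt N35124 D57702) (tt N34497 (iv2 F87721)) (tt N35122 (iv3 F90880)) (tt N17661 F44464) (tt N27945 F298112) (tt N8762 (iv6 D27557)) (tt N35125 D57704))
theorem Q17787 : ∀ i, i < 17787 → P i := stepQ 17786 Q17786 (allL N17786 (tt N35126 D57705) (tt N35127 D57706) (tt N22279 (iv2 F52861)) (tt N8763 (iv3 D27558)) (tt N35099 (iv4 F90857)) (tt N17636 F44465) (tt N35128 D57707) (tt N17689 F44466))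
theorem Q17788 : ∀ i, i < 17788 → P i := stepQ 17787 Q17787 (allL N17787 (tt N35129 D57708) (tt N35130 D57709) (tt N17792 (iv2 F44469)) (tt N35128 (iv3 F90888)) (tt N8764 F44467) (tt N35131 D57710) (tt N8763 (iv6 D27559)) (tt N35132 D57711))
theorem Q17789 : ∀ i, i < 17789 → P i := stepQ 17788 Q17788 (allL N17788 (tt N34936 (iv1 F90381)) (tt N8764 (iv0 D27560)) (tt N34934 F342787) (tt N35133 D57713) (tt N35134 D57714) (tt N35135 D57715) (tt N35136 D57716) (tt N31590 F329924))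
theorem Q17790 : ∀ i, i < 17790 → P i := stepQ 17789 Q17789 (allL N17789 (tt N8764 (iv1 D27561)) (tt N34936 F90380) (tt N31590 (iv2 F329884)) (tt N35137 D57718) (tt N35138 D57719) (tt N35139 D57720) (tt N15810 F329778) (tt N34934 F342798))
theorem Q17791 : ∀ i, i < 17791 → P i := stepQ 17790 Q17790 (allL N17790 (tt N35140 D57722) (tt N35141 D57723) (tt N34935 (iv2 F90376)) (tt N35103 (iv3 F90862)) (tt N35142 D57724) (tt N8764 (iv5 D27562)) (tt N8768 F44468) (tt N35143 D57725))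
theorem Q17792 : ∀ i, i < 17792 → P i := stepQ 17791 Q17791 (allL N17791 (tt N31590 F342786) (tt N34934 F90379) (tt N34936 (iv2 F90378)) (tt N35104 (iv3 F90864)) (tt N35132 (iv4 F90890)) (tt N35143 (iv5 F90895)) (tt N35144 D57726) (tt N8764 (iv7 D27563)))
theorem Q17793 : ∀ i, i < 17793 → P i := stepQ 17792 Q17792 (allL N17792 (tt N35145 D57727) (tt N35146 D57728) (tt N17787 F44469) (tt N10953 F44470) (tt N17691 F44471) (tt N35147 D57729) (tt N8765 (iv6 D27564)) (tt N35144 (iv7 F90899)))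
theorem Q17794 : ∀ i, i < 17794 → P i := stepQ 17793 Q17793 (allL N17793 (tt N35148 D57730) (tt N35039 F316651) (tt N19452 F310182) (tt N8766 (iv3 D27566)) (tt N19451 F310183) (tt N35149 D57734) (tt N35150 D57735) (tt N34113 (iv7 F311083)))
theorem Q17795 : ∀ i, i < 17795 → P i := stepQ 17794 Q17794 (allL N17794 (tt N35151 D57736) (tt N11627 F91406) (tt N25364 F90418) (tt N12639 F296872) (tt N8766 (iv4 D27567)) (tt N12637 F296873) (tt N25399 (iv6 F297063)) (tt N27347 F90439))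
theorem Q17796 : ∀ i, i < 17796 → P i := stepQ 17795 Q17795 (allL N17795 (tt N24394 F301090) (tt N35152 D57741) (tt N34938 (iv2 F90462)) (tt N35149 (iv3 F90908)) (tt N35153 D57742) (tt N8766 (iv5 D27568)) (tt N35154 D57743) (tt N34939 F90461))
theorem Q17797 : ∀ i, i < 17797 → P i := stepQ 17796 Q17796 (allL N17796 (tt N12501 F298958) (tt N12066 F298959) (tt N34781 F298960) (tt N35150 (iv3 F90909)) (tt N25399 F298961) (tt N35155 D57746) (tt N8766 (iv6 D27569)) (tt N25468 F298962))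
theorem Q17798 : ∀ i, i < 17798 → P i := stepQ 17797 Q17797 (allL N17797 (tt N35058 F311808) (tt N35156 D57749) (tt N35157 D57750) (tt N8767 (iv3 D27571)) (tt N35158 D57751) (tt N35159 D57752) (tt N35160 D57753) (tt N34937 (iv7 F90423)))
theorem Q17799 : ∀ i, i < 17799 → P i := stepQ 17798 Q17798 (allL N17798 (tt N11627 F91407) (tt N35151 F90911) (tt N27347 (iv2 F90443)) (tt N24807 F298095) (tt N8767 (iv4 D27572)) (tt N24346 (iv5 F298243)) (tt N35161 D57755) (tt N25364 (iv7 F90424)))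
theorem Q17800 : ∀ i, i < 17800 → P i := stepQ 17799 Q17799 (allL N17799 (tt N35152 (iv1 F90926)) (tt N24394 F301453) (tt N34939 (iv2 F90458)) (tt N35159 (iv3 F90932)) (tt N35162 D57756) (tt N8767 (iv5 D27573)) (tt N35163 D57757) (tt N34938 (iv7 F90425)))
theorem Q17801 : ∀ i, i < 17801 → P i := stepQ 17800 Q17800 (allL N17800 (tt N24336 (iv1 F121420)) (tt N34984 (iv0 F121421)) (tt N34940 (iv2 F90459)) (tt N35160 (iv3 F90933)) (tt N35161 (iv4 F90938)) (tt N35164 D57760) (tt N8767 (iv6 D27574)) (tt N35165 D57761))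
theorem Q17802 : ∀ i, i < 17802 → P i := stepQ 17801 Q17801 (allL N17801 (tt N34944 (iv1 F90391)) (tt N8768 (iv0 D27575)) (tt N34941 (iv2 F115916)) (tt N35166 D57763) (tt N35167 D57764) (tt N34787 F299245) (tt N35168 D57766) (tt N34942 (iv7 F115914)))
theorem Q17803 : ∀ i, i < 17803 → P i := stepQ 17802 Q17802 (allL N17802 (tt N8768 (iv1 D27576)) (tt N34944 F90390) (tt N34942 (iv2 F115913)) (tt N35169 D57768) (tt N35170 D57769) (tt N34788 F299250) (tt N35171 D57771) (tt N34941 (iv7 F115917)))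
theorem Q17804 : ∀ i, i < 17804 → P i := stepQ 17803 Q17803 (allL N17803 (tt N35172 D57772) (tt N35173 D57773) (tt N34943 (iv2 F90386)) (tt N35174 D57774) (tt N8768 (iv4 D27577)) (tt N35175 D57775) (tt N35142 (iv6 F90894)) (tt N35176 D57776))
theorem Q17805 : ∀ i, i < 17805 → P i := stepQ 17804 Q17804 (allL N17804 (tt N34942 (iv1 F90385)) (tt N34941 F90389) (tt N34944 (iv2 F90387)) (tt N35114 (iv3 F90870)) (tt N35176 (iv4 F90941)) (tt N8769 F44474) (tt N35177 D57777) (tt N8768 (iv7 D27578)))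
theorem Q17806 : ∀ i, i < 17806 → P i := stepQ 17805 Q17805 (allL N17805 (tt N25419 F299208) (tt N34827 F89935) (tt N12393 (iv2 F299442)) (tt N10957 F44475) (tt N8776 F44476) (tt N35178 D57778) (tt N8769 (iv6 D27579)) (tt N8770 F44477))
theorem Q17807 : ∀ i, i < 17807 → P i := stepQ 17806 Q17806 (allL N17806 (tt N12393 (iv1 F299441)) (tt N8770 (iv0 D27580)) (tt N34827 (iv2 F121800)) (tt N35179 D57780) (tt N25421 F299027) (tt N35180 D57782) (tt N35181 D57783) (tt N25419 F299028))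
theorem Q17808 : ∀ i, i < 17808 → P i := stepQ 17807 Q17807 (allL N17807 (tt N8770 (iv1 D27581)) (tt N12393 (iv0 F299440)) (tt N25419 F298303) (tt N28568 (iv3 F300875)) (tt N25417 F298304) (tt N35182 D57787) (tt N12065 F298305) (tt N34827 (iv7 F121801)))
theorem Q17809 : ∀ i, i < 17809 → P i := stepQ 17808 Q17808 (allL N17808 (tt N35183 D57789) (tt N35184 D57790) (tt N34828 (iv2 F89931)) (tt N10956 F44478) (tt N35185 D57791) (tt N8770 (iv5 D27582)) (tt N35147 (iv6 F90906)) (tt N35178 (iv7 F90943)))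
theorem Q17810 : ∀ i, i < 17810 → P i := stepQ 17809 Q17809 (allL N17809 (tt N12631 F44489) (tt N12593 (iv0 F44490)) (tt N12479 (iv2 F296500)) (tt N35186 D57796) (tt N8771 (iv4 D27592)) (tt N35187 D57797) (tt N12476 (iv6 F296871)) (tt N12629 F44546))
theorem Q17811 : ∀ i, i < 17811 → P i := stepQ 17810 Q17810 (allL N17810 (tt N8774 (iv1 F44499)) (tt N8772 (iv0 D27596)) (tt N25247 F300015) (tt N35188 D57806) (tt N23558 (iv4 F91198)) (tt N35189 D57808) (tt N12390 F300016) (tt N23557 (iv7 F91148)))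
theorem Q17812 : ∀ i, i < 17812 → P i := stepQ 17811 Q17811 (allL N17811 (tt N35190 D57815) (tt N34965 F316730) (tt N35191 D57817) (tt N8772 (iv3 D27598)) (tt N35186 (iv4 F90955)) (tt N35192 D57818) (tt N35193 D57819) (tt N34945 (iv7 F90495)))
theorem Q17813 : ∀ i, i < 17813 → P i := stepQ 17812 Q17812 (allL N17812 (tt N24398 F299243) (tt N33270 F329525) (tt N25249 (iv2 F301673)) (tt N35192 (iv3 F90976)) (tt N31763 F337473) (tt N8772 (iv5 D27599)) (tt N31762 (iv6 F337483)) (tt N34946 (iv7 F90497)))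
theorem Q17814 : ∀ i, i < 17814 → P i := stepQ 17813 Q17813 (allL N17813 (tt N12504 F300017) (tt N12385 F300018) (tt N8841 F300019) (tt N35193 (iv3 F90977)) (tt N8773 F44496) (tt N35194 D57826) (tt N8772 (iv6 D27600)) (tt N12502 F300020))
theorem Q17815 : ∀ i, i < 17815 → P i := stepQ 17814 Q17814 (allL N17814 (tt N35003 F199797) (tt N35195 D57854) (tt N35196 D57855) (tt N8774 (iv3 D27617)) (tt N17973 F301732) (tt N35197 D57856) (tt N35198 D57857) (tt N25248 (iv7 F302816)))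
theorem Q17816 : ∀ i, i < 17816 → P i := stepQ 17815 Q17815 (allL N17815 (tt N33270 F329526) (tt N24398 F299242) (tt N34946 (iv2 F90496)) (tt N35197 (iv3 F91142)) (tt N35199 D57858) (tt N8774 (iv5 D27618)) (tt N35200 D57859) (tt N25249 (iv7 F301674)))
theorem Q17817 : ∀ i, i < 17817 → P i := stepQ 17816 Q17816 (allL N17816 (tt N35201 D57860) (tt N34978 (iv0 F121514)) (tt N34947 (iv2 F90498)) (tt N35198 (iv3 F91143)) (tt N8775 F44517) (tt N35202 D57862) (tt N8774 (iv6 D27619)) (tt N12507 (iv7 F302113)))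
theorem Q17818 : ∀ i, i < 17818 → P i := stepQ 17817 Q17817 (allL N17817 (tt N34534 F87790) (tt N34829 F89949) (tt N12394 F299685) (tt N8853 F44551) (tt N35203 D57868) (tt N8776 (iv5 D27624)) (tt N17853 F299686) (tt N8778 F44552))
theorem Q17819 : ∀ i, i < 17819 → P i := stepQ 17818 Q17818 (allL N17818 (tt N8809 F296479) (tt N8808 F296480) (tt N8811 F296481) (tt N8777 (iv3 D27626)) (tt N35204 D57878) (tt N35205 D57879) (tt N12338 F296482) (tt N8805 F296483))
theorem Q17820 : ∀ i, i < 17820 → P i := stepQ 17819 Q17819 (allL N17819 (tt N12390 F300025) (tt N12389 F300026) (tt N12392 F300027) (tt N35206 D57884) (tt N8777 (iv4 D27627)) (tt N35207 D57885) (tt N35208 D57886) (tt N12382 F300028))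
theorem Q17821 : ∀ i, i < 17821 → P i := stepQ 17820 Q17820 (allL N17820 (tt N12396 (iv1 F298652)) (tt N12395 (iv0 F298649)) (tt N12398 (iv2 F298656)) (tt N35205 (iv3 F91612)) (tt N35209 D57889) (tt N8777 (iv5 D27628)) (tt N35210 D57890) (tt N12383 F297502))
theorem Q17822 : ∀ i, i < 17822 → P i := stepQ 17821 Q17821 (allL N17821 (tt N8793 (iv1 F298941)) (tt N8792 (iv0 F298938)) (tt N8795 (iv2 F298944)) (tt N12338 F297564) (tt N35208 (iv4 F91616)) (tt N35211 D57892) (tt N8777 (iv6 D27629)) (tt N8787 F297565))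
theorem Q17823 : ∀ i, i < 17823 → P i := stepQ 17822 Q17822 (allL N17822 (tt N12394 F299682) (tt N8778 (iv0 D27635)) (tt N34829 (iv2 F115445)) (tt N35212 D57909) (tt N35213 D57910) (tt N34535 (iv5 F115444)) (tt N35214 D57911) (tt N34534 (iv7 F115442)))
theorem Q17824 : ∀ i, i < 17824 → P i := stepQ 17823 Q17823 (allL N17823 (tt N8778 (iv1 D27636)) (tt N12394 F299683) (tt N34534 (iv2 F115441)) (tt N12400 (iv3 F300686)) (tt N35215 D57914) (tt N34480 (iv5 F87640)) (tt N12531 F299684) (tt N34829 (iv7 F115446)))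
theorem Q17825 : ∀ i, i < 17825 → P i := stepQ 17824 Q17824 (allL N17824 (tt N35216 D57916) (tt N35217 D57917) (tt N34830 (iv2 F89944)) (tt N35218 D57918) (tt N8778 (iv4 D27637)) (tt N35219 D57919) (tt N8785 F44555) (tt N35203 (iv7 F91601)))
theorem Q17826 : ∀ i, i < 17826 → P i := stepQ 17825 Q17825 (allL N17825 (tt N23614 (iv1 F56237)) (tt N17570 F44558) (tt N17375 F44556) (tt N13637 F44557) (tt N23800 (iv4 F56525)) (tt N8779 (iv5 D27638)) (tt N35220 D57920) (tt N23411 (iv7 F55832)))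
theorem Q17827 : ∀ i, i < 17827 → P i := stepQ 17826 Q17826 (allL N17826 (tt N23615 (iv1 F56239)) (tt N35221 D57921) (tt N17376 F44559) (tt N35222 D57922) (tt N8780 (iv4 D27639)) (tt N35223 D57923) (tt N34904 (iv6 F90314)) (tt N23412 (iv7 F55835)))
theorem Q17828 : ∀ i, i < 17828 → P i := stepQ 17827 Q17827 (allL N17827 (tt N17570 F44565) (tt N23614 (iv0 F56236)) (tt N23411 (iv2 F55830)) (tt N11567 F44563) (tt N23801 (iv4 F56526)) (tt N8782 (iv5 D27641)) (tt N16025 F326395) (tt N17375 F44564))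
theorem Q17829 : ∀ i, i < 17829 → P i := stepQ 17828 Q17828 (allL N17828 (tt N35221 (iv1 F91641)) (tt N23615 (iv0 F56238)) (tt N23412 (iv2 F55834)) (tt N35224 D57926) (tt N8783 (iv4 D27642)) (tt N35225 D57927) (tt N35226 D57928) (tt N17376 F44566))
theorem Q17830 : ∀ i, i < 17830 → P i := stepQ 17829 Q17829 (allL N17829 (tt N34988 F90600) (tt N31837 (iv0 F323896)) (tt N23413 (iv2 F55836)) (tt N26767 F297625) (tt N35226 (iv4 F91650)) (tt N17832 (iv5 F44570)) (tt N8783 (iv6 D27643)) (tt N35031 (iv7 F90705)))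
theorem Q17831 : ∀ i, i < 17831 → P i := stepQ 17830 Q17830 (allL N17830 (tt N11906 (iv1 F44568)) (tt N17547 (iv0 F44569)) (tt N23515 F56038) (tt N8784 (iv3 D27644)) (tt N23945 (iv4 F56972)) (tt N11995 F296400) (tt N35227 D57930) (tt N23390 (iv7 F55786)))
theorem Q17832 : ∀ i, i < 17832 → P i := stepQ 17831 Q17831 (allL N17831 (tt N34458 (iv1 F87597)) (tt N34457 F87595) (tt N23414 (iv2 F55837)) (tt N35228 D57931) (tt N8784 (iv4 D27645)) (tt N35229 D57932) (tt N31225 F325614) (tt N23393 (iv7 F55797)))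
theorem Q17833 : ∀ i, i < 17833 → P i := stepQ 17832 Q17832 (allL N17832 (tt N35230 D57934) (tt N31942 F323086) (tt N23415 (iv2 F55839)) (tt N35227 (iv3 F91651)) (tt N31225 (iv4 F324519)) (tt N17829 F44570) (tt N8784 (iv6 D27646)) (tt N31756 F323087))
theorem Q17834 : ∀ i, i < 17834 → P i := stepQ 17833 Q17833 (allL N17833 (tt N23398 (iv1 F55816)) (tt N8785 (iv0 D27647)) (tt N23417 F55844) (tt N35231 D57937) (tt N17372 F44571) (tt N35232 D57938) (tt N35233 D57939) (tt N23416 (iv7 F55845)))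
theorem Q17835 : ∀ i, i < 17835 → P i := stepQ 17834 Q17834 (allL N17834 (tt N8785 (iv1 D27648)) (tt N23398 F55817) (tt N23416 (iv2 F55847)) (tt N35234 D57940) (tt N16026 F325616) (tt N35235 D57941) (tt N16024 F325617) (tt N23417 F55846))
theorem Q17836 : ∀ i, i < 17836 → P i := stepQ 17835 Q17835 (allL N17835 (tt N35236 D57943) (tt N35237 D57944) (tt N35238 D57945) (tt N8785 (iv3 D27649)) (tt N8866 F44572) (tt N35239 D57946) (tt N35218 (iv6 F91637)) (tt N23418 (iv7 F55849)))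
theorem Q17837 : ∀ i, i < 17837 → P i := stepQ 17836 Q17836 (allL N17836 (tt N35240 D57947) (tt N35241 D57948) (tt N34832 (iv2 F89953)) (tt N35239 (iv3 F91665)) (tt N35242 D57949) (tt N8785 (iv5 D27650)) (tt N35243 D57950) (tt N23419 (iv7 F55850)))
theorem Q17838 : ∀ i, i < 17838 → P i := stepQ 17837 Q17837 (allL N17837 (tt N35244 D57951) (tt N35245 D57952) (tt N33839 (iv2 F85859)) (tt N8786 (iv3 D27651)) (tt N12333 F44573) (tt N14166 F44574) (tt N35246 D57953) (tt N12380 F44575))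
theorem Q17839 : ∀ i, i < 17839 → P i := stepQ 17838 Q17838 (allL N17838 (tt N23598 F56183) (tt N34981 (iv0 F299211)) (tt N8791 F44576) (tt N35246 (iv3 F91687)) (tt N8787 F44577) (tt N35247 D57955) (tt N8786 (iv6 D27652)) (tt N35208 (iv7 F299214)))
theorem Q17840 : ∀ i, i < 17840 → P i := stepQ 17839 Q17839 (allL N17839 (tt N8795 (iv1 F44586)) (tt N8787 (iv0 D27653)) (tt N8792 (iv2 F117386)) (tt N12186 F117826) (tt N35248 D57959) (tt N35025 (iv5 F299751)) (tt N12509 (iv6 F117154)) (tt N8793 (iv7 F117392)))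
theorem Q17841 : ∀ i, i < 17841 → P i := stepQ 17840 Q17840 (allL N17840 (tt N25026 F60159) (tt N11530 (iv0 F296385)) (tt N8794 F44580) (tt N12337 F44581) (tt N35249 D57965) (tt N8787 (iv5 D27655)) (tt N12570 F44582) (tt N35211 (iv7 F296387)))
theorem Q17842 : ∀ i, i < 17842 → P i := stepQ 17841 Q17841 (allL N17841 (tt N14051 (iv1 F44593)) (tt N14050 F44596) (tt N12998 F44589) (tt N8788 (iv3 D27657)) (tt N34837 (iv4 F89995)) (tt N12997 F44590) (tt N35013 (iv6 F298964)) (tt N12384 F44591))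
theorem Q17843 : ∀ i, i < 17843 → P i := stepQ 17842 Q17842 (allL N17842 (tt N8841 F91429) (tt N12502 F91430) (tt N12385 F44599) (tt N12985 F44600) (tt N17551 F44601) (tt N35250 D57972) (tt N8789 (iv6 D27659)) (tt N12504 F91158))
theorem Q17844 : ∀ i, i < 17844 → P i := stepQ 17843 Q17843 (allL N17843 (tt N14432 (iv1 F289714)) (tt N14142 (iv0 F289715)) (tt N14167 F44602) (tt N25713 (iv3 F61990)) (tt N25000 (iv4 F60091)) (tt N35251 D57975) (tt N8790 (iv6 D27660)) (tt N14431 (iv7 F289716)))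
theorem Q17845 : ∀ i, i < 17845 → P i := stepQ 17844 Q17844 (allL N17844 (tt N35208 F301568) (tt N8791 (iv0 D27661)) (tt N23598 (iv2 F91360)) (tt N35252 D57977) (tt N23597 F91361) (tt N35253 D57978) (tt N35201 (iv6 F301710)) (tt N34981 F301569))
theorem Q17846 : ∀ i, i < 17846 → P i := stepQ 17845 Q17845 (allL N17845 (tt N8791 (iv1 D27662)) (tt N35208 F301570) (tt N34981 F301571) (tt N35254 D57980) (tt N23544 (iv4 F56087)) (tt N35255 D57981) (tt N23606 F301572) (tt N23598 (iv7 F91359)))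
theorem Q17847 : ∀ i, i < 17847 → P i := stepQ 17846 Q17846 (allL N17846 (tt N35256 D57983) (tt N35257 D57984) (tt N35247 (iv2 F91692)) (tt N33848 (iv3 F85893)) (tt N35258 D57985) (tt N8791 (iv5 D27663)) (tt N35251 (iv6 F91734)) (tt N35259 D57986))
theorem Q17848 : ∀ i, i < 17848 → P i := stepQ 17847 Q17847 (allL N17847 (tt N34981 F301573) (tt N23598 (iv0 F56182)) (tt N35208 F301574) (tt N33849 (iv3 F85894)) (tt N8795 F44603) (tt N35259 (iv5 F91741)) (tt N12392 F44604) (tt N8791 (iv7 D27664)))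
theorem Q17849 : ∀ i, i < 17849 → P i := stepQ 17848 Q17848 (allL N17848 (tt N35181 (iv1 F301399)) (tt N25978 (iv0 F118769)) (tt N35248 (iv2 F117388)) (tt N28697 F308421) (tt N8792 (iv4 D27667)) (tt N35260 D58002) (tt N24336 (iv6 F301962)) (tt N28727 F310305))
theorem Q17850 : ∀ i, i < 17850 → P i := stepQ 17849 Q17849 (allL N17849 (tt N23406 F301575) (tt N23408 F301576) (tt N35025 F301577) (tt N12408 F301578) (tt N35261 D58007) (tt N8792 (iv5 D27668)) (tt N12407 F301579) (tt N34989 F301580))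
theorem Q17851 : ∀ i, i < 17851 → P i := stepQ 17850 Q17850 (allL N17850 (tt N12181 (iv1 F117851)) (tt N12189 F117847) (tt N12187 (iv2 F117828)) (tt N8793 (iv3 D27671)) (tt N35262 D58016) (tt N31878 F326445) (tt N12152 (iv6 F298921)) (tt N12186 F117827))
theorem Q17852 : ∀ i, i < 17852 → P i := stepQ 17851 Q17851 (allL N17851 (tt N25978 (iv1 F118770)) (tt N35181 (iv0 F301398)) (tt N28727 F310310) (tt N35263 D58019) (tt N8793 (iv4 D27672)) (tt N35264 D58020) (tt N34895 (iv6 F300804)) (tt N35248 (iv7 F117389)))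
theorem Q17853 : ∀ i, i < 17853 → P i := stepQ 17852 Q17852 (allL N17852 (tt N23408 (iv1 F299723)) (tt N23406 (iv0 F299838)) (tt N34989 (iv2 F299758)) (tt N31878 (iv3 F325631)) (tt N35265 D58022) (tt N8793 (iv5 D27673)) (tt N31876 F324529) (tt N35025 (iv7 F299752)))
theorem Q17854 : ∀ i, i < 17854 → P i := stepQ 17853 Q17853 (allL N17853 (tt N35211 F297538) (tt N8794 (iv0 D27675)) (tt N25026 (iv2 F117477)) (tt N11544 (iv3 F299541)) (tt N35266 D58030) (tt N11531 (iv5 F299728)) (tt N17817 (iv6 F299686)) (tt N11530 F297539))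
theorem Q17855 : ∀ i, i < 17855 → P i := stepQ 17854 Q17854 (allL N17854 (tt N8794 (iv1 D27676)) (tt N35211 F297540) (tt N11530 F297541) (tt N22930 F297542) (tt N35267 D58034) (tt N11524 F297543) (tt N11525 F297544) (tt N25026 (iv7 F117478)))
theorem Q17856 : ∀ i, i < 17856 → P i := stepQ 17855 Q17855 (allL N17855 (tt N35268 D58036) (tt N35269 D58037) (tt N35249 (iv2 F91709)) (tt N35270 D58038) (tt N8794 (iv4 D27677)) (tt N35271 D58039) (tt N12572 F44608) (tt N30982 F324506))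
theorem Q17857 : ∀ i, i < 17857 → P i := stepQ 17856 Q17856 (allL N17856 (tt N11530 F297545) (tt N25026 F91714) (tt N35211 F297546) (tt N8803 F44609) (tt N30982 (iv4 F323081)) (tt N8795 F44610) (tt N25330 (iv6 F60712)) (tt N8794 (iv7 D27678)))
theorem Q17858 : ∀ i, i < 17858 → P i := stepQ 17857 Q17857 (allL N17857 (tt N12249 F118800) (tt N12161 F118801) (tt N12205 F117683) (tt N34196 (iv3 F86900)) (tt N8796 (iv4 D27682)) (tt N35272 D58055) (tt N24342 (iv6 F58344)) (tt N12208 F117684))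
theorem Q17859 : ∀ i, i < 17859 → P i := stepQ 17858 Q17858 (allL N17858 (tt N35273 D58056) (tt N35274 D58057) (tt N12206 F117687) (tt N8797 F44618) (tt N35275 D58058) (tt N8796 (iv5 D27683)) (tt N24343 (iv6 F58346)) (tt N12209 F117688))
theorem Q17860 : ∀ i, i < 17860 → P i := stepQ 17859 Q17859 (allL N17859 (tt N8797 (iv1 D27684)) (tt N8798 F44620) (tt N12364 F44623) (tt N23408 (iv3 F299724)) (tt N23667 (iv4 F56358)) (tt N11350 (iv5 F44622)) (tt N11765 F44624) (tt N11349 F44621))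
theorem Q17861 : ∀ i, i < 17861 → P i := stepQ 17860 Q17860 (allL N17860 (tt N34627 (iv1 F88310)) (tt N34628 (iv0 F88314)) (tt N12365 F44625) (tt N35276 D58060) (tt N8797 (iv4 D27685)) (tt N34646 (iv5 F88384)) (tt N24345 (iv6 F58349)) (tt N12367 F44626))
theorem Q17862 : ∀ i, i < 17862 → P i := stepQ 17861 Q17861 (allL N17861 (tt N34628 (iv1 F88315)) (tt N34627 (iv0 F88309)) (tt N12367 F44637) (tt N35277 D58085) (tt N8798 (iv4 D27692)) (tt N22573 F309234) (tt N31277 F323139) (tt N12365 F44638))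
theorem Q17863 : ∀ i, i < 17863 → P i := stepQ 17862 Q17862 (allL N17862 (tt N12414 F44640) (tt N8862 (iv0 F44641)) (tt N12368 F44639) (tt N34988 (iv3 F121103)) (tt N31277 (iv4 F321469)) (tt N35278 D58086) (tt N8798 (iv6 D27693)) (tt N12546 (iv7 F44642)))
theorem Q17864 : ∀ i, i < 17864 → P i := stepQ 17863 Q17863 (allL N17863 (tt N11355 F44694) (tt N11353 (iv0 F44695)) (tt N12370 F44692) (tt N34989 (iv3 F121104)) (tt N35279 D58088) (tt N8799 (iv5 D27695)) (tt N35278 (iv6 F91862)) (tt N12408 F44693))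
theorem Q17865 : ∀ i, i < 17865 → P i := stepQ 17864 Q17864 (allL N17864 (tt N12213 (iv1 F117880)) (tt N12153 (iv0 F117881)) (tt N12210 (iv2 F117876)) (tt N8800 (iv3 D27696)) (tt N35280 D58092) (tt N23035 F117870) (tt N17889 F44776) (tt N12211 (iv7 F117884)))
theorem Q17866 : ∀ i, i < 17866 → P i := stepQ 17865 Q17865 (allL N17865 (tt N35281 D58098) (tt N35282 D58099) (tt N35283 D58100) (tt N8802 (iv3 D27699)) (tt N35270 (iv4 F91801)) (tt N35284 D58101) (tt N12573 F44701) (tt N35285 D58102))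
theorem Q17867 : ∀ i, i < 17867 → P i := stepQ 17866 Q17866 (allL N17866 (tt N23669 (iv1 F56359)) (tt N23692 (iv0 F56402)) (tt N12377 F44702) (tt N35284 (iv3 F91892)) (tt N22574 F309181) (tt N8802 (iv5 D27700)) (tt N35286 D58104) (tt N35287 D58105))
theorem Q17868 : ∀ i, i < 17868 → P i := stepQ 17867 Q17867 (allL N17867 (tt N12375 (iv1 F44705)) (tt N12374 F44706) (tt N12378 F44703) (tt N35285 (iv3 F91893)) (tt N8803 F44704) (tt N35287 (iv5 F91902)) (tt N25336 (iv6 F60719)) (tt N8802 (iv7 D27701)))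
theorem Q17869 : ∀ i, i < 17869 → P i := stepQ 17868 Q17868 (allL N17868 (tt N28286 F73553) (tt N28283 (iv0 F73549)) (tt N33813 (iv2 F85704)) (tt N8804 (iv3 D27702)) (tt N12380 F44707) (tt N14521 F44708) (tt N35288 D58106) (tt N12333 F44709))
theorem Q17870 : ∀ i, i < 17870 → P i := stepQ 17869 Q17869 (allL N17869 (tt N12632 F296489) (tt N35289 D58107) (tt N8807 F44710) (tt N35288 (iv3 F91905)) (tt N8805 F44711) (tt N35290 D58108) (tt N8804 (iv6 D27703)) (tt N35204 (iv7 F296510)))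
theorem Q17871 : ∀ i, i < 17871 → P i := stepQ 17870 Q17870 (allL N17870 (tt N8805 (iv1 D27705)) (tt N8811 F44712) (tt N8809 (iv2 F116950)) (tt N12219 F118401) (tt N35291 D58115) (tt N24965 (iv5 F60006)) (tt N12484 (iv6 F116926)) (tt N8808 (iv7 F116956)))
theorem Q17872 : ∀ i, i < 17872 → P i := stepQ 17871 Q17871 (allL N17871 (tt N35292 D58117) (tt N24326 (iv0 F58307)) (tt N8810 F44713) (tt N12383 F44714) (tt N35293 D58118) (tt N8805 (iv5 D27706)) (tt N12007 F44715) (tt N35205 (iv7 F296373)))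
theorem Q17873 : ∀ i, i < 17873 → P i := stepQ 17872 Q17872 (allL N17872 (tt N35294 D58120) (tt N35295 D58121) (tt N14522 F44722) (tt N10310 F313331) (tt N14502 F44724) (tt N35296 D58122) (tt N8806 (iv6 D27708)) (tt N33577 (iv7 F315752)))
theorem Q17874 : ∀ i, i < 17874 → P i := stepQ 17873 Q17873 (allL N17873 (tt N35204 (iv1 F296508)) (tt N8807 (iv0 D27709)) (tt N12632 (iv2 F296244)) (tt N35297 D58125) (tt N12577 F296103) (tt N35298 D58127) (tt N12576 F296104) (tt N35289 (iv7 F118154)))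
theorem Q17875 : ∀ i, i < 17875 → P i := stepQ 17874 Q17874 (allL N17874 (tt N8807 (iv1 D27710)) (tt N35204 F297109) (tt N35289 (iv2 F118153)) (tt N29803 (iv3 F299082)) (tt N12641 F297110) (tt N35299 D58131) (tt N12631 F297111) (tt N12632 F297112))
theorem Q17876 : ∀ i, i < 17876 → P i := stepQ 17875 Q17875 (allL N17875 (tt N35300 D58133) (tt N35301 D58134) (tt N35290 (iv2 F91908)) (tt N33821 (iv3 F85742)) (tt N35302 D58135) (tt N8807 (iv5 D27711)) (tt N35296 (iv6 F91928)) (tt N35303 D58136))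
theorem Q17877 : ∀ i, i < 17877 → P i := stepQ 17876 Q17876 (allL N17876 (tt N35289 (iv1 F91907)) (tt N12632 F296487) (tt N35204 (iv2 F296509)) (tt N33822 (iv3 F85744)) (tt N8811 F44725) (tt N35303 (iv5 F91938)) (tt N12349 F44726) (tt N8807 (iv7 D27712)))
theorem Q17878 : ∀ i, i < 17878 → P i := stepQ 17877 Q17877 (allL N17877 (tt N25472 (iv1 F297114)) (tt N25475 (iv0 F297116)) (tt N25405 F296473) (tt N35304 D58151) (tt N8808 (iv4 D27715)) (tt N22406 (iv5 F306682)) (tt N12739 F296474) (tt N35291 (iv7 F116953)))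
theorem Q17879 : ∀ i, i < 17879 → P i := stepQ 17878 Q17878 (allL N17878 (tt N35212 (iv1 F297594)) (tt N35305 D58156) (tt N27698 F296405) (tt N31945 F325892) (tt N35306 D58157) (tt N8808 (iv5 D27716)) (tt N12740 F296406) (tt N24965 (iv7 F116955)))
theorem Q17880 : ∀ i, i < 17880 → P i := stepQ 17879 Q17879 (allL N17879 (tt N25475 (iv1 F297117)) (tt N25472 (iv0 F297113)) (tt N35291 (iv2 F116952)) (tt N35307 D58170) (tt N8809 (iv4 D27720)) (tt N35308 D58171) (tt N25192 (iv6 F116822)) (tt N25405 F296486))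
theorem Q17881 : ∀ i, i < 17881 → P i := stepQ 17880 Q17880 (allL N17880 (tt N35305 (iv1 F91958)) (tt N35212 (iv0 F297593)) (tt N24965 (iv2 F116954)) (tt N27708 (iv3 F297488)) (tt N35309 D58173) (tt N8809 (iv5 D27721)) (tt N24923 (iv6 F59940)) (tt N27698 F296396))
theorem Q17882 : ∀ i, i < 17882 → P i := stepQ 17881 Q17881 (allL N17881 (tt N35205 (iv1 F296371)) (tt N8810 (iv0 D27723)) (tt N35292 (iv2 F116922)) (tt N15526 F325169) (tt N35310 D58179) (tt N24327 (iv5 F116846)) (tt N15525 F325170) (tt N24326 (iv7 F116848)))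
theorem Q17883 : ∀ i, i < 17883 → P i := stepQ 17882 Q17882 (allL N17882 (tt N8810 (iv1 D27724)) (tt N35205 (iv0 F296370)) (tt N24326 (iv2 F116847)) (tt N24332 (iv3 F296416)) (tt N35311 D58184) (tt N24259 (iv5 F58205)) (tt N34952 (iv6 F296423)) (tt N35292 (iv7 F116924)))
theorem Q17884 : ∀ i, i < 17884 → P i := stepQ 17883 Q17883 (allL N17883 (tt N35312 D58186) (tt N35313 D58187) (tt N35293 (iv2 F91917)) (tt N35314 D58188) (tt N8810 (iv4 D27725)) (tt N35315 D58189) (tt N12539 F44729) (tt N35316 D58190))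
theorem Q17885 : ∀ i, i < 17885 → P i := stepQ 17884 Q17884 (allL N17884 (tt N24326 F58308) (tt N35292 F91922) (tt N35205 (iv2 F296372)) (tt N8818 F44730) (tt N35316 (iv4 F91979)) (tt N8811 F44731) (tt N29468 (iv6 F76354)) (tt N8810 (iv7 D27726)))
theorem Q17886 : ∀ i, i < 17886 → P i := stepQ 17885 Q17885 (allL N17885 (tt N8814 (iv1 F44744)) (tt N8812 (iv0 D27733)) (tt N12399 (iv2 F44745)) (tt N34829 F299732) (tt N23971 (iv4 F57076)) (tt N11356 F44743) (tt N34681 (iv6 F88561)) (tt N12400 (iv7 F44746)))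
theorem Q17887 : ∀ i, i < 17887 → P i := stepQ 17886 Q17886 (allL N17886 (tt N8812 (iv1 D27734)) (tt N8814 F44747) (tt N12400 F44750) (tt N35305 (iv3 F116998)) (tt N23972 (iv4 F57079)) (tt N11337 (iv5 F44749)) (tt N8859 F44751) (tt N12399 F44748))
theorem Q17888 : ∀ i, i < 17888 → P i := stepQ 17887 Q17887 (allL N17887 (tt N34734 (iv1 F88899)) (tt N34735 (iv0 F88906)) (tt N12401 F44752) (tt N35317 D58216) (tt N8812 (iv4 D27735)) (tt N34749 (iv5 F88980)) (tt N17481 F299731) (tt N12404 F44753))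
theorem Q17889 : ∀ i, i < 17889 → P i := stepQ 17888 Q17888 (allL N17888 (tt N12164 (iv1 F118120)) (tt N12254 F118117) (tt N12234 (iv2 F117964)) (tt N34185 (iv3 F131604)) (tt N8813 (iv4 D27741)) (tt N35318 D58233) (tt N24854 F117934) (tt N12232 (iv7 F117967)))
theorem Q17890 : ∀ i, i < 17890 → P i := stepQ 17889 Q17889 (allL N17889 (tt N35319 D58234) (tt N35320 D58235) (tt N12235 (iv2 F117893)) (tt N8814 F44774) (tt N35321 D58236) (tt N8813 (iv5 D27742)) (tt N17864 (iv6 F44776)) (tt N12233 (iv7 F117902)))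
theorem Q17891 : ∀ i, i < 17891 → P i := stepQ 17890 Q17890 (allL N17890 (tt N34735 (iv1 F88907)) (tt N34734 (iv0 F88898)) (tt N12404 F44777) (tt N35322 D58237) (tt N8814 (iv4 D27743)) (tt N34750 (iv5 F88986)) (tt N17495 F44778) (tt N12401 F44779))
theorem Q17892 : ∀ i, i < 17892 → P i := stepQ 17891 Q17891 (allL N17891 (tt N26767 F67527) (tt N12526 (iv0 F44783)) (tt N12406 F44781) (tt N35023 (iv3 F121131)) (tt N31340 F322483) (tt N12546 F44782) (tt N8815 (iv6 D27745)) (tt N35278 (iv7 F91863)))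
theorem Q17893 : ∀ i, i < 17893 → P i := stepQ 17892 Q17892 (allL N17892 (tt N12159 (iv1 F117739)) (tt N12240 F117706) (tt N12238 (iv2 F117740)) (tt N8816 (iv3 D27746)) (tt N35323 D58246) (tt N17633 F44784) (tt N35324 D58247) (tt N12237 (iv7 F117741)))
theorem Q17894 : ∀ i, i < 17894 → P i := stepQ 17893 Q17893 (allL N17893 (tt N11353 F44788) (tt N11355 F44789) (tt N12408 F44786) (tt N35324 (iv3 F92067)) (tt N34745 (iv4 F88972)) (tt N12371 F44787) (tt N8816 (iv6 D27747)) (tt N12370 F44790))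
theorem Q17895 : ∀ i, i < 17895 → P i := stepQ 17894 Q17894 (allL N17894 (tt N35325 D58248) (tt N35326 D58249) (tt N35327 D58250) (tt N8817 (iv3 D27748)) (tt N35314 (iv4 F91977)) (tt N35328 D58251) (tt N12540 F44791) (tt N35329 D58252))
theorem Q17896 : ∀ i, i < 17896 → P i := stepQ 17895 Q17895 (allL N17895 (tt N23974 (iv1 F57081)) (tt N23995 (iv0 F57126)) (tt N12412 F44792) (tt N35328 (iv3 F92072)) (tt N33578 F313339) (tt N8817 (iv5 D27749)) (tt N25335 (iv6 F60716)) (tt N35330 D58254))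
theorem Q17897 : ∀ i, i < 17897 → P i := stepQ 17896 Q17896 (allL N17896 (tt N12410 (iv1 F44795)) (tt N12409 F44796) (tt N12413 F44793) (tt N35329 (iv3 F92073)) (tt N8818 F44794) (tt N35330 (iv5 F92079)) (tt N35331 D58255) (tt N8817 (iv7 D27750)))
theorem Q17898 : ∀ i, i < 17898 → P i := stepQ 17897 Q17897 (allL N17897 (tt N12546 (iv1 F44801)) (tt N12368 (iv0 F44800)) (tt N12414 F44797) (tt N29468 (iv3 F76352)) (tt N35331 (iv4 F92083)) (tt N12379 F44798) (tt N8818 (iv6 D27751)) (tt N8862 F44799))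
theorem Q17899 : ∀ i, i < 17899 → P i := stepQ 17898 Q17898 (allL N17898 (tt N35332 D58256) (tt N34326 F190562) (tt N10940 F51015) (tt N8821 F44807) (tt N18582 (iv4 F46201)) (tt N8821 F51016) (tt N8819 (iv6 D27753)) (tt N35333 D58258))
theorem Q17900 : ∀ i, i < 17900 → P i := stepQ 17899 Q17899 (allL N17899 (tt N8823 (iv1 F44809)) (tt N8820 (iv0 D27754)) (tt N10924 F44811) (tt N35334 D58259) (tt N16985 F44808) (tt N35335 D58260) (tt N35336 D58261) (tt N10923 (iv7 F44810)))
theorem Q17901 : ∀ i, i < 17901 → P i := stepQ 17900 Q17900 (allL N17900 (tt N8820 (iv1 D27755)) (tt N8823 F44812) (tt N10923 (iv2 F44814)) (tt N34888 F90250) (tt N18504 (iv4 F46088)) (tt N35337 D58262) (tt N35338 D58263) (tt N10924 F44813))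
theorem Q17902 : ∀ i, i < 17902 → P i := stepQ 17901 Q17901 (allL N17901 (tt N34962 F90544) (tt N35339 D58264) (tt N35340 D58265) (tt N8820 (iv3 D27756)) (tt N18580 (iv4 F46199)) (tt N32678 (iv5 F87743)) (tt N35341 D58266) (tt N10925 F44815))
theorem Q17903 : ∀ i, i < 17903 → P i := stepQ 17902 Q17902 (allL N17902 (tt N22208 (iv1 F52726)) (tt N22210 (iv0 F52728)) (tt N10936 F44816) (tt N32678 F87742) (tt N22295 (iv4 F52881)) (tt N8820 (iv5 D27757)) (tt N35342 D58267) (tt N10926 F44817))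
theorem Q17904 : ∀ i, i < 17904 → P i := stepQ 17903 Q17903 (allL N17903 (tt N35343 D58268) (tt N35344 D58269) (tt N10937 F44818) (tt N35341 (iv3 F92123)) (tt N8821 F44819) (tt N35345 D58270) (tt N8820 (iv6 D27758)) (tt N35346 D58271))
theorem Q17905 : ∀ i, i < 17905 → P i := stepQ 17904 Q17904 (allL N17904 (tt N10941 (iv1 F44824)) (tt N8821 (iv0 D27759)) (tt N10938 (iv2 F109751)) (tt N12422 (iv3 F190549)) (tt N35081 (iv4 F190552)) (tt N35347 D58275) (tt N35348 D58276) (tt N10939 (iv7 F109757)))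
theorem Q17906 : ∀ i, i < 17906 → P i := stepQ 17905 Q17905 (allL N17905 (tt N10939 (iv1 F44825)) (tt N10938 F44826) (tt N10941 F44822) (tt N35333 (iv3 F92092)) (tt N35346 (iv4 F92128)) (tt N35333 (iv5 F92093)) (tt N10931 F44823) (tt N8821 (iv7 D27762)))
theorem Q17907 : ∀ i, i < 17907 → P i := stepQ 17906 Q17906 (allL N17906 (tt N10728 (iv1 F44831)) (tt N10893 F44830) (tt N8822 (iv2 D27763)) (tt N10920 F44827) (tt N14285 (iv4 F44832)) (tt N11192 F44828) (tt N35349 D58282) (tt N10932 F44829))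
theorem Q17908 : ∀ i, i < 17908 → P i := stepQ 17907 Q17907 (allL N17907 (tt N14343 F44836) (tt N13018 F44837) (tt N14285 F44833) (tt N35350 D58283) (tt N8822 (iv4 D27764)) (tt N14089 F44835) (tt N35351 D58284) (tt N10933 F44834))
theorem Q17909 : ∀ i, i < 17909 → P i := stepQ 17908 Q17908 (allL N17908 (tt N35352 D58285) (tt N35353 D58286) (tt N35349 (iv2 F92137)) (tt N8824 F44846) (tt N35351 (iv4 F92145)) (tt N35354 D58287) (tt N8822 (iv6 D27765)) (tt N35355 D58288))
theorem Q17910 : ∀ i, i < 17910 → P i := stepQ 17909 Q17909 (allL N17909 (tt N14052 F59413) (tt N34837 (iv0 F89998)) (tt N34959 F90537) (tt N8823 (iv3 D27766)) (tt N35350 (iv4 F92140)) (tt N35356 D58289) (tt N35357 D58290) (tt N10935 F44847))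
theorem Q17911 : ∀ i, i < 17911 → P i := stepQ 17910 Q17910 (allL N17910 (tt N22210 (iv1 F52729)) (tt N22208 (iv0 F52725)) (tt N10926 F44848) (tt N35356 (iv3 F92149)) (tt N35358 D58291) (tt N8823 (iv5 D27767)) (tt N35359 D58292) (tt N10936 F44849))
theorem Q17912 : ∀ i, i < 17912 → P i := stepQ 17911 Q17911 (allL N17911 (tt N25525 F306401) (tt N25674 F306402) (tt N10927 F44850) (tt N35357 (iv3 F92154)) (tt N8824 F44851) (tt N35360 D58295) (tt N8823 (iv6 D27768)) (tt N25672 F306403))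
theorem Q17913 : ∀ i, i < 17913 → P i := stepQ 17912 Q17912 (allL N17912 (tt N8824 (iv1 D27770)) (tt N10931 F44852) (tt N10929 F190736) (tt N12427 (iv3 F190381)) (tt N28713 F305177) (tt N35361 D58305) (tt N35362 D58306) (tt N10928 F190737))
theorem Q17914 : ∀ i, i < 17914 → P i := stepQ 17913 Q17913 (allL N17913 (tt N34298 F190157) (tt N35363 D58308) (tt N10930 F44853) (tt N35354 (iv3 F92146)) (tt N29907 (iv4 F77589)) (tt N8824 (iv5 D27771)) (tt N22848 (iv6 F54520)) (tt N35364 D58309))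
theorem Q17915 : ∀ i, i < 17915 → P i := stepQ 17914 Q17914 (allL N17914 (tt N10929 (iv1 F44857)) (tt N10928 F44858) (tt N10931 F44854) (tt N35355 (iv3 F92147)) (tt N25672 F305176) (tt N35364 (iv5 F92174)) (tt N10941 F44855) (tt N8824 (iv7 D27772)))
theorem Q17916 : ∀ i, i < 17916 → P i := stepQ 17915 Q17915 (allL N17915 (tt N8829 (iv1 F44866)) (tt N8825 (iv0 D27773)) (tt N8826 F190847) (tt N35365 D58311) (tt N35366 D58312) (tt N35367 D58313) (tt N35368 D58314) (tt N8827 F190848))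
theorem Q17917 : ∀ i, i < 17917 → P i := stepQ 17916 Q17916 (allL N17916 (tt N8825 (iv1 D27774)) (tt N8829 F44859) (tt N8827 (iv2 F190840)) (tt N35369 D58316) (tt N35370 D58317) (tt N35371 D58318) (tt N35372 D58319) (tt N8826 (iv7 F190846)))
theorem Q17918 : ∀ i, i < 17918 → P i := stepQ 17917 Q17917 (allL N17917 (tt N35373 D58320) (tt N35374 D58321) (tt N8828 F44860) (tt N11126 F314328) (tt N35375 D58322) (tt N8825 (iv5 D27775)) (tt N10851 F44862) (tt N35376 D58323))
theorem Q17919 : ∀ i, i < 17919 → P i := stepQ 17918 Q17918 (allL N17918 (tt N8827 (iv1 F44867)) (tt N8826 F44868) (tt N8829 F44863) (tt N12432 F44864) (tt N35094 (iv4 F90834)) (tt N35376 (iv5 F92187)) (tt N10919 F44865) (tt N8825 (iv7 D27776)))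
theorem Q17920 : ∀ i, i < 17920 → P i := stepQ 17919 Q17919 (allL N17919 (tt N35377 D58330) (tt N20276 F311940) (tt N35378 D58332) (tt N8826 (iv3 D27778)) (tt N35379 D58333) (tt N22757 F311941) (tt N35380 D58335) (tt N35369 (iv7 F190841)))
theorem Q17921 : ∀ i, i < 17921 → P i := stepQ 17920 Q17920 (allL N17920 (tt N35381 D58337) (tt N35338 F199718) (tt N35366 (iv2 F190850)) (tt N35382 D58339) (tt N8826 (iv4 D27779)) (tt N35383 D58340) (tt N25630 F307012) (tt N35370 (iv7 F190843)))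
theorem Q17922 : ∀ i, i < 17922 → P i := stepQ 17921 Q17921 (allL N17921 (tt N35384 D58343) (tt N35385 D58344) (tt N35367 (iv2 F190852)) (tt N22757 F311939) (tt N35386 D58345) (tt N8826 (iv5 D27780)) (tt N35387 D58346) (tt N35371 (iv7 F190845)))
theorem Q17923 : ∀ i, i < 17923 → P i := stepQ 17922 Q17922 (allL N17922 (tt N35362 F190780) (tt N25219 F190781) (tt N35368 (iv2 F190854)) (tt N35380 (iv3 F92200)) (tt N25630 (iv4 F305066)) (tt N35388 D58350) (tt N8826 (iv6 D27781)) (tt N35389 D58351))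
theorem Q17924 : ∀ i, i < 17924 → P i := stepQ 17923 Q17923 (allL N17923 (tt N21760 (iv1 F232423)) (tt N35390 D58354) (tt N35391 D58355) (tt N8827 (iv3 D27783)) (tt N35392 D58356) (tt N35393 D58357) (tt N35394 D58358) (tt N35365 (iv7 F190849)))
theorem Q17925 : ∀ i, i < 17925 → P i := stepQ 17924 Q17924 (allL N17924 (tt N35338 F199719) (tt N35381 F92206) (tt N35370 (iv2 F190842)) (tt N35395 D58359) (tt N8827 (iv4 D27784)) (tt N35396 D58360) (tt N35397 D58361) (tt N35366 (iv7 F190851)))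
theorem Q17926 : ∀ i, i < 17926 → P i := stepQ 17925 Q17925 (allL N17925 (tt N35385 (iv1 F92207)) (tt N35384 F92210) (tt N35371 (iv2 F190844)) (tt N35393 (iv3 F92214)) (tt N35398 D58362) (tt N8827 (iv5 D27785)) (tt N35399 D58363) (tt N35367 (iv7 F190853)))
theorem Q17927 : ∀ i, i < 17927 → P i := stepQ 17926 Q17926 (allL N17926 (tt N24339 F190653) (tt N35348 (iv0 F190674)) (tt N35372 (iv2 F190838)) (tt N35394 (iv3 F92215)) (tt N35397 (iv4 F92216)) (tt N35400 D58366) (tt N8827 (iv6 D27786)) (tt N35401 D58367))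
theorem Q17928 : ∀ i, i < 17928 → P i := stepQ 17927 Q17927 (allL N17927 (tt N35376 (iv1 F92190)) (tt N8828 (iv0 D27787)) (tt N35373 (iv2 F155561)) (tt N20272 F311274) (tt N35402 D58370) (tt N35403 D58371) (tt N20671 F320517) (tt N35374 (iv7 F155559)))
theorem Q17929 : ∀ i, i < 17929 → P i := stepQ 17928 Q17928 (allL N17928 (tt N8828 (iv1 D27788)) (tt N35376 F92189) (tt N35374 (iv2 F155558)) (tt N35404 D58374) (tt N35405 D58375) (tt N35406 D58376) (tt N35407 D58377) (tt N35373 (iv7 F155562)))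
theorem Q17930 : ∀ i, i < 17930 → P i := stepQ 17929 Q17929 (allL N17929 (tt N35408 D58378) (tt N35409 D58379) (tt N35375 (iv2 F92183)) (tt N30764 (iv3 F317011)) (tt N8828 (iv4 D27789)) (tt N35410 D58381) (tt N10970 F44871) (tt N35411 D58382))
theorem Q17931 : ∀ i, i < 17931 → P i := stepQ 17930 Q17930 (allL N17930 (tt N35374 (iv1 F92181)) (tt N35373 F92188) (tt N35376 (iv2 F92185)) (tt N8839 F44872) (tt N35411 (iv4 F92222)) (tt N8829 F44873) (tt N35412 D58383) (tt N8828 (iv7 D27790)))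
theorem Q17932 : ∀ i, i < 17932 → P i := stepQ 17931 Q17931 (allL N17931 (tt N12454 (iv1 F44874)) (tt N8830 (iv0 D27791)) (tt N12453 (iv2 F133070)) (tt N35390 F133069) (tt N35413 D58386) (tt N35414 D58387) (tt N11004 F210888) (tt N10734 (iv7 F232300)))
theorem Q17933 : ∀ i, i < 17933 → P i := stepQ 17932 Q17932 (allL N17932 (tt N12453 (iv1 F44879)) (tt N10734 F232339) (tt N8830 (iv2 D27793)) (tt N12443 F44875) (tt N35415 D58394) (tt N35416 D58395) (tt N35415 (iv6 F305199)) (tt N12454 F44876))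
theorem Q17934 : ∀ i, i < 17934 → P i := stepQ 17933 Q17933 (allL N17933 (tt N35417 D58397) (tt N34307 F199772) (tt N35415 (iv2 F92229)) (tt N8832 F302834) (tt N8830 (iv4 D27794)) (tt N23075 (iv5 F305200)) (tt N8830 F302835) (tt N12455 F44880))
theorem Q17935 : ∀ i, i < 17935 → P i := stepQ 17934 Q17934 (allL N17934 (tt N35418 D58401) (tt N35419 D58402) (tt N35416 (iv2 F92233)) (tt N8831 F44881) (tt N35420 D58403) (tt N8830 (iv5 D27795)) (tt N35421 D58404) (tt N12456 F44882))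
theorem Q17936 : ∀ i, i < 17936 → P i := stepQ 17935 Q17935 (allL N17935 (tt N8834 (iv1 F44885)) (tt N8831 (iv0 D27797)) (tt N12447 (iv2 F44887)) (tt N35422 D58408) (tt N35423 D58409) (tt N17093 F44884) (tt N35424 D58410) (tt N12448 (iv7 F44888)))
theorem Q17937 : ∀ i, i < 17937 → P i := stepQ 17936 Q17936 (allL N17936 (tt N8831 (iv1 D27798)) (tt N8834 F44889) (tt N12448 (iv2 F44891)) (tt N35385 (iv3 F190640)) (tt N35425 D58412) (tt N22029 (iv5 F52385)) (tt N34365 F87384) (tt N12447 F44890))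
theorem Q17938 : ∀ i, i < 17938 → P i := stepQ 17937 Q17937 (allL N17937 (tt N25208 (iv1 F60479)) (tt N25211 (iv0 F60483)) (tt N12449 F44892) (tt N35426 D58413) (tt N8831 (iv4 D27799)) (tt N25148 (iv5 F60362)) (tt N35427 D58414) (tt N12458 F44893))
theorem Q17939 : ∀ i, i < 17939 → P i := stepQ 17938 Q17938 (allL N17938 (tt N35428 D58415) (tt N35429 D58416) (tt N12450 F44894) (tt N35421 (iv3 F92248)) (tt N35427 (iv4 F92268)) (tt N23077 (iv5 F54949)) (tt N8831 (iv6 D27800)) (tt N35430 D58417))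
theorem Q17940 : ∀ i, i < 17940 → P i := stepQ 17939 Q17939 (allL N17939 (tt N8833 (iv1 D27803)) (tt N12443 F44905) (tt N12442 F199640) (tt N35377 (iv3 F199642)) (tt N35431 D58425) (tt N20267 (iv5 F313576)) (tt N11015 (iv6 F199891)) (tt N10801 F199861))
theorem Q17941 : ∀ i, i < 17941 → P i := stepQ 17940 Q17940 (allL N17940 (tt N10801 (iv1 F199857)) (tt N12442 F44904) (tt N8833 (iv2 D27804)) (tt N12454 F44902) (tt N35432 D58428) (tt N22771 F312284) (tt N35433 D58430) (tt N12443 F44903))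
theorem Q17942 : ∀ i, i < 17942 → P i := stepQ 17941 Q17941 (allL N17941 (tt N34278 (iv1 F155139)) (tt N35434 D58432) (tt N35432 (iv2 F92278)) (tt N25365 (iv3 F60809)) (tt N8833 (iv4 D27805)) (tt N35435 D58433) (tt N35436 D58434) (tt N12444 F44907))
theorem Q17943 : ∀ i, i < 17943 → P i := stepQ 17942 Q17942 (allL N17942 (tt N15298 F311904) (tt N22772 F311905) (tt N22771 (iv2 F316049)) (tt N8834 F44908) (tt N35437 D58437) (tt N8833 (iv5 D27806)) (tt N33549 F318439) (tt N12445 F44909))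
theorem Q17944 : ∀ i, i < 17944 → P i := stepQ 17943 Q17943 (allL N17943 (tt N35438 D58439) (tt N35439 D58440) (tt N35433 (iv2 F92287)) (tt N8835 F44910) (tt N35436 (iv4 F92292)) (tt N33366 (iv5 F316289)) (tt N8833 (iv6 D27807)) (tt N35440 D58442))
theorem Q17945 : ∀ i, i < 17945 → P i := stepQ 17944 Q17944 (allL N17944 (tt N25211 (iv1 F60484)) (tt N25208 (iv0 F60478)) (tt N12458 F44911) (tt N35441 D58443) (tt N8834 (iv4 D27808)) (tt N34560 (iv5 F87845)) (tt N35442 D58444) (tt N12449 F44912))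
theorem Q17946 : ∀ i, i < 17946 → P i := stepQ 17945 Q17945 (allL N17945 (tt N10274 F318337) (tt N33554 F318338) (tt N12459 F44913) (tt N33549 (iv3 F320587)) (tt N35442 (iv4 F92302)) (tt N33367 F318340) (tt N8834 (iv6 D27809)) (tt N33552 F318341))
theorem Q17947 : ∀ i, i < 17947 → P i := stepQ 17946 Q17946 (allL N17946 (tt N10996 (iv1 F44920)) (tt N12460 F44921) (tt N12461 F44917) (tt N35440 (iv3 F92298)) (tt N11692 F44918) (tt N10083 (iv5 F316161)) (tt N12452 F44919) (tt N8835 (iv7 D27811)))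
theorem Q17948 : ∀ i, i < 17948 → P i := stepQ 17947 Q17947 (allL N17947 (tt N35414 (iv1 F200359)) (tt N20284 F312288) (tt N35443 D58451) (tt N8836 (iv3 D27813)) (tt N35444 D58452) (tt N34552 F306045) (tt N20716 F320541) (tt N12466 (iv7 F51302)))
theorem Q17949 : ∀ i, i < 17949 → P i := stepQ 17948 Q17948 (allL N17948 (tt N25202 (iv1 F60465)) (tt N18623 (iv0 F46266)) (tt N12463 F51310) (tt N35445 D58455) (tt N8836 (iv4 D27814)) (tt N34558 (iv5 F87839)) (tt N35446 D58456) (tt N12467 (iv7 F51303)))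
theorem Q17950 : ∀ i, i < 17950 → P i := stepQ 17949 Q17949 (allL N17949 (tt N25139 (iv1 F60349)) (tt N10787 F44924) (tt N12464 F51306) (tt N34552 (iv3 F303948)) (tt N11946 F301189) (tt N8836 (iv5 D27815)) (tt N34047 F86549) (tt N11208 (iv7 F51304)))
theorem Q17951 : ∀ i, i < 17951 → P i := stepQ 17950 Q17950 (allL N17950 (tt N16761 F319058) (tt N35447 D58458) (tt N12465 (iv2 F51313)) (tt N20716 F319059) (tt N35446 (iv4 F92331)) (tt N20750 (iv5 F313564)) (tt N8836 (iv6 D27816)) (tt N35448 D58459))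
theorem Q17952 : ∀ i, i < 17952 → P i := stepQ 17951 Q17951 (allL N17951 (tt N11123 (iv1 F313577)) (tt N20267 (iv0 F313575)) (tt N20266 (iv2 F311902)) (tt N8837 (iv3 D27818)) (tt N35449 D58463) (tt N34449 F87559) (tt N35450 D58464) (tt N12462 F51314))
theorem Q17953 : ∀ i, i < 17953 → P i := stepQ 17952 Q17952 (allL N17952 (tt N18623 (iv1 F46267)) (tt N25202 (iv0 F60464)) (tt N12467 (iv2 F51312)) (tt N35451 D58465) (tt N8837 (iv4 D27819)) (tt N34554 (iv5 F87826)) (tt N24983 F313768) (tt N12463 F51311))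
theorem Q17954 : ∀ i, i < 17954 → P i := stepQ 17953 Q17953 (allL N17953 (tt N35452 D58467) (tt N35453 D58468) (tt N12468 F51315) (tt N35450 (iv3 F92346)) (tt N24983 F311390) (tt N21725 (iv5 F311619)) (tt N8837 (iv6 D27820)) (tt N35454 D58469))
theorem Q17955 : ∀ i, i < 17955 → P i := stepQ 17954 Q17954 (allL N17954 (tt N12473 (iv1 F44927)) (tt N8838 (iv0 D27821)) (tt N12469 (iv2 F46257)) (tt N35455 D58470) (tt N12655 F44926) (tt N34578 (iv5 F87961)) (tt N18332 (iv6 F316894)) (tt N12470 F46258))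
theorem Q17956 : ∀ i, i < 17956 → P i := stepQ 17955 Q17955 (allL N17955 (tt N8838 (iv1 D27822)) (tt N12473 F44928) (tt N12470 F46256) (tt N15216 (iv3 F313738)) (tt N12656 (iv4 F44966)) (tt N34573 (iv5 F87903)) (tt N34639 (iv6 F313739)) (tt N12469 (iv7 F46255)))
theorem Q17957 : ∀ i, i < 17957 → P i := stepQ 17956 Q17956 (allL N17956 (tt N35456 D58474) (tt N35457 D58475) (tt N35458 D58476) (tt N8838 (iv3 D27823)) (tt N30764 (iv4 F317012)) (tt N35459 D58477) (tt N11040 F44929) (tt N35460 D58478))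
theorem Q17958 : ∀ i, i < 17958 → P i := stepQ 17957 Q17957 (allL N17957 (tt N25218 (iv1 F60492)) (tt N34562 F87853) (tt N12472 F44930) (tt N35459 (iv3 F92369)) (tt N11326 F44931) (tt N8838 (iv5 D27824)) (tt N35461 D58479) (tt N11325 F44932))
theorem Q17959 : ∀ i, i < 17959 → P i := stepQ 17958 Q17958 (allL N17958 (tt N12470 (iv1 F44936)) (tt N12469 F44937) (tt N12473 F44933) (tt N35460 (iv3 F92371)) (tt N8839 F44934) (tt N11325 F44935) (tt N35462 D58480) (tt N8838 (iv7 D27825)))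
theorem Q17960 : ∀ i, i < 17960 → P i := stepQ 17959 Q17959 (allL N17959 (tt N33812 (iv1 F85703)) (tt N33811 F85702) (tt N12474 F44938) (tt N35412 (iv3 F92223)) (tt N35462 (iv4 F92377)) (tt N10466 F44939) (tt N8839 (iv6 D27826)) (tt N10469 F44940))
theorem Q17961 : ∀ i, i < 17961 → P i := stepQ 17960 Q17960 (allL N17960 (tt N25468 F61130) (tt N34781 (iv0 F117193)) (tt N12501 F61276) (tt N27953 (iv3 F117215)) (tt N8840 (iv4 D27829)) (tt N35463 D58483) (tt N12402 F300097) (tt N12066 (iv7 F117187)))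
theorem Q17962 : ∀ i, i < 17962 → P i := stepQ 17961 Q17961 (allL N17961 (tt N12502 (iv1 F44952)) (tt N8841 (iv0 D27839)) (tt N12504 F91426) (tt N35464 D58501) (tt N24347 F91427) (tt N35465 D58502) (tt N34901 F301588) (tt N12385 F91428))
theorem Q17963 : ∀ i, i < 17963 → P i := stepQ 17962 Q17962 (allL N17962 (tt N35466 D58503) (tt N25623 F232488) (tt N35467 D58505) (tt N8841 (iv3 D27841)) (tt N8843 F44954) (tt N35468 D58506) (tt N25248 (iv6 F60592)) (tt N12505 F44955))
theorem Q17964 : ∀ i, i < 17964 → P i := stepQ 17963 Q17963 (allL N17963 (tt N35469 D58507) (tt N35470 D58508) (tt N35194 (iv2 F301826)) (tt N35468 (iv3 F92438)) (tt N30989 F337481) (tt N8841 (iv5 D27842)) (tt N30988 (iv6 F337484)) (tt N12506 F44956))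
theorem Q17965 : ∀ i, i < 17965 → P i := stepQ 17964 Q17964 (allL N17964 (tt N35471 D58525) (tt N35472 D58526) (tt N35473 D58527) (tt N8842 (iv3 D27846)) (tt N35474 D58528) (tt N35475 D58529) (tt N9160 F44960) (tt N9161 F44961))
theorem Q17966 : ∀ i, i < 17966 → P i := stepQ 17965 Q17965 (allL N17965 (tt N12656 F44964) (tt N12655 F44965) (tt N12486 F44962) (tt N35475 (iv3 F92463)) (tt N25166 (iv4 F60386)) (tt N8842 (iv5 D27847)) (tt N35476 D58530) (tt N9169 F44963))
theorem Q17967 : ∀ i, i < 17967 → P i := stepQ 17966 Q17966 (allL N17966 (tt N12511 (iv1 F44967)) (tt N8843 (iv0 D27848)) (tt N12510 (iv2 F131838)) (tt N35477 D58532) (tt N28781 (iv4 F155129)) (tt N30656 F313761) (tt N29811 F184614) (tt N10550 F155110))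
theorem Q17968 : ∀ i, i < 17968 → P i := stepQ 17967 Q17967 (allL N17967 (tt N12510 (iv1 F44972)) (tt N10550 F155108) (tt N8843 (iv2 D27850)) (tt N12487 F44968) (tt N35467 (iv4 F92434)) (tt N19247 (iv5 F311456)) (tt N25268 (iv6 F60610)) (tt N12511 F44969))
theorem Q17969 : ∀ i, i < 17969 → P i := stepQ 17968 Q17968 (allL N17968 (tt N35478 D58542) (tt N35479 D58543) (tt N19247 F312673) (tt N8844 F44973) (tt N35480 D58544) (tt N8843 (iv5 D27851)) (tt N35481 D58545) (tt N12512 F44974))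
theorem Q17970 : ∀ i, i < 17970 → P i := stepQ 17969 Q17969 (allL N17969 (tt N8851 (iv1 F44976)) (tt N8844 (iv0 D27852)) (tt N12489 (iv2 F44977)) (tt N35482 D58546) (tt N25140 (iv4 F60353)) (tt N11994 F301187) (tt N35483 D58547) (tt N12490 (iv7 F44978)))
theorem Q17971 : ∀ i, i < 17971 → P i := stepQ 17970 Q17970 (allL N17970 (tt N8844 (iv1 D27853)) (tt N8851 F44979) (tt N12490 (iv2 F44981)) (tt N35484 D58548) (tt N25141 (iv4 F60356)) (tt N21824 (iv5 F51979)) (tt N34393 F87451) (tt N12489 F44980))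
theorem Q17972 : ∀ i, i < 17972 → P i := stepQ 17971 Q17971 (allL N17971 (tt N35423 (iv1 F92258)) (tt N35425 (iv0 F92264)) (tt N12491 F44982) (tt N35485 D58549) (tt N8844 (iv4 D27854)) (tt N25218 (iv5 F60490)) (tt N35486 D58550) (tt N12514 F44983))
theorem Q17973 : ∀ i, i < 17973 → P i := stepQ 17972 Q17972 (allL N17972 (tt N35487 D58551) (tt N35488 D58552) (tt N12492 F44984) (tt N35481 (iv3 F92480)) (tt N35486 (iv4 F92488)) (tt N25270 (iv5 F60613)) (tt N8844 (iv6 D27855)) (tt N35489 D58553))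
theorem Q17974 : ∀ i, i < 17974 → P i := stepQ 17973 Q17973 (allL N17973 (tt N35490 D58554) (tt N21609 (iv0 F155203)) (tt N35491 D58556) (tt N8845 (iv3 D27856)) (tt N17814 (iv4 F301732)) (tt N35492 D58557) (tt N25261 (iv6 F60604)) (tt N12518 F44985))
theorem Q17975 : ∀ i, i < 17975 → P i := stepQ 17974 Q17974 (allL N17974 (tt N21527 (iv1 F51455)) (tt N10672 F44988) (tt N12499 F44986) (tt N35492 (iv3 F92504)) (tt N34562 (iv4 F87851)) (tt N8845 (iv5 D27857)) (tt N35493 D58558) (tt N12519 F44987))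
theorem Q17976 : ∀ i, i < 17976 → P i := stepQ 17975 Q17975 (allL N17975 (tt N10888 (iv1 F309743)) (tt N9348 (iv0 F309744)) (tt N12475 F61089) (tt N22806 (iv3 F309655)) (tt N8846 (iv4 D27865)) (tt N9490 (iv5 F310613)) (tt N25427 (iv6 F297736)) (tt N12013 F116741))
theorem Q17977 : ∀ i, i < 17977 → P i := stepQ 17976 Q17976 (allL N17976 (tt N12342 (iv1 F59763)) (tt N12478 F44994) (tt N8848 F44991) (tt N35494 D58574) (tt N8847 (iv4 D27868)) (tt N18509 F310449) (tt N35495 D58576) (tt N12476 F44992))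
theorem Q17978 : ∀ i, i < 17978 → P i := stepQ 17977 Q17977 (allL N17977 (tt N24258 (iv1 F116807)) (tt N12353 (iv0 F116808)) (tt N8849 F44995) (tt N12503 F44996) (tt N35495 (iv4 F92542)) (tt N24323 (iv5 F116764)) (tt N8847 (iv6 D27869)) (tt N24323 (iv7 F116766)))
theorem Q17979 : ∀ i, i < 17979 → P i := stepQ 17978 Q17978 (allL N17978 (tt N35496 D58588) (tt N34757 F298452) (tt N35495 (iv2 F92541)) (tt N21004 F311170) (tt N8849 F45002) (tt N21661 (iv5 F311466)) (tt N8848 (iv6 D27874)) (tt N25195 (iv7 F60446)))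
theorem Q17980 : ∀ i, i < 17980 → P i := stepQ 17979 Q17979 (allL N17979 (tt N9907 (iv1 F311359)) (tt N9899 (iv0 F311031)) (tt N8850 (iv2 D27879)) (tt N12511 F45004) (tt N9551 F309158) (tt N11089 (iv5 F309323)) (tt N35497 D58612) (tt N12487 F45005))
theorem Q17981 : ∀ i, i < 17981 → P i := stepQ 17980 Q17980 (allL N17980 (tt N35498 D58617) (tt N33856 (iv0 F199771)) (tt N35497 (iv2 F92580)) (tt N8852 F45011) (tt N21004 F311171) (tt N20632 (iv5 F319578)) (tt N8850 (iv6 D27881)) (tt N25226 (iv7 F60534)))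
theorem Q17982 : ∀ i, i < 17982 → P i := stepQ 17981 Q17981 (allL N17981 (tt N35425 (iv1 F92265)) (tt N35423 (iv0 F92257)) (tt N12514 F45012) (tt N20898 (iv3 F316119)) (tt N8851 (iv4 D27882)) (tt N34562 (iv5 F87850)) (tt N35499 D58621) (tt N12491 F45013))
theorem Q17983 : ∀ i, i < 17983 → P i := stepQ 17982 Q17982 (allL N17982 (tt N16699 F318515) (tt N20506 F318516) (tt N12515 F45014) (tt N10280 F313903) (tt N35499 (iv4 F92589)) (tt N20633 F318517) (tt N8851 (iv6 D27883)) (tt N20500 (iv7 F316345)))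
theorem Q17984 : ∀ i, i < 17984 → P i := stepQ 17983 Q17983 (allL N17983 (tt N12534 (iv1 F45021)) (tt N12533 F45020) (tt N12520 F45018) (tt N35500 D58626) (tt N8853 (iv4 D27885)) (tt N33787 (iv5 F85629)) (tt N23434 (iv6 F55907)) (tt N8860 F45019))
theorem Q17985 : ∀ i, i < 17985 → P i := stepQ 17984 Q17984 (allL N17984 (tt N8854 (iv1 D27892)) (tt N8857 F45032) (tt N12524 F45035) (tt N12395 (iv3 F298650)) (tt N35501 D58651) (tt N17431 (iv5 F45034)) (tt N12546 F45036) (tt N12366 F45033))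
theorem Q17986 : ∀ i, i < 17986 → P i := stepQ 17985 Q17985 (allL N17985 (tt N23670 F56361) (tt N23938 F301059) (tt N12525 F45037) (tt N35502 D58653) (tt N8854 (iv4 D27893)) (tt N35503 D58654) (tt N35504 D58655) (tt N12527 F45038))
theorem Q17987 : ∀ i, i < 17987 → P i := stepQ 17986 Q17986 (allL N17986 (tt N12406 F45040) (tt N35278 (iv0 F91864)) (tt N12526 F45039) (tt N35031 (iv3 F299814)) (tt N35504 (iv4 F92647)) (tt N23122 (iv5 F55007)) (tt N8854 (iv6 D27894)) (tt N26767 (iv7 F67525)))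
theorem Q17988 : ∀ i, i < 17988 → P i := stepQ 17987 Q17987 (allL N17987 (tt N12340 (iv1 F121781)) (tt N17576 (iv0 F296889)) (tt N12619 (iv2 F296496)) (tt N20232 F308473) (tt N8856 (iv4 D27898)) (tt N20230 (iv5 F308478)) (tt N12591 F296467) (tt N12521 F45047))
theorem Q17989 : ∀ i, i < 17989 → P i := stepQ 17988 Q17988 (allL N17988 (tt N31308 F325180) (tt N24332 (iv0 F126044)) (tt N25510 (iv2 F296307)) (tt N8857 F45048) (tt N35505 D58675) (tt N8856 (iv5 D27899)) (tt N12885 F296074) (tt N12522 F45049))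
theorem Q17990 : ∀ i, i < 17990 → P i := stepQ 17989 Q17989 (allL N17989 (tt N23938 (iv1 F299799)) (tt N23670 F56362) (tt N12527 F45051) (tt N35506 D58678) (tt N8857 (iv4 D27901)) (tt N19307 F318188) (tt N19308 (iv6 F320375)) (tt N12525 F45052))
theorem Q17991 : ∀ i, i < 17991 → P i := stepQ 17990 Q17990 (allL N17990 (tt N12403 F298744) (tt N12073 (iv0 F117295)) (tt N34773 (iv2 F117293)) (tt N8858 (iv3 D27902)) (tt N35507 D58682) (tt N23409 (iv5 F301413)) (tt N35508 D58683) (tt N12531 F45053))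
theorem Q17992 : ∀ i, i < 17992 → P i := stepQ 17991 Q17991 (allL N17991 (tt N23643 (iv1 F56310)) (tt N11736 F45064) (tt N12529 F45054) (tt N35509 D58684) (tt N8858 (iv4 D27903)) (tt N23561 F318944) (tt N23563 (iv6 F321015)) (tt N12532 F45055))
theorem Q17993 : ∀ i, i < 17993 → P i := stepQ 17992 Q17992 (allL N17992 (tt N35510 D58687) (tt N35511 D58688) (tt N12530 F45057) (tt N35508 (iv3 F92699)) (tt N23563 F322031) (tt N11765 F45058) (tt N8858 (iv6 D27904)) (tt N34681 (iv7 F88562)))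
theorem Q17994 : ∀ i, i < 17994 → P i := stepQ 17993 Q17993 (allL N17993 (tt N12005 (iv1 F116795)) (tt N27708 (iv0 F116784)) (tt N27706 (iv2 F116699)) (tt N8859 (iv3 D27905)) (tt N35512 D58691) (tt N11331 F45059) (tt N35305 (iv6 F117000)) (tt N12528 F45060))
theorem Q17995 : ∀ i, i < 17995 → P i := stepQ 17994 Q17994 (allL N17994 (tt N11736 F45063) (tt N23643 F56309) (tt N12532 F45061) (tt N35513 D58692) (tt N8859 (iv4 D27906)) (tt N35514 D58693) (tt N23972 F57080) (tt N12529 F45062))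
theorem Q17996 : ∀ i, i < 17996 → P i := stepQ 17995 Q17995 (allL N17995 (tt N12520 (iv1 F45066)) (tt N8860 (iv0 D27907)) (tt N12533 F51274) (tt N35515 D58694) (tt N11676 F45065) (tt N23578 F318949) (tt N23579 (iv6 F321020)) (tt N12534 F51272))
theorem Q17997 : ∀ i, i < 17997 → P i := stepQ 17996 Q17996 (allL N17996 (tt N8860 (iv1 D27908)) (tt N12520 F45067) (tt N12534 (iv2 F51273)) (tt N35516 D58697) (tt N11677 F45068) (tt N35517 D58698) (tt N34735 (iv6 F88904)) (tt N12533 (iv7 F51275)))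
theorem Q17998 : ∀ i, i < 17998 → P i := stepQ 17997 Q17997 (allL N17997 (tt N35518 D58699) (tt N35519 D58700) (tt N35520 D58701) (tt N8860 (iv3 D27909)) (tt N35218 (iv4 F91636)) (tt N35521 D58702) (tt N8866 F45069) (tt N35500 (iv7 F92606)))
theorem Q17999 : ∀ i, i < 17999 → P i := stepQ 17998 Q17998 (allL N17998 (tt N35522 D58703) (tt N18842 (iv0 F315384)) (tt N12536 F45070) (tt N35521 (iv3 F92743)) (tt N19441 F314135) (tt N8860 (iv5 D27910)) (tt N23126 (iv6 F55011)) (tt N33787 F85632))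
theorem Q18000 : ∀ i, i < 18000 → P i := stepQ 17999 Q17999 (allL N17999 (tt N35523 D58705) (tt N35524 D58706) (tt N35525 D58707) (tt N8861 (iv3 D27911)) (tt N29464 (iv4 F76343)) (tt N12573 F45071) (tt N35526 D58708) (tt N12540 F45072))
theorem Q18001 : ∀ i, i < 18001 → P i := stepQ 18000 Q18000 (allL N18000 (tt N23693 F56404) (tt N24062 F60699) (tt N12545 F45073) (tt N35526 (iv3 F92772)) (tt N8862 F45074) (tt N35286 (iv5 F91899)) (tt N8861 (iv6 D27912)) (tt N35331 (iv7 F92084)))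
theorem Q18002 : ∀ i, i < 18002 → P i := stepQ 18001 Q18001 (allL N18001 (tt N8862 (iv1 D27913)) (tt N12414 F45075) (tt N12546 F45079) (tt N15553 (iv3 F323106)) (tt N31278 (iv4 F321470)) (tt N12406 (iv5 F45077)) (tt N12524 (iv6 F45078)) (tt N12368 F45076))
theorem Q18003 : ∀ i, i < 18003 → P i := stepQ 18002 Q18002 (allL N18002 (tt N13642 F45081) (tt N23942 (iv0 F56942)) (tt N27636 F70735) (tt N35527 D58710) (tt N8863 (iv4 D27914)) (tt N35528 D58711) (tt N18140 F323107) (tt N11232 F45080))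
theorem Q18004 : ∀ i, i < 18004 → P i := stepQ 18003 Q18003 (allL N18003 (tt N35529 D58715) (tt N35530 D58716) (tt N35531 D58717) (tt N8864 (iv3 D27916)) (tt N35527 (iv4 F92776)) (tt N11243 F45084) (tt N35532 D58718) (tt N11233 F45085))
theorem Q18005 : ∀ i, i < 18005 → P i := stepQ 18004 Q18004 (allL N18004 (tt N31951 (iv1 F317192)) (tt N31948 (iv0 F317187)) (tt N12550 F45086) (tt N35532 (iv3 F92789)) (tt N8865 F45087) (tt N25058 (iv5 F60233)) (tt N8864 (iv6 D27917)) (tt N24995 (iv7 F60085)))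
theorem Q18006 : ∀ i, i < 18006 → P i := stepQ 18005 Q18005 (allL N18005 (tt N12553 (iv1 F45088)) (tt N8865 (iv0 D27918)) (tt N12551 F132023) (tt N35230 F254963) (tt N23790 F88503) (tt N35533 D58721) (tt N25342 (iv6 F60728)) (tt N12552 F132024))
theorem Q18007 : ∀ i, i < 18007 → P i := stepQ 18006 Q18006 (allL N18006 (tt N8865 (iv1 D27919)) (tt N12553 F45089) (tt N12552 (iv2 F132017)) (tt N15574 (iv3 F321450)) (tt N23791 (iv4 F88501)) (tt N25339 (iv5 F60724)) (tt N35510 (iv6 F92707)) (tt N12551 (iv7 F132020)))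
theorem Q18008 : ∀ i, i < 18008 → P i := stepQ 18007 Q18007 (allL N18007 (tt N23437 (iv1 F55914)) (tt N8866 (iv0 D27920)) (tt N23436 F254324) (tt N35534 D58725) (tt N35535 D58726) (tt N23820 F254073) (tt N35536 D58728) (tt N23435 F254325))
theorem Q18009 : ∀ i, i < 18009 → P i := stepQ 18008 Q18008 (allL N18008 (tt N8866 (iv1 D27921)) (tt N23437 F55916) (tt N23435 (iv2 F254322)) (tt N35537 D58730) (tt N35538 D58731) (tt N23821 F254077) (tt N35539 D58733) (tt N23436 (iv7 F254323)))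
theorem Q18010 : ∀ i, i < 18010 → P i := stepQ 18009 Q18009 (allL N18009 (tt N23436 (iv1 F55915)) (tt N23435 F55910) (tt N8866 (iv2 D27922)) (tt N12558 F45090) (tt N35238 (iv4 F91664)) (tt N23129 (iv5 F55013)) (tt N35520 (iv6 F92742)) (tt N23437 (iv7 F55913)))
theorem Q18011 : ∀ i, i < 18011 → P i := stepQ 18010 Q18010 (allL N18010 (tt N31739 F81261) (tt N8906 F45094) (tt N15260 F45091) (tt N9631 F45092) (tt N15996 F45095) (tt N8867 (iv5 D27923)) (tt N15261 F45093) (tt N20428 (iv7 F49274)))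
theorem Q18012 : ∀ i, i < 18012 → P i := stepQ 18011 Q18011 (allL N18011 (tt N31293 (iv1 F80350)) (tt N20840 (iv0 F49675)) (tt N15269 F45096) (tt N18657 (iv3 F46362)) (tt N35540 D58734) (tt N8868 (iv5 D27924)) (tt N35541 D58735) (tt N19671 (iv7 F48125)))
theorem Q18013 : ∀ i, i < 18013 → P i := stepQ 18012 Q18012 (allL N18012 (tt N16107 (iv1 F45102)) (tt N16109 (iv0 F45101)) (tt N15270 F45097) (tt N9990 F45098) (tt N9749 F45099) (tt N15759 F45100) (tt N8868 (iv6 D27925)) (tt N18065 (iv7 F45243)))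
theorem Q18014 : ∀ i, i < 18014 → P i := stepQ 18013 Q18013 (allL N18013 (tt N20840 (iv1 F49674)) (tt N31293 (iv0 F80349)) (tt N19671 (iv2 F48123)) (tt N15265 F45103) (tt N35542 D58736) (tt N8869 (iv5 D27926)) (tt N35543 D58737) (tt N15269 F45104))
theorem Q18015 : ∀ i, i < 18015 → P i := stepQ 18014 Q18014 (allL N18014 (tt N19184 (iv1 F47023)) (tt N8870 (iv0 D27927)) (tt N15284 (iv2 F45109)) (tt N19652 (iv3 F48064)) (tt N9766 F46393) (tt N18681 (iv5 F46392)) (tt N35544 D58738) (tt N19677 (iv7 F48139)))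
theorem Q18016 : ∀ i, i < 18016 → P i := stepQ 18015 Q18015 (allL N18015 (tt N8870 (iv1 D27928)) (tt N19184 (iv0 F47022)) (tt N19677 (iv2 F48137)) (tt N9013 F45106) (tt N9767 F45108) (tt N9006 (iv5 F45105)) (tt N35545 D58739) (tt N15284 (iv7 F45107)))
theorem Q18017 : ∀ i, i < 18017 → P i := stepQ 18016 Q18016 (allL N18016 (tt N19857 (iv1 F48449)) (tt N16613 F45111) (tt N19949 F48626) (tt N35546 D58740) (tt N8870 (iv4 D27929)) (tt N35547 D58741) (tt N15711 F45110) (tt N19948 F48623))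
theorem Q18018 : ∀ i, i < 18018 → P i := stepQ 18017 Q18017 (allL N18017 (tt N19677 F48140) (tt N15284 F45690) (tt N19184 (iv2 F47020)) (tt N8876 F45112) (tt N19948 (iv4 F48621)) (tt N8871 F45113) (tt N35548 D58742) (tt N8870 (iv7 D27930)))
theorem Q18019 : ∀ i, i < 18019 → P i := stepQ 18018 Q18018 (allL N18018 (tt N22750 (iv1 F53878)) (tt N22749 F53877) (tt N15302 F45114) (tt N35549 D58743) (tt N8872 (iv4 D27931)) (tt N30203 (iv5 F78170)) (tt N35550 D58744) (tt N15767 F45115))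
theorem Q18020 : ∀ i, i < 18020 → P i := stepQ 18019 Q18019 (allL N18019 (tt N30362 (iv1 F78395)) (tt N10255 (iv0 F45118)) (tt N15303 F45116) (tt N16144 F45117) (tt N35550 (iv4 F92821)) (tt N18666 (iv5 F46375)) (tt N8872 (iv6 D27932)) (tt N30361 (iv7 F78388)))
theorem Q18021 : ∀ i, i < 18021 → P i := stepQ 18020 Q18020 (allL N18020 (tt N35551 D58745) (tt N35552 D58746) (tt N10158 F45119) (tt N15779 F45120) (tt N30197 (iv4 F78166)) (tt N10142 F45121) (tt N8874 (iv6 D27933)) (tt N35553 D58747))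
theorem Q18022 : ∀ i, i < 18022 → P i := stepQ 18021 Q18021 (allL N18021 (tt N15773 (iv1 F45125)) (tt N8875 (iv0 D27934)) (tt N15074 (iv2 F45123)) (tt N35554 D58748) (tt N14943 F45122) (tt N35555 D58749) (tt N35556 D58750) (tt N15077 (iv7 F45124)))
theorem Q18023 : ∀ i, i < 18023 → P i := stepQ 18022 Q18022 (allL N18022 (tt N8875 (iv1 D27935)) (tt N15773 F45126) (tt N15077 (iv2 F45129)) (tt N35557 D58751) (tt N11078 F45128) (tt N35558 D58752) (tt N35559 D58753) (tt N15074 F45127))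
theorem Q18024 : ∀ i, i < 18024 → P i := stepQ 18023 Q18023 (allL N18023 (tt N35560 D58754) (tt N35561 D58755) (tt N35562 D58756) (tt N8875 (iv3 D27936)) (tt N35546 (iv4 F92813)) (tt N35563 D58757) (tt N15712 F45130) (tt N35564 D58758))
theorem Q18025 : ∀ i, i < 18025 → P i := stepQ 18024 Q18024 (allL N18024 (tt N35565 D58759) (tt N35566 D58760) (tt N15772 F45131) (tt N35563 (iv3 F92851)) (tt N35567 D58761) (tt N8875 (iv5 D27937)) (tt N31531 (iv6 F80842)) (tt N35568 D58762))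
theorem Q18026 : ∀ i, i < 18026 → P i := stepQ 18025 Q18025 (allL N18025 (tt N15077 (iv1 F45134)) (tt N15074 F45135) (tt N15773 F45132) (tt N35564 (iv3 F92852)) (tt N8876 F45133) (tt N35568 (iv5 F92870)) (tt N31530 (iv6 F80837)) (tt N8875 (iv7 D27938)))
theorem Q18027 : ∀ i, i < 18027 → P i := stepQ 18026 Q18026 (allL N18026 (tt N15802 (iv1 F45139)) (tt N15801 F45140) (tt N15774 F45136) (tt N35548 (iv3 F92815)) (tt N31530 (iv4 F80836)) (tt N18026 F45137) (tt N8876 (iv6 D27939)) (tt N10252 F45138))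
theorem Q18028 : ∀ i, i < 18028 → P i := stepQ 18027 Q18027 (allL N18027 (tt N20433 (iv1 F49293)) (tt N15686 F45144) (tt N14770 F45141) (tt N8878 F45142) (tt N31847 (iv4 F81523)) (tt N8877 (iv5 D27940)) (tt N35569 D58763) (tt N8896 F45143))
theorem Q18029 : ∀ i, i < 18029 → P i := stepQ 18028 Q18028 (allL N18028 (tt N19672 F48131) (tt N20350 (iv0 F49161)) (tt N14771 F45145) (tt N8879 F45146) (tt N9241 F45147) (tt N9207 (iv5 F45148)) (tt N8877 (iv6 D27941)) (tt N20896 (iv7 F49840)))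
theorem Q18030 : ∀ i, i < 18030 → P i := stepQ 18029 Q18029 (allL N18029 (tt N35570 D58764) (tt N31801 (iv0 F81367)) (tt N8891 F45150) (tt N35571 D58765) (tt N8878 (iv4 D27942)) (tt N35572 D58766) (tt N35573 D58767) (tt N8900 F45151))
theorem Q18031 : ∀ i, i < 18031 → P i := stepQ 18030 Q18030 (allL N18030 (tt N15672 F164075) (tt N32031 F164076) (tt N8892 F45152) (tt N35569 (iv3 F92874)) (tt N35573 (iv4 F92887)) (tt N9209 F45153) (tt N8878 (iv6 D27943)) (tt N32030 (iv7 F164061)))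
theorem Q18032 : ∀ i, i < 18032 → P i := stepQ 18031 Q18031 (allL N18031 (tt N31801 (iv1 F81368)) (tt N35570 F92878) (tt N8900 F45154) (tt N35574 D58771) (tt N8880 (iv4 D27944)) (tt N35575 D58772) (tt N35576 D58773) (tt N8891 F45155))
theorem Q18033 : ∀ i, i < 18033 → P i := stepQ 18032 Q18032 (allL N18032 (tt N32092 (iv1 F82312)) (tt N15667 (iv0 F45158)) (tt N8901 F45156) (tt N31415 (iv3 F80627)) (tt N35576 (iv4 F92905)) (tt N10147 F45157) (tt N8880 (iv6 D27945)) (tt N32091 (iv7 F82306)))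
theorem Q18034 : ∀ i, i < 18034 → P i := stepQ 18033 Q18033 (allL N18033 (tt N20428 F49277) (tt N15260 (iv0 F45164)) (tt N31739 (iv2 F81255)) (tt N8882 (iv3 D27946)) (tt N19913 (iv4 F48573)) (tt N20841 (iv5 F49680)) (tt N35577 D58774) (tt N8906 F45159))
theorem Q18035 : ∀ i, i < 18035 → P i := stepQ 18034 Q18034 (allL N18034 (tt N16209 F45162) (tt N14686 F45163) (tt N8904 F45160) (tt N35578 D58775) (tt N8882 (iv4 D27947)) (tt N35579 D58776) (tt N35580 D58777) (tt N8907 F45161))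
theorem Q18036 : ∀ i, i < 18036 → P i := stepQ 18035 Q18035 (allL N18035 (tt N18191 F100259) (tt N35581 D58779) (tt N8905 F45165) (tt N35577 (iv3 F92907)) (tt N35580 (iv4 F92914)) (tt N10264 F45166) (tt N8882 (iv6 D27948)) (tt N30393 (iv7 F78450)))
theorem Q18037 : ∀ i, i < 18037 → P i := stepQ 18036 Q18036 (allL N18036 (tt N14686 F45169) (tt N16209 (iv0 F45170)) (tt N8907 F45167) (tt N31748 (iv3 F81271)) (tt N8883 (iv4 D27949)) (tt N35582 D58780) (tt N35583 D58781) (tt N8904 F45168))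
theorem Q18038 : ∀ i, i < 18038 → P i := stepQ 18037 Q18037 (allL N18037 (tt N35584 D58782) (tt N18202 F168029) (tt N8908 F45171) (tt N31751 (iv3 F81275)) (tt N35583 (iv4 F92921)) (tt N9196 F45172) (tt N8883 (iv6 D27950)) (tt N35585 D58784))
theorem Q18039 : ∀ i, i < 18039 → P i := stepQ 18038 Q18038 (allL N18038 (tt N35586 D58785) (tt N35587 D58786) (tt N35588 D58787) (tt N8884 (iv3 D27951)) (tt N14898 F45173) (tt N35589 D58788) (tt N14898 F45174) (tt N35590 D58789))
theorem Q18040 : ∀ i, i < 18040 → P i := stepQ 18039 Q18039 (allL N18039 (tt N30817 (iv1 F79538)) (tt N32255 (iv0 F82614)) (tt N8912 F45175) (tt N35589 (iv3 F92935)) (tt N18106 (iv4 F45288)) (tt N8884 (iv5 D27952)) (tt N35591 D58790) (tt N18104 (iv7 F45286)))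
theorem Q18041 : ∀ i, i < 18041 → P i := stepQ 18040 Q18040 (allL N18040 (tt N8910 (iv1 F45178)) (tt N8909 F45179) (tt N8913 F45176) (tt N35590 (iv3 F92936)) (tt N8885 F45177) (tt N18104 (iv5 F45283)) (tt N35592 D58791) (tt N8884 (iv7 D27953)))
theorem Q18042 : ∀ i, i < 18042 → P i := stepQ 18041 Q18041 (allL N18041 (tt N18184 (iv1 F45435)) (tt N18183 F45434) (tt N8914 F45180) (tt N14901 F45181) (tt N35592 (iv4 F92941)) (tt N18041 F45182) (tt N8885 (iv6 D27954)) (tt N14901 F45183))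
theorem Q18043 : ∀ i, i < 18043 → P i := stepQ 18042 Q18042 (allL N18042 (tt N8886 (iv1 D27955)) (tt N18293 (iv0 F45736)) (tt N15645 (iv2 F45185)) (tt N16283 F45187) (tt N15852 F45188) (tt N15444 (iv5 F45186)) (tt N20439 F49311) (tt N15443 F45184))
theorem Q18044 : ∀ i, i < 18044 → P i := stepQ 18043 Q18043 (allL N18043 (tt N10008 F45189) (tt N31593 (iv0 F80966)) (tt N31404 (iv2 F80606)) (tt N35593 D58792) (tt N8886 (iv4 D27956)) (tt N31627 (iv5 F81055)) (tt N35594 D58793) (tt N31414 (iv7 F80623)))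
theorem Q18045 : ∀ i, i < 18045 → P i := stepQ 18044 Q18044 (allL N18044 (tt N35595 D58794) (tt N35596 D58795) (tt N31405 (iv2 F80611)) (tt N8892 F45190) (tt N35594 (iv4 F92944)) (tt N30697 (iv5 F79253)) (tt N8886 (iv6 D27957)) (tt N35597 D58796))
theorem Q18046 : ∀ i, i < 18046 → P i := stepQ 18045 Q18045 (allL N18045 (tt N15657 (iv1 F45193)) (tt N9587 F45194) (tt N20347 F49151) (tt N8894 F45191) (tt N31241 (iv4 F80250)) (tt N9204 F45192) (tt N19550 F47961) (tt N8887 (iv7 D27958)))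
theorem Q18047 : ∀ i, i < 18047 → P i := stepQ 18046 Q18046 (allL N18046 (tt N8898 (iv1 F45198)) (tt N8888 (iv0 D27959)) (tt N9813 (iv2 F45197)) (tt N16220 F45196) (tt N35570 (iv4 F92876)) (tt N9807 F45195) (tt N35598 D58797) (tt N15404 F45199))
theorem Q18048 : ∀ i, i < 18048 → P i := stepQ 18047 Q18047 (allL N18047 (tt N18050 (iv1 F45214)) (tt N16056 F45202) (tt N15405 F45200) (tt N35599 D58798) (tt N8888 (iv4 D27960)) (tt N18102 (iv5 F45279)) (tt N35600 D58799) (tt N16200 F45201))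
theorem Q18049 : ∀ i, i < 18049 → P i := stepQ 18048 Q18048 (allL N18048 (tt N35601 D58800) (tt N31824 (iv0 F165577)) (tt N15406 F45203) (tt N16189 F45204) (tt N35600 (iv4 F92955)) (tt N30113 (iv5 F78023)) (tt N8888 (iv6 D27961)) (tt N35602 D58802))
theorem Q18050 : ∀ i, i < 18050 → P i := stepQ 18049 Q18049 (allL N18049 (tt N15073 (iv1 F45210)) (tt N11070 F45211) (tt N15071 F45205) (tt N16192 F45206) (tt N8894 F45207) (tt N9702 F45208) (tt N16204 F45209) (tt N8889 (iv7 D27962)))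
theorem Q18051 : ∀ i, i < 18051 → P i := stepQ 18050 Q18050 (allL N18050 (tt N18066 (iv1 F45247)) (tt N18047 F45214) (tt N15659 F45213) (tt N35603 D58803) (tt N8890 (iv4 D27963)) (tt N35604 D58804) (tt N35605 D58805) (tt N30815 (iv7 F79531)))
theorem Q18052 : ∀ i, i < 18052 → P i := stepQ 18051 Q18051 (allL N18051 (tt N35606 D58806) (tt N35607 D58807) (tt N15660 F45215) (tt N15171 F45216) (tt N35605 (iv4 F92972)) (tt N15165 F45217) (tt N8890 (iv6 D27964)) (tt N35608 D58808))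
theorem Q18053 : ∀ i, i < 18053 → P i := stepQ 18052 Q18052 (allL N18052 (tt N8900 (iv1 F45219)) (tt N8891 (iv0 D27965)) (tt N35570 F92877) (tt N35609 D58809) (tt N9813 F45218) (tt N35610 D58810) (tt N35611 D58811) (tt N31801 (iv7 F81366)))
theorem Q18054 : ∀ i, i < 18054 → P i := stepQ 18053 Q18053 (allL N18053 (tt N8891 (iv1 D27966)) (tt N8900 F45220) (tt N31801 (iv2 F81365)) (tt N35612 D58812) (tt N15404 F45221) (tt N35613 D58813) (tt N35614 D58814) (tt N35570 (iv7 F92879)))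
theorem Q18055 : ∀ i, i < 18055 → P i := stepQ 18054 Q18054 (allL N18054 (tt N35615 D58815) (tt N35616 D58816) (tt N35617 D58817) (tt N8891 (iv3 D27967)) (tt N35593 (iv4 F92943)) (tt N35618 D58818) (tt N35619 D58819) (tt N35574 (iv7 F92898)))
theorem Q18056 : ∀ i, i < 18056 → P i := stepQ 18055 Q18055 (allL N18055 (tt N35620 D58820) (tt N16208 F45222) (tt N35572 (iv2 F92881)) (tt N35618 (iv3 F92993)) (tt N18103 F45282) (tt N8891 (iv5 D27968)) (tt N35621 D58821) (tt N35575 (iv7 F92901)))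
theorem Q18057 : ∀ i, i < 18057 → P i := stepQ 18056 Q18056 (allL N18056 (tt N35622 D58822) (tt N35623 D58823) (tt N35573 (iv2 F92886)) (tt N35619 (iv3 F92994)) (tt N8892 F45223) (tt N35624 D58824) (tt N8891 (iv6 D27969)) (tt N35625 D58825))
theorem Q18058 : ∀ i, i < 18058 → P i := stepQ 18057 Q18057 (allL N18057 (tt N32030 F164071) (tt N8892 (iv0 D27970)) (tt N15672 F164072) (tt N16268 F164095) (tt N35626 D58828) (tt N30009 F77782) (tt N16268 (iv6 F77783)) (tt N32031 F164073))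
theorem Q18059 : ∀ i, i < 18059 → P i := stepQ 18058 Q18058 (allL N18058 (tt N35627 D58833) (tt N19290 F100248) (tt N9209 F45224) (tt N30697 (iv3 F79251)) (tt N35628 D58835) (tt N8892 (iv5 D27972)) (tt N8893 F45225) (tt N35629 D58836))
theorem Q18060 : ∀ i, i < 18060 → P i := stepQ 18059 Q18059 (allL N18059 (tt N32031 F164077) (tt N15672 F164078) (tt N32030 (iv2 F164058)) (tt N35597 (iv3 F92945)) (tt N35625 (iv4 F93000)) (tt N35629 (iv5 F93017)) (tt N32091 F82308) (tt N8892 (iv7 D27973)))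
theorem Q18061 : ∀ i, i < 18061 → P i := stepQ 18060 Q18060 (allL N18060 (tt N9704 F45228) (tt N30116 F78031) (tt N9208 F45226) (tt N35630 D58837) (tt N8893 (iv4 D27974)) (tt N35631 D58838) (tt N35628 (iv6 F93015)) (tt N9205 F45227))
theorem Q18062 : ∀ i, i < 18062 → P i := stepQ 18061 Q18061 (allL N18061 (tt N15686 F45231) (tt N20433 F49294) (tt N8896 F45229) (tt N18293 (iv3 F45734)) (tt N31848 (iv4 F81529)) (tt N8895 (iv5 D27975)) (tt N35632 D58839) (tt N14770 F45230))
theorem Q18063 : ∀ i, i < 18063 → P i := stepQ 18062 Q18062 (allL N18062 (tt N14770 (iv1 F45235)) (tt N8896 (iv0 D27976)) (tt N15686 (iv2 F45234)) (tt N16261 F45233) (tt N15956 F45232) (tt N30448 (iv5 F78581)) (tt N35633 D58840) (tt N20433 (iv7 F49291)))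
theorem Q18064 : ∀ i, i < 18064 → P i := stepQ 18063 Q18063 (allL N18063 (tt N15513 F45237) (tt N15511 F45236) (tt N31848 F81530) (tt N35634 D58841) (tt N8896 (iv4 D27977)) (tt N35635 D58842) (tt N35636 D58843) (tt N31847 F81526))
theorem Q18065 : ∀ i, i < 18065 → P i := stepQ 18064 Q18064 (allL N18064 (tt N35637 D58844) (tt N32064 (iv0 F82212)) (tt N35632 (iv2 F93025)) (tt N8901 F45238) (tt N35636 (iv4 F93040)) (tt N33515 (iv5 F85020)) (tt N8896 (iv6 D27978)) (tt N35638 D58845))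
theorem Q18066 : ∀ i, i < 18066 → P i := stepQ 18065 Q18065 (allL N18065 (tt N15678 (iv1 F45242)) (tt N8897 (iv0 D27979)) (tt N15699 (iv2 F45241)) (tt N20421 (iv3 F49251)) (tt N15108 F45240) (tt N16639 F45239) (tt N29627 F76848) (tt N18012 F45243))
theorem Q18067 : ∀ i, i < 18067 → P i := stepQ 18066 Q18066 (allL N18066 (tt N16056 F45246) (tt N18050 F45247) (tt N16200 F45244) (tt N35639 D58846) (tt N8898 (iv4 D27980)) (tt N18103 (iv5 F45281)) (tt N35640 D58847) (tt N15405 F45245))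
theorem Q18068 : ∀ i, i < 18068 → P i := stepQ 18067 Q18067 (allL N18067 (tt N35641 D58848) (tt N16212 (iv0 F45250)) (tt N16201 F45248) (tt N15392 F45249) (tt N35640 (iv4 F93051)) (tt N20052 (iv5 F48771)) (tt N8898 (iv6 D27981)) (tt N35642 D58849))
theorem Q18069 : ∀ i, i < 18069 → P i := stepQ 18068 Q18068 (allL N18068 (tt N35643 D58850) (tt N35644 D58851) (tt N35645 D58852) (tt N8900 (iv3 D27982)) (tt N35634 (iv4 F93036)) (tt N35646 D58853) (tt N35647 D58854) (tt N35571 (iv7 F92880)))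
theorem Q18070 : ∀ i, i < 18070 → P i := stepQ 18069 Q18069 (allL N18069 (tt N16208 F45251) (tt N35620 F92998) (tt N35575 (iv2 F92899)) (tt N35646 (iv3 F93067)) (tt N18102 F45280) (tt N8900 (iv5 D27983)) (tt N35648 D58855) (tt N35572 (iv7 F92882)))
theorem Q18071 : ∀ i, i < 18071 → P i := stepQ 18070 Q18070 (allL N18070 (tt N35649 D58856) (tt N35650 D58857) (tt N35576 (iv2 F92904)) (tt N35647 (iv3 F93068)) (tt N8901 F45252) (tt N35651 D58858) (tt N8900 (iv6 D27984)) (tt N35652 D58859))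
theorem Q18072 : ∀ i, i < 18072 → P i := stepQ 18071 Q18071 (allL N18071 (tt N8901 (iv1 D27986)) (tt N32091 F82305) (tt N15667 F45255) (tt N16288 F45256) (tt N32277 (iv4 F82655)) (tt N16115 (iv5 F45254)) (tt N9065 (iv6 F45253)) (tt N32092 (iv7 F82311)))
theorem Q18073 : ∀ i, i < 18073 → P i := stepQ 18072 Q18072 (allL N18072 (tt N15667 (iv1 F45257)) (tt N32092 F82313) (tt N32091 F82304) (tt N35638 (iv3 F93045)) (tt N35652 (iv4 F93074)) (tt N33520 (iv5 F85030)) (tt N32030 (iv6 F164060)) (tt N8901 (iv7 D27987)))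
theorem Q18074 : ∀ i, i < 18074 → P i := stepQ 18073 Q18073 (allL N18073 (tt N35653 D58860) (tt N35654 D58861) (tt N31740 (iv2 F81262)) (tt N8905 F45258) (tt N31618 (iv4 F81044)) (tt N30395 (iv5 F78457)) (tt N8903 (iv6 D27988)) (tt N35655 D58862))
theorem Q18075 : ∀ i, i < 18075 → P i := stepQ 18074 Q18074 (allL N18074 (tt N8907 (iv1 F45261)) (tt N8904 (iv0 D27989)) (tt N16209 (iv2 F45260)) (tt N35656 D58863) (tt N14687 F45259) (tt N35620 (iv5 F92995)) (tt N35657 D58864) (tt N14686 F45262))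
theorem Q18076 : ∀ i, i < 18076 → P i := stepQ 18075 Q18075 (allL N18075 (tt N35658 D58865) (tt N35659 D58866) (tt N35660 D58867) (tt N8904 (iv3 D27990)) (tt N31616 (iv4 F81039)) (tt N35661 D58868) (tt N35662 D58869) (tt N31748 (iv7 F81272)))
theorem Q18077 : ∀ i, i < 18077 → P i := stepQ 18076 Q18076 (allL N18076 (tt N35663 D58870) (tt N35664 D58871) (tt N35579 (iv2 F92910)) (tt N35661 (iv3 F93086)) (tt N18095 (iv4 F45274)) (tt N8904 (iv5 D27991)) (tt N35665 D58872) (tt N35582 (iv7 F92919)))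
theorem Q18078 : ∀ i, i < 18078 → P i := stepQ 18077 Q18077 (allL N18077 (tt N35666 D58873) (tt N35667 D58874) (tt N35580 (iv2 F92913)) (tt N35662 (iv3 F93087)) (tt N8905 F45263) (tt N35668 D58875) (tt N8904 (iv6 D27992)) (tt N35669 D58876))
theorem Q18079 : ∀ i, i < 18079 → P i := stepQ 18078 Q18078 (allL N18078 (tt N30393 (iv1 F78453)) (tt N8905 (iv0 D27993)) (tt N18191 F100169) (tt N18159 F168037) (tt N35670 D58879) (tt N35671 D58880) (tt N18167 F78435) (tt N35581 (iv7 F100262)))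
theorem Q18080 : ∀ i, i < 18080 → P i := stepQ 18079 Q18079 (allL N18079 (tt N8905 (iv1 D27994)) (tt N30393 F78452) (tt N35581 (iv2 F100260)) (tt N8919 (iv3 F100164)) (tt N35672 D58883) (tt N31535 (iv5 F80848)) (tt N35673 D58884) (tt N18191 (iv7 F100168)))
theorem Q18081 : ∀ i, i < 18081 → P i := stepQ 18080 Q18080 (allL N18080 (tt N35581 (iv1 F92916)) (tt N18191 F100258) (tt N30393 (iv2 F78449)) (tt N35655 (iv3 F93077)) (tt N35669 (iv4 F93100)) (tt N10263 F45264) (tt N35585 (iv6 F92928)) (tt N8905 (iv7 D27995)))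
theorem Q18082 : ∀ i, i < 18082 → P i := stepQ 18081 Q18081 (allL N18081 (tt N15260 (iv1 F45266)) (tt N20428 (iv0 F49275)) (tt N8906 (iv2 D27996)) (tt N19526 F47897) (tt N19914 F48578) (tt N15200 F45265) (tt N35674 D58885) (tt N31739 (iv7 F81257)))
theorem Q18083 : ∀ i, i < 18083 → P i := stepQ 18082 Q18082 (allL N18082 (tt N9746 F45267) (tt N15498 F45268) (tt N19914 F48577) (tt N35675 D58886) (tt N8906 (iv4 D27997)) (tt N35676 D58887) (tt N35677 D58888) (tt N19913 F48575))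
theorem Q18084 : ∀ i, i < 18084 → P i := stepQ 18083 Q18083 (allL N18083 (tt N35678 D58889) (tt N35679 D58890) (tt N35674 (iv2 F93105)) (tt N8908 F45269) (tt N35677 (iv4 F93111)) (tt N35680 D58891) (tt N8906 (iv6 D27998)) (tt N35681 D58892))
theorem Q18085 : ∀ i, i < 18085 → P i := stepQ 18084 Q18084 (allL N18084 (tt N35682 D58893) (tt N35683 D58894) (tt N35684 D58895) (tt N8907 (iv3 D27999)) (tt N35675 (iv4 F93107)) (tt N35685 D58896) (tt N35686 D58897) (tt N35578 (iv7 F92909)))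
theorem Q18086 : ∀ i, i < 18086 → P i := stepQ 18085 Q18085 (allL N18085 (tt N35664 (iv1 F93094)) (tt N35663 F93091) (tt N35582 (iv2 F92917)) (tt N35685 (iv3 F93116)) (tt N18092 (iv4 F45273)) (tt N8907 (iv5 D28000)) (tt N35687 D58898) (tt N35579 (iv7 F92911)))
theorem Q18087 : ∀ i, i < 18087 → P i := stepQ 18086 Q18086 (allL N18086 (tt N35688 D58899) (tt N35689 D58900) (tt N35583 (iv2 F92920)) (tt N35686 (iv3 F93117)) (tt N8908 F45270) (tt N35690 D58901) (tt N8907 (iv6 D28001)) (tt N35691 D58902))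
theorem Q18088 : ∀ i, i < 18088 → P i := stepQ 18087 Q18087 (allL N18087 (tt N35585 F92931) (tt N8908 (iv0 D28002)) (tt N35584 (iv2 F103381)) (tt N8924 (iv3 F168022)) (tt N24245 (iv4 F326265)) (tt N19164 F77844) (tt N35692 D58906) (tt N18202 (iv7 F168026)))
theorem Q18089 : ∀ i, i < 18089 → P i := stepQ 18088 Q18088 (allL N18088 (tt N8908 (iv1 D28003)) (tt N35585 F92930) (tt N18202 (iv2 F168025)) (tt N18167 (iv3 F168027)) (tt N35693 D58909) (tt N19165 (iv5 F78376)) (tt N18159 (iv6 F78378)) (tt N35584 (iv7 F103382)))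
theorem Q18090 : ∀ i, i < 18090 → P i := stepQ 18089 Q18089 (allL N18089 (tt N19219 F164067) (tt N32410 (iv0 F82777)) (tt N9196 F45271) (tt N35680 (iv3 F93113)) (tt N35694 D58910) (tt N8908 (iv5 D28004)) (tt N9183 F45272) (tt N35695 D58911))
theorem Q18091 : ∀ i, i < 18091 → P i := stepQ 18090 Q18090 (allL N18090 (tt N18202 F168028) (tt N35584 F92929) (tt N35585 (iv2 F92926)) (tt N35681 (iv3 F93115)) (tt N35691 (iv4 F93118)) (tt N35695 (iv5 F93125)) (tt N30393 F78451) (tt N8908 (iv7 D28005)))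
theorem Q18092 : ∀ i, i < 18092 → P i := stepQ 18091 Q18091 (allL N18091 (tt N35696 D58912) (tt N35697 D58913) (tt N35698 D58914) (tt N8909 (iv3 D28006)) (tt N32237 (iv4 F82587)) (tt N35699 D58915) (tt N35700 D58916) (tt N32260 (iv7 F82627)))
theorem Q18093 : ∀ i, i < 18093 → P i := stepQ 18092 Q18092 (allL N18092 (tt N35701 D58917) (tt N31295 (iv0 F80353)) (tt N30909 (iv2 F79666)) (tt N35699 (iv3 F93130)) (tt N18085 F45273) (tt N8909 (iv5 D28007)) (tt N35702 D58918) (tt N32261 (iv7 F82629)))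
theorem Q18094 : ∀ i, i < 18094 → P i := stepQ 18093 Q18093 (allL N18093 (tt N35670 (iv1 F100283)) (tt N35672 (iv0 F93103)) (tt N30910 (iv2 F79668)) (tt N35700 (iv3 F93131)) (tt N29475 (iv4 F76477)) (tt N35703 D58920) (tt N8909 (iv6 D28008)) (tt N35704 D58921))
theorem Q18095 : ∀ i, i < 18095 → P i := stepQ 18094 Q18094 (allL N18094 (tt N35705 D58922) (tt N35706 D58923) (tt N35707 D58924) (tt N8910 (iv3 D28009)) (tt N30795 (iv4 F79486)) (tt N35708 D58925) (tt N35709 D58926) (tt N30908 (iv7 F79665)))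
theorem Q18096 : ∀ i, i < 18096 → P i := stepQ 18095 Q18095 (allL N18095 (tt N31295 (iv1 F80354)) (tt N35701 F93135) (tt N32261 (iv2 F82628)) (tt N35708 (iv3 F93139)) (tt N18076 F45274) (tt N8910 (iv5 D28010)) (tt N35710 D58927) (tt N30909 (iv7 F79667)))
theorem Q18097 : ∀ i, i < 18097 → P i := stepQ 18096 Q18096 (allL N18096 (tt N24245 F327087) (tt N35693 (iv0 F168559)) (tt N32262 (iv2 F82631)) (tt N35709 (iv3 F93140)) (tt N29476 (iv4 F76481)) (tt N35711 D58930) (tt N8910 (iv6 D28011)) (tt N35712 D58931))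
theorem Q18098 : ∀ i, i < 18098 → P i := stepQ 18097 Q18097 (allL N18097 (tt N35713 D58932) (tt N8911 (iv0 D28012)) (tt N31964 (iv2 F170420)) (tt N35714 D58934) (tt N31963 (iv4 F170447)) (tt N35715 D58936) (tt N35716 D58937) (tt N35717 D58938))
theorem Q18099 : ∀ i, i < 18099 → P i := stepQ 18098 Q18098 (allL N18098 (tt N8911 (iv1 D28013)) (tt N35713 F93145) (tt N35717 (iv2 F93147)) (tt N35718 D58939) (tt N27635 F324552) (tt N35719 D58940) (tt N24244 (iv6 F325642)) (tt N31964 (iv7 F170421)))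
theorem Q18100 : ∀ i, i < 18100 → P i := stepQ 18099 Q18099 (allL N18099 (tt N31964 F81915) (tt N35717 (iv0 F170418)) (tt N8911 (iv2 D28014)) (tt N35588 (iv3 F92932)) (tt N8929 F45275) (tt N35720 D58943) (tt N18177 (iv6 F45419)) (tt N35713 (iv7 F93144)))
theorem Q18101 : ∀ i, i < 18101 → P i := stepQ 18100 Q18100 (allL N18100 (tt N35721 D58944) (tt N35722 D58945) (tt N35720 (iv2 F93149)) (tt N8912 F45276) (tt N35723 D58946) (tt N8911 (iv5 D28015)) (tt N35724 D58947) (tt N35725 D58948))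
theorem Q18102 : ∀ i, i < 18102 → P i := stepQ 18101 Q18101 (allL N18101 (tt N35717 (iv1 F170419)) (tt N31964 (iv0 F81914)) (tt N35713 F93142) (tt N8913 F45277) (tt N8931 F45278) (tt N35725 (iv5 F93152)) (tt N35726 D58949) (tt N8911 (iv7 D28016)))
theorem Q18103 : ∀ i, i < 18103 → P i := stepQ 18102 Q18102 (allL N18102 (tt N18104 (iv1 F45285)) (tt N8912 (iv0 D28017)) (tt N30817 (iv2 F79535)) (tt N35727 D58950) (tt N18069 (iv4 F45280)) (tt N18047 F45279) (tt N35728 D58951) (tt N32255 (iv7 F82613)))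
theorem Q18104 : ∀ i, i < 18104 → P i := stepQ 18103 Q18103 (allL N18103 (tt N8912 (iv1 D28018)) (tt N18104 (iv0 F45284)) (tt N32255 (iv2 F82612)) (tt N35729 D58952) (tt N18055 (iv4 F45282)) (tt N18066 F45281) (tt N35730 D58953) (tt N30817 (iv7 F79536)))
theorem Q18105 : ∀ i, i < 18105 → P i := stepQ 18104 Q18104 (allL N18104 (tt N18103 F45284) (tt N18102 F45285) (tt N18106 (iv2 F45287)) (tt N35731 D58954) (tt N8912 (iv4 D28019)) (tt N18040 F45283) (tt N35732 D58955) (tt N18039 F45286))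
theorem Q18106 : ∀ i, i < 18106 → P i := stepQ 18105 Q18105 (allL N18105 (tt N35733 D58956) (tt N35734 D58957) (tt N35591 (iv2 F92938)) (tt N35724 (iv3 F93150)) (tt N35732 (iv4 F93161)) (tt N18181 (iv5 F45431)) (tt N8912 (iv6 D28020)) (tt N35735 D58958))
theorem Q18107 : ∀ i, i < 18107 → P i := stepQ 18106 Q18106 (allL N18106 (tt N32255 (iv1 F82615)) (tt N30817 (iv0 F79537)) (tt N18104 F45287) (tt N35725 (iv3 F93151)) (tt N18039 F45288) (tt N8913 F45289) (tt N35736 D58959) (tt N8912 (iv7 D28021)))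
theorem Q18108 : ∀ i, i < 18108 → P i := stepQ 18107 Q18107 (allL N18107 (tt N32394 (iv1 F161331)) (tt N32391 (iv0 F161320)) (tt N35592 (iv2 F92940)) (tt N35726 (iv3 F93153)) (tt N8914 F45290) (tt N35737 D58962) (tt N8913 (iv6 D28022)) (tt N18182 (iv7 F45433)))
theorem Q18109 : ∀ i, i < 18109 → P i := stepQ 18108 Q18108 (allL N18108 (tt N14901 (iv1 F45291)) (tt N8914 (iv0 D28023)) (tt N18184 (iv2 F166420)) (tt N35738 D58964) (tt N35739 D58965) (tt N35740 D58966) (tt N35741 D58967) (tt N18183 (iv7 F166421)))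
theorem Q18110 : ∀ i, i < 18110 → P i := stepQ 18109 Q18109 (allL N18109 (tt N8914 (iv1 D28024)) (tt N14901 F45292) (tt N18183 F166422) (tt N35742 D58969) (tt N35743 D58970) (tt N35744 D58971) (tt N35745 D58972) (tt N18184 F166423))
theorem Q18111 : ∀ i, i < 18111 → P i := stepQ 18110 Q18110 (allL N18110 (tt N18197 (iv1 F45493)) (tt N16185 F45294) (tt N8916 F45293) (tt N35746 D58973) (tt N8915 (iv4 D28025)) (tt N31169 (iv5 F80046)) (tt N35747 D58974) (tt N18195 (iv7 F45488)))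
theorem Q18112 : ∀ i, i < 18112 → P i := stepQ 18111 Q18111 (allL N18111 (tt N35748 D58975) (tt N35749 D58976) (tt N8917 F45295) (tt N18185 (iv3 F45437)) (tt N35747 (iv4 F93178)) (tt N29644 F76879) (tt N8915 (iv6 D28026)) (tt N35750 D58977))
theorem Q18113 : ∀ i, i < 18113 → P i := stepQ 18112 Q18112 (allL N18112 (tt N18195 F45490) (tt N8916 (iv0 D28027)) (tt N18197 F45496) (tt N35751 D58978) (tt N15913 F45296) (tt N32012 (iv5 F82044)) (tt N35752 D58979) (tt N16185 (iv7 F45297)))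
theorem Q18114 : ∀ i, i < 18114 → P i := stepQ 18113 Q18113 (allL N18113 (tt N8916 (iv1 D28028)) (tt N18195 (iv0 F45489)) (tt N16185 (iv2 F45299)) (tt N35753 D58980) (tt N11056 F45298) (tt N32013 (iv5 F82051)) (tt N16184 (iv6 F45300)) (tt N18197 (iv7 F45494)))
theorem Q18115 : ∀ i, i < 18115 → P i := stepQ 18114 Q18114 (allL N18114 (tt N31335 (iv1 F80464)) (tt N31338 (iv0 F80471)) (tt N31169 (iv2 F80045)) (tt N31952 (iv3 F81854)) (tt N31156 (iv4 F80023)) (tt N8916 (iv5 D28029)) (tt N35754 D58981) (tt N18198 (iv7 F45497)))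
theorem Q18116 : ∀ i, i < 18116 → P i := stepQ 18115 Q18115 (allL N18115 (tt N35755 D58982) (tt N35756 D58983) (tt N35747 (iv2 F93177)) (tt N11713 F323123) (tt N8917 F45301) (tt N35757 D58984) (tt N8916 (iv6 D28030)) (tt N11711 (iv7 F324568)))
theorem Q18117 : ∀ i, i < 18117 → P i := stepQ 18116 Q18116 (allL N18116 (tt N35750 (iv1 F93184)) (tt N8917 (iv0 D28031)) (tt N35748 F202480) (tt N35758 D58987) (tt N35759 D58988) (tt N35760 D58989) (tt N35761 D58990) (tt N35749 (iv7 F202484)))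
theorem Q18118 : ∀ i, i < 18118 → P i := stepQ 18117 Q18117 (allL N18117 (tt N8917 (iv1 D28032)) (tt N35750 F93183) (tt N35749 (iv2 F202483)) (tt N35762 D58992) (tt N35763 D58993) (tt N35764 D58994) (tt N35765 D58995) (tt N35748 (iv7 F202479)))
theorem Q18119 : ∀ i, i < 18119 → P i := stepQ 18118 Q18118 (allL N18118 (tt N35749 (iv1 F93179)) (tt N35748 F93182) (tt N35750 (iv2 F93180)) (tt N8920 F45302) (tt N11711 F325123) (tt N10276 F45303) (tt N11667 F325124) (tt N8917 (iv7 D28033)))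
theorem Q18120 : ∀ i, i < 18120 → P i := stepQ 18119 Q18119 (allL N18119 (tt N18162 (iv1 F168059)) (tt N14895 (iv0 F168060)) (tt N18159 F168035) (tt N8918 (iv3 D28035)) (tt N32316 (iv4 F168061)) (tt N35766 D59000) (tt N18202 (iv6 F45508)) (tt N18160 (iv7 F168058)))
theorem Q18121 : ∀ i, i < 18121 → P i := stepQ 18120 Q18120 (allL N18120 (tt N18360 (iv1 F45832)) (tt N21068 (iv0 F50076)) (tt N18192 (iv2 F45477)) (tt N35766 (iv3 F93198)) (tt N35767 D59001) (tt N8918 (iv5 D28037)) (tt N19269 (iv6 F47213)) (tt N18193 (iv7 F45475)))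
theorem Q18122 : ∀ i, i < 18122 → P i := stepQ 18121 Q18121 (allL N18121 (tt N21068 F50077) (tt N18360 (iv0 F45831)) (tt N18193 (iv2 F45481)) (tt N31535 (iv3 F100166)) (tt N20764 (iv4 F101314)) (tt N8919 (iv5 D28041)) (tt N14806 F45306) (tt N18192 F45480))
theorem Q18123 : ∀ i, i < 18123 → P i := stepQ 18122 Q18122 (allL N18122 (tt N30499 F78642) (tt N18212 (iv0 F45520)) (tt N18194 F45455) (tt N35673 (iv3 F100155)) (tt N24648 F325137) (tt N10172 F45307) (tt N8919 (iv6 D28042)) (tt N18201 (iv7 F45505)))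
theorem Q18124 : ∀ i, i < 18124 → P i := stepQ 18123 Q18123 (allL N18123 (tt N16184 F45310) (tt N16198 F45311) (tt N8922 F45308) (tt N35768 D59009) (tt N8921 (iv4 D28043)) (tt N35769 D59010) (tt N35770 D59011) (tt N16195 F45309))
theorem Q18125 : ∀ i, i < 18125 → P i := stepQ 18124 Q18124 (allL N18124 (tt N35771 D59012) (tt N35761 (iv0 F93694)) (tt N8923 F45312) (tt N18196 (iv3 F45492)) (tt N35770 (iv4 F93213)) (tt N19188 (iv5 F47035)) (tt N8921 (iv6 D28044)) (tt N35772 D59014))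
theorem Q18126 : ∀ i, i < 18126 → P i := stepQ 18125 Q18125 (allL N18125 (tt N8922 (iv1 D28045)) (tt N16195 F45313) (tt N16198 F45316) (tt N35773 D59015) (tt N15428 (iv4 F45315)) (tt N16653 F45317) (tt N35774 D59016) (tt N16184 F45314))
theorem Q18127 : ∀ i, i < 18127 → P i := stepQ 18126 Q18126 (allL N18126 (tt N31272 (iv1 F80319)) (tt N31275 (iv0 F80322)) (tt N35769 (iv2 F93207)) (tt N31961 (iv3 F81894)) (tt N16625 F45319) (tt N8922 (iv5 D28046)) (tt N35775 D59017) (tt N18186 (iv7 F45438)))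
theorem Q18128 : ∀ i, i < 18128 → P i := stepQ 18127 Q18127 (allL N18127 (tt N35776 D59018) (tt N35777 D59019) (tt N35770 (iv2 F93212)) (tt N23944 (iv3 F323872)) (tt N8923 F45320) (tt N35778 D59020) (tt N8922 (iv6 D28047)) (tt N34605 F322466))
theorem Q18129 : ∀ i, i < 18129 → P i := stepQ 18128 Q18128 (allL N18128 (tt N35772 (iv1 F93218)) (tt N8923 (iv0 D28048)) (tt N35771 (iv2 F202472)) (tt N35779 D59023) (tt N35780 D59024) (tt N19276 (iv5 F93704)) (tt N35781 D59026) (tt N35761 (iv7 F202482)))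
theorem Q18130 : ∀ i, i < 18130 → P i := stepQ 18129 Q18129 (allL N18129 (tt N8923 (iv1 D28049)) (tt N35772 F93217) (tt N35761 (iv2 F202481)) (tt N35782 D59028) (tt N35783 D59029) (tt N19277 (iv5 F93426)) (tt N35748 (iv6 F93427)) (tt N35771 (iv7 F202473)))
theorem Q18131 : ∀ i, i < 18131 → P i := stepQ 18130 Q18130 (allL N18130 (tt N35761 (iv1 F93695)) (tt N35771 F93216) (tt N35772 (iv2 F93215)) (tt N8926 F45321) (tt N34605 F322459) (tt N19203 (iv5 F47062)) (tt N18190 (iv6 F45442)) (tt N8923 (iv7 D28050)))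
theorem Q18132 : ∀ i, i < 18132 → P i := stepQ 18131 Q18131 (allL N18131 (tt N18212 F45521) (tt N30499 (iv0 F78641)) (tt N18201 (iv2 F45504)) (tt N35692 (iv3 F168024)) (tt N23948 (iv4 F325073)) (tt N10173 F45323) (tt N8924 (iv6 D28054)) (tt N18194 (iv7 F45449)))
theorem Q18133 : ∀ i, i < 18133 → P i := stepQ 18132 Q18132 (allL N18132 (tt N14897 (iv1 F100253)) (tt N18168 (iv0 F100254)) (tt N18167 (iv2 F100180)) (tt N8925 (iv3 D28056)) (tt N32339 (iv4 F164026)) (tt N19290 (iv5 F47267)) (tt N18191 (iv6 F45445)) (tt N18166 F100170))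
theorem Q18134 : ∀ i, i < 18134 → P i := stepQ 18133 Q18133 (allL N18133 (tt N8928 (iv1 F45328)) (tt N8927 (iv0 D28058)) (tt N8931 (iv2 F45325)) (tt N18141 (iv3 F45334)) (tt N35713 (iv4 F93143)) (tt N8968 F45326) (tt N35784 D59041) (tt N8929 F45327))
theorem Q18135 : ∀ i, i < 18135 → P i := stepQ 18134 Q18134 (allL N18134 (tt N8931 (iv1 F169957)) (tt N8929 (iv0 F169958)) (tt N8927 (iv2 D28059)) (tt N12379 F318607) (tt N35785 D59045) (tt N29468 (iv5 F320743)) (tt N12360 (iv6 F320744)) (tt N8928 (iv7 F45329)))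
theorem Q18136 : ∀ i, i < 18136 → P i := stepQ 18135 Q18135 (allL N18135 (tt N25329 (iv1 F323095)) (tt N25328 (iv0 F322514)) (tt N25330 F321452) (tt N8927 (iv3 D28060)) (tt N30979 (iv4 F169968)) (tt N35210 (iv5 F323101)) (tt N35211 (iv6 F323103)) (tt N24368 (iv7 F323094)))
theorem Q18137 : ∀ i, i < 18137 → P i := stepQ 18136 Q18136 (allL N18136 (tt N35786 D59054) (tt N35787 D59055) (tt N35785 (iv2 F93234)) (tt N35788 D59056) (tt N8927 (iv4 D28061)) (tt N35789 D59057) (tt N35790 D59058) (tt N35791 D59059))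
theorem Q18138 : ∀ i, i < 18138 → P i := stepQ 18137 Q18137 (allL N18137 (tt N29467 (iv1 F323119)) (tt N10285 F170984) (tt N29468 F322529) (tt N35210 (iv3 F323100)) (tt N35792 D59062) (tt N8927 (iv5 D28062)) (tt N35205 (iv6 F324007)) (tt N27666 (iv7 F323116)))
theorem Q18139 : ∀ i, i < 18139 → P i := stepQ 18138 Q18138 (allL N18138 (tt N12358 (iv1 F324008)) (tt N12357 (iv0 F324009)) (tt N12360 F322530) (tt N35211 (iv3 F323102)) (tt N35790 (iv4 F93244)) (tt N12338 (iv5 F324010)) (tt N8927 (iv6 D28063)) (tt N12337 (iv7 F324011)))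
theorem Q18140 : ∀ i, i < 18140 → P i := stepQ 18139 Q18139 (allL N18139 (tt N8929 F169960) (tt N8931 F169961) (tt N8928 F45330) (tt N24368 (iv3 F323093)) (tt N35791 (iv4 F93246)) (tt N27666 (iv5 F323115)) (tt N13834 (iv6 F323117)) (tt N8927 (iv7 D28064)))
theorem Q18141 : ∀ i, i < 18141 → P i := stepQ 18140 Q18140 (allL N18140 (tt N35787 (iv1 F93243)) (tt N35786 F93247) (tt N35791 (iv2 F93245)) (tt N35793 D59076) (tt N8928 (iv4 D28066)) (tt N35794 D59077) (tt N18002 (iv6 F323107)) (tt N35785 (iv7 F93235)))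
theorem Q18142 : ∀ i, i < 18142 → P i := stepQ 18141 Q18141 (allL N18141 (tt N8967 (iv1 F45336)) (tt N8966 F45337) (tt N8930 F45333) (tt N18133 F45334) (tt N35795 D59094) (tt N8929 (iv5 D28071)) (tt N35796 D59095) (tt N8968 F45335))
theorem Q18143 : ∀ i, i < 18143 → P i := stepQ 18142 Q18142 (allL N18142 (tt N8968 (iv1 F45338)) (tt N8930 (iv0 D28072)) (tt N8967 F173278) (tt N23415 F323974) (tt N35797 D59097) (tt N25912 (iv5 F324417)) (tt N13340 (iv6 F325241)) (tt N8966 F173279))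
theorem Q18144 : ∀ i, i < 18144 → P i := stepQ 18143 Q18143 (allL N18143 (tt N8930 (iv1 D28073)) (tt N8968 F45339) (tt N8966 (iv2 F173273)) (tt N23430 F323901) (tt N32366 (iv4 F82749)) (tt N25276 F323902) (tt N23428 (iv6 F325177)) (tt N8967 (iv7 F173277)))
theorem Q18145 : ∀ i, i < 18145 → P i := stepQ 18144 Q18144 (allL N18144 (tt N35798 D59104) (tt N31199 (iv0 F80171)) (tt N35795 (iv2 F93263)) (tt N8953 F45340) (tt N8930 (iv4 D28074)) (tt N29881 (iv5 F77524)) (tt N35799 D59105) (tt N8951 F45341))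
theorem Q18146 : ∀ i, i < 18146 → P i := stepQ 18145 Q18145 (allL N18145 (tt N35800 D59106) (tt N35801 D59107) (tt N35796 (iv2 F93267)) (tt N8932 F45342) (tt N35799 (iv4 F93275)) (tt N18146 (iv5 F45344)) (tt N8930 (iv6 D28075)) (tt N18146 (iv7 F45345)))
theorem Q18147 : ∀ i, i < 18147 → P i := stepQ 18146 Q18146 (allL N18146 (tt N35802 D59108) (tt N25281 (iv0 F324005)) (tt N35784 (iv2 F93230)) (tt N8933 F45343) (tt N35726 (iv4 F93154)) (tt N18145 F45344) (tt N8931 (iv6 D28076)) (tt N18145 F45345))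
theorem Q18148 : ∀ i, i < 18148 → P i := stepQ 18147 Q18147 (allL N18147 (tt N15637 F166169) (tt N15681 (iv0 F166170)) (tt N31989 (iv2 F166149)) (tt N8934 (iv3 D28080)) (tt N35803 D59113) (tt N35804 D59114) (tt N35805 D59115) (tt N18210 F78670))
theorem Q18149 : ∀ i, i < 18149 → P i := stepQ 18148 Q18148 (allL N18148 (tt N16061 F45349) (tt N16061 (iv0 F45351)) (tt N18211 (iv2 F78675)) (tt N35804 (iv3 F93281)) (tt N31233 (iv4 F80234)) (tt N8934 (iv5 D28082)) (tt N10281 F45350) (tt N18211 F78672))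
theorem Q18150 : ∀ i, i < 18150 → P i := stepQ 18149 Q18149 (allL N18149 (tt N18194 F45452) (tt N18201 (iv0 F45506)) (tt N18212 F78667) (tt N35805 (iv3 F93283)) (tt N23552 F325084) (tt N15309 F45367) (tt N8934 (iv6 D28083)) (tt N30499 (iv7 F78666)))
theorem Q18151 : ∀ i, i < 18151 → P i := stepQ 18150 Q18150 (allL N18150 (tt N35806 D59116) (tt N35807 D59117) (tt N35808 D59118) (tt N8935 (iv3 D28084)) (tt N31025 (iv4 F79799)) (tt N29944 (iv5 F77664)) (tt N35809 D59119) (tt N15112 F45368))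
theorem Q18152 : ∀ i, i < 18152 → P i := stepQ 18151 Q18151 (allL N18151 (tt N30370 (iv1 F111359)) (tt N30372 (iv0 F111356)) (tt N15095 F45369) (tt N35809 (iv3 F93292)) (tt N8936 F45370) (tt N35810 D59122) (tt N8935 (iv6 D28085)) (tt N35811 D59123))
theorem Q18153 : ∀ i, i < 18153 → P i := stepQ 18152 Q18152 (allL N18152 (tt N15099 (iv1 F45374)) (tt N8936 (iv0 D28086)) (tt N15096 (iv2 F111266)) (tt N16668 (iv3 F111181)) (tt N31473 (iv4 F111182)) (tt N35812 D59127) (tt N35813 D59128) (tt N15097 F111264))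
theorem Q18154 : ∀ i, i < 18154 → P i := stepQ 18153 Q18153 (allL N18153 (tt N8936 (iv1 D28087)) (tt N15099 F45371) (tt N15097 F111258) (tt N19987 F111285) (tt N31474 (iv4 F111189)) (tt N35814 D59132) (tt N35815 D59133) (tt N15096 (iv7 F111267)))
theorem Q18155 : ∀ i, i < 18155 → P i := stepQ 18154 Q18154 (allL N18154 (tt N15097 (iv1 F45375)) (tt N15096 F45376) (tt N15099 F45372) (tt N31029 (iv3 F79807)) (tt N35811 (iv4 F93296)) (tt N32195 (iv5 F82511)) (tt N15117 F45373) (tt N8936 (iv7 D28088)))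
theorem Q18156 : ∀ i, i < 18156 → P i := stepQ 18155 Q18155 (allL N18155 (tt N9754 (iv1 F45380)) (tt N8939 (iv0 D28089)) (tt N15437 (iv2 F45379)) (tt N16204 F45378) (tt N30448 (iv4 F78580)) (tt N15104 F45377) (tt N16192 (iv6 F45382)) (tt N15430 F45381))
theorem Q18157 : ∀ i, i < 18157 → P i := stepQ 18156 Q18156 (allL N18156 (tt N15109 F45388) (tt N15108 (iv0 F45389)) (tt N15111 F45383) (tt N8940 (iv3 D28090)) (tt N15950 F45384) (tt N15951 F45385) (tt N16599 F45386) (tt N15103 F45387))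
theorem Q18158 : ∀ i, i < 18158 → P i := stepQ 18157 Q18157 (allL N18157 (tt N10753 F45394) (tt N16378 F45395) (tt N16550 F45390) (tt N11361 F45391) (tt N8943 (iv4 D28091)) (tt N23903 (iv5 F56733)) (tt N11365 F45392) (tt N14745 F45393))
theorem Q18159 : ∀ i, i < 18159 → P i := stepQ 18158 Q18158 (allL N18158 (tt N35816 D59134) (tt N35817 D59135) (tt N30964 (iv2 F79729)) (tt N8946 F45396) (tt N30802 (iv4 F79508)) (tt N35818 D59136) (tt N8945 (iv6 D28092)) (tt N35819 D59137))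
theorem Q18160 : ∀ i, i < 18160 → P i := stepQ 18159 Q18159 (allL N18159 (tt N29852 (iv1 F77454)) (tt N8946 (iv0 D28093)) (tt N18119 (iv2 F168035)) (tt N18078 (iv3 F168037)) (tt N35820 D59140) (tt N35821 D59141) (tt N18088 F78378) (tt N29851 (iv7 F103362)))
theorem Q18161 : ∀ i, i < 18161 → P i := stepQ 18160 Q18160 (allL N18160 (tt N8946 (iv1 D28094)) (tt N29852 F77453) (tt N29851 (iv2 F103361)) (tt N8959 (iv3 F168078)) (tt N35822 D59144) (tt N35823 D59145) (tt N35824 D59146) (tt N18119 F168058))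
theorem Q18162 : ∀ i, i < 18162 → P i := stepQ 18161 Q18161 (allL N18161 (tt N15165 F45399) (tt N16832 F45400) (tt N16831 F45397) (tt N35818 (iv3 F93309)) (tt N35825 D59147) (tt N8946 (iv5 D28095)) (tt N11143 F45398) (tt N16830 (iv7 F78432)))
theorem Q18163 : ∀ i, i < 18163 → P i := stepQ 18162 Q18162 (allL N18162 (tt N29851 (iv1 F77449)) (tt N18119 F168059) (tt N29852 (iv2 F77450)) (tt N35819 (iv3 F93316)) (tt N32354 (iv4 F82739)) (tt N16830 (iv5 F78431)) (tt N29855 (iv6 F77461)) (tt N8946 (iv7 D28096)))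
theorem Q18164 : ∀ i, i < 18164 → P i := stepQ 18163 Q18163 (allL N18163 (tt N15188 (iv1 F45402)) (tt N16032 F45401) (tt N8947 (iv2 D28097)) (tt N19666 F48113) (tt N22585 (iv4 F53376)) (tt N18229 (iv5 F45578)) (tt N35826 D59148) (tt N29849 (iv7 F77445)))
theorem Q18165 : ∀ i, i < 18165 → P i := stepQ 18164 Q18164 (allL N18164 (tt N11058 F45403) (tt N15914 (iv0 F45404)) (tt N22585 F53377) (tt N32358 (iv3 F82740)) (tt N8947 (iv4 D28098)) (tt N35827 D59149) (tt N35828 D59150) (tt N22584 F53374))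
theorem Q18166 : ∀ i, i < 18166 → P i := stepQ 18165 Q18165 (allL N18165 (tt N35829 D59151) (tt N35830 D59152) (tt N35826 (iv2 F93334)) (tt N8948 F45405) (tt N35828 (iv4 F93337)) (tt N30004 (iv5 F77767)) (tt N8947 (iv6 D28099)) (tt N35831 D59153))
theorem Q18167 : ∀ i, i < 18167 → P i := stepQ 18166 Q18166 (allL N18166 (tt N29855 (iv1 F77464)) (tt N8948 (iv0 D28100)) (tt N29854 (iv2 F100255)) (tt N8964 (iv3 F100174)) (tt N35832 D59156) (tt N18706 (iv5 F77811)) (tt N35833 D59157) (tt N18132 (iv7 F100170)))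
theorem Q18168 : ∀ i, i < 18168 → P i := stepQ 18167 Q18167 (allL N18167 (tt N8948 (iv1 D28101)) (tt N29855 F77463) (tt N18132 F100180) (tt N18088 F168027) (tt N35834 D59160) (tt N18707 F78434) (tt N18078 (iv6 F78435)) (tt N29854 (iv7 F100257)))
theorem Q18169 : ∀ i, i < 18169 → P i := stepQ 18168 Q18168 (allL N18168 (tt N18132 F100254) (tt N29854 F77462) (tt N29855 (iv2 F77459)) (tt N35831 (iv3 F93338)) (tt N32363 (iv4 F82744)) (tt N30010 (iv5 F77785)) (tt N29852 (iv6 F77451)) (tt N8948 (iv7 D28102)))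
theorem Q18170 : ∀ i, i < 18170 → P i := stepQ 18169 Q18169 (allL N18169 (tt N35835 D59161) (tt N35836 D59162) (tt N35837 D59163) (tt N8949 (iv3 D28103)) (tt N35838 D59164) (tt N35839 D59165) (tt N35840 D59166) (tt N16238 F45406))
theorem Q18171 : ∀ i, i < 18171 → P i := stepQ 18170 Q18170 (allL N18170 (tt N32276 (iv1 F82653)) (tt N21040 (iv0 F50050)) (tt N16230 F45407) (tt N35839 (iv3 F93359)) (tt N14720 F45409) (tt N8949 (iv5 D28104)) (tt N35841 D59167) (tt N16239 F45408))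
theorem Q18172 : ∀ i, i < 18172 → P i := stepQ 18171 Q18171 (allL N18171 (tt N35820 (iv1 F163192)) (tt N35822 (iv0 F95726)) (tt N16231 F45410) (tt N35840 (iv3 F93361)) (tt N14697 F45411) (tt N35842 D59170) (tt N8949 (iv6 D28105)) (tt N35843 D59171))
theorem Q18173 : ∀ i, i < 18173 → P i := stepQ 18172 Q18172 (allL N18172 (tt N35844 D59172) (tt N35845 D59173) (tt N35846 D59174) (tt N8950 (iv3 D28106)) (tt N31611 (iv4 F81021)) (tt N35847 D59175) (tt N35848 D59176) (tt N16229 F45412))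
theorem Q18174 : ∀ i, i < 18174 → P i := stepQ 18173 Q18173 (allL N18173 (tt N21040 (iv1 F50051)) (tt N32276 (iv0 F82652)) (tt N16239 F45413) (tt N35847 (iv3 F93378)) (tt N14718 F45414) (tt N8950 (iv5 D28107)) (tt N35849 D59177) (tt N16230 F45415))
theorem Q18175 : ∀ i, i < 18175 → P i := stepQ 18174 Q18174 (allL N18174 (tt N35832 (iv1 F163885)) (tt N35834 (iv0 F163886)) (tt N16240 F45416) (tt N35848 (iv3 F93380)) (tt N14698 F45417) (tt N35850 D59180) (tt N8950 (iv6 D28108)) (tt N35851 D59181))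
theorem Q18176 : ∀ i, i < 18176 → P i := stepQ 18175 Q18175 (allL N18175 (tt N35795 (iv1 F93266)) (tt N8951 (iv0 D28109)) (tt N31199 (iv2 F170121)) (tt N35852 D59183) (tt N31198 (iv4 F170120)) (tt N35853 D59185) (tt N35854 D59186) (tt N35798 (iv7 F170131)))
theorem Q18177 : ∀ i, i < 18177 → P i := stepQ 18176 Q18176 (allL N18176 (tt N8951 (iv1 D28110)) (tt N35795 (iv0 F93265)) (tt N35798 (iv2 F170130)) (tt N35855 D59188) (tt N23730 F324474) (tt N35856 D59189) (tt N23729 (iv6 F325585)) (tt N31199 (iv7 F170122)))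
theorem Q18178 : ∀ i, i < 18178 → P i := stepQ 18177 Q18177 (allL N18177 (tt N31199 F80172) (tt N35798 F93273) (tt N8951 (iv2 D28111)) (tt N29858 (iv3 F77465)) (tt N8968 F45418) (tt N35857 D59191) (tt N18099 F45419) (tt N35795 (iv7 F93264)))
theorem Q18179 : ∀ i, i < 18179 → P i := stepQ 18178 Q18178 (allL N18178 (tt N35858 D59192) (tt N35859 D59193) (tt N35857 (iv2 F93393)) (tt N8952 F45420) (tt N35860 D59194) (tt N8951 (iv5 D28112)) (tt N35861 D59195) (tt N29881 (iv7 F77525)))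
theorem Q18180 : ∀ i, i < 18180 → P i := stepQ 18179 Q18179 (allL N18179 (tt N14883 (iv1 F45423)) (tt N8952 (iv0 D28113)) (tt N16215 (iv2 F45424)) (tt N35862 D59196) (tt N14727 F45422) (tt N14691 F45421) (tt N35863 D59197) (tt N16224 (iv7 F45425)))
theorem Q18181 : ∀ i, i < 18181 → P i := stepQ 18180 Q18180 (allL N18180 (tt N8952 (iv1 D28114)) (tt N14883 F45426) (tt N16224 (iv2 F45430)) (tt N35864 D59198) (tt N14726 F45429) (tt N14694 F45428) (tt N35865 D59199) (tt N16215 F45427))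
theorem Q18182 : ∀ i, i < 18182 → P i := stepQ 18181 Q18181 (allL N18181 (tt N35866 D59200) (tt N35867 D59201) (tt N29861 (iv2 F77470)) (tt N35861 (iv3 F93394)) (tt N29886 (iv4 F77535)) (tt N18105 F45431) (tt N8952 (iv6 D28115)) (tt N35868 D59202))
theorem Q18183 : ∀ i, i < 18183 → P i := stepQ 18182 Q18182 (allL N18182 (tt N35869 D59203) (tt N35870 D59204) (tt N29862 (iv2 F77472)) (tt N35799 (iv3 F93274)) (tt N8954 F45432) (tt N35871 D59205) (tt N8953 (iv6 D28116)) (tt N18107 F45433))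
theorem Q18184 : ∀ i, i < 18184 → P i := stepQ 18183 Q18183 (allL N18183 (tt N18041 (iv1 F45434)) (tt N8954 (iv0 D28117)) (tt N18109 (iv2 F166422)) (tt N35872 D59207) (tt N32388 (iv4 F161391)) (tt N35873 D59209) (tt N35874 D59210) (tt N18108 F166421))
theorem Q18185 : ∀ i, i < 18185 → P i := stepQ 18184 Q18184 (allL N18184 (tt N8954 (iv1 D28118)) (tt N18041 F45435) (tt N18108 F166420) (tt N35875 D59212) (tt N32389 (iv4 F161334)) (tt N35876 D59214) (tt N35877 D59215) (tt N18109 (iv7 F166423)))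
theorem Q18186 : ∀ i, i < 18186 → P i := stepQ 18185 Q18185 (allL N18185 (tt N35878 D59216) (tt N35879 D59217) (tt N8957 F45436) (tt N18111 F45437) (tt N32244 (iv4 F82599)) (tt N18304 F45764) (tt N8955 (iv6 D28119)) (tt N35880 D59218))
theorem Q18187 : ∀ i, i < 18187 → P i := stepQ 18186 Q18186 (allL N18186 (tt N32075 (iv1 F82244)) (tt N32078 (iv0 F82253)) (tt N32243 (iv2 F82594)) (tt N31191 (iv3 F80128)) (tt N33043 (iv4 F83974)) (tt N8956 (iv5 D28120)) (tt N35881 D59219) (tt N18126 F45438))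
theorem Q18188 : ∀ i, i < 18188 → P i := stepQ 18187 Q18187 (allL N18187 (tt N23776 F327550) (tt N35882 D59221) (tt N32244 (iv2 F82598)) (tt N23431 (iv3 F318814)) (tt N8957 F45439) (tt N35883 D59222) (tt N8956 (iv6 D28121)) (tt N35884 D59223))
theorem Q18189 : ∀ i, i < 18189 → P i := stepQ 18188 Q18188 (allL N18188 (tt N35880 (iv1 F93428)) (tt N8957 (iv0 D28122)) (tt N35878 (iv2 F171879)) (tt N35885 D59225) (tt N35886 D59226) (tt N35887 D59227) (tt N23623 F326793) (tt N35879 (iv7 F171872)))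
theorem Q18190 : ∀ i, i < 18190 → P i := stepQ 18189 Q18189 (allL N18189 (tt N8957 (iv1 D28123)) (tt N35880 F93425) (tt N35879 (iv2 F171871)) (tt N35888 D59230) (tt N35889 D59231) (tt N35890 D59232) (tt N35891 D59233) (tt N35878 (iv7 F171880)))
theorem Q18191 : ∀ i, i < 18191 → P i := stepQ 18190 Q18190 (allL N18190 (tt N35879 (iv1 F93419)) (tt N35878 F93424) (tt N35880 (iv2 F93420)) (tt N8960 F45440) (tt N35884 (iv4 F93429)) (tt N16839 F45441) (tt N18130 F45442) (tt N8957 (iv7 D28124)))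
theorem Q18192 : ∀ i, i < 18192 → P i := stepQ 18191 Q18191 (allL N18191 (tt N18080 (iv1 F100258)) (tt N18035 (iv0 F100259)) (tt N18078 (iv2 F100169)) (tt N8958 (iv3 D28126)) (tt N35892 D59237) (tt N35893 D59238) (tt N18132 F45445) (tt N18079 F100168))
theorem Q18193 : ∀ i, i < 18193 → P i := stepQ 18192 Q18192 (allL N18192 (tt N29688 F76973) (tt N30500 (iv0 F78646)) (tt N18120 F45477) (tt N35893 (iv3 F93443)) (tt N35894 D59239) (tt N8958 (iv5 D28128)) (tt N18824 (iv6 F46549)) (tt N18121 (iv7 F45480)))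
theorem Q18194 : ∀ i, i < 18194 → P i := stepQ 18193 Q18193 (allL N18193 (tt N30500 F78647) (tt N29688 (iv0 F76972)) (tt N18121 F45481) (tt N35823 (iv3 F168079)) (tt N33461 (iv4 F94154)) (tt N8959 (iv5 D28132)) (tt N9053 F45448) (tt N18120 F45475))
theorem Q18195 : ∀ i, i < 18195 → P i := stepQ 18194 Q18194 (allL N18194 (tt N30654 F79073) (tt N18149 (iv0 F45452)) (tt N18122 (iv2 F45455)) (tt N35824 (iv3 F168034)) (tt N31912 (iv4 F81674)) (tt N16104 F45450) (tt N8959 (iv6 D28133)) (tt N18131 F45449))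
theorem Q18196 : ∀ i, i < 18196 → P i := stepQ 18195 Q18195 (allL N18195 (tt N18113 F45489) (tt N18112 (iv0 F45490)) (tt N8962 F45487) (tt N35895 D59247) (tt N8961 (iv4 D28134)) (tt N31894 (iv5 F81645)) (tt N23771 (iv6 F325306)) (tt N18110 F45488))
theorem Q18197 : ∀ i, i < 18197 → P i := stepQ 18196 Q18196 (allL N18196 (tt N23624 (iv1 F325963)) (tt N23623 (iv0 F325966)) (tt N8963 F45491) (tt N18124 F45492) (tt N23771 (iv4 F325305)) (tt N18234 (iv5 F45590)) (tt N8961 (iv6 D28135)) (tt N23625 (iv7 F325134)))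
theorem Q18198 : ∀ i, i < 18198 → P i := stepQ 18197 Q18197 (allL N18197 (tt N8962 (iv1 D28136)) (tt N18110 F45493) (tt N18112 (iv2 F45496)) (tt N21297 (iv3 F51038)) (tt N15536 F45495) (tt N21296 F51037) (tt N35896 D59252) (tt N18113 F45494))
theorem Q18199 : ∀ i, i < 18199 → P i := stepQ 18198 Q18198 (allL N18198 (tt N32007 (iv1 F82028)) (tt N21343 (iv0 F51121)) (tt N31894 (iv2 F81644)) (tt N23792 F320745) (tt N31881 (iv4 F81613)) (tt N8962 (iv5 D28137)) (tt N24017 F320746) (tt N18114 F45497))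
theorem Q18200 : ∀ i, i < 18200 → P i := stepQ 18199 Q18199 (allL N18199 (tt N23625 (iv1 F325130)) (tt N8963 (iv0 D28139)) (tt N23624 (iv2 F325964)) (tt N35897 D59259) (tt N35898 D59260) (tt N18834 (iv5 F93678)) (tt N35899 D59262) (tt N23623 (iv7 F325968)))
theorem Q18201 : ∀ i, i < 18201 → P i := stepQ 18200 Q18200 (allL N18200 (tt N8963 (iv1 D28140)) (tt N23625 (iv0 F325129)) (tt N23623 (iv2 F325967)) (tt N35900 D59264) (tt N35901 D59265) (tt N18835 F93475) (tt N35878 (iv6 F93476)) (tt N23624 (iv7 F325965)))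
theorem Q18202 : ∀ i, i < 18202 → P i := stepQ 18201 Q18201 (allL N18201 (tt N18149 F45506) (tt N30654 (iv0 F79072)) (tt N18131 F45504) (tt N35833 (iv3 F100160)) (tt N31945 (iv4 F81795)) (tt N16105 F45507) (tt N8964 (iv6 D28144)) (tt N18122 F45505))
theorem Q18203 : ∀ i, i < 18203 → P i := stepQ 18202 Q18202 (allL N18202 (tt N18037 (iv1 F168029)) (tt N18090 (iv0 F168028)) (tt N18088 F168025) (tt N8965 (iv3 D28145)) (tt N35902 D59274) (tt N18848 (iv5 F46570)) (tt N18119 F45508) (tt N18087 F168026))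
theorem Q18204 : ∀ i, i < 18204 → P i := stepQ 18203 Q18203 (allL N18203 (tt N31942 (iv1 F170484)) (tt N35230 F323084) (tt N31756 (iv2 F173289)) (tt N8966 (iv3 D28148)) (tt N31226 F80207) (tt N35903 D59284) (tt N17728 (iv6 F324518)) (tt N23415 F323085))
theorem Q18205 : ∀ i, i < 18205 → P i := stepQ 18204 Q18204 (allL N18204 (tt N35904 D59287) (tt N35905 D59288) (tt N32366 (iv2 F173274)) (tt N35906 D59289) (tt N8966 (iv4 D28149)) (tt N35907 D59290) (tt N35908 D59291) (tt N35797 (iv7 F173285)))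
theorem Q18206 : ∀ i, i < 18206 → P i := stepQ 18205 Q18205 (allL N18205 (tt N31066 (iv1 F170946)) (tt N15661 (iv0 F170947)) (tt N25276 F323900) (tt N35903 (iv3 F93513)) (tt N35909 D59295) (tt N8966 (iv5 D28150)) (tt N24238 (iv6 F325176)) (tt N25912 (iv7 F324418)))
theorem Q18207 : ∀ i, i < 18207 → P i := stepQ 18206 Q18206 (allL N18206 (tt N12030 (iv1 F326196)) (tt N27721 F327013) (tt N23428 F325280) (tt N17728 F325281) (tt N35908 (iv4 F93518)) (tt N17703 (iv5 F326197)) (tt N8966 (iv6 D28151)) (tt N17702 (iv7 F326198)))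
theorem Q18208 : ∀ i, i < 18208 → P i := stepQ 18207 Q18207 (allL N18207 (tt N25342 F322517) (tt N25338 F322518) (tt N35227 F322519) (tt N8967 (iv3 D28153)) (tt N35910 D59306) (tt N23810 F322520) (tt N23515 (iv6 F323988)) (tt N23430 F322521))
theorem Q18209 : ∀ i, i < 18209 → P i := stepQ 18208 Q18208 (allL N18208 (tt N35905 (iv1 F93517)) (tt N35904 F93521) (tt N35797 (iv2 F173284)) (tt N32370 (iv3 F173408)) (tt N8967 (iv4 D28154)) (tt N35911 D59309) (tt N24030 (iv6 F325218)) (tt N32366 (iv7 F173275)))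
theorem Q18210 : ∀ i, i < 18210 → P i := stepQ 18209 Q18209 (allL N18209 (tt N15661 F170949) (tt N31066 F170950) (tt N25912 (iv2 F324416)) (tt N23810 F323026) (tt N35912 D59311) (tt N8967 (iv5 D28155)) (tt N13136 (iv6 F324420)) (tt N25276 F323027))
theorem Q18211 : ∀ i, i < 18211 → P i := stepQ 18210 Q18210 (allL N18210 (tt N16034 F166152) (tt N16081 (iv0 F166153)) (tt N31250 (iv2 F166166)) (tt N8969 (iv3 D28158)) (tt N35913 D59320) (tt N35914 D59321) (tt N35915 D59322) (tt N18147 (iv7 F78670)))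
theorem Q18212 : ∀ i, i < 18212 → P i := stepQ 18211 Q18211 (allL N18211 (tt N15676 F45516) (tt N15676 (iv0 F45518)) (tt N18148 F78675) (tt N35914 (iv3 F93540)) (tt N23618 F321758) (tt N8969 (iv5 D28160)) (tt N15663 F45517) (tt N18148 (iv7 F78672)))
theorem Q18213 : ∀ i, i < 18213 → P i := stepQ 18212 Q18212 (allL N18212 (tt N18122 F45520) (tt N18131 (iv0 F45521)) (tt N18149 (iv2 F78667)) (tt N35915 (iv3 F93543)) (tt N23621 F325050) (tt N15220 F45519) (tt N8969 (iv6 D28161)) (tt N30654 (iv7 F79071)))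
theorem Q18214 : ∀ i, i < 18214 → P i := stepQ 18213 Q18213 (allL N18213 (tt N9687 F45526) (tt N9817 F45527) (tt N9819 F45522) (tt N19544 F47945) (tt N8970 (iv4 D28162)) (tt N15863 F45525) (tt N9789 F45523) (tt N9729 F45524))
theorem Q18215 : ∀ i, i < 18215 → P i := stepQ 18214 Q18214 (allL N18214 (tt N8975 (iv1 D28164)) (tt N18221 F45547) (tt N18219 F55541) (tt N21571 (iv3 F55490)) (tt N23311 F55489) (tt N19055 F54349) (tt N11456 F54350) (tt N18220 (iv7 F55543)))
theorem Q18216 : ∀ i, i < 18216 → P i := stepQ 18215 Q18215 (allL N18215 (tt N18220 (iv1 F45546)) (tt N18219 F45540) (tt N8975 (iv2 D28165)) (tt N18218 (iv3 F45533)) (tt N22788 (iv4 F54402)) (tt N19499 (iv5 F47813)) (tt N16111 F45528) (tt N18221 (iv7 F45544)))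
theorem Q18217 : ∀ i, i < 18217 → P i := stepQ 18216 Q18216 (allL N18216 (tt N15239 (iv1 F45549)) (tt N18217 F45532) (tt N8976 (iv2 D28167)) (tt N18221 (iv3 F45541)) (tt N9333 F45529) (tt N19505 (iv5 F47828)) (tt N11804 F45530) (tt N18218 (iv7 F45536)))
theorem Q18218 : ∀ i, i < 18218 → P i := stepQ 18217 Q18217 (allL N18217 (tt N18216 (iv1 F45532)) (tt N8977 (iv0 D28168)) (tt N15326 F55500) (tt N30530 (iv3 F78818)) (tt N15324 (iv4 F55499)) (tt N19482 F54186) (tt N23386 (iv6 F55766)) (tt N15323 F55501))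
theorem Q18219 : ∀ i, i < 18219 → P i := stepQ 18218 Q18218 (allL N18218 (tt N15326 (iv1 F50880)) (tt N15323 F45537) (tt N8977 (iv2 D28170)) (tt N18215 F45533) (tt N9492 F45534) (tt N18524 (iv5 F50876)) (tt N10210 F45535) (tt N18216 F45536))
theorem Q18220 : ∀ i, i < 18220 → P i := stepQ 18219 Q18219 (allL N18219 (tt N18215 (iv1 F45540)) (tt N8978 (iv0 D28171)) (tt N18214 (iv2 F55541)) (tt N15321 (iv3 F55510)) (tt N30524 (iv4 F78791)) (tt N19469 F54288) (tt N23273 F55360) (tt N15325 (iv7 F55544)))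
theorem Q18221 : ∀ i, i < 18221 → P i := stepQ 18220 Q18220 (allL N18220 (tt N8978 (iv1 D28172)) (tt N18215 F45546) (tt N15325 F55545) (tt N35916 D59323) (tt N30074 (iv4 F77970)) (tt N19470 F54343) (tt N35917 D59324) (tt N18214 F55543))
theorem Q18222 : ∀ i, i < 18222 → P i := stepQ 18221 Q18221 (allL N18221 (tt N18214 (iv1 F45547)) (tt N15325 (iv0 F50884)) (tt N8978 (iv2 D28173)) (tt N18216 F45541) (tt N17519 F45542) (tt N19107 (iv5 F46928)) (tt N10609 F45543) (tt N18215 F45544))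
theorem Q18223 : ∀ i, i < 18223 → P i := stepQ 18222 Q18222 (allL N18222 (tt N35918 D59325) (tt N19223 F47117) (tt N15199 F45551) (tt N9183 F45552) (tt N35919 D59326) (tt N8979 (iv5 D28174)) (tt N35680 (iv6 F93114)) (tt N9197 F45553))
theorem Q18224 : ∀ i, i < 18224 → P i := stepQ 18223 Q18223 (allL N18223 (tt N19223 F47116) (tt N35918 F93560) (tt N9197 F45554) (tt N15367 F45555) (tt N35920 D59327) (tt N8980 (iv5 D28175)) (tt N35921 D59328) (tt N15199 F45556))
theorem Q18225 : ∀ i, i < 18225 → P i := stepQ 18224 Q18224 (allL N18224 (tt N31387 (iv1 F80569)) (tt N8981 (iv0 D28176)) (tt N30695 (iv2 F79243)) (tt N9185 (iv3 F45558)) (tt N16570 F45557) (tt N20896 (iv5 F49841)) (tt N35922 D59329) (tt N9207 F45559))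
theorem Q18226 : ∀ i, i < 18226 → P i := stepQ 18225 Q18225 (allL N18225 (tt N8981 (iv1 D28177)) (tt N31387 F80568) (tt N9207 F45565) (tt N15369 F45566) (tt N16571 F45567) (tt N14771 (iv5 F45564)) (tt N35923 D59330) (tt N30695 (iv7 F79245)))
theorem Q18227 : ∀ i, i < 18227 → P i := stepQ 18226 Q18226 (allL N18226 (tt N9603 F45568) (tt N16578 F45569) (tt N19745 F48223) (tt N35924 D59331) (tt N8981 (iv4 D28178)) (tt N35925 D59332) (tt N18246 (iv6 F45612)) (tt N19746 (iv7 F48227)))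
theorem Q18228 : ∀ i, i < 18228 → P i := stepQ 18227 Q18227 (allL N18227 (tt N9207 (iv1 F45572)) (tt N30695 (iv0 F79246)) (tt N31387 (iv2 F80564)) (tt N8989 F45570) (tt N19746 F48228) (tt N8982 F45571) (tt N35926 D59333) (tt N8981 (iv7 D28179)))
theorem Q18229 : ∀ i, i < 18229 → P i := stepQ 18228 Q18228 (allL N18228 (tt N19140 (iv1 F46966)) (tt N19139 F46964) (tt N14981 F45573) (tt N15723 F45574) (tt N35927 D59334) (tt N8983 (iv5 D28180)) (tt N35928 D59335) (tt N18243 (iv7 F45600)))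
theorem Q18230 : ∀ i, i < 18230 → P i := stepQ 18229 Q18229 (allL N18229 (tt N9019 (iv1 F45580)) (tt N16065 (iv0 F45579)) (tt N10268 F45575) (tt N15724 F45576) (tt N9679 F45577) (tt N18163 F45578) (tt N8983 (iv6 D28181)) (tt N20065 (iv7 F48791)))
theorem Q18231 : ∀ i, i < 18231 → P i := stepQ 18230 Q18230 (allL N18230 (tt N18247 (iv1 F45619)) (tt N8984 (iv0 D28182)) (tt N14988 (iv2 F45582)) (tt N15725 F45583) (tt N9713 F45581) (tt N32025 (iv5 F82068)) (tt N35929 D59336) (tt N18245 (iv7 F45606)))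
theorem Q18232 : ∀ i, i < 18232 → P i := stepQ 18231 Q18231 (allL N18231 (tt N9693 F45584) (tt N9608 F45585) (tt N18246 (iv2 F45611)) (tt N35930 D59337) (tt N8984 (iv4 D28183)) (tt N35931 D59338) (tt N19745 F48224) (tt N19736 (iv7 F48197)))
theorem Q18233 : ∀ i, i < 18233 → P i := stepQ 18232 Q18232 (allL N18232 (tt N18245 (iv1 F45605)) (tt N14988 F45610) (tt N18247 (iv2 F45615)) (tt N15371 F45586) (tt N19736 (iv4 F48194)) (tt N8985 F45587) (tt N35932 D59339) (tt N8984 (iv7 D28184)))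
theorem Q18234 : ∀ i, i < 18234 → P i := stepQ 18233 Q18233 (allL N18233 (tt N19228 (iv1 F47127)) (tt N19227 F47126) (tt N9218 F45588) (tt N35933 D59340) (tt N8986 (iv4 D28185)) (tt N35934 D59341) (tt N35935 D59342) (tt N18248 (iv7 F45621)))
theorem Q18235 : ∀ i, i < 18235 → P i := stepQ 18234 Q18234 (allL N18234 (tt N31291 F80345) (tt N31288 (iv0 F80341)) (tt N9219 F45589) (tt N19188 (iv3 F47034)) (tt N35935 (iv4 F93611)) (tt N18196 F45590) (tt N8986 (iv6 D28186)) (tt N35936 D59343))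
theorem Q18236 : ∀ i, i < 18236 → P i := stepQ 18235 Q18235 (allL N18235 (tt N19272 (iv1 F47228)) (tt N9689 F45592) (tt N9250 F45591) (tt N35937 D59344) (tt N8987 (iv4 D28187)) (tt N35938 D59345) (tt N35939 D59346) (tt N18250 (iv7 F45624)))
theorem Q18237 : ∀ i, i < 18237 → P i := stepQ 18236 Q18236 (allL N18236 (tt N35940 D59347) (tt N35941 D59348) (tt N9251 F45593) (tt N19249 (iv3 F47177)) (tt N35939 (iv4 F93620)) (tt N30464 F78607) (tt N8987 (iv6 D28188)) (tt N35942 D59349))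
theorem Q18238 : ∀ i, i < 18238 → P i := stepQ 18237 Q18237 (allL N18237 (tt N18256 (iv1 F45640)) (tt N8988 (iv0 D28189)) (tt N18252 F45629) (tt N35943 D59350) (tt N9682 F45594) (tt N35944 D59351) (tt N35945 D59352) (tt N18253 (iv7 F45633)))
theorem Q18239 : ∀ i, i < 18239 → P i := stepQ 18238 Q18238 (allL N18238 (tt N8988 (iv1 D28190)) (tt N18256 F45639) (tt N18253 F45635) (tt N35946 D59353) (tt N9683 F45595) (tt N35947 D59354) (tt N35948 D59355) (tt N18252 F45630))
theorem Q18240 : ∀ i, i < 18240 → P i := stepQ 18239 Q18239 (allL N18239 (tt N35949 D59356) (tt N35950 D59357) (tt N35951 D59358) (tt N8988 (iv3 D28191)) (tt N35924 (iv4 F93586)) (tt N35952 D59359) (tt N29607 (iv6 F76794)) (tt N35953 D59360))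
theorem Q18241 : ∀ i, i < 18241 → P i := stepQ 18240 Q18240 (allL N18240 (tt N35954 D59361) (tt N35955 D59362) (tt N18255 (iv2 F45636)) (tt N35952 (iv3 F93632)) (tt N35956 D59363) (tt N8988 (iv5 D28192)) (tt N35957 D59364) (tt N35958 D59365))
theorem Q18242 : ∀ i, i < 18242 → P i := stepQ 18241 Q18241 (allL N18241 (tt N18253 (iv1 F45632)) (tt N18252 F45631) (tt N18256 (iv2 F45637)) (tt N35953 (iv3 F93633)) (tt N8989 F45596) (tt N35958 (iv5 F93641)) (tt N35959 D59366) (tt N8988 (iv7 D28193)))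
theorem Q18243 : ∀ i, i < 18243 → P i := stepQ 18242 Q18242 (allL N18242 (tt N35960 D59367) (tt N19336 F101896) (tt N18257 (iv2 F45641)) (tt N35926 (iv3 F93589)) (tt N35959 (iv4 F93642)) (tt N18242 F45597) (tt N8989 (iv6 D28194)) (tt N19186 (iv7 F47028)))
theorem Q18244 : ∀ i, i < 18244 → P i := stepQ 18243 Q18243 (allL N18243 (tt N18774 F46491) (tt N30002 F77755) (tt N9395 F45598) (tt N15730 F45599) (tt N35961 D59369) (tt N8990 (iv5 D28195)) (tt N35962 D59370) (tt N18228 F45600))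
theorem Q18245 : ∀ i, i < 18245 → P i := stepQ 18244 Q18244 (allL N18244 (tt N18787 F46507) (tt N9009 (iv0 F45604)) (tt N9396 F45601) (tt N15731 F45602) (tt N9645 F45603) (tt N30580 (iv5 F78925)) (tt N8990 (iv6 D28196)) (tt N20006 (iv7 F48714)))
theorem Q18246 : ∀ i, i < 18246 → P i := stepQ 18245 Q18245 (allL N18245 (tt N8991 (iv1 D28197)) (tt N18232 F45605) (tt N9403 (iv2 F45607)) (tt N15732 (iv3 F45608)) (tt N9697 (iv4 F45609)) (tt N29516 (iv5 F76569)) (tt N35963 D59371) (tt N18230 F45606))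
theorem Q18247 : ∀ i, i < 18247 → P i := stepQ 18246 Q18246 (allL N18246 (tt N9660 F45614) (tt N9711 F45613) (tt N18231 F45611) (tt N35964 D59372) (tt N8991 (iv4 D28198)) (tt N35965 D59373) (tt N18226 F45612) (tt N19618 (iv7 F48020)))
theorem Q18248 : ∀ i, i < 18248 → P i := stepQ 18247 Q18247 (allL N18247 (tt N9403 (iv1 F45618)) (tt N18230 F45619) (tt N18232 F45615) (tt N9413 F45616) (tt N19618 F48021) (tt N8992 F45617) (tt N35966 D59374) (tt N8991 (iv7 D28199)))
theorem Q18249 : ∀ i, i < 18249 → P i := stepQ 18248 Q18248 (allL N18248 (tt N18734 (iv1 F46447)) (tt N18733 F46446) (tt N9432 F45620) (tt N35967 D59375) (tt N8993 (iv4 D28200)) (tt N35968 D59376) (tt N35969 D59377) (tt N18233 F45621))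
theorem Q18250 : ∀ i, i < 18250 → P i := stepQ 18249 Q18249 (allL N18249 (tt N35970 D59378) (tt N18776 (iv0 F46494)) (tt N9433 F45622) (tt N18773 (iv3 F46488)) (tt N35969 (iv4 F93673)) (tt N30584 (iv5 F78940)) (tt N8993 (iv6 D28201)) (tt N35971 D59379))
theorem Q18251 : ∀ i, i < 18251 → P i := stepQ 18250 Q18250 (allL N18250 (tt N9684 F45625) (tt N18803 F46527) (tt N9451 F45623) (tt N35972 D59380) (tt N8995 (iv4 D28202)) (tt N35973 D59381) (tt N35974 D59382) (tt N18235 F45624))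
theorem Q18252 : ∀ i, i < 18252 → P i := stepQ 18251 Q18251 (allL N18251 (tt N35975 D59383) (tt N35976 D59384) (tt N9452 F45626) (tt N18829 (iv3 F46557)) (tt N35974 (iv4 F93689)) (tt N16036 F45627) (tt N8995 (iv6 D28203)) (tt N35977 D59385))
theorem Q18253 : ∀ i, i < 18253 → P i := stepQ 18252 Q18252 (allL N18252 (tt N18241 (iv1 F45631)) (tt N8996 (iv0 D28204)) (tt N18237 (iv2 F45629)) (tt N35978 D59386) (tt N9688 F45628) (tt N35979 D59387) (tt N35980 D59388) (tt N18238 (iv7 F45630)))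
theorem Q18254 : ∀ i, i < 18254 → P i := stepQ 18253 Q18253 (allL N18253 (tt N8996 (iv1 D28205)) (tt N18241 F45632) (tt N18238 (iv2 F45635)) (tt N35981 D59389) (tt N9651 F45634) (tt N35982 D59390) (tt N35983 D59391) (tt N18237 F45633))
theorem Q18255 : ∀ i, i < 18255 → P i := stepQ 18254 Q18254 (allL N18254 (tt N35984 D59392) (tt N35985 D59393) (tt N35986 D59394) (tt N8996 (iv3 D28206)) (tt N31384 (iv4 F80559)) (tt N35987 D59395) (tt N29609 (iv6 F76795)) (tt N35988 D59396))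
theorem Q18256 : ∀ i, i < 18256 → P i := stepQ 18255 Q18255 (allL N18255 (tt N35989 D59397) (tt N35990 D59398) (tt N18240 F45636) (tt N35987 (iv3 F93721)) (tt N35991 D59399) (tt N8996 (iv5 D28207)) (tt N35992 D59400) (tt N35993 D59401))
theorem Q18257 : ∀ i, i < 18257 → P i := stepQ 18256 Q18256 (allL N18256 (tt N18238 (iv1 F45639)) (tt N18237 F45640) (tt N18241 F45637) (tt N35988 (iv3 F93722)) (tt N8997 F45638) (tt N35993 (iv5 F93743)) (tt N35994 D59402) (tt N8996 (iv7 D28208)))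
theorem Q18258 : ∀ i, i < 18258 → P i := stepQ 18257 Q18257 (allL N18257 (tt N18894 F101877) (tt N35995 D59404) (tt N18242 F45641) (tt N31386 (iv3 F80561)) (tt N35994 (iv4 F93747)) (tt N18257 F45642) (tt N8997 (iv6 D28209)) (tt N18771 (iv7 F46485)))
theorem Q18259 : ∀ i, i < 18259 → P i := stepQ 18258 Q18258 (allL N18258 (tt N19996 (iv1 F48691)) (tt N19998 (iv0 F48697)) (tt N9011 F45643) (tt N35996 D59405) (tt N8998 (iv4 D28210)) (tt N35997 D59406) (tt N35998 D59407) (tt N9020 F45644))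
theorem Q18260 : ∀ i, i < 18260 → P i := stepQ 18259 Q18259 (allL N18259 (tt N10186 F111384) (tt N33484 F111385) (tt N9012 F45645) (tt N15748 F45646) (tt N35998 (iv4 F93756)) (tt N15289 F45647) (tt N8998 (iv6 D28211)) (tt N33483 (iv7 F101934)))
theorem Q18261 : ∀ i, i < 18261 → P i := stepQ 18260 Q18260 (allL N18260 (tt N19998 F48698) (tt N19996 (iv0 F48690)) (tt N9020 F45648) (tt N35999 D59411) (tt N9000 (iv4 D28212)) (tt N36000 D59412) (tt N36001 D59413) (tt N9011 F45649))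
theorem Q18262 : ∀ i, i < 18262 → P i := stepQ 18261 Q18261 (allL N18261 (tt N33556 (iv1 F85104)) (tt N10279 (iv0 F45652)) (tt N9021 F45650) (tt N30872 (iv3 F79620)) (tt N36001 (iv4 F93773)) (tt N16040 F45651) (tt N9000 (iv6 D28213)) (tt N33555 (iv7 F85097)))
theorem Q18263 : ∀ i, i < 18263 → P i := stepQ 18262 Q18262 (allL N18262 (tt N19990 (iv1 F48665)) (tt N19647 (iv0 F48049)) (tt N9023 F45653) (tt N36002 D59414) (tt N9001 (iv4 D28214)) (tt N36003 D59415) (tt N36004 D59416) (tt N9026 F45654))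
theorem Q18264 : ∀ i, i < 18264 → P i := stepQ 18263 Q18263 (allL N18263 (tt N29685 (iv1 F162105)) (tt N36005 D59418) (tt N9024 F45655) (tt N15758 F45656) (tt N36004 (iv4 F93780)) (tt N18732 (iv5 F46444)) (tt N9001 (iv6 D28215)) (tt N36006 D59419))
theorem Q18265 : ∀ i, i < 18265 → P i := stepQ 18264 Q18264 (allL N18264 (tt N19647 (iv1 F48050)) (tt N19990 (iv0 F48664)) (tt N9026 F45657) (tt N33168 (iv3 F84161)) (tt N9002 (iv4 D28216)) (tt N36007 D59420) (tt N36008 D59421) (tt N9023 F45658))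
theorem Q18266 : ∀ i, i < 18266 → P i := stepQ 18265 Q18265 (allL N18265 (tt N36009 D59422) (tt N29689 (iv0 F166073)) (tt N9027 F45659) (tt N33171 (iv3 F84166)) (tt N36008 (iv4 F93792)) (tt N15277 F45660) (tt N9002 (iv6 D28217)) (tt N36010 D59424))
theorem Q18267 : ∀ i, i < 18267 → P i := stepQ 18266 Q18266 (allL N18266 (tt N9003 (iv1 D28218)) (tt N9032 F45661) (tt N9029 (iv2 F45664)) (tt N36011 D59425) (tt N14939 F45663) (tt N36012 D59426) (tt N36013 D59427) (tt N9028 F45662))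
theorem Q18268 : ∀ i, i < 18268 → P i := stepQ 18267 Q18267 (allL N18267 (tt N36014 D59428) (tt N36015 D59429) (tt N36016 D59430) (tt N9003 (iv3 D28219)) (tt N29619 (iv4 F76823)) (tt N36017 D59431) (tt N30438 (iv6 F78552)) (tt N36018 D59432))
theorem Q18269 : ∀ i, i < 18269 → P i := stepQ 18268 Q18268 (allL N18268 (tt N19984 (iv1 F48657)) (tt N36019 D59433) (tt N9031 F45665) (tt N36017 (iv3 F93808)) (tt N9872 F45666) (tt N9003 (iv5 D28220)) (tt N36020 D59434) (tt N9870 (iv7 F45667)))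
theorem Q18270 : ∀ i, i < 18270 → P i := stepQ 18269 Q18269 (allL N18269 (tt N9029 (iv1 F45671)) (tt N9028 F45672) (tt N9032 F45668) (tt N36018 (iv3 F93810)) (tt N9004 F45669) (tt N9870 F45670) (tt N36021 D59435) (tt N9003 (iv7 D28221)))
theorem Q18271 : ∀ i, i < 18271 → P i := stepQ 18270 Q18270 (allL N18270 (tt N30494 (iv1 F78634)) (tt N30493 F78633) (tt N9033 F45673) (tt N29622 (iv3 F76830)) (tt N36021 (iv4 F93820)) (tt N18270 F45674) (tt N9004 (iv6 D28222)) (tt N30441 (iv7 F78560)))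
theorem Q18272 : ∀ i, i < 18272 → P i := stepQ 18271 Q18271 (allL N18271 (tt N9005 (iv1 D28223)) (tt N15750 F45675) (tt N10148 (iv2 F45677)) (tt N20452 (iv3 F49319)) (tt N16605 (iv4 F45678)) (tt N15678 F45676) (tt N36022 D59436) (tt N30823 (iv7 F79548)))
theorem Q18273 : ∀ i, i < 18273 → P i := stepQ 18272 Q18272 (allL N18272 (tt N9950 F45679) (tt N30208 (iv0 F78181)) (tt N32229 (iv2 F82573)) (tt N36023 D59437) (tt N9005 (iv4 D28224)) (tt N33058 (iv5 F84003)) (tt N36024 D59438) (tt N30871 (iv7 F79616)))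
theorem Q18274 : ∀ i, i < 18274 → P i := stepQ 18273 Q18273 (allL N18273 (tt N36025 D59439) (tt N36026 D59440) (tt N32230 (iv2 F82578)) (tt N9012 F45680) (tt N36024 (iv4 F93825)) (tt N35545 (iv5 F92812)) (tt N9005 (iv6 D28225)) (tt N36027 D59441))
theorem Q18275 : ∀ i, i < 18275 → P i := stepQ 18274 Q18274 (allL N18274 (tt N9006 (iv1 D28226)) (tt N18681 F46390) (tt N10163 (iv2 F45683)) (tt N30740 (iv3 F79330)) (tt N15640 F45682) (tt N30576 (iv5 F78913)) (tt N16100 (iv6 F45684)) (tt N15656 F45681))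
theorem Q18276 : ∀ i, i < 18276 → P i := stepQ 18275 Q18275 (allL N18275 (tt N10163 (iv1 F45688)) (tt N15656 F45689) (tt N18681 F46389) (tt N9014 F45685) (tt N30731 (iv4 F79303)) (tt N15284 F45686) (tt N16064 F45687) (tt N9006 (iv7 D28227)))
theorem Q18277 : ∀ i, i < 18277 → P i := stepQ 18276 Q18276 (allL N18276 (tt N9860 F45696) (tt N9856 F45697) (tt N10251 F45693) (tt N15739 F45694) (tt N19883 (iv4 F48520)) (tt N9007 (iv5 D28228)) (tt N36028 D59442) (tt N15710 F45695))
theorem Q18278 : ∀ i, i < 18278 → P i := stepQ 18277 Q18277 (allL N18277 (tt N9018 (iv1 F45700)) (tt N9008 (iv0 D28229)) (tt N10256 (iv2 F45699)) (tt N15746 F45701) (tt N19868 (iv4 F48478)) (tt N15862 F45698) (tt N36029 D59443) (tt N20022 (iv7 F48738)))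
theorem Q18279 : ∀ i, i < 18279 → P i := stepQ 18278 Q18278 (allL N18278 (tt N9790 F45703) (tt N9792 F45704) (tt N29623 (iv2 F76832)) (tt N36030 D59444) (tt N9008 (iv4 D28230)) (tt N9868 F45702) (tt N36031 D59445) (tt N30881 (iv7 F79635)))
theorem Q18280 : ∀ i, i < 18280 → P i := stepQ 18279 Q18279 (allL N18279 (tt N36032 D59446) (tt N30371 (iv0 F111429)) (tt N29624 (iv2 F76841)) (tt N30777 (iv3 F79438)) (tt N36031 (iv4 F93834)) (tt N36033 D59448) (tt N9008 (iv6 D28231)) (tt N36034 D59449))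
theorem Q18281 : ∀ i, i < 18281 → P i := stepQ 18280 Q18280 (allL N18280 (tt N15813 F45707) (tt N16142 F45708) (tt N16140 F45705) (tt N15741 F45706) (tt N22597 (iv4 F53408)) (tt N9009 (iv5 D28232)) (tt N36033 (iv6 F93838)) (tt N16139 (iv7 F45711)))
theorem Q18282 : ∀ i, i < 18282 → P i := stepQ 18281 Q18281 (allL N18281 (tt N20006 F48716) (tt N9396 (iv0 F45717)) (tt N18787 F46506) (tt N30739 (iv3 F79324)) (tt N9014 F45713) (tt N16139 F45714) (tt N16065 F45715) (tt N9009 (iv7 D28233)))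
theorem Q18283 : ∀ i, i < 18283 → P i := stepQ 18282 Q18282 (allL N18282 (tt N9815 F45719) (tt N9785 F45720) (tt N10168 F45718) (tt N36035 D59450) (tt N9010 (iv4 D28234)) (tt N36036 D59451) (tt N36037 D59452) (tt N19982 (iv7 F48649)))
theorem Q18284 : ∀ i, i < 18284 → P i := stepQ 18283 Q18283 (allL N18283 (tt N36038 D59453) (tt N36039 D59454) (tt N10169 F45721) (tt N29629 (iv3 F76857)) (tt N36037 (iv4 F93845)) (tt N15683 F45722) (tt N9010 (iv6 D28235)) (tt N36040 D59455))
theorem Q18285 : ∀ i, i < 18285 → P i := stepQ 18284 Q18284 (allL N18284 (tt N9020 (iv1 F45724)) (tt N9011 (iv0 D28236)) (tt N19996 (iv2 F48688)) (tt N36041 D59456) (tt N9773 F45723) (tt N36042 D59457) (tt N36043 D59458) (tt N19998 (iv7 F48696)))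
theorem Q18286 : ∀ i, i < 18286 → P i := stepQ 18285 Q18285 (allL N18285 (tt N9011 (iv1 D28237)) (tt N9020 F45725) (tt N19998 (iv2 F48695)) (tt N36044 D59459) (tt N9774 F45726) (tt N36045 D59460) (tt N36046 D59461) (tt N19996 (iv7 F48689)))
theorem Q18287 : ∀ i, i < 18287 → P i := stepQ 18286 Q18286 (allL N18286 (tt N36047 D59462) (tt N36048 D59463) (tt N36049 D59464) (tt N9011 (iv3 D28238)) (tt N36023 (iv4 F93824)) (tt N36050 D59465) (tt N36051 D59466) (tt N35999 (iv7 F93768)))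
theorem Q18288 : ∀ i, i < 18288 → P i := stepQ 18287 Q18287 (allL N18287 (tt N36052 D59467) (tt N29929 (iv0 F77624)) (tt N35997 (iv2 F93752)) (tt N36050 (iv3 F93864)) (tt N9869 F45761) (tt N9011 (iv5 D28239)) (tt N36053 D59468) (tt N36000 (iv7 F93771)))
theorem Q18289 : ∀ i, i < 18289 → P i := stepQ 18288 Q18288 (allL N18288 (tt N36054 D59469) (tt N36055 D59470) (tt N35998 (iv2 F93755)) (tt N36051 (iv3 F93865)) (tt N9012 F45727) (tt N36056 D59471) (tt N9011 (iv6 D28240)) (tt N36057 D59472))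
theorem Q18290 : ∀ i, i < 18290 → P i := stepQ 18289 Q18289 (allL N18289 (tt N33483 F101939) (tt N9012 (iv0 D28241)) (tt N10186 F101940) (tt N29635 (iv3 F111388)) (tt N36058 D59475) (tt N20888 F101941) (tt N30456 (iv6 F93873)) (tt N33484 F101942))
theorem Q18291 : ∀ i, i < 18291 → P i := stepQ 18290 Q18290 (allL N18290 (tt N36059 D59482) (tt N20995 F321598) (tt N15289 F45728) (tt N35545 (iv3 F92810)) (tt N36060 D59484) (tt N9012 (iv5 D28243)) (tt N9013 F45729) (tt N36061 D59485))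
theorem Q18292 : ∀ i, i < 18292 → P i := stepQ 18291 Q18291 (allL N18291 (tt N33484 (iv1 F111380)) (tt N10186 (iv0 F111381)) (tt N33483 (iv2 F101930)) (tt N36027 (iv3 F93826)) (tt N36057 (iv4 F93870)) (tt N36061 (iv5 F93881)) (tt N33555 F85101) (tt N9012 (iv7 D28244)))
theorem Q18293 : ∀ i, i < 18293 → P i := stepQ 18292 Q18292 (allL N18292 (tt N15815 F45732) (tt N32206 F82529) (tt N15288 F45730) (tt N36062 D59486) (tt N9013 (iv4 D28245)) (tt N36063 D59487) (tt N36060 (iv6 F93879)) (tt N15285 F45731))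
theorem Q18294 : ∀ i, i < 18294 → P i := stepQ 18293 Q18293 (allL N18293 (tt N18042 F45736) (tt N16088 F45737) (tt N15752 F45733) (tt N18061 F45734) (tt N20478 (iv4 F49345)) (tt N9015 (iv5 D28246)) (tt N36064 D59488) (tt N15744 F45735))
theorem Q18295 : ∀ i, i < 18295 → P i := stepQ 18294 Q18294 (allL N18294 (tt N20353 F49183) (tt N9579 (iv0 F45742)) (tt N15753 F45738) (tt N16107 F45739) (tt N9017 F45740) (tt N15408 F45741) (tt N9015 (iv6 D28247)) (tt N30928 (iv7 F79690)))
theorem Q18296 : ∀ i, i < 18296 → P i := stepQ 18295 Q18295 (allL N18295 (tt N15735 (iv1 F45745)) (tt N9016 (iv0 D28248)) (tt N10253 (iv2 F45744)) (tt N20022 F48740) (tt N16685 F45743) (tt N20422 (iv5 F49258)) (tt N36065 D59489) (tt N15746 F45746))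
theorem Q18297 : ∀ i, i < 18297 → P i := stepQ 18296 Q18296 (allL N18296 (tt N9934 F45750) (tt N9931 F45749) (tt N15754 F45747) (tt N36066 D59490) (tt N9016 (iv4 D28249)) (tt N36067 D59491) (tt N36068 D59492) (tt N15747 F45748))
theorem Q18298 : ∀ i, i < 18298 → P i := stepQ 18297 Q18297 (allL N18297 (tt N36069 D59493) (tt N30395 (iv0 F80457)) (tt N15755 F45751) (tt N9021 F45752) (tt N36068 (iv4 F93910)) (tt N31328 (iv5 F80456)) (tt N9016 (iv6 D28250)) (tt N36070 D59494))
theorem Q18299 : ∀ i, i < 18299 → P i := stepQ 18298 Q18298 (allL N18298 (tt N15756 (iv1 F45756)) (tt N9017 (iv0 D28251)) (tt N10267 (iv2 F45755)) (tt N20065 (iv3 F48789)) (tt N15053 F45753) (tt N15479 F45754) (tt N31242 (iv6 F80259)) (tt N15724 F45757))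
theorem Q18300 : ∀ i, i < 18300 → P i := stepQ 18299 Q18299 (allL N18299 (tt N9792 F45758) (tt N9790 F45759) (tt N30881 (iv2 F79634)) (tt N36071 D59495) (tt N9018 (iv4 D28252)) (tt N9869 (iv5 F45760)) (tt N36072 D59496) (tt N29623 (iv7 F76833)))
theorem Q18301 : ∀ i, i < 18301 → P i := stepQ 18300 Q18300 (allL N18300 (tt N30391 (iv1 F100429)) (tt N36073 D59498) (tt N30882 (iv2 F79639)) (tt N29614 (iv3 F76807)) (tt N36072 (iv4 F93922)) (tt N31257 (iv5 F80296)) (tt N9018 (iv6 D28253)) (tt N36074 D59499))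
theorem Q18302 : ∀ i, i < 18302 → P i := stepQ 18301 Q18301 (allL N18301 (tt N36075 D59500) (tt N36076 D59501) (tt N36077 D59502) (tt N9020 (iv3 D28254)) (tt N36066 (iv4 F93902)) (tt N36078 D59503) (tt N36079 D59504) (tt N35996 (iv7 F93751)))
theorem Q18303 : ∀ i, i < 18303 → P i := stepQ 18302 Q18302 (allL N18302 (tt N29929 (iv1 F77625)) (tt N36052 F93868) (tt N36000 (iv2 F93769)) (tt N36078 (iv3 F93929)) (tt N9868 F45762) (tt N9020 (iv5 D28255)) (tt N36080 D59505) (tt N35997 (iv7 F93753)))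
theorem Q18304 : ∀ i, i < 18304 → P i := stepQ 18303 Q18303 (allL N18303 (tt N36081 D59506) (tt N36082 D59507) (tt N36001 (iv2 F93772)) (tt N36079 (iv3 F93930)) (tt N9021 F45763) (tt N36083 D59508) (tt N9020 (iv6 D28256)) (tt N36084 D59509))
theorem Q18305 : ∀ i, i < 18305 → P i := stepQ 18304 Q18304 (allL N18304 (tt N9021 (iv1 D28258)) (tt N33555 F85096) (tt N10279 F45765) (tt N29644 (iv3 F76881)) (tt N36085 D59510) (tt N18185 (iv5 F45764)) (tt N20897 (iv6 F49844)) (tt N33556 (iv7 F85103)))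
theorem Q18306 : ∀ i, i < 18306 → P i := stepQ 18305 Q18305 (allL N18305 (tt N10279 (iv1 F45766)) (tt N33556 F85105) (tt N33555 (iv2 F85099)) (tt N36070 (iv3 F93917)) (tt N36084 (iv4 F93933)) (tt N31333 (iv5 F80461)) (tt N33483 (iv6 F101933)) (tt N9021 (iv7 D28259)))
theorem Q18307 : ∀ i, i < 18307 → P i := stepQ 18306 Q18306 (allL N18306 (tt N36086 D59511) (tt N36087 D59512) (tt N33162 (iv2 F84153)) (tt N9024 F45767) (tt N33049 (iv4 F83991)) (tt N36088 D59513) (tt N9022 (iv6 D28260)) (tt N36089 D59514))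
theorem Q18308 : ∀ i, i < 18308 → P i := stepQ 18307 Q18307 (allL N18307 (tt N9026 (iv1 F45769)) (tt N9023 (iv0 D28261)) (tt N19990 (iv2 F48662)) (tt N36090 D59515) (tt N9772 F45768) (tt N36052 (iv5 F93866)) (tt N36091 D59516) (tt N19647 (iv7 F48048)))
theorem Q18309 : ∀ i, i < 18309 → P i := stepQ 18308 Q18308 (allL N18308 (tt N36092 D59517) (tt N36093 D59518) (tt N36094 D59519) (tt N9023 (iv3 D28262)) (tt N33047 (iv4 F83986)) (tt N36095 D59520) (tt N30936 F330507) (tt N33168 (iv7 F84162)))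
theorem Q18310 : ∀ i, i < 18310 → P i := stepQ 18309 Q18309 (allL N18309 (tt N36096 D59522) (tt N36097 D59523) (tt N36003 (iv2 F93776)) (tt N36095 (iv3 F93941)) (tt N9861 F45770) (tt N9023 (iv5 D28263)) (tt N36098 D59524) (tt N36007 (iv7 F93790)))
theorem Q18311 : ∀ i, i < 18311 → P i := stepQ 18310 Q18310 (allL N18310 (tt N36099 D59525) (tt N36100 D59526) (tt N36004 (iv2 F93779)) (tt N30936 (iv3 F330505)) (tt N9024 F45771) (tt N30935 F330502) (tt N9023 (iv6 D28264)) (tt N36101 D59528))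
theorem Q18312 : ∀ i, i < 18312 → P i := stepQ 18311 Q18311 (allL N18311 (tt N36006 (iv1 F93787)) (tt N9024 (iv0 D28265)) (tt N29685 (iv2 F101870)) (tt N29651 (iv3 F101892)) (tt N36102 D59531) (tt N36103 D59532) (tt N30479 F93887) (tt N36005 (iv7 F162109)))
theorem Q18313 : ∀ i, i < 18313 → P i := stepQ 18312 Q18312 (allL N18312 (tt N9024 (iv1 D28266)) (tt N36006 F93786) (tt N36005 (iv2 F162106)) (tt N9036 F101867) (tt N36104 D59535) (tt N36105 D59536) (tt N36106 D59537) (tt N29685 (iv7 F101871)))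
theorem Q18314 : ∀ i, i < 18314 → P i := stepQ 18313 Q18313 (allL N18313 (tt N18773 F46489) (tt N18786 F46501) (tt N18732 (iv2 F46443)) (tt N36088 (iv3 F93935)) (tt N36107 D59538) (tt N9024 (iv5 D28267)) (tt N9430 F45772) (tt N18784 (iv7 F95302)))
theorem Q18315 : ∀ i, i < 18315 → P i := stepQ 18314 Q18314 (allL N18314 (tt N36005 (iv1 F93781)) (tt N29685 (iv0 F162104)) (tt N36006 (iv2 F93782)) (tt N36089 (iv3 F93938)) (tt N36101 (iv4 F93954)) (tt N18784 (iv5 F95300)) (tt N36010 (iv6 F93796)) (tt N9024 (iv7 D28268)))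
theorem Q18316 : ∀ i, i < 18316 → P i := stepQ 18315 Q18315 (allL N18315 (tt N9568 F45775) (tt N9925 F45776) (tt N15760 F45773) (tt N36108 D59540) (tt N9025 (iv4 D28269)) (tt N36109 D59541) (tt N36110 D59542) (tt N15757 F45774))
theorem Q18317 : ∀ i, i < 18317 → P i := stepQ 18316 Q18316 (allL N18316 (tt N36111 D59543) (tt N36112 D59544) (tt N15761 F45777) (tt N9027 F45778) (tt N36110 (iv4 F93968)) (tt N19670 (iv5 F48122)) (tt N9025 (iv6 D28270)) (tt N36113 D59545))
theorem Q18318 : ∀ i, i < 18318 → P i := stepQ 18317 Q18317 (allL N18317 (tt N36114 D59546) (tt N36115 D59547) (tt N36116 D59548) (tt N9026 (iv3 D28271)) (tt N36108 (iv4 F93960)) (tt N36117 D59549) (tt N36118 D59550) (tt N36002 (iv7 F93775)))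
theorem Q18319 : ∀ i, i < 18319 → P i := stepQ 18318 Q18318 (allL N18318 (tt N36097 (iv1 F93948)) (tt N36096 F93945) (tt N36007 (iv2 F93788)) (tt N36117 (iv3 F93976)) (tt N9857 F45779) (tt N9026 (iv5 D28272)) (tt N36119 D59551) (tt N36003 (iv7 F93777)))
theorem Q18320 : ∀ i, i < 18320 → P i := stepQ 18319 Q18319 (allL N18319 (tt N36120 D59552) (tt N36121 D59553) (tt N36008 (iv2 F93791)) (tt N36118 (iv3 F93977)) (tt N9027 F45780) (tt N36122 D59554) (tt N9026 (iv6 D28273)) (tt N36123 D59555))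
theorem Q18321 : ∀ i, i < 18321 → P i := stepQ 18320 Q18320 (allL N18320 (tt N36010 (iv1 F93799)) (tt N9027 (iv0 D28274)) (tt N36009 (iv2 F166112)) (tt N9042 (iv3 F166115)) (tt N36124 D59558) (tt N29658 (iv5 F103697)) (tt N36125 D59560) (tt N29689 (iv7 F166111)))
theorem Q18322 : ∀ i, i < 18322 → P i := stepQ 18321 Q18321 (allL N18321 (tt N9027 (iv1 D28275)) (tt N36010 F93798) (tt N29689 (iv2 F166110)) (tt N29659 (iv3 F166114)) (tt N36126 D59563) (tt N29659 (iv5 F95303)) (tt N30471 (iv6 F95305)) (tt N36009 (iv7 F166113)))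
theorem Q18323 : ∀ i, i < 18323 → P i := stepQ 18322 Q18322 (allL N18322 (tt N22761 (iv1 F101927)) (tt N36127 D59567) (tt N15277 F45781) (tt N19670 (iv3 F48121)) (tt N36128 D59568) (tt N9027 (iv5 D28276)) (tt N15264 F45782) (tt N36129 D59569))
theorem Q18324 : ∀ i, i < 18324 → P i := stepQ 18323 Q18323 (allL N18323 (tt N29689 (iv1 F166074)) (tt N36009 F93797) (tt N36010 (iv2 F93794)) (tt N36113 (iv3 F93971)) (tt N36123 (iv4 F93979)) (tt N36129 (iv5 F93991)) (tt N36006 (iv6 F93784)) (tt N9027 (iv7 D28277)))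
theorem Q18325 : ∀ i, i < 18325 → P i := stepQ 18324 Q18324 (allL N18324 (tt N36130 D59570) (tt N36131 D59571) (tt N36132 D59572) (tt N9028 (iv3 D28278)) (tt N36133 D59573) (tt N36134 D59574) (tt N36135 D59575) (tt N36011 (iv7 F93800)))
theorem Q18326 : ∀ i, i < 18326 → P i := stepQ 18325 Q18325 (allL N18325 (tt N36136 D59576) (tt N20845 (iv0 F49686)) (tt N20089 (iv2 F48813)) (tt N36134 (iv3 F93997)) (tt N9848 F45783) (tt N9028 (iv5 D28279)) (tt N36137 D59577) (tt N36012 (iv7 F93803)))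
theorem Q18327 : ∀ i, i < 18327 → P i := stepQ 18326 Q18326 (allL N18326 (tt N36102 (iv1 F102081)) (tt N36104 (iv0 F98731)) (tt N20090 (iv2 F48816)) (tt N36135 (iv3 F93998)) (tt N20087 (iv4 F48810)) (tt N36138 D59580) (tt N9028 (iv6 D28280)) (tt N36139 D59581))
theorem Q18328 : ∀ i, i < 18328 → P i := stepQ 18327 Q18327 (allL N18327 (tt N36140 D59582) (tt N36141 D59583) (tt N36142 D59584) (tt N9029 (iv3 D28281)) (tt N19890 (iv4 F48537)) (tt N36143 D59585) (tt N36144 D59586) (tt N20088 (iv7 F48812)))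
theorem Q18329 : ∀ i, i < 18329 → P i := stepQ 18328 Q18328 (allL N18328 (tt N20845 (iv1 F49687)) (tt N36136 F94002) (tt N36012 (iv2 F93801)) (tt N36143 (iv3 F94005)) (tt N9835 F45784) (tt N9029 (iv5 D28282)) (tt N36145 D59587) (tt N20089 (iv7 F48814)))
theorem Q18330 : ∀ i, i < 18330 → P i := stepQ 18329 Q18329 (allL N18329 (tt N36124 (iv1 F166116)) (tt N36126 (iv0 F166134)) (tt N36013 (iv2 F93805)) (tt N36144 (iv3 F94006)) (tt N19889 (iv4 F48536)) (tt N36146 D59590) (tt N9029 (iv6 D28283)) (tt N36147 D59591))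
theorem Q18331 : ∀ i, i < 18331 → P i := stepQ 18330 Q18330 (allL N18330 (tt N36148 D59592) (tt N9030 (iv0 D28284)) (tt N33413 (iv2 F181451)) (tt N36149 D59594) (tt N25169 (iv4 F319054)) (tt N18798 (iv5 F320796)) (tt N36150 D59597) (tt N18797 (iv7 F320799)))
theorem Q18332 : ∀ i, i < 18332 → P i := stepQ 18331 Q18331 (allL N18331 (tt N9030 (iv1 D28285)) (tt N36148 F94011) (tt N18797 F321731) (tt N36151 D59599) (tt N25170 (iv4 F319056)) (tt N9437 (iv5 F323399)) (tt N36152 D59601) (tt N33413 (iv7 F181452)))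
theorem Q18333 : ∀ i, i < 18333 → P i := stepQ 18332 Q18332 (allL N18332 (tt N33413 F84747) (tt N18797 (iv0 F320797)) (tt N9030 (iv2 D28286)) (tt N36016 (iv3 F93807)) (tt N9047 F45785) (tt N36153 D59603) (tt N17954 F316894) (tt N36148 (iv7 F94010)))
theorem Q18334 : ∀ i, i < 18334 → P i := stepQ 18333 Q18333 (allL N18333 (tt N36154 D59604) (tt N36155 D59605) (tt N36153 (iv2 F94015)) (tt N9031 F45786) (tt N19744 (iv4 F322423)) (tt N9030 (iv5 D28287)) (tt N18819 F321544) (tt N36156 D59608))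
theorem Q18335 : ∀ i, i < 18335 → P i := stepQ 18334 Q18334 (allL N18334 (tt N18797 (iv1 F320798)) (tt N33413 (iv0 F84746)) (tt N36148 F94008) (tt N9032 F45787) (tt N9049 F45788) (tt N36156 (iv5 F94018)) (tt N23706 F316254) (tt N9030 (iv7 D28288)))
theorem Q18336 : ∀ i, i < 18336 → P i := stepQ 18335 Q18335 (allL N18335 (tt N9870 (iv1 F45791)) (tt N9031 (iv0 D28289)) (tt N19984 (iv2 F48653)) (tt N36157 D59610) (tt N9821 (iv4 F45790)) (tt N9785 F45789) (tt N36158 D59611) (tt N36019 (iv7 F93813)))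
theorem Q18337 : ∀ i, i < 18337 → P i := stepQ 18336 Q18336 (allL N18336 (tt N9031 (iv1 D28290)) (tt N9870 F45792) (tt N36019 F93816) (tt N36159 D59612) (tt N9797 (iv4 F45794)) (tt N9815 F45793) (tt N36160 D59613) (tt N19984 (iv7 F48654)))
theorem Q18338 : ∀ i, i < 18338 → P i := stepQ 18337 Q18337 (allL N18337 (tt N9869 F45797) (tt N9868 F45798) (tt N9872 F45795) (tt N36161 D59614) (tt N9031 (iv4 D28291)) (tt N9743 F45796) (tt N36162 D59615) (tt N9742 F45799))
theorem Q18339 : ∀ i, i < 18339 → P i := stepQ 18338 Q18338 (allL N18338 (tt N19759 (iv1 F337836)) (tt N36163 D59617) (tt N36020 (iv2 F93817)) (tt N18819 F321542) (tt N36162 (iv4 F94028)) (tt N30490 (iv5 F78628)) (tt N9031 (iv6 D28292)) (tt N36164 D59618))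
theorem Q18340 : ∀ i, i < 18340 → P i := stepQ 18339 Q18339 (allL N18339 (tt N36019 (iv1 F93812)) (tt N19984 (iv0 F48656)) (tt N9870 F45800) (tt N36156 (iv3 F94017)) (tt N9742 F45801) (tt N9032 F45802) (tt N36165 D59619) (tt N9031 (iv7 D28293)))
theorem Q18341 : ∀ i, i < 18341 → P i := stepQ 18340 Q18340 (allL N18340 (tt N36166 D59620) (tt N36167 D59621) (tt N36021 (iv2 F93819)) (tt N23706 F316306) (tt N9033 F45803) (tt N23705 (iv5 F318569)) (tt N9032 (iv6 D28294)) (tt N30492 (iv7 F78632)))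
theorem Q18342 : ∀ i, i < 18342 → P i := stepQ 18341 Q18341 (allL N18341 (tt N30441 (iv1 F78562)) (tt N9033 (iv0 D28295)) (tt N30494 (iv2 F171842)) (tt N36168 D59624) (tt N36169 D59625) (tt N36170 D59626) (tt N36171 D59627) (tt N30493 (iv7 F171843)))
theorem Q18343 : ∀ i, i < 18343 → P i := stepQ 18342 Q18342 (allL N18342 (tt N9033 (iv1 D28296)) (tt N30441 F78561) (tt N30493 F171844) (tt N36172 D59629) (tt N36173 D59630) (tt N36174 D59631) (tt N35890 (iv6 F93433)) (tt N30494 F171845))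
theorem Q18344 : ∀ i, i < 18344 → P i := stepQ 18343 Q18343 (allL N18343 (tt N15789 (iv1 F45811)) (tt N9034 (iv0 D28297)) (tt N15786 (iv2 F103537)) (tt N36175 D59633) (tt N36176 D59634) (tt N36177 D59635) (tt N35552 (iv6 F92828)) (tt N15787 F103536))
theorem Q18345 : ∀ i, i < 18345 → P i := stepQ 18344 Q18344 (allL N18344 (tt N9034 (iv1 D28298)) (tt N15789 F45804) (tt N15787 F103535) (tt N32532 F328410) (tt N36178 D59638) (tt N32531 F328411) (tt N36179 D59640) (tt N15786 (iv7 F103538)))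
theorem Q18346 : ∀ i, i < 18346 → P i := stepQ 18345 Q18345 (allL N18345 (tt N18648 F46336) (tt N18691 F46405) (tt N15788 F45805) (tt N9037 F45806) (tt N36180 D59641) (tt N9034 (iv5 D28299)) (tt N9392 F45807) (tt N18689 (iv7 F80789)))
theorem Q18347 : ∀ i, i < 18347 → P i := stepQ 18346 Q18346 (allL N18346 (tt N15787 (iv1 F45812)) (tt N15786 F45813) (tt N15789 F45808) (tt N9038 F45809) (tt N30315 (iv4 F78325)) (tt N18689 (iv5 F80788)) (tt N15793 F45810) (tt N9034 (iv7 D28300)))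
theorem Q18348 : ∀ i, i < 18348 → P i := stepQ 18347 Q18347 (allL N18347 (tt N29653 (iv1 F162018)) (tt N29616 (iv0 F162019)) (tt N29651 (iv2 F101891)) (tt N9035 (iv3 D28302)) (tt N36181 D59645) (tt N36182 D59646) (tt N20995 (iv6 F319604)) (tt N29652 (iv7 F101895)))
theorem Q18349 : ∀ i, i < 18349 → P i := stepQ 18348 Q18348 (allL N18348 (tt N19289 F47266) (tt N19271 (iv0 F47227)) (tt N29686 (iv2 F76955)) (tt N36182 (iv3 F94041)) (tt N36183 D59647) (tt N9035 (iv5 D28304)) (tt N29686 (iv6 F76926)) (tt N19339 (iv7 F76959)))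
theorem Q18350 : ∀ i, i < 18350 → P i := stepQ 18349 Q18349 (allL N18349 (tt N19271 F47226) (tt N19289 (iv0 F47265)) (tt N19339 F76956) (tt N36105 (iv3 F101868)) (tt N36184 D59654) (tt N9036 (iv5 D28308)) (tt N9282 F45816) (tt N29686 F76954))
theorem Q18351 : ∀ i, i < 18351 → P i := stepQ 18350 Q18350 (allL N18350 (tt N18824 F46551) (tt N18826 (iv0 F47113)) (tt N29687 (iv2 F76935)) (tt N36106 (iv3 F101869)) (tt N20579 (iv4 F49435)) (tt N18746 (iv5 F46460)) (tt N9036 (iv6 D28309)) (tt N30501 (iv7 F78692)))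
theorem Q18352 : ∀ i, i < 18352 → P i := stepQ 18351 Q18351 (allL N18351 (tt N9516 F46576) (tt N18993 F46730) (tt N18751 (iv2 F46466)) (tt N36185 D59655) (tt N9037 (iv4 D28310)) (tt N36186 D59656) (tt N9423 F45817) (tt N18799 (iv7 F46518)))
theorem Q18353 : ∀ i, i < 18353 → P i := stepQ 18352 Q18352 (allL N18352 (tt N16166 F45820) (tt N20782 (iv0 F49603)) (tt N9040 F45818) (tt N30319 (iv3 F78327)) (tt N9039 (iv4 D28311)) (tt N36187 D59657) (tt N36188 D59658) (tt N15782 F45819))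
theorem Q18354 : ∀ i, i < 18354 → P i := stepQ 18353 Q18353 (allL N18353 (tt N36189 D59659) (tt N36190 D59660) (tt N9041 F45821) (tt N15175 F45822) (tt N36188 (iv4 F94053)) (tt N15768 F45823) (tt N9039 (iv6 D28312)) (tt N36191 D59661))
theorem Q18355 : ∀ i, i < 18355 → P i := stepQ 18354 Q18354 (allL N18354 (tt N9040 (iv1 D28313)) (tt N15782 F45824) (tt N20782 (iv2 F49601)) (tt N36192 D59662) (tt N9805 F45826) (tt N33532 (iv5 F85064)) (tt N36193 D59663) (tt N16166 F45825))
theorem Q18356 : ∀ i, i < 18356 → P i := stepQ 18355 Q18355 (allL N18355 (tt N20809 (iv1 F49640)) (tt N20812 (iv0 F49642)) (tt N36187 (iv2 F94047)) (tt N33402 (iv3 F84702)) (tt N31486 (iv4 F80752)) (tt N9040 (iv5 D28314)) (tt N36194 D59664) (tt N29680 (iv7 F76917)))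
theorem Q18357 : ∀ i, i < 18357 → P i := stepQ 18356 Q18356 (allL N18356 (tt N36195 D59665) (tt N36196 D59666) (tt N36188 (iv2 F94052)) (tt N33403 (iv3 F84704)) (tt N9041 F45827) (tt N36197 D59667) (tt N9040 (iv6 D28315)) (tt N36198 D59668))
theorem Q18358 : ∀ i, i < 18358 → P i := stepQ 18357 Q18357 (allL N18357 (tt N36191 F94065) (tt N9041 (iv0 D28316)) (tt N36189 (iv2 F166405)) (tt N36199 D59670) (tt N36200 D59671) (tt N15791 F82339) (tt N36201 D59672) (tt N36190 (iv7 F166415)))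
theorem Q18359 : ∀ i, i < 18359 → P i := stepQ 18358 Q18358 (allL N18358 (tt N9041 (iv1 D28317)) (tt N36191 F94064) (tt N36190 (iv2 F166414)) (tt N36202 D59674) (tt N36203 D59675) (tt N15792 (iv5 F80801)) (tt N32104 (iv6 F82345)) (tt N36189 (iv7 F166406)))
theorem Q18360 : ∀ i, i < 18360 → P i := stepQ 18359 Q18359 (allL N18359 (tt N36190 (iv1 F94056)) (tt N36189 (iv0 F94055)) (tt N36191 (iv2 F94060)) (tt N9044 F45828) (tt N36198 (iv4 F94070)) (tt N22756 (iv5 F53886)) (tt N29684 (iv6 F76922)) (tt N9041 (iv7 D28318)))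
theorem Q18361 : ∀ i, i < 18361 → P i := stepQ 18360 Q18360 (allL N18360 (tt N18121 F45831) (tt N18120 F45832) (tt N29688 F78648) (tt N36125 (iv3 F166119)) (tt N20633 (iv4 F53698)) (tt N10282 F45830) (tt N9042 (iv6 D28322)) (tt N30500 (iv7 F78645)))
theorem Q18362 : ∀ i, i < 18362 → P i := stepQ 18361 Q18361 (allL N18361 (tt N29618 F166071) (tt N29661 F166072) (tt N29659 F166095) (tt N9043 (iv3 D28324)) (tt N36204 D59684) (tt N29689 (iv5 F76976)) (tt N30498 (iv6 F78640)) (tt N29658 F166096))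
theorem Q18363 : ∀ i, i < 18363 → P i := stepQ 18362 Q18362 (allL N18362 (tt N9046 (iv1 F45837)) (tt N9045 (iv0 D28326)) (tt N9049 (iv2 F45835)) (tt N20551 (iv3 F49399)) (tt N36148 (iv4 F94009)) (tt N20499 (iv5 F316363)) (tt N36205 D59685) (tt N9047 F45836))
theorem Q18364 : ∀ i, i < 18364 → P i := stepQ 18363 Q18363 (allL N18363 (tt N9049 (iv1 F102765)) (tt N9047 (iv0 F102766)) (tt N9045 (iv2 D28327)) (tt N36206 D59688) (tt N36207 D59689) (tt N36208 D59690) (tt N36209 D59691) (tt N9046 (iv7 F45838)))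
theorem Q18365 : ∀ i, i < 18365 → P i := stepQ 18364 Q18364 (allL N18364 (tt N20620 (iv1 F102511)) (tt N36210 D59693) (tt N20164 (iv2 F102775)) (tt N9045 (iv3 D28328)) (tt N20162 (iv4 F102776)) (tt N36211 D59695) (tt N36212 D59696) (tt N20169 (iv7 F102770)))
theorem Q18366 : ∀ i, i < 18366 → P i := stepQ 18365 Q18365 (allL N18365 (tt N36213 D59698) (tt N35446 (iv0 F319586)) (tt N36207 (iv2 F94085)) (tt N36214 D59700) (tt N9045 (iv4 D28329)) (tt N19427 (iv5 F320783)) (tt N36215 D59702) (tt N19426 (iv7 F319927)))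
theorem Q18367 : ∀ i, i < 18367 → P i := stepQ 18366 Q18366 (allL N18366 (tt N36216 D59704) (tt N20572 F204431) (tt N36208 (iv2 F94087)) (tt N36211 (iv3 F94090)) (tt N20667 (iv4 F319589)) (tt N9045 (iv5 D28330)) (tt N36217 D59707) (tt N36218 D59708))
theorem Q18368 : ∀ i, i < 18368 → P i := stepQ 18367 Q18367 (allL N18367 (tt N18626 (iv1 F319590)) (tt N20578 (iv0 F319591)) (tt N36209 (iv2 F94089)) (tt N36212 (iv3 F94091)) (tt N36215 (iv4 F94095)) (tt N36219 D59711) (tt N9045 (iv6 D28331)) (tt N36220 D59712))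
theorem Q18369 : ∀ i, i < 18369 → P i := stepQ 18368 Q18368 (allL N18368 (tt N9047 F102767) (tt N9049 F102768) (tt N9046 F45839) (tt N20169 (iv3 F102769)) (tt N19426 (iv4 F319926)) (tt N36218 (iv5 F94101)) (tt N21849 (iv6 F318526)) (tt N9045 (iv7 D28332)))
theorem Q18370 : ∀ i, i < 18370 → P i := stepQ 18369 Q18369 (allL N18369 (tt N36221 D59714) (tt N20555 F102796) (tt N36222 D59716) (tt N9046 (iv3 D28333)) (tt N36223 D59717) (tt N36224 D59718) (tt N36225 D59719) (tt N36206 (iv7 F94084)))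
theorem Q18371 : ∀ i, i < 18371 → P i := stepQ 18370 Q18370 (allL N18370 (tt N35446 (iv1 F319587)) (tt N36213 F94098) (tt N19426 F320301) (tt N36226 D59720) (tt N9046 (iv4 D28334)) (tt N9326 (iv5 F322005)) (tt N36227 D59722) (tt N36207 (iv7 F94086)))
theorem Q18372 : ∀ i, i < 18372 → P i := stepQ 18371 Q18371 (allL N18371 (tt N20572 (iv1 F204426)) (tt N36216 F94102) (tt N36218 (iv2 F94100)) (tt N36224 (iv3 F94106)) (tt N20668 (iv4 F319712)) (tt N9046 (iv5 D28335)) (tt N33827 (iv6 F319593)) (tt N36208 (iv7 F94088)))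
theorem Q18373 : ∀ i, i < 18373 → P i := stepQ 18372 Q18372 (allL N18372 (tt N20632 F321580) (tt N36228 D59726) (tt N21849 (iv2 F318525)) (tt N36225 (iv3 F94107)) (tt N36227 (iv4 F94109)) (tt N21827 (iv5 F319594)) (tt N9046 (iv6 D28336)) (tt N21853 (iv7 F319596)))
theorem Q18374 : ∀ i, i < 18374 → P i := stepQ 18373 Q18373 (allL N18373 (tt N11517 (iv1 F318772)) (tt N16698 (iv0 F318773)) (tt N9048 F45842) (tt N29698 (iv3 F76980)) (tt N10236 (iv4 F318671)) (tt N9047 (iv5 D28339)) (tt N21628 F316891) (tt N20499 F316892))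
theorem Q18375 : ∀ i, i < 18375 → P i := stepQ 18374 Q18374 (allL N18374 (tt N11853 (iv1 F315105)) (tt N11863 (iv0 F315106)) (tt N21628 (iv2 F314573)) (tt N9050 F45843) (tt N33503 (iv4 F315590)) (tt N21870 F312645) (tt N9048 (iv6 D28343)) (tt N21627 (iv7 F314134)))
theorem Q18376 : ∀ i, i < 18376 → P i := stepQ 18375 Q18375 (allL N18375 (tt N36229 D59757) (tt N36230 D59758) (tt N36205 (iv2 F94081)) (tt N9051 F45844) (tt N23706 (iv4 F316242)) (tt N21716 F313740) (tt N9049 (iv6 D28344)) (tt N25498 F313741))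
theorem Q18377 : ∀ i, i < 18377 → P i := stepQ 18376 Q18376 (allL N18376 (tt N29702 (iv1 F76995)) (tt N9050 (iv0 D28345)) (tt N21463 (iv2 F166579)) (tt N36231 D59761) (tt N16979 (iv4 F166580)) (tt N16989 F309391) (tt N36232 D59764) (tt N21467 (iv7 F166581)))
theorem Q18378 : ∀ i, i < 18378 → P i := stepQ 18377 Q18377 (allL N18377 (tt N9050 (iv1 D28346)) (tt N29702 F76994) (tt N21467 F166582) (tt N36233 D59766) (tt N16980 (iv4 F166584)) (tt N16990 F311060) (tt N33596 (iv6 F313186)) (tt N21463 F166583))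
theorem Q18379 : ∀ i, i < 18379 → P i := stepQ 18378 Q18378 (allL N18378 (tt N21467 (iv1 F167435)) (tt N21463 (iv0 F167436)) (tt N29702 (iv2 F76990)) (tt N21627 (iv3 F314133)) (tt N29748 (iv4 F77158)) (tt N30503 (iv5 F78711)) (tt N21444 F51215) (tt N9050 (iv7 D28347)))
theorem Q18380 : ∀ i, i < 18380 → P i := stepQ 18379 Q18379 (allL N18379 (tt N36234 D59780) (tt N36235 D59781) (tt N20554 (iv2 F49410)) (tt N21716 (iv3 F313319)) (tt N36236 D59782) (tt N9051 (iv5 D28350)) (tt N19476 (iv6 F313321)) (tt N30504 (iv7 F78712)))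
theorem Q18381 : ∀ i, i < 18381 → P i := stepQ 18380 Q18380 (allL N18380 (tt N15774 (iv1 F100217)) (tt N10252 (iv0 F100218)) (tt N15801 (iv2 F100196)) (tt N9052 (iv3 D28351)) (tt N30343 (iv4 F163980)) (tt N36237 D59787) (tt N36238 D59788) (tt N15802 F100182))
theorem Q18382 : ∀ i, i < 18382 → P i := stepQ 18381 Q18381 (allL N18381 (tt N20892 F49804) (tt N16801 (iv0 F45847)) (tt N20891 F49800) (tt N36237 (iv3 F94135)) (tt N22162 F316213) (tt N9052 (iv5 D28353)) (tt N18800 (iv6 F46519)) (tt N20859 (iv7 F49715)))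
theorem Q18383 : ∀ i, i < 18383 → P i := stepQ 18382 Q18382 (allL N18382 (tt N29687 F76933) (tt N30501 (iv0 F78693)) (tt N18826 (iv2 F46552)) (tt N36238 (iv3 F94136)) (tt N33459 (iv4 F94147)) (tt N9449 F45848) (tt N9052 (iv6 D28354)) (tt N18824 (iv7 F46550)))
theorem Q18384 : ∀ i, i < 18384 → P i := stepQ 18383 Q18383 (allL N18383 (tt N10140 (iv1 F168091)) (tt N16149 (iv0 F168092)) (tt N32117 (iv2 F168093)) (tt N9053 (iv3 D28355)) (tt N36239 D59798) (tt N36240 D59799) (tt N35823 F168088) (tt N29703 (iv7 F76996)))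
theorem Q18385 : ∀ i, i < 18385 → P i := stepQ 18384 Q18384 (allL N18384 (tt N16801 F45850) (tt N20892 F49805) (tt N20859 (iv2 F49713)) (tt N36240 (iv3 F94141)) (tt N22163 F314883) (tt N9053 (iv5 D28357)) (tt N16104 F45849) (tt N20891 (iv7 F49802)))
theorem Q18386 : ∀ i, i < 18386 → P i := stepQ 18385 Q18385 (allL N18385 (tt N36241 D59803) (tt N36242 D59804) (tt N16355 F45851) (tt N9055 (iv3 D28358)) (tt N18385 F45852) (tt N32468 (iv5 F82902)) (tt N16353 F45853) (tt N15176 F45854))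
theorem Q18387 : ∀ i, i < 18387 → P i := stepQ 18386 Q18386 (allL N18386 (tt N23207 (iv1 F55196)) (tt N9056 (iv0 D28359)) (tt N23209 (iv2 F55206)) (tt N18410 F45911) (tt N23275 (iv4 F55367)) (tt N33640 (iv5 F85343)) (tt N30411 F78496) (tt N23204 F55191))
theorem Q18388 : ∀ i, i < 18388 → P i := stepQ 18387 Q18387 (allL N18387 (tt N23209 (iv1 F55212)) (tt N23204 F55190) (tt N9056 (iv2 D28360)) (tt N29823 (iv3 F77410)) (tt N9062 F45855) (tt N32540 (iv5 F83100)) (tt N36243 D59805) (tt N23207 (iv7 F55197)))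
theorem Q18389 : ∀ i, i < 18389 → P i := stepQ 18388 Q18388 (allL N18388 (tt N23235 F55285) (tt N36244 D59806) (tt N36243 (iv2 F94168)) (tt N9057 F45856) (tt N9063 F45857) (tt N36245 D59807) (tt N9056 (iv6 D28361)) (tt N29977 (iv7 F77710)))
theorem Q18390 : ∀ i, i < 18390 → P i := stepQ 18389 Q18389 (allL N18389 (tt N18487 (iv1 F46045)) (tt N10724 F45858) (tt N29824 (iv2 F77414)) (tt N36245 (iv3 F94179)) (tt N36246 D59808) (tt N9057 (iv5 D28362)) (tt N32545 (iv6 F83102)) (tt N29979 (iv7 F77716)))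
theorem Q18391 : ∀ i, i < 18391 → P i := stepQ 18390 Q18390 (allL N18390 (tt N14713 F45861) (tt N15019 F45862) (tt N16280 F45859) (tt N36247 D59809) (tt N9058 (iv4 D28363)) (tt N18483 (iv5 F46030)) (tt N23263 (iv6 F55322)) (tt N16279 F45860))
theorem Q18392 : ∀ i, i < 18392 → P i := stepQ 18391 Q18391 (allL N18391 (tt N36248 D59810) (tt N36249 D59811) (tt N29705 (iv2 F77006)) (tt N23844 (iv3 F56603)) (tt N9060 (iv4 D28365)) (tt N36250 D59812) (tt N36251 D59813) (tt N23840 F56595))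
theorem Q18393 : ∀ i, i < 18393 → P i := stepQ 18392 Q18392 (allL N18392 (tt N19370 F50547) (tt N9314 F50548) (tt N19369 F50549) (tt N22781 (iv3 F53945)) (tt N36251 (iv4 F94199)) (tt N10778 (iv5 F50540)) (tt N9060 (iv6 D28367)) (tt N17542 F50550))
theorem Q18394 : ∀ i, i < 18394 → P i := stepQ 18393 Q18393 (allL N18393 (tt N36249 (iv1 F94192)) (tt N36248 F94188) (tt N23840 (iv2 F56592)) (tt N16290 (iv3 F45865)) (tt N9061 (iv4 D28370)) (tt N36252 D59814) (tt N17535 F50534) (tt N29705 (iv7 F77007)))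
theorem Q18395 : ∀ i, i < 18395 → P i := stepQ 18394 Q18394 (allL N18394 (tt N23326 F55596) (tt N23339 F55646) (tt N9063 F45866) (tt N21501 (iv3 F51399)) (tt N36243 (iv4 F94170)) (tt N36253 D59815) (tt N9062 (iv6 D28373)) (tt N23321 (iv7 F55573)))
theorem Q18396 : ∀ i, i < 18396 → P i := stepQ 18395 Q18395 (allL N18395 (tt N9063 (iv1 D28375)) (tt N23321 F55574) (tt N23339 (iv2 F55644)) (tt N23344 (iv3 F55656)) (tt N36254 D59816) (tt N33996 (iv5 F86462)) (tt N23344 (iv6 F55658)) (tt N23326 F55633))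
theorem Q18397 : ∀ i, i < 18397 → P i := stepQ 18396 Q18396 (allL N18396 (tt N17134 F50535) (tt N17136 (iv0 F50556)) (tt N36253 (iv2 F94204)) (tt N9064 F45867) (tt N36255 D59817) (tt N9063 (iv5 D28376)) (tt N21405 (iv6 F51170)) (tt N21899 (iv7 F52149)))
theorem Q18398 : ∀ i, i < 18398 → P i := stepQ 18397 Q18397 (allL N18397 (tt N14708 (iv1 F45872)) (tt N9066 (iv0 D28378)) (tt N16211 (iv2 F45871)) (tt N36256 D59819) (tt N14690 F45870) (tt N20903 (iv5 F49857)) (tt N35650 F93071) (tt N16076 F45873))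
theorem Q18399 : ∀ i, i < 18399 → P i := stepQ 18398 Q18398 (allL N18398 (tt N36257 D59820) (tt N36258 D59821) (tt N36259 D59822) (tt N9066 (iv3 D28379)) (tt N20436 (iv4 F49300)) (tt N36260 D59823) (tt N36261 D59824) (tt N16266 F45874))
theorem Q18400 : ∀ i, i < 18400 → P i := stepQ 18399 Q18399 (allL N18399 (tt N14702 F45878) (tt N14728 F45879) (tt N16256 F45875) (tt N36260 (iv3 F94220)) (tt N14712 F45877) (tt N9066 (iv5 D28380)) (tt N36262 D59825) (tt N16255 F45876))
theorem Q18401 : ∀ i, i < 18401 → P i := stepQ 18400 Q18400 (allL N18400 (tt N36263 D59826) (tt N35614 (iv0 F92990)) (tt N16287 F45880) (tt N36261 (iv3 F94222)) (tt N9067 F45881) (tt N36264 D59827) (tt N9066 (iv6 D28381)) (tt N36265 D59828))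
theorem Q18402 : ∀ i, i < 18402 → P i := stepQ 18401 Q18401 (allL N18401 (tt N16289 (iv1 F45885)) (tt N9067 (iv0 D28382)) (tt N15706 (iv2 F45882)) (tt N32092 (iv3 F82309)) (tt N32303 (iv4 F82684)) (tt N31462 (iv5 F80703)) (tt N35608 (iv6 F92977)) (tt N16288 F45883))
theorem Q18403 : ∀ i, i < 18403 → P i := stepQ 18402 Q18402 (allL N18402 (tt N16288 (iv1 F45888)) (tt N15706 F45889) (tt N16289 F45886) (tt N20441 (iv3 F49304)) (tt N36265 (iv4 F94234)) (tt N30357 (iv5 F78371)) (tt N16269 F45887) (tt N9067 (iv7 D28383)))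
theorem Q18404 : ∀ i, i < 18404 → P i := stepQ 18403 Q18403 (allL N18403 (tt N16275 (iv1 F45890)) (tt N9069 (iv0 D28384)) (tt N16274 (iv2 F50625)) (tt N16384 (iv3 F50630)) (tt N33561 (iv4 F85121)) (tt N32462 (iv5 F82884)) (tt N16382 F50629) (tt N16273 (iv7 F50628)))
theorem Q18405 : ∀ i, i < 18405 → P i := stepQ 18404 Q18404 (allL N18404 (tt N9069 (iv1 D28385)) (tt N16275 (iv0 F45892)) (tt N16273 F50626) (tt N23294 (iv3 F55424)) (tt N10219 (iv4 F45891)) (tt N32463 (iv5 F82890)) (tt N34406 (iv6 F87474)) (tt N16274 F50624))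
theorem Q18406 : ∀ i, i < 18406 → P i := stepQ 18405 Q18405 (allL N18405 (tt N16274 (iv1 F45897)) (tt N16273 F45896) (tt N9069 (iv2 D28386)) (tt N16292 F45893) (tt N9072 F45894) (tt N36266 D59829) (tt N19433 (iv6 F47621)) (tt N16275 F45895))
theorem Q18407 : ∀ i, i < 18407 → P i := stepQ 18406 Q18406 (allL N18406 (tt N21244 F50518) (tt N21245 (iv0 F50399)) (tt N36266 (iv2 F94239)) (tt N9070 F45898) (tt N36267 D59830) (tt N9069 (iv5 D28387)) (tt N36268 D59831) (tt N16276 F45899))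
theorem Q18408 : ∀ i, i < 18408 → P i := stepQ 18407 Q18407 (allL N18407 (tt N14728 F45903) (tt N14702 F45904) (tt N16255 F45900) (tt N36269 D59832) (tt N9070 (iv4 D28388)) (tt N14708 F45901) (tt N36270 D59833) (tt N16256 F45902))
theorem Q18409 : ∀ i, i < 18409 → P i := stepQ 18408 Q18408 (allL N18408 (tt N36271 D59834) (tt N36272 D59835) (tt N16294 F45905) (tt N36268 (iv3 F94246)) (tt N36270 (iv4 F94250)) (tt N29983 (iv5 F77730)) (tt N9070 (iv6 D28389)) (tt N36273 D59836))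
theorem Q18410 : ∀ i, i < 18410 → P i := stepQ 18409 Q18409 (allL N18409 (tt N11204 (iv1 F45909)) (tt N11203 F45910) (tt N11178 F45906) (tt N9071 (iv3 D28390)) (tt N21075 (iv4 F50086)) (tt N21288 (iv5 F51020)) (tt N11165 F45907) (tt N11189 F45908))
theorem Q18411 : ∀ i, i < 18411 → P i := stepQ 18410 Q18410 (allL N18410 (tt N21481 (iv1 F51370)) (tt N21480 F51376) (tt N21483 (iv2 F51372)) (tt N18386 (iv3 F45911)) (tt N9071 (iv4 D28391)) (tt N36274 D59837) (tt N31362 (iv6 F80515)) (tt N21477 F51365))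
theorem Q18412 : ∀ i, i < 18412 → P i := stepQ 18411 Q18411 (allL N18411 (tt N32055 (iv1 F82187)) (tt N32053 (iv0 F82177)) (tt N16245 F45912) (tt N36275 D59838) (tt N9076 (iv4 D28392)) (tt N14699 F45914) (tt N36276 D59839) (tt N16248 F45913))
theorem Q18413 : ∀ i, i < 18413 → P i := stepQ 18412 Q18412 (allL N18412 (tt N36277 D59840) (tt N36278 D59841) (tt N16311 F45915) (tt N21249 (iv3 F50401)) (tt N36276 (iv4 F94261)) (tt N26878 (iv5 F68107)) (tt N9076 (iv6 D28393)) (tt N36279 D59842))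
theorem Q18414 : ∀ i, i < 18414 → P i := stepQ 18413 Q18413 (allL N18413 (tt N13211 (iv1 F45921)) (tt N9077 (iv0 D28394)) (tt N16312 (iv2 F45918)) (tt N36280 D59843) (tt N14903 F45917) (tt N13372 F45916) (tt N14956 F45919) (tt N16129 F45920))
theorem Q18415 : ∀ i, i < 18415 → P i := stepQ 18414 Q18414 (allL N18414 (tt N16129 (iv1 F45927)) (tt N16312 F45928) (tt N13211 F45922) (tt N16927 F45923) (tt N9078 F45924) (tt N13210 F45925) (tt N16305 F45926) (tt N9077 (iv7 D28395)))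
theorem Q18416 : ∀ i, i < 18416 → P i := stepQ 18415 Q18415 (allL N18415 (tt N9091 (iv1 F45931)) (tt N9090 F45932) (tt N9094 F45929) (tt N29706 (iv3 F77012)) (tt N27488 F317116) (tt N9079 (iv5 D28396)) (tt N36281 D59845) (tt N9089 F45930))
theorem Q18417 : ∀ i, i < 18417 → P i := stepQ 18416 Q18416 (allL N18416 (tt N9137 F50826) (tt N9162 (iv0 F45937)) (tt N9095 F45933) (tt N23145 (iv3 F55069)) (tt N10390 F45934) (tt N36282 D59846) (tt N9079 (iv6 D28397)) (tt N9111 F45935))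
theorem Q18418 : ∀ i, i < 18418 → P i := stepQ 18417 Q18417 (allL N18417 (tt N10306 F54306) (tt N20924 F54307) (tt N9083 F45945) (tt N29717 (iv3 F77069)) (tt N36283 D59847) (tt N9080 (iv5 D28402)) (tt N35295 F318009) (tt N9087 F45946))
theorem Q18419 : ∀ i, i < 18419 → P i := stepQ 18418 Q18418 (allL N18418 (tt N9081 (iv1 D28404)) (tt N32509 F83044) (tt N10299 F50394) (tt N21243 (iv3 F50393)) (tt N16918 F50395) (tt N36284 D59849) (tt N9115 F50396) (tt N32507 (iv7 F83037)))
theorem Q18420 : ∀ i, i < 18420 → P i := stepQ 18419 Q18419 (allL N18419 (tt N20956 F50916) (tt N36285 D59850) (tt N32508 (iv2 F83039)) (tt N9083 F45948) (tt N36286 D59851) (tt N9081 (iv5 D28406)) (tt N36287 D59852) (tt N32515 (iv7 F83062)))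
theorem Q18421 : ∀ i, i < 18421 → P i := stepQ 18420 Q18420 (allL N18420 (tt N10297 F50769) (tt N21243 F50770) (tt N29707 (iv2 F77021)) (tt N9082 F50771) (tt N32504 (iv4 F83023)) (tt N36288 D59853) (tt N9081 (iv6 D28407)) (tt N29718 (iv7 F77074)))
theorem Q18422 : ∀ i, i < 18422 → P i := stepQ 18421 Q18421 (allL N18421 (tt N9086 (iv1 F45958)) (tt N9082 (iv0 D28409)) (tt N10314 (iv2 F45952)) (tt N21177 (iv3 F50270)) (tt N10367 F45951) (tt N36289 D59854) (tt N9140 F50840) (tt N21285 (iv7 F50721)))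
theorem Q18423 : ∀ i, i < 18423 → P i := stepQ 18422 Q18422 (allL N18422 (tt N21516 (iv1 F51441)) (tt N21076 F50772) (tt N21525 F54325) (tt N36288 (iv3 F94298)) (tt N36290 D59855) (tt N9082 (iv5 D28411)) (tt N36291 D59856) (tt N21524 (iv7 F54323)))
theorem Q18424 : ∀ i, i < 18424 → P i := stepQ 18423 Q18423 (allL N18423 (tt N21285 F54312) (tt N10314 F54313) (tt N9086 F45956) (tt N29718 (iv3 F77073)) (tt N9084 F45957) (tt N21524 F54314) (tt N23900 F56717) (tt N9082 (iv7 D28413)))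
theorem Q18425 : ∀ i, i < 18425 → P i := stepQ 18424 Q18424 (allL N18424 (tt N9087 (iv1 F45962)) (tt N9083 (iv0 D28414)) (tt N10306 F50762) (tt N20934 F50763) (tt N36292 D59857) (tt N16807 F50764) (tt N36293 D59858) (tt N20924 F50765))
theorem Q18426 : ∀ i, i < 18426 → P i := stepQ 18425 Q18425 (allL N18425 (tt N36294 D59859) (tt N36295 D59860) (tt N36283 (iv2 F94286)) (tt N36296 D59861) (tt N9083 (iv4 D28416)) (tt N36297 D59862) (tt N36298 D59863) (tt N36299 D59864))
theorem Q18427 : ∀ i, i < 18427 → P i := stepQ 18426 Q18426 (allL N18426 (tt N14522 F317061) (tt N33577 F243306) (tt N35295 (iv2 F315765)) (tt N36287 (iv3 F94297)) (tt N36298 (iv4 F94321)) (tt N36291 (iv5 F94306)) (tt N9083 (iv6 D28417)) (tt N35294 F315640))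
theorem Q18428 : ∀ i, i < 18428 → P i := stepQ 18427 Q18427 (allL N18427 (tt N20924 F54315) (tt N10306 F54316) (tt N9087 F45960) (tt N32515 (iv3 F83061)) (tt N36299 (iv4 F94323)) (tt N9084 F45961) (tt N36300 D59868) (tt N9083 (iv7 D28418)))
theorem Q18429 : ∀ i, i < 18429 → P i := stepQ 18428 Q18428 (allL N18428 (tt N23901 (iv1 F56725)) (tt N9353 F54175) (tt N9088 F45963) (tt N32516 (iv3 F83063)) (tt N23900 F56716) (tt N21642 F54317) (tt N9084 (iv6 D28423)) (tt N23900 (iv7 F56715)))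
theorem Q18430 : ∀ i, i < 18430 → P i := stepQ 18429 Q18429 (allL N18429 (tt N29709 F77038) (tt N9085 (iv0 D28424)) (tt N10315 (iv2 F45965)) (tt N21285 (iv3 F50719)) (tt N16895 F45964) (tt N36301 D59869) (tt N9131 F45966) (tt N21177 (iv7 F50271)))
theorem Q18431 : ∀ i, i < 18431 → P i := stepQ 18430 Q18430 (allL N18430 (tt N10315 F54332) (tt N21177 F54333) (tt N9085 (iv2 D28425)) (tt N32509 (iv3 F83042)) (tt N29870 (iv4 F77499)) (tt N36302 D59870) (tt N19474 (iv6 F54202)) (tt N29709 (iv7 F77036)))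
theorem Q18432 : ∀ i, i < 18432 → P i := stepQ 18431 Q18431 (allL N18431 (tt N10339 F45967) (tt N10335 (iv0 F45968)) (tt N29870 (iv2 F77497)) (tt N29714 (iv3 F77063)) (tt N9085 (iv4 D28426)) (tt N36303 D59871) (tt N36304 D59872) (tt N29712 F77061))
theorem Q18433 : ∀ i, i < 18433 → P i := stepQ 18432 Q18432 (allL N18432 (tt N36305 D59873) (tt N11457 (iv0 F54351)) (tt N36302 (iv2 F94329)) (tt N9087 F45969) (tt N36306 D59874) (tt N9085 (iv5 D28427)) (tt N36307 D59875) (tt N29717 (iv7 F77070)))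
theorem Q18434 : ∀ i, i < 18434 → P i := stepQ 18433 Q18433 (allL N18433 (tt N19466 F54173) (tt N10332 F54174) (tt N19474 F54201) (tt N9088 F45970) (tt N36304 (iv4 F94335)) (tt N21651 (iv5 F55718)) (tt N9085 (iv6 D28428)) (tt N19473 F54181))
theorem Q18435 : ∀ i, i < 18435 → P i := stepQ 18434 Q18434 (allL N18434 (tt N21076 F51031) (tt N21516 (iv0 F51440)) (tt N21524 (iv2 F54322)) (tt N20938 (iv3 F54341)) (tt N36308 D59876) (tt N9086 (iv5 D28429)) (tt N36309 D59877) (tt N21525 (iv7 F54324)))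
theorem Q18436 : ∀ i, i < 18436 → P i := stepQ 18435 Q18435 (allL N18435 (tt N9353 F54171) (tt N23901 F56726) (tt N23900 F56713) (tt N19473 (iv3 F54168)) (tt N9088 F45971) (tt N21643 F54320) (tt N9086 (iv6 D28430)) (tt N9088 F51007))
theorem Q18437 : ∀ i, i < 18437 → P i := stepQ 18436 Q18436 (allL N18436 (tt N36295 (iv1 F94314)) (tt N36294 F94313) (tt N36299 (iv2 F94322)) (tt N36310 D59878) (tt N9087 (iv4 D28431)) (tt N36311 D59879) (tt N36312 D59880) (tt N36283 (iv7 F94287)))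
theorem Q18438 : ∀ i, i < 18438 → P i := stepQ 18437 Q18437 (allL N18437 (tt N33594 (iv1 F204938)) (tt N36313 D59882) (tt N36300 (iv2 F94325)) (tt N36307 (iv3 F94347)) (tt N36312 (iv4 F94352)) (tt N36314 D59883) (tt N9087 (iv6 D28432)) (tt N36315 D59884))
theorem Q18439 : ∀ i, i < 18439 → P i := stepQ 18438 Q18438 (allL N18438 (tt N9088 (iv1 D28434)) (tt N23900 F56714) (tt N9353 F54182) (tt N19466 F54183) (tt N10412 F54184) (tt N33834 (iv5 F85799)) (tt N9127 F54185) (tt N23901 (iv7 F56724)))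
theorem Q18440 : ∀ i, i < 18440 → P i := stepQ 18439 Q18439 (allL N18439 (tt N11514 (iv1 F54187)) (tt N21641 (iv0 F54162)) (tt N21642 (iv2 F54318)) (tt N21651 F55719) (tt N32794 (iv4 F83547)) (tt N9088 (iv5 D28435)) (tt N36314 (iv6 F94353)) (tt N21643 (iv7 F54319)))
theorem Q18441 : ∀ i, i < 18441 → P i := stepQ 18440 Q18440 (allL N18440 (tt N9094 (iv1 F45976)) (tt N9089 (iv0 D28445)) (tt N9090 F55523) (tt N23277 (iv3 F55374)) (tt N27314 (iv4 F316569)) (tt N10209 F50964) (tt N36316 D59886) (tt N9091 F55524))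
theorem Q18442 : ∀ i, i < 18442 → P i := stepQ 18441 Q18441 (allL N18441 (tt N9089 (iv1 D28446)) (tt N9094 F45977) (tt N9091 F55525) (tt N33724 (iv3 F85504)) (tt N13804 (iv4 F315584)) (tt N10208 (iv5 F50947)) (tt N13770 F313191) (tt N9090 F55526))
theorem Q18443 : ∀ i, i < 18443 → P i := stepQ 18442 Q18442 (allL N18442 (tt N21339 (iv1 F51116)) (tt N13897 F316561) (tt N9092 F45979) (tt N27492 (iv3 F319396)) (tt N9089 (iv4 D28447)) (tt N36317 D59891) (tt N36318 D59892) (tt N27488 (iv7 F319394)))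
theorem Q18444 : ∀ i, i < 18444 → P i := stepQ 18443 Q18443 (allL N18443 (tt N36319 D59893) (tt N36320 D59894) (tt N9093 F45980) (tt N29730 (iv3 F77116)) (tt N36318 (iv4 F94370)) (tt N9146 F45981) (tt N9089 (iv6 D28448)) (tt N36321 D59895))
theorem Q18445 : ∀ i, i < 18445 → P i := stepQ 18444 Q18444 (allL N18444 (tt N33567 F85151) (tt N36284 (iv0 F94291)) (tt N33720 F85497) (tt N9090 (iv3 D28450)) (tt N33697 (iv4 F85465)) (tt N33488 (iv5 F84929)) (tt N36322 D59896) (tt N33724 (iv7 F85502)))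
theorem Q18446 : ∀ i, i < 18446 → P i := stepQ 18445 Q18445 (allL N18445 (tt N27312 F317866) (tt N27311 F317867) (tt N27314 F317868) (tt N36323 D59899) (tt N9090 (iv4 D28451)) (tt N36324 D59900) (tt N27359 F317869) (tt N13804 F317870))
theorem Q18447 : ∀ i, i < 18447 → P i := stepQ 18446 Q18446 (allL N18446 (tt N36325 D59902) (tt N33504 (iv0 F243167)) (tt N36316 (iv2 F94356)) (tt N36322 (iv3 F94377)) (tt N27359 (iv4 F317483)) (tt N33322 F319287) (tt N9090 (iv6 D28453)) (tt N24303 F315262))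
theorem Q18448 : ∀ i, i < 18448 → P i := stepQ 18447 Q18447 (allL N18447 (tt N36301 (iv1 F94327)) (tt N33490 (iv0 F84944)) (tt N23281 (iv2 F55540)) (tt N9091 (iv3 D28455)) (tt N36326 D59906) (tt N23273 (iv5 F55361)) (tt N24304 F309849) (tt N23277 (iv7 F55520)))
theorem Q18449 : ∀ i, i < 18449 → P i := stepQ 18448 Q18448 (allL N18448 (tt N27488 F316565) (tt N9092 (iv0 D28459)) (tt N21339 (iv2 F51113)) (tt N36327 D59915) (tt N21338 F51112) (tt N36328 D59916) (tt N27495 F316566) (tt N13897 F316567))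
theorem Q18450 : ∀ i, i < 18450 → P i := stepQ 18449 Q18449 (allL N18449 (tt N36329 D59919) (tt N36330 D59920) (tt N36331 D59921) (tt N9092 (iv3 D28461)) (tt N9096 F45985) (tt N36332 D59922) (tt N36333 D59923) (tt N29700 (iv7 F76987)))
theorem Q18451 : ∀ i, i < 18451 → P i := stepQ 18450 Q18450 (allL N18450 (tt N36334 D59924) (tt N31785 (iv0 F81304)) (tt N36317 (iv2 F94365)) (tt N36332 (iv3 F94397)) (tt N36335 D59925) (tt N9092 (iv5 D28462)) (tt N36336 D59926) (tt N36337 D59927))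
theorem Q18452 : ∀ i, i < 18452 → P i := stepQ 18451 Q18451 (allL N18451 (tt N27510 F317844) (tt N36338 D59929) (tt N36318 (iv2 F94369)) (tt N36333 (iv3 F94398)) (tt N9093 F45986) (tt N36339 D59930) (tt N9092 (iv6 D28463)) (tt N36340 D59931))
theorem Q18453 : ∀ i, i < 18453 → P i := stepQ 18452 Q18452 (allL N18452 (tt N13897 F316563) (tt N21339 (iv0 F51115)) (tt N27488 (iv2 F319393)) (tt N29700 (iv3 F76986)) (tt N9094 F45987) (tt N36337 (iv5 F94411)) (tt N36341 D59932) (tt N9092 (iv7 D28464)))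
theorem Q18454 : ∀ i, i < 18454 → P i := stepQ 18453 Q18453 (allL N18453 (tt N36321 (iv1 F94376)) (tt N9093 (iv0 D28465)) (tt N36319 F233722) (tt N36342 D59934) (tt N36343 D59935) (tt N36344 D59936) (tt N27501 F308812) (tt N36320 (iv7 F233729)))
theorem Q18455 : ∀ i, i < 18455 → P i := stepQ 18454 Q18454 (allL N18454 (tt N9093 (iv1 D28466)) (tt N36321 F94375) (tt N36320 (iv2 F233728)) (tt N36345 D59939) (tt N36346 D59940) (tt N36347 D59941) (tt N36348 D59942) (tt N36319 F233727))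
theorem Q18456 : ∀ i, i < 18456 → P i := stepQ 18455 Q18455 (allL N18455 (tt N36320 (iv1 F94371)) (tt N36319 F94374) (tt N36321 (iv2 F94372)) (tt N9100 F45988) (tt N36340 (iv4 F94413)) (tt N9160 F45989) (tt N36349 D59943) (tt N9093 (iv7 D28467)))
theorem Q18457 : ∀ i, i < 18457 → P i := stepQ 18456 Q18456 (allL N18456 (tt N36350 D59944) (tt N36351 D59945) (tt N36281 (iv2 F94281)) (tt N9101 F45990) (tt N36341 (iv4 F94414)) (tt N36352 D59946) (tt N9094 (iv6 D28468)) (tt N36349 (iv7 F94418)))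
theorem Q18458 : ∀ i, i < 18458 → P i := stepQ 18457 Q18457 (allL N18457 (tt N9111 (iv1 F45992)) (tt N9095 (iv0 D28469)) (tt N9137 F50869) (tt N29764 (iv3 F77224)) (tt N9130 F50870) (tt N36353 D59947) (tt N9122 F50871) (tt N9162 F50872))
theorem Q18459 : ∀ i, i < 18459 → P i := stepQ 18458 Q18458 (allL N18458 (tt N9095 (iv1 D28470)) (tt N9111 F45993) (tt N9162 F50866) (tt N10708 F45996) (tt N9142 F50867) (tt N36354 D59948) (tt N19458 F54239) (tt N9137 F50868))
theorem Q18460 : ∀ i, i < 18460 → P i := stepQ 18459 Q18459 (allL N18459 (tt N36355 D59949) (tt N36356 D59950) (tt N36282 (iv2 F94282)) (tt N9102 F45997) (tt N36357 D59951) (tt N9095 (iv5 D28471)) (tt N36352 (iv6 F94420)) (tt N9163 F45998))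
theorem Q18461 : ∀ i, i < 18461 → P i := stepQ 18460 Q18460 (allL N18460 (tt N29698 (iv1 F76983)) (tt N9096 (iv0 D28472)) (tt N29699 (iv2 F105493)) (tt N36358 D59953) (tt N36359 D59954) (tt N20383 (iv5 F94441)) (tt N29699 (iv6 F319641)) (tt N21620 F317351))
theorem Q18462 : ∀ i, i < 18462 → P i := stepQ 18461 Q18461 (allL N18461 (tt N9096 (iv1 D28473)) (tt N29698 F76982) (tt N21620 F317350) (tt N36360 D59957) (tt N36361 D59958) (tt N20384 (iv5 F101363)) (tt N21589 (iv6 F319623)) (tt N29699 (iv7 F105495)))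
theorem Q18463 : ∀ i, i < 18463 → P i := stepQ 18462 Q18462 (allL N18462 (tt N29699 (iv1 F76985)) (tt N21620 F316522) (tt N9096 (iv2 D28474)) (tt N20499 F317355) (tt N36331 (iv4 F94396)) (tt N20551 (iv5 F49400)) (tt N36362 D59961) (tt N29698 (iv7 F76981)))
theorem Q18464 : ∀ i, i < 18464 → P i := stepQ 18463 Q18463 (allL N18463 (tt N36363 D59962) (tt N36364 D59963) (tt N36362 (iv2 F94444)) (tt N9097 F45999) (tt N36333 (iv4 F94399)) (tt N36365 D59964) (tt N9096 (iv6 D28475)) (tt N36366 D59965))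
theorem Q18465 : ∀ i, i < 18465 → P i := stepQ 18464 Q18464 (allL N18464 (tt N9356 F315380) (tt N19477 F315381) (tt N19476 F315382) (tt N36365 (iv3 F94445)) (tt N36367 D59966) (tt N9097 (iv5 D28477)) (tt N20554 (iv6 F49411)) (tt N19475 F315383))
theorem Q18466 : ∀ i, i < 18466 → P i := stepQ 18465 Q18465 (allL N18465 (tt N16975 (iv1 F46001)) (tt N16971 (iv0 F46002)) (tt N21444 F51213) (tt N36366 (iv3 F94446)) (tt N9100 F46000) (tt N19475 (iv5 F313447)) (tt N29702 (iv6 F76992)) (tt N9097 (iv7 D28478)))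
theorem Q18467 : ∀ i, i < 18467 → P i := stepQ 18466 Q18466 (allL N18466 (tt N36368 D59968) (tt N33495 (iv0 F130835)) (tt N23107 (iv2 F130836)) (tt N9098 (iv3 D28479)) (tt N36369 D59971) (tt N36370 D59972) (tt N17436 F130825) (tt N29747 (iv7 F77152)))
theorem Q18468 : ∀ i, i < 18468 → P i := stepQ 18467 Q18467 (allL N18467 (tt N24205 (iv1 F57693)) (tt N10704 F46005) (tt N24204 F57686) (tt N36370 (iv3 F94455)) (tt N11339 F46004) (tt N9098 (iv5 D28480)) (tt N24216 F303016) (tt N11334 F46003))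
theorem Q18469 : ∀ i, i < 18469 → P i := stepQ 18468 Q18468 (allL N18468 (tt N33570 (iv1 F104193)) (tt N36371 D59975) (tt N29746 (iv2 F77148)) (tt N17436 (iv3 F130823)) (tt N33786 (iv4 F85611)) (tt N17435 F130809) (tt N9098 (iv6 D28481)) (tt N23092 F130810))
theorem Q18470 : ∀ i, i < 18470 → P i := stepQ 18469 Q18469 (allL N18469 (tt N33566 (iv1 F155380)) (tt N36372 D59978) (tt N36373 D59979) (tt N9099 (iv3 D28482)) (tt N36374 D59980) (tt N34572 F87900) (tt N36375 D59981) (tt N29745 (iv7 F77147)))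
theorem Q18471 : ∀ i, i < 18471 → P i := stepQ 18470 Q18470 (allL N18470 (tt N36376 D59982) (tt N33503 (iv0 F122600)) (tt N22448 (iv2 F310959)) (tt N36375 (iv3 F94460)) (tt N17275 (iv4 F313160)) (tt N34574 (iv5 F87905)) (tt N9099 (iv6 D28483)) (tt N22449 F310934))
theorem Q18472 : ∀ i, i < 18472 → P i := stepQ 18471 Q18471 (allL N18471 (tt N29750 (iv1 F77164)) (tt N29749 F77163) (tt N29748 (iv2 F77157)) (tt N36349 (iv3 F94417)) (tt N29702 (iv4 F76991)) (tt N35476 (iv5 F92466)) (tt N9100 (iv6 D28484)) (tt N9101 F46006))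
theorem Q18473 : ∀ i, i < 18473 → P i := stepQ 18472 Q18472 (allL N18472 (tt N29748 (iv1 F77162)) (tt N9101 (iv0 D28485)) (tt N29749 F182241) (tt N36377 D59986) (tt N10123 (iv4 F104774)) (tt N36378 D59988) (tt N36379 D59989) (tt N29750 (iv7 F182249)))
theorem Q18474 : ∀ i, i < 18474 → P i := stepQ 18473 Q18473 (allL N18473 (tt N9101 (iv1 D28486)) (tt N29748 F77161) (tt N29750 (iv2 F182248)) (tt N36380 D59991) (tt N10124 (iv4 F104777)) (tt N36381 D59993) (tt N36382 D59994) (tt N29749 F182246))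
theorem Q18475 : ∀ i, i < 18475 → P i := stepQ 18474 Q18474 (allL N18474 (tt N36383 D59995) (tt N36384 D59996) (tt N23156 (iv2 F55095)) (tt N36352 (iv3 F94419)) (tt N36385 D59997) (tt N9101 (iv5 D28487)) (tt N9102 F46007) (tt N35476 (iv7 F92467)))
theorem Q18476 : ∀ i, i < 18476 → P i := stepQ 18475 Q18475 (allL N18475 (tt N17322 F46010) (tt N17319 F46011) (tt N18628 (iv2 F46270)) (tt N36386 D59998) (tt N9102 (iv4 D28488)) (tt N11378 F46009) (tt N36385 (iv6 F94467)) (tt N9172 F46008))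
theorem Q18477 : ∀ i, i < 18477 → P i := stepQ 18476 Q18476 (allL N18476 (tt N16425 (iv1 F46017)) (tt N9103 (iv0 D28489)) (tt N16422 F178216) (tt N36387 D60000) (tt N16406 F114629) (tt N36388 D60002) (tt N36389 D60003) (tt N16423 F178217))
theorem Q18478 : ∀ i, i < 18478 → P i := stepQ 18477 Q18477 (allL N18477 (tt N9103 (iv1 D28490)) (tt N16425 F46012) (tt N16423 (iv2 F178210)) (tt N36390 D60005) (tt N16407 F114632) (tt N36391 D60007) (tt N36392 D60008) (tt N16422 (iv7 F178215)))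
theorem Q18479 : ∀ i, i < 18479 → P i := stepQ 18478 Q18478 (allL N18478 (tt N36393 D60009) (tt N36394 D60010) (tt N16424 F46013) (tt N22091 (iv3 F52467)) (tt N36395 D60011) (tt N9103 (iv5 D28491)) (tt N9106 F46014) (tt N36396 D60012))
theorem Q18480 : ∀ i, i < 18480 → P i := stepQ 18479 Q18479 (allL N18479 (tt N16423 (iv1 F46018)) (tt N16422 F46019) (tt N16425 F46015) (tt N22092 (iv3 F52469)) (tt N29577 (iv4 F76741)) (tt N36396 (iv5 F94478)) (tt N16408 F46016) (tt N9103 (iv7 D28492)))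
theorem Q18481 : ∀ i, i < 18481 → P i := stepQ 18480 Q18480 (allL N18480 (tt N36397 D60013) (tt N14927 (iv0 F55091)) (tt N14933 F46020) (tt N9104 (iv3 D28493)) (tt N18480 F46021) (tt N36398 D60014) (tt N14919 F46022) (tt N16427 F46023))
theorem Q18482 : ∀ i, i < 18482 → P i := stepQ 18481 Q18481 (allL N18481 (tt N29989 (iv1 F77741)) (tt N16281 F46026) (tt N16426 F46024) (tt N36398 (iv3 F94490)) (tt N36399 D60015) (tt N9104 (iv5 D28494)) (tt N36400 D60016) (tt N16428 F46025))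
theorem Q18483 : ∀ i, i < 18483 → P i := stepQ 18482 Q18482 (allL N18482 (tt N16281 F46029) (tt N29989 (iv0 F77740)) (tt N16428 F46027) (tt N23167 (iv3 F55111)) (tt N36401 D60017) (tt N9105 (iv5 D28495)) (tt N36402 D60018) (tt N16426 F46028))
theorem Q18484 : ∀ i, i < 18484 → P i := stepQ 18483 Q18483 (allL N18483 (tt N16432 (iv1 F46033)) (tt N9106 (iv0 D28496)) (tt N16429 (iv2 F46031)) (tt N36403 D60019) (tt N32780 (iv4 F83507)) (tt N18390 F46030) (tt N36404 D60020) (tt N16430 (iv7 F46032)))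
theorem Q18485 : ∀ i, i < 18485 → P i := stepQ 18484 Q18484 (allL N18484 (tt N9106 (iv1 D28497)) (tt N16432 F46034) (tt N16430 (iv2 F46037)) (tt N32613 (iv3 F83219)) (tt N32781 (iv4 F83511)) (tt N11442 F46036) (tt N36405 D60021) (tt N16429 F46035))
theorem Q18486 : ∀ i, i < 18486 → P i := stepQ 18485 Q18485 (allL N18485 (tt N36406 D60022) (tt N36407 D60023) (tt N16431 F46038) (tt N36408 D60024) (tt N9106 (iv4 D28498)) (tt N32715 (iv5 F83377)) (tt N36395 (iv6 F94476)) (tt N32714 (iv7 F83372)))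
theorem Q18487 : ∀ i, i < 18487 → P i := stepQ 18486 Q18486 (allL N18486 (tt N16430 (iv1 F46041)) (tt N16429 F46042) (tt N16432 F46039) (tt N22100 (iv3 F52480)) (tt N32714 (iv4 F83371)) (tt N9107 F46040) (tt N36409 D60025) (tt N9106 (iv7 D28499)))
theorem Q18488 : ∀ i, i < 18488 → P i := stepQ 18487 Q18487 (allL N18487 (tt N21902 (iv1 F52164)) (tt N18389 F46045) (tt N16434 F46043) (tt N21882 (iv3 F52110)) (tt N36410 D60026) (tt N9108 (iv5 D28500)) (tt N36411 D60027) (tt N16436 F46044))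
theorem Q18489 : ∀ i, i < 18489 → P i := stepQ 18488 Q18488 (allL N18488 (tt N14878 F46048) (tt N14969 F46049) (tt N16282 F46046) (tt N20993 (iv3 F49958)) (tt N9109 (iv4 D28501)) (tt N22893 (iv5 F54605)) (tt N32977 (iv6 F83804)) (tt N11433 F46047))
theorem Q18490 : ∀ i, i < 18490 → P i := stepQ 18489 Q18489 (allL N18489 (tt N9154 F46053) (tt N9153 F46054) (tt N9157 F46050) (tt N36412 D60028) (tt N9110 (iv4 D28502)) (tt N10952 F46051) (tt N36413 D60029) (tt N9145 F46052))
theorem Q18491 : ∀ i, i < 18491 → P i := stepQ 18490 Q18490 (allL N18490 (tt N35472 (iv1 F92457)) (tt N35471 F92452) (tt N9161 F46055) (tt N12651 F46056) (tt N36413 (iv4 F94527)) (tt N36414 D60030) (tt N9110 (iv6 D28503)) (tt N35473 (iv7 F92455)))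
theorem Q18492 : ∀ i, i < 18492 → P i := stepQ 18491 Q18491 (allL N18491 (tt N36356 (iv1 F94432)) (tt N36355 F94429) (tt N9163 F46057) (tt N23144 (iv3 F55067)) (tt N36415 D60031) (tt N9111 (iv5 D28504)) (tt N36414 (iv6 F94531)) (tt N36282 (iv7 F94283)))
theorem Q18493 : ∀ i, i < 18493 → P i := stepQ 18492 Q18492 (allL N18492 (tt N21697 (iv1 F51723)) (tt N10684 F51725) (tt N21698 (iv2 F51733)) (tt N9113 F46058) (tt N23295 (iv4 F55427)) (tt N9112 (iv5 D28505)) (tt N21975 (iv6 F303538)) (tt N9134 F46059))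
theorem Q18494 : ∀ i, i < 18494 → P i := stepQ 18493 Q18493 (allL N18493 (tt N19491 F54046) (tt N9361 F54047) (tt N19490 F54274) (tt N9114 F46060) (tt N29754 (iv4 F77191)) (tt N15249 (iv5 F52274)) (tt N9112 (iv6 D28506)) (tt N19478 F54271))
theorem Q18495 : ∀ i, i < 18495 → P i := stepQ 18494 Q18494 (allL N18494 (tt N21740 (iv1 F51790)) (tt N22189 (iv0 F52681)) (tt N9124 F46061) (tt N22992 F300636) (tt N9113 (iv4 D28507)) (tt N35095 (iv5 F90845)) (tt N22991 (iv6 F301565)) (tt N9138 F46062))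
theorem Q18496 : ∀ i, i < 18496 → P i := stepQ 18495 Q18495 (allL N18495 (tt N10674 (iv1 F190655)) (tt N24218 F300742) (tt N9125 F46063) (tt N21975 (iv3 F303537)) (tt N22991 (iv4 F301564)) (tt N36416 D60037) (tt N9113 (iv6 D28508)) (tt N24217 F300743))
theorem Q18497 : ∀ i, i < 18497 → P i := stepQ 18496 Q18496 (allL N18496 (tt N9379 F50846) (tt N19505 F50847) (tt N9128 F46065) (tt N15249 F52275) (tt N36417 D60039) (tt N9114 (iv5 D28511)) (tt N36416 (iv6 F94542)) (tt N19479 (iv7 F54042)))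
theorem Q18498 : ∀ i, i < 18498 → P i := stepQ 18497 Q18497 (allL N18497 (tt N9147 F46072) (tt N12256 F46073) (tt N10551 F46071) (tt N22072 (iv3 F52448)) (tt N17223 F46074) (tt N9115 (iv5 D28513)) (tt N36418 D60040) (tt N25069 (iv7 F60252)))
theorem Q18499 : ∀ i, i < 18499 → P i := stepQ 18498 Q18498 (allL N18498 (tt N9116 (iv1 D28515)) (tt N21569 F51521) (tt N10655 (iv2 F46080)) (tt N21558 (iv3 F51493)) (tt N17183 (iv4 F46081)) (tt N17012 F46079) (tt N36419 D60041) (tt N21566 (iv7 F51510)))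
theorem Q18500 : ∀ i, i < 18500 → P i := stepQ 18499 Q18499 (allL N18499 (tt N36420 D60042) (tt N36421 D60043) (tt N32799 (iv2 F83555)) (tt N9125 F46082) (tt N34435 (iv4 F87539)) (tt N36422 D60044) (tt N9116 (iv6 D28516)) (tt N36423 D60045))
theorem Q18501 : ∀ i, i < 18501 → P i := stepQ 18500 Q18500 (allL N18500 (tt N32802 (iv1 F83572)) (tt N9117 (iv0 D28517)) (tt N32800 F83559) (tt N9364 F54056) (tt N17175 F54057) (tt N36424 D60046) (tt N33593 (iv6 F85218)) (tt N9370 F54058))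
theorem Q18502 : ∀ i, i < 18502 → P i := stepQ 18501 Q18501 (allL N18501 (tt N9117 (iv1 D28518)) (tt N32802 F83571) (tt N9370 F83535) (tt N36425 D60047) (tt N17176 F83536) (tt N36426 D60048) (tt N36425 F94566) (tt N32800 (iv7 F83560)))
theorem Q18503 : ∀ i, i < 18503 → P i := stepQ 18502 Q18502 (allL N18502 (tt N36427 D60049) (tt N36428 D60050) (tt N32801 (iv2 F83562)) (tt N9128 F46083) (tt N36429 D60051) (tt N9117 (iv5 D28519)) (tt N36422 (iv6 F94557)) (tt N36430 D60052))
theorem Q18504 : ∀ i, i < 18504 → P i := stepQ 18503 Q18503 (allL N18503 (tt N9370 F54050) (tt N32800 F83561) (tt N32802 (iv2 F83566)) (tt N9129 F46084) (tt N19444 F54051) (tt N36430 (iv5 F94581)) (tt N32821 (iv6 F83606)) (tt N9117 (iv7 D28520)))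
theorem Q18505 : ∀ i, i < 18505 → P i := stepQ 18504 Q18504 (allL N18504 (tt N10947 F46086) (tt N10943 F46087) (tt N10620 F46085) (tt N21951 (iv3 F52269)) (tt N17900 F46088) (tt N9118 (iv5 D28521)) (tt N36431 D60053) (tt N22184 (iv7 F52655)))
theorem Q18506 : ∀ i, i < 18506 → P i := stepQ 18505 Q18505 (allL N18505 (tt N10652 F46090) (tt N21558 F51498) (tt N21542 (iv2 F51477)) (tt N9120 F46089) (tt N23878 (iv4 F56660)) (tt N9119 (iv5 D28522)) (tt N26159 F302898) (tt N21559 (iv7 F51504)))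
theorem Q18507 : ∀ i, i < 18507 → P i := stepQ 18506 Q18506 (allL N18506 (tt N9365 F54067) (tt N36425 (iv0 F94564)) (tt N19461 F54248) (tt N9121 F46091) (tt N32789 (iv4 F83533)) (tt N30679 (iv5 F79169)) (tt N9119 (iv6 D28523)) (tt N36432 D60055))
theorem Q18508 : ∀ i, i < 18508 → P i := stepQ 18507 Q18507 (allL N18507 (tt N9136 (iv1 F46094)) (tt N9120 (iv0 D28524)) (tt N10687 (iv2 F46093)) (tt N21697 (iv3 F51721)) (tt N22167 (iv4 F52599)) (tt N11804 F46092) (tt N36433 D60056) (tt N21703 (iv7 F51744)))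
theorem Q18509 : ∀ i, i < 18509 → P i := stepQ 18508 Q18508 (allL N18508 (tt N21703 (iv1 F51746)) (tt N10687 (iv0 F46098)) (tt N9136 F46095) (tt N21559 F51502) (tt N11196 F46096) (tt N9122 F46097) (tt N36434 D60060) (tt N9120 (iv7 D28526)))
theorem Q18510 : ∀ i, i < 18510 → P i := stepQ 18509 Q18509 (allL N18509 (tt N19458 F54061) (tt N9121 (iv0 D28527)) (tt N11141 F54062) (tt N19491 F54063) (tt N10861 F54064) (tt N17976 (iv5 F310449)) (tt N23901 (iv6 F56723)) (tt N19481 F54065))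
theorem Q18511 : ∀ i, i < 18511 → P i := stepQ 18510 Q18510 (allL N18510 (tt N19481 F54052) (tt N11141 F54053) (tt N19458 F54224) (tt N36432 (iv3 F94587)) (tt N9129 F46099) (tt N30678 (iv5 F79162)) (tt N9162 F50842) (tt N9121 (iv7 D28530)))
theorem Q18512 : ∀ i, i < 18512 → P i := stepQ 18511 Q18511 (allL N18511 (tt N10901 F46103) (tt N10870 F46104) (tt N10664 F46102) (tt N36435 D60062) (tt N9123 (iv4 D28532)) (tt N34506 (iv5 F87739)) (tt N36436 D60063) (tt N21514 (iv7 F51436)))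
theorem Q18513 : ∀ i, i < 18513 → P i := stepQ 18512 Q18512 (allL N18512 (tt N23678 F311336) (tt N36437 D60065) (tt N10665 F46105) (tt N21535 (iv3 F51463)) (tt N36436 (iv4 F94600)) (tt N27718 F311337) (tt N9123 (iv6 D28533)) (tt N36438 D60066))
theorem Q18514 : ∀ i, i < 18514 → P i := stepQ 18513 Q18513 (allL N18513 (tt N9138 (iv1 F46107)) (tt N9124 (iv0 D28534)) (tt N21740 (iv2 F51787)) (tt N36439 D60067) (tt N10824 F46106) (tt N36440 D60068) (tt N36441 D60069) (tt N22189 (iv7 F52680)))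
theorem Q18515 : ∀ i, i < 18515 → P i := stepQ 18514 Q18514 (allL N18514 (tt N9124 (iv1 D28535)) (tt N9138 F46108) (tt N22189 (iv2 F52679)) (tt N28141 F296777) (tt N10858 F46109) (tt N36442 D60071) (tt N36443 D60072) (tt N21740 (iv7 F51788)))
theorem Q18516 : ∀ i, i < 18516 → P i := stepQ 18515 Q18515 (allL N18515 (tt N22087 F52465) (tt N22117 (iv0 F52501)) (tt N36444 D60073) (tt N9124 (iv3 D28536)) (tt N22046 F52411) (tt N22049 (iv5 F52415)) (tt N33927 (iv6 F300974)) (tt N36445 D60075))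
theorem Q18517 : ∀ i, i < 18517 → P i := stepQ 18516 Q18516 (allL N18516 (tt N36446 D60076) (tt N36447 D60077) (tt N35095 (iv2 F90843)) (tt N22049 (iv3 F52414)) (tt N10951 F46110) (tt N9124 (iv5 D28537)) (tt N36448 D60078) (tt N35097 (iv7 F90850)))
theorem Q18518 : ∀ i, i < 18518 → P i := stepQ 18517 Q18517 (allL N18517 (tt N36449 D60079) (tt N19514 F303588) (tt N22991 (iv2 F301563)) (tt N33927 (iv3 F300973)) (tt N9125 F46111) (tt N33926 (iv5 F303589)) (tt N9124 (iv6 D28538)) (tt N36450 D60082))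
theorem Q18519 : ∀ i, i < 18519 → P i := stepQ 18518 Q18518 (allL N18518 (tt N22189 (iv1 F52682)) (tt N21740 (iv0 F51789)) (tt N9138 F46112) (tt N36445 (iv3 F94629)) (tt N9126 F46113) (tt N35097 (iv5 F90849)) (tt N36451 D60083) (tt N9124 (iv7 D28539)))
theorem Q18520 : ∀ i, i < 18520 → P i := stepQ 18519 Q18519 (allL N18519 (tt N24217 F300744) (tt N9125 (iv0 D28540)) (tt N10674 (iv2 F189869)) (tt N24212 F300745) (tt N27989 F300746) (tt N25443 (iv5 F303541)) (tt N36452 D60088) (tt N24218 F300747))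
theorem Q18521 : ∀ i, i < 18521 → P i := stepQ 18520 Q18520 (allL N18520 (tt N36453 D60094) (tt N19517 (iv0 F188417)) (tt N36416 (iv2 F94540)) (tt N36422 (iv3 F94556)) (tt N36454 D60096) (tt N9125 (iv5 D28542)) (tt N9128 F46114) (tt N36455 D60097))
theorem Q18522 : ∀ i, i < 18522 → P i := stepQ 18521 Q18521 (allL N18521 (tt N24218 F300740) (tt N10674 (iv0 F190654)) (tt N24217 F300741) (tt N36423 (iv3 F94558)) (tt N36450 (iv4 F94641)) (tt N36455 (iv5 F94647)) (tt N24182 F188327) (tt N9125 (iv7 D28543)))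
theorem Q18523 : ∀ i, i < 18523 → P i := stepQ 18522 Q18522 (allL N18522 (tt N24183 (iv1 F188307)) (tt N10703 (iv0 F188308)) (tt N9139 F46115) (tt N32818 (iv3 F83595)) (tt N36451 (iv4 F94643)) (tt N36456 D60101) (tt N9126 (iv6 D28544)) (tt N24182 F188328))
theorem Q18524 : ∀ i, i < 18524 → P i := stepQ 18523 Q18523 (allL N18523 (tt N19483 F54017) (tt N19482 F54018) (tt N9352 F54019) (tt N19465 F54020) (tt N36457 D60102) (tt N9127 (iv5 D28548)) (tt N36458 D60103) (tt N19480 F54021))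
theorem Q18525 : ∀ i, i < 18525 → P i := stepQ 18524 Q18524 (allL N18524 (tt N19479 (iv1 F54040)) (tt N9128 (iv0 D28555)) (tt N9379 F50874) (tt N19499 F50875) (tt N36459 D60104) (tt N18218 F50876) (tt N36460 D60105) (tt N19505 F50877))
theorem Q18526 : ∀ i, i < 18526 → P i := stepQ 18525 Q18525 (allL N18525 (tt N34576 F309078) (tt N11175 F54221) (tt N36417 (iv2 F94548)) (tt N36461 D60107) (tt N9128 (iv4 D28557)) (tt N12631 F309079) (tt N36454 (iv6 F94646)) (tt N12630 F309080))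
theorem Q18527 : ∀ i, i < 18527 → P i := stepQ 18526 Q18526 (allL N18526 (tt N19505 F50843) (tt N9379 F50844) (tt N19479 (iv2 F54041)) (tt N36430 (iv3 F94580)) (tt N12630 F309073) (tt N9129 F46118) (tt N36462 D60110) (tt N9128 (iv7 D28558)))
theorem Q18528 : ∀ i, i < 18528 → P i := stepQ 18527 Q18527 (allL N18527 (tt N33914 (iv1 F86105)) (tt N10716 F54146) (tt N9141 F46125) (tt N32820 (iv3 F83602)) (tt N36463 D60111) (tt N9130 (iv5 D28562)) (tt N36456 (iv6 F94655)) (tt N33906 (iv7 F86047)))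
theorem Q18529 : ∀ i, i < 18529 → P i := stepQ 18528 Q18528 (allL N18528 (tt N23906 (iv1 F56747)) (tt N9150 F46127) (tt N10617 F46126) (tt N22184 (iv3 F52654)) (tt N17281 F46128) (tt N9131 (iv5 D28563)) (tt N22435 (iv6 F305187)) (tt N21951 (iv7 F52270)))
theorem Q18530 : ∀ i, i < 18530 → P i := stepQ 18529 Q18529 (allL N18529 (tt N10684 F46131) (tt N21697 F51726) (tt N9134 F46130) (tt N21569 (iv3 F51524)) (tt N23296 (iv4 F55433)) (tt N9132 (iv5 D28564)) (tt N36464 D60113) (tt N21698 (iv7 F51730)))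
theorem Q18531 : ∀ i, i < 18531 → P i := stepQ 18530 Q18530 (allL N18530 (tt N17536 F46133) (tt N17532 F46144) (tt N23290 F55416) (tt N23140 (iv3 F55044)) (tt N36465 D60114) (tt N9133 (iv5 D28566)) (tt N36466 D60115) (tt N23289 F55412))
theorem Q18532 : ∀ i, i < 18532 → P i := stepQ 18531 Q18531 (allL N18531 (tt N29752 F77180) (tt N33994 (iv0 F86457)) (tt N23149 (iv2 F55086)) (tt N23141 (iv3 F55048)) (tt N9135 F46146) (tt N36467 D60116) (tt N9133 (iv6 D28567)) (tt N23146 (iv7 F55076)))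
theorem Q18533 : ∀ i, i < 18533 → P i := stepQ 18532 Q18532 (allL N18532 (tt N21698 (iv1 F51729)) (tt N9134 (iv0 D28568)) (tt N10684 (iv2 F46149)) (tt N21703 (iv3 F51743)) (tt N17126 F46148) (tt N11415 F46147) (tt N36468 D60117) (tt N21697 (iv7 F51722)))
theorem Q18534 : ∀ i, i < 18534 → P i := stepQ 18533 Q18533 (allL N18533 (tt N10766 F46150) (tt N10763 F46151) (tt N23296 F55434) (tt N36469 D60118) (tt N9134 (iv4 D28569)) (tt N25660 (iv5 F61832)) (tt N36470 D60119) (tt N23295 F55430))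
theorem Q18535 : ∀ i, i < 18535 → P i := stepQ 18534 Q18534 (allL N18534 (tt N36471 D60120) (tt N36472 D60121) (tt N36464 (iv2 F94674)) (tt N9139 F46152) (tt N36470 (iv4 F94680)) (tt N36473 D60122) (tt N9134 (iv6 D28570)) (tt N36474 D60123))
theorem Q18536 : ∀ i, i < 18536 → P i := stepQ 18535 Q18535 (allL N18535 (tt N36475 D60124) (tt N21657 (iv0 F56750)) (tt N23150 (iv2 F55092)) (tt N9141 F46153) (tt N36476 D60125) (tt N9135 (iv5 D28573)) (tt N36473 (iv6 F94682)) (tt N23147 (iv7 F55080)))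
theorem Q18537 : ∀ i, i < 18537 → P i := stepQ 18536 Q18536 (allL N18536 (tt N36477 D60126) (tt N36478 D60127) (tt N36434 (iv2 F94592)) (tt N21541 (iv3 F51476)) (tt N34504 (iv4 F87735)) (tt N36479 D60128) (tt N9136 (iv6 D28575)) (tt N24157 F302895))
theorem Q18538 : ∀ i, i < 18538 → P i := stepQ 18537 Q18537 (allL N18537 (tt N34388 F87431) (tt N36480 D60130) (tt N36353 (iv2 F94421)) (tt N20413 F322093) (tt N36481 D60131) (tt N9137 (iv5 D28578)) (tt N36479 (iv6 F94685)) (tt N36354 (iv7 F94426)))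
theorem Q18539 : ∀ i, i < 18539 → P i := stepQ 18538 Q18538 (allL N18538 (tt N36482 D60132) (tt N22021 F296753) (tt N36483 D60133) (tt N9138 (iv3 D28580)) (tt N36469 (iv4 F94679)) (tt N36484 D60134) (tt N36485 D60135) (tt N22992 (iv7 F298152)))
theorem Q18540 : ∀ i, i < 18540 → P i := stepQ 18539 Q18539 (allL N18539 (tt N36447 (iv1 F94637)) (tt N36446 F94636) (tt N35097 (iv2 F90847)) (tt N36484 (iv3 F94694)) (tt N10950 F46156) (tt N9138 (iv5 D28581)) (tt N26168 (iv6 F306547)) (tt N35095 (iv7 F90844)))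
theorem Q18541 : ∀ i, i < 18541 → P i := stepQ 18540 Q18540 (allL N18540 (tt N36486 D60137) (tt N36487 D60138) (tt N36451 (iv2 F94642)) (tt N36485 (iv3 F94696)) (tt N9139 F46157) (tt N36488 D60139) (tt N9138 (iv6 D28582)) (tt N36489 D60140))
theorem Q18542 : ∀ i, i < 18542 → P i := stepQ 18541 Q18541 (allL N18541 (tt N9139 (iv1 D28584)) (tt N24182 F188325) (tt N10703 (iv2 F188330)) (tt N24201 (iv3 F188331)) (tt N36490 D60148) (tt N36491 D60149) (tt N36492 D60150) (tt N24183 (iv7 F188343)))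
theorem Q18543 : ∀ i, i < 18543 → P i := stepQ 18542 Q18542 (allL N18542 (tt N33904 F190682) (tt N36493 D60152) (tt N36456 (iv2 F94654)) (tt N36473 (iv3 F94681)) (tt N36494 D60153) (tt N9139 (iv5 D28585)) (tt N9141 F46158) (tt N36495 D60154))
theorem Q18544 : ∀ i, i < 18544 → P i := stepQ 18543 Q18543 (allL N18543 (tt N10703 F188309) (tt N24183 F188310) (tt N24182 F188326) (tt N36474 (iv3 F94683)) (tt N36489 (iv4 F94698)) (tt N36495 (iv5 F94702)) (tt N24217 F302472) (tt N9139 (iv7 D28586)))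
theorem Q18545 : ∀ i, i < 18545 → P i := stepQ 18544 Q18544 (allL N18544 (tt N33909 (iv1 F86060)) (tt N33908 F86056) (tt N10712 F50841) (tt N29778 (iv3 F77265)) (tt N36496 D60155) (tt N9140 (iv5 D28595)) (tt N36497 D60156) (tt N33907 (iv7 F86052)))
theorem Q18546 : ∀ i, i < 18546 → P i := stepQ 18545 Q18545 (allL N18545 (tt N9141 (iv1 D28598)) (tt N33906 (iv0 F86048)) (tt N10716 F54160) (tt N20409 F320897) (tt N36498 D60157) (tt N20991 F54161) (tt N16675 F320898) (tt N33914 (iv7 F86104)))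
theorem Q18547 : ∀ i, i < 18547 → P i := stepQ 18546 Q18546 (allL N18546 (tt N36499 D60159) (tt N36500 D60160) (tt N36463 (iv2 F94671)) (tt N36501 D60161) (tt N9141 (iv4 D28599)) (tt N36502 D60162) (tt N36494 (iv6 F94701)) (tt N36503 D60163))
theorem Q18548 : ∀ i, i < 18548 → P i := stepQ 18547 Q18547 (allL N18547 (tt N10716 F54118) (tt N33914 F86106) (tt N33906 (iv2 F86046)) (tt N23147 (iv3 F55079)) (tt N36503 (iv4 F94711)) (tt N9142 F46161) (tt N36504 D60164) (tt N9141 (iv7 D28600)))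
theorem Q18549 : ∀ i, i < 18549 → P i := stepQ 18548 Q18548 (allL N18548 (tt N21951 (iv1 F52271)) (tt N10617 F52276) (tt N23906 (iv2 F56743)) (tt N9143 (iv3 D28601)) (tt N33976 (iv4 F86364)) (tt N10497 F46162) (tt N36505 D60165) (tt N9150 F46163))
theorem Q18550 : ∀ i, i < 18550 → P i := stepQ 18549 Q18549 (allL N18549 (tt N22183 (iv1 F52649)) (tt N22185 (iv0 F52662)) (tt N9148 F46164) (tt N36506 D60166) (tt N9143 (iv4 D28602)) (tt N35079 (iv5 F90791)) (tt N36507 D60167) (tt N9151 F46165))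
theorem Q18551 : ∀ i, i < 18551 → P i := stepQ 18550 Q18550 (allL N18550 (tt N10567 F188409) (tt N23988 F188410) (tt N9149 F46166) (tt N36505 (iv3 F94712)) (tt N36507 (iv4 F94716)) (tt N36508 D60170) (tt N9143 (iv6 D28603)) (tt N23987 (iv7 F188424)))
theorem Q18552 : ∀ i, i < 18552 → P i := stepQ 18551 Q18551 (allL N18551 (tt N22185 (iv1 F52663)) (tt N22183 (iv0 F52648)) (tt N9151 F46167) (tt N34211 (iv3 F86965)) (tt N9144 (iv4 D28604)) (tt N35087 (iv5 F90819)) (tt N36509 D60172) (tt N9148 F46168))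
theorem Q18553 : ∀ i, i < 18553 → P i := stepQ 18552 Q18552 (allL N18552 (tt N23659 F190013) (tt N10630 F190014) (tt N9152 F46169) (tt N34213 (iv3 F86971)) (tt N36509 (iv4 F94726)) (tt N35078 (iv5 F90788)) (tt N9144 (iv6 D28605)) (tt N23658 (iv7 F189918)))
theorem Q18554 : ∀ i, i < 18554 → P i := stepQ 18553 Q18553 (allL N18553 (tt N9145 (iv1 D28606)) (tt N9157 F46170) (tt N9154 (iv2 F46173)) (tt N36510 D60176) (tt N11195 (iv4 F50741)) (tt N35358 (iv5 F92156)) (tt N22345 (iv6 F52927)) (tt N9153 F46171))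
theorem Q18555 : ∀ i, i < 18555 → P i := stepQ 18554 Q18554 (allL N18554 (tt N36511 D60177) (tt N36512 D60178) (tt N23626 (iv2 F56271)) (tt N9145 (iv3 D28607)) (tt N29780 (iv4 F77280)) (tt N35099 (iv5 F90858)) (tt N36513 D60179) (tt N36412 (iv7 F94525)))
theorem Q18556 : ∀ i, i < 18556 → P i := stepQ 18555 Q18555 (allL N18555 (tt N22384 F77289) (tt N36514 D60180) (tt N9156 F46174) (tt N36513 (iv3 F94737)) (tt N9146 F46175) (tt N36515 D60181) (tt N9145 (iv6 D28608)) (tt N36516 D60182))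
theorem Q18557 : ∀ i, i < 18557 → P i := stepQ 18556 Q18556 (allL N18556 (tt N9160 (iv1 F46178)) (tt N9146 (iv0 D28609)) (tt N9158 (iv2 F185342)) (tt N36517 D60184) (tt N36518 D60185) (tt N24299 (iv5 F312034)) (tt N24300 F311616) (tt N9159 (iv7 F185348)))
theorem Q18558 : ∀ i, i < 18558 → P i := stepQ 18557 Q18557 (allL N18557 (tt N9146 (iv1 D28610)) (tt N9160 F46176) (tt N9159 F185349) (tt N34229 (iv3 F86998)) (tt N36519 D60189) (tt N36520 D60190) (tt N23924 F303875) (tt N9158 F185350))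
theorem Q18559 : ∀ i, i < 18559 → P i := stepQ 18558 Q18558 (allL N18558 (tt N9159 (iv1 F46179)) (tt N9158 F46180) (tt N9160 F46177) (tt N29784 (iv3 F77291)) (tt N36516 (iv4 F94741)) (tt N36321 (iv5 F94373)) (tt N35473 (iv6 F92454)) (tt N9146 (iv7 D28611)))
theorem Q18560 : ∀ i, i < 18560 → P i := stepQ 18559 Q18559 (allL N18559 (tt N36521 D60192) (tt N36522 D60193) (tt N34205 (iv2 F86944)) (tt N9149 F46181) (tt N12261 F46182) (tt N36523 D60194) (tt N9147 (iv6 D28612)) (tt N36524 D60195))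
theorem Q18561 : ∀ i, i < 18561 → P i := stepQ 18560 Q18560 (allL N18560 (tt N9151 (iv1 F46184)) (tt N9148 (iv0 D28613)) (tt N22183 (iv2 F52646)) (tt N36525 D60196) (tt N10797 F46183) (tt N36446 (iv5 F94634)) (tt N36526 D60197) (tt N22185 (iv7 F52661)))
theorem Q18562 : ∀ i, i < 18562 → P i := stepQ 18561 Q18561 (allL N18561 (tt N9148 (iv1 D28614)) (tt N9151 F46185) (tt N22185 (iv2 F52660)) (tt N36527 D60198) (tt N10857 F46186) (tt N36447 (iv5 F94638)) (tt N36528 D60199) (tt N22183 (iv7 F52647)))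
theorem Q18563 : ∀ i, i < 18563 → P i := stepQ 18562 Q18562 (allL N18562 (tt N23847 F56611) (tt N22465 (iv0 F53190)) (tt N36529 D60200) (tt N9148 (iv3 D28615)) (tt N12259 F46187) (tt N23882 (iv5 F56673)) (tt N36530 D60201) (tt N34211 (iv7 F86966)))
theorem Q18564 : ∀ i, i < 18564 → P i := stepQ 18563 Q18563 (allL N18563 (tt N36531 D60202) (tt N36532 D60203) (tt N35079 (iv2 F90789)) (tt N23882 (iv3 F56671)) (tt N10948 F46188) (tt N9148 (iv5 D28616)) (tt N36533 D60204) (tt N35087 (iv7 F90820)))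
theorem Q18565 : ∀ i, i < 18565 → P i := stepQ 18564 Q18564 (allL N18564 (tt N36534 D60205) (tt N36535 D60206) (tt N36507 (iv2 F94715)) (tt N36530 (iv3 F94759)) (tt N9149 F46189) (tt N36536 D60207) (tt N9148 (iv6 D28617)) (tt N36537 D60208))
theorem Q18566 : ∀ i, i < 18566 → P i := stepQ 18565 Q18565 (allL N18565 (tt N23987 F188425) (tt N9149 (iv0 D28618)) (tt N10567 (iv2 F188433)) (tt N23966 (iv3 F188434)) (tt N36538 D60211) (tt N36539 D60212) (tt N23926 F303879) (tt N23988 (iv7 F188447)))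
theorem Q18567 : ∀ i, i < 18567 → P i := stepQ 18566 Q18566 (allL N18566 (tt N36540 D60219) (tt N20628 F317998) (tt N36508 (iv2 F94718)) (tt N36523 (iv3 F94747)) (tt N36541 D60221) (tt N9149 (iv5 D28620)) (tt N22583 (iv6 F53371)) (tt N36542 D60222))
theorem Q18568 : ∀ i, i < 18568 → P i := stepQ 18567 Q18567 (allL N18567 (tt N23988 (iv1 F188405)) (tt N10567 (iv0 F188406)) (tt N23987 F188427) (tt N36524 (iv3 F94748)) (tt N36537 (iv4 F94776)) (tt N36542 (iv5 F94782)) (tt N23658 F189958) (tt N9149 (iv7 D28621)))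
theorem Q18569 : ∀ i, i < 18569 → P i := stepQ 18568 Q18568 (allL N18568 (tt N10617 (iv1 F46192)) (tt N21951 (iv0 F52273)) (tt N9150 (iv2 D28622)) (tt N12256 F46190) (tt N33977 (iv4 F86370)) (tt N10514 (iv5 F50856)) (tt N29796 (iv6 F77339)) (tt N23906 (iv7 F56745)))
theorem Q18570 : ∀ i, i < 18570 → P i := stepQ 18569 Q18569 (allL N18569 (tt N10740 F46193) (tt N10733 F46194) (tt N33977 F86371) (tt N36543 D60223) (tt N9150 (iv4 D28623)) (tt N25438 (iv5 F61019)) (tt N36544 D60224) (tt N33976 F86367))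
theorem Q18571 : ∀ i, i < 18571 → P i := stepQ 18570 Q18570 (allL N18570 (tt N36545 D60225) (tt N33857 (iv0 F189901)) (tt N29796 (iv2 F77337)) (tt N9152 F46195) (tt N36544 (iv4 F94784)) (tt N12647 F50909) (tt N9150 (iv6 D28624)) (tt N36546 D60227))
theorem Q18572 : ∀ i, i < 18572 → P i := stepQ 18571 Q18571 (allL N18571 (tt N36547 D60228) (tt N23929 (iv0 F56878)) (tt N36548 D60229) (tt N9151 (iv3 D28625)) (tt N36543 (iv4 F94783)) (tt N36549 D60230) (tt N36550 D60231) (tt N36506 (iv7 F94713)))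
theorem Q18573 : ∀ i, i < 18573 → P i := stepQ 18572 Q18572 (allL N18572 (tt N36532 (iv1 F94766)) (tt N36531 F94763) (tt N35087 (iv2 F90817)) (tt N36549 (iv3 F94790)) (tt N10944 F46196) (tt N9151 (iv5 D28626)) (tt N36551 D60232) (tt N35079 (iv7 F90790)))
theorem Q18574 : ∀ i, i < 18574 → P i := stepQ 18573 Q18573 (allL N18573 (tt N36552 D60233) (tt N36553 D60234) (tt N36509 (iv2 F94725)) (tt N36550 (iv3 F94792)) (tt N9152 F46197) (tt N36554 D60235) (tt N9151 (iv6 D28627)) (tt N36555 D60236))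
theorem Q18575 : ∀ i, i < 18575 → P i := stepQ 18574 Q18574 (allL N18574 (tt N9152 (iv1 D28629)) (tt N23658 (iv0 F189916)) (tt N10630 (iv2 F189920)) (tt N23686 (iv3 F189921)) (tt N36556 D60244) (tt N29332 F306646) (tt N34951 (iv6 F308472)) (tt N23659 (iv7 F189919)))
theorem Q18576 : ∀ i, i < 18576 → P i := stepQ 18575 Q18575 (allL N18575 (tt N33855 (iv1 F189889)) (tt N36557 D60248) (tt N35078 (iv2 F90786)) (tt N12647 (iv3 F50907)) (tt N10949 (iv4 F50908)) (tt N9152 (iv5 D28630)) (tt N10947 F50858) (tt N36558 D60249))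
theorem Q18577 : ∀ i, i < 18577 → P i := stepQ 18576 Q18576 (allL N18576 (tt N10630 (iv1 F190001)) (tt N23659 (iv0 F190002)) (tt N23658 (iv2 F189917)) (tt N36546 (iv3 F94785)) (tt N36555 (iv4 F94794)) (tt N36558 (iv5 F94801)) (tt N23987 F188432) (tt N9152 (iv7 D28631)))
theorem Q18578 : ∀ i, i < 18578 → P i := stepQ 18577 Q18577 (allL N18577 (tt N36559 D60250) (tt N36560 D60251) (tt N36561 D60252) (tt N9153 (iv3 D28632)) (tt N28636 (iv4 F74316)) (tt N36562 D60253) (tt N36563 D60254) (tt N36510 (iv7 F94734)))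
theorem Q18579 : ∀ i, i < 18579 → P i := stepQ 18578 Q18578 (allL N18578 (tt N22853 (iv1 F54541)) (tt N21796 (iv0 F51906)) (tt N22295 (iv2 F52879)) (tt N36562 (iv3 F94804)) (tt N10936 F46198) (tt N9153 (iv5 D28633)) (tt N36564 D60255) (tt N35358 (iv7 F92157)))
theorem Q18580 : ∀ i, i < 18580 → P i := stepQ 18579 Q18579 (allL N18579 (tt N36538 (iv1 F190372)) (tt N23980 (iv0 F190373)) (tt N22296 (iv2 F52883)) (tt N36563 (iv3 F94805)) (tt N22293 (iv4 F52876)) (tt N36565 D60258) (tt N9153 (iv6 D28634)) (tt N36566 D60259))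
theorem Q18581 : ∀ i, i < 18581 → P i := stepQ 18580 Q18580 (allL N18580 (tt N36567 D60260) (tt N36568 D60261) (tt N36569 D60262) (tt N9154 (iv3 D28635)) (tt N17901 F46199) (tt N32751 F83472) (tt N36570 D60263) (tt N22294 (iv7 F52878)))
theorem Q18582 : ∀ i, i < 18582 → P i := stepQ 18581 Q18581 (allL N18581 (tt N21796 (iv1 F51907)) (tt N22853 (iv0 F54540)) (tt N35358 (iv2 F92155)) (tt N32751 (iv3 F83471)) (tt N10926 F46200) (tt N9154 (iv5 D28636)) (tt N36571 D60264) (tt N22295 (iv7 F52880)))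
theorem Q18583 : ∀ i, i < 18583 → P i := stepQ 18582 Q18582 (allL N18582 (tt N23649 (iv1 F190666)) (tt N36556 (iv0 F190667)) (tt N22345 (iv2 F52926)) (tt N36570 (iv3 F94818)) (tt N17898 F46201) (tt N36572 D60267) (tt N9154 (iv6 D28637)) (tt N36573 D60268))
theorem Q18584 : ∀ i, i < 18584 → P i := stepQ 18583 Q18583 (allL N18583 (tt N10952 (iv1 F46204)) (tt N9155 (iv0 D28638)) (tt N22173 (iv2 F52626)) (tt N36574 D60269) (tt N10905 F46203) (tt N10870 F46202) (tt N36575 D60270) (tt N35098 (iv7 F90853)))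
theorem Q18585 : ∀ i, i < 18585 → P i := stepQ 18584 Q18584 (allL N18584 (tt N9155 (iv1 D28639)) (tt N10952 F46205) (tt N35098 F90855) (tt N36576 D60271) (tt N10881 (iv4 F46207)) (tt N10901 F46206) (tt N36577 D60272) (tt N22173 (iv7 F52627)))
theorem Q18586 : ∀ i, i < 18586 → P i := stepQ 18585 Q18585 (allL N18585 (tt N36578 D60273) (tt N36579 D60274) (tt N35100 (iv2 F90860)) (tt N23631 (iv3 F56294)) (tt N35090 (iv4 F90830)) (tt N36580 D60275) (tt N9155 (iv6 D28640)) (tt N36581 D60276))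
theorem Q18587 : ∀ i, i < 18587 → P i := stepQ 18586 Q18586 (allL N18586 (tt N35098 (iv1 F90852)) (tt N22173 (iv0 F52628)) (tt N10952 F46208) (tt N12564 F46209) (tt N10915 F46210) (tt N9157 F46211) (tt N36582 D60277) (tt N9155 (iv7 D28641)))
theorem Q18588 : ∀ i, i < 18588 → P i := stepQ 18587 Q18587 (allL N18587 (tt N36516 (iv1 F94743)) (tt N9156 (iv0 D28642)) (tt N22384 F110019) (tt N36583 D60279) (tt N22383 F110020) (tt N36584 D60281) (tt N36585 D60282) (tt N36514 F110021))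
theorem Q18589 : ∀ i, i < 18589 → P i := stepQ 18588 Q18588 (allL N18588 (tt N9156 (iv1 D28643)) (tt N36516 F94742) (tt N36514 (iv2 F109993)) (tt N36586 D60284) (tt N22289 (iv4 F52874)) (tt N36587 D60285) (tt N27966 F300713) (tt N22384 (iv7 F109995)))
theorem Q18590 : ∀ i, i < 18590 → P i := stepQ 18589 Q18589 (allL N18589 (tt N36588 D60287) (tt N36589 D60288) (tt N36515 (iv2 F94739)) (tt N23632 (iv3 F56295)) (tt N36590 D60289) (tt N9156 (iv5 D28644)) (tt N36580 (iv6 F94830)) (tt N36591 D60290))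
theorem Q18591 : ∀ i, i < 18591 → P i := stepQ 18590 Q18590 (allL N18590 (tt N36514 (iv1 F94738)) (tt N22384 (iv0 F52963)) (tt N36516 (iv2 F94740)) (tt N12229 F300602) (tt N9160 F46212) (tt N36591 (iv5 F94836)) (tt N35474 (iv6 F92460)) (tt N9156 (iv7 D28645)))
theorem Q18592 : ∀ i, i < 18592 → P i := stepQ 18591 Q18591 (allL N18591 (tt N36592 D60291) (tt N36593 D60292) (tt N36413 (iv2 F94526)) (tt N12565 F46213) (tt N9161 F46214) (tt N36594 D60293) (tt N9157 (iv6 D28646)) (tt N35474 (iv7 F92461)))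
theorem Q18593 : ∀ i, i < 18593 → P i := stepQ 18592 Q18592 (allL N18592 (tt N36595 D60300) (tt N36418 (iv0 F184589)) (tt N34225 (iv2 F185368)) (tt N9158 (iv3 D28648)) (tt N34159 F86846) (tt N36596 D60303) (tt N36597 D60304) (tt N34229 (iv7 F185351)))
theorem Q18594 : ∀ i, i < 18594 → P i := stepQ 18593 Q18593 (allL N18593 (tt N36598 D60306) (tt N36528 (iv0 F131196)) (tt N36518 (iv2 F185344)) (tt N36599 D60308) (tt N9158 (iv4 D28649)) (tt N36600 D60309) (tt N36601 D60310) (tt N36519 (iv7 F185353)))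
theorem Q18595 : ∀ i, i < 18595 → P i := stepQ 18594 Q18594 (allL N18594 (tt N36602 D60312) (tt N36603 D60313) (tt N24299 F313531) (tt N36596 (iv3 F94847)) (tt N13876 (iv4 F315993)) (tt N9158 (iv5 D28650)) (tt N12343 F313532) (tt N36520 (iv7 F185355)))
theorem Q18596 : ∀ i, i < 18596 → P i := stepQ 18595 Q18595 (allL N18595 (tt N34951 F310561) (tt N36604 D60318) (tt N24300 F310562) (tt N36597 (iv3 F94848)) (tt N36601 (iv4 F94852)) (tt N13848 (iv5 F311223)) (tt N9158 (iv6 D28651)) (tt N36605 D60320))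
theorem Q18597 : ∀ i, i < 18597 → P i := stepQ 18596 Q18596 (allL N18596 (tt N22435 F305562) (tt N22438 F305563) (tt N36606 D60324) (tt N9159 (iv3 D28653)) (tt N36607 D60325) (tt N36608 D60326) (tt N21920 F305564) (tt N36517 (iv7 F185343)))
theorem Q18598 : ∀ i, i < 18598 → P i := stepQ 18597 Q18597 (allL N18597 (tt N36528 (iv1 F131197)) (tt N36598 F94855) (tt N36519 (iv2 F185352)) (tt N17238 F304311) (tt N9159 (iv4 D28654)) (tt N36609 D60329) (tt N17235 F304312) (tt N36518 (iv7 F185345)))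
theorem Q18599 : ∀ i, i < 18599 → P i := stepQ 18598 Q18598 (allL N18598 (tt N36603 (iv1 F94857)) (tt N36602 F94860) (tt N36520 (iv2 F185354)) (tt N36608 (iv3 F94866)) (tt N27404 (iv4 F316756)) (tt N9159 (iv5 D28655)) (tt N36610 D60332) (tt N24299 F314410))
theorem Q18600 : ∀ i, i < 18600 → P i := stepQ 18599 Q18599 (allL N18599 (tt N17468 F300708) (tt N23926 (iv0 F301114)) (tt N23924 (iv2 F301112)) (tt N21920 (iv3 F303510)) (tt N17235 (iv4 F301545)) (tt N36611 D60335) (tt N9159 (iv6 D28656)) (tt N23925 (iv7 F301113)))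
theorem Q18601 : ∀ i, i < 18601 → P i := stepQ 18600 Q18600 (allL N18600 (tt N35473 (iv1 F92456)) (tt N9161 (iv0 D28657)) (tt N35472 F201092) (tt N36612 D60338) (tt N18873 F312165) (tt N36613 D60340) (tt N36614 D60341) (tt N35471 F201093))
theorem Q18602 : ∀ i, i < 18602 → P i := stepQ 18601 Q18601 (allL N18601 (tt N9161 (iv1 D28658)) (tt N35473 F92458) (tt N35471 (iv2 F201090)) (tt N36615 D60343) (tt N18878 F312164) (tt N36616 D60345) (tt N36617 D60346) (tt N35472 (iv7 F201091)))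
theorem Q18603 : ∀ i, i < 18603 → P i := stepQ 18602 Q18602 (allL N18602 (tt N36618 D60347) (tt N36619 D60348) (tt N36414 (iv2 F94529)) (tt N9169 F46217) (tt N36620 D60349) (tt N9161 (iv5 D28659)) (tt N9163 F46218) (tt N35475 (iv7 F92464)))
theorem Q18604 : ∀ i, i < 18604 → P i := stepQ 18603 Q18603 (allL N18603 (tt N22095 F52477) (tt N22093 (iv0 F52473)) (tt N29769 (iv2 F77241)) (tt N9162 (iv3 D28661)) (tt N32538 F83094) (tt N36621 D60350) (tt N36432 (iv6 F94588)) (tt N29764 F77227))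
theorem Q18605 : ∀ i, i < 18605 → P i := stepQ 18604 Q18604 (allL N18604 (tt N36480 (iv1 F94686)) (tt N34388 F87432) (tt N36354 (iv2 F94424)) (tt N36621 (iv3 F94874)) (tt N36622 D60351) (tt N9162 (iv5 D28662)) (tt N24948 F311408) (tt N36353 (iv7 F94422)))
theorem Q18606 : ∀ i, i < 18606 → P i := stepQ 18605 Q18605 (allL N18605 (tt N36282 (iv1 F94285)) (tt N9163 (iv0 D28669)) (tt N36356 F94435) (tt N36623 D60353) (tt N36624 D60354) (tt N23386 F55769) (tt N36625 D60355) (tt N36355 F94431))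
theorem Q18607 : ∀ i, i < 18607 → P i := stepQ 18606 Q18606 (allL N18606 (tt N9163 (iv1 D28670)) (tt N36282 (iv0 F94284)) (tt N36355 F94430) (tt N33911 F86083) (tt N36626 D60356) (tt N23387 (iv5 F79155)) (tt N36627 D60357) (tt N36356 (iv7 F94433)))
theorem Q18608 : ∀ i, i < 18608 → P i := stepQ 18607 Q18607 (allL N18607 (tt N36628 D60358) (tt N36629 D60359) (tt N36415 (iv2 F94532)) (tt N36630 D60360) (tt N9163 (iv4 D28671)) (tt N36631 D60361) (tt N36620 (iv6 F94873)) (tt N36357 (iv7 F94437)))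
theorem Q18609 : ∀ i, i < 18609 → P i := stepQ 18608 Q18608 (allL N18608 (tt N29817 (iv1 F77391)) (tt N9164 (iv0 D28672)) (tt N22701 F308881) (tt N22438 (iv3 F305188)) (tt N15236 F308882) (tt N36368 (iv5 F130833)) (tt N9899 (iv6 F311033)) (tt N10619 (iv7 F110500)))
theorem Q18610 : ∀ i, i < 18610 → P i := stepQ 18609 Q18609 (allL N18609 (tt N22701 F308883) (tt N10619 (iv0 F109831)) (tt N9164 (iv2 D28674)) (tt N29812 (iv3 F77362)) (tt N21005 F308884) (tt N36632 D60373) (tt N36633 D60374) (tt N29817 (iv7 F77390)))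
theorem Q18611 : ∀ i, i < 18611 → P i := stepQ 18610 Q18610 (allL N18610 (tt N11153 F306995) (tt N21006 (iv0 F307048)) (tt N21005 (iv2 F307051)) (tt N12521 F46221) (tt N9164 (iv4 D28675)) (tt N20233 (iv5 F310924)) (tt N36634 D60378) (tt N20232 F308770))
theorem Q18612 : ∀ i, i < 18612 → P i := stepQ 18611 Q18611 (allL N18611 (tt N36635 D60379) (tt N36636 D60380) (tt N36632 (iv2 F94889)) (tt N9165 F46222) (tt N36637 D60381) (tt N9164 (iv5 D28676)) (tt N33835 F307290) (tt N29818 (iv7 F77397)))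
theorem Q18613 : ∀ i, i < 18613 → P i := stepQ 18612 Q18612 (allL N18612 (tt N22873 F307349) (tt N22877 F307350) (tt N36633 (iv2 F94890)) (tt N9166 F46223) (tt N36634 (iv4 F94894)) (tt N19111 (iv5 F110509)) (tt N9164 (iv6 D28677)) (tt N36638 D60385))
theorem Q18614 : ∀ i, i < 18614 → P i := stepQ 18613 Q18613 (allL N18613 (tt N9168 (iv1 F46225)) (tt N9165 (iv0 D28678)) (tt N21874 (iv2 F52082)) (tt N36639 D60386) (tt N22510 (iv4 F53271)) (tt N11980 F46224) (tt N20582 F316303) (tt N29816 (iv7 F77373)))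
theorem Q18615 : ∀ i, i < 18615 → P i := stepQ 18614 Q18614 (allL N18614 (tt N9165 (iv1 D28679)) (tt N9168 F46228) (tt N29816 F77375) (tt N36603 (iv3 F188353)) (tt N22511 (iv4 F53274)) (tt N21875 (iv5 F52087)) (tt N10329 F52090) (tt N21874 F52085))
theorem Q18616 : ∀ i, i < 18616 → P i := stepQ 18615 Q18615 (allL N18615 (tt N9166 (iv1 D28683)) (tt N23689 F56392) (tt N17473 F302836) (tt N36604 (iv3 F190683)) (tt N11970 F46229) (tt N36634 F307354) (tt N11969 (iv6 F46230)) (tt N10632 F46231))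
theorem Q18617 : ∀ i, i < 18617 → P i := stepQ 18616 Q18616 (allL N18616 (tt N17473 (iv1 F301084)) (tt N10632 (iv0 F46235)) (tt N23689 F56390) (tt N36638 (iv3 F94896)) (tt N12369 F46233) (tt N15339 F46234) (tt N17466 F298477) (tt N9166 (iv7 D28684)))
theorem Q18618 : ∀ i, i < 18618 → P i := stepQ 18617 Q18617 (allL N18617 (tt N9167 (iv1 D28686)) (tt N29812 F77366) (tt N29811 F184607) (tt N36595 (iv3 F131202)) (tt N36640 D60402) (tt N36372 (iv5 F184583)) (tt N12510 (iv6 F184584)) (tt N10553 F184574))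
theorem Q18619 : ∀ i, i < 18619 → P i := stepQ 18618 Q18618 (allL N18618 (tt N10553 (iv1 F184617)) (tt N29811 F77361) (tt N9167 (iv2 D28687)) (tt N29817 (iv3 F77389)) (tt N35006 (iv4 F304387)) (tt N36641 D60406) (tt N34998 F303913) (tt N29812 (iv7 F77363)))
theorem Q18620 : ∀ i, i < 18620 → P i := stepQ 18619 Q18619 (allL N18619 (tt N36642 D60412) (tt N36643 D60413) (tt N36641 (iv2 F94919)) (tt N9168 F46237) (tt N36644 D60414) (tt N9167 (iv5 D28689)) (tt N36645 D60415) (tt N29814 (iv7 F77370)))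
theorem Q18621 : ∀ i, i < 18621 → P i := stepQ 18620 Q18620 (allL N18620 (tt N34346 (iv1 F87282)) (tt N34345 (iv0 F87268)) (tt N29819 (iv2 F77399)) (tt N36646 D60420) (tt N9168 (iv4 D28691)) (tt N19442 (iv5 F314882)) (tt N34595 F313542) (tt N11500 F313543))
theorem Q18622 : ∀ i, i < 18622 → P i := stepQ 18621 Q18621 (allL N18621 (tt N20929 (iv1 F50175)) (tt N10309 (iv0 F46239)) (tt N20927 F49893) (tt N36645 (iv3 F94925)) (tt N34595 F313533) (tt N35000 F303923) (tt N9168 (iv6 D28692)) (tt N20928 (iv7 F49894)))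
theorem Q18623 : ∀ i, i < 18623 → P i := stepQ 18622 Q18622 (allL N18622 (tt N9169 (iv1 D28698)) (tt N12486 F46259) (tt N12656 F46262) (tt N30655 (iv3 F312657)) (tt N12470 (iv4 F46263)) (tt N11347 (iv5 F46261)) (tt N36647 D60428) (tt N12655 F46260))
theorem Q18624 : ∀ i, i < 18624 → P i := stepQ 18623 Q18623 (allL N18623 (tt N17948 F46266) (tt N17952 F46267) (tt N12657 F46264) (tt N36648 D60429) (tt N9169 (iv4 D28699)) (tt N36649 D60430) (tt N9172 F46265) (tt N25166 (iv7 F60388)))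
theorem Q18625 : ∀ i, i < 18625 → P i := stepQ 18624 Q18624 (allL N18624 (tt N36650 D60431) (tt N36651 D60432) (tt N22580 (iv2 F53351)) (tt N22783 (iv3 F54380)) (tt N34382 (iv4 F87423)) (tt N18961 (iv5 F46695)) (tt N9170 (iv6 D28700)) (tt N36652 D60433))
theorem Q18626 : ∀ i, i < 18626 → P i := stepQ 18625 Q18625 (allL N18625 (tt N10647 F50605) (tt N33582 (iv0 F85193)) (tt N10234 F46268) (tt N9171 (iv3 D28701)) (tt N36653 D60434) (tt N10227 F46269) (tt N36654 D60435) (tt N22579 (iv7 F53348)))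
theorem Q18627 : ∀ i, i < 18627 → P i := stepQ 18626 Q18626 (allL N18626 (tt N36655 D60436) (tt N18367 F319590) (tt N22581 (iv2 F53354)) (tt N36654 (iv3 F94953)) (tt N34384 (iv4 F87426)) (tt N22888 (iv5 F54596)) (tt N9171 (iv6 D28702)) (tt N36656 D60438))
theorem Q18628 : ∀ i, i < 18628 → P i := stepQ 18627 Q18627 (allL N18627 (tt N36657 D60439) (tt N36658 D60440) (tt N36659 D60441) (tt N9172 (iv3 D28703)) (tt N36630 (iv4 F94883)) (tt N36660 D60442) (tt N36648 (iv6 F94945)) (tt N36386 (iv7 F94469)))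
theorem Q18629 : ∀ i, i < 18629 → P i := stepQ 18628 Q18628 (allL N18628 (tt N11036 F46273) (tt N11033 F46274) (tt N18475 F46270) (tt N36660 (iv3 F94956)) (tt N11379 F46272) (tt N9172 (iv5 D28704)) (tt N36661 D60443) (tt N11378 F46271))
theorem Q18630 : ∀ i, i < 18630 → P i := stepQ 18629 Q18629 (allL N18629 (tt N11401 (iv1 F46279)) (tt N9173 (iv0 D28705)) (tt N11446 (iv2 F46278)) (tt N10680 F46275) (tt N32432 (iv4 F82831)) (tt N11394 F46276) (tt N10681 F46277) (tt N11394 F46280))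
theorem Q18631 : ∀ i, i < 18631 → P i := stepQ 18630 Q18630 (allL N18630 (tt N32977 (iv1 F83807)) (tt N11436 F46283) (tt N19401 (iv2 F47546)) (tt N36662 D60444) (tt N9173 (iv4 D28706)) (tt N16551 F46282) (tt N9291 F46281) (tt N21489 (iv7 F51380)))
theorem Q18632 : ∀ i, i < 18632 → P i := stepQ 18631 Q18631 (allL N18631 (tt N36663 D60445) (tt N11492 (iv0 F55638)) (tt N36664 D60446) (tt N9174 (iv3 D28707)) (tt N36662 (iv4 F94961)) (tt N11032 F46284) (tt N9488 F46285) (tt N22880 (iv7 F54569)))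
theorem Q18633 : ∀ i, i < 18633 → P i := stepQ 18632 Q18632 (allL N18632 (tt N36665 D60447) (tt N32613 (iv0 F83220)) (tt N16559 F46286) (tt N17203 F46287) (tt N36666 D60448) (tt N9175 (iv5 D28708)) (tt N36667 D60449) (tt N16555 F46288))
theorem Q18634 : ∀ i, i < 18634 → P i := stepQ 18633 Q18633 (allL N18633 (tt N11445 F46292) (tt N32432 (iv0 F82833)) (tt N16560 F46289) (tt N36668 D60450) (tt N9176 (iv4 D28709)) (tt N29925 F77617) (tt N10481 F46290) (tt N16557 F46291))
theorem Q18635 : ∀ i, i < 18635 → P i := stepQ 18634 Q18634 (allL N18634 (tt N10245 F46296) (tt N33508 F85001) (tt N33487 (iv2 F84922)) (tt N9178 (iv3 D28710)) (tt N36668 (iv4 F94989)) (tt N11035 F46293) (tt N10199 F46294) (tt N17346 F46295))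
theorem Q18636 : ∀ i, i < 18636 → P i := stepQ 18635 Q18635 (allL N18635 (tt N15407 (iv1 F46301)) (tt N9179 (iv0 D28711)) (tt N20145 (iv2 F48861)) (tt N14764 (iv3 F46302)) (tt N15055 F46300) (tt N15462 F46299) (tt N36669 D60451) (tt N14783 F46303))
theorem Q18637 : ∀ i, i < 18637 → P i := stepQ 18636 Q18636 (allL N18636 (tt N9179 (iv1 D28712)) (tt N15407 F46304) (tt N14783 (iv2 F46306)) (tt N19899 (iv3 F48558)) (tt N15056 (iv4 F46307)) (tt N15473 F46305) (tt N36670 D60452) (tt N20145 (iv7 F48862)))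
theorem Q18638 : ∀ i, i < 18638 → P i := stepQ 18637 Q18637 (allL N18637 (tt N16818 (iv1 F46309)) (tt N9180 (iv0 D28713)) (tt N18642 F46321) (tt N36671 D60453) (tt N9732 F46308) (tt N36672 D60454) (tt N36673 D60455) (tt N9845 (iv7 F46310)))
theorem Q18639 : ∀ i, i < 18639 → P i := stepQ 18638 Q18638 (allL N18638 (tt N9180 (iv1 D28714)) (tt N16818 F46311) (tt N9845 (iv2 F46313)) (tt N36674 D60456) (tt N9844 F46312) (tt N36675 D60457) (tt N36676 D60458) (tt N18642 (iv7 F46323)))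
theorem Q18640 : ∀ i, i < 18640 → P i := stepQ 18639 Q18639 (allL N18639 (tt N36677 D60459) (tt N36678 D60460) (tt N36679 D60461) (tt N9180 (iv3 D28715)) (tt N33295 (iv4 F84417)) (tt N36680 D60462) (tt N16118 F46314) (tt N20784 (iv7 F49609)))
theorem Q18641 : ∀ i, i < 18641 → P i := stepQ 18640 Q18640 (allL N18640 (tt N36681 D60463) (tt N36682 D60464) (tt N18644 (iv2 F46325)) (tt N36680 (iv3 F95012)) (tt N33532 F85065) (tt N9180 (iv5 D28716)) (tt N36683 D60465) (tt N20785 (iv7 F49610)))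
theorem Q18642 : ∀ i, i < 18642 → P i := stepQ 18641 Q18641 (allL N18641 (tt N15119 F46318) (tt N16588 F46319) (tt N16623 F46315) (tt N36684 D60466) (tt N9181 (iv4 D28717)) (tt N36685 D60467) (tt N16141 F46316) (tt N16622 F46317))
theorem Q18643 : ∀ i, i < 18643 → P i := stepQ 18642 Q18642 (allL N18642 (tt N10139 (iv1 F46322)) (tt N9182 (iv0 D28718)) (tt N18637 (iv2 F46321)) (tt N36133 (iv3 F93996)) (tt N16175 F46320) (tt N36686 D60468) (tt N36687 D60469) (tt N18638 F46323))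
theorem Q18644 : ∀ i, i < 18644 → P i := stepQ 18643 Q18643 (allL N18643 (tt N36688 D60470) (tt N36689 D60471) (tt N36690 D60472) (tt N9182 (iv3 D28719)) (tt N36684 (iv4 F95021)) (tt N36691 D60473) (tt N16146 F46324) (tt N33509 (iv7 F85003)))
theorem Q18645 : ∀ i, i < 18645 → P i := stepQ 18644 Q18644 (allL N18644 (tt N36692 D60474) (tt N20054 (iv0 F48773)) (tt N18640 F46325) (tt N36691 (iv3 F95038)) (tt N20819 F49649) (tt N9182 (iv5 D28720)) (tt N36693 D60475) (tt N33510 (iv7 F85005)))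
theorem Q18646 : ∀ i, i < 18646 → P i := stepQ 18645 Q18645 (allL N18645 (tt N9183 (iv1 D28721)) (tt N9184 F46326) (tt N9194 F46329) (tt N14982 F46330) (tt N36694 D60476) (tt N16063 (iv5 F46328)) (tt N19148 F46979) (tt N9193 F46327))
theorem Q18647 : ∀ i, i < 18647 → P i := stepQ 18646 Q18646 (allL N18646 (tt N30180 (iv1 F78157)) (tt N36695 D60477) (tt N9195 F46331) (tt N36696 D60478) (tt N9183 (iv4 D28722)) (tt N36697 D60479) (tt N35694 (iv6 F93123)) (tt N9201 F46332))
theorem Q18648 : ∀ i, i < 18648 → P i := stepQ 18647 Q18647 (allL N18647 (tt N36695 (iv1 F95050)) (tt N30180 (iv0 F78156)) (tt N9201 F46333) (tt N36698 D60480) (tt N9184 (iv4 D28723)) (tt N36699 D60481) (tt N36700 D60482) (tt N9195 F46334))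
theorem Q18649 : ∀ i, i < 18649 → P i := stepQ 18648 Q18648 (allL N18648 (tt N31505 (iv1 F80800)) (tt N18345 (iv0 F46336)) (tt N9202 F46335) (tt N30694 (iv3 F79242)) (tt N36700 (iv4 F95063)) (tt N20839 (iv5 F49671)) (tt N9184 (iv6 D28724)) (tt N31503 (iv7 F80791)))
theorem Q18650 : ∀ i, i < 18650 → P i := stepQ 18649 Q18649 (allL N18649 (tt N30116 (iv1 F78032)) (tt N9704 F46339) (tt N9205 F46337) (tt N36701 D60483) (tt N9185 (iv4 D28725)) (tt N36702 D60484) (tt N36703 D60485) (tt N9208 F46338))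
theorem Q18651 : ∀ i, i < 18651 → P i := stepQ 18650 Q18650 (allL N18650 (tt N19267 F168073) (tt N36704 D60487) (tt N9206 F46340) (tt N35922 (iv3 F93579)) (tt N36703 (iv4 F95069)) (tt N10150 F46341) (tt N9185 (iv6 D28726)) (tt N36705 D60488))
theorem Q18652 : ∀ i, i < 18652 → P i := stepQ 18651 Q18651 (allL N18651 (tt N9214 (iv1 F46345)) (tt N9186 (iv0 D28727)) (tt N9210 (iv2 F46343)) (tt N36706 D60489) (tt N9591 F46342) (tt N36707 D60490) (tt N36708 D60491) (tt N9211 (iv7 F46344)))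
theorem Q18653 : ∀ i, i < 18653 → P i := stepQ 18652 Q18652 (allL N18652 (tt N9186 (iv1 D28728)) (tt N9214 F46346) (tt N9211 (iv2 F46349)) (tt N36709 D60492) (tt N15038 F46348) (tt N36710 D60493) (tt N36711 D60494) (tt N9210 F46347))
theorem Q18654 : ∀ i, i < 18654 → P i := stepQ 18653 Q18653 (allL N18653 (tt N36712 D60495) (tt N36713 D60496) (tt N36714 D60497) (tt N9186 (iv3 D28729)) (tt N14996 F46350) (tt N36715 D60498) (tt N14996 F46351) (tt N36716 D60499))
theorem Q18655 : ∀ i, i < 18655 → P i := stepQ 18654 Q18654 (allL N18654 (tt N36717 D60500) (tt N36718 D60501) (tt N9213 F46352) (tt N36715 (iv3 F95094)) (tt N18724 (iv4 F46435)) (tt N9186 (iv5 D28730)) (tt N36719 D60502) (tt N18722 (iv7 F46433)))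
theorem Q18656 : ∀ i, i < 18656 → P i := stepQ 18655 Q18655 (allL N18655 (tt N9211 (iv1 F46355)) (tt N9210 F46356) (tt N9214 F46353) (tt N36716 (iv3 F95095)) (tt N9187 F46354) (tt N18722 (iv5 F46430)) (tt N36720 D60503) (tt N9186 (iv7 D28731)))
theorem Q18657 : ∀ i, i < 18657 → P i := stepQ 18656 Q18656 (allL N18656 (tt N19183 (iv1 F47019)) (tt N19182 F47018) (tt N9215 F46357) (tt N14999 F46358) (tt N36720 (iv4 F95110)) (tt N18656 F46359) (tt N9187 (iv6 D28732)) (tt N14999 F46360))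
theorem Q18658 : ∀ i, i < 18658 → P i := stepQ 18657 Q18657 (allL N18657 (tt N22674 (iv1 F53571)) (tt N30594 F78952) (tt N9632 F46361) (tt N18011 F46362) (tt N36721 D60504) (tt N9188 (iv5 D28733)) (tt N31434 (iv6 F80648)) (tt N9635 F46363))
theorem Q18659 : ∀ i, i < 18659 → P i := stepQ 18658 Q18658 (allL N18658 (tt N15367 (iv1 F46365)) (tt N9189 (iv0 D28734)) (tt N19566 (iv2 F47983)) (tt N9237 (iv3 F46366)) (tt N19685 (iv4 F48152)) (tt N9944 F46364) (tt N36722 D60505) (tt N19193 (iv7 F47048)))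
theorem Q18660 : ∀ i, i < 18660 → P i := stepQ 18659 Q18659 (allL N18659 (tt N9189 (iv1 D28735)) (tt N15367 F46367) (tt N19193 (iv2 F47046)) (tt N19139 (iv3 F46965)) (tt N19686 (iv4 F48155)) (tt N9947 (iv5 F46368)) (tt N36723 D60506) (tt N19566 (iv7 F47984)))
theorem Q18661 : ∀ i, i < 18661 → P i := stepQ 18660 Q18660 (allL N18660 (tt N18940 (iv1 F46676)) (tt N36724 D60507) (tt N30691 (iv2 F79232)) (tt N36725 D60508) (tt N9189 (iv4 D28736)) (tt N36726 D60509) (tt N36727 D60510) (tt N30693 (iv7 F79238)))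
theorem Q18662 : ∀ i, i < 18662 → P i := stepQ 18661 Q18661 (allL N18661 (tt N36728 D60511) (tt N36729 D60512) (tt N30692 (iv2 F79236)) (tt N9196 F46369) (tt N36727 (iv4 F95130)) (tt N31751 (iv5 F81277)) (tt N9189 (iv6 D28737)) (tt N36730 D60513))
theorem Q18663 : ∀ i, i < 18663 → P i := stepQ 18662 Q18662 (allL N18662 (tt N9191 (iv1 D28738)) (tt N9199 F46370) (tt N19541 F47934) (tt N9476 (iv3 F46372)) (tt N36695 (iv4 F95052)) (tt N15931 F46371) (tt N30055 F77903) (tt N18977 (iv7 F46714)))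
theorem Q18664 : ∀ i, i < 18664 → P i := stepQ 18663 Q18663 (allL N18663 (tt N18665 (iv1 F46374)) (tt N18667 (iv0 F46376)) (tt N19542 (iv2 F47936)) (tt N36731 D60514) (tt N9191 (iv4 D28739)) (tt N18720 (iv5 F46426)) (tt N36732 D60515) (tt N30111 (iv7 F78018)))
theorem Q18665 : ∀ i, i < 18665 → P i := stepQ 18664 Q18664 (allL N18664 (tt N32290 F82665) (tt N32288 (iv0 F82663)) (tt N19543 (iv2 F47939)) (tt N19922 (iv3 F48590)) (tt N36732 (iv4 F95132)) (tt N16206 F46373) (tt N9191 (iv6 D28740)) (tt N36733 D60516))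
theorem Q18666 : ∀ i, i < 18666 → P i := stepQ 18665 Q18665 (allL N18665 (tt N18683 (iv1 F46397)) (tt N18663 F46374) (tt N19204 (iv2 F47064)) (tt N36734 D60517) (tt N9193 (iv4 D28741)) (tt N36735 D60518) (tt N36736 D60519) (tt N36694 (iv7 F95047)))
theorem Q18667 : ∀ i, i < 18667 → P i := stepQ 18666 Q18666 (allL N18666 (tt N36737 D60520) (tt N36738 D60521) (tt N19205 (iv2 F47066)) (tt N19129 (iv3 F46950)) (tt N36736 (iv4 F95136)) (tt N18019 F46375) (tt N9193 (iv6 D28742)) (tt N36739 D60522))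
theorem Q18668 : ∀ i, i < 18668 → P i := stepQ 18667 Q18667 (allL N18667 (tt N18663 F46376) (tt N18683 (iv0 F46396)) (tt N36694 (iv2 F95046)) (tt N36740 D60523) (tt N9194 (iv4 D28743)) (tt N36741 D60524) (tt N36742 D60525) (tt N19204 (iv7 F47065)))
theorem Q18669 : ∀ i, i < 18669 → P i := stepQ 18668 Q18668 (allL N18668 (tt N14986 F46379) (tt N19150 F46984) (tt N19148 (iv2 F46980)) (tt N9224 F46377) (tt N36742 (iv4 F95144)) (tt N14793 F46378) (tt N9194 (iv6 D28744)) (tt N19147 (iv7 F77803)))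
theorem Q18670 : ∀ i, i < 18670 → P i := stepQ 18669 Q18669 (allL N18669 (tt N9201 (iv1 F46380)) (tt N9195 (iv0 D28745)) (tt N30180 (iv2 F78154)) (tt N36743 D60526) (tt N18977 F46715) (tt N36744 D60527) (tt N36745 D60528) (tt N36695 (iv7 F95051)))
theorem Q18671 : ∀ i, i < 18671 → P i := stepQ 18670 Q18670 (allL N18670 (tt N9195 (iv1 D28746)) (tt N9201 F46381) (tt N36695 F95053) (tt N36746 D60529) (tt N19541 F47935) (tt N36747 D60530) (tt N36748 D60531) (tt N30180 (iv7 F78155)))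
theorem Q18672 : ∀ i, i < 18672 → P i := stepQ 18671 Q18671 (allL N18671 (tt N36749 D60532) (tt N36750 D60533) (tt N36751 D60534) (tt N9195 (iv3 D28747)) (tt N36725 (iv4 F95124)) (tt N36752 D60535) (tt N36753 D60536) (tt N36698 (iv7 F95058)))
theorem Q18673 : ∀ i, i < 18673 → P i := stepQ 18672 Q18672 (allL N18672 (tt N36754 D60537) (tt N30115 (iv0 F78027)) (tt N36697 (iv2 F95055)) (tt N36752 (iv3 F95152)) (tt N18721 F46429) (tt N9195 (iv5 D28748)) (tt N36755 D60538) (tt N36699 (iv7 F95060)))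
theorem Q18674 : ∀ i, i < 18674 → P i := stepQ 18673 Q18673 (allL N18673 (tt N32407 (iv1 F332768)) (tt N36756 D60540) (tt N35694 (iv2 F93122)) (tt N36753 (iv3 F95153)) (tt N9196 F46382) (tt N36757 D60541) (tt N9195 (iv6 D28749)) (tt N36758 D60542))
theorem Q18675 : ∀ i, i < 18675 → P i := stepQ 18674 Q18674 (allL N18674 (tt N35695 F93129) (tt N9196 (iv0 D28750)) (tt N19219 F164054) (tt N19136 (iv3 F164079)) (tt N32285 F328355) (tt N29522 F76591) (tt N19136 (iv6 F76592)) (tt N32410 (iv7 F161437)))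
theorem Q18676 : ∀ i, i < 18676 → P i := stepQ 18675 Q18675 (allL N18675 (tt N9196 (iv1 D28751)) (tt N35695 F93128) (tt N32410 (iv2 F161436)) (tt N9231 (iv3 F164087)) (tt N36759 D60548) (tt N16059 (iv5 F164083)) (tt N36760 D60549) (tt N19219 F164068))
theorem Q18677 : ∀ i, i < 18677 → P i := stepQ 18676 Q18676 (allL N18676 (tt N32410 (iv1 F82778)) (tt N19219 F164066) (tt N35695 (iv2 F93124)) (tt N36730 (iv3 F95131)) (tt N36758 (iv4 F95158)) (tt N35585 (iv5 F92927)) (tt N31503 F80794) (tt N9196 (iv7 D28752)))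
theorem Q18678 : ∀ i, i < 18678 → P i := stepQ 18677 Q18677 (allL N18677 (tt N15199 (iv1 F46383)) (tt N9197 (iv0 D28753)) (tt N19223 (iv2 F47118)) (tt N19125 F47119) (tt N19413 (iv4 F47575)) (tt N29627 (iv5 F76851)) (tt N36761 D60550) (tt N35918 (iv7 F93561)))
theorem Q18679 : ∀ i, i < 18679 → P i := stepQ 18678 Q18678 (allL N18678 (tt N9197 (iv1 D28754)) (tt N15199 F46384) (tt N35918 F93559) (tt N9216 (iv3 F46386)) (tt N19414 (iv4 F47581)) (tt N16051 F46385) (tt N36762 D60551) (tt N19223 (iv7 F47114)))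
theorem Q18680 : ∀ i, i < 18680 → P i := stepQ 18679 Q18679 (allL N18679 (tt N18930 F46948) (tt N18928 (iv0 F46665)) (tt N35920 (iv2 F93572)) (tt N32414 (iv3 F328047)) (tt N9197 (iv4 D28755)) (tt N33034 (iv5 F83937)) (tt N32413 F327577) (tt N35919 (iv7 F93564)))
theorem Q18681 : ∀ i, i < 18681 → P i := stepQ 18680 Q18680 (allL N18680 (tt N36763 D60554) (tt N36764 D60555) (tt N35921 (iv2 F93577)) (tt N9202 F46387) (tt N32413 F327576) (tt N36765 D60556) (tt N9197 (iv6 D28756)) (tt N36766 D60557))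
theorem Q18682 : ∀ i, i < 18682 → P i := stepQ 18681 Q18681 (allL N18681 (tt N18274 (iv1 F46390)) (tt N9198 (iv0 D28757)) (tt N18275 (iv2 F46389)) (tt N31241 F80252) (tt N16192 F46388) (tt N18014 F46392) (tt N30448 F78583) (tt N16187 F46391))
theorem Q18683 : ∀ i, i < 18683 → P i := stepQ 18682 Q18682 (allL N18682 (tt N19671 (iv1 F48126)) (tt N15269 F46395) (tt N31293 (iv2 F80346)) (tt N9203 F46394) (tt N19933 (iv4 F48609)) (tt N9198 (iv5 D28758)) (tt N36765 (iv6 F95173)) (tt N20840 (iv7 F49673)))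
theorem Q18684 : ∀ i, i < 18684 → P i := stepQ 18683 Q18683 (allL N18683 (tt N18667 F46396) (tt N18665 F46397) (tt N30111 (iv2 F78017)) (tt N36767 D60558) (tt N9199 (iv4 D28759)) (tt N18721 (iv5 F46428)) (tt N36768 D60559) (tt N19542 (iv7 F47937)))
theorem Q18685 : ∀ i, i < 18685 → P i := stepQ 18684 Q18684 (allL N18684 (tt N30288 (iv1 F99522)) (tt N29942 (iv0 F77657)) (tt N30112 (iv2 F78020)) (tt N19533 (iv3 F47913)) (tt N36768 (iv4 F95175)) (tt N36769 D60561) (tt N9199 (iv6 D28760)) (tt N30286 (iv7 F78294)))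
theorem Q18686 : ∀ i, i < 18686 → P i := stepQ 18685 Q18685 (allL N18685 (tt N11069 F46401) (tt N14941 F46402) (tt N15061 F46398) (tt N9945 F46399) (tt N30640 (iv4 F79042)) (tt N9200 (iv5 D28761)) (tt N36769 (iv6 F95178)) (tt N15062 F46400))
theorem Q18687 : ∀ i, i < 18687 → P i := stepQ 18686 Q18686 (allL N18686 (tt N36770 D60562) (tt N36771 D60563) (tt N36772 D60564) (tt N9201 (iv3 D28762)) (tt N32414 F328466) (tt N36773 D60565) (tt N32053 F328467) (tt N36696 (iv7 F95054)))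
theorem Q18688 : ∀ i, i < 18688 → P i := stepQ 18687 Q18687 (allL N18687 (tt N30115 (iv1 F78028)) (tt N36754 F95156) (tt N36699 (iv2 F95059)) (tt N36773 (iv3 F95180)) (tt N18720 F46427) (tt N9201 (iv5 D28763)) (tt N36774 D60567) (tt N36697 (iv7 F95056)))
theorem Q18689 : ∀ i, i < 18689 → P i := stepQ 18688 Q18688 (allL N18688 (tt N36775 D60568) (tt N30287 (iv0 F96511)) (tt N36700 (iv2 F95062)) (tt N32053 F328465) (tt N9202 F46403) (tt N32052 (iv5 F328854)) (tt N9201 (iv6 D28764)) (tt N36776 D60571))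
theorem Q18690 : ∀ i, i < 18690 → P i := stepQ 18689 Q18689 (allL N18689 (tt N31503 (iv1 F80790)) (tt N9202 (iv0 D28765)) (tt N31505 (iv2 F80796)) (tt N9246 F80787) (tt N36777 D60572) (tt N18346 F80788) (tt N36778 D60573) (tt N18345 F80789))
theorem Q18691 : ∀ i, i < 18691 → P i := stepQ 18690 Q18690 (allL N18690 (tt N36779 D60574) (tt N36780 D60575) (tt N20839 (iv2 F49670)) (tt N36765 (iv3 F95172)) (tt N36781 D60576) (tt N9202 (iv5 D28766)) (tt N9203 F46404) (tt N30394 (iv7 F78455)))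
theorem Q18692 : ∀ i, i < 18692 → P i := stepQ 18691 Q18691 (allL N18691 (tt N18345 (iv1 F46405)) (tt N31505 F80799) (tt N31503 (iv2 F80793)) (tt N36766 (iv3 F95174)) (tt N36776 (iv4 F95182)) (tt N30394 (iv5 F78456)) (tt N35695 (iv6 F93126)) (tt N9202 (iv7 D28767)))
theorem Q18693 : ∀ i, i < 18693 → P i := stepQ 18692 Q18692 (allL N18692 (tt N15069 F46406) (tt N15063 F46407) (tt N20838 (iv2 F49669)) (tt N36782 D60577) (tt N9203 (iv4 D28768)) (tt N36783 D60578) (tt N36781 (iv6 F95192)) (tt N20842 (iv7 F49682)))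
theorem Q18694 : ∀ i, i < 18694 → P i := stepQ 18693 Q18693 (allL N18693 (tt N9658 F46409) (tt N9628 (iv0 F46410)) (tt N9654 F46411) (tt N36784 D60579) (tt N9204 (iv4 D28769)) (tt N36785 D60580) (tt N35015 (iv6 F326579)) (tt N9655 F46408))
theorem Q18695 : ∀ i, i < 18695 → P i := stepQ 18694 Q18694 (allL N18694 (tt N36786 D60582) (tt N36787 D60583) (tt N30696 (iv2 F79249)) (tt N9206 F46413) (tt N35015 F327316) (tt N30825 (iv5 F79554)) (tt N9204 (iv6 D28770)) (tt N36788 D60584))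
theorem Q18696 : ∀ i, i < 18696 → P i := stepQ 18695 Q18695 (allL N18695 (tt N9208 (iv1 F46415)) (tt N9205 (iv0 D28771)) (tt N30116 (iv2 F78029)) (tt N36789 D60585) (tt N9705 F46414) (tt N36754 (iv5 F95154)) (tt N36790 D60586) (tt N9704 F46416))
theorem Q18697 : ∀ i, i < 18697 → P i := stepQ 18696 Q18696 (allL N18696 (tt N36791 D60587) (tt N36792 D60588) (tt N36793 D60589) (tt N9205 (iv3 D28772)) (tt N36784 (iv4 F95195)) (tt N36794 D60590) (tt N36795 D60591) (tt N35630 (iv7 F93022)))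
theorem Q18698 : ∀ i, i < 18698 → P i := stepQ 18697 Q18697 (allL N18697 (tt N36796 D60592) (tt N36797 D60593) (tt N36702 (iv2 F95066)) (tt N36794 (iv3 F95207)) (tt N18713 (iv4 F46421)) (tt N9205 (iv5 D28773)) (tt N36798 D60594) (tt N35631 (iv7 F93024)))
theorem Q18699 : ∀ i, i < 18699 → P i := stepQ 18698 Q18698 (allL N18698 (tt N36799 D60595) (tt N36800 D60596) (tt N36703 (iv2 F95068)) (tt N36795 (iv3 F95208)) (tt N9206 F46417) (tt N36801 D60597) (tt N9205 (iv6 D28774)) (tt N36802 D60598))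
theorem Q18700 : ∀ i, i < 18700 → P i := stepQ 18699 Q18699 (allL N18699 (tt N36705 F95077) (tt N9206 (iv0 D28775)) (tt N19267 (iv2 F168051)) (tt N19157 (iv3 F168066)) (tt N36803 D60601) (tt N36804 D60602) (tt N19165 F78377) (tt N36704 (iv7 F103372)))
theorem Q18701 : ∀ i, i < 18701 → P i := stepQ 18700 Q18700 (allL N18700 (tt N9206 (iv1 D28776)) (tt N36705 F95076) (tt N36704 (iv2 F103371)) (tt N9256 (iv3 F168083)) (tt N36805 D60605) (tt N36806 D60606) (tt N36807 D60607) (tt N19267 F168071))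
theorem Q18702 : ∀ i, i < 18702 → P i := stepQ 18701 Q18701 (allL N18701 (tt N36704 (iv1 F95072)) (tt N19267 F168072) (tt N36705 (iv2 F95073)) (tt N36788 (iv3 F95202)) (tt N36802 (iv4 F95219)) (tt N22769 F53921) (tt N35629 (iv6 F93018)) (tt N9206 (iv7 D28777)))
theorem Q18703 : ∀ i, i < 18703 → P i := stepQ 18702 Q18702 (allL N18702 (tt N36808 D60608) (tt N36809 D60609) (tt N35923 (iv2 F93582)) (tt N9209 F46418) (tt N33027 (iv4 F83926)) (tt N35569 (iv5 F92875)) (tt N9207 (iv6 D28778)) (tt N36810 D60610))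
theorem Q18704 : ∀ i, i < 18704 → P i := stepQ 18703 Q18703 (allL N18703 (tt N36811 D60611) (tt N36812 D60612) (tt N36813 D60613) (tt N9208 (iv3 D28779)) (tt N33025 (iv4 F83920)) (tt N36814 D60614) (tt N36815 D60615) (tt N36701 (iv7 F95065)))
theorem Q18705 : ∀ i, i < 18705 → P i := stepQ 18704 Q18704 (allL N18704 (tt N36797 (iv1 F95214)) (tt N36796 F95211) (tt N35631 (iv2 F93023)) (tt N36814 (iv3 F95225)) (tt N18710 (iv4 F46420)) (tt N9208 (iv5 D28780)) (tt N36816 D60616) (tt N36702 (iv7 F95067)))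
theorem Q18706 : ∀ i, i < 18706 → P i := stepQ 18705 Q18705 (allL N18705 (tt N36817 D60617) (tt N36818 D60618) (tt N35628 (iv2 F93014)) (tt N36815 (iv3 F95226)) (tt N9209 F46419) (tt N36819 D60619) (tt N9208 (iv6 D28781)) (tt N36820 D60620))
theorem Q18707 : ∀ i, i < 18707 → P i := stepQ 18706 Q18706 (allL N18706 (tt N35629 F93020) (tt N9209 (iv0 D28782)) (tt N35627 (iv2 F100250)) (tt N9264 (iv3 F100187)) (tt N36821 D60623) (tt N18166 F77811) (tt N36822 D60624) (tt N19290 (iv7 F100183)))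
theorem Q18708 : ∀ i, i < 18708 → P i := stepQ 18707 Q18707 (allL N18707 (tt N9209 (iv1 D28783)) (tt N35629 F93019) (tt N19290 F100195) (tt N19165 F168036) (tt N36823 D60627) (tt N18167 (iv5 F78434)) (tt N19157 (iv6 F78436)) (tt N35627 (iv7 F100252)))
theorem Q18709 : ∀ i, i < 18709 → P i := stepQ 18708 Q18708 (allL N18708 (tt N19290 F100249) (tt N35627 (iv0 F93009)) (tt N35629 (iv2 F93016)) (tt N36810 (iv3 F95224)) (tt N36820 (iv4 F95227)) (tt N32030 (iv5 F164059)) (tt N36705 (iv6 F95075)) (tt N9209 (iv7 D28784)))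
theorem Q18710 : ∀ i, i < 18710 → P i := stepQ 18709 Q18709 (allL N18709 (tt N36824 D60628) (tt N36825 D60629) (tt N36826 D60630) (tt N9210 (iv3 D28785)) (tt N36827 D60631) (tt N36828 D60632) (tt N36829 D60633) (tt N36709 (iv7 F95085)))
theorem Q18711 : ∀ i, i < 18711 → P i := stepQ 18710 Q18710 (allL N18710 (tt N36830 D60634) (tt N36831 D60635) (tt N36707 (iv2 F95080)) (tt N36828 (iv3 F95236)) (tt N18704 F46420) (tt N9210 (iv5 D28786)) (tt N36832 D60636) (tt N36710 (iv7 F95088)))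
theorem Q18712 : ∀ i, i < 18712 → P i := stepQ 18711 Q18711 (allL N18711 (tt N36803 (iv1 F168147)) (tt N36805 (iv0 F112220)) (tt N36708 (iv2 F95083)) (tt N36829 (iv3 F95237)) (tt N19821 (iv4 F48368)) (tt N36833 D60639) (tt N9210 (iv6 D28787)) (tt N36834 D60640))
theorem Q18713 : ∀ i, i < 18713 → P i := stepQ 18712 Q18712 (allL N18712 (tt N36835 D60641) (tt N36836 D60642) (tt N36837 D60643) (tt N9211 (iv3 D28788)) (tt N30866 (iv4 F79602)) (tt N36838 D60644) (tt N36839 D60645) (tt N36706 (iv7 F95079)))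
theorem Q18714 : ∀ i, i < 18714 → P i := stepQ 18713 Q18713 (allL N18713 (tt N36831 (iv1 F95242)) (tt N36830 F95239) (tt N36710 (iv2 F95086)) (tt N36838 (iv3 F95248)) (tt N18697 F46421) (tt N9211 (iv5 D28789)) (tt N36840 D60646) (tt N36707 (iv7 F95081)))
theorem Q18715 : ∀ i, i < 18715 → P i := stepQ 18714 Q18714 (allL N18714 (tt N36821 (iv1 F163888)) (tt N36823 (iv0 F168640)) (tt N36711 (iv2 F95089)) (tt N36839 (iv3 F95249)) (tt N19822 (iv4 F48371)) (tt N36841 D60649) (tt N9211 (iv6 D28790)) (tt N36842 D60650))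
theorem Q18716 : ∀ i, i < 18716 → P i := stepQ 18715 Q18715 (allL N18715 (tt N36843 D60651) (tt N9212 (iv0 D28791)) (tt N36844 D60652) (tt N36845 D60653) (tt N36846 D60654) (tt N36847 D60655) (tt N36848 D60656) (tt N36849 D60657))
theorem Q18717 : ∀ i, i < 18717 → P i := stepQ 18716 Q18716 (allL N18716 (tt N9212 (iv1 D28792)) (tt N36843 F95254) (tt N36849 (iv2 F95256)) (tt N36850 D60658) (tt N36851 D60659) (tt N36852 D60660) (tt N36853 D60661) (tt N36844 F95255))
theorem Q18718 : ∀ i, i < 18718 → P i := stepQ 18717 Q18717 (allL N18717 (tt N36844 F207219) (tt N36849 (iv0 F207220)) (tt N9212 (iv2 D28793)) (tt N36714 (iv3 F95091)) (tt N9275 F46422) (tt N36854 D60664) (tt N19175 (iv6 F47005)) (tt N36843 (iv7 F95253)))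
theorem Q18719 : ∀ i, i < 18719 → P i := stepQ 18718 Q18718 (allL N18718 (tt N36855 D60665) (tt N36856 D60666) (tt N36854 (iv2 F95261)) (tt N9213 F46423) (tt N36857 D60667) (tt N9212 (iv5 D28794)) (tt N36858 D60668) (tt N36859 D60669))
theorem Q18720 : ∀ i, i < 18720 → P i := stepQ 18719 Q18719 (allL N18719 (tt N36849 (iv1 F207221)) (tt N36844 F207218) (tt N36843 F95251) (tt N9214 F46424) (tt N9277 F46425) (tt N36859 (iv5 F95264)) (tt N36860 D60670) (tt N9212 (iv7 D28795)))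
theorem Q18721 : ∀ i, i < 18721 → P i := stepQ 18720 Q18720 (allL N18720 (tt N18722 (iv1 F46432)) (tt N9213 (iv0 D28796)) (tt N36717 (iv2 F95100)) (tt N36861 D60671) (tt N18687 (iv4 F46427)) (tt N18663 F46426) (tt N36862 D60672) (tt N36718 (iv7 F95103)))
theorem Q18722 : ∀ i, i < 18722 → P i := stepQ 18721 Q18721 (allL N18721 (tt N9213 (iv1 D28797)) (tt N18722 (iv0 F46431)) (tt N36718 F95106) (tt N36863 D60673) (tt N18672 (iv4 F46429)) (tt N18683 F46428) (tt N36864 D60674) (tt N36717 (iv7 F95101)))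
theorem Q18723 : ∀ i, i < 18723 → P i := stepQ 18722 Q18722 (allL N18722 (tt N18721 F46431) (tt N18720 F46432) (tt N18724 (iv2 F46434)) (tt N36865 D60675) (tt N9213 (iv4 D28798)) (tt N18655 F46430) (tt N36866 D60676) (tt N18654 F46433))
theorem Q18724 : ∀ i, i < 18724 → P i := stepQ 18723 Q18723 (allL N18723 (tt N36867 D60677) (tt N36868 D60678) (tt N36719 (iv2 F95107)) (tt N36858 (iv3 F95262)) (tt N36866 (iv4 F95273)) (tt N19180 (iv5 F47015)) (tt N9213 (iv6 D28799)) (tt N36869 D60679))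
theorem Q18725 : ∀ i, i < 18725 → P i := stepQ 18724 Q18724 (allL N18724 (tt N36718 (iv1 F95102)) (tt N36717 F95098) (tt N18722 F46434) (tt N36859 (iv3 F95263)) (tt N18654 F46435) (tt N9214 F46436) (tt N36870 D60680) (tt N9213 (iv7 D28800)))
theorem Q18726 : ∀ i, i < 18726 → P i := stepQ 18725 Q18725 (allL N18725 (tt N36871 D60681) (tt N36872 D60682) (tt N36720 (iv2 F95109)) (tt N36860 (iv3 F95265)) (tt N9215 F46437) (tt N36873 D60683) (tt N9214 (iv6 D28801)) (tt N19181 (iv7 F47017)))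
theorem Q18727 : ∀ i, i < 18727 → P i := stepQ 18726 Q18726 (allL N18726 (tt N14999 (iv1 F46438)) (tt N9215 (iv0 D28802)) (tt N19183 F103552) (tt N36874 D60685) (tt N36875 D60686) (tt N36876 D60687) (tt N36877 D60688) (tt N19182 (iv7 F103555)))
theorem Q18728 : ∀ i, i < 18728 → P i := stepQ 18727 Q18727 (allL N18727 (tt N9215 (iv1 D28803)) (tt N14999 F46439) (tt N19182 (iv2 F103554)) (tt N32533 F328642) (tt N32556 (iv4 F329052)) (tt N36878 D60692) (tt N32531 F328643) (tt N19183 F103553))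
theorem Q18729 : ∀ i, i < 18729 → P i := stepQ 18728 Q18728 (allL N18728 (tt N19693 (iv1 F48161)) (tt N19786 (iv0 F48311)) (tt N19225 (iv2 F47122)) (tt N36879 D60693) (tt N9216 (iv4 D28804)) (tt N36880 D60694) (tt N36881 D60695) (tt N19224 (iv7 F47121)))
theorem Q18730 : ∀ i, i < 18730 → P i := stepQ 18729 Q18729 (allL N18729 (tt N36882 D60696) (tt N36883 D60697) (tt N19226 (iv2 F47124)) (tt N36762 (iv3 F95164)) (tt N36881 (iv4 F95285)) (tt N20866 (iv5 F49730)) (tt N9216 (iv6 D28805)) (tt N36884 D60698))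
theorem Q18731 : ∀ i, i < 18731 → P i := stepQ 18730 Q18730 (allL N18730 (tt N15723 (iv1 F46441)) (tt N11095 F46442) (tt N19125 F46942) (tt N9217 (iv3 D28806)) (tt N36885 D60699) (tt N16053 F46440) (tt N31426 (iv6 F80640)) (tt N19124 F46940))
theorem Q18732 : ∀ i, i < 18732 → P i := stepQ 18731 Q18731 (allL N18731 (tt N19786 (iv1 F48310)) (tt N19693 F48162) (tt N19224 (iv2 F47120)) (tt N36886 D60700) (tt N9217 (iv4 D28807)) (tt N36887 D60701) (tt N36888 D60702) (tt N19225 (iv7 F47123)))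
theorem Q18733 : ∀ i, i < 18733 → P i := stepQ 18732 Q18732 (allL N18732 (tt N9239 F46445) (tt N36889 D60703) (tt N18313 F46443) (tt N31426 (iv3 F80639)) (tt N36888 (iv4 F95294)) (tt N18263 F46444) (tt N9217 (iv6 D28808)) (tt N36890 D60704))
theorem Q18734 : ∀ i, i < 18734 → P i := stepQ 18733 Q18733 (allL N18733 (tt N18248 (iv1 F46446)) (tt N9218 (iv0 D28809)) (tt N19228 (iv2 F47371)) (tt N36891 D60705) (tt N19776 (iv4 F48278)) (tt N36892 D60706) (tt N36893 D60707) (tt N19227 F47372))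
theorem Q18735 : ∀ i, i < 18735 → P i := stepQ 18734 Q18734 (allL N18734 (tt N9218 (iv1 D28810)) (tt N18248 F46447) (tt N19227 F47370) (tt N36894 D60708) (tt N18975 (iv4 F46710)) (tt N36895 D60709) (tt N36896 D60710) (tt N19228 (iv7 F47367)))
theorem Q18736 : ∀ i, i < 18736 → P i := stepQ 18735 Q18735 (allL N18735 (tt N36897 D60711) (tt N36898 D60712) (tt N36899 D60713) (tt N9218 (iv3 D28811)) (tt N9227 F46448) (tt N36900 D60714) (tt N36901 D60715) (tt N19229 (iv7 F47129)))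
theorem Q18737 : ∀ i, i < 18737 → P i := stepQ 18736 Q18736 (allL N18736 (tt N19851 F48436) (tt N19784 (iv0 F48301)) (tt N35934 (iv2 F93606)) (tt N36900 (iv3 F95323)) (tt N19827 (iv4 F48381)) (tt N9218 (iv5 D28812)) (tt N36902 D60716) (tt N19230 (iv7 F47130)))
theorem Q18738 : ∀ i, i < 18738 → P i := stepQ 18737 Q18737 (allL N18737 (tt N36903 D60717) (tt N36904 D60718) (tt N35935 (iv2 F93610)) (tt N36901 (iv3 F95324)) (tt N9219 F46449) (tt N36905 D60719) (tt N9218 (iv6 D28813)) (tt N36906 D60720))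
theorem Q18739 : ∀ i, i < 18739 → P i := stepQ 18738 Q18738 (allL N18738 (tt N35936 (iv1 F93616)) (tt N9219 (iv0 D28814)) (tt N31291 (iv2 F170644)) (tt N36907 D60722) (tt N36908 D60723) (tt N31255 F80288) (tt N19201 (iv6 F80289)) (tt N31288 (iv7 F170654)))
theorem Q18740 : ∀ i, i < 18740 → P i := stepQ 18739 Q18739 (allL N18739 (tt N9219 (iv1 D28815)) (tt N35936 F93615) (tt N31288 (iv2 F170653)) (tt N36909 D60725) (tt N36910 D60726) (tt N31254 (iv5 F80286)) (tt N36911 D60727) (tt N31291 (iv7 F170645)))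
theorem Q18741 : ∀ i, i < 18741 → P i := stepQ 18740 Q18740 (allL N18740 (tt N31288 (iv1 F80343)) (tt N31291 F93614) (tt N35936 (iv2 F93612)) (tt N9232 F46450) (tt N36906 (iv4 F95326)) (tt N11667 (iv5 F324972)) (tt N19234 (iv6 F47135)) (tt N9219 (iv7 D28816)))
theorem Q18742 : ∀ i, i < 18742 → P i := stepQ 18741 Q18741 (allL N18741 (tt N15008 F46452) (tt N15002 F46453) (tt N19128 (iv2 F46945)) (tt N36912 D60728) (tt N9220 (iv4 D28817)) (tt N36913 D60729) (tt N36914 D60730) (tt N19130 (iv7 F46952)))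
theorem Q18743 : ∀ i, i < 18743 → P i := stepQ 18742 Q18742 (allL N18742 (tt N36915 D60731) (tt N36916 D60732) (tt N19129 (iv2 F46949)) (tt N9222 F46454) (tt N36914 (iv4 F95333)) (tt N11145 F46455) (tt N9220 (iv6 D28818)) (tt N36778 (iv7 F95189)))
theorem Q18744 : ∀ i, i < 18744 → P i := stepQ 18743 Q18743 (allL N18743 (tt N36917 D60733) (tt N36918 D60734) (tt N36919 D60735) (tt N9221 (iv3 D28819)) (tt N36912 (iv4 F95329)) (tt N36920 D60736) (tt N36921 D60737) (tt N19211 (iv7 F47079)))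
theorem Q18745 : ∀ i, i < 18745 → P i := stepQ 18744 Q18744 (allL N18744 (tt N9460 F46457) (tt N9463 F46458) (tt N18856 F46584) (tt N36920 (iv3 F95335)) (tt N9311 F46456) (tt N9221 (iv5 D28820)) (tt N36922 D60738) (tt N18855 F46579))
theorem Q18746 : ∀ i, i < 18746 → P i := stepQ 18745 Q18745 (allL N18745 (tt N36923 D60739) (tt N36924 D60740) (tt N19207 (iv2 F47070)) (tt N36921 (iv3 F95336)) (tt N9222 F46459) (tt N36925 D60741) (tt N9221 (iv6 D28821)) (tt N36926 D60742))
theorem Q18747 : ∀ i, i < 18747 → P i := stepQ 18746 Q18746 (allL N18746 (tt N19210 F47078) (tt N9222 (iv0 D28822)) (tt N19208 F76936) (tt N36927 D60743) (tt N36928 D60744) (tt N18350 F46460) (tt N18896 (iv6 F46610)) (tt N19209 (iv7 F76963)))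
theorem Q18748 : ∀ i, i < 18748 → P i := stepQ 18747 Q18747 (allL N18747 (tt N9222 (iv1 D28823)) (tt N19210 F47077) (tt N19209 F76965) (tt N36883 (iv3 F103859)) (tt N36929 D60746) (tt N20894 (iv5 F49823)) (tt N19209 F49826) (tt N19208 F76934))
theorem Q18749 : ∀ i, i < 18749 → P i := stepQ 18748 Q18748 (allL N18748 (tt N19209 (iv1 F47072)) (tt N19208 F47076) (tt N19210 (iv2 F47073)) (tt N36778 (iv3 F95187)) (tt N36926 (iv4 F95340)) (tt N11149 F46461) (tt N9246 F46462) (tt N9222 (iv7 D28824)))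
theorem Q18750 : ∀ i, i < 18750 → P i := stepQ 18749 Q18749 (allL N18749 (tt N36930 D60747) (tt N36931 D60748) (tt N36932 D60749) (tt N9223 (iv3 D28825)) (tt N36740 (iv4 F95140)) (tt N36933 D60750) (tt N36934 D60751) (tt N19206 (iv7 F47069)))
theorem Q18751 : ∀ i, i < 18751 → P i := stepQ 18750 Q18750 (allL N18750 (tt N9463 F46464) (tt N9460 F46465) (tt N18855 F46578) (tt N36933 (iv3 F95344)) (tt N9309 F46463) (tt N9223 (iv5 D28826)) (tt N24716 F306093) (tt N18856 (iv7 F46581)))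
theorem Q18752 : ∀ i, i < 18752 → P i := stepQ 18751 Q18751 (allL N18751 (tt N9326 F46468) (tt N19427 F47603) (tt N18351 F46466) (tt N36934 (iv3 F95346)) (tt N9224 F46467) (tt N36935 D60753) (tt N9223 (iv6 D28827)) (tt N19243 (iv7 F47157)))
theorem Q18753 : ∀ i, i < 18753 → P i := stepQ 18752 Q18752 (allL N18752 (tt N36936 D60754) (tt N36937 D60755) (tt N36938 D60756) (tt N9225 (iv3 D28828)) (tt N36939 D60757) (tt N36940 D60758) (tt N36941 D60759) (tt N18949 (iv7 F46689)))
theorem Q18754 : ∀ i, i < 18754 → P i := stepQ 18753 Q18753 (allL N18753 (tt N9446 F46470) (tt N9454 F46471) (tt N18816 F46546) (tt N36940 (iv3 F95350)) (tt N9343 F46469) (tt N9225 (iv5 D28829)) (tt N36942 D60760) (tt N18815 F46541))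
theorem Q18755 : ∀ i, i < 18755 → P i := stepQ 18754 Q18754 (allL N18754 (tt N36928 (iv1 F95837)) (tt N36929 (iv0 F95343)) (tt N18943 (iv2 F46680)) (tt N36941 (iv3 F95351)) (tt N9480 F46472) (tt N36943 D60762) (tt N9225 (iv6 D28830)) (tt N36944 D60763))
theorem Q18756 : ∀ i, i < 18756 → P i := stepQ 18755 Q18755 (allL N18755 (tt N36945 D60764) (tt N36946 D60765) (tt N36947 D60766) (tt N9226 (iv3 D28831)) (tt N36948 D60767) (tt N36949 D60768) (tt N33338 (iv6 F84521)) (tt N18942 (iv7 F46679)))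
theorem Q18757 : ∀ i, i < 18757 → P i := stepQ 18756 Q18756 (allL N18756 (tt N9454 F46474) (tt N9446 F46475) (tt N18815 F46540) (tt N36949 (iv3 F95357)) (tt N9344 F46473) (tt N9226 (iv5 D28832)) (tt N36950 D60769) (tt N18816 (iv7 F46543)))
theorem Q18758 : ∀ i, i < 18758 → P i := stepQ 18757 Q18757 (allL N18757 (tt N19238 (iv1 F47140)) (tt N9227 (iv0 D28833)) (tt N19237 (iv2 F97404)) (tt N36951 D60771) (tt N36952 D60772) (tt N36953 D60773) (tt N36954 D60774) (tt N19236 (iv7 F97405)))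
theorem Q18759 : ∀ i, i < 18759 → P i := stepQ 18758 Q18758 (allL N18758 (tt N9227 (iv1 D28834)) (tt N19238 F47142) (tt N19236 F97406) (tt N36955 D60776) (tt N36956 D60777) (tt N36957 D60778) (tt N36958 D60779) (tt N19237 F97407))
theorem Q18760 : ∀ i, i < 18760 → P i := stepQ 18759 Q18759 (allL N18759 (tt N19237 (iv1 F47141)) (tt N19236 F47137) (tt N9227 (iv2 D28835)) (tt N19214 (iv3 F47081)) (tt N36899 (iv4 F95322)) (tt N23058 F313827) (tt N36959 D60781) (tt N19238 (iv7 F47139)))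
theorem Q18761 : ∀ i, i < 18761 → P i := stepQ 18760 Q18760 (allL N18760 (tt N36960 D60782) (tt N36961 D60783) (tt N23058 (iv2 F311388)) (tt N9228 F46477) (tt N23053 F310463) (tt N9227 (iv5 D28836)) (tt N36962 D60785) (tt N19239 (iv7 F47144)))
theorem Q18762 : ∀ i, i < 18762 → P i := stepQ 18761 Q18761 (allL N18761 (tt N36963 D60786) (tt N36964 D60787) (tt N36959 (iv2 F95362)) (tt N9229 F46478) (tt N36901 (iv4 F95325)) (tt N34605 F320259) (tt N9227 (iv6 D28837)) (tt N35778 (iv7 F323623)))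
theorem Q18763 : ∀ i, i < 18763 → P i := stepQ 18762 Q18762 (allL N18762 (tt N36965 D60790) (tt N36966 D60791) (tt N19217 (iv2 F47089)) (tt N36962 (iv3 F95364)) (tt N9382 F46479) (tt N23123 (iv5 F313453)) (tt N9228 (iv6 D28838)) (tt N36967 D60793))
theorem Q18764 : ∀ i, i < 18764 → P i := stepQ 18763 Q18763 (allL N18763 (tt N19218 (iv1 F47098)) (tt N9229 (iv0 D28839)) (tt N18957 F80086) (tt N36968 D60794) (tt N9484 F80087) (tt N11755 (iv5 F321958)) (tt N18957 F80088) (tt N18959 F80089))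
theorem Q18765 : ∀ i, i < 18765 → P i := stepQ 18764 Q18764 (allL N18764 (tt N9229 (iv1 D28840)) (tt N19218 F47097) (tt N18959 F80083) (tt N36969 D60796) (tt N9485 F80084) (tt N11845 (iv5 F320942)) (tt N36970 D60798) (tt N18957 F80085))
theorem Q18766 : ∀ i, i < 18766 → P i := stepQ 18765 Q18765 (allL N18765 (tt N18959 (iv1 F80102)) (tt N18957 (iv0 F80099)) (tt N19218 (iv2 F47093)) (tt N35778 F324945) (tt N9232 F46480) (tt N23944 F320262) (tt N19242 (iv6 F47151)) (tt N9229 (iv7 D28842)))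
theorem Q18767 : ∀ i, i < 18767 → P i := stepQ 18766 Q18766 (allL N18766 (tt N19138 (iv1 F164050)) (tt N14984 (iv0 F164051)) (tt N19136 (iv2 F164052)) (tt N9230 (iv3 D28843)) (tt N36971 D60806) (tt N16060 F46481) (tt N19219 (iv6 F47100)) (tt N19137 (iv7 F164053)))
theorem Q18768 : ∀ i, i < 18768 → P i := stepQ 18767 Q18767 (allL N18767 (tt N19365 F79874) (tt N9305 F79875) (tt N19220 (iv2 F47102)) (tt N36972 D60807) (tt N9230 (iv4 D28844)) (tt N11720 (iv5 F321985)) (tt N19220 (iv6 F47103)) (tt N19221 (iv7 F47108)))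
theorem Q18769 : ∀ i, i < 18769 → P i := stepQ 18768 Q18768 (allL N18768 (tt N9305 F79876) (tt N19365 F79877) (tt N19221 (iv2 F47107)) (tt N36973 D60814) (tt N9231 (iv4 D28846)) (tt N11844 (iv5 F320984)) (tt N36974 D60816) (tt N19220 (iv7 F47104)))
theorem Q18770 : ∀ i, i < 18770 → P i := stepQ 18769 Q18769 (allL N18769 (tt N18896 F46611) (tt N18896 (iv0 F47112)) (tt N19222 (iv2 F47109)) (tt N36760 (iv3 F164089)) (tt N36974 (iv4 F95380)) (tt N19222 (iv5 F47110)) (tt N9231 (iv6 D28847)) (tt N19222 (iv7 F47111)))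
theorem Q18771 : ∀ i, i < 18771 → P i := stepQ 18770 Q18770 (allL N18770 (tt N29606 (iv1 F76790)) (tt N29605 F76787) (tt N19185 (iv2 F47024)) (tt N36975 D60817) (tt N9233 (iv4 D28848)) (tt N36976 D60818) (tt N36977 D60819) (tt N14761 F46483))
theorem Q18772 : ∀ i, i < 18772 → P i := stepQ 18771 Q18771 (allL N18771 (tt N19336 F101897) (tt N35960 F93643) (tt N19186 (iv2 F47026)) (tt N30700 (iv3 F79255)) (tt N36977 (iv4 F95383)) (tt N18771 F46484) (tt N9233 (iv6 D28849)) (tt N18257 F46485))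
theorem Q18773 : ∀ i, i < 18773 → P i := stepQ 18772 Q18772 (allL N18772 (tt N19197 (iv1 F47056)) (tt N19196 F47055) (tt N9238 F46486) (tt N36978 D60820) (tt N9234 (iv4 D28850)) (tt N36979 D60821) (tt N36980 D60822) (tt N19187 (iv7 F47030)))
theorem Q18774 : ∀ i, i < 18774 → P i := stepQ 18773 Q18773 (allL N18773 (tt N36890 (iv1 F95309)) (tt N18313 (iv0 F46489)) (tt N9239 F46487) (tt N18249 F46488) (tt N36980 (iv4 F95389)) (tt N30450 (iv5 F78588)) (tt N9234 (iv6 D28851)) (tt N36889 (iv7 F95296)))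
theorem Q18775 : ∀ i, i < 18775 → P i := stepQ 18774 Q18774 (allL N18774 (tt N14981 (iv1 F46492)) (tt N18243 (iv0 F46491)) (tt N19139 F46971) (tt N9236 (iv3 D28852)) (tt N19346 (iv4 F47385)) (tt N16054 F46490) (tt N36764 F95169) (tt N19140 F46970))
theorem Q18776 : ∀ i, i < 18776 → P i := stepQ 18775 Q18775 (allL N18775 (tt N32982 (iv1 F83817)) (tt N32983 (iv0 F83820)) (tt N19194 (iv2 F47051)) (tt N36981 D60823) (tt N9236 (iv4 D28853)) (tt N36982 D60824) (tt N36983 D60825) (tt N19191 (iv7 F47044)))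
theorem Q18777 : ∀ i, i < 18777 → P i := stepQ 18776 Q18776 (allL N18776 (tt N18249 F46494) (tt N19234 F47136) (tt N19195 (iv2 F47053)) (tt N36764 (iv3 F95170)) (tt N36983 (iv4 F95390)) (tt N14782 F46493) (tt N9236 (iv6 D28854)) (tt N19232 (iv7 F93681)))
theorem Q18778 : ∀ i, i < 18778 → P i := stepQ 18777 Q18777 (allL N18777 (tt N32983 (iv1 F83821)) (tt N32982 (iv0 F83816)) (tt N19191 (iv2 F47043)) (tt N36984 D60826) (tt N9237 (iv4 D28855)) (tt N36985 D60827) (tt N36986 D60828) (tt N19194 (iv7 F47052)))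
theorem Q18779 : ∀ i, i < 18779 → P i := stepQ 18778 Q18778 (allL N18778 (tt N36927 (iv1 F101874)) (tt N36987 D60830) (tt N19192 (iv2 F47045)) (tt N36722 (iv3 F95117)) (tt N36986 (iv4 F95391)) (tt N15206 F46495) (tt N9237 (iv6 D28856)) (tt N36988 D60831))
theorem Q18780 : ∀ i, i < 18780 → P i := stepQ 18779 Q18779 (allL N18779 (tt N19187 (iv1 F47032)) (tt N9238 (iv0 D28857)) (tt N19197 F47498) (tt N36989 D60832) (tt N19560 (iv4 F47971)) (tt N36990 D60833) (tt N36991 D60834) (tt N19196 F47496))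
theorem Q18781 : ∀ i, i < 18781 → P i := stepQ 18780 Q18780 (allL N18780 (tt N9238 (iv1 D28858)) (tt N19187 (iv0 F47031)) (tt N19196 (iv2 F47495)) (tt N36992 D60835) (tt N18927 (iv4 F46662)) (tt N36993 D60836) (tt N36994 D60837) (tt N19197 (iv7 F47497)))
theorem Q18782 : ∀ i, i < 18782 → P i := stepQ 18781 Q18781 (allL N18781 (tt N36995 D60838) (tt N36996 D60839) (tt N36997 D60840) (tt N9238 (iv3 D28859)) (tt N9243 F46496) (tt N36998 D60841) (tt N36999 D60842) (tt N19198 (iv7 F47058)))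
theorem Q18783 : ∀ i, i < 18783 → P i := stepQ 18782 Q18782 (allL N18782 (tt N19926 (iv1 F48596)) (tt N19975 F48637) (tt N36979 (iv2 F95386)) (tt N36998 (iv3 F95399)) (tt N19936 (iv4 F48612)) (tt N9238 (iv5 D28860)) (tt N37000 D60843) (tt N19199 (iv7 F47059)))
theorem Q18784 : ∀ i, i < 18784 → P i := stepQ 18783 Q18783 (allL N18783 (tt N37001 D60844) (tt N36896 (iv0 F95321)) (tt N36980 (iv2 F95388)) (tt N36999 (iv3 F95400)) (tt N9239 F46497) (tt N37002 D60845) (tt N9238 (iv6 D28861)) (tt N37003 D60846))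
theorem Q18785 : ∀ i, i < 18785 → P i := stepQ 18784 Q18784 (allL N18784 (tt N36889 F95299) (tt N9239 (iv0 D28862)) (tt N36890 (iv2 F95306)) (tt N37004 D60847) (tt N37005 D60848) (tt N18314 F95300) (tt N36884 F95301) (tt N18313 F95302))
theorem Q18786 : ∀ i, i < 18786 → P i := stepQ 18785 Q18785 (allL N18785 (tt N37006 D60849) (tt N37007 D60850) (tt N30450 (iv2 F78587)) (tt N9247 F46498) (tt N37008 D60851) (tt N9239 (iv5 D28863)) (tt N9242 F46499) (tt N33558 (iv7 F85110)))
theorem Q18787 : ∀ i, i < 18787 → P i := stepQ 18786 Q18786 (allL N18786 (tt N18313 (iv1 F46501)) (tt N36890 F95308) (tt N36889 F95297) (tt N9248 F46500) (tt N37003 (iv4 F95402)) (tt N33558 (iv5 F85109)) (tt N19203 (iv6 F47063)) (tt N9239 (iv7 D28864)))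
theorem Q18788 : ∀ i, i < 18788 → P i := stepQ 18787 Q18787 (allL N18787 (tt N15159 F46508) (tt N18244 (iv0 F46507)) (tt N18281 (iv2 F46506)) (tt N9240 (iv3 D28865)) (tt N15709 F46505) (tt N15207 F46502) (tt N15677 F46503) (tt N14769 F46504))
theorem Q18789 : ∀ i, i < 18789 → P i := stepQ 18788 Q18788 (allL N18788 (tt N20350 F49163) (tt N19672 (iv0 F48130)) (tt N20896 (iv2 F49837)) (tt N20347 F49154) (tt N9240 (iv4 D28866)) (tt N30695 (iv5 F79244)) (tt N15678 F46510) (tt N14771 F46511))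
theorem Q18790 : ∀ i, i < 18790 → P i := stepQ 18789 Q18789 (allL N18789 (tt N19380 (iv1 F47488)) (tt N19928 (iv0 F48601)) (tt N30449 (iv2 F78585)) (tt N12491 (iv3 F313981)) (tt N9242 (iv4 D28867)) (tt N37009 D60853) (tt N37008 (iv6 F95407)) (tt N20898 (iv7 F49848)))
theorem Q18791 : ∀ i, i < 18791 → P i := stepQ 18790 Q18790 (allL N18790 (tt N19214 (iv1 F47083)) (tt N9243 (iv0 D28868)) (tt N19213 (iv2 F209643)) (tt N37010 D60855) (tt N37011 D60856) (tt N37012 D60857) (tt N37013 D60858) (tt N19212 (iv7 F209644)))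
theorem Q18792 : ∀ i, i < 18792 → P i := stepQ 18791 Q18791 (allL N18791 (tt N9243 (iv1 D28869)) (tt N19214 F47085) (tt N19212 F209646) (tt N37014 D60860) (tt N37015 D60861) (tt N37016 D60862) (tt N37017 D60863) (tt N19213 F209647))
theorem Q18793 : ∀ i, i < 18793 → P i := stepQ 18792 Q18792 (allL N18792 (tt N19213 (iv1 F47084)) (tt N19212 F47080) (tt N9243 (iv2 D28870)) (tt N19238 (iv3 F47138)) (tt N36997 (iv4 F95398)) (tt N37018 D60864) (tt N37019 D60865) (tt N19214 (iv7 F47082)))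
theorem Q18794 : ∀ i, i < 18794 → P i := stepQ 18793 Q18793 (allL N18793 (tt N37020 D60866) (tt N37021 D60867) (tt N37018 (iv2 F95413)) (tt N9244 F46512) (tt N37022 D60868) (tt N9243 (iv5 D28871)) (tt N37023 D60869) (tt N19215 (iv7 F47087)))
theorem Q18795 : ∀ i, i < 18795 → P i := stepQ 18794 Q18794 (allL N18794 (tt N37024 D60870) (tt N36958 (iv0 F348923)) (tt N37019 (iv2 F95414)) (tt N9245 F46513) (tt N36999 (iv4 F95401)) (tt N37025 D60872) (tt N9243 (iv6 D28872)) (tt N37026 D60873))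
theorem Q18796 : ∀ i, i < 18796 → P i := stepQ 18795 Q18795 (allL N18795 (tt N37027 D60874) (tt N37028 D60875) (tt N19241 (iv2 F47146)) (tt N37023 (iv3 F95416)) (tt N9380 F46514) (tt N37029 D60876) (tt N9244 (iv6 D28873)) (tt N37030 D60877))
theorem Q18797 : ∀ i, i < 18797 → P i := stepQ 18796 Q18796 (allL N18796 (tt N19242 (iv1 F47153)) (tt N9245 (iv0 D28874)) (tt N18995 (iv2 F46737)) (tt N37031 D60878) (tt N9517 F46738) (tt N37032 D60879) (tt N36944 (iv6 F95355)) (tt N10060 F46739))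
theorem Q18798 : ∀ i, i < 18798 → P i := stepQ 18797 Q18797 (allL N18797 (tt N18332 F320797) (tt N18334 F320798) (tt N18331 (iv2 F321731)) (tt N37025 (iv3 F95417)) (tt N35447 (iv4 F318583)) (tt N9245 (iv5 D28875)) (tt N37029 (iv6 F95419)) (tt N18330 F320799))
theorem Q18799 : ∀ i, i < 18799 → P i := stepQ 18798 Q18798 (allL N18798 (tt N10060 (iv1 F46538)) (tt N18995 F46736) (tt N19242 (iv2 F47149)) (tt N37026 (iv3 F95418)) (tt N9248 F46515) (tt N18330 F320796) (tt N19218 (iv6 F47095)) (tt N9245 (iv7 D28876)))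
theorem Q18800 : ∀ i, i < 18800 → P i := stepQ 18799 Q18799 (allL N18799 (tt N19427 (iv1 F47604)) (tt N9326 F47159) (tt N19243 (iv2 F47156)) (tt N37033 D60884) (tt N9246 (iv4 D28878)) (tt N37034 D60885) (tt N36926 (iv6 F95341)) (tt N18351 F46518))
theorem Q18801 : ∀ i, i < 18801 → P i := stepQ 18800 Q18800 (allL N18800 (tt N10278 (iv1 F46520)) (tt N9247 (iv0 D28879)) (tt N19244 F47222) (tt N36779 (iv3 F100204)) (tt N21410 F313728) (tt N19271 (iv5 F47219)) (tt N18381 F46519) (tt N19245 (iv7 F47221)))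
theorem Q18802 : ∀ i, i < 18802 → P i := stepQ 18801 Q18801 (allL N18801 (tt N9247 (iv1 D28880)) (tt N10278 F46521) (tt N19245 (iv2 F47223)) (tt N37035 D60888) (tt N21408 F313730) (tt N19289 (iv5 F47263)) (tt N10173 F47224) (tt N19244 F47225))
theorem Q18803 : ∀ i, i < 18803 → P i := stepQ 18802 Q18802 (allL N18802 (tt N20988 (iv1 F313984)) (tt N20986 (iv0 F313985)) (tt N19246 (iv2 F47170)) (tt N12492 (iv3 F313982)) (tt N9247 (iv4 D28881)) (tt N33328 (iv5 F84473)) (tt N9249 F46522) (tt N20502 (iv7 F49360)))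
theorem Q18804 : ∀ i, i < 18804 → P i := stepQ 18803 Q18803 (allL N18803 (tt N18250 (iv1 F46527)) (tt N9250 (iv0 D28884)) (tt N19272 (iv2 F47231)) (tt N37036 D60898) (tt N9690 F46526) (tt N19851 (iv5 F48434)) (tt N37037 D60899) (tt N9689 F46528))
theorem Q18805 : ∀ i, i < 18805 → P i := stepQ 18804 Q18804 (allL N18804 (tt N37038 D60900) (tt N37039 D60901) (tt N37040 D60902) (tt N9250 (iv3 D28885)) (tt N9252 F46529) (tt N37041 D60903) (tt N37042 D60904) (tt N19273 (iv7 F47233)))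
theorem Q18806 : ∀ i, i < 18806 → P i := stepQ 18805 Q18805 (allL N18805 (tt N37043 D60905) (tt N36894 (iv0 F95312)) (tt N35938 (iv2 F93617)) (tt N37041 (iv3 F95446)) (tt N19835 (iv4 F48405)) (tt N9250 (iv5 D28886)) (tt N37044 D60906) (tt N19274 (iv7 F47234)))
theorem Q18807 : ∀ i, i < 18807 → P i := stepQ 18806 Q18806 (allL N18806 (tt N37045 D60907) (tt N37046 D60908) (tt N35939 (iv2 F93619)) (tt N37042 (iv3 F95447)) (tt N9251 F46530) (tt N37047 D60909) (tt N9250 (iv6 D28887)) (tt N37048 D60910))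
theorem Q18808 : ∀ i, i < 18808 → P i := stepQ 18807 Q18807 (allL N18807 (tt N35942 (iv1 F93626)) (tt N9251 (iv0 D28888)) (tt N35940 (iv2 F171912)) (tt N37049 D60912) (tt N37050 D60913) (tt N37051 D60914) (tt N37052 D60915) (tt N35941 (iv7 F171915)))
theorem Q18809 : ∀ i, i < 18809 → P i := stepQ 18808 Q18808 (allL N18808 (tt N9251 (iv1 D28889)) (tt N35942 F93625) (tt N35941 (iv2 F171914)) (tt N37053 D60917) (tt N37054 D60918) (tt N37055 D60919) (tt N37056 D60920) (tt N35940 (iv7 F171913)))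
theorem Q18810 : ∀ i, i < 18810 → P i := stepQ 18809 Q18809 (allL N18809 (tt N35941 (iv1 F93623)) (tt N35940 (iv0 F93622)) (tt N35942 (iv2 F93624)) (tt N9257 F46531) (tt N37048 (iv4 F95453)) (tt N22776 (iv5 F53933)) (tt N19278 (iv6 F47238)) (tt N9251 (iv7 D28890)))
theorem Q18811 : ∀ i, i < 18811 → P i := stepQ 18810 Q18810 (allL N18810 (tt N19281 (iv1 F47242)) (tt N9252 (iv0 D28891)) (tt N19280 (iv2 F95472)) (tt N37057 D60922) (tt N37058 D60923) (tt N36960 (iv5 F95469)) (tt N37059 D60924) (tt N19279 F95470))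
theorem Q18812 : ∀ i, i < 18812 → P i := stepQ 18811 Q18811 (allL N18811 (tt N9252 (iv1 D28892)) (tt N19281 F47244) (tt N19279 (iv2 F95471)) (tt N37060 D60925) (tt N37061 D60926) (tt N36961 (iv5 F96878)) (tt N19258 (iv6 F323882)) (tt N19280 (iv7 F95473)))
theorem Q18813 : ∀ i, i < 18813 → P i := stepQ 18812 Q18812 (allL N18812 (tt N19280 (iv1 F47243)) (tt N19279 F47239) (tt N9252 (iv2 D28893)) (tt N19259 (iv3 F47189)) (tt N37040 (iv4 F95445)) (tt N37062 D60929) (tt N37063 D60930) (tt N19281 (iv7 F47241)))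
theorem Q18814 : ∀ i, i < 18814 → P i := stepQ 18813 Q18813 (allL N18813 (tt N37064 D60931) (tt N37065 D60932) (tt N37062 (iv2 F95476)) (tt N9253 F46532) (tt N12436 (iv4 F312063)) (tt N9252 (iv5 D28894)) (tt N12434 F311090) (tt N19282 (iv7 F47246)))
theorem Q18815 : ∀ i, i < 18815 → P i := stepQ 18814 Q18814 (allL N18814 (tt N37066 D60935) (tt N37067 D60936) (tt N37063 (iv2 F95477)) (tt N9254 F46533) (tt N37042 (iv4 F95448)) (tt N37068 D60937) (tt N9252 (iv6 D28895)) (tt N37069 D60938))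
theorem Q18816 : ∀ i, i < 18816 → P i := stepQ 18815 Q18815 (allL N18815 (tt N9262 (iv1 F46537)) (tt N9253 (iv0 D28896)) (tt N18756 (iv2 F46540)) (tt N37070 D60939) (tt N9312 F46535) (tt N9303 F46534) (tt N37071 D60940) (tt N18753 (iv7 F46541)))
theorem Q18817 : ∀ i, i < 18817 → P i := stepQ 18816 Q18816 (allL N18816 (tt N9253 (iv1 D28897)) (tt N9262 F46542) (tt N18753 (iv2 F46546)) (tt N37072 D60941) (tt N9315 F46545) (tt N9300 F46544) (tt N37073 D60942) (tt N18756 F46543))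
theorem Q18818 : ∀ i, i < 18818 → P i := stepQ 18817 Q18817 (allL N18817 (tt N34721 F305920) (tt N34610 F305921) (tt N19262 (iv2 F47197)) (tt N12434 (iv3 F308933)) (tt N9362 F46547) (tt N37074 D60945) (tt N9253 (iv6 D28898)) (tt N34719 F306863))
theorem Q18819 : ∀ i, i < 18819 → P i := stepQ 18818 Q18818 (allL N18818 (tt N19266 (iv1 F47206)) (tt N9254 (iv0 D28899)) (tt N19263 (iv2 F49750)) (tt N37075 D60947) (tt N9662 F48982) (tt N37076 D60948) (tt N19286 (iv6 F80109)) (tt N19264 (iv7 F49749)))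
theorem Q18820 : ∀ i, i < 18820 → P i := stepQ 18819 Q18819 (allL N18819 (tt N9254 (iv1 D28900)) (tt N19266 F47205) (tt N19264 (iv2 F49747)) (tt N18338 (iv3 F321542)) (tt N9663 F48979) (tt N37077 D60950) (tt N18333 (iv6 F321544)) (tt N19263 (iv7 F49753)))
theorem Q18821 : ∀ i, i < 18821 → P i := stepQ 18820 Q18820 (allL N18820 (tt N36637 F313657) (tt N37078 D60953) (tt N19265 (iv2 F47200)) (tt N37068 (iv3 F95480)) (tt N37079 D60954) (tt N9254 (iv5 D28901)) (tt N37074 (iv6 F95490)) (tt N37080 D60955))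
theorem Q18822 : ∀ i, i < 18822 → P i := stepQ 18821 Q18821 (allL N18821 (tt N19264 (iv1 F47199)) (tt N19263 F47204) (tt N19266 (iv2 F47201)) (tt N37069 (iv3 F95481)) (tt N9257 F46548) (tt N37080 (iv5 F95497)) (tt N19287 (iv6 F47254)) (tt N9254 (iv7 D28902)))
theorem Q18823 : ∀ i, i < 18823 → P i := stepQ 18822 Q18822 (allL N18822 (tt N19159 F100246) (tt N14990 F100247) (tt N19157 (iv2 F100202)) (tt N9255 (iv3 D28903)) (tt N37081 D60959) (tt N37082 D60960) (tt N19290 (iv6 F47268)) (tt N19158 (iv7 F100203)))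
theorem Q18824 : ∀ i, i < 18824 → P i := stepQ 18823 Q18823 (allL N18823 (tt N19300 F53621) (tt N9269 F53622) (tt N19268 (iv2 F47209)) (tt N37083 D60961) (tt N9255 (iv4 D28904)) (tt N37084 D60962) (tt N19291 (iv6 F47271)) (tt N19270 (iv7 F47217)))
theorem Q18825 : ∀ i, i < 18825 → P i := stepQ 18824 Q18824 (allL N18824 (tt N20894 F49825) (tt N18350 (iv0 F46551)) (tt N19269 (iv2 F47212)) (tt N37082 (iv3 F95499)) (tt N37085 D60963) (tt N9255 (iv5 D28905)) (tt N18192 F46549) (tt N18382 F46550))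
theorem Q18826 : ∀ i, i < 18826 → P i := stepQ 18825 Q18825 (allL N18825 (tt N9269 F53623) (tt N19300 F53624) (tt N19270 (iv2 F47216)) (tt N37086 D60970) (tt N9256 (iv4 D28907)) (tt N37087 D60971) (tt N37088 D60972) (tt N19268 (iv7 F47211)))
theorem Q18827 : ∀ i, i < 18827 → P i := stepQ 18826 Q18826 (allL N18826 (tt N18350 F47113) (tt N20894 (iv0 F49824)) (tt N18382 F46552) (tt N36806 (iv3 F168085)) (tt N20761 (iv4 F101305)) (tt N9256 (iv5 D28908)) (tt N14805 F46553) (tt N19269 (iv7 F47214)))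
theorem Q18828 : ∀ i, i < 18828 → P i := stepQ 18827 Q18827 (allL N18827 (tt N29686 F76928) (tt N19339 (iv0 F47361)) (tt N19271 (iv2 F47218)) (tt N36807 (iv3 F168050)) (tt N37088 (iv4 F95508)) (tt N19244 (iv5 F47165)) (tt N9256 (iv6 D28909)) (tt N19289 (iv7 F47264)))
theorem Q18829 : ∀ i, i < 18829 → P i := stepQ 18828 Q18828 (allL N18828 (tt N16564 F46555) (tt N19250 F47180) (tt N9259 F46554) (tt N37089 D60974) (tt N9258 (iv4 D28910)) (tt N37090 D60975) (tt N37091 D60976) (tt N19248 (iv7 F47173)))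
theorem Q18830 : ∀ i, i < 18830 → P i := stepQ 18829 Q18829 (allL N18829 (tt N37092 D60977) (tt N37052 (iv0 F95461)) (tt N9260 F46556) (tt N18251 F46557) (tt N37091 (iv4 F95518)) (tt N15639 F46558) (tt N9258 (iv6 D28911)) (tt N37093 D60978))
theorem Q18831 : ∀ i, i < 18831 → P i := stepQ 18830 Q18830 (allL N18830 (tt N9259 (iv1 D28912)) (tt N19248 (iv0 F47174)) (tt N19250 F47179) (tt N37094 D60979) (tt N16565 (iv4 F46560)) (tt N19975 (iv5 F48636)) (tt N37095 D60980) (tt N16564 F46559))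
theorem Q18832 : ∀ i, i < 18832 → P i := stepQ 18831 Q18831 (allL N18831 (tt N37096 D60981) (tt N37097 D60982) (tt N37098 D60983) (tt N9259 (iv3 D28913)) (tt N9261 F46561) (tt N37099 D60984) (tt N37100 D60985) (tt N19251 (iv7 F47183)))
theorem Q18833 : ∀ i, i < 18833 → P i := stepQ 18832 Q18832 (allL N18832 (tt N37101 D60986) (tt N37102 D60987) (tt N37090 (iv2 F95514)) (tt N37099 (iv3 F95530)) (tt N19951 (iv4 F48628)) (tt N9259 (iv5 D28914)) (tt N37103 D60988) (tt N19252 (iv7 F47184)))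
theorem Q18834 : ∀ i, i < 18834 → P i := stepQ 18833 Q18833 (allL N18833 (tt N37104 D60989) (tt N37105 D60990) (tt N37091 (iv2 F95517)) (tt N37100 (iv3 F95531)) (tt N9260 F46562) (tt N37106 D60991) (tt N9259 (iv6 D28915)) (tt N37107 D60992))
theorem Q18835 : ∀ i, i < 18835 → P i := stepQ 18834 Q18834 (allL N18834 (tt N37093 F95525) (tt N9260 (iv0 D28916)) (tt N37092 (iv2 F171884)) (tt N37108 D60994) (tt N37109 D60995) (tt N18199 F93678) (tt N37110 D60996) (tt N37052 (iv7 F171878)))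
theorem Q18836 : ∀ i, i < 18836 → P i := stepQ 18835 Q18835 (allL N18835 (tt N9260 (iv1 D28917)) (tt N37093 F95524) (tt N37052 (iv2 F171877)) (tt N37111 D60998) (tt N37112 D60999) (tt N18200 (iv5 F93475)) (tt N35940 (iv6 F93621)) (tt N37092 (iv7 F171885)))
theorem Q18837 : ∀ i, i < 18837 → P i := stepQ 18836 Q18836 (allL N18836 (tt N37052 F95456) (tt N37092 (iv0 F95520)) (tt N37093 (iv2 F95521)) (tt N9266 F46563) (tt N37107 (iv4 F95539)) (tt N15655 F46564) (tt N19256 (iv6 F47187)) (tt N9260 (iv7 D28918)))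
theorem Q18838 : ∀ i, i < 18838 → P i := stepQ 18837 Q18837 (allL N18837 (tt N19259 (iv1 F47191)) (tt N9261 (iv0 D28919)) (tt N19258 F207701) (tt N37113 D61001) (tt N37114 D61002) (tt N37020 (iv5 F207690)) (tt N19279 F322467) (tt N19257 (iv7 F207704)))
theorem Q18839 : ∀ i, i < 18839 → P i := stepQ 18838 Q18838 (allL N18838 (tt N9261 (iv1 D28920)) (tt N19259 F47193) (tt N19257 (iv2 F207703)) (tt N37115 D61006) (tt N37116 D61007) (tt N37021 (iv5 F207693)) (tt N37117 D61009) (tt N19258 F207702))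
theorem Q18840 : ∀ i, i < 18840 → P i := stepQ 18839 Q18839 (allL N18839 (tt N19258 (iv1 F47192)) (tt N19257 F47188) (tt N9261 (iv2 D28921)) (tt N19281 (iv3 F47240)) (tt N37098 (iv4 F95529)) (tt N37118 D61010) (tt N37119 D61011) (tt N19259 (iv7 F47190)))
theorem Q18841 : ∀ i, i < 18841 → P i := stepQ 18840 Q18840 (allL N18840 (tt N37120 D61012) (tt N37121 D61013) (tt N37118 (iv2 F95548)) (tt N9262 F46565) (tt N37122 D61014) (tt N9261 (iv5 D28922)) (tt N37123 D61015) (tt N19260 (iv7 F47195)))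
theorem Q18842 : ∀ i, i < 18842 → P i := stepQ 18841 Q18841 (allL N18841 (tt N37124 D61016) (tt N37125 D61017) (tt N37119 (iv2 F95549)) (tt N9263 F46566) (tt N37100 (iv4 F95532)) (tt N23917 F323390) (tt N9261 (iv6 D28923)) (tt N32017 F326084))
theorem Q18843 : ∀ i, i < 18843 → P i := stepQ 18842 Q18842 (allL N18842 (tt N17998 F315384) (tt N21438 F315385) (tt N19284 (iv2 F47248)) (tt N37123 (iv3 F95551)) (tt N9356 F46567) (tt N22526 (iv5 F317622)) (tt N9262 (iv6 D28924)) (tt N25297 (iv7 F317144)))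
theorem Q18844 : ∀ i, i < 18844 → P i := stepQ 18843 Q18843 (allL N18843 (tt N19287 (iv1 F47257)) (tt N9263 (iv0 D28925)) (tt N19285 F80120) (tt N37126 D61024) (tt N9667 F80121) (tt N34604 F320260) (tt N37127 D61025) (tt N19286 F80122))
theorem Q18845 : ∀ i, i < 18845 → P i := stepQ 18844 Q18844 (allL N18844 (tt N9263 (iv1 D28926)) (tt N19287 F47256) (tt N19286 F80116) (tt N37128 D61026) (tt N9668 F80117) (tt N24066 F320261) (tt N19263 F80118) (tt N19285 F80119))
theorem Q18846 : ∀ i, i < 18846 → P i := stepQ 18845 Q18845 (allL N18845 (tt N19286 (iv1 F47250)) (tt N19285 F47255) (tt N19287 (iv2 F47252)) (tt N32017 (iv3 F325153)) (tt N9266 F46568) (tt N23728 F322476) (tt N19266 (iv6 F47203)) (tt N9263 (iv7 D28928)))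
theorem Q18847 : ∀ i, i < 18847 → P i := stepQ 18846 Q18846 (allL N18846 (tt N19309 F79885) (tt N9272 F79886) (tt N19288 (iv2 F47260)) (tt N37129 D61036) (tt N9264 (iv4 D28930)) (tt N11819 F320281) (tt N37130 D61038) (tt N19291 (iv7 F47272)))
theorem Q18848 : ∀ i, i < 18848 → P i := stepQ 18847 Q18847 (allL N18847 (tt N19339 F47363) (tt N29686 (iv0 F76927)) (tt N19289 (iv2 F47262)) (tt N36822 (iv3 F100189)) (tt N37130 (iv4 F95569)) (tt N19245 F47168) (tt N9264 (iv6 D28931)) (tt N19271 (iv7 F47220)))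
theorem Q18849 : ∀ i, i < 18849 → P i := stepQ 18848 Q18848 (allL N18848 (tt N14993 (iv1 F168039)) (tt N19166 (iv0 F168038)) (tt N19165 F168032) (tt N9265 (iv3 D28932)) (tt N37131 D61042) (tt N18202 F46570) (tt N19267 (iv6 F47207)) (tt N19164 F168033))
theorem Q18850 : ∀ i, i < 18850 → P i := stepQ 18849 Q18849 (allL N18849 (tt N9272 F79887) (tt N19309 F79888) (tt N19291 (iv2 F47270)) (tt N37132 D61043) (tt N9265 (iv4 D28933)) (tt N17590 F320282) (tt N19268 (iv6 F47210)) (tt N19288 (iv7 F47261)))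
theorem Q18851 : ∀ i, i < 18851 → P i := stepQ 18850 Q18850 (allL N18850 (tt N9267 (iv1 D28935)) (tt N19303 F47299) (tt N19301 (iv2 F208424)) (tt N37133 D61051) (tt N24832 (iv4 F316618)) (tt N22955 F314220) (tt N19293 F323358) (tt N19302 F208423))
theorem Q18852 : ∀ i, i < 18852 → P i := stepQ 18851 Q18851 (allL N18851 (tt N19302 (iv1 F47298)) (tt N19301 F47294) (tt N9267 (iv2 D28936)) (tt N19294 (iv3 F47274)) (tt N37134 D61055) (tt N12285 F315288) (tt N37135 D61057) (tt N19303 (iv7 F47296)))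
theorem Q18853 : ∀ i, i < 18853 → P i := stepQ 18852 Q18852 (allL N18852 (tt N37136 D61058) (tt N37137 D61059) (tt N37134 (iv2 F95576)) (tt N9603 F46571) (tt N9267 (iv4 D28937)) (tt N24810 (iv5 F315828)) (tt N26516 F321707) (tt N19304 (iv7 F47301)))
theorem Q18854 : ∀ i, i < 18854 → P i := stepQ 18853 Q18853 (allL N18853 (tt N24854 (iv1 F312950)) (tt N24853 (iv0 F312948)) (tt N12285 (iv2 F312947)) (tt N9268 F46572) (tt N24817 F310680) (tt N9267 (iv5 D28938)) (tt N12171 F310681) (tt N19305 (iv7 F47303)))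
theorem Q18855 : ∀ i, i < 18855 → P i := stepQ 18854 Q18854 (allL N18854 (tt N37138 D61066) (tt N37139 D61067) (tt N37135 (iv2 F95578)) (tt N9269 F46573) (tt N26516 (iv4 F321705)) (tt N37140 D61068) (tt N9267 (iv6 D28939)) (tt N37141 D61069))
theorem Q18856 : ∀ i, i < 18856 → P i := stepQ 18855 Q18855 (allL N18855 (tt N9271 (iv1 F46577)) (tt N9268 (iv0 D28940)) (tt N18750 (iv2 F46578)) (tt N37142 D61070) (tt N9355 F46575) (tt N9423 F46574) (tt N37143 D61071) (tt N18744 (iv7 F46579)))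
theorem Q18857 : ∀ i, i < 18857 → P i := stepQ 18856 Q18856 (allL N18856 (tt N9268 (iv1 D28941)) (tt N9271 F46580) (tt N18744 (iv2 F46584)) (tt N37144 D61072) (tt N9354 F46583) (tt N9421 F46582) (tt N37145 D61073) (tt N18750 F46581))
theorem Q18858 : ∀ i, i < 18858 → P i := stepQ 18857 Q18857 (allL N18857 (tt N37146 D61074) (tt N37147 D61075) (tt N19298 (iv2 F47284)) (tt N12171 (iv3 F308936)) (tt N9350 F46585) (tt N37148 D61076) (tt N9268 (iv6 D28942)) (tt N12286 (iv7 F308922)))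
theorem Q18859 : ∀ i, i < 18859 → P i := stepQ 18858 Q18858 (allL N18858 (tt N37149 D61078) (tt N37150 D61079) (tt N19299 (iv2 F47287)) (tt N37140 (iv3 F95585)) (tt N37151 D61080) (tt N9269 (iv5 D28945)) (tt N37148 (iv6 F95596)) (tt N37152 D61081))
theorem Q18860 : ∀ i, i < 18860 → P i := stepQ 18859 Q18859 (allL N18859 (tt N19270 (iv1 F49206)) (tt N19268 (iv0 F49207)) (tt N19300 (iv2 F47288)) (tt N37141 (iv3 F95586)) (tt N9607 F46586) (tt N37152 (iv5 F95602)) (tt N19309 (iv6 F47311)) (tt N9269 (iv7 D28946)))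
theorem Q18861 : ∀ i, i < 18861 → P i := stepQ 18860 Q18860 (allL N18860 (tt N19294 (iv1 F47276)) (tt N9270 (iv0 D28947)) (tt N19293 (iv2 F208608)) (tt N37153 D61083) (tt N37154 D61084) (tt N37155 D61085) (tt N19301 (iv6 F322875)) (tt N19292 F208607))
theorem Q18862 : ∀ i, i < 18862 → P i := stepQ 18861 Q18861 (allL N18861 (tt N9270 (iv1 D28948)) (tt N19294 F47278) (tt N19292 F208601) (tt N37156 D61088) (tt N37157 D61089) (tt N28000 F321379) (tt N37158 D61091) (tt N19293 (iv7 F208609)))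
theorem Q18863 : ∀ i, i < 18863 → P i := stepQ 18862 Q18862 (allL N18862 (tt N19293 (iv1 F47277)) (tt N19292 F47273) (tt N9270 (iv2 D28949)) (tt N19303 (iv3 F47295)) (tt N37159 D61092) (tt N35158 F315286) (tt N37160 D61094) (tt N19294 (iv7 F47275)))
theorem Q18864 : ∀ i, i < 18864 → P i := stepQ 18863 Q18863 (allL N18863 (tt N37161 D61095) (tt N37162 D61096) (tt N37159 (iv2 F95606)) (tt N9608 F46587) (tt N9270 (iv4 D28950)) (tt N37163 D61097) (tt N37164 D61098) (tt N19295 (iv7 F47280)))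
theorem Q18865 : ∀ i, i < 18865 → P i := stepQ 18864 Q18864 (allL N18864 (tt N37165 D61099) (tt N37166 D61100) (tt N35158 (iv2 F312946)) (tt N9271 F46588) (tt N35157 (iv4 F312602)) (tt N9270 (iv5 D28951)) (tt N37167 D61102) (tt N19296 (iv7 F47282)))
theorem Q18866 : ∀ i, i < 18866 → P i := stepQ 18865 Q18865 (allL N18865 (tt N37168 D61103) (tt N37169 D61104) (tt N37160 (iv2 F95608)) (tt N9272 F46589) (tt N37164 (iv4 F95614)) (tt N37170 D61105) (tt N9270 (iv6 D28952)) (tt N37171 D61106))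
theorem Q18867 : ∀ i, i < 18867 → P i := stepQ 18866 Q18866 (allL N18866 (tt N23642 F316412) (tt N36367 (iv0 F317135)) (tt N19307 (iv2 F47305)) (tt N37167 (iv3 F95616)) (tt N9345 F46590) (tt N12527 (iv5 F318675)) (tt N9271 (iv6 D28953)) (tt N35503 (iv7 F317244)))
theorem Q18868 : ∀ i, i < 18868 → P i := stepQ 18867 Q18867 (allL N18867 (tt N17478 F320829) (tt N17477 (iv0 F322583)) (tt N19308 (iv2 F47308)) (tt N37170 (iv3 F95617)) (tt N11756 (iv4 F322582)) (tt N9272 (iv5 D28956)) (tt N12527 F320830) (tt N23727 (iv7 F322585)))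
theorem Q18869 : ∀ i, i < 18869 → P i := stepQ 18868 Q18868 (allL N18868 (tt N19291 (iv1 F79873)) (tt N19288 (iv0 F79853)) (tt N19309 (iv2 F47309)) (tt N37171 (iv3 F95618)) (tt N9612 F46591) (tt N23727 F322725) (tt N19300 (iv6 F47290)) (tt N9272 (iv7 D28957)))
theorem Q18870 : ∀ i, i < 18870 → P i := stepQ 18869 Q18869 (allL N18869 (tt N9274 (iv1 F46594)) (tt N9273 (iv0 D28958)) (tt N9277 (iv2 F46592)) (tt N19310 (iv3 F47316)) (tt N36843 (iv4 F95252)) (tt N19513 (iv5 F47843)) (tt N37172 D61115) (tt N9275 F46593))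
theorem Q18871 : ∀ i, i < 18871 → P i := stepQ 18870 Q18870 (allL N18870 (tt N9277 F208360) (tt N9275 F208361) (tt N9273 (iv2 D28959)) (tt N37173 D61118) (tt N37174 D61119) (tt N37175 D61120) (tt N37176 D61121) (tt N9274 (iv7 F46595)))
theorem Q18872 : ∀ i, i < 18872 → P i := stepQ 18871 Q18871 (allL N18871 (tt N37156 (iv1 F207734)) (tt N37177 D61123) (tt N37178 D61124) (tt N9273 (iv3 D28960)) (tt N37179 D61125) (tt N37180 D61126) (tt N37181 D61127) (tt N37182 D61128))
theorem Q18873 : ∀ i, i < 18873 → P i := stepQ 18872 Q18872 (allL N18872 (tt N37183 D61129) (tt N37184 D61130) (tt N37174 (iv2 F95634)) (tt N37185 D61131) (tt N9273 (iv4 D28961)) (tt N37186 D61132) (tt N37187 D61133) (tt N37188 D61134))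
theorem Q18874 : ∀ i, i < 18874 → P i := stepQ 18873 Q18873 (allL N18873 (tt N37189 D61135) (tt N37144 (iv0 F208772)) (tt N37175 (iv2 F95636)) (tt N37180 (iv3 F95641)) (tt N18600 (iv4 F312165)) (tt N9273 (iv5 D28962)) (tt N37190 D61138) (tt N37191 D61139))
theorem Q18875 : ∀ i, i < 18875 → P i := stepQ 18874 Q18874 (allL N18874 (tt N37192 D61140) (tt N37086 (iv0 F337777)) (tt N37176 (iv2 F95638)) (tt N37181 (iv3 F95642)) (tt N37187 (iv4 F95646)) (tt N37193 D61142) (tt N9273 (iv6 D28963)) (tt N37194 D61143))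
theorem Q18876 : ∀ i, i < 18876 → P i := stepQ 18875 Q18875 (allL N18875 (tt N9275 (iv1 F208358)) (tt N9277 (iv0 F208359)) (tt N9274 F46596) (tt N37182 (iv3 F95643)) (tt N37188 (iv4 F95648)) (tt N37191 (iv5 F95652)) (tt N37195 D61144) (tt N9273 (iv7 D28964)))
theorem Q18877 : ∀ i, i < 18877 → P i := stepQ 18876 Q18876 (allL N18876 (tt N37196 D61145) (tt N23001 (iv0 F315440)) (tt N37197 D61147) (tt N9274 (iv3 D28965)) (tt N37198 D61148) (tt N37199 D61149) (tt N37200 D61150) (tt N37173 (iv7 F95633)))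
theorem Q18878 : ∀ i, i < 18878 → P i := stepQ 18877 Q18877 (allL N18877 (tt N37184 (iv1 F95645)) (tt N37183 F95649) (tt N37188 (iv2 F95647)) (tt N37201 D61151) (tt N9274 (iv4 D28966)) (tt N37202 D61152) (tt N37203 D61153) (tt N37174 (iv7 F95635)))
theorem Q18879 : ∀ i, i < 18879 → P i := stepQ 18878 Q18878 (allL N18878 (tt N37144 F208773) (tt N37189 F95653) (tt N37191 (iv2 F95651)) (tt N37199 (iv3 F95657)) (tt N18601 (iv4 F312164)) (tt N9274 (iv5 D28967)) (tt N37204 D61155) (tt N37175 (iv7 F95637)))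
theorem Q18880 : ∀ i, i < 18880 → P i := stepQ 18879 Q18879 (allL N18879 (tt N37129 F333899) (tt N37205 D61157) (tt N37195 (iv2 F95654)) (tt N37200 (iv3 F95658)) (tt N37203 (iv4 F95659)) (tt N37206 D61158) (tt N9274 (iv6 D28968)) (tt N37207 D61159))
theorem Q18881 : ∀ i, i < 18881 → P i := stepQ 18880 Q18880 (allL N18880 (tt N19512 (iv1 F47846)) (tt N19511 F47841) (tt N9276 F46599) (tt N19321 (iv3 F47325)) (tt N37208 D61170) (tt N9275 (iv5 D28971)) (tt N37209 D61171) (tt N19513 (iv7 F47844)))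
theorem Q18882 : ∀ i, i < 18882 → P i := stepQ 18881 Q18881 (allL N18881 (tt N19513 (iv1 F47845)) (tt N9276 (iv0 D28972)) (tt N19512 F211995) (tt N37210 D61173) (tt N37211 D61174) (tt N36930 F208883) (tt N37212 D61176) (tt N19511 (iv7 F212004)))
theorem Q18883 : ∀ i, i < 18883 → P i := stepQ 18882 Q18882 (allL N18882 (tt N9276 (iv1 D28973)) (tt N19513 F47847) (tt N19511 (iv2 F212003)) (tt N22999 (iv3 F310784)) (tt N37213 D61179) (tt N36931 (iv5 F208879)) (tt N37214 D61181) (tt N19512 F212002))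
theorem Q18884 : ∀ i, i < 18884 → P i := stepQ 18883 Q18883 (allL N18883 (tt N37215 D61182) (tt N37216 D61183) (tt N37208 (iv2 F95663)) (tt N11130 F46600) (tt N9276 (iv4 D28974)) (tt N11136 (iv5 F46601)) (tt N22338 (iv6 F307697)) (tt N19495 (iv7 F47807)))
theorem Q18885 : ∀ i, i < 18885 → P i := stepQ 18884 Q18884 (allL N18884 (tt N37217 D61185) (tt N37218 D61186) (tt N37209 (iv2 F95665)) (tt N9280 F46602) (tt N22338 (iv4 F307696)) (tt N19325 (iv5 F47334)) (tt N9276 (iv6 D28975)) (tt N37219 D61187))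
theorem Q18886 : ∀ i, i < 18886 → P i := stepQ 18885 Q18885 (allL N18885 (tt N37220 D61188) (tt N37221 D61189) (tt N37172 (iv2 F95630)) (tt N9281 F46603) (tt N36860 (iv4 F95266)) (tt N37222 D61190) (tt N9277 (iv6 D28976)) (tt N19326 (iv7 F47336)))
theorem Q18887 : ∀ i, i < 18887 → P i := stepQ 18886 Q18886 (allL N18886 (tt N37223 D61196) (tt N37224 D61197) (tt N19328 (iv2 F47339)) (tt N23012 (iv3 F307594)) (tt N9335 F46605) (tt N23427 (iv5 F313456)) (tt N9278 (iv6 D28978)) (tt N37225 D61199))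
theorem Q18888 : ∀ i, i < 18888 → P i := stepQ 18887 Q18887 (allL N18887 (tt N37155 (iv1 F208573)) (tt N28000 F319780) (tt N23008 (iv2 F312641)) (tt N9279 (iv3 D28979)) (tt N37226 D61203) (tt N9325 F46606) (tt N37227 D61204) (tt N19327 (iv7 F47338)))
theorem Q18889 : ∀ i, i < 18889 → P i := stepQ 18888 Q18888 (allL N18888 (tt N37228 D61205) (tt N37229 D61206) (tt N19330 (iv2 F47343)) (tt N37227 (iv3 F95679)) (tt N9319 F46607) (tt N36227 (iv5 F322007)) (tt N9279 (iv6 D28980)) (tt N37230 D61208))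
theorem Q18890 : ∀ i, i < 18890 → P i := stepQ 18889 Q18889 (allL N18889 (tt N19333 (iv1 F47352)) (tt N9280 (iv0 D28981)) (tt N19331 F209002) (tt N23016 (iv3 F312794)) (tt N20763 F314878) (tt N37231 D61212) (tt N37232 D61213) (tt N19332 F209003))
theorem Q18891 : ∀ i, i < 18891 → P i := stepQ 18890 Q18890 (allL N18890 (tt N9280 (iv1 D28982)) (tt N19333 F47351) (tt N19332 (iv2 F208998)) (tt N37233 D61215) (tt N20760 F314969) (tt N37234 D61217) (tt N37235 D61218) (tt N19331 (iv7 F209000)))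
theorem Q18892 : ∀ i, i < 18892 → P i := stepQ 18891 Q18891 (allL N18891 (tt N19332 (iv1 F47345)) (tt N19331 F47350) (tt N19333 (iv2 F47346)) (tt N37219 (iv3 F95670)) (tt N19519 (iv4 F47881)) (tt N19333 (iv5 F47348)) (tt N19515 (iv6 F47861)) (tt N9280 (iv7 D28983)))
theorem Q18893 : ∀ i, i < 18893 → P i := stepQ 18892 Q18892 (allL N18892 (tt N9281 (iv1 F46608)) (tt N9281 (iv0 D28984)) (tt N19334 F98839) (tt N37236 D61220) (tt N9620 (iv4 F98521)) (tt N24132 (iv5 F305864)) (tt N33337 (iv6 F98522)) (tt N19334 F98840))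
theorem Q18894 : ∀ i, i < 18894 → P i := stepQ 18893 Q18893 (allL N18893 (tt N11936 (iv1 F303860)) (tt N11936 (iv0 F303859)) (tt N19335 (iv2 F47354)) (tt N37222 (iv3 F95671)) (tt N22966 F301591) (tt N9281 (iv5 D28985)) (tt N11911 F301592) (tt N19335 (iv7 F47356)))
theorem Q18895 : ∀ i, i < 18895 → P i := stepQ 18894 Q18894 (allL N18894 (tt N19186 (iv1 F101876)) (tt N18257 (iv0 F101877)) (tt N35960 (iv2 F101898)) (tt N9282 (iv3 D28987)) (tt N37237 D61229) (tt N37238 D61230) (tt N36105 F101872) (tt N19336 F76960))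
theorem Q18896 : ∀ i, i < 18896 → P i := stepQ 18895 Q18895 (allL N18895 (tt N9676 (iv1 F98511)) (tt N9676 (iv0 F98510)) (tt N19337 F76966) (tt N37239 D61232) (tt N9282 (iv4 D28988)) (tt N23590 (iv5 F305934)) (tt N36184 (iv6 F94045)) (tt N19337 F76961))
theorem Q18897 : ∀ i, i < 18897 → P i := stepQ 18896 Q18896 (allL N18896 (tt N18769 F47112) (tt N18769 (iv0 F46611)) (tt N19338 (iv2 F76964)) (tt N37238 (iv3 F95688)) (tt N37240 D61234) (tt N9282 (iv5 D28989)) (tt N18746 F46610) (tt N19338 F76962))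
theorem Q18898 : ∀ i, i < 18898 → P i := stepQ 18897 Q18897 (allL N18897 (tt N15361 (iv1 F46613)) (tt N9283 (iv0 D28990)) (tt N19379 F47485) (tt N15061 (iv3 F46614)) (tt N37241 D61235) (tt N15508 F46612) (tt N37242 D61236) (tt N19378 F47481))
theorem Q18899 : ∀ i, i < 18899 → P i := stepQ 18898 Q18898 (allL N18898 (tt N9283 (iv1 D28991)) (tt N15361 F46615) (tt N19378 F47480) (tt N9948 (iv3 F46617)) (tt N37243 D61237) (tt N9946 F46616) (tt N20472 (iv6 F49332)) (tt N19379 (iv7 F47483)))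
theorem Q18900 : ∀ i, i < 18900 → P i := stepQ 18899 Q18899 (allL N18899 (tt N30449 (iv1 F78586)) (tt N20898 (iv0 F49849)) (tt N19928 (iv2 F48600)) (tt N37244 D61238) (tt N9283 (iv4 D28992)) (tt N30487 (iv5 F78625)) (tt N37245 D61239) (tt N19380 (iv7 F47487)))
theorem Q18901 : ∀ i, i < 18901 → P i := stepQ 18900 Q18900 (allL N18900 (tt N37246 D61240) (tt N37247 D61241) (tt N19929 (iv2 F48602)) (tt N9287 F46618) (tt N37245 (iv4 F95703)) (tt N15129 F46619) (tt N9283 (iv6 D28993)) (tt N37248 D61242))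
theorem Q18902 : ∀ i, i < 18902 → P i := stepQ 18901 Q18901 (allL N18901 (tt N11144 F46620) (tt N16112 F46621) (tt N19385 (iv2 F47507)) (tt N37249 D61243) (tt N9284 (iv4 D28994)) (tt N37250 D61244) (tt N37251 D61245) (tt N19383 (iv7 F47500)))
theorem Q18903 : ∀ i, i < 18903 → P i := stepQ 18902 Q18902 (allL N18902 (tt N37252 D61246) (tt N37253 D61247) (tt N19386 (iv2 F47511)) (tt N20201 (iv3 F48909)) (tt N37251 (iv4 F95710)) (tt N14962 F46622) (tt N9284 (iv6 D28995)) (tt N37254 D61248))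
theorem Q18904 : ∀ i, i < 18904 → P i := stepQ 18903 Q18903 (allL N18903 (tt N11064 F46625) (tt N15067 (iv0 F46624)) (tt N20007 (iv2 F48717)) (tt N9285 (iv3 D28996)) (tt N30587 (iv4 F78947)) (tt N9777 F46623) (tt N37255 D61249) (tt N19384 (iv7 F47504)))
theorem Q18905 : ∀ i, i < 18905 → P i := stepQ 18904 Q18904 (allL N18904 (tt N16112 F46626) (tt N11144 F46627) (tt N19383 (iv2 F47499)) (tt N37256 D61250) (tt N9285 (iv4 D28997)) (tt N37257 D61251) (tt N37258 D61252) (tt N19385 (iv7 F47508)))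
theorem Q18906 : ∀ i, i < 18906 → P i := stepQ 18905 Q18905 (allL N18905 (tt N20051 F48769) (tt N20058 F48778) (tt N16234 F46628) (tt N37255 (iv3 F95715)) (tt N37258 (iv4 F95723)) (tt N14697 F46629) (tt N9285 (iv6 D28998)) (tt N20056 F82703))
theorem Q18907 : ∀ i, i < 18907 → P i := stepQ 18906 Q18906 (allL N18906 (tt N16150 (iv1 F46631)) (tt N9286 (iv0 D28999)) (tt N19151 (iv2 F46985)) (tt N37259 D61253) (tt N14987 F46630) (tt N37260 D61254) (tt N37261 D61255) (tt N19387 (iv7 F47516)))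
theorem Q18908 : ∀ i, i < 18908 → P i := stepQ 18907 Q18907 (allL N18907 (tt N9286 (iv1 D29000)) (tt N16150 F46632) (tt N19387 F47514) (tt N37262 D61256) (tt N15160 F46633) (tt N37263 D61257) (tt N33540 (iv6 F85075)) (tt N19151 (iv7 F46986)))
theorem Q18909 : ∀ i, i < 18909 → P i := stepQ 18908 Q18908 (allL N18908 (tt N37264 D61258) (tt N37265 D61259) (tt N37266 D61260) (tt N9286 (iv3 D29001)) (tt N37244 (iv4 F95702)) (tt N37267 D61261) (tt N37268 D61262) (tt N19388 (iv7 F47517)))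
theorem Q18910 : ∀ i, i < 18910 → P i := stepQ 18909 Q18909 (allL N18909 (tt N16163 F46635) (tt N16147 F46636) (tt N19406 (iv2 F47558)) (tt N37267 (iv3 F95735)) (tt N16152 F46634) (tt N9286 (iv5 D29002)) (tt N37269 D61263) (tt N19389 (iv7 F47519)))
theorem Q18911 : ∀ i, i < 18911 → P i := stepQ 18910 Q18910 (allL N18910 (tt N37270 D61264) (tt N37271 D61265) (tt N32119 (iv2 F82370)) (tt N37268 (iv3 F95736)) (tt N9287 F46637) (tt N37272 D61266) (tt N9286 (iv6 D29003)) (tt N37273 D61267))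
theorem Q18912 : ∀ i, i < 18912 → P i := stepQ 18911 Q18911 (allL N18911 (tt N32122 (iv1 F82377)) (tt N9287 (iv0 D29004)) (tt N32120 (iv2 F111322)) (tt N20208 (iv3 F111265)) (tt N37274 D61270) (tt N30170 F78141) (tt N20340 F111257) (tt N32121 (iv7 F111335)))
theorem Q18913 : ∀ i, i < 18913 → P i := stepQ 18912 Q18912 (allL N18912 (tt N9287 (iv1 D29005)) (tt N32122 F82376) (tt N32121 (iv2 F111333)) (tt N37275 D61272) (tt N37276 D61273) (tt N30169 (iv5 F78139)) (tt N37277 D61274) (tt N32120 (iv7 F111324)))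
theorem Q18914 : ∀ i, i < 18914 → P i := stepQ 18913 Q18913 (allL N18913 (tt N32121 (iv1 F82372)) (tt N32120 F82375) (tt N32122 (iv2 F82373)) (tt N37248 (iv3 F95705)) (tt N37273 (iv4 F95738)) (tt N15134 F46638) (tt N19394 (iv6 F47526)) (tt N9287 (iv7 D29006)))
theorem Q18915 : ∀ i, i < 18915 → P i := stepQ 18914 Q18914 (allL N18914 (tt N16128 F46639) (tt N15163 F46640) (tt N19398 (iv2 F47536)) (tt N34413 (iv3 F87493)) (tt N37263 (iv4 F95732)) (tt N9288 (iv5 D29007)) (tt N37278 D61275) (tt N19396 (iv7 F47532)))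
theorem Q18916 : ∀ i, i < 18916 → P i := stepQ 18915 Q18915 (allL N18915 (tt N37279 D61276) (tt N23833 (iv0 F56578)) (tt N34407 (iv2 F87477)) (tt N9290 (iv3 D29008)) (tt N18919 (iv4 F46649)) (tt N37280 D61277) (tt N21497 (iv6 F51391)) (tt N19397 (iv7 F47535)))
theorem Q18917 : ∀ i, i < 18917 → P i := stepQ 18916 Q18916 (allL N18916 (tt N15163 F46641) (tt N16128 F46642) (tt N19396 (iv2 F47531)) (tt N37280 (iv3 F95746)) (tt N37260 (iv4 F95728)) (tt N9290 (iv5 D29009)) (tt N37281 D61278) (tt N19398 (iv7 F47537)))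
theorem Q18918 : ∀ i, i < 18918 → P i := stepQ 18917 Q18917 (allL N18917 (tt N15182 (iv1 F46646)) (tt N15184 (iv0 F46645)) (tt N15181 (iv2 F47450)) (tt N9291 (iv3 D29010)) (tt N9488 F46643) (tt N37282 D61279) (tt N36662 (iv6 F94963)) (tt N15180 F46644))
theorem Q18919 : ∀ i, i < 18919 → P i := stepQ 18918 Q18918 (allL N18918 (tt N16126 F46647) (tt N9530 F46648) (tt N19017 F46794) (tt N37282 (iv3 F95748)) (tt N37257 (iv4 F95719)) (tt N9291 (iv5 D29011)) (tt N37283 D61280) (tt N19016 F46790))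
theorem Q18920 : ∀ i, i < 18920 → P i := stepQ 18919 Q18919 (allL N18919 (tt N37284 D61281) (tt N37285 D61282) (tt N37286 D61283) (tt N9292 (iv3 D29012)) (tt N18915 F46649) (tt N37287 D61284) (tt N21490 (iv6 F51382)) (tt N19400 (iv7 F47545)))
theorem Q18921 : ∀ i, i < 18921 → P i := stepQ 18920 Q18920 (allL N18920 (tt N9530 F46650) (tt N16126 F46651) (tt N19016 F46789) (tt N37287 (iv3 F95761)) (tt N37250 (iv4 F95707)) (tt N9292 (iv5 D29013)) (tt N37288 D61285) (tt N19017 (iv7 F46792)))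
theorem Q18922 : ∀ i, i < 18922 → P i := stepQ 18921 Q18921 (allL N18921 (tt N17444 (iv1 F46653)) (tt N9293 (iv0 D29014)) (tt N19403 F78775) (tt N37289 D61286) (tt N15244 F46652) (tt N37290 D61287) (tt N37291 D61288) (tt N19402 F78773))
theorem Q18923 : ∀ i, i < 18923 → P i := stepQ 18922 Q18922 (allL N18922 (tt N9293 (iv1 D29015)) (tt N17444 F46656) (tt N19402 (iv2 F78774)) (tt N30675 (iv3 F79125)) (tt N30676 (iv4 F79129)) (tt N37292 D61289) (tt N21481 F82794) (tt N19403 (iv7 F78776)))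
theorem Q18924 : ∀ i, i < 18924 → P i := stepQ 18923 Q18923 (allL N18923 (tt N19403 (iv1 F47550)) (tt N19402 F47549) (tt N9293 (iv2 D29016)) (tt N22788 (iv3 F54401)) (tt N9317 F46654) (tt N32811 (iv5 F83586)) (tt N20901 (iv6 F49852)) (tt N17444 F46655))
theorem Q18925 : ∀ i, i < 18925 → P i := stepQ 18924 Q18924 (allL N18924 (tt N32813 F83589) (tt N32792 (iv0 F83543)) (tt N32811 F83587) (tt N9294 F46657) (tt N37293 D61290) (tt N9293 (iv5 D29017)) (tt N37294 D61291) (tt N19404 (iv7 F47552)))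
theorem Q18926 : ∀ i, i < 18926 → P i := stepQ 18925 Q18925 (allL N18925 (tt N16147 F46659) (tt N16163 F46660) (tt N19389 (iv2 F47518)) (tt N37295 D61292) (tt N9294 (iv4 D29018)) (tt N16150 F46658) (tt N37296 D61293) (tt N19406 (iv7 F47560)))
theorem Q18927 : ∀ i, i < 18927 → P i := stepQ 18926 Q18926 (allL N18926 (tt N37297 D61294) (tt N37298 D61295) (tt N32124 (iv2 F82381)) (tt N37294 (iv3 F95777)) (tt N37296 (iv4 F95779)) (tt N20904 (iv5 F49860)) (tt N9294 (iv6 D29019)) (tt N37299 D61296))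
theorem Q18928 : ∀ i, i < 18928 → P i := stepQ 18927 Q18927 (allL N18927 (tt N9583 (iv1 F46664)) (tt N9748 (iv0 F46663)) (tt N19382 (iv2 F47490)) (tt N9295 (iv3 D29020)) (tt N18780 F46662) (tt N15362 F46661) (tt N37300 D61297) (tt N19409 (iv7 F47565)))
theorem Q18929 : ∀ i, i < 18929 → P i := stepQ 18928 Q18928 (allL N18928 (tt N18679 F46665) (tt N30446 (iv0 F78576)) (tt N19411 (iv2 F47571)) (tt N37301 D61298) (tt N9295 (iv4 D29021)) (tt N37302 D61299) (tt N37303 D61300) (tt N19410 (iv7 F47570)))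
theorem Q18930 : ∀ i, i < 18930 → P i := stepQ 18929 Q18929 (allL N18929 (tt N37304 D61301) (tt N37305 D61302) (tt N19412 (iv2 F47573)) (tt N37300 (iv3 F95780)) (tt N37303 (iv4 F95786)) (tt N19856 (iv5 F48445)) (tt N9295 (iv6 D29022)) (tt N37306 D61303))
theorem Q18931 : ∀ i, i < 18931 → P i := stepQ 18930 Q18930 (allL N18930 (tt N30446 (iv1 F78577)) (tt N18679 (iv0 F46948)) (tt N19410 (iv2 F47569)) (tt N37307 D61304) (tt N9296 (iv4 D29023)) (tt N37308 D61305) (tt N37309 D61306) (tt N19411 (iv7 F47572)))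
theorem Q18932 : ∀ i, i < 18932 → P i := stepQ 18931 Q18931 (allL N18931 (tt N9323 F46669) (tt N19831 F48389) (tt N16629 F46666) (tt N15125 F46667) (tt N37309 (iv4 F95791)) (tt N15120 F46668) (tt N9296 (iv6 D29024)) (tt N19829 (iv7 F48390)))
theorem Q18933 : ∀ i, i < 18933 → P i := stepQ 18932 Q18932 (allL N18932 (tt N16576 (iv1 F46670)) (tt N9297 (iv0 D29025)) (tt N19414 F47582) (tt N37310 D61307) (tt N35918 (iv4 F93558)) (tt N37311 D61308) (tt N37312 D61309) (tt N19413 F47578))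
theorem Q18934 : ∀ i, i < 18934 → P i := stepQ 18933 Q18933 (allL N18933 (tt N9297 (iv1 D29026)) (tt N16576 F46671) (tt N19413 F47577) (tt N37313 D61310) (tt N19223 (iv4 F47115)) (tt N37314 D61311) (tt N37315 D61312) (tt N19414 (iv7 F47580)))
theorem Q18935 : ∀ i, i < 18935 → P i := stepQ 18934 Q18934 (allL N18934 (tt N37316 D61313) (tt N37317 D61314) (tt N37318 D61315) (tt N9297 (iv3 D29027)) (tt N9304 F46672) (tt N24824 (iv5 F316623)) (tt N37319 D61317) (tt N19415 (iv7 F47584)))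
theorem Q18936 : ∀ i, i < 18936 → P i := stepQ 18935 Q18935 (allL N18935 (tt N37320 D61318) (tt N35925 (iv0 F93587)) (tt N32990 (iv2 F83838)) (tt N24824 F318982) (tt N30488 F79298) (tt N9297 (iv5 D29028)) (tt N37321 D61319) (tt N19416 (iv7 F47585)))
theorem Q18937 : ∀ i, i < 18937 → P i := stepQ 18936 Q18936 (allL N18936 (tt N37322 D61320) (tt N37323 D61321) (tt N32991 (iv2 F83839)) (tt N37319 (iv3 F95801)) (tt N9298 F46673) (tt N37324 D61322) (tt N9297 (iv6 D29029)) (tt N37325 D61323))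
theorem Q18938 : ∀ i, i < 18938 → P i := stepQ 18937 Q18937 (allL N18937 (tt N32992 F83846) (tt N9298 (iv0 D29030)) (tt N31826 (iv2 F99976)) (tt N37326 D61325) (tt N37327 D61326) (tt N31792 F81330) (tt N19350 F79781) (tt N31823 (iv7 F99981)))
theorem Q18939 : ∀ i, i < 18939 → P i := stepQ 18938 Q18938 (allL N18938 (tt N9298 (iv1 D29031)) (tt N32992 F83845) (tt N31823 (iv2 F99980)) (tt N29958 F165627) (tt N37328 D61329) (tt N31791 (iv5 F81327)) (tt N37329 D61330) (tt N31826 (iv7 F99977)))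
theorem Q18940 : ∀ i, i < 18940 → P i := stepQ 18939 Q18939 (allL N18939 (tt N31823 (iv1 F81415)) (tt N31826 F83844) (tt N32992 (iv2 F83841)) (tt N9308 F46674) (tt N37325 (iv4 F95806)) (tt N16003 F46675) (tt N19420 (iv6 F47590)) (tt N9298 (iv7 D29032)))
theorem Q18941 : ∀ i, i < 18941 → P i := stepQ 18940 Q18940 (allL N18940 (tt N30737 (iv1 F79321)) (tt N18660 F46676) (tt N19683 (iv2 F48148)) (tt N37330 D61331) (tt N9299 (iv4 D29033)) (tt N37331 D61332) (tt N37332 D61333) (tt N19359 (iv7 F47414)))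
theorem Q18942 : ∀ i, i < 18942 → P i := stepQ 18941 Q18941 (allL N18941 (tt N37333 D61334) (tt N37334 D61335) (tt N19684 (iv2 F48149)) (tt N9301 F46677) (tt N37332 (iv4 F95813)) (tt N11099 F46678) (tt N9299 (iv6 D29034)) (tt N37335 D61336))
theorem Q18943 : ∀ i, i < 18943 → P i := stepQ 18942 Q18942 (allL N18942 (tt N37336 D61337) (tt N37337 D61338) (tt N37338 D61339) (tt N9300 (iv3 D29035)) (tt N37330 (iv4 F95809)) (tt N37072 (iv5 F95486)) (tt N37339 D61340) (tt N18755 F46679))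
theorem Q18944 : ∀ i, i < 18944 → P i := stepQ 18943 Q18943 (allL N18943 (tt N37340 D61341) (tt N37341 D61342) (tt N18754 F46680) (tt N37339 (iv3 F95828)) (tt N9301 F46681) (tt N36637 F314431) (tt N9300 (iv6 D29036)) (tt N37342 D61343))
theorem Q18945 : ∀ i, i < 18945 → P i := stepQ 18944 Q18944 (allL N18944 (tt N19357 F47408) (tt N9301 (iv0 D29037)) (tt N19355 F49055) (tt N37343 D61344) (tt N36923 (iv4 F96722)) (tt N16725 F46682) (tt N19646 (iv6 F48042)) (tt N19356 (iv7 F49075)))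
theorem Q18946 : ∀ i, i < 18946 → P i := stepQ 18945 Q18945 (allL N18945 (tt N9301 (iv1 D29038)) (tt N19357 F47407) (tt N19356 F49077) (tt N37305 (iv3 F101998)) (tt N36924 (iv4 F95338)) (tt N20265 (iv5 F49046)) (tt N19356 F49049) (tt N19355 (iv7 F49053)))
theorem Q18947 : ∀ i, i < 18947 → P i := stepQ 18946 Q18946 (allL N18946 (tt N19356 (iv1 F47403)) (tt N19355 (iv0 F47402)) (tt N19357 (iv2 F47404)) (tt N37335 (iv3 F95814)) (tt N37342 (iv4 F95842)) (tt N11104 F46683) (tt N9327 F46684) (tt N9301 (iv7 D29039)))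
theorem Q18948 : ∀ i, i < 18948 → P i := stepQ 18947 Q18947 (allL N18947 (tt N9570 (iv1 F46688)) (tt N9571 F46687) (tt N9302 (iv2 D29040)) (tt N19358 (iv3 F47409)) (tt N37344 D61347) (tt N15375 F46685) (tt N19699 F48169) (tt N9580 F46686))
theorem Q18949 : ∀ i, i < 18949 → P i := stepQ 18948 Q18948 (allL N18948 (tt N31381 (iv1 F80554)) (tt N22672 (iv0 F53563)) (tt N37344 (iv2 F95847)) (tt N37345 D61348) (tt N9302 (iv4 D29041)) (tt N35012 (iv5 F328340)) (tt N20548 (iv6 F49397)) (tt N19353 (iv7 F47397)))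
theorem Q18950 : ∀ i, i < 18950 → P i := stepQ 18949 Q18949 (allL N18949 (tt N37346 D61350) (tt N36145 F326568) (tt N37347 D61352) (tt N9303 (iv3 D29042)) (tt N37345 (iv4 F95851)) (tt N37070 (iv5 F95482)) (tt N20590 (iv6 F49445)) (tt N18752 F46689))
theorem Q18951 : ∀ i, i < 18951 → P i := stepQ 18950 Q18950 (allL N18950 (tt N19424 (iv1 F47595)) (tt N9304 (iv0 D29043)) (tt N19423 F214736) (tt N37348 D61354) (tt N37349 D61355) (tt N24420 F312949) (tt N37350 D61357) (tt N19422 F214737))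
theorem Q18952 : ∀ i, i < 18952 → P i := stepQ 18951 Q18951 (allL N18951 (tt N9304 (iv1 D29044)) (tt N19424 F47597) (tt N19422 (iv2 F214734)) (tt N37351 D61359) (tt N37352 D61360) (tt N24679 F312951) (tt N37353 D61362) (tt N19423 (iv7 F214735)))
theorem Q18953 : ∀ i, i < 18953 → P i := stepQ 18952 Q18952 (allL N18952 (tt N19423 (iv1 F47596)) (tt N19422 F47592) (tt N9304 (iv2 D29045)) (tt N19362 (iv3 F47416)) (tt N37318 (iv4 F95799)) (tt N22954 F314214) (tt N37354 D61363) (tt N19424 (iv7 F47594)))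
theorem Q18954 : ∀ i, i < 18954 → P i := stepQ 18953 Q18953 (allL N18953 (tt N37355 D61364) (tt N37356 D61365) (tt N37354 (iv2 F95861)) (tt N9305 F46690) (tt N37319 (iv4 F95802)) (tt N37357 D61366) (tt N9304 (iv6 D29046)) (tt N37358 D61367))
theorem Q18955 : ∀ i, i < 18955 → P i := stepQ 18954 Q18954 (allL N18954 (tt N11819 (iv1 F318103)) (tt N17590 (iv0 F318104)) (tt N19364 (iv2 F47423)) (tt N37357 (iv3 F95862)) (tt N23390 (iv4 F318102)) (tt N9305 (iv5 D29049)) (tt N23427 F315916) (tt N23945 (iv7 F318105)))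
theorem Q18956 : ∀ i, i < 18956 → P i := stepQ 18955 Q18955 (allL N18955 (tt N19221 (iv1 F79858)) (tt N19220 (iv0 F79855)) (tt N19365 (iv2 F47424)) (tt N37358 (iv3 F95863)) (tt N9308 F46691) (tt N23945 F320283) (tt N19427 (iv6 F47602)) (tt N9305 (iv7 D29050)))
theorem Q18957 : ∀ i, i < 18957 → P i := stepQ 18956 Q18956 (allL N18956 (tt N19691 F164312) (tt N15891 (iv0 F164313)) (tt N19690 F164108) (tt N9306 (iv3 D29051)) (tt N37359 D61373) (tt N15424 (iv5 F164314)) (tt N19366 (iv6 F47431)) (tt N19367 (iv7 F47437)))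
theorem Q18958 : ∀ i, i < 18958 → P i := stepQ 18957 Q18957 (allL N18957 (tt N18765 F80099) (tt N9426 F80100) (tt N18763 (iv2 F80086)) (tt N37360 D61374) (tt N9306 (iv4 D29052)) (tt N13352 (iv5 F321730)) (tt N18763 (iv6 F80088)) (tt N18764 (iv7 F80085)))
theorem Q18959 : ∀ i, i < 18959 → P i := stepQ 18958 Q18958 (allL N18958 (tt N9582 F164125) (tt N30957 F164126) (tt N30955 (iv2 F164327)) (tt N9307 (iv3 D29053)) (tt N37361 D61378) (tt N15534 F46693) (tt N37362 D61379) (tt N19366 (iv7 F47432)))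
theorem Q18960 : ∀ i, i < 18960 → P i := stepQ 18959 Q18959 (allL N18959 (tt N9426 F80101) (tt N18765 F80102) (tt N18764 (iv2 F80083)) (tt N37363 D61380) (tt N9307 (iv4 D29054)) (tt N23617 F320953) (tt N37364 D61381) (tt N18763 (iv7 F80089)))
theorem Q18961 : ∀ i, i < 18961 → P i := stepQ 18960 Q18960 (allL N18960 (tt N19646 F48044) (tt N19646 (iv0 F48043)) (tt N19368 (iv2 F47440)) (tt N37362 (iv3 F95869)) (tt N37364 (iv4 F95872)) (tt N19368 (iv5 F47441)) (tt N9307 (iv6 D29055)) (tt N19368 (iv7 F47442)))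
theorem Q18962 : ∀ i, i < 18962 → P i := stepQ 18961 Q18961 (allL N18961 (tt N21823 F51977) (tt N37365 D61382) (tt N19043 (iv2 F46839)) (tt N11153 F46694) (tt N24716 (iv4 F303988)) (tt N18624 F46695) (tt N9309 (iv6 D29056)) (tt N37366 D61383))
theorem Q18963 : ∀ i, i < 18963 → P i := stepQ 18962 Q18962 (allL N18962 (tt N19076 (iv1 F50562)) (tt N19064 (iv0 F50563)) (tt N11152 F46696) (tt N9311 F46697) (tt N24751 (iv4 F311015)) (tt N9310 (iv5 D29057)) (tt N24750 F310057) (tt N19042 (iv7 F46838)))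
theorem Q18964 : ∀ i, i < 18964 → P i := stepQ 18963 Q18963 (allL N18963 (tt N37367 D61386) (tt N37368 D61387) (tt N19041 (iv2 F46833)) (tt N24750 (iv3 F308041)) (tt N36922 (iv4 F95337)) (tt N21080 (iv5 F50102)) (tt N9311 (iv6 D29058)) (tt N37369 D61388))
theorem Q18965 : ∀ i, i < 18965 → P i := stepQ 18964 Q18964 (allL N18964 (tt N22028 F52383) (tt N37370 D61389) (tt N19026 (iv2 F46807)) (tt N34415 (iv3 F87496)) (tt N37071 (iv4 F95485)) (tt N17320 F46698) (tt N9312 (iv6 D29059)) (tt N37371 D61390))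
theorem Q18966 : ∀ i, i < 18966 → P i := stepQ 18965 Q18965 (allL N18965 (tt N21946 F52254) (tt N21944 (iv0 F52245)) (tt N22001 F52356) (tt N9315 F46699) (tt N37372 D61391) (tt N9314 (iv5 D29062)) (tt N28289 F312420) (tt N19025 (iv7 F46806)))
theorem Q18967 : ∀ i, i < 18967 → P i := stepQ 18966 Q18966 (allL N18966 (tt N37373 D61393) (tt N24225 F308137) (tt N19024 (iv2 F46804)) (tt N28289 (iv3 F310170)) (tt N37073 (iv4 F95489)) (tt N21507 (iv5 F51413)) (tt N9315 (iv6 D29063)) (tt N37374 D61395))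
theorem Q18968 : ∀ i, i < 18968 → P i := stepQ 18967 Q18967 (allL N18967 (tt N16363 F50516) (tt N23838 F56586) (tt N11160 F46700) (tt N29985 (iv3 F77732)) (tt N9316 (iv4 D29064)) (tt N37375 D61396) (tt N37376 D61397) (tt N19433 (iv7 F47622)))
theorem Q18969 : ∀ i, i < 18969 → P i := stepQ 18968 Q18968 (allL N18968 (tt N17192 F46702) (tt N9533 F46703) (tt N11161 F46701) (tt N23320 (iv3 F55566)) (tt N37377 D61398) (tt N9316 (iv5 D29065)) (tt N37378 D61399) (tt N19020 F46798))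
theorem Q18970 : ∀ i, i < 18970 → P i := stepQ 18969 Q18969 (allL N18969 (tt N29704 (iv1 F77002)) (tt N17005 F46706) (tt N11162 F46704) (tt N23321 (iv3 F55572)) (tt N37376 (iv4 F95889)) (tt N17261 F46705) (tt N9316 (iv6 D29066)) (tt N21501 (iv7 F51400)))
theorem Q18971 : ∀ i, i < 18971 → P i := stepQ 18970 Q18970 (allL N18970 (tt N37379 D61400) (tt N36429 (iv0 F94577)) (tt N34115 (iv2 F86781)) (tt N37226 (iv3 F95678)) (tt N9318 (iv4 D29067)) (tt N37380 D61401) (tt N37381 D61402) (tt N19434 (iv7 F47623)))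
theorem Q18972 : ∀ i, i < 18972 → P i := stepQ 18971 Q18971 (allL N18971 (tt N37382 D61403) (tt N37383 D61404) (tt N34116 (iv2 F86782)) (tt N9319 F46708) (tt N37381 (iv4 F95898)) (tt N20909 (iv5 F49870)) (tt N9318 (iv6 D29068)) (tt N37384 D61405))
theorem Q18973 : ∀ i, i < 18973 → P i := stepQ 18972 Q18972 (allL N18972 (tt N19377 (iv1 F47477)) (tt N9319 (iv0 D29069)) (tt N19375 (iv2 F105935)) (tt N37385 D61407) (tt N37386 D61408) (tt N37387 D61409) (tt N37388 D61410) (tt N19376 F105934))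
theorem Q18974 : ∀ i, i < 18974 → P i := stepQ 18973 Q18973 (allL N18973 (tt N9319 (iv1 D29070)) (tt N19377 F47476) (tt N19376 F105933) (tt N37389 D61412) (tt N37390 D61413) (tt N21465 (iv5 F51349)) (tt N37391 D61414) (tt N19375 (iv7 F105936)))
theorem Q18975 : ∀ i, i < 18975 → P i := stepQ 18974 Q18974 (allL N18974 (tt N19376 (iv1 F47472)) (tt N19375 F47475) (tt N19377 (iv2 F47473)) (tt N37384 (iv3 F95899)) (tt N37230 (iv4 F95681)) (tt N20911 (iv5 F49871)) (tt N19438 (iv6 F47628)) (tt N9319 (iv7 D29071)))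
theorem Q18976 : ∀ i, i < 18976 → P i := stepQ 18975 Q18975 (allL N18975 (tt N9678 (iv1 F46712)) (tt N9680 (iv0 F46711)) (tt N19692 F48159) (tt N9320 (iv3 D29072)) (tt N18734 F46710) (tt N15932 F46709) (tt N20093 (iv6 F48819)) (tt N19340 (iv7 F47365)))
theorem Q18977 : ∀ i, i < 18977 → P i := stepQ 18976 Q18976 (allL N18976 (tt N30003 (iv1 F77761)) (tt N35961 (iv0 F93648)) (tt N19343 (iv2 F47377)) (tt N37392 D61415) (tt N9320 (iv4 D29073)) (tt N37392 F95905) (tt N20116 (iv6 F48844)) (tt N19341 (iv7 F47374)))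
theorem Q18978 : ∀ i, i < 18978 → P i := stepQ 18977 Q18977 (allL N18977 (tt N15037 (iv1 F46717)) (tt N9575 F46716) (tt N15072 F46718) (tt N9321 (iv3 D29074)) (tt N18669 (iv4 F46715)) (tt N11070 F46713) (tt N37393 D61416) (tt N18662 F46714))
theorem Q18979 : ∀ i, i < 18979 → P i := stepQ 18978 Q18978 (allL N18978 (tt N35961 (iv1 F93649)) (tt N30003 (iv0 F77760)) (tt N19341 (iv2 F47373)) (tt N37394 D61417) (tt N9321 (iv4 D29075)) (tt N37395 D61418) (tt N37396 D61419) (tt N19343 (iv7 F47378)))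
theorem Q18980 : ∀ i, i < 18980 → P i := stepQ 18979 Q18979 (allL N18979 (tt N37343 (iv1 F102023)) (tt N37397 D61421) (tt N19342 (iv2 F47376)) (tt N37393 (iv3 F95912)) (tt N37396 (iv4 F95919)) (tt N11074 F46719) (tt N9321 (iv6 D29076)) (tt N37398 D61422))
theorem Q18981 : ∀ i, i < 18981 → P i := stepQ 18980 Q18980 (allL N18980 (tt N9691 (iv1 F46720)) (tt N9322 (iv0 D29077)) (tt N19346 F47386) (tt N37399 D61423) (tt N19139 (iv4 F46963)) (tt N37400 D61424) (tt N16920 (iv6 F326214)) (tt N19345 (iv7 F47389)))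
theorem Q18982 : ∀ i, i < 18982 → P i := stepQ 18981 Q18981 (allL N18981 (tt N9322 (iv1 D29078)) (tt N9691 F46721) (tt N19345 F47388) (tt N37401 D61426) (tt N19140 F46968) (tt N37402 D61427) (tt N37403 D61428) (tt N19346 F47387))
theorem Q18983 : ∀ i, i < 18983 → P i := stepQ 18982 Q18982 (allL N18982 (tt N37404 D61429) (tt N37405 D61430) (tt N37406 D61431) (tt N9322 (iv3 D29079)) (tt N9325 F46722) (tt N37407 D61432) (tt N37408 D61433) (tt N19347 (iv7 F47391)))
theorem Q18984 : ∀ i, i < 18984 → P i := stepQ 18983 Q18983 (allL N18983 (tt N35931 (iv1 F93603)) (tt N35956 (iv0 F93639)) (tt N19827 (iv2 F48379)) (tt N37407 (iv3 F95931)) (tt N35934 (iv4 F93607)) (tt N9322 (iv5 D29080)) (tt N37409 D61434) (tt N19348 (iv7 F47392)))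
theorem Q18985 : ∀ i, i < 18985 → P i := stepQ 18984 Q18984 (allL N18984 (tt N37410 D61435) (tt N37315 (iv0 F95797)) (tt N19828 (iv2 F48382)) (tt N37408 (iv3 F95933)) (tt N9323 F46723) (tt N37411 D61436) (tt N9322 (iv6 D29081)) (tt N37412 D61437))
theorem Q18986 : ∀ i, i < 18986 → P i := stepQ 18985 Q18985 (allL N18985 (tt N19831 (iv1 F48394)) (tt N9323 (iv0 D29082)) (tt N19829 (iv2 F48391)) (tt N37413 D61438) (tt N37414 D61439) (tt N16630 (iv5 F48393)) (tt N37306 (iv6 F95787)) (tt N16629 F48392))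
theorem Q18987 : ∀ i, i < 18987 → P i := stepQ 18986 Q18986 (allL N18986 (tt N37415 D61440) (tt N37416 D61441) (tt N19830 (iv2 F48384)) (tt N9328 F46724) (tt N37417 D61442) (tt N9323 (iv5 D29083)) (tt N9324 F46725) (tt N33114 (iv7 F84094)))
theorem Q18988 : ∀ i, i < 18988 → P i := stepQ 18987 Q18987 (allL N18987 (tt N16629 (iv1 F46727)) (tt N19829 F48388) (tt N19831 (iv2 F48386)) (tt N9329 F46726) (tt N37412 (iv4 F95935)) (tt N33114 (iv5 F84093)) (tt N19352 (iv6 F47396)) (tt N9323 (iv7 D29084)))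
theorem Q18989 : ∀ i, i < 18989 → P i := stepQ 18988 Q18988 (allL N18988 (tt N37418 D61443) (tt N30443 (iv0 F78567)) (tt N19832 (iv2 F48395)) (tt N37419 D61444) (tt N9324 (iv4 D29085)) (tt N37420 D61445) (tt N37417 (iv6 F95940)) (tt N20045 (iv7 F48759)))
theorem Q18990 : ∀ i, i < 18990 → P i := stepQ 18989 Q18989 (allL N18989 (tt N19362 (iv1 F47418)) (tt N9325 (iv0 D29086)) (tt N19361 (iv2 F209620)) (tt N37421 D61447) (tt N37422 D61448) (tt N37423 D61449) (tt N37424 D61450) (tt N19360 (iv7 F209623)))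
theorem Q18991 : ∀ i, i < 18991 → P i := stepQ 18990 Q18990 (allL N18990 (tt N9325 (iv1 D29087)) (tt N19362 F47420) (tt N19360 F209628) (tt N37425 D61452) (tt N37426 D61453) (tt N37427 D61454) (tt N37428 D61455) (tt N19361 F209629))
theorem Q18992 : ∀ i, i < 18992 → P i := stepQ 18991 Q18991 (allL N18991 (tt N19361 (iv1 F47419)) (tt N19360 F47415) (tt N9325 (iv2 D29088)) (tt N19424 (iv3 F47593)) (tt N37406 (iv4 F95930)) (tt N23008 F315091) (tt N37429 D61456) (tt N19362 (iv7 F47417)))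
theorem Q18993 : ∀ i, i < 18993 → P i := stepQ 18992 Q18992 (allL N18992 (tt N37430 D61457) (tt N37353 (iv0 F330912)) (tt N37429 (iv2 F95949)) (tt N9326 F46728) (tt N37408 (iv4 F95934)) (tt N36226 F323658) (tt N9325 (iv6 D29089)) (tt N37431 D61460))
theorem Q18994 : ∀ i, i < 18994 → P i := stepQ 18993 Q18993 (allL N18993 (tt N18351 (iv1 F46730)) (tt N19243 F47158) (tt N19427 (iv2 F47600)) (tt N37431 (iv3 F95951)) (tt N9329 F46729) (tt N36207 F320300) (tt N19365 (iv6 F47426)) (tt N9326 (iv7 D29092)))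
theorem Q18995 : ∀ i, i < 18995 → P i := stepQ 18994 Q18994 (allL N18994 (tt N37432 D61465) (tt N9589 F95817) (tt N37433 D61466) (tt N9327 (iv3 D29093)) (tt N37434 D61467) (tt N16710 F46733) (tt N37335 (iv6 F95816)) (tt N16709 F46734))
theorem Q18996 : ∀ i, i < 18996 → P i := stepQ 18995 Q18995 (allL N18995 (tt N18798 (iv1 F46736)) (tt N9437 F46740) (tt N18796 F46737) (tt N20845 (iv3 F323491)) (tt N9327 (iv4 D29094)) (tt N20844 F321784) (tt N37342 (iv6 F95843)) (tt N16726 F46735))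
theorem Q18997 : ∀ i, i < 18997 → P i := stepQ 18996 Q18996 (allL N18996 (tt N10020 (iv1 F46744)) (tt N9328 (iv0 D29095)) (tt N19429 F47611) (tt N37435 D61470) (tt N33505 (iv4 F313906)) (tt N19744 (iv5 F48216)) (tt N16787 F46743) (tt N19430 (iv7 F47615)))
theorem Q18998 : ∀ i, i < 18998 → P i := stepQ 18997 Q18997 (allL N18997 (tt N9328 (iv1 D29096)) (tt N10020 F46745) (tt N19430 F47616) (tt N37436 D61472) (tt N33502 (iv4 F313908)) (tt N19752 (iv5 F48240)) (tt N9956 (iv6 F47613)) (tt N19429 F47612))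
theorem Q18999 : ∀ i, i < 18999 → P i := stepQ 18998 Q18998 (allL N18998 (tt N21410 (iv1 F311328)) (tt N21408 (iv0 F311329)) (tt N19431 (iv2 F47618)) (tt N37437 D61474) (tt N9328 (iv4 D29097)) (tt N20667 (iv5 F49509)) (tt N9330 F46746) (tt N33292 (iv7 F84413)))
theorem Q19000 : ∀ i, i < 19000 → P i := stepQ 18999 Q18999 (allL N18999 (tt N35422 (iv1 F311306)) (tt N37438 D61476) (tt N12435 (iv2 F311325)) (tt N9330 (iv3 D29098)) (tt N37419 (iv4 F95944)) (tt N12430 (iv5 F311327)) (tt N37437 (iv6 F95979)) (tt N12439 (iv7 F311247)))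
theorem Q19001 : ∀ i, i < 19001 → P i := stepQ 19000 Q19000 (allL N19000 (tt N11121 F46748) (tt N11124 F46749) (tt N19036 (iv2 F46821)) (tt N12430 (iv3 F311326)) (tt N9536 F46747) (tt N9330 (iv5 D29099)) (tt N37439 D61479) (tt N12437 (iv7 F311253)))
theorem Q19002 : ∀ i, i < 19002 → P i := stepQ 19001 Q19001 (allL N19001 (tt N11189 F50811) (tt N11178 F50812) (tt N11204 (iv2 F50813)) (tt N11168 F46752) (tt N10204 (iv4 F50816)) (tt N21327 (iv5 F51089)) (tt N9331 (iv6 D29102)) (tt N11203 F50960))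
theorem Q19003 : ∀ i, i < 19003 → P i := stepQ 19002 Q19002 (allL N19002 (tt N10541 F50648) (tt N22781 (iv0 F53944)) (tt N11170 F46756) (tt N9332 (iv3 D29104)) (tt N11170 F46757) (tt N25187 F310649) (tt N37440 D61483) (tt N19373 (iv7 F49983)))
theorem Q19004 : ∀ i, i < 19004 → P i := stepQ 19003 Q19003 (allL N19003 (tt N21001 F54103) (tt N21687 (iv0 F54199)) (tt N19372 F49998) (tt N37440 (iv3 F95988)) (tt N22807 (iv4 F54455)) (tt N21395 F51159) (tt N9332 (iv6 D29106)) (tt N21690 (iv7 F54102)))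
theorem Q19005 : ∀ i, i < 19005 → P i := stepQ 19004 Q19004 (allL N19004 (tt N10856 (iv1 F50800)) (tt N10891 (iv0 F50801)) (tt N9334 F46758) (tt N17445 F46759) (tt N11589 (iv4 F309766)) (tt N9333 (iv5 D29107)) (tt N24279 (iv6 F309770)) (tt N10889 (iv7 F50970)))
theorem Q19006 : ∀ i, i < 19006 → P i := stepQ 19005 Q19005 (allL N19005 (tt N9334 (iv1 D29109)) (tt N10889 (iv0 F50966)) (tt N10891 (iv2 F50974)) (tt N37441 D61488) (tt N23087 (iv4 F310151)) (tt N9346 F53967) (tt N37442 D61490) (tt N10856 F50973))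
theorem Q19007 : ∀ i, i < 19007 → P i := stepQ 19006 Q19006 (allL N19006 (tt N11585 F308482) (tt N11590 (iv0 F309133)) (tt N11589 (iv2 F309765)) (tt N23011 (iv3 F310588)) (tt N9334 (iv4 D29110)) (tt N24149 (iv5 F310589)) (tt N24209 (iv6 F310591)) (tt N11588 (iv7 F309924)))
theorem Q19008 : ∀ i, i < 19008 → P i := stepQ 19007 Q19007 (allL N19007 (tt N24281 (iv1 F310101)) (tt N13838 (iv0 F310099)) (tt N24279 (iv2 F309768)) (tt N9335 F46760) (tt N24209 (iv4 F310590)) (tt N21741 (iv5 F51792)) (tt N9334 (iv6 D29111)) (tt N24280 (iv7 F310154)))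
theorem Q19009 : ∀ i, i < 19009 → P i := stepQ 19008 Q19008 (allL N19008 (tt N19438 (iv1 F47631)) (tt N9335 (iv0 D29112)) (tt N19436 F162899) (tt N37443 D61497) (tt N37444 D61498) (tt N37445 D61499) (tt N37446 D61500) (tt N19437 F162900))
theorem Q19010 : ∀ i, i < 19010 → P i := stepQ 19009 Q19009 (allL N19009 (tt N9335 (iv1 D29113)) (tt N19438 F47630) (tt N19437 (iv2 F162897)) (tt N34422 (iv3 F162886)) (tt N37447 D61503) (tt N37448 D61504) (tt N37449 D61505) (tt N19436 (iv7 F162898)))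
theorem Q19011 : ∀ i, i < 19011 → P i := stepQ 19010 Q19010 (allL N19010 (tt N19437 (iv1 F47626)) (tt N19436 F47629) (tt N19438 (iv2 F47627)) (tt N24280 (iv3 F310153)) (tt N37225 (iv4 F95676)) (tt N21747 (iv5 F51809)) (tt N19377 (iv6 F47474)) (tt N9335 (iv7 D29114)))
theorem Q19012 : ∀ i, i < 19012 → P i := stepQ 19011 Q19011 (allL N19011 (tt N11167 F53971) (tt N11171 F53972) (tt N22179 F53973) (tt N9337 F46768) (tt N25462 F311953) (tt N9336 (iv5 D29118)) (tt N37450 D61507) (tt N19031 (iv7 F46819)))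
theorem Q19013 : ∀ i, i < 19013 → P i := stepQ 19012 Q19012 (allL N19012 (tt N11124 F46770) (tt N11121 F46771) (tt N12437 (iv2 F311250)) (tt N37451 D61508) (tt N9337 (iv4 D29119)) (tt N9880 F46769) (tt N37452 D61509) (tt N19036 (iv7 F46822)))
theorem Q19014 : ∀ i, i < 19014 → P i := stepQ 19013 Q19013 (allL N19013 (tt N34454 F87579) (tt N37453 D61510) (tt N19439 (iv2 F47648)) (tt N37450 (iv3 F96017)) (tt N37452 (iv4 F96020)) (tt N17455 F46783) (tt N9337 (iv6 D29120)) (tt N37454 D61511))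
theorem Q19015 : ∀ i, i < 19015 → P i := stepQ 19014 Q19014 (allL N19014 (tt N37455 D61512) (tt N37456 D61513) (tt N32810 (iv2 F83585)) (tt N9339 F46784) (tt N37457 D61514) (tt N9338 (iv5 D29123)) (tt N37458 D61515) (tt N19446 (iv7 F47685)))
theorem Q19016 : ∀ i, i < 19016 → P i := stepQ 19015 Q19015 (allL N19015 (tt N32512 (iv1 F83052)) (tt N32514 (iv0 F83060)) (tt N32518 F83069) (tt N9340 F46785) (tt N9342 F46786) (tt N23254 (iv5 F55308)) (tt N9338 (iv6 D29124)) (tt N32486 (iv7 F82942)))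
theorem Q19017 : ∀ i, i < 19017 → P i := stepQ 19016 Q19016 (allL N19016 (tt N15633 (iv1 F46788)) (tt N9339 (iv0 D29125)) (tt N18920 (iv2 F46789)) (tt N30413 (iv3 F78502)) (tt N37459 D61516) (tt N9505 F46787) (tt N37460 D61517) (tt N18918 (iv7 F46790)))
theorem Q19018 : ∀ i, i < 19018 → P i := stepQ 19017 Q19017 (allL N19017 (tt N9339 (iv1 D29126)) (tt N15633 F46791) (tt N18918 (iv2 F46794)) (tt N27127 (iv3 F83011)) (tt N37461 D61518) (tt N9506 F46793) (tt N37462 D61519) (tt N18920 F46792))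
theorem Q19019 : ∀ i, i < 19019 → P i := stepQ 19018 Q19018 (allL N19018 (tt N37463 D61520) (tt N37464 D61521) (tt N32109 (iv2 F82359)) (tt N37465 D61522) (tt N9339 (iv4 D29127)) (tt N15100 F46795) (tt N37466 D61523) (tt N19448 (iv7 F47690)))
theorem Q19020 : ∀ i, i < 19020 → P i := stepQ 19019 Q19019 (allL N19019 (tt N37467 D61524) (tt N27150 (iv0 F157805)) (tt N32125 (iv2 F82383)) (tt N37458 (iv3 F96030)) (tt N37466 (iv4 F96054)) (tt N23255 (iv5 F55310)) (tt N9339 (iv6 D29128)) (tt N37468 D61526))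
theorem Q19021 : ∀ i, i < 19021 → P i := stepQ 19020 Q19020 (allL N19020 (tt N19451 F47698) (tt N9341 (iv0 D29129)) (tt N15233 (iv2 F46797)) (tt N22787 (iv3 F54399)) (tt N37469 D61527) (tt N9521 F46796) (tt N35043 F309441) (tt N18968 (iv7 F46798)))
theorem Q19022 : ∀ i, i < 19022 → P i := stepQ 19021 Q19021 (allL N19021 (tt N35039 F314894) (tt N35148 (iv0 F312440)) (tt N34113 (iv2 F86778)) (tt N35157 (iv3 F312601)) (tt N9341 (iv4 D29130)) (tt N37470 D61531) (tt N37471 D61532) (tt N19452 (iv7 F47700)))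
theorem Q19023 : ∀ i, i < 19023 → P i := stepQ 19022 Q19022 (allL N19022 (tt N37472 D61533) (tt N37473 D61534) (tt N34114 (iv2 F86779)) (tt N9345 F46800) (tt N37471 (iv4 F96059)) (tt N34586 (iv5 F87988)) (tt N9341 (iv6 D29131)) (tt N37474 D61535))
theorem Q19024 : ∀ i, i < 19024 → P i := stepQ 19023 Q19023 (allL N19023 (tt N19454 F47705) (tt N33934 (iv0 F86241)) (tt N17342 F46803) (tt N9343 (iv3 D29132)) (tt N37475 D61536) (tt N9489 F46801) (tt N23895 F308664) (tt N17345 F46802))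
theorem Q19025 : ∀ i, i < 19025 → P i := stepQ 19024 Q19024 (allL N19024 (tt N27281 (iv1 F308219)) (tt N37476 D61538) (tt N18966 F46804) (tt N23895 (iv3 F306835)) (tt N36942 (iv4 F95352)) (tt N22885 (iv5 F54588)) (tt N9343 (iv6 D29133)) (tt N37477 D61539))
theorem Q19026 : ∀ i, i < 19026 → P i := stepQ 19025 Q19025 (allL N19025 (tt N10773 F52346) (tt N10777 F52347) (tt N37478 D61540) (tt N9344 (iv3 D29134)) (tt N37479 D61541) (tt N9488 F46805) (tt N37480 D61542) (tt N18965 F46806))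
theorem Q19027 : ∀ i, i < 19027 → P i := stepQ 19026 Q19026 (allL N19026 (tt N23932 F303486) (tt N37481 D61543) (tt N18964 F46807) (tt N37480 (iv3 F96075)) (tt N36950 (iv4 F95358)) (tt N11034 F46808) (tt N9344 (iv6 D29135)) (tt N37482 D61544))
theorem Q19028 : ∀ i, i < 19028 → P i := stepQ 19027 Q19027 (allL N19027 (tt N19442 (iv1 F47670)) (tt N9345 (iv0 D29136)) (tt N19441 F186142) (tt N37483 D61546) (tt N12536 (iv4 F315014)) (tt N10457 F312560) (tt N37484 D61549) (tt N10456 (iv7 F312571)))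
theorem Q19029 : ∀ i, i < 19029 → P i := stepQ 19028 Q19028 (allL N19028 (tt N10456 F315024) (tt N19441 F47668) (tt N19442 (iv2 F47666)) (tt N37474 (iv3 F96060)) (tt N35503 (iv4 F317243)) (tt N29819 F315025) (tt N19457 (iv6 F47710)) (tt N9345 (iv7 D29138)))
theorem Q19030 : ∀ i, i < 19030 → P i := stepQ 19029 Q19029 (allL N19029 (tt N19073 (iv1 F50578)) (tt N10771 (iv0 F46876)) (tt N19070 (iv2 F53955)) (tt N9346 (iv3 D29144)) (tt N19070 (iv4 F46874)) (tt N37441 (iv5 F95999)) (tt N10900 F53952) (tt N10853 F53953))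
theorem Q19031 : ∀ i, i < 19031 → P i := stepQ 19030 Q19030 (allL N19030 (tt N12475 F308528) (tt N12013 (iv0 F309652)) (tt N9348 F46814) (tt N19451 (iv3 F47696)) (tt N12639 (iv4 F310627)) (tt N9347 (iv5 D29147)) (tt N25400 F308529) (tt N10888 F54001))
theorem Q19032 : ∀ i, i < 19032 → P i := stepQ 19031 Q19031 (allL N19031 (tt N22806 (iv1 F54452)) (tt N22804 (iv0 F54444)) (tt N22198 F53996) (tt N9351 F46818) (tt N35187 (iv4 F312237)) (tt N9349 (iv5 D29153)) (tt N25465 (iv6 F314369)) (tt N19011 F46819))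
theorem Q19033 : ∀ i, i < 19033 → P i := stepQ 19032 Q19032 (allL N19032 (tt N19457 (iv1 F47713)) (tt N9350 (iv0 D29154)) (tt N19455 (iv2 F53308)) (tt N37485 D61571) (tt N37486 D61572) (tt N21832 (iv5 F313228)) (tt N23936 (iv6 F304089)) (tt N17471 F303903))
theorem Q19034 : ∀ i, i < 19034 → P i := stepQ 19033 Q19033 (allL N19033 (tt N9350 (iv1 D29155)) (tt N19457 F47712) (tt N17471 F301350) (tt N37487 D61575) (tt N17560 (iv4 F302496)) (tt N34428 (iv5 F87523)) (tt N17463 F301351) (tt N19455 (iv7 F53306)))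
theorem Q19035 : ∀ i, i < 19035 → P i := stepQ 19034 Q19034 (allL N19034 (tt N37488 D61577) (tt N37489 D61578) (tt N19456 (iv2 F47707)) (tt N25465 F311096) (tt N37490 D61579) (tt N9350 (iv5 D29156)) (tt N9351 F46820) (tt N37491 D61580))
theorem Q19036 : ∀ i, i < 19036 → P i := stepQ 19035 Q19035 (allL N19035 (tt N17471 F303901) (tt N19455 F47711) (tt N19457 (iv2 F47709)) (tt N25401 F308530) (tt N12286 (iv4 F308921)) (tt N37491 (iv5 F96126)) (tt N19442 (iv6 F47667)) (tt N9350 (iv7 D29157)))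
theorem Q19037 : ∀ i, i < 19037 → P i := stepQ 19036 Q19036 (allL N19036 (tt N9912 F46824) (tt N9915 F46825) (tt N19000 F46821) (tt N25100 F308997) (tt N9351 (iv4 D29158)) (tt N9520 F46823) (tt N37490 (iv6 F96125)) (tt N19012 F46822))
theorem Q19038 : ∀ i, i < 19038 → P i := stepQ 19037 Q19037 (allL N19037 (tt N19480 (iv1 F47758)) (tt N9352 (iv0 D29171)) (tt N19483 (iv2 F55519)) (tt N37492 D61582) (tt N37493 D61583) (tt N15323 (iv5 F54170)) (tt N37494 D61584) (tt N19482 F55502))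
theorem Q19039 : ∀ i, i < 19039 → P i := stepQ 19038 Q19038 (allL N19038 (tt N9352 (iv1 D29172)) (tt N19480 F47757) (tt N19482 F55518) (tt N30529 (iv3 F78815)) (tt N24293 F313227) (tt N15326 (iv5 F54321)) (tt N37495 D61586) (tt N19483 (iv7 F55517)))
theorem Q19040 : ∀ i, i < 19040 → P i := stepQ 19039 Q19039 (allL N19039 (tt N37496 D61587) (tt N27729 (iv0 F311828)) (tt N36457 (iv2 F94656)) (tt N37122 (iv3 F95550)) (tt N9352 (iv4 D29173)) (tt N12638 F309774) (tt N37497 D61590) (tt N19484 (iv7 F47765)))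
theorem Q19041 : ∀ i, i < 19041 → P i := stepQ 19040 Q19040 (allL N19040 (tt N37498 D61591) (tt N37499 D61592) (tt N36458 (iv2 F94659)) (tt N9356 F46832) (tt N37497 (iv4 F96141)) (tt N22512 F315375) (tt N9352 (iv6 D29174)) (tt N37500 D61593))
theorem Q19042 : ∀ i, i < 19042 → P i := stepQ 19041 Q19041 (allL N19041 (tt N37501 D61594) (tt N37502 D61595) (tt N18963 F46833) (tt N10295 F46834) (tt N37145 (iv4 F95595)) (tt N10292 F46835) (tt N9354 (iv6 D29177)) (tt N21713 F307293))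
theorem Q19043 : ∀ i, i < 19043 → P i := stepQ 19042 Q19042 (allL N19042 (tt N9367 F50437) (tt N9372 F50438) (tt N10248 F46836) (tt N9355 (iv3 D29178)) (tt N37503 D61597) (tt N9487 F46837) (tt N37504 D61598) (tt N18962 F46838))
theorem Q19044 : ∀ i, i < 19044 → P i := stepQ 19043 Q19043 (allL N19043 (tt N24221 F303945) (tt N37505 D61599) (tt N18961 F46839) (tt N37504 (iv3 F96154)) (tt N37143 (iv4 F95590)) (tt N22580 (iv5 F53353)) (tt N9355 (iv6 D29179)) (tt N37506 D61600))
theorem Q19045 : ∀ i, i < 19045 → P i := stepQ 19044 Q19044 (allL N19044 (tt N19477 (iv1 F47745)) (tt N9356 (iv0 D29180)) (tt N19475 (iv2 F109900)) (tt N37507 D61602) (tt N23642 F316584) (tt N21444 (iv5 F313165)) (tt N37508 D61605) (tt N19476 (iv7 F109901)))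
theorem Q19046 : ∀ i, i < 19046 → P i := stepQ 19045 Q19045 (allL N19045 (tt N19476 (iv1 F47740)) (tt N19475 F47743) (tt N19477 (iv2 F47741)) (tt N37500 (iv3 F96142)) (tt N25297 (iv4 F317143)) (tt N17309 F315386) (tt N19489 (iv6 F47772)) (tt N9356 (iv7 D29182)))
theorem Q19047 : ∀ i, i < 19047 → P i := stepQ 19046 Q19046 (allL N19046 (tt N36425 F94565) (tt N9365 F77207) (tt N36432 (iv2 F94586)) (tt N9357 (iv3 D29188)) (tt N32881 (iv4 F83697)) (tt N37509 D61611) (tt N29769 (iv6 F77244)) (tt N19461 F54254))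
theorem Q19048 : ∀ i, i < 19048 → P i := stepQ 19047 Q19047 (allL N19047 (tt N29758 (iv1 F77202)) (tt N29757 F77200) (tt N19459 F54257) (tt N29901 (iv3 F77576)) (tt N9357 (iv4 D29189)) (tt N37510 D61612) (tt N29773 (iv6 F77257)) (tt N19462 F54255))
theorem Q19049 : ∀ i, i < 19049 → P i := stepQ 19048 Q19048 (allL N19048 (tt N9381 F54216) (tt N19499 F54217) (tt N19460 (iv2 F54228)) (tt N37509 (iv3 F96170)) (tt N37511 D61613) (tt N9357 (iv5 D29190)) (tt N37512 D61614) (tt N19463 (iv7 F54237)))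
theorem Q19050 : ∀ i, i < 19050 → P i := stepQ 19049 Q19049 (allL N19049 (tt N17157 (iv1 F46844)) (tt N14963 F46843) (tt N9359 F46842) (tt N19445 (iv3 F47678)) (tt N9358 (iv4 D29192)) (tt N37513 D61615) (tt N21939 (iv6 F52221)) (tt N19464 (iv7 F47719)))
theorem Q19051 : ∀ i, i < 19051 → P i := stepQ 19050 Q19050 (allL N19050 (tt N19470 (iv1 F47737)) (tt N19469 F47736) (tt N9360 F46847) (tt N19480 (iv3 F47755)) (tt N37514 D61616) (tt N9358 (iv5 D29193)) (tt N25451 F307175) (tt N19465 (iv7 F47725)))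
theorem Q19052 : ∀ i, i < 19052 → P i := stepQ 19051 Q19051 (allL N19051 (tt N19490 F47777) (tt N19478 F47753) (tt N9361 F46848) (tt N19481 (iv3 F47760)) (tt N21939 F52219) (tt N25188 F310459) (tt N9358 (iv6 D29194)) (tt N19491 (iv7 F47778)))
theorem Q19053 : ∀ i, i < 19053 → P i := stepQ 19052 Q19052 (allL N19052 (tt N9359 (iv1 D29195)) (tt N19464 (iv0 F47720)) (tt N14963 F46851) (tt N13609 (iv3 F65525)) (tt N15230 (iv4 F46850)) (tt N37515 D61618) (tt N21923 (iv6 F52188)) (tt N17157 F46849))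
theorem Q19054 : ∀ i, i < 19054 → P i := stepQ 19053 Q19053 (allL N19053 (tt N29976 (iv1 F77707)) (tt N37516 D61619) (tt N37513 (iv2 F96174)) (tt N15633 F46852) (tt N37517 D61620) (tt N9359 (iv5 D29196)) (tt N37518 D61621) (tt N19467 (iv7 F47731)))
theorem Q19055 : ∀ i, i < 19055 → P i := stepQ 19054 Q19054 (allL N19054 (tt N19465 (iv1 F47727)) (tt N9360 (iv0 D29197)) (tt N19470 F55547) (tt N15327 F54345) (tt N21633 (iv4 F309830)) (tt N15325 (iv5 F54344)) (tt N21631 F307851) (tt N19469 (iv7 F55546)))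
theorem Q19056 : ∀ i, i < 19056 → P i := stepQ 19055 Q19055 (allL N19055 (tt N9360 (iv1 D29198)) (tt N19465 F47726) (tt N19469 (iv2 F55542)) (tt N37519 D61624) (tt N37520 D61625) (tt N18214 (iv5 F54349)) (tt N24934 (iv6 F309680)) (tt N19470 F55548))
theorem Q19057 : ∀ i, i < 19057 → P i := stepQ 19056 Q19056 (allL N19056 (tt N30516 (iv1 F78755)) (tt N37521 D61627) (tt N37514 (iv2 F96176)) (tt N12436 (iv3 F312062)) (tt N9360 (iv4 D29199)) (tt N37522 D61628) (tt N12433 F309867) (tt N19471 (iv7 F47738)))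
theorem Q19058 : ∀ i, i < 19058 → P i := stepQ 19057 Q19057 (allL N19057 (tt N25200 (iv1 F306060)) (tt N25447 F305999) (tt N25451 (iv2 F306058)) (tt N9362 F46853) (tt N12433 (iv4 F307940)) (tt N37523 D61632) (tt N9360 (iv6 D29200)) (tt N25452 (iv7 F306059)))
theorem Q19059 : ∀ i, i < 19059 → P i := stepQ 19058 Q19058 (allL N19058 (tt N9361 (iv1 D29201)) (tt N19491 F47780) (tt N19478 (iv2 F54273)) (tt N32802 (iv3 F83567)) (tt N37524 D61634) (tt N15250 F46854) (tt N23143 (iv6 F55062)) (tt N19490 (iv7 F54284)))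
theorem Q19060 : ∀ i, i < 19060 → P i := stepQ 19059 Q19059 (allL N19059 (tt N30529 F78817) (tt N30521 (iv0 F78780)) (tt N25188 (iv2 F310016)) (tt N9363 F46855) (tt N37525 D61635) (tt N9361 (iv5 D29202)) (tt N37523 (iv6 F96195)) (tt N19493 (iv7 F47788)))
theorem Q19061 : ∀ i, i < 19061 → P i := stepQ 19060 Q19060 (allL N19060 (tt N19489 (iv1 F47775)) (tt N9362 (iv0 D29203)) (tt N19486 (iv2 F57940)) (tt N37526 D61636) (tt N37146 (iv4 F185277)) (tt N21754 (iv5 F309086)) (tt N37527 D61639) (tt N19487 F57939))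
theorem Q19062 : ∀ i, i < 19062 → P i := stepQ 19061 Q19061 (allL N19061 (tt N9362 (iv1 D29204)) (tt N19489 F47774) (tt N19487 F57937) (tt N37528 D61640) (tt N37147 (iv4 F185273)) (tt N30686 (iv5 F79216)) (tt N24214 F301130) (tt N19486 (iv7 F57938)))
theorem Q19063 : ∀ i, i < 19063 → P i := stepQ 19062 Q19062 (allL N19062 (tt N37529 D61642) (tt N37528 (iv0 F109932)) (tt N19488 (iv2 F47769)) (tt N37523 (iv3 F96194)) (tt N25204 (iv4 F307135)) (tt N9362 (iv5 D29205)) (tt N9363 F46856) (tt N37530 D61645))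
theorem Q19064 : ∀ i, i < 19064 → P i := stepQ 19063 Q19063 (allL N19063 (tt N19487 (iv1 F47768)) (tt N19486 F47773) (tt N19489 (iv2 F47771)) (tt N25452 F307063) (tt N34719 F306869) (tt N37530 (iv5 F96208)) (tt N19477 (iv6 F47742)) (tt N9362 (iv7 D29206)))
theorem Q19065 : ∀ i, i < 19065 → P i := stepQ 19064 Q19064 (allL N19064 (tt N18962 F50563) (tt N10248 F50564) (tt N9367 F46866) (tt N36424 (iv3 F94559)) (tt N37531 D61647) (tt N9364 (iv5 D29212)) (tt N37532 D61648) (tt N9372 F46867))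
theorem Q19066 : ∀ i, i < 19066 → P i := stepQ 19065 Q19065 (allL N19065 (tt N36432 (iv1 F94590)) (tt N19461 F54253) (tt N9365 (iv2 D29216)) (tt N32800 (iv3 F83558)) (tt N16130 (iv4 F50600)) (tt N37533 D61649) (tt N37534 D61650) (tt N36425 (iv7 F94563)))
theorem Q19067 : ∀ i, i < 19067 → P i := stepQ 19066 Q19066 (allL N19066 (tt N16134 F46869) (tt N16132 (iv0 F46870)) (tt N16130 F50599) (tt N30673 (iv3 F79109)) (tt N9365 (iv4 D29217)) (tt N37535 D61651) (tt N21251 (iv6 F50658)) (tt N16131 (iv7 F50598)))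
theorem Q19068 : ∀ i, i < 19068 → P i := stepQ 19067 Q19067 (allL N19067 (tt N37519 F96190) (tt N25189 F311866) (tt N37533 (iv2 F96214)) (tt N9367 F46871) (tt N37536 D61653) (tt N9365 (iv5 D29218)) (tt N37537 D61654) (tt N37538 D61655))
theorem Q19069 : ∀ i, i < 19069 → P i := stepQ 19068 Q19068 (allL N19068 (tt N29721 F77093) (tt N32516 (iv0 F83065)) (tt N37534 (iv2 F96216)) (tt N9368 F46872) (tt N21251 F50657) (tt N37539 D61656) (tt N9365 (iv6 D29219)) (tt N33593 (iv7 F85219)))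
theorem Q19070 : ∀ i, i < 19070 → P i := stepQ 19069 Q19069 (allL N19069 (tt N19461 F54252) (tt N36432 F94589) (tt N36425 (iv2 F94561)) (tt N9369 F46873) (tt N16131 F50577) (tt N37538 (iv5 F96226)) (tt N9370 (iv6 F46897)) (tt N9365 (iv7 D29220)))
theorem Q19071 : ∀ i, i < 19071 → P i := stepQ 19070 Q19070 (allL N19070 (tt N9371 F46877) (tt N9366 (iv0 D29221)) (tt N19029 F53955) (tt N10875 (iv3 F53969)) (tt N19029 F46874) (tt N22815 (iv5 F54474)) (tt N21392 F53956) (tt N10868 F53957))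
theorem Q19072 : ∀ i, i < 19072 → P i := stepQ 19071 Q19071 (allL N19071 (tt N37540 D61657) (tt N25187 F310647) (tt N21997 (iv2 F52337)) (tt N30515 (iv3 F78753)) (tt N37541 D61658) (tt N9366 (iv5 D29223)) (tt N37542 D61659) (tt N37543 D61660))
theorem Q19073 : ∀ i, i < 19073 → P i := stepQ 19072 Q19072 (allL N19072 (tt N21306 (iv1 F54353)) (tt N21306 (iv0 F54352)) (tt N21309 (iv2 F54354)) (tt N16903 (iv3 F46893)) (tt N9368 F46880) (tt N23345 (iv5 F55660)) (tt N9366 (iv6 D29224)) (tt N21309 (iv7 F54358)))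
theorem Q19074 : ∀ i, i < 19074 → P i := stepQ 19073 Q19073 (allL N19073 (tt N10868 (iv1 F53950)) (tt N19029 F50578) (tt N9371 F46881) (tt N15228 F50579) (tt N9369 F46882) (tt N37543 (iv5 F96240)) (tt N9371 (iv6 F46898)) (tt N9366 (iv7 D29225)))
theorem Q19075 : ∀ i, i < 19075 → P i := stepQ 19074 Q19074 (allL N19074 (tt N23577 F314518) (tt N37544 D61662) (tt N37531 (iv2 F96210)) (tt N37545 D61663) (tt N9367 (iv4 D29228)) (tt N37546 D61664) (tt N37547 D61665) (tt N37548 D61666))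
theorem Q19076 : ∀ i, i < 19076 → P i := stepQ 19075 Q19075 (allL N19075 (tt N37549 D61667) (tt N36365 F318851) (tt N37532 (iv2 F96212)) (tt N37537 (iv3 F96224)) (tt N37547 (iv4 F96247)) (tt N37550 D61669) (tt N9367 (iv6 D29229)) (tt N37551 D61670))
theorem Q19077 : ∀ i, i < 19077 → P i := stepQ 19076 Q19076 (allL N19076 (tt N10248 F50561) (tt N18962 F50562) (tt N9372 F46884) (tt N37538 (iv3 F96225)) (tt N37548 (iv4 F96249)) (tt N9369 F46885) (tt N37552 D61671) (tt N9367 (iv7 D29230)))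
theorem Q19078 : ∀ i, i < 19078 → P i := stepQ 19077 Q19077 (allL N19077 (tt N10548 F46887) (tt N10548 (iv0 F46889)) (tt N10565 (iv2 F50610)) (tt N37539 (iv3 F96228)) (tt N37553 D61672) (tt N9368 (iv5 D29233)) (tt N37550 (iv6 F96251)) (tt N10565 F50609))
theorem Q19079 : ∀ i, i < 19079 → P i := stepQ 19078 Q19078 (allL N19078 (tt N15225 F46899) (tt N17178 (iv0 F46900)) (tt N17176 F50607) (tt N21945 (iv3 F52249)) (tt N9370 (iv4 D29237)) (tt N37554 D61673) (tt N16131 (iv6 F50597)) (tt N17175 (iv7 F50606)))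
theorem Q19080 : ∀ i, i < 19080 → P i := stepQ 19079 Q19079 (allL N19079 (tt N30531 F95771) (tt N37492 (iv0 F96132)) (tt N36426 (iv2 F94567)) (tt N9372 F46902) (tt N37555 D61674) (tt N9370 (iv5 D29238)) (tt N37556 D61675) (tt N36424 (iv7 F94560)))
theorem Q19081 : ∀ i, i < 19081 → P i := stepQ 19080 Q19080 (allL N19080 (tt N25187 F310648) (tt N37540 F96235) (tt N37543 (iv2 F96238)) (tt N21946 (iv3 F52252)) (tt N37557 D61676) (tt N9371 (iv5 D29239)) (tt N37558 D61677) (tt N21997 (iv7 F52339)))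
theorem Q19082 : ∀ i, i < 19082 → P i := stepQ 19081 Q19081 (allL N19081 (tt N37544 (iv1 F96245)) (tt N23577 F314519) (tt N37548 (iv2 F96248)) (tt N37559 D61678) (tt N9372 (iv4 D29240)) (tt N24058 F330826) (tt N37560 D61680) (tt N37531 (iv7 F96211)))
theorem Q19083 : ∀ i, i < 19083 → P i := stepQ 19082 Q19082 (allL N19082 (tt N37526 F210511) (tt N37561 D61682) (tt N37552 (iv2 F96252)) (tt N37556 (iv3 F96262)) (tt N37560 (iv4 F96265)) (tt N37552 (iv5 F96253)) (tt N9372 (iv6 D29241)) (tt N37562 D61683))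
theorem Q19084 : ∀ i, i < 19084 → P i := stepQ 19083 Q19083 (allL N19083 (tt N9378 (iv1 F46910)) (tt N9373 (iv0 D29250)) (tt N9374 (iv2 F46909)) (tt N36427 F94570) (tt N37563 D61684) (tt N11151 (iv5 F50432)) (tt N37564 D61685) (tt N9375 F46911))
theorem Q19085 : ∀ i, i < 19085 → P i := stepQ 19084 Q19084 (allL N19084 (tt N37565 D61686) (tt N37566 D61687) (tt N9376 F46914) (tt N37567 D61688) (tt N9373 (iv4 D29251)) (tt N37568 D61689) (tt N37569 D61690) (tt N30681 (iv7 F79182)))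
theorem Q19086 : ∀ i, i < 19086 → P i := stepQ 19085 Q19085 (allL N19085 (tt N37570 D61691) (tt N37571 D61692) (tt N9377 F46915) (tt N11142 F46916) (tt N37569 (iv4 F96281)) (tt N10651 F46917) (tt N9373 (iv6 D29252)) (tt N37572 D61693))
theorem Q19087 : ∀ i, i < 19087 → P i := stepQ 19086 Q19086 (allL N19086 (tt N37509 (iv1 F96301)) (tt N30679 (iv0 F96293)) (tt N37573 D61696) (tt N9374 (iv3 D29253)) (tt N37574 D61697) (tt N20947 (iv5 F50559)) (tt N37575 D61698) (tt N21573 (iv7 F51529)))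
theorem Q19088 : ∀ i, i < 19088 → P i := stepQ 19087 Q19087 (allL N19087 (tt N37576 D61699) (tt N37577 D61700) (tt N37563 (iv2 F96266)) (tt N37578 D61701) (tt N9374 (iv4 D29254)) (tt N37579 D61702) (tt N37580 D61703) (tt N21581 (iv7 F51541)))
theorem Q19089 : ∀ i, i < 19089 → P i := stepQ 19088 Q19088 (allL N19088 (tt N37581 D61704) (tt N37582 D61705) (tt N37564 (iv2 F96268)) (tt N37575 (iv3 F96296)) (tt N37580 (iv4 F96302)) (tt N20953 (iv5 F50560)) (tt N9374 (iv6 D29255)) (tt N37583 D61706))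
theorem Q19090 : ∀ i, i < 19090 → P i := stepQ 19089 Q19089 (allL N19089 (tt N32801 (iv1 F83564)) (tt N36430 F94582) (tt N36428 F94575) (tt N9375 (iv3 D29256)) (tt N37584 D61707) (tt N17008 F46918) (tt N37585 D61708) (tt N36427 (iv7 F94571)))
theorem Q19091 : ∀ i, i < 19091 → P i := stepQ 19090 Q19090 (allL N19090 (tt N37577 (iv1 F96299)) (tt N37576 F96298) (tt N21581 (iv2 F51540)) (tt N24609 (iv3 F311969)) (tt N9375 (iv4 D29257)) (tt N37586 D61710) (tt N37587 D61711) (tt N37563 (iv7 F96267)))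
theorem Q19092 : ∀ i, i < 19092 → P i := stepQ 19091 Q19091 (allL N19091 (tt N37588 D61712) (tt N30687 F184623) (tt N21579 (iv2 F51538)) (tt N37585 (iv3 F96307)) (tt N37587 (iv4 F96309)) (tt N10654 F46919) (tt N9375 (iv6 D29258)) (tt N37589 D61714))
theorem Q19093 : ∀ i, i < 19093 → P i := stepQ 19092 Q19092 (allL N19092 (tt N30681 (iv1 F79184)) (tt N9376 (iv0 D29259)) (tt N37565 (iv2 F96273)) (tt N37590 D61715) (tt N37591 D61716) (tt N37592 D61717) (tt N37593 D61718) (tt N37566 (iv7 F96275)))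
theorem Q19094 : ∀ i, i < 19094 → P i := stepQ 19093 Q19093 (allL N19093 (tt N9376 (iv1 D29260)) (tt N30681 F79183) (tt N37566 F96277) (tt N37594 D61719) (tt N33838 (iv4 F85858)) (tt N37595 D61720) (tt N37596 D61721) (tt N37565 F96272))
theorem Q19095 : ∀ i, i < 19095 → P i := stepQ 19094 Q19094 (allL N19094 (tt N37597 D61722) (tt N37598 D61723) (tt N37599 D61724) (tt N9376 (iv3 D29261)) (tt N9383 F46920) (tt N37600 D61725) (tt N24479 F306582) (tt N19324 (iv7 F47332)))
theorem Q19096 : ∀ i, i < 19096 → P i := stepQ 19095 Q19095 (allL N19095 (tt N37601 D61727) (tt N37602 D61728) (tt N37568 (iv2 F96279)) (tt N37600 (iv3 F96320)) (tt N37603 D61729) (tt N9376 (iv5 D29262)) (tt N37604 D61730) (tt N37605 D61731))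
theorem Q19097 : ∀ i, i < 19097 → P i := stepQ 19096 Q19096 (allL N19096 (tt N37606 D61732) (tt N37607 D61733) (tt N37569 (iv2 F96280)) (tt N24479 (iv3 F304568)) (tt N9377 F46921) (tt N37608 D61734) (tt N9376 (iv6 D29263)) (tt N37609 D61735))
theorem Q19098 : ∀ i, i < 19098 → P i := stepQ 19097 Q19097 (allL N19097 (tt N37566 (iv1 F96274)) (tt N37565 F96271) (tt N30681 (iv2 F79181)) (tt N19324 (iv3 F47331)) (tt N9378 F46922) (tt N37605 (iv5 F96333)) (tt N37610 D61736) (tt N9376 (iv7 D29264)))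
theorem Q19099 : ∀ i, i < 19099 → P i := stepQ 19098 Q19098 (allL N19098 (tt N37572 (iv1 F96289)) (tt N9377 (iv0 D29265)) (tt N37570 (iv2 F155210)) (tt N37611 D61738) (tt N34764 (iv4 F305984)) (tt N34996 F303905) (tt N37612 D61741) (tt N37571 (iv7 F155209)))
theorem Q19100 : ∀ i, i < 19100 → P i := stepQ 19099 Q19099 (allL N19099 (tt N9377 (iv1 D29266)) (tt N37572 F96288) (tt N37571 (iv2 F155208)) (tt N28037 (iv3 F305568)) (tt N24606 (iv4 F305985)) (tt N34997 F303908) (tt N37613 D61746) (tt N37570 (iv7 F155211)))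
theorem Q19101 : ∀ i, i < 19101 → P i := stepQ 19100 Q19100 (allL N19100 (tt N37571 (iv1 F96282)) (tt N37570 F96287) (tt N37572 (iv2 F96284)) (tt N9387 F46923) (tt N37609 (iv4 F96334)) (tt N10663 F46924) (tt N37614 D61747) (tt N9377 (iv7 D29267)))
theorem Q19102 : ∀ i, i < 19102 → P i := stepQ 19101 Q19101 (allL N19101 (tt N37615 D61748) (tt N37616 D61749) (tt N30682 (iv2 F79185)) (tt N9388 F46925) (tt N37610 (iv4 F96335)) (tt N33903 (iv5 F86019)) (tt N9378 (iv6 D29268)) (tt N37614 (iv7 F96341)))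
theorem Q19103 : ∀ i, i < 19103 → P i := stepQ 19102 Q19102 (allL N19102 (tt N22816 (iv1 F54477)) (tt N22181 (iv0 F52640)) (tt N36459 (iv2 F94660)) (tt N37022 (iv3 F95415)) (tt N9379 (iv4 D29272)) (tt N24271 F310263) (tt N37617 D61751) (tt N19506 (iv7 F47833)))
theorem Q19104 : ∀ i, i < 19104 → P i := stepQ 19103 Q19103 (allL N19103 (tt N37618 D61752) (tt N37619 D61753) (tt N36460 (iv2 F94662)) (tt N9380 F46927) (tt N37617 (iv4 F96342)) (tt N20926 (iv5 F49891)) (tt N9379 (iv6 D29273)) (tt N37620 D61754))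
theorem Q19105 : ∀ i, i < 19105 → P i := stepQ 19104 Q19104 (allL N19104 (tt N19504 (iv1 F47825)) (tt N9380 (iv0 D29274)) (tt N19502 (iv2 F182258)) (tt N30689 F237444) (tt N37228 (iv4 F102701)) (tt N37621 D61758) (tt N37622 D61759) (tt N19503 F182257))
theorem Q19106 : ∀ i, i < 19106 → P i := stepQ 19105 Q19105 (allL N19105 (tt N9380 (iv1 D29275)) (tt N19504 F47824) (tt N19503 F182256) (tt N37582 F323850) (tt N37229 (iv4 F101354)) (tt N37623 D61763) (tt N37624 D61764) (tt N19502 (iv7 F182259)))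
theorem Q19107 : ∀ i, i < 19107 → P i := stepQ 19106 Q19106 (allL N19106 (tt N19503 (iv1 F47820)) (tt N19502 F47823) (tt N19504 (iv2 F47821)) (tt N37620 (iv3 F96343)) (tt N37030 (iv4 F95420)) (tt N20929 (iv5 F49895)) (tt N19510 (iv6 F47837)) (tt N9380 (iv7 D29276)))
theorem Q19108 : ∀ i, i < 19108 → P i := stepQ 19107 Q19107 (allL N19107 (tt N19463 (iv1 F54235)) (tt N19460 (iv0 F54226)) (tt N9381 (iv2 D29279)) (tt N19505 (iv3 F47827)) (tt N37625 D61765) (tt N18221 F46928) (tt N37626 D61766) (tt N19499 (iv7 F47814)))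
theorem Q19109 : ∀ i, i < 19109 → P i := stepQ 19108 Q19108 (allL N19108 (tt N21981 F307957) (tt N37627 D61767) (tt N37625 (iv2 F96348)) (tt N23053 (iv3 F309935)) (tt N9381 (iv4 D29280)) (tt N37628 D61768) (tt N37629 D61769) (tt N19500 (iv7 F47818)))
theorem Q19110 : ∀ i, i < 19110 → P i := stepQ 19109 Q19109 (allL N19109 (tt N37630 D61770) (tt N37631 D61771) (tt N37626 (iv2 F96351)) (tt N9382 F46929) (tt N37629 (iv4 F96355)) (tt N21699 (iv5 F51735)) (tt N9381 (iv6 D29281)) (tt N37632 D61772))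
theorem Q19111 : ∀ i, i < 19111 → P i := stepQ 19110 Q19110 (allL N19110 (tt N19510 (iv1 F47840)) (tt N9382 (iv0 D29282)) (tt N19508 F110515) (tt N37588 (iv3 F184626)) (tt N37223 (iv4 F130949)) (tt N37633 D61776) (tt N37634 D61777) (tt N19509 F110516))
theorem Q19112 : ∀ i, i < 19112 → P i := stepQ 19111 Q19111 (allL N19111 (tt N9382 (iv1 D29283)) (tt N19510 F47839) (tt N19509 (iv2 F110512)) (tt N15257 (iv3 F110513)) (tt N37224 (iv4 F130756)) (tt N18612 F110509) (tt N21745 F305327) (tt N19508 (iv7 F110514)))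
theorem Q19113 : ∀ i, i < 19113 → P i := stepQ 19112 Q19112 (allL N19112 (tt N19509 (iv1 F47835)) (tt N19508 F47838) (tt N19510 (iv2 F47836)) (tt N37632 (iv3 F96356)) (tt N36967 (iv4 F95368)) (tt N21702 (iv5 F51741)) (tt N19504 (iv6 F47822)) (tt N9382 (iv7 D29284)))
theorem Q19114 : ∀ i, i < 19114 → P i := stepQ 19113 Q19113 (allL N19113 (tt N19321 (iv1 F47328)) (tt N9383 (iv0 D29285)) (tt N19323 F217657) (tt N37635 D61784) (tt N37636 D61785) (tt N36917 F211043) (tt N37637 D61787) (tt N19322 F217658))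
theorem Q19115 : ∀ i, i < 19115 → P i := stepQ 19114 Q19114 (allL N19114 (tt N9383 (iv1 D29286)) (tt N19321 F47327) (tt N19322 (iv2 F217655)) (tt N37638 D61789) (tt N37639 D61790) (tt N36918 (iv5 F211039)) (tt N37640 D61792) (tt N19323 (iv7 F217656)))
theorem Q19116 : ∀ i, i < 19116 → P i := stepQ 19115 Q19115 (allL N19115 (tt N19323 (iv1 F47330)) (tt N19322 F47329) (tt N9383 (iv2 D29287)) (tt N19513 (iv3 F47842)) (tt N37599 (iv4 F96319)) (tt N19310 (iv5 F47317)) (tt N37641 D61793) (tt N19321 (iv7 F47326)))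
theorem Q19117 : ∀ i, i < 19117 → P i := stepQ 19116 Q19116 (allL N19116 (tt N37642 D61794) (tt N37643 D61795) (tt N37641 (iv2 F96365)) (tt N9384 F46930) (tt N24479 (iv4 F304569)) (tt N22967 F301923) (tt N9383 (iv6 D29288)) (tt N24481 (iv7 F302705)))
theorem Q19118 : ∀ i, i < 19118 → P i := stepQ 19117 Q19117 (allL N19117 (tt N36455 (iv1 F188467)) (tt N36416 (iv0 F188464)) (tt N36453 (iv2 F188414)) (tt N9385 (iv3 D29293)) (tt N27722 (iv4 F303516)) (tt N17468 F300709) (tt N37644 D61810) (tt N19517 (iv7 F47875)))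
theorem Q19119 : ∀ i, i < 19119 → P i := stepQ 19118 Q19118 (allL N19118 (tt N21745 (iv1 F302960)) (tt N37645 D61814) (tt N19516 (iv2 F47874)) (tt N37644 (iv3 F96378)) (tt N23573 (iv4 F301120)) (tt N21092 F50114) (tt N9385 (iv6 D29295)) (tt N37646 D61815))
theorem Q19120 : ∀ i, i < 19120 → P i := stepQ 19119 Q19119 (allL N19119 (tt N10670 (iv1 F301134)) (tt N21534 (iv0 F301136)) (tt N21545 (iv2 F301132)) (tt N9386 (iv3 D29296)) (tt N17161 (iv4 F301138)) (tt N17467 F298478) (tt N37647 D61820) (tt N17159 F303814))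
theorem Q19121 : ∀ i, i < 19121 → P i := stepQ 19120 Q19120 (allL N19120 (tt N37648 D61824) (tt N37622 (iv0 F104518)) (tt N19518 (iv2 F47879)) (tt N37647 (iv3 F96381)) (tt N23578 (iv4 F301139)) (tt N10463 F315624) (tt N9386 (iv6 D29298)) (tt N33793 F315625))
theorem Q19122 : ∀ i, i < 19122 → P i := stepQ 19121 Q19121 (allL N19121 (tt N19521 (iv1 F47886)) (tt N19520 F47885) (tt N19519 (iv2 F47880)) (tt N37614 (iv3 F96340)) (tt N19333 (iv4 F47347)) (tt N33905 (iv5 F86042)) (tt N9387 (iv6 D29299)) (tt N9388 F46936))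
theorem Q19123 : ∀ i, i < 19123 → P i := stepQ 19122 Q19122 (allL N19122 (tt N19519 (iv1 F47884)) (tt N9388 (iv0 D29300)) (tt N19520 (iv2 F208030)) (tt N37649 D61828) (tt N19643 F207985) (tt N10134 F315196) (tt N37650 D61831) (tt N19521 (iv7 F208033)))
theorem Q19124 : ∀ i, i < 19124 → P i := stepQ 19123 Q19123 (allL N19123 (tt N9388 (iv1 D29301)) (tt N19519 F47883) (tt N19521 F208034) (tt N37651 D61833) (tt N19644 F208005) (tt N10130 F314102) (tt N37652 D61836) (tt N19520 F208035))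
theorem Q19125 : ∀ i, i < 19125 → P i := stepQ 19124 Q19124 (allL N19124 (tt N15730 (iv1 F46938)) (tt N9389 (iv0 D29302)) (tt N19675 (iv2 F48133)) (tt N9431 (iv3 F46939)) (tt N19553 (iv4 F47965)) (tt N15279 F46937) (tt N37653 D61837) (tt N18730 (iv7 F46940)))
theorem Q19126 : ∀ i, i < 19126 → P i := stepQ 19125 Q19125 (allL N19125 (tt N9389 (iv1 D29303)) (tt N15730 F46941) (tt N18730 (iv2 F46942)) (tt N18677 (iv3 F47119)) (tt N19554 (iv4 F47968)) (tt N16264 F46943) (tt N37654 D61838) (tt N19675 (iv7 F48134)))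
theorem Q19127 : ∀ i, i < 19127 → P i := stepQ 19126 Q19126 (allL N19126 (tt N19353 (iv1 F47398)) (tt N37344 (iv0 F95849)) (tt N31381 (iv2 F80551)) (tt N37655 D61839) (tt N9389 (iv4 D29304)) (tt N37656 D61840) (tt N37657 D61841) (tt N22672 (iv7 F53562)))
theorem Q19128 : ∀ i, i < 19128 → P i := stepQ 19127 Q19127 (allL N19127 (tt N37658 D61842) (tt N37659 D61843) (tt N31382 (iv2 F80556)) (tt N9394 F46944) (tt N37657 (iv4 F96400)) (tt N29853 (iv5 F77457)) (tt N9389 (iv6 D29305)) (tt N37660 D61844))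
theorem Q19129 : ∀ i, i < 19129 → P i := stepQ 19128 Q19128 (allL N19128 (tt N14961 F46946) (tt N14954 F46947) (tt N18741 F46945) (tt N37661 D61845) (tt N9391 (iv4 D29306)) (tt N37662 D61846) (tt N37663 D61847) (tt N30005 (iv7 F77769)))
theorem Q19130 : ∀ i, i < 19130 → P i := stepQ 19129 Q19129 (allL N19129 (tt N37664 D61848) (tt N37665 D61849) (tt N18742 F46949) (tt N18666 F46950) (tt N37663 (iv4 F96408)) (tt N16144 F46951) (tt N9391 (iv6 D29307)) (tt N37666 D61850))
theorem Q19131 : ∀ i, i < 19131 → P i := stepQ 19130 Q19130 (allL N19130 (tt N14954 F46953) (tt N14961 F46954) (tt N30005 (iv2 F77768)) (tt N37667 D61851) (tt N9392 (iv4 D29308)) (tt N37668 D61852) (tt N36180 (iv6 F94040)) (tt N18741 F46952))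
theorem Q19132 : ∀ i, i < 19132 → P i := stepQ 19131 Q19131 (allL N19131 (tt N9397 (iv1 F46956)) (tt N9393 (iv0 D29309)) (tt N19395 (iv2 F47527)) (tt N37669 D61853) (tt N15000 F46955) (tt N37670 D61854) (tt N37671 D61855) (tt N29954 (iv7 F77679)))
theorem Q19133 : ∀ i, i < 19133 → P i := stepQ 19132 Q19132 (allL N19132 (tt N9393 (iv1 D29310)) (tt N9397 F46957) (tt N29954 (iv2 F77678)) (tt N37672 D61856) (tt N15001 F46958) (tt N37673 D61857) (tt N37674 D61858) (tt N19395 (iv7 F47528)))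
theorem Q19134 : ∀ i, i < 19134 → P i := stepQ 19133 Q19133 (allL N19133 (tt N37675 D61859) (tt N37676 D61860) (tt N37677 D61861) (tt N9393 (iv3 D29311)) (tt N37655 (iv4 F96394)) (tt N37678 D61862) (tt N37679 D61863) (tt N30011 (iv7 F77790)))
theorem Q19135 : ∀ i, i < 19135 → P i := stepQ 19134 Q19134 (allL N19134 (tt N15719 F46960) (tt N15044 F46961) (tt N30007 (iv2 F77773)) (tt N37678 (iv3 F96437)) (tt N14977 F46959) (tt N9393 (iv5 D29312)) (tt N37680 D61864) (tt N30012 (iv7 F77793)))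
theorem Q19136 : ∀ i, i < 19136 → P i := stepQ 19135 Q19135 (allL N19135 (tt N37681 D61865) (tt N37682 D61866) (tt N30008 (iv2 F77778)) (tt N37679 (iv3 F96438)) (tt N9394 F46962) (tt N37683 D61867) (tt N9393 (iv6 D29313)) (tt N37684 D61868))
theorem Q19137 : ∀ i, i < 19137 → P i := stepQ 19136 Q19136 (allL N19136 (tt N30010 (iv1 F77789)) (tt N9394 (iv0 D29314)) (tt N18766 F164052) (tt N18674 F164079) (tt N37685 D61871) (tt N32031 (iv5 F164055)) (tt N18674 F76592) (tt N30009 (iv7 F161441)))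
theorem Q19138 : ∀ i, i < 19138 → P i := stepQ 19137 Q19137 (allL N19137 (tt N9394 (iv1 D29315)) (tt N30010 F77788) (tt N30009 (iv2 F161440)) (tt N9428 (iv3 F164056)) (tt N37686 D61874) (tt N15672 (iv5 F164065)) (tt N37687 D61875) (tt N18766 F164053))
theorem Q19139 : ∀ i, i < 19139 → P i := stepQ 19138 Q19138 (allL N19138 (tt N30009 (iv1 F77781)) (tt N18766 F164050) (tt N30010 (iv2 F77784)) (tt N37660 (iv3 F96401)) (tt N37684 (iv4 F96440)) (tt N29855 (iv5 F77460)) (tt N30016 (iv6 F77808)) (tt N9394 (iv7 D29316)))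
theorem Q19140 : ∀ i, i < 19140 → P i := stepQ 19139 Q19139 (allL N19139 (tt N18228 (iv1 F46964)) (tt N9395 (iv0 D29317)) (tt N18774 (iv2 F46971)) (tt N18659 F46965) (tt N18980 F46963) (tt N20352 (iv5 F49174)) (tt N33672 (iv6 F327025)) (tt N30002 (iv7 F77756)))
theorem Q19141 : ∀ i, i < 19141 → P i := stepQ 19140 Q19140 (allL N19140 (tt N9395 (iv1 D29318)) (tt N18228 F46966) (tt N30002 F77754) (tt N9416 F46969) (tt N18981 (iv4 F46968)) (tt N15281 (iv5 F46967)) (tt N37688 D61877) (tt N18774 (iv7 F46970)))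
theorem Q19142 : ∀ i, i < 19142 → P i := stepQ 19141 Q19141 (allL N19141 (tt N19343 F47379) (tt N19341 (iv0 F47375)) (tt N35961 (iv2 F93645)) (tt N32489 F324332) (tt N9395 (iv4 D29319)) (tt N19812 (iv5 F48351)) (tt N37689 D61879) (tt N30003 (iv7 F77758)))
theorem Q19143 : ∀ i, i < 19143 → P i := stepQ 19142 Q19142 (allL N19142 (tt N37690 D61880) (tt N36088 (iv0 F93937)) (tt N35962 (iv2 F93650)) (tt N9398 F46972) (tt N37689 (iv4 F96460)) (tt N37691 D61881) (tt N9395 (iv6 D29320)) (tt N37692 D61882))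
theorem Q19144 : ∀ i, i < 19144 → P i := stepQ 19143 Q19143 (allL N19143 (tt N19563 (iv1 F47982)) (tt N15197 (iv0 F46974)) (tt N30580 F78926) (tt N9399 F46973) (tt N22606 (iv4 F53428)) (tt N9396 (iv5 D29321)) (tt N37691 (iv6 F96466)) (tt N30377 (iv7 F78414)))
theorem Q19145 : ∀ i, i < 19145 → P i := stepQ 19144 Q19144 (allL N19144 (tt N32361 F327329) (tt N37693 D61884) (tt N37694 D61885) (tt N9397 (iv3 D29322)) (tt N32489 F324333) (tt N37695 D61886) (tt N37696 D61887) (tt N30006 (iv7 F77772)))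
theorem Q19146 : ∀ i, i < 19146 → P i := stepQ 19145 Q19145 (allL N19145 (tt N15044 F46976) (tt N15719 F46977) (tt N30012 (iv2 F77791)) (tt N37695 (iv3 F96470)) (tt N14976 F46975) (tt N9397 (iv5 D29323)) (tt N37697 D61888) (tt N30007 (iv7 F77774)))
theorem Q19147 : ∀ i, i < 19147 → P i := stepQ 19146 Q19146 (allL N19146 (tt N37698 D61889) (tt N37699 D61890) (tt N30013 (iv2 F77796)) (tt N37696 (iv3 F96471)) (tt N9398 F46978) (tt N37700 D61891) (tt N9397 (iv6 D29324)) (tt N37701 D61892))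
theorem Q19148 : ∀ i, i < 19148 → P i := stepQ 19147 Q19147 (allL N19147 (tt N30016 (iv1 F77810)) (tt N9398 (iv0 D29325)) (tt N30014 F77800) (tt N9438 F77801) (tt N37702 D61893) (tt N29684 F77802) (tt N37703 D61894) (tt N18668 F77803))
theorem Q19149 : ∀ i, i < 19149 → P i := stepQ 19148 Q19148 (allL N19148 (tt N9398 (iv1 D29326)) (tt N30016 F77809) (tt N18668 F46980) (tt N15788 F46981) (tt N37704 D61895) (tt N15783 F46982) (tt N18645 (iv6 F46979)) (tt N30014 (iv7 F77799)))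
theorem Q19150 : ∀ i, i < 19150 → P i := stepQ 19149 Q19149 (allL N19149 (tt N37705 D61896) (tt N37706 D61897) (tt N30015 (iv2 F77805)) (tt N37691 (iv3 F96465)) (tt N37707 D61898) (tt N9398 (iv5 D29327)) (tt N9399 F46983) (tt N37708 D61899))
theorem Q19151 : ∀ i, i < 19151 → P i := stepQ 19150 Q19150 (allL N19150 (tt N18668 (iv1 F46984)) (tt N30014 F77804) (tt N30016 (iv2 F77807)) (tt N37692 (iv3 F96467)) (tt N37701 (iv4 F96476)) (tt N37708 (iv5 F96495)) (tt N30010 (iv6 F77786)) (tt N9398 (iv7 D29328)))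
theorem Q19152 : ∀ i, i < 19152 → P i := stepQ 19151 Q19151 (allL N19151 (tt N9499 F46987) (tt N16122 F46988) (tt N18906 F46985) (tt N37709 D61900) (tt N9399 (iv4 D29329)) (tt N37463 (iv5 F96043)) (tt N37707 (iv6 F96493)) (tt N18907 F46986))
theorem Q19153 : ∀ i, i < 19153 → P i := stepQ 19152 Q19152 (allL N19152 (tt N9601 F46990) (tt N9573 F46991) (tt N9597 F46992) (tt N37710 D61901) (tt N9400 (iv4 D29330)) (tt N37711 D61902) (tt N37712 D61903) (tt N9598 F46989))
theorem Q19154 : ∀ i, i < 19154 → P i := stepQ 19153 Q19153 (allL N19153 (tt N37713 D61904) (tt N37714 D61905) (tt N31383 (iv2 F80557)) (tt N9402 F46994) (tt N37712 (iv4 F96505)) (tt N21009 (iv5 F50022)) (tt N9400 (iv6 D29331)) (tt N37715 D61906))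
theorem Q19155 : ∀ i, i < 19155 → P i := stepQ 19154 Q19154 (allL N19154 (tt N37716 D61907) (tt N37717 D61908) (tt N37718 D61909) (tt N9401 (iv3 D29332)) (tt N37710 (iv4 F96498)) (tt N37719 D61910) (tt N37720 D61911) (tt N30024 (iv7 F77831)))
theorem Q19156 : ∀ i, i < 19156 → P i := stepQ 19155 Q19155 (allL N19155 (tt N37721 D61912) (tt N37722 D61913) (tt N30019 (iv2 F77816)) (tt N37719 (iv3 F96507)) (tt N14973 F46995) (tt N9401 (iv5 D29333)) (tt N37723 D61914) (tt N30025 (iv7 F77834)))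
theorem Q19157 : ∀ i, i < 19157 → P i := stepQ 19156 Q19156 (allL N19156 (tt N37724 D61915) (tt N37725 D61916) (tt N30020 (iv2 F77819)) (tt N37720 (iv3 F96508)) (tt N9402 F46996) (tt N37726 D61917) (tt N9401 (iv6 D29334)) (tt N37727 D61918))
theorem Q19158 : ∀ i, i < 19158 → P i := stepQ 19157 Q19157 (allL N19157 (tt N30022 (iv1 F77826)) (tt N9402 (iv0 D29335)) (tt N18822 F100202) (tt N18699 F168066) (tt N37728 D61921) (tt N37729 D61922) (tt N18707 F78436) (tt N30021 (iv7 F100245)))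
theorem Q19159 : ∀ i, i < 19159 → P i := stepQ 19158 Q19158 (allL N19158 (tt N9402 (iv1 D29336)) (tt N30022 F77825) (tt N30021 (iv2 F100243)) (tt N9449 (iv3 F100214)) (tt N37730 D61925) (tt N36238 (iv5 F100216)) (tt N37731 D61927) (tt N18822 F100203))
theorem Q19160 : ∀ i, i < 19160 → P i := stepQ 19159 Q19159 (allL N19159 (tt N30021 (iv1 F77821)) (tt N18822 (iv0 F100246)) (tt N30022 (iv2 F77822)) (tt N37715 (iv3 F96506)) (tt N37727 (iv4 F96521)) (tt N21012 (iv5 F50025)) (tt N30028 (iv6 F77840)) (tt N9402 (iv7 D29337)))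
theorem Q19161 : ∀ i, i < 19161 → P i := stepQ 19160 Q19160 (allL N19160 (tt N37732 D61928) (tt N37733 D61929) (tt N35963 (iv2 F93652)) (tt N9405 F46997) (tt N19845 (iv4 F48424)) (tt N29518 (iv5 F76579)) (tt N9403 (iv6 D29338)) (tt N37734 D61930))
theorem Q19162 : ∀ i, i < 19162 → P i := stepQ 19161 Q19161 (allL N19161 (tt N37735 D61931) (tt N37736 D61932) (tt N37737 D61933) (tt N9404 (iv3 D29339)) (tt N19843 (iv4 F48419)) (tt N37738 D61934) (tt N37739 D61935) (tt N30018 (iv7 F77815)))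
theorem Q19163 : ∀ i, i < 19163 → P i := stepQ 19162 Q19162 (allL N19162 (tt N37722 (iv1 F96515)) (tt N37721 F96512) (tt N30025 (iv2 F77832)) (tt N37738 (iv3 F96533)) (tt N14971 F46998) (tt N9404 (iv5 D29340)) (tt N37740 D61936) (tt N30019 (iv7 F77817)))
theorem Q19164 : ∀ i, i < 19164 → P i := stepQ 19163 Q19163 (allL N19163 (tt N35690 F332790) (tt N37741 D61938) (tt N30026 (iv2 F77835)) (tt N37739 (iv3 F96534)) (tt N9405 F46999) (tt N32287 (iv5 F332798)) (tt N9404 (iv6 D29341)) (tt N37742 D61940))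
theorem Q19165 : ∀ i, i < 19165 → P i := stepQ 19164 Q19164 (allL N19164 (tt N30028 (iv1 F77843)) (tt N9405 (iv0 D29342)) (tt N30027 (iv2 F103379)) (tt N9456 (iv3 F168030)) (tt N37743 D61943) (tt N18087 (iv5 F77844)) (tt N37744 D61944) (tt N18848 (iv7 F168033)))
theorem Q19166 : ∀ i, i < 19166 → P i := stepQ 19165 Q19165 (allL N19165 (tt N9405 (iv1 D29343)) (tt N30028 F77842) (tt N18848 (iv2 F168032)) (tt N18707 (iv3 F168036)) (tt N37745 D61947) (tt N18088 F78376) (tt N18699 (iv6 F78377)) (tt N30027 (iv7 F103380)))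
theorem Q19167 : ∀ i, i < 19167 → P i := stepQ 19166 Q19166 (allL N19166 (tt N18848 F168038) (tt N30027 F77841) (tt N30028 (iv2 F77838)) (tt N37734 (iv3 F96532)) (tt N37742 (iv4 F96536)) (tt N29523 (iv5 F76594)) (tt N30022 (iv6 F77823)) (tt N9405 (iv7 D29344)))
theorem Q19168 : ∀ i, i < 19168 → P i := stepQ 19167 Q19167 (allL N19167 (tt N37746 D61948) (tt N37747 D61949) (tt N37748 D61950) (tt N9406 (iv3 D29345)) (tt N35978 (iv4 F93705)) (tt N30421 F322879) (tt N37749 D61952) (tt N30032 (iv7 F77852)))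
theorem Q19169 : ∀ i, i < 19169 → P i := stepQ 19168 Q19168 (allL N19168 (tt N37750 D61953) (tt N36913 (iv0 F95331)) (tt N30030 (iv2 F77847)) (tt N30421 F322878) (tt N14968 F47000) (tt N9406 (iv5 D29346)) (tt N30420 (iv6 F324328)) (tt N30033 (iv7 F77855)))
theorem Q19170 : ∀ i, i < 19170 → P i := stepQ 19169 Q19169 (allL N19169 (tt N37728 (iv1 F103752)) (tt N37730 (iv0 F103751)) (tt N30031 (iv2 F77850)) (tt N37749 (iv3 F96549)) (tt N15031 F47001) (tt N37751 D61957) (tt N9406 (iv6 D29347)) (tt N37752 D61958))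
theorem Q19171 : ∀ i, i < 19171 → P i := stepQ 19170 Q19170 (allL N19170 (tt N37753 D61959) (tt N37754 D61960) (tt N37755 D61961) (tt N9407 (iv3 D29348)) (tt N31664 (iv4 F81135)) (tt N37756 D61962) (tt N37757 D61963) (tt N30029 (iv7 F77846)))
theorem Q19172 : ∀ i, i < 19172 → P i := stepQ 19171 Q19171 (allL N19171 (tt N36913 (iv1 F95332)) (tt N37750 F96554) (tt N30033 (iv2 F77853)) (tt N37756 (iv3 F96558)) (tt N14966 F47002) (tt N9407 (iv5 D29349)) (tt N37758 D61964) (tt N30030 (iv7 F77848)))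
theorem Q19173 : ∀ i, i < 19173 → P i := stepQ 19172 Q19172 (allL N19172 (tt N37743 (iv1 F164345)) (tt N37745 (iv0 F164342)) (tt N30034 (iv2 F77856)) (tt N37757 (iv3 F96559)) (tt N15032 F47003) (tt N32029 F327963) (tt N9407 (iv6 D29350)) (tt N37759 D61968))
theorem Q19174 : ∀ i, i < 19174 → P i := stepQ 19173 Q19173 (allL N19173 (tt N37760 D61969) (tt N9408 (iv0 D29351)) (tt N37761 D61970) (tt N37762 D61971) (tt N37763 D61972) (tt N37764 D61973) (tt N37765 D61974) (tt N37766 D61975))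
theorem Q19175 : ∀ i, i < 19175 → P i := stepQ 19174 Q19174 (allL N19174 (tt N9408 (iv1 D29352)) (tt N37760 F96565) (tt N37766 (iv2 F96568)) (tt N37767 D61976) (tt N37768 D61977) (tt N37769 D61978) (tt N37770 D61979) (tt N37761 F96566))
theorem Q19176 : ∀ i, i < 19176 → P i := stepQ 19175 Q19175 (allL N19175 (tt N37761 F211584) (tt N37766 (iv0 F211585)) (tt N9408 (iv2 D29353)) (tt N30037 (iv3 F77858)) (tt N9467 F47004) (tt N37771 D61982) (tt N18717 F47005) (tt N37760 (iv7 F96564)))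
theorem Q19177 : ∀ i, i < 19177 → P i := stepQ 19176 Q19176 (allL N19176 (tt N37772 D61983) (tt N37773 D61984) (tt N37771 (iv2 F96573)) (tt N9409 F47006) (tt N37774 D61985) (tt N9408 (iv5 D29354)) (tt N37775 D61986) (tt N30089 (iv7 F77997)))
theorem Q19178 : ∀ i, i < 19178 → P i := stepQ 19177 Q19177 (allL N19177 (tt N37766 (iv1 F211586)) (tt N37761 F211583) (tt N37760 F96562) (tt N9410 F47007) (tt N9469 F47008) (tt N30089 (iv5 F77996)) (tt N37776 D61987) (tt N9408 (iv7 D29355)))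
theorem Q19179 : ∀ i, i < 19179 → P i := stepQ 19178 Q19178 (allL N19178 (tt N14978 (iv1 F47011)) (tt N9409 (iv0 D29356)) (tt N30040 F77866) (tt N37777 D61988) (tt N14964 F47010) (tt N14954 F47009) (tt N37778 D61989) (tt N30041 (iv7 F77869)))
theorem Q19180 : ∀ i, i < 19180 → P i := stepQ 19179 Q19179 (allL N19179 (tt N9409 (iv1 D29357)) (tt N14978 F47012) (tt N30041 F77872) (tt N37779 D61990) (tt N14959 F47014) (tt N14961 F47013) (tt N37780 D61991) (tt N30040 F77867))
theorem Q19181 : ∀ i, i < 19181 → P i := stepQ 19180 Q19180 (allL N19180 (tt N37781 D61992) (tt N37782 D61993) (tt N30042 (iv2 F77873)) (tt N37775 (iv3 F96574)) (tt N30094 (iv4 F78008)) (tt N18723 F47015) (tt N9409 (iv6 D29358)) (tt N37783 D61994))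
theorem Q19182 : ∀ i, i < 19182 → P i := stepQ 19181 Q19181 (allL N19181 (tt N37784 D61995) (tt N37785 D61996) (tt N30043 (iv2 F77875)) (tt N37776 (iv3 F96576)) (tt N9411 F47016) (tt N37786 D61997) (tt N9410 (iv6 D29359)) (tt N18725 F47017))
theorem Q19183 : ∀ i, i < 19183 → P i := stepQ 19182 Q19182 (allL N19182 (tt N18656 (iv1 F47018)) (tt N9411 (iv0 D29360)) (tt N18727 F103554) (tt N37787 D61999) (tt N37788 D62000) (tt N37789 D62001) (tt N31501 F80786) (tt N18726 F103555))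
theorem Q19184 : ∀ i, i < 19184 → P i := stepQ 19183 Q19183 (allL N19183 (tt N9411 (iv1 D29361)) (tt N18656 F47019) (tt N18726 (iv2 F103552)) (tt N37790 D62003) (tt N37791 D62004) (tt N37792 D62005) (tt N37793 D62006) (tt N18727 (iv7 F103553)))
theorem Q19185 : ∀ i, i < 19185 → P i := stepQ 19184 Q19184 (allL N19184 (tt N18015 F47022) (tt N18014 F47023) (tt N18017 F47020) (tt N19545 (iv3 F47948)) (tt N33100 (iv4 F84079)) (tt N9412 (iv5 D29362)) (tt N37794 D62007) (tt N14759 F47021))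
theorem Q19186 : ∀ i, i < 19186 → P i := stepQ 19185 Q19185 (allL N19185 (tt N19582 (iv1 F47999)) (tt N19923 (iv0 F48591)) (tt N18770 F47024) (tt N37795 D62008) (tt N9413 (iv4 D29363)) (tt N37796 D62009) (tt N37797 D62010) (tt N14760 F47025))
theorem Q19187 : ∀ i, i < 19187 → P i := stepQ 19186 Q19186 (allL N19186 (tt N35995 (iv1 F93749)) (tt N18894 F101876) (tt N18771 F47026) (tt N35966 (iv3 F93663)) (tt N37797 (iv4 F96601)) (tt N19186 F47027) (tt N9413 (iv6 D29364)) (tt N18242 F47028))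
theorem Q19188 : ∀ i, i < 19188 → P i := stepQ 19187 Q19187 (allL N19187 (tt N18780 F47031) (tt N18779 F47032) (tt N9418 F47029) (tt N37798 D62011) (tt N9414 (iv4 D29365)) (tt N37799 D62012) (tt N37800 D62013) (tt N18772 F47030))
theorem Q19189 : ∀ i, i < 19189 → P i := stepQ 19188 Q19188 (allL N19188 (tt N32023 F82064) (tt N32020 (iv0 F82061)) (tt N9419 F47033) (tt N18234 F47034) (tt N37800 (iv4 F96611)) (tt N18124 F47035) (tt N9414 (iv6 D29366)) (tt N37801 D62014))
theorem Q19190 : ∀ i, i < 19190 → P i := stepQ 19189 Q19189 (allL N19189 (tt N9415 (iv1 D29367)) (tt N9719 F47036) (tt N9756 (iv2 F47039)) (tt N19833 (iv3 F48397)) (tt N37802 D62015) (tt N15088 F47038) (tt N9824 (iv6 F47040)) (tt N9755 F47037))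
theorem Q19191 : ∀ i, i < 19191 → P i := stepQ 19190 Q19190 (allL N19190 (tt N37803 D62016) (tt N37804 D62017) (tt N9757 F47041) (tt N28332 F329011) (tt N9415 (iv4 D29368)) (tt N37805 D62019) (tt N28330 F329012) (tt N9759 F47042))
theorem Q19192 : ∀ i, i < 19192 → P i := stepQ 19191 Q19191 (allL N19191 (tt N19561 (iv1 F47976)) (tt N19921 (iv0 F48588)) (tt N18777 F47043) (tt N37806 D62020) (tt N9416 (iv4 D29369)) (tt N37807 D62021) (tt N37808 D62022) (tt N18775 F47044))
theorem Q19193 : ∀ i, i < 19193 → P i := stepQ 19192 Q19192 (allL N19192 (tt N37809 D62023) (tt N37810 D62024) (tt N18778 F47045) (tt N37688 (iv3 F96456)) (tt N37808 (iv4 F96642)) (tt N30434 (iv5 F78541)) (tt N9416 (iv6 D29370)) (tt N37811 D62025))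
theorem Q19194 : ∀ i, i < 19194 → P i := stepQ 19193 Q19193 (allL N19193 (tt N15344 F47050) (tt N15346 (iv0 F47049)) (tt N18659 F47046) (tt N9417 (iv3 D29371)) (tt N37812 D62026) (tt N15657 F47047) (tt N37813 D62027) (tt N18658 F47048))
theorem Q19195 : ∀ i, i < 19195 → P i := stepQ 19194 Q19194 (allL N19194 (tt N19921 (iv1 F48589)) (tt N19561 F47977) (tt N18775 F47051) (tt N37814 D62028) (tt N9417 (iv4 D29372)) (tt N37815 D62029) (tt N37816 D62030) (tt N18777 F47052))
theorem Q19196 : ∀ i, i < 19196 → P i := stepQ 19195 Q19195 (allL N19195 (tt N9433 F47054) (tt N35971 F93677) (tt N18776 F47053) (tt N37813 (iv3 F96654)) (tt N37816 (iv4 F96661)) (tt N29616 (iv5 F76815)) (tt N9417 (iv6 D29373)) (tt N35970 (iv7 F93679)))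
theorem Q19197 : ∀ i, i < 19197 → P i := stepQ 19196 Q19196 (allL N19196 (tt N18772 (iv1 F47055)) (tt N9418 (iv0 D29374)) (tt N18780 F47495) (tt N37817 D62031) (tt N19382 (iv4 F47493)) (tt N37101 (iv5 F95533)) (tt N37818 D62032) (tt N18779 (iv7 F47496)))
theorem Q19198 : ∀ i, i < 19198 → P i := stepQ 19197 Q19197 (allL N19197 (tt N9418 (iv1 D29375)) (tt N18772 F47056) (tt N18779 (iv2 F47498)) (tt N37819 D62033) (tt N19409 (iv4 F47566)) (tt N37102 (iv5 F95537)) (tt N37820 D62034) (tt N18780 F47497))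
theorem Q19199 : ∀ i, i < 19199 → P i := stepQ 19198 Q19198 (allL N19198 (tt N37821 D62035) (tt N37822 D62036) (tt N37823 D62037) (tt N9418 (iv3 D29376)) (tt N9424 F47057) (tt N37824 D62038) (tt N37825 D62039) (tt N18781 F47058))
theorem Q19200 : ∀ i, i < 19200 → P i := stepQ 19199 Q19199 (allL N19199 (tt N37826 D62040) (tt N32987 (iv0 F83832)) (tt N37799 (iv2 F96605)) (tt N37824 (iv3 F96675)) (tt N37827 D62041) (tt N9418 (iv5 D29377)) (tt N37828 D62042) (tt N18782 F47059))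
theorem Q19201 : ∀ i, i < 19201 → P i := stepQ 19200 Q19200 (allL N19200 (tt N37829 D62043) (tt N37830 D62044) (tt N37800 (iv2 F96610)) (tt N37825 (iv3 F96677)) (tt N9419 F47060) (tt N37831 D62045) (tt N9418 (iv6 D29378)) (tt N37832 D62046))
theorem Q19202 : ∀ i, i < 19202 → P i := stepQ 19201 Q19201 (allL N19201 (tt N37801 F96618) (tt N9419 (iv0 D29379)) (tt N32023 (iv2 F170649)) (tt N37833 D62048) (tt N37834 D62049) (tt N31993 F81979) (tt N18738 F80289) (tt N32020 (iv7 F170660)))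
theorem Q19203 : ∀ i, i < 19203 → P i := stepQ 19202 Q19202 (allL N19202 (tt N9419 (iv1 D29380)) (tt N37801 F96617) (tt N32020 (iv2 F170659)) (tt N37835 D62051) (tt N37836 D62052) (tt N31992 (iv5 F81977)) (tt N37837 D62053) (tt N32023 (iv7 F170650)))
theorem Q19204 : ∀ i, i < 19204 → P i := stepQ 19203 Q19203 (allL N19203 (tt N32020 (iv1 F82062)) (tt N32023 F96616) (tt N37801 (iv2 F96612)) (tt N9429 F47061) (tt N37832 (iv4 F96688)) (tt N18130 F47062) (tt N18786 F47063) (tt N9419 (iv7 D29381)))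
theorem Q19205 : ∀ i, i < 19205 → P i := stepQ 19204 Q19204 (allL N19204 (tt N30111 (iv1 F78019)) (tt N19542 (iv0 F47938)) (tt N18665 F47064) (tt N37838 D62054) (tt N9420 (iv4 D29382)) (tt N36831 (iv5 F95244)) (tt N37839 D62055) (tt N18667 F47065))
theorem Q19206 : ∀ i, i < 19206 → P i := stepQ 19205 Q19205 (allL N19205 (tt N37840 D62056) (tt N37841 D62057) (tt N18666 F47066) (tt N9422 F47067) (tt N37839 (iv4 F96700)) (tt N15303 F47068) (tt N9420 (iv6 D29383)) (tt N37703 (iv7 F96483)))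
theorem Q19207 : ∀ i, i < 19207 → P i := stepQ 19206 Q19206 (allL N19206 (tt N37842 D62058) (tt N37843 D62059) (tt N37844 D62060) (tt N9421 (iv3 D29384)) (tt N37838 (iv4 F96697)) (tt N37144 (iv5 F95592)) (tt N37845 D62061) (tt N18749 F47069))
theorem Q19208 : ∀ i, i < 19208 → P i := stepQ 19207 Q19207 (allL N19207 (tt N37846 D62062) (tt N37847 D62063) (tt N18745 F47070) (tt N37845 (iv3 F96712)) (tt N9422 F47071) (tt N37149 (iv5 F95598)) (tt N9421 (iv6 D29385)) (tt N37848 D62064))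
theorem Q19209 : ∀ i, i < 19209 → P i := stepQ 19208 Q19208 (allL N19208 (tt N18748 (iv1 F47076)) (tt N9422 (iv0 D29386)) (tt N18746 (iv2 F76936)) (tt N37849 D62065) (tt N37340 (iv4 F95835)) (tt N29687 (iv5 F76930)) (tt N19338 (iv6 F47359)) (tt N18747 (iv7 F76934)))
theorem Q19210 : ∀ i, i < 19210 → P i := stepQ 19209 Q19209 (allL N19209 (tt N9422 (iv1 D29387)) (tt N18748 F47072) (tt N18747 (iv2 F76965)) (tt N37810 (iv3 F166335)) (tt N37341 (iv4 F95830)) (tt N30501 (iv5 F78691)) (tt N18747 (iv6 F49826)) (tt N18746 F76963))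
theorem Q19211 : ∀ i, i < 19211 → P i := stepQ 19210 Q19210 (allL N19210 (tt N18747 (iv1 F47077)) (tt N18746 (iv0 F47078)) (tt N18748 F47073) (tt N37703 (iv3 F96481)) (tt N37848 (iv4 F96728)) (tt N10180 F47074) (tt N9438 F47075) (tt N9422 (iv7 D29388)))
theorem Q19212 : ∀ i, i < 19212 → P i := stepQ 19211 Q19211 (allL N19211 (tt N37850 D62067) (tt N37851 D62068) (tt N37852 D62069) (tt N9423 (iv3 D29389)) (tt N37667 (iv4 F96417)) (tt N37142 (iv5 F95587)) (tt N36185 (iv6 F94046)) (tt N18743 F47079))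
theorem Q19213 : ∀ i, i < 19213 → P i := stepQ 19212 Q19212 (allL N19212 (tt N18792 (iv1 F47080)) (tt N9424 (iv0 D29390)) (tt N18791 (iv2 F209646)) (tt N37853 D62071) (tt N37854 D62072) (tt N37120 (iv5 F209583)) (tt N37855 D62074) (tt N18790 F209644))
theorem Q19214 : ∀ i, i < 19214 → P i := stepQ 19213 Q19213 (allL N19213 (tt N9424 (iv1 D29391)) (tt N18792 F47084) (tt N18790 F209643) (tt N37856 D62076) (tt N37857 D62077) (tt N37121 (iv5 F209645)) (tt N37858 D62079) (tt N18791 (iv7 F209647)))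
theorem Q19215 : ∀ i, i < 19215 → P i := stepQ 19214 Q19214 (allL N19214 (tt N18791 (iv1 F47085)) (tt N18790 F47083) (tt N9424 (iv2 D29392)) (tt N18759 F47081) (tt N37823 (iv4 F96670)) (tt N37859 D62080) (tt N37860 D62081) (tt N18792 F47082))
theorem Q19216 : ∀ i, i < 19216 → P i := stepQ 19215 Q19215 (allL N19215 (tt N27985 F316295) (tt N37861 D62083) (tt N37859 (iv2 F96743)) (tt N9425 F47086) (tt N37862 D62084) (tt N9424 (iv5 D29393)) (tt N37863 D62085) (tt N18793 F47087))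
theorem Q19217 : ∀ i, i < 19217 → P i := stepQ 19216 Q19216 (allL N19216 (tt N37864 D62086) (tt N37865 D62087) (tt N37860 (iv2 F96748)) (tt N9426 F47088) (tt N37825 (iv4 F96678)) (tt N17482 F320950) (tt N9424 (iv6 D29394)) (tt N37866 D62089))
theorem Q19218 : ∀ i, i < 19218 → P i := stepQ 19217 Q19217 (allL N19217 (tt N37444 (iv1 F162916)) (tt N37447 (iv0 F162887)) (tt N18762 F47089) (tt N37863 (iv3 F96754)) (tt N9557 F47090) (tt N17476 (iv5 F314096)) (tt N9425 (iv6 D29395)) (tt N37867 D62093))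
theorem Q19219 : ∀ i, i < 19219 → P i := stepQ 19218 Q19218 (allL N19218 (tt N18764 (iv1 F47097)) (tt N18763 F47098) (tt N18765 F47093) (tt N37866 (iv3 F96756)) (tt N9429 F47094) (tt N17483 F320954) (tt N18798 F47095) (tt N9426 (iv7 D29399)))
theorem Q19220 : ∀ i, i < 19220 → P i := stepQ 19219 Q19219 (allL N19219 (tt N18676 (iv1 F164066)) (tt N18089 (iv0 F164067)) (tt N18674 (iv2 F164054)) (tt N9427 (iv3 D29400)) (tt N37868 D62101) (tt N15674 F47099) (tt N18766 F47100) (tt N18675 (iv7 F164068)))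
theorem Q19221 : ∀ i, i < 19221 → P i := stepQ 19220 Q19220 (allL N19220 (tt N18955 F79855) (tt N9483 F79856) (tt N18767 F47102) (tt N37869 D62102) (tt N9427 (iv4 D29401)) (tt N17477 (iv5 F322584)) (tt N18767 F47103) (tt N18768 F47104))
theorem Q19222 : ∀ i, i < 19222 → P i := stepQ 19221 Q19221 (allL N19221 (tt N9483 F79857) (tt N18955 F79858) (tt N18768 F47107) (tt N37870 D62108) (tt N9428 (iv4 D29403)) (tt N17478 F320971) (tt N37871 D62109) (tt N18767 F47108))
theorem Q19223 : ∀ i, i < 19223 → P i := stepQ 19222 Q19222 (allL N19222 (tt N19338 F47360) (tt N19338 (iv0 F47358)) (tt N18769 F47109) (tt N37687 (iv3 F164069)) (tt N37871 (iv4 F96805)) (tt N18769 F47110) (tt N9428 (iv6 D29404)) (tt N18769 F47111))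
theorem Q19224 : ∀ i, i < 19224 → P i := stepQ 19223 Q19223 (allL N19223 (tt N18222 (iv1 F47117)) (tt N18223 (iv0 F47116)) (tt N18677 F47118) (tt N9430 (iv3 D29405)) (tt N18933 F47115) (tt N20350 (iv5 F49160)) (tt N36088 (iv6 F93936)) (tt N18678 F47114))
theorem Q19225 : ∀ i, i < 19225 → P i := stepQ 19224 Q19224 (allL N19224 (tt N19777 (iv1 F48284)) (tt N19779 F48290) (tt N18731 F47120) (tt N37872 D62110) (tt N9430 (iv4 D29406)) (tt N37873 D62111) (tt N36107 (iv6 F93958)) (tt N18728 F47121))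
theorem Q19226 : ∀ i, i < 19226 → P i := stepQ 19225 Q19225 (allL N19225 (tt N19779 (iv1 F48289)) (tt N19777 F48285) (tt N18728 F47122) (tt N37874 D62112) (tt N9431 (iv4 D29407)) (tt N37875 D62113) (tt N37876 D62114) (tt N18731 F47123))
theorem Q19227 : ∀ i, i < 19227 → P i := stepQ 19226 Q19226 (allL N19226 (tt N37849 (iv1 F101905)) (tt N37877 D62116) (tt N18729 F47124) (tt N37653 (iv3 F96388)) (tt N37876 (iv4 F96821)) (tt N15283 F47125) (tt N9431 (iv6 D29408)) (tt N37878 D62117))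
theorem Q19228 : ∀ i, i < 19228 → P i := stepQ 19227 Q19227 (allL N19227 (tt N18233 (iv1 F47126)) (tt N9432 (iv0 D29409)) (tt N18734 (iv2 F47370)) (tt N37879 D62118) (tt N19692 (iv4 F48157)) (tt N37043 (iv5 F95449)) (tt N37880 D62119) (tt N18733 (iv7 F47372)))
theorem Q19229 : ∀ i, i < 19229 → P i := stepQ 19228 Q19228 (allL N19228 (tt N9432 (iv1 D29410)) (tt N18233 F47127) (tt N18733 F47371) (tt N36895 (iv3 F95316)) (tt N19340 (iv4 F47366)) (tt N36894 F95313) (tt N37881 D62120) (tt N18734 F47367))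
theorem Q19230 : ∀ i, i < 19230 → P i := stepQ 19229 Q19229 (allL N19229 (tt N37882 D62121) (tt N37883 D62122) (tt N37884 D62123) (tt N9432 (iv3 D29411)) (tt N9435 F47128) (tt N37885 D62124) (tt N37886 D62125) (tt N18735 F47129))
theorem Q19231 : ∀ i, i < 19231 → P i := stepQ 19230 Q19230 (allL N19230 (tt N19791 (iv1 F48324)) (tt N19817 F48362) (tt N35968 (iv2 F93667)) (tt N37885 (iv3 F96842)) (tt N19794 (iv4 F48328)) (tt N9432 (iv5 D29412)) (tt N37887 D62126) (tt N18736 F47130))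
theorem Q19232 : ∀ i, i < 19232 → P i := stepQ 19231 Q19231 (allL N19231 (tt N37888 D62127) (tt N37820 (iv0 F96667)) (tt N35969 (iv2 F93672)) (tt N37886 (iv3 F96844)) (tt N9433 F47131) (tt N37889 D62128) (tt N9432 (iv6 D29413)) (tt N37890 D62129))
theorem Q19233 : ∀ i, i < 19233 → P i := stepQ 19232 Q19232 (allL N19232 (tt N35971 (iv1 F93683)) (tt N9433 (iv0 D29414)) (tt N35970 (iv2 F93680)) (tt N33683 F327564) (tt N37891 D62131) (tt N29653 (iv5 F93682)) (tt N37811 (iv6 F96645)) (tt N18776 F93681))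
theorem Q19234 : ∀ i, i < 19234 → P i := stepQ 19233 Q19233 (allL N19233 (tt N37892 D62132) (tt N37893 D62133) (tt N30584 (iv2 F78938)) (tt N9439 F47132) (tt N37894 D62134) (tt N9433 (iv5 D29415)) (tt N9434 F47133) (tt N21060 (iv7 F50060)))
theorem Q19235 : ∀ i, i < 19235 → P i := stepQ 19234 Q19234 (allL N19234 (tt N18776 (iv1 F47136)) (tt N35970 F93676) (tt N35971 (iv2 F93674)) (tt N9440 F47134) (tt N37890 (iv4 F96846)) (tt N21060 (iv5 F50059)) (tt N18740 F47135) (tt N9433 (iv7 D29416)))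
theorem Q19236 : ∀ i, i < 19236 → P i := stepQ 19235 Q19235 (allL N19235 (tt N30172 (iv1 F78146)) (tt N22602 (iv0 F53423)) (tt N30583 (iv2 F78935)) (tt N37895 D62135) (tt N9434 (iv4 D29417)) (tt N37896 D62136) (tt N37894 (iv6 F96855)) (tt N30585 (iv7 F78941)))
theorem Q19237 : ∀ i, i < 19237 → P i := stepQ 19236 Q19236 (allL N19236 (tt N18759 (iv1 F47137)) (tt N9435 (iv0 D29418)) (tt N18758 (iv2 F97406)) (tt N37897 D62138) (tt N37898 D62139) (tt N37064 (iv5 F97403)) (tt N37899 D62141) (tt N18757 F97405))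
theorem Q19238 : ∀ i, i < 19238 → P i := stepQ 19237 Q19237 (allL N19237 (tt N9435 (iv1 D29419)) (tt N18759 F47141) (tt N18757 F97404) (tt N37900 D62143) (tt N37901 D62144) (tt N37065 (iv5 F97414)) (tt N37902 D62146) (tt N18758 (iv7 F97407)))
theorem Q19239 : ∀ i, i < 19239 → P i := stepQ 19238 Q19238 (allL N19238 (tt N18758 (iv1 F47142)) (tt N18757 F47140) (tt N9435 (iv2 D29420)) (tt N18792 F47138) (tt N37884 (iv4 F96837)) (tt N37903 D62147) (tt N37904 D62148) (tt N18759 F47139))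
theorem Q19240 : ∀ i, i < 19240 → P i := stepQ 19239 Q19239 (allL N19239 (tt N37905 D62149) (tt N34101 (iv0 F313822)) (tt N37903 (iv2 F96866)) (tt N9436 F47143) (tt N11314 F312640) (tt N9435 (iv5 D29421)) (tt N37906 D62152) (tt N18760 F47144))
theorem Q19241 : ∀ i, i < 19241 → P i := stepQ 19240 Q19240 (allL N19240 (tt N37907 D62153) (tt N37858 F359741) (tt N37904 (iv2 F96871)) (tt N9437 F47145) (tt N37886 (iv4 F96845)) (tt N36151 F324737) (tt N9435 (iv6 D29422)) (tt N37908 D62156))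
theorem Q19242 : ∀ i, i < 19242 → P i := stepQ 19241 Q19241 (allL N19241 (tt N37386 (iv1 F102308)) (tt N37390 (iv0 F101403)) (tt N18795 F47146) (tt N37906 (iv3 F96885)) (tt N9555 F47147) (tt N36152 F324679) (tt N9436 (iv6 D29423)) (tt N37909 D62160))
theorem Q19243 : ∀ i, i < 19243 → P i := stepQ 19242 Q19242 (allL N19242 (tt N16726 (iv1 F47152)) (tt N18796 F47153) (tt N18798 F47149) (tt N37908 (iv3 F96887)) (tt N9440 F47150) (tt N33413 F321867) (tt N18765 F47151) (tt N9437 (iv7 D29425)))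
theorem Q19244 : ∀ i, i < 19244 → P i := stepQ 19243 Q19243 (allL N19243 (tt N18993 (iv1 F47158)) (tt N9516 F47162) (tt N18799 F47156) (tt N37910 D62165) (tt N9438 (iv4 D29427)) (tt N37911 D62166) (tt N37848 (iv6 F96729)) (tt N18751 F47157))
theorem Q19245 : ∀ i, i < 19245 → P i := stepQ 19244 Q19244 (allL N19244 (tt N16840 (iv1 F47166)) (tt N9439 (iv0 D29428)) (tt N18800 (iv2 F47222)) (tt N37705 (iv3 F168069)) (tt N33765 F316116) (tt N18827 F47165) (tt N20891 (iv6 F49801)) (tt N18801 (iv7 F47225)))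
theorem Q19246 : ∀ i, i < 19246 → P i := stepQ 19245 Q19245 (allL N19245 (tt N9439 (iv1 D29429)) (tt N16840 F47167) (tt N18801 F47223) (tt N37912 D62169) (tt N33763 F316118) (tt N18847 (iv5 F47168)) (tt N16105 F47169) (tt N18800 F47221))
theorem Q19247 : ∀ i, i < 19247 → P i := stepQ 19246 Q19246 (allL N19246 (tt N33505 (iv1 F313905)) (tt N33502 (iv0 F313907)) (tt N18802 F47170) (tt N37913 D62171) (tt N9439 (iv4 D29430)) (tt N20580 (iv5 F49436)) (tt N9441 F47171) (tt N21063 (iv7 F50067)))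
theorem Q19248 : ∀ i, i < 19248 → P i := stepQ 19247 Q19247 (allL N19247 (tt N25255 (iv1 F312677)) (tt N25254 (iv0 F312665)) (tt N17968 (iv2 F312673)) (tt N9441 (iv3 D29431)) (tt N37895 (iv4 F96856)) (tt N17967 F311456) (tt N37913 (iv6 F96924)) (tt N22666 (iv7 F53531)))
theorem Q19249 : ∀ i, i < 19249 → P i := stepQ 19248 Q19248 (allL N19248 (tt N18830 F47174) (tt N9751 F47175) (tt N9443 F47172) (tt N37914 D62175) (tt N9442 (iv4 D29432)) (tt N37915 D62176) (tt N37916 D62177) (tt N18828 F47173))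
theorem Q19250 : ∀ i, i < 19250 → P i := stepQ 19249 Q19249 (allL N19249 (tt N37917 D62178) (tt N37918 D62179) (tt N9444 F47176) (tt N18236 F47177) (tt N37916 (iv4 F96934)) (tt N20861 (iv5 F49721)) (tt N9442 (iv6 D29433)) (tt N37919 D62180))
theorem Q19251 : ∀ i, i < 19251 → P i := stepQ 19250 Q19250 (allL N19250 (tt N18828 (iv1 F47180)) (tt N9443 (iv0 D29434)) (tt N18830 (iv2 F47179)) (tt N37920 D62181) (tt N9752 F47178) (tt N37826 (iv5 F96679)) (tt N37921 D62182) (tt N9751 F47181))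
theorem Q19252 : ∀ i, i < 19252 → P i := stepQ 19251 Q19251 (allL N19251 (tt N37922 D62183) (tt N37923 D62184) (tt N37924 D62185) (tt N9443 (iv3 D29435)) (tt N9445 F47182) (tt N37925 D62186) (tt N37926 D62187) (tt N18831 F47183))
theorem Q19253 : ∀ i, i < 19253 → P i := stepQ 19252 Q19252 (allL N19252 (tt N36990 (iv1 F95395)) (tt N36993 (iv0 F95397)) (tt N37915 (iv2 F96928)) (tt N37925 (iv3 F96955)) (tt N33102 (iv4 F84085)) (tt N9443 (iv5 D29436)) (tt N37927 D62188) (tt N18832 F47184))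
theorem Q19254 : ∀ i, i < 19254 → P i := stepQ 19253 Q19253 (allL N19253 (tt N37928 D62189) (tt N37929 D62190) (tt N37916 (iv2 F96933)) (tt N37926 (iv3 F96957)) (tt N9444 F47185) (tt N37930 D62191) (tt N9443 (iv6 D29437)) (tt N37931 D62192))
theorem Q19255 : ∀ i, i < 19255 → P i := stepQ 19254 Q19254 (allL N19254 (tt N37919 F96942) (tt N9444 (iv0 D29438)) (tt N37917 (iv2 F202541)) (tt N37932 D62194) (tt N37933 D62195) (tt N37934 D62196) (tt N35976 F93697) (tt N37918 (iv7 F202548)))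
theorem Q19256 : ∀ i, i < 19256 → P i := stepQ 19255 Q19255 (allL N19255 (tt N9444 (iv1 D29439)) (tt N37919 F96941) (tt N37918 (iv2 F202547)) (tt N37935 D62198) (tt N37936 D62199) (tt N37937 D62200) (tt N37938 D62201) (tt N37917 (iv7 F202542)))
theorem Q19257 : ∀ i, i < 19257 → P i := stepQ 19256 Q19256 (allL N19256 (tt N37918 (iv1 F96937)) (tt N37917 (iv0 F96936)) (tt N37919 (iv2 F96938)) (tt N9450 F47186) (tt N37931 (iv4 F96959)) (tt N20868 (iv5 F49734)) (tt N18836 F47187) (tt N9444 (iv7 D29440)))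
theorem Q19258 : ∀ i, i < 19258 → P i := stepQ 19257 Q19257 (allL N19257 (tt N18839 (iv1 F47188)) (tt N9445 (iv0 D29441)) (tt N18838 F207703) (tt N27986 (iv3 F317556)) (tt N37939 D62204) (tt N27985 F316296) (tt N37940 D62206) (tt N18837 F207704))
theorem Q19259 : ∀ i, i < 19259 → P i := stepQ 19258 Q19258 (allL N19258 (tt N9445 (iv1 D29442)) (tt N18839 F47192) (tt N18837 (iv2 F207701)) (tt N37941 D62208) (tt N37942 D62209) (tt N37861 (iv5 F212261)) (tt N18811 F323882) (tt N18838 (iv7 F207702)))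
theorem Q19260 : ∀ i, i < 19260 → P i := stepQ 19259 Q19259 (allL N19259 (tt N18838 (iv1 F47193)) (tt N18837 F47191) (tt N9445 (iv2 D29443)) (tt N18812 F47189) (tt N37924 (iv4 F96950)) (tt N37943 D62212) (tt N37944 D62213) (tt N18839 F47190))
theorem Q19261 : ∀ i, i < 19261 → P i := stepQ 19260 Q19260 (allL N19260 (tt N37012 F208668) (tt N37016 (iv0 F208669)) (tt N37943 (iv2 F96967)) (tt N9446 F47194) (tt N33955 (iv4 F185231)) (tt N9445 (iv5 D29444)) (tt N33954 (iv6 F185310)) (tt N18840 F47195))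
theorem Q19262 : ∀ i, i < 19262 → P i := stepQ 19261 Q19261 (allL N19261 (tt N37945 D62218) (tt N37946 D62219) (tt N37944 (iv2 F96972)) (tt N9447 F47196) (tt N37926 (iv4 F96958)) (tt N37947 D62220) (tt N9445 (iv6 D29445)) (tt N37948 D62221))
theorem Q19263 : ∀ i, i < 19263 → P i := stepQ 19262 Q19262 (allL N19262 (tt N37486 (iv1 F186353)) (tt N17560 F304922) (tt N18817 F47197) (tt N33954 (iv3 F185309)) (tt N9548 F47198) (tt N37949 D62224) (tt N9446 (iv6 D29446)) (tt N37950 D62225))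
theorem Q19264 : ∀ i, i < 19264 → P i := stepQ 19263 Q19263 (allL N19263 (tt N18821 (iv1 F47204)) (tt N9447 (iv0 D29447)) (tt N18818 F49750) (tt N36164 (iv3 F323272)) (tt N9605 F49751) (tt N37951 D62227) (tt N18844 (iv6 F80118)) (tt N18819 F49753))
theorem Q19265 : ∀ i, i < 19265 → P i := stepQ 19264 Q19264 (allL N19264 (tt N9447 (iv1 D29448)) (tt N18821 F47199) (tt N18819 F49747) (tt N37952 D62228) (tt N9606 F49748) (tt N36369 F320875) (tt N36153 (iv6 F322002)) (tt N18818 F49749))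
theorem Q19266 : ∀ i, i < 19266 → P i := stepQ 19265 Q19265 (allL N19265 (tt N36943 (iv1 F95353)) (tt N37953 D62231) (tt N18820 F47200) (tt N37947 (iv3 F96979)) (tt N37954 D62232) (tt N9447 (iv5 D29449)) (tt N37949 (iv6 F96984)) (tt N37955 D62233))
theorem Q19267 : ∀ i, i < 19267 → P i := stepQ 19266 Q19266 (allL N19266 (tt N18819 (iv1 F47205)) (tt N18818 F47206) (tt N18821 F47201) (tt N37948 (iv3 F96980)) (tt N9450 F47202) (tt N37955 (iv5 F97014)) (tt N18845 F47203) (tt N9447 (iv7 D29450)))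
theorem Q19268 : ∀ i, i < 19268 → P i := stepQ 19267 Q19267 (allL N19267 (tt N18701 (iv1 F168072)) (tt N18650 (iv0 F168073)) (tt N18699 F168051) (tt N9448 (iv3 D29451)) (tt N37956 D62237) (tt N37957 D62238) (tt N18848 F47207) (tt N18700 (iv7 F168071)))
theorem Q19269 : ∀ i, i < 19269 → P i := stepQ 19268 Q19268 (allL N19268 (tt N18859 F49207) (tt N9461 F49208) (tt N18823 F47209) (tt N37958 D62239) (tt N9448 (iv4 D29452)) (tt N37959 D62240) (tt N18849 F47210) (tt N18825 F47211))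
theorem Q19270 : ∀ i, i < 19270 → P i := stepQ 19269 Q19269 (allL N19269 (tt N30501 F78694) (tt N29687 (iv0 F76932)) (tt N18824 F47212) (tt N37957 (iv3 F97026)) (tt N37960 D62241) (tt N9448 (iv5 D29453)) (tt N18120 F47213) (tt N18826 F47214))
theorem Q19271 : ∀ i, i < 19271 → P i := stepQ 19270 Q19270 (allL N19270 (tt N9461 F49205) (tt N18859 F49206) (tt N18825 F47216) (tt N37961 D62247) (tt N9449 (iv4 D29455)) (tt N37962 D62248) (tt N37963 D62249) (tt N18823 F47217))
theorem Q19272 : ∀ i, i < 19272 → P i := stepQ 19271 Q19271 (allL N19271 (tt N18348 F47227) (tt N18349 (iv0 F47226)) (tt N18827 F47218) (tt N37731 (iv3 F100197)) (tt N37963 (iv4 F97051)) (tt N18800 F47219) (tt N9449 (iv6 D29456)) (tt N18847 F47220))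
theorem Q19273 : ∀ i, i < 19273 → P i := stepQ 19272 Q19272 (allL N19272 (tt N9451 (iv1 D29457)) (tt N18235 F47228) (tt N18803 F47231) (tt N19817 (iv3 F48359)) (tt N9685 (iv4 F47230)) (tt N19817 (iv5 F48360)) (tt N37964 D62250) (tt N9684 F47229))
theorem Q19274 : ∀ i, i < 19274 → P i := stepQ 19273 Q19273 (allL N19273 (tt N37965 D62251) (tt N37966 D62252) (tt N37967 D62253) (tt N9451 (iv3 D29458)) (tt N9453 F47232) (tt N37968 D62254) (tt N37969 D62255) (tt N18804 F47233))
theorem Q19275 : ∀ i, i < 19275 → P i := stepQ 19274 Q19274 (allL N19274 (tt N36892 (iv1 F95311)) (tt N36895 (iv0 F95318)) (tt N35973 (iv2 F93685)) (tt N37968 (iv3 F97067)) (tt N19800 (iv4 F48340)) (tt N9451 (iv5 D29459)) (tt N37970 D62256) (tt N18805 F47234))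
theorem Q19276 : ∀ i, i < 19276 → P i := stepQ 19275 Q19275 (allL N19275 (tt N37971 D62257) (tt N37972 D62258) (tt N35974 (iv2 F93688)) (tt N37969 (iv3 F97069)) (tt N9452 F47235) (tt N37973 D62259) (tt N9451 (iv6 D29460)) (tt N37974 D62260))
theorem Q19277 : ∀ i, i < 19277 → P i := stepQ 19276 Q19276 (allL N19276 (tt N35977 F93703) (tt N9452 (iv0 D29461)) (tt N35975 (iv2 F202474)) (tt N37975 D62262) (tt N37976 D62263) (tt N18128 F93704) (tt N37977 D62264) (tt N35976 (iv7 F202486)))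
theorem Q19278 : ∀ i, i < 19278 → P i := stepQ 19277 Q19277 (allL N19277 (tt N9452 (iv1 D29462)) (tt N35977 F93701) (tt N35976 (iv2 F202485)) (tt N37978 D62266) (tt N37979 D62267) (tt N18129 F93426) (tt N37917 (iv6 F96935)) (tt N35975 (iv7 F202475)))
theorem Q19279 : ∀ i, i < 19279 → P i := stepQ 19278 Q19278 (allL N19278 (tt N35976 (iv1 F93692)) (tt N35975 (iv0 F93691)) (tt N35977 (iv2 F93698)) (tt N9458 F47236) (tt N37974 (iv4 F97071)) (tt N16050 F47237) (tt N18809 F47238) (tt N9452 (iv7 D29463)))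
theorem Q19280 : ∀ i, i < 19280 → P i := stepQ 19279 Q19279 (allL N19279 (tt N18812 (iv1 F47239)) (tt N9453 (iv0 D29464)) (tt N18811 F95471) (tt N37980 D62268) (tt N35987 F93725) (tt N37905 (iv5 F96873)) (tt N18837 (iv6 F322467)) (tt N18810 (iv7 F95470)))
theorem Q19281 : ∀ i, i < 19281 → P i := stepQ 19280 Q19280 (allL N19280 (tt N9453 (iv1 D29465)) (tt N18812 F47243) (tt N18810 F95472) (tt N37981 D62270) (tt N37982 D62271) (tt N34101 F316283) (tt N37983 D62272) (tt N18811 F95473))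
theorem Q19282 : ∀ i, i < 19282 → P i := stepQ 19281 Q19281 (allL N19281 (tt N18811 (iv1 F47244)) (tt N18810 F47242) (tt N9453 (iv2 D29466)) (tt N18839 F47240) (tt N37967 (iv4 F97062)) (tt N37984 D62273) (tt N37985 D62274) (tt N18812 F47241))
theorem Q19283 : ∀ i, i < 19283 → P i := stepQ 19282 Q19282 (allL N19282 (tt N36953 F95909) (tt N36957 (iv0 F97418)) (tt N37984 (iv2 F97085)) (tt N9454 F47245) (tt N25109 F313371) (tt N9453 (iv5 D29467)) (tt N37986 D62277) (tt N18813 F47246))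
theorem Q19284 : ∀ i, i < 19284 → P i := stepQ 19283 Q19283 (allL N19283 (tt N37987 D62278) (tt N37988 D62279) (tt N37985 (iv2 F97090)) (tt N9455 F47247) (tt N37969 (iv4 F97070)) (tt N11846 F323785) (tt N9453 (iv6 D29468)) (tt N37989 D62281))
theorem Q19285 : ∀ i, i < 19285 → P i := stepQ 19284 Q19284 (allL N19284 (tt N12536 F317140) (tt N33787 F317141) (tt N18842 F47248) (tt N37986 (iv3 F97095)) (tt N9543 F47249) (tt N11833 (iv5 F319400)) (tt N9454 (iv6 D29469)) (tt N35522 F317142))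
theorem Q19286 : ∀ i, i < 19286 → P i := stepQ 19285 Q19285 (allL N19285 (tt N18845 (iv1 F47255)) (tt N9455 (iv0 D29470)) (tt N18843 (iv2 F80120)) (tt N36165 (iv3 F322424)) (tt N9610 F80112) (tt N17480 F320951) (tt N36156 (iv6 F322001)) (tt N18844 (iv7 F80119)))
theorem Q19287 : ∀ i, i < 19287 → P i := stepQ 19286 Q19286 (allL N19286 (tt N9455 (iv1 D29471)) (tt N18845 F47250) (tt N18844 (iv2 F80116)) (tt N37990 D62288) (tt N9611 F80108) (tt N17481 F320952) (tt N18818 F80109) (tt N18843 (iv7 F80122)))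
theorem Q19288 : ∀ i, i < 19288 → P i := stepQ 19287 Q19287 (allL N19287 (tt N18844 (iv1 F47256)) (tt N18843 F47257) (tt N18845 F47252) (tt N37989 (iv3 F97097)) (tt N9458 F47253) (tt N11847 F321962) (tt N18821 F47254) (tt N9455 (iv7 D29473)))
theorem Q19289 : ∀ i, i < 19289 → P i := stepQ 19288 Q19288 (allL N19288 (tt N18868 F79853) (tt N9464 F79854) (tt N18846 F47260) (tt N37991 D62296) (tt N9456 (iv4 D29475)) (tt N11839 F320969) (tt N37992 D62298) (tt N18849 F47261))
theorem Q19290 : ∀ i, i < 19290 → P i := stepQ 19289 Q19289 (allL N19289 (tt N18349 F47265) (tt N18348 (iv0 F47266)) (tt N18847 F47262) (tt N37744 (iv3 F168031)) (tt N37992 (iv4 F97139)) (tt N18801 F47263) (tt N9456 (iv6 D29476)) (tt N18827 F47264))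
theorem Q19291 : ∀ i, i < 19291 → P i := stepQ 19290 Q19290 (allL N19290 (tt N18058 (iv1 F100248)) (tt N18708 (iv0 F100249)) (tt N18707 (iv2 F100195)) (tt N9457 (iv3 D29477)) (tt N37993 D62302) (tt N18132 F47267) (tt N18822 F47268) (tt N18706 F100183))
theorem Q19292 : ∀ i, i < 19292 → P i := stepQ 19291 Q19291 (allL N19291 (tt N9464 F79872) (tt N18868 F79873) (tt N18849 F47270) (tt N37994 D62303) (tt N9457 (iv4 D29478)) (tt N11842 F320970) (tt N18823 F47271) (tt N18846 F47272))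
theorem Q19293 : ∀ i, i < 19293 → P i := stepQ 19292 Q19292 (allL N19292 (tt N18862 (iv1 F47273)) (tt N9459 (iv0 D29479)) (tt N18861 (iv2 F208601)) (tt N37995 D62306) (tt N37996 D62307) (tt N37997 D62308) (tt N37998 D62309) (tt N18860 (iv7 F208607)))
theorem Q19294 : ∀ i, i < 19294 → P i := stepQ 19293 Q19293 (allL N19293 (tt N9459 (iv1 D29480)) (tt N18862 F47277) (tt N18860 F208608) (tt N37999 D62311) (tt N38000 D62312) (tt N38001 D62313) (tt N18850 (iv6 F323358)) (tt N18861 F208609))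
theorem Q19295 : ∀ i, i < 19295 → P i := stepQ 19294 Q19294 (allL N19294 (tt N18861 (iv1 F47278)) (tt N18860 F47276) (tt N9459 (iv2 D29481)) (tt N18851 F47274) (tt N38002 D62315) (tt N24806 F317260) (tt N38003 D62317) (tt N18862 F47275))
theorem Q19296 : ∀ i, i < 19296 → P i := stepQ 19295 Q19295 (allL N19295 (tt N38004 D62318) (tt N38005 D62319) (tt N38002 (iv2 F97163)) (tt N9660 F47279) (tt N9459 (iv4 D29482)) (tt N38006 D62320) (tt N38007 D62321) (tt N18863 F47280))
theorem Q19297 : ∀ i, i < 19297 → P i := stepQ 19296 Q19296 (allL N19296 (tt N37423 (iv1 F209533)) (tt N37427 (iv0 F97474)) (tt N24806 (iv2 F315054)) (tt N9460 F47281) (tt N38008 D62324) (tt N9459 (iv5 D29483)) (tt N24803 F312598) (tt N18864 F47282))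
theorem Q19298 : ∀ i, i < 19298 → P i := stepQ 19297 Q19297 (allL N19297 (tt N38009 D62326) (tt N38010 D62327) (tt N38003 (iv2 F97173)) (tt N9461 F47283) (tt N38007 (iv4 F97186)) (tt N38011 D62328) (tt N9459 (iv6 D29484)) (tt N38012 D62329))
theorem Q19299 : ∀ i, i < 19299 → P i := stepQ 19298 Q19298 (allL N19298 (tt N24813 F308923) (tt N24644 F306082) (tt N18857 F47284) (tt N24803 (iv3 F310378)) (tt N9535 F47285) (tt N38013 D62332) (tt N9460 (iv6 D29485)) (tt N24814 F308924))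
theorem Q19300 : ∀ i, i < 19300 → P i := stepQ 19299 Q19299 (allL N19299 (tt N36925 (iv1 F95339)) (tt N38014 D62334) (tt N18858 F47287) (tt N38011 (iv3 F97192)) (tt N36636 (iv4 F315515)) (tt N9461 (iv5 D29488)) (tt N38013 (iv6 F97197)) (tt N38015 D62336))
theorem Q19301 : ∀ i, i < 19301 → P i := stepQ 19300 Q19300 (allL N19300 (tt N18825 (iv1 F53624)) (tt N18823 (iv0 F53621)) (tt N18859 F47288) (tt N38012 (iv3 F97193)) (tt N9664 F47289) (tt N38015 (iv5 F97210)) (tt N18868 F47290) (tt N9461 (iv7 D29489)))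
theorem Q19302 : ∀ i, i < 19302 → P i := stepQ 19301 Q19301 (allL N19301 (tt N18851 (iv1 F47294)) (tt N9462 (iv0 D29490)) (tt N18850 F208424) (tt N38016 D62338) (tt N38017 D62339) (tt N11297 (iv5 F313035)) (tt N18860 F322875) (tt N11296 (iv7 F314219)))
theorem Q19303 : ∀ i, i < 19303 → P i := stepQ 19302 Q19302 (allL N19302 (tt N9462 (iv1 D29491)) (tt N18851 F47298) (tt N11296 (iv2 F314218)) (tt N38018 D62343) (tt N38019 D62344) (tt N11266 (iv5 F314213)) (tt N38020 D62346) (tt N18850 (iv7 F208423)))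
theorem Q19304 : ∀ i, i < 19304 → P i := stepQ 19303 Q19303 (allL N19303 (tt N18850 (iv1 F47299)) (tt N11296 (iv0 F314216)) (tt N9462 (iv2 D29492)) (tt N18862 F47295) (tt N38021 D62347) (tt N24812 F312952) (tt N38022 D62349) (tt N18851 F47296))
theorem Q19305 : ∀ i, i < 19305 → P i := stepQ 19304 Q19304 (allL N19304 (tt N38023 D62350) (tt N38024 D62351) (tt N38021 (iv2 F97216)) (tt N9665 F47300) (tt N9462 (iv4 D29493)) (tt N38025 D62352) (tt N38026 D62353) (tt N18852 F47301))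
theorem Q19306 : ∀ i, i < 19306 → P i := stepQ 19305 Q19305 (allL N19305 (tt N24420 (iv1 F310674)) (tt N24679 (iv0 F310675)) (tt N24812 (iv2 F310676)) (tt N9463 F47302) (tt N12567 (iv4 F310677)) (tt N9462 (iv5 D29494)) (tt N24822 (iv6 F310679)) (tt N18853 F47303))
theorem Q19307 : ∀ i, i < 19307 → P i := stepQ 19306 Q19306 (allL N19306 (tt N38027 D62358) (tt N38028 D62359) (tt N38022 (iv2 F97225)) (tt N9464 F47304) (tt N38026 (iv4 F97233)) (tt N38029 D62360) (tt N9462 (iv6 D29495)) (tt N38030 D62361))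
theorem Q19308 : ∀ i, i < 19308 → P i := stepQ 19307 Q19307 (allL N19307 (tt N23768 F316004) (tt N38031 D62363) (tt N18866 F47305) (tt N24822 (iv3 F310678)) (tt N9527 F47306) (tt N17989 (iv5 F318188)) (tt N9463 (iv6 D29496)) (tt N24816 (iv7 F310684)))
theorem Q19309 : ∀ i, i < 19309 → P i := stepQ 19308 Q19308 (allL N19308 (tt N11844 (iv1 F320983)) (tt N11720 (iv0 F321984)) (tt N18867 F47308) (tt N38029 (iv3 F97239)) (tt N13353 (iv4 F322052)) (tt N9464 (iv5 D29499)) (tt N17989 F320375) (tt N23809 (iv7 F322035)))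
theorem Q19310 : ∀ i, i < 19310 → P i := stepQ 19309 Q19309 (allL N19309 (tt N18849 (iv1 F79888)) (tt N18846 (iv0 F79885)) (tt N18868 F47309) (tt N38030 (iv3 F97240)) (tt N9669 F47310) (tt N23809 (iv5 F322034)) (tt N18859 F47311) (tt N9464 (iv7 D29500)))
theorem Q19311 : ∀ i, i < 19311 → P i := stepQ 19310 Q19310 (allL N19310 (tt N9466 (iv1 F47319)) (tt N9465 (iv0 D29501)) (tt N9469 (iv2 F47315)) (tt N18869 F47316) (tt N37760 (iv4 F96563)) (tt N19115 F47317) (tt N38032 D62368) (tt N9467 F47318))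
theorem Q19312 : ∀ i, i < 19312 → P i := stepQ 19311 Q19311 (allL N19311 (tt N9469 F213156) (tt N9467 F213157) (tt N9465 (iv2 D29502)) (tt N38033 D62371) (tt N38034 D62372) (tt N38035 D62373) (tt N38036 D62374) (tt N9466 (iv7 F47320)))
theorem Q19313 : ∀ i, i < 19313 → P i := stepQ 19312 Q19312 (allL N19312 (tt N38018 (iv1 F207235)) (tt N38037 D62376) (tt N38038 D62377) (tt N9465 (iv3 D29503)) (tt N38039 D62378) (tt N38040 D62379) (tt N38041 D62380) (tt N38042 D62381))
theorem Q19314 : ∀ i, i < 19314 → P i := stepQ 19313 Q19313 (allL N19313 (tt N38043 D62382) (tt N38044 D62383) (tt N38034 (iv2 F97264)) (tt N38045 D62384) (tt N9465 (iv4 D29504)) (tt N38046 D62385) (tt N38047 D62386) (tt N38048 D62387))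
theorem Q19315 : ∀ i, i < 19315 → P i := stepQ 19314 Q19314 (allL N19314 (tt N38049 D62388) (tt N36920 (iv0 F212099)) (tt N38035 (iv2 F97266)) (tt N38040 (iv3 F97272)) (tt N38050 D62390) (tt N9465 (iv5 D29505)) (tt N38051 D62391) (tt N38052 D62392))
theorem Q19316 : ∀ i, i < 19316 → P i := stepQ 19315 Q19315 (allL N19315 (tt N38053 D62393) (tt N37961 F338384) (tt N38036 (iv2 F97268)) (tt N38041 (iv3 F97273)) (tt N38047 (iv4 F97277)) (tt N38054 D62395) (tt N9465 (iv6 D29506)) (tt N38055 D62396))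
theorem Q19317 : ∀ i, i < 19317 → P i := stepQ 19316 Q19316 (allL N19316 (tt N9467 (iv1 F213152)) (tt N9469 (iv0 F213153)) (tt N9466 F47321) (tt N38042 (iv3 F97274)) (tt N38048 (iv4 F97279)) (tt N38052 (iv5 F97283)) (tt N38056 D62397) (tt N9465 (iv7 D29507)))
theorem Q19318 : ∀ i, i < 19318 → P i := stepQ 19317 Q19317 (allL N19317 (tt N38057 D62398) (tt N37995 (iv0 F208599)) (tt N38058 D62400) (tt N9466 (iv3 D29508)) (tt N38059 D62401) (tt N38060 D62402) (tt N38061 D62403) (tt N38033 (iv7 F97263)))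
theorem Q19319 : ∀ i, i < 19319 → P i := stepQ 19318 Q19318 (allL N19318 (tt N38044 (iv1 F97276)) (tt N38043 F97280) (tt N38048 (iv2 F97278)) (tt N38062 D62404) (tt N9466 (iv4 D29509)) (tt N38063 D62405) (tt N38064 D62406) (tt N38034 (iv7 F97265)))
theorem Q19320 : ∀ i, i < 19320 → P i := stepQ 19319 Q19319 (allL N19319 (tt N36920 (iv1 F212100)) (tt N38049 F97284) (tt N38052 (iv2 F97282)) (tt N38060 (iv3 F97289)) (tt N38065 D62407) (tt N9466 (iv5 D29510)) (tt N38066 D62408) (tt N38035 (iv7 F97267)))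
theorem Q19321 : ∀ i, i < 19321 → P i := stepQ 19320 Q19320 (allL N19320 (tt N37991 F338366) (tt N38067 D62410) (tt N38056 (iv2 F97285)) (tt N38061 (iv3 F97290)) (tt N38064 (iv4 F97293)) (tt N38068 D62411) (tt N9466 (iv6 D29511)) (tt N38069 D62412))
theorem Q19322 : ∀ i, i < 19322 → P i := stepQ 19321 Q19321 (allL N19321 (tt N19114 (iv1 F47327)) (tt N19113 F47328) (tt N9468 F47324) (tt N18880 F47325) (tt N38070 D62423) (tt N9467 (iv5 D29514)) (tt N38071 D62424) (tt N19115 F47326))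
theorem Q19323 : ∀ i, i < 19323 → P i := stepQ 19322 Q19322 (allL N19322 (tt N19115 (iv1 F47329)) (tt N9468 (iv0 D29515)) (tt N19114 F217655) (tt N38072 D62426) (tt N38073 D62427) (tt N37850 (iv5 F211211)) (tt N38074 D62429) (tt N19113 (iv7 F217658)))
theorem Q19324 : ∀ i, i < 19324 → P i := stepQ 19323 Q19323 (allL N19323 (tt N9468 (iv1 D29516)) (tt N19115 F47330) (tt N19113 (iv2 F217657)) (tt N38075 D62431) (tt N38076 D62432) (tt N37851 (iv5 F212087)) (tt N38077 D62434) (tt N19114 F217656))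
theorem Q19325 : ∀ i, i < 19325 → P i := stepQ 19324 Q19324 (allL N19324 (tt N38078 D62435) (tt N38079 D62436) (tt N38070 (iv2 F97298)) (tt N19097 F47331) (tt N9468 (iv4 D29517)) (tt N38080 D62437) (tt N38081 D62438) (tt N19094 F47332))
theorem Q19326 : ∀ i, i < 19326 → P i := stepQ 19325 Q19325 (allL N19325 (tt N38082 D62439) (tt N36554 (iv0 F309700)) (tt N38071 (iv2 F97302)) (tt N9472 F47333) (tt N38081 (iv4 F97312)) (tt N18884 F47334) (tt N9468 (iv6 D29518)) (tt N38083 D62441))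
theorem Q19327 : ∀ i, i < 19327 → P i := stepQ 19326 Q19326 (allL N19326 (tt N38084 D62442) (tt N38085 D62443) (tt N38032 (iv2 F97256)) (tt N9473 F47335) (tt N37776 (iv4 F96577)) (tt N38086 D62444) (tt N9469 (iv6 D29519)) (tt N18885 F47336))
theorem Q19328 : ∀ i, i < 19328 → P i := stepQ 19327 Q19327 (allL N19327 (tt N37997 (iv1 F208618)) (tt N38001 (iv0 F98859)) (tt N38087 D62447) (tt N9470 (iv3 D29520)) (tt N38088 D62448) (tt N9482 F47337) (tt N38089 D62449) (tt N18887 F47338))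
theorem Q19329 : ∀ i, i < 19329 → P i := stepQ 19328 Q19328 (allL N19328 (tt N38090 D62450) (tt N38091 D62451) (tt N18886 F47339) (tt N38089 (iv3 F97330)) (tt N9523 F47340) (tt N23118 (iv5 F314098)) (tt N9470 (iv6 D29521)) (tt N38092 D62453))
theorem Q19330 : ∀ i, i < 19330 → P i := stepQ 19329 Q19329 (allL N19329 (tt N11297 (iv1 F313034)) (tt N11266 (iv0 F314212)) (tt N11294 (iv2 F314215)) (tt N9471 (iv3 D29522)) (tt N13970 (iv4 F312169)) (tt N9515 F47341) (tt N38093 D62458) (tt N11295 F311789))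
theorem Q19331 : ∀ i, i < 19331 → P i := stepQ 19330 Q19330 (allL N19330 (tt N38094 D62459) (tt N38095 D62460) (tt N18888 F47343) (tt N38093 (iv3 F97349)) (tt N9494 F47344) (tt N38096 D62461) (tt N9471 (iv6 D29523)) (tt N38097 D62462))
theorem Q19332 : ∀ i, i < 19332 → P i := stepQ 19331 Q19331 (allL N19331 (tt N18891 (iv1 F47350)) (tt N9472 (iv0 D29524)) (tt N18889 (iv2 F209002)) (tt N38098 D62464) (tt N22037 (iv4 F208983)) (tt N38099 D62466) (tt N38100 D62467) (tt N18890 F209000))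
theorem Q19333 : ∀ i, i < 19333 → P i := stepQ 19332 Q19332 (allL N19332 (tt N9472 (iv1 D29525)) (tt N18891 F47345) (tt N18890 F208998) (tt N38101 D62469) (tt N22038 F208980) (tt N38102 D62471) (tt N38103 D62472) (tt N18889 (iv7 F209003)))
theorem Q19334 : ∀ i, i < 19334 → P i := stepQ 19333 Q19333 (allL N19333 (tt N18890 (iv1 F47351)) (tt N18889 F47352) (tt N18891 F47346) (tt N38083 (iv3 F97313)) (tt N19121 F47347) (tt N18891 F47348) (tt N12137 F302706) (tt N9472 (iv7 D29526)))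
theorem Q19335 : ∀ i, i < 19335 → P i := stepQ 19334 Q19334 (allL N19334 (tt N9473 (iv1 F47353)) (tt N9473 (iv0 D29527)) (tt N18892 (iv2 F98839)) (tt N38104 D62474) (tt N9677 (iv4 F98841)) (tt N23603 (iv5 F304917)) (tt N20589 (iv6 F98842)) (tt N18892 (iv7 F98840)))
theorem Q19336 : ∀ i, i < 19336 → P i := stepQ 19335 Q19335 (allL N19335 (tt N24071 (iv1 F302118)) (tt N24071 (iv0 F302117)) (tt N18893 F47354) (tt N38086 (iv3 F97318)) (tt N11275 F301117) (tt N9473 (iv5 D29528)) (tt N11274 F301118) (tt N18893 F47356))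
theorem Q19337 : ∀ i, i < 19337 → P i := stepQ 19336 Q19336 (allL N19336 (tt N18242 (iv1 F101896)) (tt N18771 (iv0 F101897)) (tt N35995 (iv2 F101878)) (tt N9474 (iv3 D29530)) (tt N38105 D62483) (tt N38106 D62484) (tt N38107 D62485) (tt N18894 (iv7 F76960)))
theorem Q19338 : ∀ i, i < 19338 → P i := stepQ 19337 Q19337 (allL N19337 (tt N9619 (iv1 F98504)) (tt N9619 (iv0 F98503)) (tt N18895 (iv2 F76966)) (tt N38108 D62487) (tt N9474 (iv4 D29531)) (tt N38109 D62488) (tt N36155 F324378) (tt N18895 (iv7 F76961)))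
theorem Q19339 : ∀ i, i < 19339 → P i := stepQ 19338 Q19338 (allL N19338 (tt N19222 F47358) (tt N19222 (iv0 F47360)) (tt N18896 F76964) (tt N38106 (iv3 F97374)) (tt N24122 F306795) (tt N9474 (iv5 D29532)) (tt N19208 F47359) (tt N18896 (iv7 F76962)))
theorem Q19340 : ∀ i, i < 19340 → P i := stepQ 19339 Q19339 (allL N19339 (tt N18827 F47361) (tt N18847 (iv0 F47363)) (tt N18349 (iv2 F76956)) (tt N38107 (iv3 F97377)) (tt N36155 F324377) (tt N14795 F47362) (tt N9474 (iv6 D29533)) (tt N18348 F76959))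
theorem Q19341 : ∀ i, i < 19341 → P i := stepQ 19340 Q19340 (allL N19340 (tt N9644 (iv1 F47369)) (tt N9686 (iv0 F47368)) (tt N19776 F48279) (tt N9475 (iv3 D29534)) (tt N19228 F47366) (tt N11072 F47364) (tt N38110 D62491) (tt N18975 F47365))
theorem Q19342 : ∀ i, i < 19342 → P i := stepQ 19341 Q19341 (allL N19341 (tt N19141 F47375) (tt N35927 (iv0 F93593)) (tt N18978 F47373) (tt N38111 D62492) (tt N9475 (iv4 D29535)) (tt N38111 F97398) (tt N38112 D62493) (tt N18976 F47374))
theorem Q19343 : ∀ i, i < 19343 → P i := stepQ 19342 Q19342 (allL N19342 (tt N38113 D62494) (tt N38114 D62495) (tt N18979 F47376) (tt N38110 (iv3 F97392)) (tt N38112 (iv4 F97425)) (tt N22593 (iv5 F53393)) (tt N9475 (iv6 D29536)) (tt N38115 D62496))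
theorem Q19344 : ∀ i, i < 19344 → P i := stepQ 19343 Q19343 (allL N19343 (tt N35927 (iv1 F93594)) (tt N19141 (iv0 F47379)) (tt N18976 F47377) (tt N38116 D62497) (tt N9476 (iv4 D29537)) (tt N38117 D62498) (tt N16326 F327575) (tt N18978 F47378))
theorem Q19345 : ∀ i, i < 19345 → P i := stepQ 19344 Q19344 (allL N19344 (tt N9513 F47382) (tt N33015 F83885) (tt N9842 F47380) (tt N30055 (iv3 F77905)) (tt N16326 (iv4 F327032)) (tt N9735 F47381) (tt N9476 (iv6 D29538)) (tt N33014 (iv7 F83873)))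
theorem Q19346 : ∀ i, i < 19346 → P i := stepQ 19345 Q19345 (allL N19345 (tt N9706 (iv1 F47383)) (tt N9477 (iv0 D29539)) (tt N18981 (iv2 F47388)) (tt N38118 D62500) (tt N30002 (iv4 F77753)) (tt N38119 D62501) (tt N38120 D62502) (tt N18980 F47389))
theorem Q19347 : ∀ i, i < 19347 → P i := stepQ 19346 Q19346 (allL N19346 (tt N9477 (iv1 D29540)) (tt N9706 F47384) (tt N18980 (iv2 F47386)) (tt N32473 (iv3 F326593)) (tt N18774 F47385) (tt N32465 F326332) (tt N32467 (iv6 F326696)) (tt N18981 (iv7 F47387)))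
theorem Q19348 : ∀ i, i < 19348 → P i := stepQ 19347 Q19347 (allL N19347 (tt N38121 D62506) (tt N38122 D62507) (tt N38123 D62508) (tt N9477 (iv3 D29541)) (tt N9482 F47390) (tt N38124 D62509) (tt N38125 D62510) (tt N18982 F47391))
theorem Q19349 : ∀ i, i < 19349 → P i := stepQ 19348 Q19348 (allL N19348 (tt N35991 (iv1 F93738)) (tt N35965 (iv0 F93660)) (tt N19794 (iv2 F48327)) (tt N38124 (iv3 F97476)) (tt N35968 (iv4 F93668)) (tt N9477 (iv5 D29542)) (tt N38126 D62511) (tt N18983 F47392))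
theorem Q19350 : ∀ i, i < 19350 → P i := stepQ 19349 Q19349 (allL N19349 (tt N38127 D62512) (tt N38128 D62513) (tt N19795 (iv2 F48329)) (tt N38125 (iv3 F97478)) (tt N9478 F47393) (tt N38129 D62514) (tt N9477 (iv6 D29543)) (tt N38130 D62515))
theorem Q19351 : ∀ i, i < 19351 → P i := stepQ 19350 Q19350 (allL N19350 (tt N19798 (iv1 F48338)) (tt N9478 (iv0 D29544)) (tt N19796 F99972) (tt N38131 D62517) (tt N38132 D62518) (tt N31019 F79780) (tt N18937 (iv6 F79781)) (tt N19797 F99973))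
theorem Q19352 : ∀ i, i < 19352 → P i := stepQ 19351 Q19351 (allL N19351 (tt N9478 (iv1 D29545)) (tt N19798 F48337) (tt N19797 (iv2 F99968)) (tt N32288 (iv3 F165642)) (tt N38133 D62521) (tt N31018 (iv5 F79778)) (tt N38134 D62522) (tt N19796 (iv7 F99971)))
theorem Q19353 : ∀ i, i < 19353 → P i := stepQ 19352 Q19352 (allL N19352 (tt N19797 (iv1 F48332)) (tt N19796 F48336) (tt N19798 (iv2 F48335)) (tt N9486 F47394) (tt N38130 (iv4 F97480)) (tt N15595 F47395) (tt N18987 F47396) (tt N9478 (iv7 D29546)))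
theorem Q19354 : ∀ i, i < 19354 → P i := stepQ 19353 Q19353 (allL N19353 (tt N31388 (iv1 F80572)) (tt N19126 F47398) (tt N19551 (iv2 F47962)) (tt N36939 (iv3 F95349)) (tt N9479 (iv4 D29547)) (tt N17736 (iv5 F327940)) (tt N17739 (iv6 F327941)) (tt N18948 F47397))
theorem Q19355 : ∀ i, i < 19355 → P i := stepQ 19354 Q19354 (allL N19354 (tt N38135 D62525) (tt N38136 D62526) (tt N19552 (iv2 F47963)) (tt N9480 F47399) (tt N17739 F328337) (tt N9890 F47400) (tt N9479 (iv6 D29548)) (tt N38137 D62527))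
theorem Q19356 : ∀ i, i < 19356 → P i := stepQ 19355 Q19355 (allL N19355 (tt N18946 F47402) (tt N9480 (iv0 D29549)) (tt N18944 (iv2 F49055)) (tt N38138 D62528) (tt N37846 (iv4 F96719)) (tt N10059 F47401) (tt N19775 (iv6 F48274)) (tt N18945 F49053))
theorem Q19357 : ∀ i, i < 19357 → P i := stepQ 19356 Q19356 (allL N19356 (tt N9480 (iv1 D29550)) (tt N18946 F47403) (tt N18945 (iv2 F49077)) (tt N38114 (iv3 F102014)) (tt N37847 (iv4 F96714)) (tt N22720 (iv5 F53766)) (tt N18945 (iv6 F49049)) (tt N18944 F49075))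
theorem Q19358 : ∀ i, i < 19358 → P i := stepQ 19357 Q19357 (allL N19357 (tt N18945 (iv1 F47407)) (tt N18944 (iv0 F47408)) (tt N18946 F47404) (tt N38137 (iv3 F97493)) (tt N36944 (iv4 F95354)) (tt N9895 F47405) (tt N9517 F47406) (tt N9480 (iv7 D29551)))
theorem Q19359 : ∀ i, i < 19359 → P i := stepQ 19358 Q19358 (allL N19358 (tt N9625 (iv1 F47413)) (tt N9626 F47412) (tt N9481 (iv2 D29552)) (tt N18947 F47409) (tt N36724 (iv4 F95122)) (tt N15820 F47410) (tt N19570 F47988) (tt N9641 F47411))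
theorem Q19360 : ∀ i, i < 19360 → P i := stepQ 19359 Q19359 (allL N19359 (tt N30691 (iv1 F79235)) (tt N30693 (iv0 F79240)) (tt N36724 F95123) (tt N36948 (iv3 F95356)) (tt N9481 (iv4 D29553)) (tt N38139 D62530) (tt N33312 (iv6 F84438)) (tt N18940 F47414))
theorem Q19361 : ∀ i, i < 19361 → P i := stepQ 19360 Q19360 (allL N19360 (tt N18991 (iv1 F47415)) (tt N9482 (iv0 D29554)) (tt N18990 (iv2 F209628)) (tt N38140 D62532) (tt N38141 D62533) (tt N37165 (iv5 F208664)) (tt N38142 D62535) (tt N18989 F209623))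
theorem Q19362 : ∀ i, i < 19362 → P i := stepQ 19361 Q19361 (allL N19361 (tt N9482 (iv1 D29555)) (tt N18991 F47419) (tt N18989 F209620) (tt N38143 D62537) (tt N38144 D62538) (tt N37166 F97469) (tt N38145 D62539) (tt N18990 (iv7 F209629)))
theorem Q19363 : ∀ i, i < 19363 → P i := stepQ 19362 Q19362 (allL N19362 (tt N18990 (iv1 F47420)) (tt N18989 F47418) (tt N9482 (iv2 D29556)) (tt N18952 F47416) (tt N38123 (iv4 F97470)) (tt N38087 (iv5 F97323)) (tt N38146 D62540) (tt N18991 F47417))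
theorem Q19364 : ∀ i, i < 19364 → P i := stepQ 19363 Q19363 (allL N19363 (tt N38147 D62541) (tt N38148 D62542) (tt N38146 (iv2 F97505)) (tt N9483 F47421) (tt N38125 (iv4 F97479)) (tt N38149 D62543) (tt N9482 (iv6 D29557)) (tt N38150 D62544))
theorem Q19365 : ∀ i, i < 19365 → P i := stepQ 19364 Q19364 (allL N19364 (tt N11839 (iv1 F318824)) (tt N11842 (iv0 F318825)) (tt N18954 F47423) (tt N38149 (iv3 F97507)) (tt N23119 (iv4 F318823)) (tt N9483 (iv5 D29560)) (tt N23118 F316545) (tt N23915 (iv7 F318826)))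
theorem Q19366 : ∀ i, i < 19366 → P i := stepQ 19365 Q19365 (allL N19365 (tt N18768 (iv1 F79877)) (tt N18767 (iv0 F79874)) (tt N18955 F47424) (tt N38150 (iv3 F97508)) (tt N9486 F47425) (tt N23915 F320659) (tt N18993 F47426) (tt N9483 (iv7 D29561)))
theorem Q19367 : ∀ i, i < 19367 → P i := stepQ 19366 Q19366 (allL N19366 (tt N19559 (iv1 F164322)) (tt N15476 (iv0 F164323)) (tt N19558 F164115) (tt N9484 (iv3 D29562)) (tt N28061 F325958) (tt N15857 (iv5 F164324)) (tt N18956 F47431) (tt N18958 F47432))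
theorem Q19368 : ∀ i, i < 19368 → P i := stepQ 19367 Q19367 (allL N19367 (tt N9643 F164106) (tt N31732 (iv0 F164107)) (tt N30859 (iv2 F164309)) (tt N9485 (iv3 D29564)) (tt N38151 D62554) (tt N15944 F47436) (tt N38152 D62555) (tt N18956 F47437))
theorem Q19369 : ∀ i, i < 19369 → P i := stepQ 19368 Q19368 (allL N19368 (tt N19775 F48276) (tt N19775 (iv0 F48275)) (tt N18960 F47440) (tt N38152 (iv3 F97533)) (tt N36970 (iv4 F95371)) (tt N18960 F47441) (tt N9485 (iv6 D29566)) (tt N18960 F47442))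
theorem Q19370 : ∀ i, i < 19370 → P i := stepQ 19369 Q19369 (allL N19369 (tt N9488 (iv1 D29568)) (tt N17340 F47447) (tt N18392 (iv2 F50549)) (tt N11481 (iv3 F50498)) (tt N30522 (iv4 F78781)) (tt N21947 (iv5 F52255)) (tt N14810 (iv6 F50554)) (tt N11474 F50495))
theorem Q19371 : ∀ i, i < 19371 → P i := stepQ 19370 Q19370 (allL N19370 (tt N11474 (iv1 F47452)) (tt N18392 (iv0 F50547)) (tt N9488 (iv2 D29569)) (tt N17343 F47444) (tt N15181 F47449) (tt N37478 (iv5 F96070)) (tt N36664 (iv6 F94974)) (tt N17340 F47445))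
theorem Q19372 : ∀ i, i < 19372 → P i := stepQ 19371 Q19371 (allL N19371 (tt N32417 F82869) (tt N21568 (iv0 F51517)) (tt N17341 F47454) (tt N9502 F47455) (tt N9489 (iv4 D29570)) (tt N38153 D62556) (tt N22883 (iv6 F54581)) (tt N17344 F47456))
theorem Q19373 : ∀ i, i < 19373 → P i := stepQ 19372 Q19372 (allL N19372 (tt N38154 D62557) (tt N10604 F54105) (tt N19003 (iv2 F49998)) (tt N22807 (iv3 F54454)) (tt N11172 F47459) (tt N10968 F50773) (tt N9490 (iv6 D29573)) (tt N22867 (iv7 F54548)))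
theorem Q19374 : ∀ i, i < 19374 → P i := stepQ 19373 Q19373 (allL N19373 (tt N20951 (iv1 F50488)) (tt N17010 (iv0 F51128)) (tt N21575 F51533) (tt N9491 (iv3 D29575)) (tt N21575 (iv4 F51531)) (tt N27697 F312922) (tt N20948 F50984) (tt N19002 F49983))
theorem Q19375 : ∀ i, i < 19375 → P i := stepQ 19374 Q19374 (allL N19374 (tt N38155 D62562) (tt N38156 D62563) (tt N22227 (iv2 F52810)) (tt N9494 F47471) (tt N23501 (iv4 F312170)) (tt N21213 (iv5 F50355)) (tt N9493 (iv6 D29582)) (tt N38157 D62564))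
theorem Q19376 : ∀ i, i < 19376 → P i := stepQ 19375 Q19375 (allL N19375 (tt N18974 (iv1 F47475)) (tt N9494 (iv0 D29583)) (tt N18972 F105935) (tt N38158 D62566) (tt N37027 (iv4 F102299)) (tt N38159 D62568) (tt N38160 D62569) (tt N18973 F105936))
theorem Q19377 : ∀ i, i < 19377 → P i := stepQ 19376 Q19376 (allL N19376 (tt N9494 (iv1 D29584)) (tt N18974 F47472) (tt N18973 (iv2 F105933)) (tt N38161 D62571) (tt N37028 (iv4 F102297)) (tt N33807 (iv5 F85700)) (tt N38162 D62573) (tt N18972 (iv7 F105934)))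
theorem Q19378 : ∀ i, i < 19378 → P i := stepQ 19377 Q19377 (allL N19377 (tt N18973 (iv1 F47476)) (tt N18972 F47477) (tt N18974 F47473) (tt N38157 (iv3 F97556)) (tt N38097 (iv4 F97354)) (tt N21215 (iv5 F50358)) (tt N19010 F47474) (tt N9494 (iv7 D29585)))
theorem Q19379 : ∀ i, i < 19379 → P i := stepQ 19378 Q19378 (allL N19378 (tt N9753 (iv1 F47479)) (tt N9495 (iv0 D29586)) (tt N18898 (iv2 F47480)) (tt N22613 F53444) (tt N30452 (iv4 F78592)) (tt N16598 F47478) (tt N20062 F48782) (tt N18897 (iv7 F47481)))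
theorem Q19380 : ∀ i, i < 19380 → P i := stepQ 19379 Q19379 (allL N19379 (tt N9495 (iv1 D29587)) (tt N9753 F47482) (tt N18897 (iv2 F47485)) (tt N9590 (iv3 F47486)) (tt N30451 (iv4 F78589)) (tt N9584 F47484) (tt N38163 D62574) (tt N18898 F47483))
theorem Q19381 : ∀ i, i < 19381 → P i := stepQ 19380 Q19380 (allL N19380 (tt N38164 D62575) (tt N18789 F47488) (tt N30729 (iv2 F79293)) (tt N38165 D62576) (tt N9495 (iv4 D29588)) (tt N38166 D62577) (tt N38167 D62578) (tt N18899 F47487))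
theorem Q19382 : ∀ i, i < 19382 → P i := stepQ 19381 Q19381 (allL N19381 (tt N38168 D62579) (tt N19999 (iv0 F48702)) (tt N30730 (iv2 F79299)) (tt N9500 F47489) (tt N38167 (iv4 F97576)) (tt N38169 D62580) (tt N9495 (iv6 D29589)) (tt N38170 D62581))
theorem Q19383 : ∀ i, i < 19383 → P i := stepQ 19382 Q19382 (allL N19382 (tt N16562 F47494) (tt N16561 F47492) (tt N18927 F47490) (tt N9501 F47491) (tt N19196 F47493) (tt N9496 (iv5 D29590)) (tt N38169 (iv6 F97580)) (tt N19560 (iv7 F47975)))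
theorem Q19384 : ∀ i, i < 19384 → P i := stepQ 19383 Q19383 (allL N19383 (tt N15296 F47501) (tt N16143 F47502) (tt N18904 F47499) (tt N38171 D62582) (tt N9497 (iv4 D29591)) (tt N37461 (iv5 F96038)) (tt N32326 (iv6 F82708)) (tt N18901 F47500))
theorem Q19385 : ∀ i, i < 19385 → P i := stepQ 19384 Q19384 (allL N19384 (tt N11071 (iv1 F47506)) (tt N11065 (iv0 F47505)) (tt N19695 (iv2 F48164)) (tt N9498 (iv3 D29592)) (tt N38172 D62583) (tt N9681 F47503) (tt N38173 D62584) (tt N18903 F47504))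
theorem Q19386 : ∀ i, i < 19386 → P i := stepQ 19385 Q19385 (allL N19385 (tt N16143 F47509) (tt N15296 F47510) (tt N18901 F47507) (tt N38174 D62585) (tt N9498 (iv4 D29593)) (tt N37459 (iv5 F96033)) (tt N38175 D62586) (tt N18904 F47508))
theorem Q19387 : ∀ i, i < 19387 → P i := stepQ 19386 Q19386 (allL N19386 (tt N38176 D62587) (tt N38177 D62588) (tt N18902 F47511) (tt N38173 (iv3 F97590)) (tt N38175 (iv4 F97594)) (tt N15009 F47512) (tt N9498 (iv6 D29594)) (tt N38178 D62589))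
theorem Q19388 : ∀ i, i < 19388 → P i := stepQ 19387 Q19387 (allL N19387 (tt N16122 (iv1 F47515)) (tt N9499 (iv0 D29595)) (tt N18907 (iv2 F47514)) (tt N38179 D62590) (tt N11143 F47513) (tt N37464 (iv5 F96050)) (tt N35825 (iv6 F93331)) (tt N18906 F47516))
theorem Q19389 : ∀ i, i < 19389 → P i := stepQ 19388 Q19388 (allL N19388 (tt N38180 D62591) (tt N38181 D62592) (tt N38182 D62593) (tt N9499 (iv3 D29596)) (tt N38165 (iv4 F97569)) (tt N38183 D62594) (tt N38184 D62595) (tt N18908 F47517))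
theorem Q19390 : ∀ i, i < 19390 → P i := stepQ 19389 Q19389 (allL N19389 (tt N16119 F47521) (tt N16136 F47522) (tt N18925 F47518) (tt N38183 (iv3 F97608)) (tt N16125 F47520) (tt N9499 (iv5 D29597)) (tt N38185 D62596) (tt N18909 F47519))
theorem Q19391 : ∀ i, i < 19391 → P i := stepQ 19390 Q19390 (allL N19390 (tt N38186 D62597) (tt N20805 (iv0 F95002)) (tt N32165 (iv2 F82448)) (tt N38184 (iv3 F97610)) (tt N9500 F47523) (tt N38187 D62598) (tt N9499 (iv6 D29598)) (tt N38188 D62599))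
theorem Q19392 : ∀ i, i < 19392 → P i := stepQ 19391 Q19391 (allL N19391 (tt N32168 (iv1 F82467)) (tt N9500 (iv0 D29599)) (tt N32166 (iv2 F82464)) (tt N22681 (iv3 F82466)) (tt N38189 D62600) (tt N38190 D62601) (tt N38191 D62602) (tt N32167 F82465))
theorem Q19393 : ∀ i, i < 19393 → P i := stepQ 19392 Q19392 (allL N19392 (tt N9500 (iv1 D29600)) (tt N32168 F82461) (tt N32167 (iv2 F82453)) (tt N30241 (iv3 F78234)) (tt N33523 (iv4 F85041)) (tt N19821 (iv5 F48369)) (tt N9808 (iv6 F47524)) (tt N32166 (iv7 F82463)))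
theorem Q19394 : ∀ i, i < 19394 → P i := stepQ 19393 Q19393 (allL N19393 (tt N38192 D62603) (tt N38193 D62604) (tt N30044 (iv2 F77877)) (tt N38169 (iv3 F97579)) (tt N38194 D62605) (tt N9500 (iv5 D29601)) (tt N9501 F47525) (tt N38195 D62606))
theorem Q19395 : ∀ i, i < 19395 → P i := stepQ 19394 Q19394 (allL N19394 (tt N32167 (iv1 F82450)) (tt N32166 F82460) (tt N32168 (iv2 F82457)) (tt N38170 (iv3 F97582)) (tt N38188 (iv4 F97613)) (tt N38195 (iv5 F97624)) (tt N18913 F47526) (tt N9500 (iv7 D29602)))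
theorem Q19396 : ∀ i, i < 19396 → P i := stepQ 19395 Q19395 (allL N19395 (tt N14985 F47529) (tt N14983 F47530) (tt N19131 F47527) (tt N38196 D62607) (tt N9501 (iv4 D29603)) (tt N37722 (iv5 F96517)) (tt N38194 (iv6 F97623)) (tt N19132 F47528))
theorem Q19397 : ∀ i, i < 19397 → P i := stepQ 19396 Q19396 (allL N19396 (tt N16156 F47533) (tt N16153 F47534) (tt N18916 F47531) (tt N38153 (iv3 F97537)) (tt N37463 (iv4 F96044)) (tt N9502 (iv5 D29604)) (tt N38197 D62608) (tt N18914 F47532))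
theorem Q19398 : ∀ i, i < 19398 → P i := stepQ 19397 Q19397 (allL N19397 (tt N32615 F83227) (tt N32451 (iv0 F82868)) (tt N38198 D62609) (tt N9503 (iv3 D29605)) (tt N19400 (iv4 F47544)) (tt N38199 D62610) (tt N38200 D62611) (tt N18915 F47535))
theorem Q19399 : ∀ i, i < 19399 → P i := stepQ 19398 Q19398 (allL N19398 (tt N16153 F47538) (tt N16156 F47539) (tt N18914 F47536) (tt N38199 (iv3 F97634)) (tt N37464 (iv4 F96051)) (tt N9503 (iv5 D29606)) (tt N38201 D62612) (tt N18916 F47537))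
theorem Q19400 : ∀ i, i < 19400 → P i := stepQ 19399 Q19399 (allL N19399 (tt N32432 (iv1 F82835)) (tt N11445 (iv0 F47543)) (tt N16557 F47540) (tt N38200 (iv3 F97638)) (tt N9504 F47541) (tt N29924 (iv5 F77611)) (tt N9503 (iv6 D29607)) (tt N16560 F47542))
theorem Q19401 : ∀ i, i < 19401 → P i := stepQ 19400 Q19400 (allL N19400 (tt N38202 D62613) (tt N38203 D62614) (tt N26940 (iv2 F83007)) (tt N9506 (iv3 D29608)) (tt N19397 F47544) (tt N27127 F83010) (tt N26553 (iv6 F82999)) (tt N18919 F47545))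
theorem Q19402 : ∀ i, i < 19402 → P i := stepQ 19401 Q19401 (allL N19401 (tt N22577 F53342) (tt N17461 (iv0 F47548)) (tt N18630 F47546) (tt N26553 F82998) (tt N11387 F47547) (tt N23134 (iv5 F55025)) (tt N9506 (iv6 D29609)) (tt N23193 (iv7 F55160)))
theorem Q19403 : ∀ i, i < 19403 → P i := stepQ 19402 Q19402 (allL N19402 (tt N18923 (iv1 F47549)) (tt N9507 (iv0 D29610)) (tt N18922 F78774) (tt N30070 (iv3 F77958)) (tt N30520 (iv4 F78770)) (tt N37455 (iv5 F96028)) (tt N38204 D62615) (tt N18921 (iv7 F78773)))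
theorem Q19404 : ∀ i, i < 19404 → P i := stepQ 19403 Q19403 (allL N19403 (tt N9507 (iv1 D29611)) (tt N18923 F47550) (tt N18921 (iv2 F78775)) (tt N15715 F78795) (tt N30530 (iv4 F78819)) (tt N37456 (iv5 F96023)) (tt N38205 D62616) (tt N18922 F78776))
theorem Q19405 : ∀ i, i < 19405 → P i := stepQ 19404 Q19404 (allL N19404 (tt N16486 F50921) (tt N38206 D62617) (tt N34580 (iv2 F87972)) (tt N9508 F47551) (tt N38207 D62618) (tt N9507 (iv5 D29612)) (tt N38208 D62619) (tt N18924 F47552))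
theorem Q19406 : ∀ i, i < 19406 → P i := stepQ 19405 Q19405 (allL N19405 (tt N9508 (iv1 D29613)) (tt N16125 F47553) (tt N16442 (iv2 F47556)) (tt N38209 D62620) (tt N16170 (iv4 F47557)) (tt N9528 F47555) (tt N38210 D62621) (tt N14744 F47554))
theorem Q19407 : ∀ i, i < 19407 → P i := stepQ 19406 Q19406 (allL N19406 (tt N16136 F47561) (tt N16119 F47562) (tt N18909 F47558) (tt N38211 D62622) (tt N9508 (iv4 D29614)) (tt N16122 F47559) (tt N38212 D62623) (tt N18925 F47560))
theorem Q19408 : ∀ i, i < 19408 → P i := stepQ 19407 Q19407 (allL N19407 (tt N38213 D62624) (tt N38214 D62625) (tt N32169 (iv2 F82468)) (tt N38208 (iv3 F97661)) (tt N38212 (iv4 F97672)) (tt N32650 (iv5 F83283)) (tt N9508 (iv6 D29615)) (tt N38215 D62626))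
theorem Q19409 : ∀ i, i < 19409 → P i := stepQ 19408 Q19408 (allL N19408 (tt N15012 F47563) (tt N15014 F47564) (tt N29974 F77703) (tt N33951 (iv3 F86268)) (tt N37721 (iv4 F96510)) (tt N9509 (iv5 D29616)) (tt N38216 D62627) (tt N19450 (iv7 F47692)))
theorem Q19410 : ∀ i, i < 19410 → P i := stepQ 19409 Q19409 (allL N19409 (tt N16561 (iv1 F47568)) (tt N16562 (iv0 F47567)) (tt N19560 F47973) (tt N9510 (iv3 D29617)) (tt N19197 F47566) (tt N30214 (iv5 F78203)) (tt N33120 (iv6 F84101)) (tt N18927 F47565))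
theorem Q19411 : ∀ i, i < 19411 → P i := stepQ 19410 Q19410 (allL N19410 (tt N35919 (iv1 F93567)) (tt N35920 (iv0 F93575)) (tt N18930 F47569) (tt N38217 D62628) (tt N9510 (iv4 D29618)) (tt N38218 D62629) (tt N33142 (iv6 F84123)) (tt N18928 F47570))
theorem Q19412 : ∀ i, i < 19412 → P i := stepQ 19411 Q19411 (allL N19411 (tt N35920 (iv1 F93576)) (tt N35919 (iv0 F93566)) (tt N18928 F47571) (tt N38219 D62630) (tt N9511 (iv4 D29619)) (tt N38220 D62631) (tt N38221 D62632) (tt N18930 F47572))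
theorem Q19413 : ∀ i, i < 19413 → P i := stepQ 19412 Q19412 (allL N19412 (tt N38138 (iv1 F101978)) (tt N38222 D62634) (tt N18929 F47573) (tt N30044 (iv3 F77878)) (tt N38221 (iv4 F97689)) (tt N9760 F47574) (tt N9511 (iv6 D29620)) (tt N38223 D62635))
theorem Q19414 : ∀ i, i < 19414 → P i := stepQ 19413 Q19413 (allL N19413 (tt N16566 (iv1 F47576)) (tt N9512 (iv0 D29621)) (tt N18933 (iv2 F47577)) (tt N38224 D62636) (tt N18677 F47575) (tt N38225 D62637) (tt N38226 D62638) (tt N18932 (iv7 F47578)))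
theorem Q19415 : ∀ i, i < 19415 → P i := stepQ 19414 Q19414 (allL N19414 (tt N9512 (iv1 D29622)) (tt N16566 F47579) (tt N18932 (iv2 F47582)) (tt N38227 D62639) (tt N18678 F47581) (tt N38228 D62640) (tt N38229 D62641) (tt N18933 F47580))
theorem Q19416 : ∀ i, i < 19416 → P i := stepQ 19415 Q19415 (allL N19415 (tt N38230 D62642) (tt N38231 D62643) (tt N38232 D62644) (tt N9512 (iv3 D29623)) (tt N9515 F47583) (tt N38233 D62645) (tt N32481 (iv6 F324791)) (tt N18934 F47584))
theorem Q19417 : ∀ i, i < 19417 → P i := stepQ 19416 Q19416 (allL N19416 (tt N38234 D62647) (tt N38235 D62648) (tt N23842 (iv2 F325431)) (tt N38233 (iv3 F97723)) (tt N38236 D62649) (tt N9512 (iv5 D29624)) (tt N10814 F324294) (tt N18935 F47585))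
theorem Q19418 : ∀ i, i < 19418 → P i := stepQ 19417 Q19417 (allL N19417 (tt N33673 (iv1 F326694)) (tt N32467 (iv0 F326695)) (tt N23843 (iv2 F326697)) (tt N32481 F325871) (tt N9513 F47586) (tt N16361 F325872) (tt N9512 (iv6 D29625)) (tt N33671 F325873))
theorem Q19419 : ∀ i, i < 19419 → P i := stepQ 19418 Q19418 (allL N19418 (tt N33015 (iv1 F83886)) (tt N9513 (iv0 D29626)) (tt N33014 F83874) (tt N38237 D62654) (tt N16331 (iv4 F327036)) (tt N9843 F83875) (tt N38115 (iv6 F97428)) (tt N9842 F83876))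
theorem Q19420 : ∀ i, i < 19420 → P i := stepQ 19419 Q19419 (allL N19419 (tt N38238 D62656) (tt N38239 D62657) (tt N19931 (iv2 F48605)) (tt N9518 F47587) (tt N38240 D62658) (tt N9513 (iv5 D29627)) (tt N9514 F47588) (tt N20077 (iv7 F48800)))
theorem Q19421 : ∀ i, i < 19421 → P i := stepQ 19420 Q19420 (allL N19420 (tt N9842 (iv1 F47591)) (tt N33014 F83881) (tt N33015 (iv2 F83882)) (tt N9519 F47589) (tt N33671 (iv4 F325309)) (tt N20077 (iv5 F48799)) (tt N18939 F47590) (tt N9513 (iv7 D29628)))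
theorem Q19422 : ∀ i, i < 19422 → P i := stepQ 19421 Q19421 (allL N19421 (tt N38241 D62659) (tt N30577 (iv0 F78917)) (tt N19930 (iv2 F48604)) (tt N38242 D62660) (tt N9514 (iv4 D29629)) (tt N38243 D62661) (tt N38240 (iv6 F97749)) (tt N19932 (iv7 F48608)))
theorem Q19423 : ∀ i, i < 19423 → P i := stepQ 19422 Q19422 (allL N19422 (tt N18952 (iv1 F47592)) (tt N9515 (iv0 D29630)) (tt N18951 F214734) (tt N38244 D62663) (tt N38245 D62664) (tt N24854 F315307) (tt N38246 D62666) (tt N18950 (iv7 F214737)))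
theorem Q19424 : ∀ i, i < 19424 → P i := stepQ 19423 Q19423 (allL N19423 (tt N9515 (iv1 D29631)) (tt N18952 F47596) (tt N18950 (iv2 F214736)) (tt N38247 D62668) (tt N38248 D62669) (tt N24853 F315289) (tt N38249 D62671) (tt N18951 F214735))
theorem Q19425 : ∀ i, i < 19425 → P i := stepQ 19424 Q19424 (allL N19424 (tt N18951 (iv1 F47597)) (tt N18950 F47595) (tt N9515 (iv2 D29632)) (tt N18991 F47593) (tt N38232 (iv4 F97719)) (tt N11294 F315306) (tt N38250 D62672) (tt N18952 F47594))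
theorem Q19426 : ∀ i, i < 19426 → P i := stepQ 19425 Q19425 (allL N19425 (tt N38251 D62673) (tt N38145 (iv0 F324342)) (tt N38250 (iv2 F97761)) (tt N9516 F47598) (tt N32481 (iv4 F324790)) (tt N38252 D62675) (tt N9515 (iv6 D29633)) (tt N38253 D62676))
theorem Q19427 : ∀ i, i < 19427 → P i := stepQ 19426 Q19426 (allL N19426 (tt N25168 (iv1 F320298)) (tt N38254 D62678) (tt N18370 (iv2 F320301)) (tt N38252 (iv3 F97763)) (tt N18368 F319926) (tt N9516 (iv5 D29634)) (tt N38096 (iv6 F97352)) (tt N18365 F319927))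
theorem Q19428 : ∀ i, i < 19428 → P i := stepQ 19427 Q19427 (allL N19427 (tt N18751 (iv1 F47603)) (tt N18799 F47604) (tt N18993 F47600) (tt N38253 (iv3 F97764)) (tt N9519 F47601) (tt N18365 F320783) (tt N18955 F47602) (tt N9516 (iv7 D29635)))
theorem Q19429 : ∀ i, i < 19429 → P i := stepQ 19428 Q19428 (allL N19428 (tt N38255 D62681) (tt N9647 F95821) (tt N38256 D62682) (tt N9517 (iv3 D29636)) (tt N38257 D62683) (tt N10039 F47607) (tt N38137 (iv6 F97495)) (tt N10038 F47608))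
theorem Q19430 : ∀ i, i < 19430 → P i := stepQ 19429 Q19429 (allL N19429 (tt N16701 (iv1 F47610)) (tt N9518 (iv0 D29637)) (tt N18996 (iv2 F47611)) (tt N38258 D62684) (tt N20988 F316114) (tt N19617 (iv5 F48017)) (tt N10131 F47609) (tt N18997 (iv7 F47612)))
theorem Q19431 : ∀ i, i < 19431 → P i := stepQ 19430 Q19430 (allL N19430 (tt N9518 (iv1 D29638)) (tt N16701 F47614) (tt N18997 (iv2 F47616)) (tt N38259 D62685) (tt N20986 F316115) (tt N19624 (iv5 F48026)) (tt N15559 (iv6 F47617)) (tt N18996 F47615))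
theorem Q19432 : ∀ i, i < 19432 → P i := stepQ 19431 Q19431 (allL N19431 (tt N33765 (iv1 F313605)) (tt N33763 (iv0 F313606)) (tt N18998 F47618) (tt N38260 D62686) (tt N9518 (iv4 D29639)) (tt N33387 (iv5 F84672)) (tt N9520 F47619) (tt N20509 (iv7 F49363)))
theorem Q19433 : ∀ i, i < 19433 → P i := stepQ 19432 Q19432 (allL N19432 (tt N38261 D62687) (tt N38262 D62688) (tt N25101 F310011) (tt N9520 (iv3 D29640)) (tt N38242 (iv4 F97754)) (tt N25100 F310012) (tt N38260 (iv6 F97795)) (tt N20211 (iv7 F48920)))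
theorem Q19434 : ∀ i, i < 19434 → P i := stepQ 19433 Q19433 (allL N19433 (tt N22794 (iv1 F54422)) (tt N11771 (iv0 F54425)) (tt N14970 F47620) (tt N30063 (iv3 F77938)) (tt N9521 (iv4 D29641)) (tt N38263 D62690) (tt N18405 F47621) (tt N18967 F47622))
theorem Q19435 : ∀ i, i < 19435 → P i := stepQ 19434 Q19434 (allL N19434 (tt N38264 D62691) (tt N38265 D62692) (tt N34581 (iv2 F87976)) (tt N38088 (iv3 F97328)) (tt N9522 (iv4 D29642)) (tt N38266 D62693) (tt N38267 D62694) (tt N18970 F47623))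
theorem Q19436 : ∀ i, i < 19436 → P i := stepQ 19435 Q19435 (allL N19435 (tt N38268 D62695) (tt N22844 F130937) (tt N22111 (iv2 F52492)) (tt N9523 F47624) (tt N38267 (iv4 F97809)) (tt N11794 F47625) (tt N9522 (iv6 D29643)) (tt N38269 D62697))
theorem Q19437 : ∀ i, i < 19437 → P i := stepQ 19436 Q19436 (allL N19436 (tt N19010 (iv1 F47629)) (tt N9523 (iv0 D29644)) (tt N19008 (iv2 F162899)) (tt N38270 D62699) (tt N36965 (iv4 F162923)) (tt N38271 D62701) (tt N38272 D62702) (tt N19009 F162898))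
theorem Q19438 : ∀ i, i < 19438 → P i := stepQ 19437 Q19437 (allL N19437 (tt N9523 (iv1 D29645)) (tt N19010 F47626) (tt N19009 F162897) (tt N38273 D62704) (tt N36966 (iv4 F162926)) (tt N38274 D62706) (tt N38275 D62707) (tt N19008 (iv7 F162900)))
theorem Q19439 : ∀ i, i < 19439 → P i := stepQ 19438 Q19438 (allL N19438 (tt N19009 (iv1 F47630)) (tt N19008 F47631) (tt N19010 F47627) (tt N38269 (iv3 F97810)) (tt N38092 (iv4 F97335)) (tt N22839 F310929) (tt N18974 F47628) (tt N9523 (iv7 D29646)))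
theorem Q19440 : ∀ i, i < 19440 → P i := stepQ 19439 Q19439 (allL N19439 (tt N22878 F54563) (tt N38276 D62710) (tt N19013 F47648) (tt N33952 (iv3 F86271)) (tt N25110 (iv4 F311151)) (tt N11498 F47649) (tt N9524 (iv6 D29648)) (tt N38277 D62711))
theorem Q19441 : ∀ i, i < 19441 → P i := stepQ 19440 Q19440 (allL N19440 (tt N38278 D62714) (tt N24953 (iv0 F311955)) (tt N22225 (iv2 F54364)) (tt N9527 F47663) (tt N25466 (iv4 F312549)) (tt N23361 (iv5 F55676)) (tt N9525 (iv6 D29660)) (tt N38279 D62716))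
theorem Q19442 : ∀ i, i < 19442 → P i := stepQ 19441 Q19441 (allL N19441 (tt N19028 (iv1 F47668)) (tt N9527 (iv0 D29663)) (tt N19027 (iv2 F186142)) (tt N38280 D62718) (tt N17998 (iv4 F314135)) (tt N16969 F313305) (tt N38281 D62721) (tt N16968 F313306))
theorem Q19443 : ∀ i, i < 19443 → P i := stepQ 19442 Q19442 (allL N19442 (tt N16968 F314881) (tt N19027 F47670) (tt N19028 F47666) (tt N38279 (iv3 F97833)) (tt N24816 (iv4 F310683)) (tt N18620 F314882) (tt N19035 F47667) (tt N9527 (iv7 D29665)))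
theorem Q19444 : ∀ i, i < 19444 → P i := stepQ 19443 Q19443 (allL N19443 (tt N13553 (iv1 F65522)) (tt N13531 (iv0 F65507)) (tt N13550 F65516) (tt N9528 (iv3 D29666)) (tt N16160 F47671) (tt N38209 (iv5 F97664)) (tt N16459 F47672) (tt N13551 (iv7 F65515)))
theorem Q19445 : ∀ i, i < 19445 → P i := stepQ 19444 Q19444 (allL N19444 (tt N9529 (iv1 D29668)) (tt N16485 (iv0 F54277)) (tt N16487 (iv2 F54347)) (tt N38282 D62727) (tt N18503 (iv4 F54051)) (tt N38206 (iv5 F97657)) (tt N16497 (iv6 F54348)) (tt N16472 F54346))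
theorem Q19446 : ∀ i, i < 19446 → P i := stepQ 19445 Q19445 (allL N19445 (tt N16472 (iv1 F54060)) (tt N16487 (iv0 F54269)) (tt N9529 (iv2 D29669)) (tt N19049 F47678) (tt N9532 F47679) (tt N38283 D62728) (tt N17085 (iv6 F47683)) (tt N16485 (iv7 F54281)))
theorem Q19447 : ∀ i, i < 19447 → P i := stepQ 19446 Q19446 (allL N19446 (tt N37290 (iv1 F95770)) (tt N37292 (iv0 F95775)) (tt N38283 (iv2 F97850)) (tt N9530 F47684) (tt N38284 D62729) (tt N9529 (iv5 D29670)) (tt N38285 D62730) (tt N19014 F47685))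
theorem Q19448 : ∀ i, i < 19448 → P i := stepQ 19447 Q19447 (allL N19447 (tt N22040 F54250) (tt N38282 (iv0 F97845)) (tt N17085 F47686) (tt N9531 F47687) (tt N9534 F47688) (tt N38286 D62731) (tt N9529 (iv6 D29671)) (tt N17083 (iv7 F47689)))
theorem Q19449 : ∀ i, i < 19449 → P i := stepQ 19448 Q19448 (allL N19448 (tt N37263 (iv1 F95734)) (tt N37260 (iv0 F95729)) (tt N31243 (iv2 F80264)) (tt N38287 D62732) (tt N9530 (iv4 D29672)) (tt N16116 F47691) (tt N38288 D62733) (tt N19018 F47690))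
theorem Q19450 : ∀ i, i < 19450 → P i := stepQ 19449 Q19449 (allL N19449 (tt N38289 D62734) (tt N38290 D62735) (tt N31244 (iv2 F80266)) (tt N38285 (iv3 F97856)) (tt N38288 (iv4 F97862)) (tt N38291 D62736) (tt N9530 (iv6 D29673)) (tt N38292 D62737))
theorem Q19451 : ∀ i, i < 19451 → P i := stepQ 19450 Q19450 (allL N19450 (tt N14968 F47693) (tt N14966 F47694) (tt N29962 (iv2 F77689)) (tt N38286 (iv3 F97858)) (tt N37670 (iv4 F96423)) (tt N9531 (iv5 D29674)) (tt N38291 (iv6 F97863)) (tt N19408 F47692))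
theorem Q19452 : ∀ i, i < 19452 → P i := stepQ 19451 Q19451 (allL N19451 (tt N11161 (iv1 F47699)) (tt N19020 (iv0 F47698)) (tt N9533 F47695) (tt N19030 F47696) (tt N17793 (iv4 F310183)) (tt N9532 (iv5 D29675)) (tt N38293 D62739) (tt N17192 F47697))
theorem Q19453 : ∀ i, i < 19453 → P i := stepQ 19452 Q19452 (allL N19452 (tt N38294 D62740) (tt N38295 D62741) (tt N17793 (iv2 F310182)) (tt N38008 (iv3 F97189)) (tt N9533 (iv4 D29676)) (tt N38296 D62742) (tt N38297 D62743) (tt N19021 F47700))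
theorem Q19454 : ∀ i, i < 19454 → P i := stepQ 19453 Q19453 (allL N19453 (tt N38298 D62744) (tt N38299 D62745) (tt N38293 (iv2 F97869)) (tt N9535 F47701) (tt N38297 (iv4 F97877)) (tt N38300 D62746) (tt N9533 (iv6 D29677)) (tt N38301 D62747))
theorem Q19455 : ∀ i, i < 19455 → P i := stepQ 19454 Q19454 (allL N19454 (tt N34412 (iv1 F87492)) (tt N19023 (iv0 F47705)) (tt N17086 F47702) (tt N9536 F47703) (tt N38302 D62748) (tt N9534 (iv5 D29678)) (tt N38300 (iv6 F97880)) (tt N17084 F47704))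
theorem Q19456 : ∀ i, i < 19456 → P i := stepQ 19455 Q19455 (allL N19455 (tt N19035 (iv1 F47711)) (tt N9535 (iv0 D29679)) (tt N19032 F53308) (tt N38303 D62749) (tt N34721 (iv4 F304923)) (tt N21707 F309365) (tt N38304 D62752) (tt N19033 F53306))
theorem Q19457 : ∀ i, i < 19457 → P i := stepQ 19456 Q19456 (allL N19456 (tt N38305 D62755) (tt N38306 D62756) (tt N19034 F47707) (tt N38300 (iv3 F97879)) (tt N37439 (iv4 F95981)) (tt N9535 (iv5 D29681)) (tt N9536 F47708) (tt N38307 D62757))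
theorem Q19458 : ∀ i, i < 19458 → P i := stepQ 19457 Q19457 (allL N19457 (tt N19033 (iv1 F47712)) (tt N19032 F47713) (tt N19035 F47709) (tt N38301 (iv3 F97881)) (tt N24814 F308183) (tt N38307 (iv5 F97899)) (tt N19028 F47710) (tt N9535 (iv7 D29682)))
theorem Q19459 : ∀ i, i < 19459 → P i := stepQ 19458 Q19458 (allL N19458 (tt N9547 F47722) (tt N18509 (iv0 F54061)) (tt N18510 (iv2 F54224)) (tt N9537 (iv3 D29684)) (tt N9544 F47715) (tt N15331 F54240) (tt N18458 (iv6 F54239)) (tt N14836 F54223))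
theorem Q19460 : ∀ i, i < 19460 → P i := stepQ 19459 Q19459 (allL N19459 (tt N22005 F52363) (tt N30673 (iv0 F79111)) (tt N19047 (iv2 F54257)) (tt N21998 (iv3 F52349)) (tt N9537 (iv4 D29685)) (tt N38308 D62758) (tt N21879 F54259) (tt N14841 F54256))
theorem Q19461 : ∀ i, i < 19461 → P i := stepQ 19460 Q19460 (allL N19460 (tt N19107 F54226) (tt N9554 F54227) (tt N19048 F54228) (tt N15331 (iv3 F54241)) (tt N21810 (iv4 F307955)) (tt N9537 (iv5 D29686)) (tt N38309 D62760) (tt N14844 F54229))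
theorem Q19462 : ∀ i, i < 19462 → P i := stepQ 19461 Q19461 (allL N19461 (tt N19065 (iv1 F54253)) (tt N19069 (iv0 F54252)) (tt N18506 (iv2 F54248)) (tt N9538 (iv3 D29689)) (tt N22040 (iv4 F54249)) (tt N38310 D62761) (tt N11371 F54242) (tt N19046 (iv7 F54254)))
theorem Q19463 : ∀ i, i < 19463 → P i := stepQ 19462 Q19462 (allL N19462 (tt N30673 F79112) (tt N22005 F54258) (tt N14841 (iv2 F54245)) (tt N14923 (iv3 F54246)) (tt N9538 (iv4 D29690)) (tt N38311 D62762) (tt N11372 F54243) (tt N19047 (iv7 F54255)))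
theorem Q19464 : ∀ i, i < 19464 → P i := stepQ 19463 Q19463 (allL N19463 (tt N9554 F54234) (tt N19107 F54235) (tt N14844 F54236) (tt N38310 (iv3 F97913)) (tt N21805 (iv4 F307176)) (tt N9538 (iv5 D29691)) (tt N21804 F305239) (tt N19048 F54237))
theorem Q19465 : ∀ i, i < 19465 → P i := stepQ 19464 Q19464 (allL N19464 (tt N19052 F47720) (tt N14747 F47721) (tt N9540 F47717) (tt N16485 (iv3 F54279)) (tt N9539 (iv4 D29693)) (tt N38312 D62765) (tt N26915 F68234) (tt N19049 F47719))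
theorem Q19466 : ∀ i, i < 19466 → P i := stepQ 19465 Q19465 (allL N19465 (tt N19055 (iv1 F47726)) (tt N19054 F47727) (tt N9541 F47723) (tt N18523 (iv3 F54020)) (tt N38313 D62766) (tt N9539 (iv5 D29694)) (tt N38314 D62767) (tt N19050 F47725))
theorem Q19467 : ∀ i, i < 19467 → P i := stepQ 19466 Q19466 (allL N19466 (tt N14822 (iv1 F54291)) (tt N18433 (iv0 F54173)) (tt N9542 F47728) (tt N18438 (iv3 F54183)) (tt N26915 (iv4 F68232)) (tt N21665 (iv5 F51654)) (tt N9539 (iv6 D29695)) (tt N21157 (iv7 F50219)))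
theorem Q19468 : ∀ i, i < 19468 → P i := stepQ 19467 Q19467 (allL N19467 (tt N22789 (iv1 F54411)) (tt N38315 D62768) (tt N38312 (iv2 F97927)) (tt N16126 F47730) (tt N38316 D62769) (tt N9540 (iv5 D29696)) (tt N38317 D62770) (tt N19053 F47731))
theorem Q19469 : ∀ i, i < 19469 → P i := stepQ 19468 Q19468 (allL N19468 (tt N26913 (iv1 F68224)) (tt N13236 (iv0 F47735)) (tt N26915 F68233) (tt N11808 F47732) (tt N9542 F47733) (tt N13540 (iv5 F47734)) (tt N9540 (iv6 D29697)) (tt N21158 (iv7 F50225)))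
theorem Q19470 : ∀ i, i < 19470 → P i := stepQ 19469 Q19469 (allL N19469 (tt N19050 (iv1 F47736)) (tt N9541 (iv0 D29698)) (tt N19055 F55542) (tt N12342 (iv3 F311207)) (tt N23922 (iv4 F309837)) (tt N18219 (iv5 F54288)) (tt N12341 F309054) (tt N19054 F55546))
theorem Q19471 : ∀ i, i < 19471 → P i := stepQ 19470 Q19470 (allL N19470 (tt N9541 (iv1 D29699)) (tt N19050 F47737) (tt N19054 (iv2 F55547)) (tt N38318 D62773) (tt N38319 D62774) (tt N18220 (iv5 F54343)) (tt N38320 D62775) (tt N19055 (iv7 F55548)))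
theorem Q19472 : ∀ i, i < 19472 → P i := stepQ 19471 Q19471 (allL N19471 (tt N22792 (iv1 F54412)) (tt N38321 D62776) (tt N38313 (iv2 F97932)) (tt N25109 (iv3 F311148)) (tt N9541 (iv4 D29700)) (tt N38322 D62777) (tt N38323 D62778) (tt N19056 F47738))
theorem Q19473 : ∀ i, i < 19473 → P i := stepQ 19472 Q19472 (allL N19472 (tt N38324 D62779) (tt N38325 D62780) (tt N38314 (iv2 F97936)) (tt N9543 F47739) (tt N38323 (iv4 F97963)) (tt N21667 (iv5 F51656)) (tt N9541 (iv6 D29701)) (tt N38326 D62781))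
theorem Q19474 : ∀ i, i < 19474 → P i := stepQ 19473 Q19473 (allL N19473 (tt N21157 (iv1 F50220)) (tt N9542 (iv0 D29702)) (tt N14822 (iv2 F54292)) (tt N18435 F54168) (tt N28133 F72753) (tt N23376 (iv5 F55725)) (tt N14818 (iv6 F54297)) (tt N18433 (iv7 F54181)))
theorem Q19475 : ∀ i, i < 19475 → P i := stepQ 19474 Q19474 (allL N19474 (tt N9542 (iv1 D29703)) (tt N21157 F50222) (tt N18433 (iv2 F54201)) (tt N38327 D62782) (tt N28132 (iv4 F72751)) (tt N23377 (iv5 F55732)) (tt N18430 F54202) (tt N14822 (iv7 F54293)))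
theorem Q19476 : ∀ i, i < 19476 → P i := stepQ 19475 Q19475 (allL N19475 (tt N19045 (iv1 F47743)) (tt N9543 (iv0 D29704)) (tt N19044 F109900) (tt N38328 D62784) (tt N23768 (iv4 F315313)) (tt N18465 F313447) (tt N38329 D62787) (tt N18464 (iv7 F315383)))
theorem Q19477 : ∀ i, i < 19477 → P i := stepQ 19476 Q19476 (allL N19476 (tt N9543 (iv1 D29705)) (tt N19045 F47740) (tt N18464 (iv2 F315382)) (tt N38330 D62789) (tt N38031 (iv4 F187500)) (tt N14830 F313320) (tt N18379 F313321) (tt N19044 F109901))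
theorem Q19478 : ∀ i, i < 19478 → P i := stepQ 19477 Q19477 (allL N19477 (tt N18464 (iv1 F315381)) (tt N19044 F47745) (tt N19045 F47741) (tt N38326 (iv3 F97964)) (tt N35522 (iv4 F316585)) (tt N11021 (iv5 F315368)) (tt N19063 F47742) (tt N9543 (iv7 D29706)))
theorem Q19479 : ∀ i, i < 19479 → P i := stepQ 19478 Q19478 (allL N19478 (tt N19051 (iv1 F47753)) (tt N9550 (iv0 F47752)) (tt N19058 F54273) (tt N9544 (iv3 D29713)) (tt N21998 (iv4 F52348)) (tt N30539 (iv5 F78839)) (tt N11374 F54272) (tt N18493 (iv7 F54271)))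
theorem Q19480 : ∀ i, i < 19480 → P i := stepQ 19479 Q19479 (allL N19479 (tt N9556 F54039) (tt N18524 F54040) (tt N18526 F54041) (tt N30539 F78841) (tt N22818 (iv4 F54478)) (tt N9544 (iv5 D29714)) (tt N38331 D62793) (tt N18496 F54042))
theorem Q19481 : ∀ i, i < 19481 → P i := stepQ 19480 Q19480 (allL N19480 (tt N19038 (iv1 F47757)) (tt N19037 F47758) (tt N9546 F47754) (tt N19050 F47755) (tt N25465 F310990) (tt N9545 (iv5 D29716)) (tt N35187 F312639) (tt N18523 (iv7 F54021)))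
theorem Q19482 : ∀ i, i < 19482 → P i := stepQ 19481 Q19481 (allL N19481 (tt N14836 (iv1 F54049)) (tt N18510 (iv0 F54052)) (tt N9547 F47759) (tt N19051 F47760) (tt N10873 F53977) (tt N12476 (iv5 F310461)) (tt N9545 (iv6 D29717)) (tt N18509 (iv7 F54065)))
theorem Q19483 : ∀ i, i < 19483 → P i := stepQ 19482 Q19482 (allL N19482 (tt N18523 (iv1 F54018)) (tt N9546 (iv0 D29718)) (tt N19038 (iv2 F55518)) (tt N38332 D62796) (tt N27741 F312893) (tt N18217 (iv5 F54186)) (tt N38333 D62798) (tt N19037 (iv7 F55502)))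
theorem Q19484 : ∀ i, i < 19484 → P i := stepQ 19483 Q19483 (allL N19483 (tt N9546 (iv1 D29719)) (tt N18523 (iv0 F54017)) (tt N19037 F55519) (tt N15241 F54261) (tt N38334 D62799) (tt N15239 (iv5 F54222)) (tt N38335 D62800) (tt N19038 F55517))
theorem Q19485 : ∀ i, i < 19485 → P i := stepQ 19484 Q19484 (allL N19484 (tt N22810 (iv1 F54463)) (tt N22805 (iv0 F54445)) (tt N25465 (iv2 F310260)) (tt N33955 (iv3 F185230)) (tt N9546 (iv4 D29720)) (tt N25400 F308527) (tt N22198 F185224) (tt N19039 F47765))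
theorem Q19486 : ∀ i, i < 19486 → P i := stepQ 19485 Q19485 (allL N19485 (tt N24293 (iv1 F311416)) (tt N37493 (iv0 F185218)) (tt N35187 (iv2 F312235)) (tt N9548 F47766) (tt N22198 (iv4 F185223)) (tt N12479 F309994) (tt N9546 (iv6 D29721)) (tt N25194 F309995))
theorem Q19487 : ∀ i, i < 19487 → P i := stepQ 19486 Q19486 (allL N19486 (tt N19063 (iv1 F47773)) (tt N9548 (iv0 D29723)) (tt N19060 F57940) (tt N38336 D62808) (tt N24813 (iv4 F307064)) (tt N21840 F309093) (tt N38337 D62811) (tt N19061 F57938))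
theorem Q19488 : ∀ i, i < 19488 → P i := stepQ 19487 Q19487 (allL N19487 (tt N9548 (iv1 D29724)) (tt N19063 F47768) (tt N19061 (iv2 F57937)) (tt N38338 D62812) (tt N24644 (iv4 F303984)) (tt N30558 (iv5 F78868)) (tt N21816 (iv6 F51964)) (tt N19060 (iv7 F57939)))
theorem Q19489 : ∀ i, i < 19489 → P i := stepQ 19488 Q19488 (allL N19488 (tt N38336 (iv1 F110527)) (tt N38339 D62815) (tt N19062 F47769) (tt N12479 (iv3 F308000)) (tt N12488 (iv4 F308805)) (tt N9548 (iv5 D29725)) (tt N9549 F47770) (tt N25193 F307126))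
theorem Q19490 : ∀ i, i < 19490 → P i := stepQ 19489 Q19489 (allL N19489 (tt N19061 (iv1 F47774)) (tt N19060 F47775) (tt N19063 F47771) (tt N25194 (iv3 F309004)) (tt N37950 (iv4 F96986)) (tt N25193 F307136) (tt N19045 F47772) (tt N9548 (iv7 D29726)))
theorem Q19491 : ∀ i, i < 19491 → P i := stepQ 19490 Q19490 (allL N19490 (tt N9550 (iv1 D29727)) (tt N19051 (iv0 F47777)) (tt N18493 (iv2 F54274)) (tt N16479 (iv3 F54276)) (tt N21914 (iv4 F54287)) (tt N30538 (iv5 F78833)) (tt N16477 F54283) (tt N19058 F54284))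
theorem Q19492 : ∀ i, i < 19492 → P i := stepQ 19491 Q19491 (allL N19491 (tt N19058 (iv1 F47780)) (tt N18493 (iv0 F54046)) (tt N9550 (iv2 D29728)) (tt N18509 (iv3 F54063)) (tt N10759 (iv4 F47786)) (tt N35494 (iv5 F311357)) (tt N21157 (iv6 F50218)) (tt N19051 F47778))
theorem Q19493 : ∀ i, i < 19493 → P i := stepQ 19492 Q19492 (allL N19492 (tt N10762 F47783) (tt N10744 (iv0 F47784)) (tt N10759 F47785) (tt N15006 F47781) (tt N9550 (iv4 D29729)) (tt N38340 D62818) (tt N21158 (iv6 F50224)) (tt N10760 F47782))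
theorem Q19494 : ∀ i, i < 19494 → P i := stepQ 19493 Q19493 (allL N19493 (tt N15241 F54289) (tt N15246 (iv0 F77106)) (tt N35494 (iv2 F311356)) (tt N9551 F47787) (tt N38341 D62819) (tt N9550 (iv5 D29730)) (tt N38342 D62820) (tt N19059 F47788))
theorem Q19495 : ∀ i, i < 19495 → P i := stepQ 19494 Q19494 (allL N19494 (tt N38343 D62823) (tt N38330 (iv0 F109904)) (tt N21004 (iv2 F50013)) (tt N38342 (iv3 F98043)) (tt N35497 (iv4 F311134)) (tt N16997 F47804) (tt N9551 (iv6 D29732)) (tt N38344 D62825))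
theorem Q19496 : ∀ i, i < 19496 → P i := stepQ 19495 Q19495 (allL N19495 (tt N38345 D62826) (tt N38346 D62827) (tt N38347 D62828) (tt N9552 (iv3 D29733)) (tt N9558 F47805) (tt N15304 F47806) (tt N22176 F305264) (tt N18883 F47807))
theorem Q19497 : ∀ i, i < 19497 → P i := stepQ 19496 Q19496 (allL N19496 (tt N22829 (iv1 F301916)) (tt N38348 D62831) (tt N22744 (iv2 F53864)) (tt N22176 (iv3 F302916)) (tt N9553 F47808) (tt N38349 D62832) (tt N9552 (iv6 D29734)) (tt N34323 (iv7 F302919)))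
theorem Q19498 : ∀ i, i < 19498 → P i := stepQ 19497 Q19497 (allL N19497 (tt N22765 (iv1 F53913)) (tt N9553 (iv0 D29735)) (tt N13852 (iv2 F302911)) (tt N25662 (iv3 F300133)) (tt N17031 (iv4 F302912)) (tt N33981 (iv5 F299954)) (tt N13851 (iv6 F302913)) (tt N22764 F131094))
theorem Q19499 : ∀ i, i < 19499 → P i := stepQ 19498 Q19498 (allL N19498 (tt N22764 (iv1 F53909)) (tt N13852 (iv0 F302909)) (tt N22765 (iv2 F53910)) (tt N9562 F47809) (tt N34323 (iv4 F302918)) (tt N17034 F47810) (tt N22779 (iv6 F53938)) (tt N9553 (iv7 D29737)))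
theorem Q19500 : ∀ i, i < 19500 → P i := stepQ 19499 Q19499 (allL N19499 (tt N19048 (iv1 F54217)) (tt N14844 (iv0 F50931)) (tt N9554 (iv2 D29740)) (tt N18524 (iv3 F50875)) (tt N38350 D62843) (tt N18215 F47813) (tt N38351 D62844) (tt N19107 F47814))
theorem Q19501 : ∀ i, i < 19501 → P i := stepQ 19500 Q19500 (allL N19500 (tt N30510 (iv1 F78738)) (tt N34067 F309055) (tt N38350 (iv2 F98065)) (tt N11314 (iv3 F311209)) (tt N9554 (iv4 D29741)) (tt N38352 D62845) (tt N38353 D62846) (tt N19108 F47818))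
theorem Q19502 : ∀ i, i < 19502 → P i := stepQ 19501 Q19501 (allL N19501 (tt N38354 D62847) (tt N38355 D62848) (tt N38351 (iv2 F98069)) (tt N9555 F47819) (tt N38353 (iv4 F98072)) (tt N21123 (iv5 F50171)) (tt N9554 (iv6 D29742)) (tt N38356 D62849))
theorem Q19503 : ∀ i, i < 19503 → P i := stepQ 19502 Q19502 (allL N19502 (tt N19106 (iv1 F47823)) (tt N9555 (iv0 D29743)) (tt N19104 F182258) (tt N38357 D62851) (tt N38094 (iv4 F102693)) (tt N38358 D62853) (tt N38359 D62854) (tt N19105 F182259))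
theorem Q19504 : ∀ i, i < 19504 → P i := stepQ 19503 Q19503 (allL N19503 (tt N9555 (iv1 D29744)) (tt N19106 F47820) (tt N19105 (iv2 F182256)) (tt N30561 F237438) (tt N38095 (iv4 F102691)) (tt N36379 (iv5 F94463)) (tt N38360 D62858) (tt N19104 (iv7 F182257)))
theorem Q19505 : ∀ i, i < 19505 → P i := stepQ 19504 Q19504 (allL N19504 (tt N19105 (iv1 F47824)) (tt N19104 F47825) (tt N19106 F47821) (tt N38356 (iv3 F98073)) (tt N37909 (iv4 F96893)) (tt N21125 (iv5 F50177)) (tt N19112 F47822) (tt N9555 (iv7 D29745)))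
theorem Q19506 : ∀ i, i < 19506 → P i := stepQ 19505 Q19505 (allL N19505 (tt N18496 (iv1 F50847)) (tt N18526 (iv0 F50843)) (tt N9556 (iv2 D29748)) (tt N19107 F47827) (tt N38361 D62859) (tt N18216 F47828) (tt N38362 D62860) (tt N18524 (iv7 F50877)))
theorem Q19507 : ∀ i, i < 19507 → P i := stepQ 19506 Q19506 (allL N19506 (tt N22199 (iv1 F52710)) (tt N38363 D62861) (tt N38361 (iv2 F98078)) (tt N37862 (iv3 F96752)) (tt N9556 (iv4 D29749)) (tt N27727 (iv5 F310630)) (tt N38364 D62863) (tt N19102 F47833))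
theorem Q19508 : ∀ i, i < 19508 → P i := stepQ 19507 Q19507 (allL N19507 (tt N28721 F307416) (tt N38365 D62865) (tt N38362 (iv2 F98082)) (tt N9557 F47834) (tt N38364 (iv4 F98090)) (tt N21835 (iv5 F52007)) (tt N9556 (iv6 D29750)) (tt N38366 D62866))
theorem Q19509 : ∀ i, i < 19509 → P i := stepQ 19508 Q19508 (allL N19508 (tt N19112 (iv1 F47838)) (tt N9557 (iv0 D29751)) (tt N19110 (iv2 F110515)) (tt N15339 (iv3 F109841)) (tt N38090 (iv4 F130943)) (tt N36638 (iv5 F109843)) (tt N38367 D62871) (tt N19111 F110514))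
theorem Q19510 : ∀ i, i < 19510 → P i := stepQ 19509 Q19509 (allL N19509 (tt N9557 (iv1 D29752)) (tt N19112 F47835) (tt N19111 F110512) (tt N38368 D62873) (tt N38091 (iv4 F130946)) (tt N36633 (iv5 F109835)) (tt N38369 D62876) (tt N19110 (iv7 F110516)))
theorem Q19511 : ∀ i, i < 19511 → P i := stepQ 19510 Q19510 (allL N19510 (tt N19111 (iv1 F47839)) (tt N19110 F47840) (tt N19112 F47836) (tt N38366 (iv3 F98091)) (tt N37867 (iv4 F96762)) (tt N21838 (iv5 F52014)) (tt N19106 F47837) (tt N9557 (iv7 D29753)))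
theorem Q19512 : ∀ i, i < 19512 → P i := stepQ 19511 Q19511 (allL N19511 (tt N18880 (iv1 F47841)) (tt N9558 (iv0 D29754)) (tt N18882 F212003) (tt N38370 D62878) (tt N38371 D62879) (tt N37842 (iv5 F211920)) (tt N38372 D62881) (tt N18881 F212004))
theorem Q19513 : ∀ i, i < 19513 → P i := stepQ 19512 Q19512 (allL N19512 (tt N9558 (iv1 D29755)) (tt N18880 F47846) (tt N18881 (iv2 F211995)) (tt N38373 D62883) (tt N38374 D62884) (tt N37843 (iv5 F211928)) (tt N38375 D62886) (tt N18882 (iv7 F212002)))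
theorem Q19514 : ∀ i, i < 19514 → P i := stepQ 19513 Q19513 (allL N19513 (tt N18882 (iv1 F47847)) (tt N18881 F47845) (tt N9558 (iv2 D29756)) (tt N19115 F47842) (tt N38347 (iv4 F98052)) (tt N18869 F47843) (tt N38376 D62887) (tt N18880 F47844))
theorem Q19515 : ∀ i, i < 19515 → P i := stepQ 19514 Q19514 (allL N19514 (tt N18517 (iv1 F303588)) (tt N34433 (iv0 F305052)) (tt N38376 (iv2 F98100)) (tt N9559 F47848) (tt N22176 (iv4 F302917)) (tt N24076 F302713) (tt N9558 (iv6 D29757)) (tt N38377 D62891))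
theorem Q19516 : ∀ i, i < 19516 → P i := stepQ 19515 Q19515 (allL N19515 (tt N11284 F299173) (tt N14041 F299174) (tt N12137 (iv2 F299890)) (tt N38377 (iv3 F98104)) (tt N9562 F47860) (tt N11600 F299175) (tt N18891 F47861) (tt N9559 (iv7 D29761)))
theorem Q19517 : ∀ i, i < 19517 → P i := stepQ 19516 Q19516 (allL N19516 (tt N38369 (iv1 F103955)) (tt N21839 (iv0 F303821)) (tt N19118 F47874) (tt N24295 (iv3 F303813)) (tt N34102 (iv4 F303819)) (tt N38378 D62911) (tt N9560 (iv6 D29765)) (tt N38379 D62912))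
theorem Q19518 : ∀ i, i < 19518 → P i := stepQ 19517 Q19517 (allL N19517 (tt N18520 F188417) (tt N38380 D62914) (tt N38381 D62915) (tt N9561 (iv3 D29766)) (tt N24276 (iv4 F303880)) (tt N11825 F301115) (tt N38382 D62917) (tt N19117 F47875))
theorem Q19519 : ∀ i, i < 19519 → P i := stepQ 19518 Q19518 (allL N19518 (tt N38383 D62921) (tt N38359 (iv0 F104182)) (tt N19120 F47879) (tt N38382 (iv3 F98162)) (tt N25289 (iv4 F316271)) (tt N16975 F315563) (tt N9561 (iv6 D29768)) (tt N21446 F315564))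
theorem Q19520 : ∀ i, i < 19520 → P i := stepQ 19519 Q19519 (allL N19519 (tt N19123 (iv1 F47883)) (tt N19122 F47884) (tt N19121 F47880) (tt N22779 (iv3 F53937)) (tt N18891 F47881) (tt N21878 (iv5 F52106)) (tt N9562 (iv6 D29769)) (tt N9563 F47882))
theorem Q19521 : ∀ i, i < 19521 → P i := stepQ 19520 Q19520 (allL N19520 (tt N19121 (iv1 F47885)) (tt N9563 (iv0 D29770)) (tt N19122 F208030) (tt N38384 D62925) (tt N19771 (iv4 F207993)) (tt N16790 F313742) (tt N38385 D62928) (tt N19123 (iv7 F208035)))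
theorem Q19522 : ∀ i, i < 19522 → P i := stepQ 19521 Q19521 (allL N19521 (tt N9563 (iv1 D29771)) (tt N19121 F47886) (tt N19123 (iv2 F208034)) (tt N38386 D62930) (tt N19772 (iv4 F208023)) (tt N16786 F313743) (tt N38387 D62933) (tt N19122 F208033))
theorem Q19523 : ∀ i, i < 19523 → P i := stepQ 19522 Q19522 (allL N19522 (tt N15837 F47889) (tt N15839 F47890) (tt N15876 F47887) (tt N38388 D62934) (tt N9564 (iv4 D29772)) (tt N38389 D62935) (tt N19665 (iv6 F48105)) (tt N15875 F47888))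
theorem Q19524 : ∀ i, i < 19524 → P i := stepQ 19523 Q19523 (allL N19523 (tt N38390 D62936) (tt N38391 D62937) (tt N38392 D62938) (tt N9565 (iv3 D29773)) (tt N32189 (iv4 F82504)) (tt N38393 D62939) (tt N15809 F47891) (tt N20300 (iv7 F49113)))
theorem Q19525 : ∀ i, i < 19525 → P i := stepQ 19524 Q19524 (allL N19524 (tt N31408 (iv1 F80617)) (tt N31417 (iv0 F80630)) (tt N19529 (iv2 F47904)) (tt N38393 (iv3 F98186)) (tt N38394 D62940) (tt N9565 (iv5 D29774)) (tt N35139 F329928) (tt N20301 (iv7 F49114)))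
theorem Q19526 : ∀ i, i < 19526 → P i := stepQ 19525 Q19525 (allL N19525 (tt N29615 (iv1 F76813)) (tt N29617 (iv0 F76819)) (tt N19920 (iv2 F48584)) (tt N38395 D62942) (tt N9566 (iv4 D29775)) (tt N38396 D62943) (tt N15815 F47892) (tt N29647 (iv7 F76893)))
theorem Q19527 : ∀ i, i < 19527 → P i := stepQ 19526 Q19526 (allL N19526 (tt N9567 (iv1 D29776)) (tt N9924 F47893) (tt N15898 (iv2 F47896)) (tt N18081 (iv3 F47897)) (tt N15842 (iv4 F47898)) (tt N15345 F47895) (tt N38397 D62944) (tt N15894 F47894))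
theorem Q19528 : ∀ i, i < 19528 → P i := stepQ 19527 Q19527 (allL N19527 (tt N9925 (iv1 F47901)) (tt N9568 (iv0 D29777)) (tt N15757 (iv2 F47900)) (tt N33160 (iv3 F84149)) (tt N15737 F47899) (tt N38398 D62945) (tt N38399 D62946) (tt N15760 F47902))
theorem Q19529 : ∀ i, i < 19529 → P i := stepQ 19528 Q19528 (allL N19528 (tt N38400 D62947) (tt N38401 D62948) (tt N38402 D62949) (tt N9568 (iv3 D29778)) (tt N38395 (iv4 F98193)) (tt N38403 D62950) (tt N15825 F47903) (tt N33255 (iv7 F84331)))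
theorem Q19530 : ∀ i, i < 19530 → P i := stepQ 19529 Q19529 (allL N19529 (tt N38404 D62951) (tt N36067 (iv0 F93907)) (tt N19524 F47904) (tt N38403 (iv3 F98209)) (tt N31651 (iv4 F81106)) (tt N9568 (iv5 D29779)) (tt N38405 D62952) (tt N33256 (iv7 F84333)))
theorem Q19531 : ∀ i, i < 19531 → P i := stepQ 19530 Q19530 (allL N19530 (tt N20837 (iv1 F49668)) (tt N30458 F78596) (tt N9578 F47905) (tt N15272 F47906) (tt N38406 D62953) (tt N9569 (iv5 D29780)) (tt N38407 D62954) (tt N9586 F47907))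
theorem Q19532 : ∀ i, i < 19532 → P i := stepQ 19531 Q19531 (allL N19531 (tt N35069 F329634) (tt N36885 (iv0 F95289)) (tt N9581 F47908) (tt N38408 D62956) (tt N9570 (iv4 D29781)) (tt N38409 D62957) (tt N30956 (iv6 F79719)) (tt N9588 F47909))
theorem Q19533 : ∀ i, i < 19533 → P i := stepQ 19532 Q19532 (allL N19532 (tt N36885 (iv1 F95290)) (tt N35069 F329633) (tt N9588 F47910) (tt N38410 D62958) (tt N9571 (iv4 D29782)) (tt N38411 D62959) (tt N38412 D62960) (tt N9581 F47911))
theorem Q19534 : ∀ i, i < 19534 → P i := stepQ 19533 Q19533 (allL N19533 (tt N37433 (iv1 F95961)) (tt N16709 (iv0 F47914)) (tt N9589 F47912) (tt N18684 F47913) (tt N38412 (iv4 F98241)) (tt N20349 (iv5 F49158)) (tt N9571 (iv6 D29783)) (tt N37432 (iv7 F95956)))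
theorem Q19535 : ∀ i, i < 19535 → P i := stepQ 19534 Q19534 (allL N19534 (tt N30865 (iv1 F79598)) (tt N15726 (iv0 F47917)) (tt N9592 F47915) (tt N38413 D62961) (tt N9572 (iv4 D29784)) (tt N38414 D62962) (tt N38415 D62963) (tt N9595 F47916))
theorem Q19536 : ∀ i, i < 19536 → P i := stepQ 19535 Q19535 (allL N19535 (tt N19742 (iv1 F168256)) (tt N38416 D62965) (tt N9593 F47918) (tt N32985 (iv3 F83825)) (tt N38415 (iv4 F98247)) (tt N9935 F47919) (tt N9572 (iv6 D29785)) (tt N38417 D62966))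
theorem Q19537 : ∀ i, i < 19537 → P i := stepQ 19536 Q19536 (allL N19536 (tt N9573 (iv1 D29786)) (tt N9601 F47920) (tt N9598 (iv2 F47923)) (tt N38418 D62967) (tt N15732 F47922) (tt N38419 D62968) (tt N38420 D62969) (tt N9597 F47921))
theorem Q19538 : ∀ i, i < 19538 → P i := stepQ 19537 Q19537 (allL N19537 (tt N38421 D62970) (tt N38422 D62971) (tt N38423 D62972) (tt N9573 (iv3 D29787)) (tt N19661 (iv4 F48091)) (tt N38424 D62973) (tt N19661 (iv6 F48092)) (tt N38425 D62974))
theorem Q19539 : ∀ i, i < 19539 → P i := stepQ 19538 Q19538 (allL N19538 (tt N37656 (iv1 F96399)) (tt N38426 D62975) (tt N9600 F47924) (tt N38424 (iv3 F98265)) (tt N31562 (iv4 F80897)) (tt N9573 (iv5 D29788)) (tt N38427 D62976) (tt N31561 (iv7 F80895)))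
theorem Q19540 : ∀ i, i < 19540 → P i := stepQ 19539 Q19539 (allL N19539 (tt N9598 (iv1 F47927)) (tt N9597 F47928) (tt N9601 F47925) (tt N38425 (iv3 F98266)) (tt N9574 F47926) (tt N31561 (iv5 F80892)) (tt N38428 D62977) (tt N9573 (iv7 D29789)))
theorem Q19541 : ∀ i, i < 19541 → P i := stepQ 19540 Q19540 (allL N19540 (tt N19735 (iv1 F48193)) (tt N19734 F48192) (tt N9602 F47929) (tt N19664 (iv3 F48099)) (tt N38428 (iv4 F98274)) (tt N19540 F47930) (tt N9574 (iv6 D29790)) (tt N19664 (iv7 F48101)))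
theorem Q19542 : ∀ i, i < 19542 → P i := stepQ 19541 Q19541 (allL N19541 (tt N9575 (iv1 D29791)) (tt N15037 F47931) (tt N18662 (iv2 F47934)) (tt N19692 (iv3 F48158)) (tt N18670 (iv4 F47935)) (tt N15073 F47933) (tt N29967 F77694) (tt N15072 F47932))
theorem Q19543 : ∀ i, i < 19543 → P i := stepQ 19542 Q19542 (allL N19542 (tt N19204 F47938) (tt N36694 (iv0 F95048)) (tt N18663 F47936) (tt N38429 D62978) (tt N9575 (iv4 D29792)) (tt N36717 (iv5 F95097)) (tt N38430 D62979) (tt N18683 F47937))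
theorem Q19544 : ∀ i, i < 19544 → P i := stepQ 19543 Q19543 (allL N19543 (tt N38431 D62980) (tt N38432 D62981) (tt N18664 F47939) (tt N9582 F47940) (tt N38430 (iv4 F98278)) (tt N29476 (iv5 F76482)) (tt N9575 (iv6 D29793)) (tt N38433 D62982))
theorem Q19545 : ∀ i, i < 19545 → P i := stepQ 19544 Q19544 (allL N19544 (tt N9576 (iv1 D29794)) (tt N9812 F47941) (tt N9814 F47946) (tt N18213 (iv3 F47945)) (tt N9814 F47943) (tt N15404 F47944) (tt N19995 (iv6 F48685)) (tt N9807 F47942))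
theorem Q19546 : ∀ i, i < 19546 → P i := stepQ 19545 Q19545 (allL N19545 (tt N15741 F47950) (tt N15740 F47951) (tt N15743 F47947) (tt N19184 F47948) (tt N20235 (iv4 F48986)) (tt N9577 (iv5 D29795)) (tt N38434 D62983) (tt N15722 F47949))
theorem Q19547 : ∀ i, i < 19547 → P i := stepQ 19546 Q19546 (allL N19546 (tt N9586 (iv1 F47953)) (tt N9578 (iv0 D29796)) (tt N20837 (iv2 F49664)) (tt N31293 (iv3 F80347)) (tt N20203 (iv4 F48912)) (tt N15368 F47952) (tt N38435 D62984) (tt N30458 (iv7 F78597)))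
theorem Q19548 : ∀ i, i < 19548 → P i := stepQ 19547 Q19547 (allL N19547 (tt N9578 (iv1 D29797)) (tt N9586 F47954) (tt N30458 F78595) (tt N15301 F47956) (tt N20204 (iv4 F48915)) (tt N15412 (iv5 F47955)) (tt N30395 (iv6 F78458)) (tt N20837 (iv7 F49666)))
theorem Q19549 : ∀ i, i < 19549 → P i := stepQ 19548 Q19548 (allL N19548 (tt N19702 (iv1 F48176)) (tt N22675 (iv0 F53579)) (tt N38406 (iv2 F98217)) (tt N38436 D62985) (tt N9578 (iv4 D29798)) (tt N31559 (iv5 F80885)) (tt N38437 D62986) (tt N30459 (iv7 F78599)))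
theorem Q19550 : ∀ i, i < 19550 → P i := stepQ 19549 Q19549 (allL N19549 (tt N38438 D62987) (tt N38439 D62988) (tt N38407 (iv2 F98222)) (tt N29660 (iv3 F76901)) (tt N38437 (iv4 F98296)) (tt N29654 (iv5 F76898)) (tt N9578 (iv6 D29799)) (tt N38440 D62989))
theorem Q19551 : ∀ i, i < 19551 → P i := stepQ 19550 Q19550 (allL N19550 (tt N9579 (iv1 D29800)) (tt N20353 (iv0 F49181)) (tt N30928 F79688) (tt N10319 (iv3 F47960)) (tt N15756 F47958) (tt N15409 F47959) (tt N18045 (iv6 F47961)) (tt N15753 F47957))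
theorem Q19552 : ∀ i, i < 19552 → P i := stepQ 19551 Q19551 (allL N19551 (tt N22672 (iv1 F53564)) (tt N31381 (iv0 F80553)) (tt N19353 F47962) (tt N38441 D62990) (tt N9580 (iv4 D29801)) (tt N34900 (iv5 F328334)) (tt N34902 F327939) (tt N37344 (iv7 F95848)))
theorem Q19553 : ∀ i, i < 19553 → P i := stepQ 19552 Q19552 (allL N19552 (tt N38442 D62993) (tt N38443 D62994) (tt N19354 F47963) (tt N19684 (iv3 F48150)) (tt N34902 F328254) (tt N15373 F47964) (tt N9580 (iv6 D29802)) (tt N38444 D62995))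
theorem Q19554 : ∀ i, i < 19554 → P i := stepQ 19553 Q19553 (allL N19553 (tt N9588 (iv1 F47966)) (tt N9581 (iv0 D29803)) (tt N35069 (iv2 F329408)) (tt N38445 D62996) (tt N19124 F47965) (tt N34916 (iv5 F329410)) (tt N34917 F329064) (tt N36885 (iv7 F95288)))
theorem Q19555 : ∀ i, i < 19555 → P i := stepQ 19554 Q19554 (allL N19554 (tt N9581 (iv1 D29804)) (tt N9588 F47967) (tt N36885 (iv2 F95287)) (tt N38446 D62999) (tt N19125 F47968) (tt N35070 F329637) (tt N38447 D63001) (tt N35069 F329638))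
theorem Q19556 : ∀ i, i < 19556 → P i := stepQ 19555 Q19555 (allL N19555 (tt N38448 D63002) (tt N38449 D63003) (tt N38450 D63004) (tt N9581 (iv3 D29805)) (tt N38429 (iv4 F98275)) (tt N38451 D63005) (tt N25582 F328364) (tt N38410 (iv7 F98235)))
theorem Q19557 : ∀ i, i < 19557 → P i := stepQ 19556 Q19556 (allL N19556 (tt N38452 D63007) (tt N31392 (iv0 F80578)) (tt N38409 (iv2 F98230)) (tt N38451 (iv3 F98318)) (tt N31560 F80890) (tt N9581 (iv5 D29806)) (tt N35123 F356457) (tt N38411 (iv7 F98238)))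
theorem Q19558 : ∀ i, i < 19558 → P i := stepQ 19557 Q19557 (allL N19557 (tt N38453 D63009) (tt N38454 D63010) (tt N30956 (iv2 F79718)) (tt N25582 (iv3 F327967)) (tt N9582 F47969) (tt N25581 (iv5 F327968)) (tt N9581 (iv6 D29807)) (tt N38455 D63012))
theorem Q19559 : ∀ i, i < 19559 → P i := stepQ 19558 Q19558 (allL N19558 (tt N30957 (iv1 F79725)) (tt N9582 (iv0 D29808)) (tt N19366 (iv2 F164115)) (tt N19690 (iv3 F164116)) (tt N38456 D63015) (tt N31597 F80977) (tt N19690 F79451) (tt N30955 (iv7 F164329)))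
theorem Q19560 : ∀ i, i < 19560 → P i := stepQ 19559 Q19559 (allL N19559 (tt N30955 (iv1 F79716)) (tt N19366 F164322) (tt N30957 (iv2 F79720)) (tt N38433 (iv3 F98284)) (tt N38455 (iv4 F98324)) (tt N30799 (iv5 F79494)) (tt N37432 F95957) (tt N9582 (iv7 D29810)))
theorem Q19561 : ∀ i, i < 19561 → P i := stepQ 19560 Q19560 (allL N19560 (tt N9748 (iv1 F47974)) (tt N9583 (iv0 D29811)) (tt N19409 (iv2 F47973)) (tt N15001 F47972) (tt N18779 F47971) (tt N16190 F47970) (tt N38457 D63020) (tt N19382 F47975))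
theorem Q19562 : ∀ i, i < 19562 → P i := stepQ 19561 Q19561 (allL N19561 (tt N19194 (iv1 F47977)) (tt N19191 F47976) (tt N32983 (iv2 F83818)) (tt N38458 D63021) (tt N9583 (iv4 D29812)) (tt N38459 D63022) (tt N38460 D63023) (tt N32982 (iv7 F83815)))
theorem Q19563 : ∀ i, i < 19563 → P i := stepQ 19562 Q19562 (allL N19562 (tt N38461 D63024) (tt N20093 (iv0 F48820)) (tt N32984 (iv2 F83822)) (tt N9589 F47978) (tt N38460 (iv4 F98336)) (tt N38163 (iv5 F97563)) (tt N9583 (iv6 D29813)) (tt N38462 D63025))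
theorem Q19564 : ∀ i, i < 19564 → P i := stepQ 19563 Q19563 (allL N19563 (tt N30442 (iv1 F78563)) (tt N19143 F47982) (tt N15280 F47979) (tt N9586 F47980) (tt N37418 (iv4 F95941)) (tt N9585 (iv5 D29814)) (tt N38463 D63026) (tt N15272 F47981))
theorem Q19565 : ∀ i, i < 19565 → P i := stepQ 19564 Q19564 (allL N19564 (tt N22675 F53580) (tt N19702 (iv0 F48175)) (tt N30459 (iv2 F78598)) (tt N38464 D63027) (tt N9586 (iv4 D29815)) (tt N31560 (iv5 F80889)) (tt N38465 D63028) (tt N38406 (iv7 F98218)))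
theorem Q19566 : ∀ i, i < 19566 → P i := stepQ 19565 Q19565 (allL N19565 (tt N38466 D63029) (tt N36065 (iv0 F93901)) (tt N30460 (iv2 F78602)) (tt N38463 (iv3 F98342)) (tt N38465 (iv4 F98344)) (tt N38467 D63030) (tt N9586 (iv6 D29816)) (tt N38468 D63031))
theorem Q19567 : ∀ i, i < 19567 → P i := stepQ 19566 Q19566 (allL N19566 (tt N15346 F47986) (tt N15344 F47985) (tt N18658 F47983) (tt N30002 F77757) (tt N38469 D63032) (tt N9587 (iv5 D29817)) (tt N38467 (iv6 F98347)) (tt N18659 F47984))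
theorem Q19568 : ∀ i, i < 19568 → P i := stepQ 19567 Q19567 (allL N19567 (tt N38470 D63033) (tt N38471 D63034) (tt N38472 D63035) (tt N9588 (iv3 D29818)) (tt N38458 (iv4 F98332)) (tt N38473 D63036) (tt N38474 D63037) (tt N38408 (iv7 F98229)))
theorem Q19569 : ∀ i, i < 19569 → P i := stepQ 19568 Q19568 (allL N19568 (tt N31392 (iv1 F80579)) (tt N38452 F98322) (tt N38411 (iv2 F98236)) (tt N38473 (iv3 F98353)) (tt N31559 F80886) (tt N9588 (iv5 D29819)) (tt N38475 D63038) (tt N38409 (iv7 F98231)))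
theorem Q19570 : ∀ i, i < 19570 → P i := stepQ 19569 Q19569 (allL N19569 (tt N38476 D63039) (tt N38477 D63040) (tt N38412 (iv2 F98240)) (tt N38474 (iv3 F98354)) (tt N9589 F47987) (tt N38478 D63041) (tt N9588 (iv6 D29820)) (tt N38479 D63042))
theorem Q19571 : ∀ i, i < 19571 → P i := stepQ 19570 Q19570 (allL N19570 (tt N9589 (iv1 D29822)) (tt N37432 F95955) (tt N16709 F47989) (tt N19699 (iv3 F48171)) (tt N38480 D63043) (tt N15054 F47990) (tt N19358 (iv6 F47988)) (tt N37433 (iv7 F95960)))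
theorem Q19572 : ∀ i, i < 19572 → P i := stepQ 19571 Q19571 (allL N19571 (tt N37435 (iv1 F163955)) (tt N38481 D63045) (tt N20349 (iv2 F49157)) (tt N38163 (iv3 F97562)) (tt N38482 D63046) (tt N9589 (iv5 D29823)) (tt N9590 F47991) (tt N38483 D63047))
theorem Q19573 : ∀ i, i < 19573 → P i := stepQ 19572 Q19572 (allL N19572 (tt N16709 (iv1 F47992)) (tt N37433 F95962) (tt N37432 F95954) (tt N38462 (iv3 F98340)) (tt N38479 (iv4 F98355)) (tt N38483 (iv5 F98361)) (tt N30957 (iv6 F79722)) (tt N9589 (iv7 D29824)))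
theorem Q19574 : ∀ i, i < 19574 → P i := stepQ 19573 Q19573 (allL N19573 (tt N19673 (iv1 F48132)) (tt N19669 (iv0 F48120)) (tt N20348 (iv2 F49155)) (tt N38484 D63048) (tt N9590 (iv4 D29825)) (tt N38485 D63049) (tt N38482 (iv6 F98359)) (tt N20354 (iv7 F49185)))
theorem Q19575 : ∀ i, i < 19575 → P i := stepQ 19574 Q19574 (allL N19574 (tt N38486 D63050) (tt N38487 D63051) (tt N19821 (iv2 F48367)) (tt N9593 F47993) (tt N36708 (iv4 F95084)) (tt N32167 F82452) (tt N9591 (iv6 D29826)) (tt N38190 (iv7 F97618)))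
theorem Q19576 : ∀ i, i < 19576 → P i := stepQ 19575 Q19575 (allL N19575 (tt N9595 (iv1 F47995)) (tt N9592 (iv0 D29827)) (tt N30865 F79601) (tt N38488 D63052) (tt N15727 F47994) (tt N38452 (iv5 F98320)) (tt N38489 D63053) (tt N15726 F47996))
theorem Q19577 : ∀ i, i < 19577 → P i := stepQ 19576 Q19576 (allL N19576 (tt N38490 D63054) (tt N38491 D63055) (tt N38492 D63056) (tt N9592 (iv3 D29828)) (tt N36706 (iv4 F95078)) (tt N38493 D63057) (tt N38494 D63058) (tt N30866 (iv7 F79603)))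
theorem Q19578 : ∀ i, i < 19578 → P i := stepQ 19577 Q19577 (allL N19577 (tt N38495 D63059) (tt N17762 F329503) (tt N38414 (iv2 F98243)) (tt N38493 (iv3 F98370)) (tt N31552 (iv4 F80881)) (tt N9592 (iv5 D29829)) (tt N38496 D63061) (tt N30867 (iv7 F79605)))
theorem Q19579 : ∀ i, i < 19579 → P i := stepQ 19578 Q19578 (allL N19578 (tt N38497 D63062) (tt N38498 D63063) (tt N38415 (iv2 F98246)) (tt N38494 (iv3 F98371)) (tt N9593 F47997) (tt N38499 D63064) (tt N9592 (iv6 D29830)) (tt N38500 D63065))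
theorem Q19580 : ∀ i, i < 19580 → P i := stepQ 19579 Q19579 (allL N19579 (tt N38417 F98255) (tt N9593 (iv0 D29831)) (tt N19742 (iv2 F168257)) (tt N19707 (iv3 F168259)) (tt N38501 D63068) (tt N38502 D63069) (tt N19715 F79500) (tt N38416 (iv7 F101128)))
theorem Q19581 : ∀ i, i < 19581 → P i := stepQ 19580 Q19580 (allL N19580 (tt N9593 (iv1 D29832)) (tt N38417 F98254) (tt N38416 (iv2 F101127)) (tt N9606 (iv3 F168253)) (tt N38503 D63072) (tt N20770 F168238) (tt N38504 D63074) (tt N19742 (iv7 F168258)))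
theorem Q19582 : ∀ i, i < 19582 → P i := stepQ 19581 Q19581 (allL N19581 (tt N38416 (iv1 F98250)) (tt N19742 (iv0 F168255)) (tt N38417 (iv2 F98251)) (tt N38190 (iv3 F97617)) (tt N38500 (iv4 F98380)) (tt N22681 F53595) (tt N30864 (iv6 F79590)) (tt N9593 (iv7 D29833)))
theorem Q19583 : ∀ i, i < 19583 → P i := stepQ 19582 Q19582 (allL N19582 (tt N14761 F47998) (tt N19185 F47999) (tt N29606 F76793) (tt N38505 D63075) (tt N9594 (iv4 D29834)) (tt N38506 D63076) (tt N38507 D63077) (tt N29605 F76789))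
theorem Q19584 : ∀ i, i < 19584 → P i := stepQ 19583 Q19583 (allL N19583 (tt N38508 D63078) (tt N38509 D63079) (tt N32235 (iv2 F82584)) (tt N9596 F48000) (tt N38507 (iv4 F98389)) (tt N30775 (iv5 F79432)) (tt N9594 (iv6 D29835)) (tt N38510 D63080))
theorem Q19585 : ∀ i, i < 19585 → P i := stepQ 19584 Q19584 (allL N19584 (tt N38511 D63081) (tt N38512 D63082) (tt N38513 D63083) (tt N9595 (iv3 D29836)) (tt N38505 (iv4 F98385)) (tt N38514 D63084) (tt N38515 D63085) (tt N38413 (iv7 F98242)))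
theorem Q19586 : ∀ i, i < 19586 → P i := stepQ 19585 Q19585 (allL N19585 (tt N17762 F329504) (tt N38495 F98373) (tt N30867 (iv2 F79604)) (tt N38514 (iv3 F98391)) (tt N31549 (iv4 F80879)) (tt N9595 (iv5 D29837)) (tt N38516 D63086) (tt N38414 (iv7 F98245)))
theorem Q19587 : ∀ i, i < 19587 → P i := stepQ 19586 Q19586 (allL N19586 (tt N38517 D63087) (tt N38518 D63088) (tt N30863 (iv2 F79586)) (tt N38515 (iv3 F98392)) (tt N9596 F48001) (tt N38519 D63089) (tt N9595 (iv6 D29838)) (tt N38520 D63090))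
theorem Q19588 : ∀ i, i < 19588 → P i := stepQ 19587 Q19587 (allL N19587 (tt N30864 (iv1 F79596)) (tt N9596 (iv0 D29839)) (tt N30862 (iv2 F101651)) (tt N9610 (iv3 F163913)) (tt N38521 D63093) (tt N15889 (iv5 F79597)) (tt N38522 D63094) (tt N19753 F163897))
theorem Q19589 : ∀ i, i < 19589 → P i := stepQ 19588 Q19588 (allL N19588 (tt N9596 (iv1 D29840)) (tt N30864 F79592) (tt N19753 F163901) (tt N19715 F168269) (tt N38523 D63097) (tt N15890 F79593) (tt N19707 (iv6 F79594)) (tt N30862 (iv7 F101652)))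
theorem Q19590 : ∀ i, i < 19590 → P i := stepQ 19589 Q19589 (allL N19589 (tt N19753 F163899) (tt N30862 F79591) (tt N30864 (iv2 F79588)) (tt N38510 (iv3 F98390)) (tt N38520 (iv4 F98393)) (tt N30783 (iv5 F79453)) (tt N38417 (iv6 F98253)) (tt N9596 (iv7 D29841)))
theorem Q19591 : ∀ i, i < 19591 → P i := stepQ 19590 Q19590 (allL N19590 (tt N38524 D63098) (tt N38525 D63099) (tt N38526 D63100) (tt N9597 (iv3 D29842)) (tt N19840 (iv4 F48414)) (tt N38527 D63101) (tt N38528 D63102) (tt N38418 (iv7 F98257)))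
theorem Q19592 : ∀ i, i < 19592 → P i := stepQ 19591 Q19591 (allL N19591 (tt N38529 D63103) (tt N17736 F328338) (tt N37711 (iv2 F96500)) (tt N38527 (iv3 F98400)) (tt N22711 (iv4 F53735)) (tt N9597 (iv5 D29843)) (tt N38530 D63104) (tt N38419 (iv7 F98260)))
theorem Q19593 : ∀ i, i < 19593 → P i := stepQ 19592 Q19592 (allL N19592 (tt N38501 (iv1 F168309)) (tt N38503 (iv0 F111702)) (tt N37712 (iv2 F96504)) (tt N38528 (iv3 F98401)) (tt N31383 (iv4 F80558)) (tt N38531 D63107) (tt N9597 (iv6 D29844)) (tt N38532 D63108))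
theorem Q19594 : ∀ i, i < 19594 → P i := stepQ 19593 Q19593 (allL N19593 (tt N38533 D63109) (tt N38534 D63110) (tt N38535 D63111) (tt N9598 (iv3 D29845)) (tt N30024 (iv4 F77830)) (tt N38536 D63112) (tt N38537 D63113) (tt N37710 (iv7 F96499)))
theorem Q19595 : ∀ i, i < 19595 → P i := stepQ 19594 Q19594 (allL N19594 (tt N17736 F328339) (tt N38529 F98404) (tt N38419 (iv2 F98258)) (tt N38536 (iv3 F98406)) (tt N31543 (iv4 F80868)) (tt N9598 (iv5 D29846)) (tt N38538 D63114) (tt N37711 (iv7 F96501)))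
theorem Q19596 : ∀ i, i < 19596 → P i := stepQ 19595 Q19595 (allL N19595 (tt N38521 (iv1 F168417)) (tt N38523 (iv0 F168279)) (tt N38420 (iv2 F98262)) (tt N38537 (iv3 F98407)) (tt N30023 (iv4 F77828)) (tt N38539 D63117) (tt N9598 (iv6 D29847)) (tt N38540 D63118))
theorem Q19597 : ∀ i, i < 19597 → P i := stepQ 19596 Q19596 (allL N19596 (tt N38541 D63119) (tt N9599 (iv0 D29848)) (tt N37179 (iv2 F208354)) (tt N38542 D63121) (tt N37178 (iv4 F208351)) (tt N38543 D63123) (tt N38544 D63124) (tt N38545 D63125))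
theorem Q19598 : ∀ i, i < 19598 → P i := stepQ 19597 Q19597 (allL N19597 (tt N9599 (iv1 D29849)) (tt N38541 F98411) (tt N38545 (iv2 F98413)) (tt N38546 D63126) (tt N37182 (iv4 F208357)) (tt N38547 D63127) (tt N38548 D63128) (tt N37179 (iv7 F208355)))
theorem Q19599 : ∀ i, i < 19599 → P i := stepQ 19598 Q19598 (allL N19598 (tt N37179 F95640) (tt N38545 (iv0 F208364)) (tt N9599 (iv2 D29850)) (tt N38423 (iv3 F98264)) (tt N9615 F48002) (tt N38549 D63130) (tt N19725 (iv6 F48184)) (tt N38541 (iv7 F98410)))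
theorem Q19600 : ∀ i, i < 19600 → P i := stepQ 19599 Q19599 (allL N19599 (tt N38550 D63131) (tt N33686 F329411) (tt N38549 (iv2 F98415)) (tt N9600 F48003) (tt N38551 D63133) (tt N9599 (iv5 D29851)) (tt N38552 D63134) (tt N38553 D63135))
theorem Q19601 : ∀ i, i < 19601 → P i := stepQ 19600 Q19600 (allL N19600 (tt N38545 (iv1 F208365)) (tt N37179 (iv0 F95639)) (tt N38541 F98408) (tt N9601 F48004) (tt N9617 F48005) (tt N38553 (iv5 F98418)) (tt N38554 D63136) (tt N9599 (iv7 D29852)))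
theorem Q19602 : ∀ i, i < 19602 → P i := stepQ 19601 Q19601 (allL N19601 (tt N31561 (iv1 F80894)) (tt N9600 (iv0 D29853)) (tt N37656 (iv2 F96395)) (tt N38555 D63137) (tt N22679 (iv4 F80555)) (tt N31381 (iv5 F80552)) (tt N34885 (iv6 F328341)) (tt N38426 (iv7 F98268)))
theorem Q19603 : ∀ i, i < 19603 → P i := stepQ 19602 Q19602 (allL N19602 (tt N9600 (iv1 D29854)) (tt N31561 (iv0 F80893)) (tt N38426 F98271) (tt N38556 D63139) (tt N31537 (iv4 F80851)) (tt N22672 F53565) (tt N38557 D63140) (tt N37656 (iv7 F96396)))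
theorem Q19604 : ∀ i, i < 19604 → P i := stepQ 19603 Q19603 (allL N19603 (tt N31560 (iv1 F80888)) (tt N31559 F80887) (tt N31562 (iv2 F80896)) (tt N38558 D63141) (tt N9600 (iv4 D29855)) (tt N15827 F48006) (tt N38559 D63142) (tt N15826 (iv7 F48007)))
theorem Q19605 : ∀ i, i < 19605 → P i := stepQ 19604 Q19604 (allL N19604 (tt N38560 D63143) (tt N38561 D63144) (tt N38427 (iv2 F98272)) (tt N38552 (iv3 F98416)) (tt N38559 (iv4 F98423)) (tt N19731 (iv5 F48188)) (tt N9600 (iv6 D29856)) (tt N38562 D63145))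
theorem Q19606 : ∀ i, i < 19606 → P i := stepQ 19605 Q19605 (allL N19605 (tt N38426 (iv1 F98267)) (tt N37656 (iv0 F96398)) (tt N31561 (iv2 F80891)) (tt N38553 (iv3 F98417)) (tt N15826 F48008) (tt N9601 F48009) (tt N38563 D63146) (tt N9600 (iv7 D29857)))
theorem Q19607 : ∀ i, i < 19607 → P i := stepQ 19606 Q19606 (allL N19606 (tt N38564 D63147) (tt N38565 D63148) (tt N38428 (iv2 F98273)) (tt N38554 (iv3 F98419)) (tt N9602 F48010) (tt N38566 D63149) (tt N9601 (iv6 D29858)) (tt N19733 (iv7 F48191)))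
theorem Q19608 : ∀ i, i < 19608 → P i := stepQ 19607 Q19607 (allL N19607 (tt N19664 (iv1 F48103)) (tt N9602 (iv0 D29859)) (tt N19735 (iv2 F102123)) (tt N30110 (iv3 F102071)) (tt N38567 D63152) (tt N38568 D63153) (tt N38569 D63154) (tt N19734 (iv7 F102124)))
theorem Q19609 : ∀ i, i < 19609 → P i := stepQ 19608 Q19608 (allL N19608 (tt N9602 (iv1 D29860)) (tt N19664 F48102) (tt N19734 F102125) (tt N38570 D63156) (tt N38571 D63157) (tt N38572 D63158) (tt N33310 F84437) (tt N19735 F102126))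
theorem Q19610 : ∀ i, i < 19610 → P i := stepQ 19609 Q19609 (allL N19609 (tt N16578 (iv1 F48011)) (tt N9603 (iv0 D29861)) (tt N19746 F48229) (tt N38573 D63159) (tt N31387 (iv4 F80566)) (tt N37320 (iv5 F95803)) (tt N38574 D63160) (tt N19745 F48225))
theorem Q19611 : ∀ i, i < 19611 → P i := stepQ 19610 Q19610 (allL N19610 (tt N38225 (iv1 F97702)) (tt N38228 (iv0 F97712)) (tt N32994 (iv2 F83848)) (tt N24810 F318047) (tt N30485 (iv4 F78619)) (tt N9603 (iv5 D29862)) (tt N38575 D63161) (tt N19747 (iv7 F48230)))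
theorem Q19612 : ∀ i, i < 19612 → P i := stepQ 19611 Q19611 (allL N19611 (tt N38576 D63162) (tt N38577 D63163) (tt N32995 (iv2 F83849)) (tt N26516 F323388) (tt N9604 F48012) (tt N25840 (iv5 F323567)) (tt N9603 (iv6 D29863)) (tt N38578 D63165))
theorem Q19613 : ∀ i, i < 19613 → P i := stepQ 19612 Q19612 (allL N19612 (tt N32998 (iv1 F83857)) (tt N9604 (iv0 D29864)) (tt N32996 (iv2 F99267)) (tt N38579 D63167) (tt N38580 D63168) (tt N38581 D63169) (tt N19838 F81655) (tt N32997 (iv7 F99270)))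
theorem Q19614 : ∀ i, i < 19614 → P i := stepQ 19613 Q19613 (allL N19613 (tt N9604 (iv1 D29865)) (tt N32998 F83856) (tt N32997 (iv2 F99269)) (tt N30097 (iv3 F165528)) (tt N38582 D63172) (tt N38583 D63173) (tt N38584 D63174) (tt N32996 (iv7 F99268)))
theorem Q19615 : ∀ i, i < 19615 → P i := stepQ 19614 Q19614 (allL N19614 (tt N32997 (iv1 F83853)) (tt N32996 (iv0 F83852)) (tt N32998 (iv2 F83854)) (tt N9607 F48013) (tt N38578 (iv4 F98431)) (tt N22621 F53464) (tt N19751 (iv6 F48234)) (tt N9604 (iv7 D29866)))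
theorem Q19616 : ∀ i, i < 19616 → P i := stepQ 19615 Q19615 (allL N19615 (tt N19709 (iv1 F163931)) (tt N19659 (iv0 F163932)) (tt N19707 (iv2 F163925)) (tt N9605 (iv3 D29867)) (tt N38585 D63178) (tt N38586 D63179) (tt N19753 (iv6 F48245)) (tt N19708 (iv7 F163933)))
theorem Q19617 : ∀ i, i < 19617 → P i := stepQ 19616 Q19616 (allL N19616 (tt N20265 F49048) (tt N16725 (iv0 F48016)) (tt N19743 (iv2 F48207)) (tt N38586 (iv3 F98437)) (tt N38587 D63180) (tt N9605 (iv5 D29869)) (tt N15990 F48014) (tt N16788 F48015))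
theorem Q19618 : ∀ i, i < 19618 → P i := stepQ 19617 Q19617 (allL N19617 (tt N10056 F48018) (tt N10058 F48218) (tt N19744 (iv2 F48215)) (tt N38504 (iv3 F168247)) (tt N36153 F323653) (tt N19429 F48017) (tt N9606 (iv6 D29872)) (tt N19752 (iv7 F48241)))
theorem Q19619 : ∀ i, i < 19619 → P i := stepQ 19618 Q19618 (allL N19618 (tt N9608 (iv1 D29873)) (tt N9693 F48019) (tt N19736 F48195) (tt N38588 D63186) (tt N18247 (iv4 F48021)) (tt N35956 (iv5 F93638)) (tt N38589 D63187) (tt N18246 F48020))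
theorem Q19620 : ∀ i, i < 19620 → P i := stepQ 19619 Q19619 (allL N19619 (tt N38119 (iv1 F97446)) (tt N32465 (iv0 F325458)) (tt N19835 (iv2 F48403)) (tt N37163 (iv3 F95612)) (tt N35938 (iv4 F93618)) (tt N9608 (iv5 D29874)) (tt N38590 D63188) (tt N19737 (iv7 F48198)))
theorem Q19621 : ∀ i, i < 19621 → P i := stepQ 19620 Q19620 (allL N19620 (tt N38591 D63189) (tt N38592 D63190) (tt N19836 (iv2 F48406)) (tt N37164 (iv3 F95613)) (tt N9609 F48022) (tt N38593 D63191) (tt N9608 (iv6 D29875)) (tt N38594 D63192))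
theorem Q19622 : ∀ i, i < 19622 → P i := stepQ 19621 Q19621 (allL N19621 (tt N19839 (iv1 F48413)) (tt N9609 (iv0 D29876)) (tt N19837 (iv2 F99259)) (tt N38595 D63194) (tt N38596 D63195) (tt N16001 (iv5 F81336)) (tt N38597 D63196) (tt N19838 (iv7 F99260)))
theorem Q19623 : ∀ i, i < 19623 → P i := stepQ 19622 Q19622 (allL N19622 (tt N9609 (iv1 D29877)) (tt N19839 F48412) (tt N19838 F99263) (tt N32346 (iv3 F165562)) (tt N38598 D63199) (tt N16002 (iv5 F81750)) (tt N32996 (iv6 F83851)) (tt N19837 F99264))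
theorem Q19624 : ∀ i, i < 19624 → P i := stepQ 19623 Q19623 (allL N19623 (tt N19838 (iv1 F48408)) (tt N19837 F48411) (tt N19839 (iv2 F48409)) (tt N9612 F48023) (tt N38594 (iv4 F98448)) (tt N15930 F48024) (tt N19741 (iv6 F48201)) (tt N9609 (iv7 D29878)))
theorem Q19625 : ∀ i, i < 19625 → P i := stepQ 19624 Q19624 (allL N19624 (tt N10058 F48027) (tt N10056 (iv0 F48028)) (tt N19752 (iv2 F48239)) (tt N38522 (iv3 F163915)) (tt N36156 (iv4 F322000)) (tt N19430 F48026) (tt N9610 (iv6 D29881)) (tt N19744 (iv7 F48217)))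
theorem Q19626 : ∀ i, i < 19626 → P i := stepQ 19625 Q19625 (allL N19625 (tt N15858 (iv1 F168277)) (tt N19716 (iv0 F168278)) (tt N19715 F168268) (tt N9611 (iv3 D29882)) (tt N28066 (iv4 F325393)) (tt N16010 F48029) (tt N19742 (iv6 F48202)) (tt N19714 (iv7 F168276)))
theorem Q19627 : ∀ i, i < 19627 → P i := stepQ 19626 Q19626 (allL N19626 (tt N9614 (iv1 F48032)) (tt N9613 (iv0 D29884)) (tt N9617 (iv2 F48030)) (tt N19754 (iv3 F48251)) (tt N38541 (iv4 F98409)) (tt N33972 (iv5 F86347)) (tt N38599 D63209) (tt N9615 F48031))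
theorem Q19628 : ∀ i, i < 19628 → P i := stepQ 19627 Q19627 (allL N19627 (tt N9617 (iv1 F211574)) (tt N9615 (iv0 F211575)) (tt N9613 (iv2 D29885)) (tt N24844 (iv3 F319066)) (tt N38600 D63213) (tt N24843 F317959) (tt N38601 D63215) (tt N9614 (iv7 F48033)))
theorem Q19629 : ∀ i, i < 19629 → P i := stepQ 19628 Q19628 (allL N19628 (tt N37981 (iv1 F211562)) (tt N38602 D63217) (tt N37763 (iv2 F211581)) (tt N9613 (iv3 D29886)) (tt N37761 (iv4 F211582)) (tt N38603 D63219) (tt N38604 D63220) (tt N37768 (iv7 F211580)))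
theorem Q19630 : ∀ i, i < 19630 → P i := stepQ 19629 Q19629 (allL N19629 (tt N38605 D63222) (tt N38606 D63223) (tt N38600 (iv2 F98463)) (tt N38607 D63224) (tt N9613 (iv4 D29887)) (tt N38608 D63225) (tt N38609 D63226) (tt N38610 D63227))
theorem Q19631 : ∀ i, i < 19631 → P i := stepQ 19630 Q19630 (allL N19630 (tt N38611 D63228) (tt N36940 (iv0 F216480)) (tt N24843 F317951) (tt N38603 (iv3 F98468)) (tt N24848 F317952) (tt N9613 (iv5 D29888)) (tt N24848 F317953) (tt N38612 D63232))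
theorem Q19632 : ∀ i, i < 19632 → P i := stepQ 19631 Q19631 (allL N19631 (tt N38613 D63233) (tt N37952 (iv0 F341747)) (tt N38601 (iv2 F98467)) (tt N38604 (iv3 F98469)) (tt N38609 (iv4 F98473)) (tt N38614 D63235) (tt N9613 (iv6 D29889)) (tt N38615 D63236))
theorem Q19633 : ∀ i, i < 19633 → P i := stepQ 19632 Q19632 (allL N19632 (tt N9615 F211577) (tt N9617 F211578) (tt N9614 F48034) (tt N37768 (iv3 F211579)) (tt N38610 (iv4 F98475)) (tt N38612 (iv5 F98479)) (tt N38616 D63237) (tt N9613 (iv7 D29890)))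
theorem Q19634 : ∀ i, i < 19634 → P i := stepQ 19633 Q19633 (allL N19633 (tt N38617 D63238) (tt N27986 (iv0 F317555)) (tt N38618 D63240) (tt N9614 (iv3 D29891)) (tt N38619 D63241) (tt N12304 F317493) (tt N38620 D63243) (tt N24844 (iv7 F319067)))
theorem Q19635 : ∀ i, i < 19635 → P i := stepQ 19634 Q19634 (allL N19634 (tt N38606 (iv1 F98472)) (tt N38605 F98476) (tt N38610 (iv2 F98474)) (tt N38621 D63244) (tt N9614 (iv4 D29892)) (tt N38622 D63245) (tt N38623 D63246) (tt N38600 (iv7 F98464)))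
theorem Q19636 : ∀ i, i < 19636 → P i := stepQ 19635 Q19635 (allL N19635 (tt N36940 (iv1 F216481)) (tt N38611 F98480) (tt N38612 (iv2 F98478)) (tt N12304 F317490) (tt N24565 F317491) (tt N9614 (iv5 D29893)) (tt N38624 D63248) (tt N24843 F317492))
theorem Q19637 : ∀ i, i < 19637 → P i := stepQ 19636 Q19636 (allL N19636 (tt N36165 F333830) (tt N38625 D63250) (tt N38616 (iv2 F98481)) (tt N38620 (iv3 F98485)) (tt N38623 (iv4 F98486)) (tt N38626 D63251) (tt N9614 (iv6 D29894)) (tt N38627 D63252))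
theorem Q19638 : ∀ i, i < 19638 → P i := stepQ 19637 Q19637 (allL N19637 (tt N33971 (iv1 F86350)) (tt N33970 F86345) (tt N9616 F48037) (tt N19765 (iv3 F48259)) (tt N38628 D63262) (tt N9615 (iv5 D29897)) (tt N38629 D63263) (tt N33972 (iv7 F86348)))
theorem Q19639 : ∀ i, i < 19639 → P i := stepQ 19638 Q19638 (allL N19638 (tt N33972 (iv1 F86349)) (tt N9616 (iv0 D29898)) (tt N33971 (iv2 F216648)) (tt N38630 D63265) (tt N38631 D63266) (tt N37346 (iv5 F211219)) (tt N38632 D63268) (tt N33970 F216647))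
theorem Q19640 : ∀ i, i < 19640 → P i := stepQ 19639 Q19639 (allL N19639 (tt N9616 (iv1 D29899)) (tt N33972 F86351) (tt N33970 F216643) (tt N11300 F317037) (tt N38633 D63271) (tt N36145 F326570) (tt N36146 (iv6 F327311)) (tt N33971 (iv7 F216649)))
theorem Q19641 : ∀ i, i < 19641 → P i := stepQ 19640 Q19640 (allL N19640 (tt N38634 D63274) (tt N38635 D63275) (tt N38628 (iv2 F98489)) (tt N33964 (iv3 F86285)) (tt N9616 (iv4 D29900)) (tt N38636 D63276) (tt N38637 D63277) (tt N33962 F86284))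
theorem Q19642 : ∀ i, i < 19642 → P i := stepQ 19641 Q19641 (allL N19641 (tt N38638 D63278) (tt N38639 D63279) (tt N38629 (iv2 F98490)) (tt N9618 F48038) (tt N38637 (iv4 F98495)) (tt N19769 (iv5 F48261)) (tt N9616 (iv6 D29901)) (tt N33940 F306853))
theorem Q19643 : ∀ i, i < 19643 → P i := stepQ 19642 Q19642 (allL N19642 (tt N38640 D63281) (tt N36160 F326671) (tt N38599 (iv2 F98459)) (tt N9619 F48039) (tt N38554 (iv4 F98420)) (tt N10830 F305863) (tt N9617 (iv6 D29902)) (tt N19770 (iv7 F48263)))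
theorem Q19644 : ∀ i, i < 19644 → P i := stepQ 19643 Q19643 (allL N19643 (tt N19773 (iv1 F48269)) (tt N9618 (iv0 D29903)) (tt N19771 (iv2 F208028)) (tt N38641 D63285) (tt N19122 (iv4 F207985)) (tt N38642 D63287) (tt N38643 D63288) (tt N19772 (iv7 F208029)))
theorem Q19645 : ∀ i, i < 19645 → P i := stepQ 19644 Q19644 (allL N19644 (tt N9618 (iv1 D29904)) (tt N19773 F48268) (tt N19772 F208031) (tt N34442 F314479) (tt N19123 (iv4 F208005)) (tt N38644 D63292) (tt N38645 D63293) (tt N19771 F208032))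
theorem Q19646 : ∀ i, i < 19646 → P i := stepQ 19645 Q19645 (allL N19645 (tt N9701 (iv1 F102006)) (tt N16585 (iv0 F102005)) (tt N19854 (iv2 F102004)) (tt N9620 (iv3 D29909)) (tt N38646 D63304) (tt N38647 D63305) (tt N33140 (iv6 F102012)) (tt N19774 F49072))
theorem Q19647 : ∀ i, i < 19647 → P i := stepQ 19646 Q19646 (allL N19646 (tt N18960 F48043) (tt N18960 (iv0 F48044)) (tt N19775 (iv2 F49076)) (tt N38647 (iv3 F98514)) (tt N24129 F306716) (tt N9620 (iv5 D29911)) (tt N18944 F48042) (tt N19775 F49074))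
theorem Q19648 : ∀ i, i < 19648 → P i := stepQ 19647 Q19647 (allL N19647 (tt N18262 F48049) (tt N18264 F48050) (tt N14940 F48046) (tt N38648 D63310) (tt N9621 (iv4 D29912)) (tt N38649 D63311) (tt N15365 F48047) (tt N18307 F48048))
theorem Q19649 : ∀ i, i < 19649 → P i := stepQ 19648 Q19648 (allL N19648 (tt N15059 (iv1 F48051)) (tt N9622 (iv0 D29913)) (tt N15055 (iv2 F48056)) (tt N20142 (iv3 F48865)) (tt N20145 (iv4 F48864)) (tt N38650 D63312) (tt N38651 D63313) (tt N15056 F48057))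
theorem Q19650 : ∀ i, i < 19650 → P i := stepQ 19649 Q19649 (allL N19649 (tt N9622 (iv1 D29914)) (tt N15059 F48052) (tt N15056 (iv2 F48054)) (tt N38652 D63314) (tt N14783 F48053) (tt N38653 D63315) (tt N38654 D63316) (tt N15055 (iv7 F48055)))
theorem Q19651 : ∀ i, i < 19651 → P i := stepQ 19650 Q19650 (allL N19650 (tt N38655 D63317) (tt N38656 D63318) (tt N38657 D63319) (tt N9622 (iv3 D29915)) (tt N38648 (iv4 F98526)) (tt N38658 D63320) (tt N15380 F48058) (tt N20416 (iv7 F49242)))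
theorem Q19652 : ∀ i, i < 19652 → P i := stepQ 19651 Q19651 (allL N19651 (tt N38659 D63321) (tt N38660 D63322) (tt N15058 F48059) (tt N38658 (iv3 F98551)) (tt N15494 F48061) (tt N9622 (iv5 D29916)) (tt N38661 D63323) (tt N15492 F48060))
theorem Q19653 : ∀ i, i < 19653 → P i := stepQ 19652 Q19652 (allL N19652 (tt N9640 (iv1 F48066)) (tt N9623 (iv0 D29917)) (tt N9637 (iv2 F48063)) (tt N18014 F48064) (tt N15378 F48062) (tt N31241 (iv5 F80251)) (tt N38662 D63324) (tt N9638 F48065))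
theorem Q19654 : ∀ i, i < 19654 → P i := stepQ 19653 Q19653 (allL N19653 (tt N15353 F48069) (tt N9904 F48070) (tt N9639 F48067) (tt N38663 D63325) (tt N9623 (iv4 D29918)) (tt N38664 D63326) (tt N10063 F48068) (tt N22689 (iv7 F53629)))
theorem Q19655 : ∀ i, i < 19655 → P i := stepQ 19654 Q19654 (allL N19654 (tt N9638 (iv1 F48073)) (tt N9637 F48074) (tt N9640 F48071) (tt N30579 (iv3 F78920)) (tt N22689 (iv4 F53626)) (tt N9624 F48072) (tt N38665 D63327) (tt N9623 (iv7 D29919)))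
theorem Q19656 : ∀ i, i < 19656 → P i := stepQ 19655 Q19655 (allL N19655 (tt N38469 (iv1 F98352)) (tt N37812 (iv0 F96651)) (tt N9642 F48075) (tt N38666 D63328) (tt N9625 (iv4 D29920)) (tt N38667 D63329) (tt N31731 (iv6 F81246)) (tt N9646 F48076))
theorem Q19657 : ∀ i, i < 19657 → P i := stepQ 19656 Q19656 (allL N19656 (tt N37812 (iv1 F96652)) (tt N38469 (iv0 F98351)) (tt N9646 F48077) (tt N38668 D63330) (tt N9626 (iv4 D29921)) (tt N38669 D63331) (tt N38670 D63332) (tt N9642 F48078))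
theorem Q19658 : ∀ i, i < 19658 → P i := stepQ 19657 Q19657 (allL N19657 (tt N38256 (iv1 F97788)) (tt N10038 (iv0 F48081)) (tt N9647 F48079) (tt N14962 F48080) (tt N38670 (iv4 F98593)) (tt N20201 (iv5 F48910)) (tt N9626 (iv6 D29922)) (tt N38255 (iv7 F97782)))
theorem Q19659 : ∀ i, i < 19659 → P i := stepQ 19658 Q19658 (allL N19658 (tt N30744 (iv1 F79346)) (tt N15349 F48084) (tt N9649 F48082) (tt N38671 D63333) (tt N9627 (iv4 D29923)) (tt N38672 D63334) (tt N35020 F328120) (tt N9652 F48083))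
theorem Q19660 : ∀ i, i < 19660 → P i := stepQ 19659 Q19659 (allL N19659 (tt N19615 F163932) (tt N38673 D63337) (tt N9650 F48085) (tt N19782 (iv3 F48297)) (tt N35020 (iv4 F327646)) (tt N16662 F48086) (tt N9627 (iv6 D29924)) (tt N38674 D63338))
theorem Q19661 : ∀ i, i < 19661 → P i := stepQ 19660 Q19660 (allL N19660 (tt N9628 (iv1 D29925)) (tt N9658 F48087) (tt N9655 (iv2 F48090)) (tt N38675 D63339) (tt N15369 F48089) (tt N38676 D63340) (tt N38677 D63341) (tt N9654 F48088))
theorem Q19662 : ∀ i, i < 19662 → P i := stepQ 19661 Q19661 (allL N19661 (tt N38678 D63342) (tt N38679 D63343) (tt N38680 D63344) (tt N9628 (iv3 D29926)) (tt N19537 F48091) (tt N38681 D63345) (tt N19537 F48092) (tt N38682 D63346))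
theorem Q19663 : ∀ i, i < 19663 → P i := stepQ 19662 Q19662 (allL N19662 (tt N36726 (iv1 F95129)) (tt N38683 D63347) (tt N9657 F48093) (tt N38681 (iv3 F98621)) (tt N38684 D63348) (tt N9628 (iv5 D29927)) (tt N38685 D63349) (tt N38686 D63350))
theorem Q19664 : ∀ i, i < 19664 → P i := stepQ 19663 Q19663 (allL N19663 (tt N9655 (iv1 F48096)) (tt N9654 F48097) (tt N9658 F48094) (tt N38682 (iv3 F98622)) (tt N9629 F48095) (tt N38686 (iv5 F98638)) (tt N38687 D63351) (tt N9628 (iv7 D29928)))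
theorem Q19665 : ∀ i, i < 19665 → P i := stepQ 19664 Q19664 (allL N19664 (tt N19608 (iv1 F48102)) (tt N19607 F48103) (tt N9659 F48098) (tt N19540 F48099) (tt N38687 (iv4 F98642)) (tt N19664 F48100) (tt N9629 (iv6 D29929)) (tt N19540 F48101))
theorem Q19666 : ∀ i, i < 19666 → P i := stepQ 19665 Q19665 (allL N19665 (tt N15394 F48108) (tt N15396 F48107) (tt N15457 F48104) (tt N38688 D63352) (tt N9630 (iv4 D29930)) (tt N38689 D63353) (tt N19522 F48105) (tt N15456 F48106))
theorem Q19667 : ∀ i, i < 19667 → P i := stepQ 19666 Q19666 (allL N19666 (tt N9631 (iv1 D29931)) (tt N15679 F48109) (tt N14896 (iv2 F48112)) (tt N18163 (iv3 F48113)) (tt N15399 (iv4 F48114)) (tt N15724 F48111) (tt N38690 D63354) (tt N15479 F48110))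
theorem Q19668 : ∀ i, i < 19668 → P i := stepQ 19667 Q19667 (allL N19667 (tt N9635 (iv1 F48116)) (tt N9632 (iv0 D29932)) (tt N22674 (iv2 F53567)) (tt N30580 (iv3 F78929)) (tt N22658 (iv4 F53516)) (tt N15731 F48115) (tt N38691 D63355) (tt N30594 (iv7 F78953)))
theorem Q19669 : ∀ i, i < 19669 → P i := stepQ 19668 Q19668 (allL N19668 (tt N9632 (iv1 D29933)) (tt N9635 F48117) (tt N30594 F78951) (tt N11143 F48119) (tt N22659 (iv4 F53519)) (tt N15632 (iv5 F48118)) (tt N35818 (iv6 F93310)) (tt N22674 (iv7 F53569)))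
theorem Q19670 : ∀ i, i < 19670 → P i := stepQ 19669 Q19669 (allL N19669 (tt N19573 F48120) (tt N20218 (iv0 F48965)) (tt N36721 (iv2 F95112)) (tt N38692 D63356) (tt N9632 (iv4 D29934)) (tt N30723 (iv5 F79285)) (tt N38693 D63357) (tt N30595 (iv7 F78955)))
theorem Q19671 : ∀ i, i < 19671 → P i := stepQ 19670 Q19670 (allL N19670 (tt N38694 D63358) (tt N38695 D63359) (tt N31434 (iv2 F80647)) (tt N18322 F48121) (tt N38693 (iv4 F98661)) (tt N18316 F48122) (tt N9632 (iv6 D29935)) (tt N38696 D63360))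
theorem Q19672 : ∀ i, i < 19672 → P i := stepQ 19671 Q19671 (allL N19671 (tt N30576 (iv1 F78912)) (tt N18682 F48126) (tt N18013 F48123) (tt N9635 F48124) (tt N38241 (iv4 F97750)) (tt N9634 (iv5 D29936)) (tt N38697 D63361) (tt N18011 F48125))
theorem Q19673 : ∀ i, i < 19673 → P i := stepQ 19672 Q19672 (allL N19672 (tt N18788 F48130) (tt N18028 (iv0 F48131)) (tt N16051 F48127) (tt N9636 F48128) (tt N15508 F48129) (tt N35918 (iv5 F93557)) (tt N9634 (iv6 D29937)) (tt N29627 (iv7 F76846)))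
theorem Q19674 : ∀ i, i < 19674 → P i := stepQ 19673 Q19673 (allL N19673 (tt N20218 F48966) (tt N19573 F48132) (tt N30595 (iv2 F78954)) (tt N38698 D63362) (tt N9635 (iv4 D29938)) (tt N30724 (iv5 F79287)) (tt N38699 D63363) (tt N36721 (iv7 F95113)))
theorem Q19675 : ∀ i, i < 19675 → P i := stepQ 19674 Q19674 (allL N19674 (tt N38700 D63364) (tt N38701 D63365) (tt N30596 (iv2 F78958)) (tt N38697 (iv3 F98665)) (tt N38699 (iv4 F98667)) (tt N35073 F329395) (tt N9635 (iv6 D29939)) (tt N38702 D63367))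
theorem Q19676 : ∀ i, i < 19676 → P i := stepQ 19675 Q19675 (allL N19675 (tt N11095 F48135) (tt N15723 (iv0 F48136)) (tt N19124 F48133) (tt N35918 F93562) (tt N35069 (iv4 F329409)) (tt N9636 (iv5 D29940)) (tt N35073 F329396) (tt N19125 F48134))
theorem Q19677 : ∀ i, i < 19677 → P i := stepQ 19676 Q19676 (allL N19676 (tt N38703 D63368) (tt N38704 D63369) (tt N38662 (iv2 F98566)) (tt N30571 (iv3 F78894)) (tt N30714 (iv4 F79277)) (tt N20432 (iv5 F49288)) (tt N9637 (iv6 D29941)) (tt N38705 D63370))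
theorem Q19678 : ∀ i, i < 19678 → P i := stepQ 19677 Q19677 (allL N19677 (tt N14759 (iv1 F48141)) (tt N18017 (iv0 F48140)) (tt N18015 F48137) (tt N9638 (iv3 D29942)) (tt N19860 (iv4 F48454)) (tt N16187 F48138) (tt N38706 D63371) (tt N18014 F48139))
theorem Q19679 : ∀ i, i < 19679 → P i := stepQ 19678 Q19678 (allL N19678 (tt N38707 D63372) (tt N38708 D63373) (tt N30610 (iv2 F78974)) (tt N38706 (iv3 F98678)) (tt N30717 (iv4 F79279)) (tt N31394 (iv5 F80584)) (tt N9638 (iv6 D29943)) (tt N38709 D63374))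
theorem Q19680 : ∀ i, i < 19680 → P i := stepQ 19679 Q19679 (allL N19679 (tt N38710 D63375) (tt N38711 D63376) (tt N38712 D63377) (tt N9639 (iv3 D29944)) (tt N16118 F48142) (tt N38713 D63378) (tt N33295 (iv6 F84418)) (tt N38714 D63379))
theorem Q19681 : ∀ i, i < 19681 → P i := stepQ 19680 Q19680 (allL N19680 (tt N22661 (iv1 F53524)) (tt N30747 (iv0 F79353)) (tt N38664 (iv2 F98571)) (tt N38713 (iv3 F98681)) (tt N38686 (iv4 F98637)) (tt N9639 (iv5 D29945)) (tt N38715 D63380) (tt N38684 (iv7 F98633)))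
theorem Q19682 : ∀ i, i < 19682 → P i := stepQ 19681 Q19681 (allL N19681 (tt N9904 (iv1 F48144)) (tt N15353 F48145) (tt N22689 F53627) (tt N38714 (iv3 F98682)) (tt N9640 F48143) (tt N38684 (iv5 F98630)) (tt N38716 D63381) (tt N9639 (iv7 D29946)))
theorem Q19683 : ∀ i, i < 19683 → P i := stepQ 19682 Q19682 (allL N19682 (tt N38717 D63382) (tt N38718 D63383) (tt N38665 (iv2 F98576)) (tt N16121 F48146) (tt N38716 (iv4 F98684)) (tt N19682 F48147) (tt N9640 (iv6 D29947)) (tt N20781 (iv7 F49600)))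
theorem Q19684 : ∀ i, i < 19684 → P i := stepQ 19683 Q19683 (allL N19683 (tt N30693 (iv1 F79239)) (tt N30691 (iv0 F79234)) (tt N18940 F48148) (tt N38719 D63384) (tt N9641 (iv4 D29948)) (tt N38720 D63385) (tt N38721 D63386) (tt N36724 (iv7 F95121)))
theorem Q19685 : ∀ i, i < 19685 → P i := stepQ 19684 Q19684 (allL N19684 (tt N38722 D63387) (tt N38723 D63388) (tt N18941 F48149) (tt N19552 F48150) (tt N38721 (iv4 F98693)) (tt N15818 F48151) (tt N9641 (iv6 D29949)) (tt N38724 D63389))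
theorem Q19686 : ∀ i, i < 19686 → P i := stepQ 19685 Q19685 (allL N19685 (tt N9646 (iv1 F48153)) (tt N9642 (iv0 D29950)) (tt N38469 (iv2 F98349)) (tt N38725 D63390) (tt N18658 F48152) (tt N38726 D63391) (tt N38727 D63392) (tt N37812 (iv7 F96650)))
theorem Q19687 : ∀ i, i < 19687 → P i := stepQ 19686 Q19686 (allL N19686 (tt N9642 (iv1 D29951)) (tt N9646 F48154) (tt N37812 (iv2 F96649)) (tt N38728 D63393) (tt N18659 F48155) (tt N38729 D63394) (tt N38730 D63395) (tt N38469 (iv7 F98350)))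
theorem Q19688 : ∀ i, i < 19688 → P i := stepQ 19687 Q19687 (allL N19687 (tt N38731 D63396) (tt N38732 D63397) (tt N38733 D63398) (tt N9642 (iv3 D29952)) (tt N30045 (iv4 F77880)) (tt N38734 D63399) (tt N38735 D63400) (tt N38668 (iv7 F98586)))
theorem Q19689 : ∀ i, i < 19689 → P i := stepQ 19688 Q19688 (allL N19688 (tt N30770 (iv1 F79415)) (tt N30743 (iv0 F79339)) (tt N38667 (iv2 F98580)) (tt N38734 (iv3 F98713)) (tt N30747 (iv4 F79351)) (tt N9642 (iv5 D29953)) (tt N38736 D63401) (tt N38669 (iv7 F98589)))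
theorem Q19690 : ∀ i, i < 19690 → P i := stepQ 19689 Q19689 (allL N19689 (tt N38737 D63402) (tt N38738 D63403) (tt N31731 (iv2 F81245)) (tt N38735 (iv3 F98714)) (tt N9643 F48156) (tt N38739 D63404) (tt N9642 (iv6 D29954)) (tt N38740 D63405))
theorem Q19691 : ∀ i, i < 19691 → P i := stepQ 19690 Q19690 (allL N19690 (tt N31732 F81252) (tt N9643 (iv0 D29955)) (tt N18956 (iv2 F164108)) (tt N19558 F164116) (tt N38741 D63408) (tt N30782 F79450) (tt N19558 (iv6 F79451)) (tt N30859 (iv7 F164311)))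
theorem Q19692 : ∀ i, i < 19692 → P i := stepQ 19691 Q19691 (allL N19691 (tt N30859 (iv1 F79582)) (tt N18956 (iv0 F164312)) (tt N31732 (iv2 F81247)) (tt N30049 (iv3 F77886)) (tt N38740 (iv4 F98715)) (tt N31615 (iv5 F81032)) (tt N38255 F97783) (tt N9643 (iv7 D29957)))
theorem Q19693 : ∀ i, i < 19693 → P i := stepQ 19692 Q19692 (allL N19692 (tt N9686 (iv1 F48160)) (tt N9644 (iv0 D29958)) (tt N18975 (iv2 F48159)) (tt N19541 F48158) (tt N19227 F48157) (tt N20110 (iv5 F48839)) (tt N38742 D63413) (tt N19776 (iv7 F48281)))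
theorem Q19694 : ∀ i, i < 19694 → P i := stepQ 19693 Q19693 (allL N19693 (tt N18731 (iv1 F48162)) (tt N18728 F48161) (tt N19779 (iv2 F48288)) (tt N38743 D63414) (tt N9644 (iv4 D29959)) (tt N35990 (iv5 F93732)) (tt N38744 D63415) (tt N19777 (iv7 F48283)))
theorem Q19695 : ∀ i, i < 19695 → P i := stepQ 19694 Q19694 (allL N19694 (tt N38745 D63416) (tt N33120 (iv0 F84102)) (tt N19780 (iv2 F48291)) (tt N9647 F48163) (tt N38744 (iv4 F98735)) (tt N38746 D63417) (tt N9644 (iv6 D29960)) (tt N38747 D63418))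
theorem Q19696 : ∀ i, i < 19696 → P i := stepQ 19695 Q19695 (allL N19695 (tt N15067 F48166) (tt N11064 (iv0 F48167)) (tt N19384 F48164) (tt N9648 F48165) (tt N30586 (iv4 F78944)) (tt N9645 (iv5 D29961)) (tt N38746 (iv6 F98742)) (tt N20007 (iv7 F48719)))
theorem Q19697 : ∀ i, i < 19697 → P i := stepQ 19696 Q19696 (allL N19696 (tt N38748 D63419) (tt N38749 D63420) (tt N38750 D63421) (tt N9646 (iv3 D29962)) (tt N38743 (iv4 F98734)) (tt N38751 D63422) (tt N38752 D63423) (tt N38666 (iv7 F98579)))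
theorem Q19698 : ∀ i, i < 19698 → P i := stepQ 19697 Q19697 (allL N19697 (tt N30743 (iv1 F79340)) (tt N30770 (iv0 F79414)) (tt N38669 (iv2 F98587)) (tt N38751 (iv3 F98746)) (tt N22661 (iv4 F53523)) (tt N9646 (iv5 D29963)) (tt N38753 D63424) (tt N38667 (iv7 F98581)))
theorem Q19699 : ∀ i, i < 19699 → P i := stepQ 19698 Q19698 (allL N19698 (tt N38754 D63425) (tt N38755 D63426) (tt N38670 (iv2 F98592)) (tt N38752 (iv3 F98747)) (tt N9647 F48168) (tt N38756 D63427) (tt N9646 (iv6 D29964)) (tt N38757 D63428))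
theorem Q19700 : ∀ i, i < 19700 → P i := stepQ 19699 Q19699 (allL N19699 (tt N9647 (iv1 D29966)) (tt N38255 F97781) (tt N10038 F48170) (tt N19570 F48171) (tt N38758 D63429) (tt N10030 F48172) (tt N18947 (iv6 F48169)) (tt N38256 (iv7 F97787)))
theorem Q19701 : ∀ i, i < 19701 → P i := stepQ 19700 Q19700 (allL N19700 (tt N38258 (iv1 F168234)) (tt N38759 D63431) (tt N20201 (iv2 F48908)) (tt N38746 (iv3 F98741)) (tt N38760 D63432) (tt N9647 (iv5 D29967)) (tt N9648 F48173) (tt N38761 D63433))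
theorem Q19702 : ∀ i, i < 19702 → P i := stepQ 19701 Q19701 (allL N19701 (tt N10038 (iv1 F48174)) (tt N38256 F97789) (tt N38255 F97780) (tt N38747 (iv3 F98743)) (tt N38757 (iv4 F98751)) (tt N38761 (iv5 F98762)) (tt N31732 (iv6 F81249)) (tt N9647 (iv7 D29968)))
theorem Q19703 : ∀ i, i < 19703 → P i := stepQ 19702 Q19702 (allL N19702 (tt N19564 F48175) (tt N19548 F48176) (tt N20200 (iv2 F48907)) (tt N38762 D63434) (tt N9648 (iv4 D29969)) (tt N35053 F329118) (tt N38760 (iv6 F98760)) (tt N20202 (iv7 F48911)))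
theorem Q19704 : ∀ i, i < 19704 → P i := stepQ 19703 Q19703 (allL N19703 (tt N9652 (iv1 F48178)) (tt N9649 (iv0 D29970)) (tt N30744 (iv2 F79342)) (tt N38763 D63436) (tt N15350 F48177) (tt N30770 (iv5 F79413)) (tt N38764 D63437) (tt N15349 F48179))
theorem Q19705 : ∀ i, i < 19705 → P i := stepQ 19704 Q19704 (allL N19704 (tt N38765 D63438) (tt N38766 D63439) (tt N38767 D63440) (tt N9649 (iv3 D29971)) (tt N30029 (iv4 F77845)) (tt N38768 D63441) (tt N38769 D63442) (tt N31664 (iv7 F81136)))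
theorem Q19706 : ∀ i, i < 19706 → P i := stepQ 19705 Q19705 (allL N19705 (tt N38770 D63443) (tt N38771 D63444) (tt N38672 (iv2 F98597)) (tt N38768 (iv3 F98771)) (tt N30752 (iv4 F79373)) (tt N9649 (iv5 D29972)) (tt N35463 (iv6 F328660)) (tt N31665 (iv7 F81138)))
theorem Q19707 : ∀ i, i < 19707 → P i := stepQ 19706 Q19706 (allL N19706 (tt N38772 D63446) (tt N38773 D63447) (tt N35020 (iv2 F327645)) (tt N38769 (iv3 F98772)) (tt N9650 F48180) (tt N12402 (iv5 F327857)) (tt N9649 (iv6 D29973)) (tt N34770 (iv7 F327640)))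
theorem Q19708 : ∀ i, i < 19708 → P i := stepQ 19707 Q19707 (allL N19707 (tt N38674 F98609) (tt N9650 (iv0 D29974)) (tt N19615 F163925) (tt N19579 F168259) (tt N38774 D63452) (tt N38775 D63453) (tt N19588 F79594) (tt N38673 (iv7 F101650)))
theorem Q19709 : ∀ i, i < 19709 → P i := stepQ 19708 Q19708 (allL N19708 (tt N9650 (iv1 D29975)) (tt N38674 F98608) (tt N38673 (iv2 F101649)) (tt N9663 (iv3 F163949)) (tt N38776 D63456) (tt N33467 (iv5 F163951)) (tt N38777 D63458) (tt N19615 F163933))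
theorem Q19710 : ∀ i, i < 19710 → P i := stepQ 19709 Q19709 (allL N19709 (tt N38673 (iv1 F98604)) (tt N19615 F163931) (tt N38674 (iv2 F98605)) (tt N30120 (iv3 F78041)) (tt N34770 (iv4 F327639)) (tt N20224 (iv5 F79363)) (tt N31663 (iv6 F81130)) (tt N9650 (iv7 D29976)))
theorem Q19711 : ∀ i, i < 19711 → P i := stepQ 19710 Q19710 (allL N19710 (tt N38778 D63459) (tt N38779 D63460) (tt N19783 (iv2 F48298)) (tt N9653 F48181) (tt N35983 (iv4 F93719)) (tt N31592 (iv5 F80962)) (tt N9651 (iv6 D29977)) (tt N38780 D63461))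
theorem Q19712 : ∀ i, i < 19712 → P i := stepQ 19711 Q19711 (allL N19711 (tt N38781 D63462) (tt N38782 D63463) (tt N38783 D63464) (tt N9652 (iv3 D29978)) (tt N35981 (iv4 F93713)) (tt N38784 D63465) (tt N38785 D63466) (tt N38671 (iv7 F98596)))
theorem Q19713 : ∀ i, i < 19713 → P i := stepQ 19712 Q19712 (allL N19712 (tt N38771 (iv1 F98781)) (tt N38770 F98776) (tt N31665 (iv2 F81137)) (tt N38784 (iv3 F98797)) (tt N22691 (iv4 F53635)) (tt N9652 (iv5 D29979)) (tt N38786 D63467) (tt N38672 (iv7 F98599)))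
theorem Q19714 : ∀ i, i < 19714 → P i := stepQ 19713 Q19713 (allL N19713 (tt N38787 D63468) (tt N38788 D63469) (tt N31662 (iv2 F81125)) (tt N38785 (iv3 F98798)) (tt N9653 F48182) (tt N38789 D63470) (tt N9652 (iv6 D29980)) (tt N38790 D63471))
theorem Q19715 : ∀ i, i < 19715 → P i := stepQ 19714 Q19714 (allL N19714 (tt N31663 F81133) (tt N9653 (iv0 D29981)) (tt N31661 (iv2 F101135)) (tt N9667 (iv3 F168287)) (tt N38791 D63474) (tt N15474 F81134) (tt N38792 D63475) (tt N19625 F168276))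
theorem Q19716 : ∀ i, i < 19716 → P i := stepQ 19715 Q19715 (allL N19715 (tt N9653 (iv1 D29982)) (tt N31663 F81131) (tt N19625 (iv2 F168268)) (tt N19588 (iv3 F168269)) (tt N38793 D63478) (tt N15475 (iv5 F79498)) (tt N19579 (iv6 F79500)) (tt N31661 (iv7 F101136)))
theorem Q19717 : ∀ i, i < 19717 → P i := stepQ 19716 Q19716 (allL N19716 (tt N19625 F168278) (tt N31661 (iv0 F81121)) (tt N31663 (iv2 F81127)) (tt N38780 (iv3 F98796)) (tt N38790 (iv4 F98799)) (tt N31598 (iv5 F80979)) (tt N38674 (iv6 F98607)) (tt N9653 (iv7 D29983)))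
theorem Q19718 : ∀ i, i < 19718 → P i := stepQ 19717 Q19717 (allL N19717 (tt N38794 D63479) (tt N38795 D63480) (tt N38796 D63481) (tt N9654 (iv3 D29984)) (tt N33022 (iv4 F83914)) (tt N38797 D63482) (tt N38798 D63483) (tt N38675 (iv7 F98611)))
theorem Q19719 : ∀ i, i < 19719 → P i := stepQ 19718 Q19718 (allL N19718 (tt N38799 D63484) (tt N37331 (iv0 F95811)) (tt N36785 (iv2 F95197)) (tt N38797 (iv3 F98811)) (tt N30716 (iv4 F79278)) (tt N9654 (iv5 D29985)) (tt N35465 (iv6 F326580)) (tt N38676 (iv7 F98614)))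
theorem Q19720 : ∀ i, i < 19720 → P i := stepQ 19719 Q19719 (allL N19719 (tt N38774 (iv1 F164011)) (tt N38776 (iv0 F100852)) (tt N35015 (iv2 F326578)) (tt N38798 (iv3 F98812)) (tt N30696 (iv4 F79250)) (tt N34901 (iv5 F326602)) (tt N9654 (iv6 D29986)) (tt N35014 (iv7 F326604)))
theorem Q19721 : ∀ i, i < 19721 → P i := stepQ 19720 Q19720 (allL N19720 (tt N38800 D63490) (tt N38801 D63491) (tt N38802 D63492) (tt N9655 (iv3 D29987)) (tt N35630 (iv4 F93021)) (tt N27027 F323234) (tt N14026 (iv6 F324644)) (tt N36784 (iv7 F95196)))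
theorem Q19722 : ∀ i, i < 19722 → P i := stepQ 19721 Q19721 (allL N19721 (tt N37331 (iv1 F95812)) (tt N38799 F98815) (tt N38676 (iv2 F98612)) (tt N27027 F323233) (tt N30713 (iv4 F79276)) (tt N9655 (iv5 D29988)) (tt N27026 (iv6 F324642)) (tt N36785 (iv7 F95198)))
theorem Q19723 : ∀ i, i < 19723 → P i := stepQ 19722 Q19722 (allL N19722 (tt N38791 (iv1 F168288)) (tt N38793 (iv0 F168416)) (tt N38677 (iv2 F98616)) (tt N14026 F325747) (tt N30697 (iv4 F79252)) (tt N14008 (iv5 F326576)) (tt N9655 (iv6 D29989)) (tt N14007 (iv7 F326260)))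
theorem Q19724 : ∀ i, i < 19724 → P i := stepQ 19723 Q19723 (allL N19723 (tt N38803 D63500) (tt N9656 (iv0 D29990)) (tt N38039 (iv2 F213148)) (tt N38804 D63502) (tt N38038 (iv4 F213147)) (tt N38805 D63504) (tt N38806 D63505) (tt N38807 D63506))
theorem Q19725 : ∀ i, i < 19725 → P i := stepQ 19724 Q19724 (allL N19724 (tt N9656 (iv1 D29991)) (tt N38803 F98822) (tt N38807 (iv2 F98824)) (tt N38808 D63507) (tt N38042 (iv4 F213151)) (tt N38809 D63508) (tt N38810 D63509) (tt N38039 (iv7 F213149)))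
theorem Q19726 : ∀ i, i < 19726 → P i := stepQ 19725 Q19725 (allL N19725 (tt N38039 F97270) (tt N38807 (iv0 F213166)) (tt N9656 (iv2 D29992)) (tt N38680 (iv3 F98618)) (tt N9672 F48183) (tt N38811 D63511) (tt N19598 F48184) (tt N38803 (iv7 F98821)))
theorem Q19727 : ∀ i, i < 19727 → P i := stepQ 19726 Q19726 (allL N19726 (tt N38812 D63512) (tt N38813 D63513) (tt N38811 (iv2 F98826)) (tt N9657 F48185) (tt N38814 D63514) (tt N9656 (iv5 D29993)) (tt N38815 D63515) (tt N38816 D63516))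
theorem Q19728 : ∀ i, i < 19728 → P i := stepQ 19727 Q19727 (allL N19727 (tt N38807 (iv1 F213167)) (tt N38039 (iv0 F97269)) (tt N38803 F98819) (tt N9658 F48186) (tt N9674 F48187) (tt N38816 (iv5 F98830)) (tt N38817 D63517) (tt N9656 (iv7 D29994)))
theorem Q19729 : ∀ i, i < 19729 → P i := stepQ 19728 Q19728 (allL N19728 (tt N38686 (iv1 F98640)) (tt N9657 (iv0 D29995)) (tt N36726 (iv2 F95125)) (tt N38818 D63518) (tt N30724 F79288) (tt N30691 (iv5 F79233)) (tt N38819 D63519) (tt N38683 (iv7 F98625)))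
theorem Q19730 : ∀ i, i < 19730 → P i := stepQ 19729 Q19729 (allL N19729 (tt N9657 (iv1 D29996)) (tt N38686 F98639) (tt N38683 F98628) (tt N38820 D63520) (tt N30723 (iv4 F79286)) (tt N30693 F79241) (tt N38821 D63521) (tt N36726 (iv7 F95126)))
theorem Q19731 : ∀ i, i < 19731 → P i := stepQ 19730 Q19730 (allL N19730 (tt N30747 (iv1 F79354)) (tt N22661 (iv0 F53631)) (tt N38684 (iv2 F98629)) (tt N38822 D63522) (tt N9657 (iv4 D29997)) (tt N22689 F53630) (tt N38823 D63523) (tt N38664 (iv7 F98572)))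
theorem Q19732 : ∀ i, i < 19732 → P i := stepQ 19731 Q19731 (allL N19731 (tt N38824 D63524) (tt N38825 D63525) (tt N38685 (iv2 F98634)) (tt N38815 (iv3 F98827)) (tt N38823 (iv4 F98834)) (tt N19604 F48188) (tt N9657 (iv6 D29998)) (tt N38826 D63526))
theorem Q19733 : ∀ i, i < 19733 → P i := stepQ 19732 Q19732 (allL N19732 (tt N38683 (iv1 F98624)) (tt N36726 (iv0 F95128)) (tt N38686 (iv2 F98636)) (tt N38816 (iv3 F98829)) (tt N38664 (iv4 F98573)) (tt N9658 F48189) (tt N38827 D63527) (tt N9657 (iv7 D29999)))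
theorem Q19734 : ∀ i, i < 19734 → P i := stepQ 19733 Q19733 (allL N19733 (tt N38828 D63528) (tt N38829 D63529) (tt N38687 (iv2 F98641)) (tt N38817 (iv3 F98831)) (tt N9659 F48190) (tt N38830 D63530) (tt N9658 (iv6 D30000)) (tt N19606 F48191))
theorem Q19735 : ∀ i, i < 19735 → P i := stepQ 19734 Q19734 (allL N19734 (tt N19540 (iv1 F48192)) (tt N9659 (iv0 D30001)) (tt N19608 (iv2 F102125)) (tt N30131 (iv3 F102052)) (tt N38831 D63533) (tt N38832 D63534) (tt N38833 D63535) (tt N19607 F102124))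
theorem Q19736 : ∀ i, i < 19736 → P i := stepQ 19735 Q19735 (allL N19735 (tt N9659 (iv1 D30002)) (tt N19540 F48193) (tt N19607 F102123) (tt N38834 D63537) (tt N38835 D63538) (tt N38836 D63539) (tt N20546 F49396) (tt N19608 (iv7 F102126)))
theorem Q19737 : ∀ i, i < 19737 → P i := stepQ 19736 Q19736 (allL N19736 (tt N9711 (iv1 F48196)) (tt N9660 (iv0 D30003)) (tt N19618 (iv2 F48195)) (tt N38837 D63540) (tt N18232 F48194) (tt N35991 (iv5 F93736)) (tt N38838 D63541) (tt N18231 F48197))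
theorem Q19738 : ∀ i, i < 19738 → P i := stepQ 19737 Q19737 (allL N19737 (tt N37400 (iv1 F95925)) (tt N37402 (iv0 F95927)) (tt N19800 (iv2 F48339)) (tt N38006 (iv3 F97183)) (tt N35973 (iv4 F93686)) (tt N9660 (iv5 D30004)) (tt N38839 D63542) (tt N19619 F48198))
theorem Q19739 : ∀ i, i < 19739 → P i := stepQ 19738 Q19738 (allL N19738 (tt N38840 D63543) (tt N38841 D63544) (tt N19801 (iv2 F48341)) (tt N38007 (iv3 F97185)) (tt N9661 F48199) (tt N38842 D63545) (tt N9660 (iv6 D30005)) (tt N38843 D63546))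
theorem Q19740 : ∀ i, i < 19740 → P i := stepQ 19739 Q19739 (allL N19739 (tt N19805 (iv1 F48350)) (tt N9661 (iv0 D30006)) (tt N19802 (iv2 F99767)) (tt N38844 D63548) (tt N38845 D63549) (tt N38846 D63550) (tt N33020 F83900) (tt N19803 F99766))
theorem Q19741 : ∀ i, i < 19741 → P i := stepQ 19740 Q19740 (allL N19740 (tt N9661 (iv1 D30007)) (tt N19805 F48349) (tt N19803 F99765) (tt N38847 D63552) (tt N32525 (iv4 F327477)) (tt N38848 D63554) (tt N32524 F326888) (tt N19802 (iv7 F99768)))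
theorem Q19742 : ∀ i, i < 19742 → P i := stepQ 19741 Q19741 (allL N19741 (tt N19803 (iv1 F48343)) (tt N19802 F48348) (tt N19805 (iv2 F48347)) (tt N9664 F48200) (tt N38843 (iv4 F98864)) (tt N19944 (iv5 F48902)) (tt N19623 F48201) (tt N9661 (iv7 D30008)))
theorem Q19743 : ∀ i, i < 19743 → P i := stepQ 19742 Q19742 (allL N19742 (tt N19581 F168255) (tt N19535 F168256) (tt N19579 F168257) (tt N9662 (iv3 D30009)) (tt N38849 D63559) (tt N38850 D63560) (tt N19625 F48202) (tt N19580 F168258))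
theorem Q19744 : ∀ i, i < 19744 → P i := stepQ 19743 Q19743 (allL N19743 (tt N22720 F53769) (tt N10059 (iv0 F48210)) (tt N19616 F48207) (tt N38850 (iv3 F98880)) (tt N38851 D63561) (tt N9662 (iv5 D30011)) (tt N15583 F48208) (tt N10132 F48209))
theorem Q19745 : ∀ i, i < 19745 → P i := stepQ 19744 Q19744 (allL N19744 (tt N16722 F48220) (tt N16724 (iv0 F48219)) (tt N19617 F48215) (tt N38777 (iv3 F163941)) (tt N18333 F322423) (tt N18996 F48216) (tt N9663 (iv6 D30014)) (tt N19624 F48217))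
theorem Q19746 : ∀ i, i < 19746 → P i := stepQ 19745 Q19745 (allL N19745 (tt N16568 (iv1 F48222)) (tt N9665 (iv0 D30015)) (tt N18226 (iv2 F48223)) (tt N38852 D63567) (tt N15728 F48221) (tt N38234 (iv5 F97727)) (tt N18231 (iv6 F48224)) (tt N19609 (iv7 F48225)))
theorem Q19747 : ∀ i, i < 19747 → P i := stepQ 19746 Q19746 (allL N19746 (tt N9665 (iv1 D30016)) (tt N16568 F48226) (tt N19609 (iv2 F48229)) (tt N38853 D63568) (tt N18227 (iv4 F48228)) (tt N38235 (iv5 F97733)) (tt N38854 D63569) (tt N18226 F48227))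
theorem Q19748 : ∀ i, i < 19748 → P i := stepQ 19747 Q19747 (allL N19747 (tt N37311 (iv1 F95793)) (tt N37314 (iv0 F95794)) (tt N33017 (iv2 F83889)) (tt N38025 (iv3 F97230)) (tt N38855 D63570) (tt N9665 (iv5 D30017)) (tt N38856 D63571) (tt N19610 F48230))
theorem Q19749 : ∀ i, i < 19749 → P i := stepQ 19748 Q19748 (allL N19748 (tt N38857 D63572) (tt N38858 D63573) (tt N33018 (iv2 F83892)) (tt N38026 (iv3 F97232)) (tt N9666 F48231) (tt N38859 D63574) (tt N9665 (iv6 D30018)) (tt N38860 D63575))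
theorem Q19750 : ∀ i, i < 19750 → P i := stepQ 19749 Q19749 (allL N19749 (tt N33021 F83913) (tt N9666 (iv0 D30019)) (tt N33019 (iv2 F99776)) (tt N38861 D63577) (tt N32528 (iv4 F327474)) (tt N15593 F80034) (tt N32527 F326878) (tt N33020 (iv7 F99770)))
theorem Q19751 : ∀ i, i < 19751 → P i := stepQ 19750 Q19750 (allL N19750 (tt N9666 (iv1 D30020)) (tt N33021 F83912) (tt N33020 (iv2 F99769)) (tt N30122 F168184) (tt N38862 D63582) (tt N15594 F83962) (tt N19802 F83963) (tt N33019 (iv7 F99777)))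
theorem Q19752 : ∀ i, i < 19752 → P i := stepQ 19751 Q19751 (allL N19751 (tt N33020 (iv1 F83896)) (tt N33019 (iv0 F83895)) (tt N33021 (iv2 F83908)) (tt N9669 F48232) (tt N38860 (iv4 F98908)) (tt N15522 F48233) (tt N19614 F48234) (tt N9666 (iv7 D30021)))
theorem Q19753 : ∀ i, i < 19753 → P i := stepQ 19752 Q19752 (allL N19752 (tt N16724 F48242) (tt N16722 (iv0 F48243)) (tt N19624 F48239) (tt N38792 (iv3 F168266)) (tt N37127 (iv4 F95556)) (tt N18997 F48240) (tt N9667 (iv6 D30024)) (tt N19617 F48241))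
theorem Q19754 : ∀ i, i < 19754 → P i := stepQ 19753 Q19753 (allL N19753 (tt N15425 (iv1 F163900)) (tt N19589 (iv0 F163899)) (tt N19588 (iv2 F163901)) (tt N9668 (iv3 D30025)) (tt N38863 D63591) (tt N15603 F48244) (tt N19615 F48245) (tt N19587 (iv7 F163897)))
theorem Q19755 : ∀ i, i < 19755 → P i := stepQ 19754 Q19754 (allL N19754 (tt N9671 (iv1 F48253)) (tt N9670 (iv0 D30027)) (tt N9674 (iv2 F48250)) (tt N19626 F48251) (tt N38803 (iv4 F98820)) (tt N22036 (iv5 F52397)) (tt N38864 D63592) (tt N9672 F48252))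
theorem Q19756 : ∀ i, i < 19756 → P i := stepQ 19755 Q19755 (allL N19755 (tt N9674 (iv1 F207209)) (tt N9672 (iv0 F207210)) (tt N9670 (iv2 D30028)) (tt N38865 D63595) (tt N38866 D63596) (tt N38867 D63597) (tt N38868 D63598) (tt N9671 (iv7 F48254)))
theorem Q19757 : ∀ i, i < 19757 → P i := stepQ 19756 Q19756 (allL N19756 (tt N37115 (iv1 F207718)) (tt N38869 D63600) (tt N36846 (iv2 F207216)) (tt N9670 (iv3 D30029)) (tt N36844 (iv4 F207217)) (tt N36592 F315358) (tt N38870 D63603) (tt N36851 (iv7 F207215)))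
theorem Q19758 : ∀ i, i < 19758 → P i := stepQ 19757 Q19757 (allL N19757 (tt N38871 D63605) (tt N38872 D63606) (tt N38866 (iv2 F98945)) (tt N38873 D63607) (tt N9670 (iv4 D30030)) (tt N38874 D63608) (tt N38875 D63609) (tt N38876 D63610))
theorem Q19759 : ∀ i, i < 19759 → P i := stepQ 19758 Q19758 (allL N19758 (tt N38877 D63611) (tt N37072 (iv0 F212146)) (tt N38867 (iv2 F98947)) (tt N36592 F315357) (tt N38878 D63613) (tt N9670 (iv5 D30031)) (tt N38879 D63614) (tt N38880 D63615))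
theorem Q19760 : ∀ i, i < 19760 → P i := stepQ 19759 Q19759 (allL N19759 (tt N38881 D63616) (tt N18338 F337836) (tt N38868 (iv2 F98949)) (tt N38870 (iv3 F98952)) (tt N38875 (iv4 F98956)) (tt N38882 D63618) (tt N9670 (iv6 D30032)) (tt N38883 D63619))
theorem Q19761 : ∀ i, i < 19761 → P i := stepQ 19760 Q19760 (allL N19760 (tt N9672 F207212) (tt N9674 F207213) (tt N9671 F48255) (tt N36851 (iv3 F207214)) (tt N38876 (iv4 F98958)) (tt N38880 (iv5 F98962)) (tt N38884 D63620) (tt N9670 (iv7 D30033)))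
theorem Q19762 : ∀ i, i < 19762 → P i := stepQ 19761 Q19761 (allL N19761 (tt N38885 D63621) (tt N37057 F98969) (tt N38886 D63622) (tt N9671 (iv3 D30034)) (tt N38887 D63623) (tt N38888 D63624) (tt N38889 D63625) (tt N38865 (iv7 F98944)))
theorem Q19763 : ∀ i, i < 19763 → P i := stepQ 19762 Q19762 (allL N19762 (tt N38872 (iv1 F98955)) (tt N38871 F98959) (tt N38876 (iv2 F98957)) (tt N38890 D63626) (tt N9671 (iv4 D30035)) (tt N38891 D63627) (tt N38892 D63628) (tt N38866 (iv7 F98946)))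
theorem Q19764 : ∀ i, i < 19764 → P i := stepQ 19763 Q19763 (allL N19763 (tt N37072 F212147) (tt N38877 F98963) (tt N38880 (iv2 F98961)) (tt N38888 (iv3 F98971)) (tt N38893 D63629) (tt N9671 (iv5 D30036)) (tt N38894 D63630) (tt N38867 (iv7 F98948)))
theorem Q19765 : ∀ i, i < 19765 → P i := stepQ 19764 Q19764 (allL N19764 (tt N37126 (iv1 F339530)) (tt N38895 D63632) (tt N38884 (iv2 F98964)) (tt N38889 (iv3 F98972)) (tt N38892 (iv4 F98973)) (tt N38896 D63633) (tt N9671 (iv6 D30037)) (tt N38897 D63634))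
theorem Q19766 : ∀ i, i < 19766 → P i := stepQ 19765 Q19765 (allL N19765 (tt N22035 (iv1 F52400)) (tt N22034 F52396) (tt N9673 F48258) (tt N19637 F48259) (tt N38898 D63644) (tt N9672 (iv5 D30040)) (tt N38899 D63645) (tt N22036 (iv7 F52398)))
theorem Q19767 : ∀ i, i < 19767 → P i := stepQ 19766 Q19766 (allL N19766 (tt N22036 (iv1 F52399)) (tt N9673 (iv0 D30041)) (tt N22035 F214119) (tt N38900 D63647) (tt N38901 D63648) (tt N36945 F211046) (tt N38902 D63650) (tt N22034 (iv7 F214124)))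
theorem Q19768 : ∀ i, i < 19768 → P i := stepQ 19767 Q19767 (allL N19767 (tt N9673 (iv1 D30042)) (tt N22036 F52401) (tt N22034 (iv2 F214123)) (tt N38903 D63652) (tt N38904 D63653) (tt N36946 F211050) (tt N38905 D63655) (tt N22035 F214122))
theorem Q19769 : ∀ i, i < 19769 → P i := stepQ 19768 Q19768 (allL N19768 (tt N38906 D63656) (tt N38907 D63657) (tt N38898 (iv2 F98976)) (tt N22019 (iv3 F52370)) (tt N9673 (iv4 D30043)) (tt N38908 D63658) (tt N38909 D63659) (tt N22017 F52369))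
theorem Q19770 : ∀ i, i < 19770 → P i := stepQ 19769 Q19769 (allL N19769 (tt N38910 D63660) (tt N38911 D63661) (tt N38899 (iv2 F98977)) (tt N9675 F48260) (tt N38909 (iv4 F98984)) (tt N19641 F48261) (tt N9673 (iv6 D30044)) (tt N38912 D63662))
theorem Q19771 : ∀ i, i < 19771 → P i := stepQ 19770 Q19770 (allL N19770 (tt N38913 D63663) (tt N38914 D63664) (tt N38864 (iv2 F98937)) (tt N9676 F48262) (tt N38817 (iv4 F98832)) (tt N22120 F304776) (tt N9674 (iv6 D30045)) (tt N19642 F48263))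
theorem Q19772 : ∀ i, i < 19772 → P i := stepQ 19771 Q19771 (allL N19771 (tt N17603 F304920) (tt N9675 (iv0 D30046)) (tt N19643 F208028) (tt N38915 D63667) (tt N19520 F207993) (tt N38916 D63669) (tt N38917 D63670) (tt N19644 (iv7 F208032)))
theorem Q19773 : ∀ i, i < 19773 → P i := stepQ 19772 Q19772 (allL N19772 (tt N9675 (iv1 D30047)) (tt N17603 F304919) (tt N19644 (iv2 F208031)) (tt N38918 D63672) (tt N19521 F208023) (tt N38919 D63674) (tt N38920 D63675) (tt N19643 F208029))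
theorem Q19774 : ∀ i, i < 19774 → P i := stepQ 19773 Q19773 (allL N19773 (tt N19644 (iv1 F48268)) (tt N19643 F48269) (tt N17603 F302752) (tt N38912 (iv3 F98985)) (tt N17592 F302753) (tt N17603 (iv5 F302495)) (tt N17591 F302754) (tt N9675 (iv7 D30048)))
theorem Q19775 : ∀ i, i < 19775 → P i := stepQ 19774 Q19774 (allL N19774 (tt N16575 (iv1 F101991)) (tt N9718 (iv0 F101992)) (tt N19820 (iv2 F101993)) (tt N9677 (iv3 D30052)) (tt N38921 D63681) (tt N38922 D63682) (tt N20114 F101976) (tt N19645 (iv7 F49072)))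
theorem Q19776 : ∀ i, i < 19776 → P i := stepQ 19775 Q19775 (allL N19775 (tt N19368 F48275) (tt N19368 (iv0 F48276)) (tt N19646 F49076) (tt N38922 (iv3 F99008)) (tt N38923 D63683) (tt N9677 (iv5 D30054)) (tt N19355 F48274) (tt N19646 (iv7 F49074)))
theorem Q19777 : ∀ i, i < 19777 → P i := stepQ 19776 Q19776 (allL N19776 (tt N9680 (iv1 F48280)) (tt N9678 (iv0 D30055)) (tt N19340 (iv2 F48279)) (tt N15072 (iv3 F48282)) (tt N18733 F48278) (tt N15068 F48277) (tt N38924 D63684) (tt N19692 F48281))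
theorem Q19778 : ∀ i, i < 19778 → P i := stepQ 19777 Q19777 (allL N19777 (tt N19225 (iv1 F48285)) (tt N19224 F48284) (tt N19786 (iv2 F48308)) (tt N38925 D63685) (tt N9678 (iv4 D30056)) (tt N35954 (iv5 F93634)) (tt N38926 D63686) (tt N19693 F48283))
theorem Q19779 : ∀ i, i < 19779 → P i := stepQ 19778 Q19778 (allL N19778 (tt N38927 D63687) (tt N38928 D63688) (tt N19787 (iv2 F48312)) (tt N15891 F48286) (tt N38926 (iv4 F99025)) (tt N15885 F48287) (tt N9678 (iv6 D30057)) (tt N38929 D63689))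
theorem Q19780 : ∀ i, i < 19780 → P i := stepQ 19779 Q19779 (allL N19779 (tt N19224 (iv1 F48290)) (tt N19225 F48289) (tt N19693 F48288) (tt N38930 D63690) (tt N9680 (iv4 D30058)) (tt N35955 (iv5 F93636)) (tt N38931 D63691) (tt N19786 (iv7 F48309)))
theorem Q19781 : ∀ i, i < 19781 → P i := stepQ 19780 Q19780 (allL N19780 (tt N37413 (iv1 F98739)) (tt N38457 (iv0 F98331)) (tt N19694 F48291) (tt N15009 F48292) (tt N38931 (iv4 F99033)) (tt N38173 (iv5 F97591)) (tt N9680 (iv6 D30059)) (tt N38932 D63692))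
theorem Q19782 : ∀ i, i < 19782 → P i := stepQ 19781 Q19781 (allL N19781 (tt N20110 F48840) (tt N11072 F48295) (tt N19788 (iv2 F48315)) (tt N15819 F48293) (tt N32025 (iv4 F82069)) (tt N9682 (iv5 D30060)) (tt N15866 F48296) (tt N15830 F48294))
theorem Q19783 : ∀ i, i < 19783 → P i := stepQ 19782 Q19782 (allL N19782 (tt N38933 D63693) (tt N38934 D63694) (tt N19789 (iv2 F48321)) (tt N19659 F48297) (tt N35945 (iv4 F93628)) (tt N19999 (iv5 F48701)) (tt N9682 (iv6 D30061)) (tt N38935 D63695))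
theorem Q19784 : ∀ i, i < 19784 → P i := stepQ 19783 Q19783 (allL N19783 (tt N38595 (iv1 F168421)) (tt N38936 D63697) (tt N19710 F48298) (tt N15042 F48299) (tt N35948 (iv4 F93631)) (tt N29481 (iv5 F76496)) (tt N9683 (iv6 D30062)) (tt N38937 D63698))
theorem Q19785 : ∀ i, i < 19785 → P i := stepQ 19784 Q19784 (allL N19784 (tt N18736 F48301) (tt N35968 (iv0 F93670)) (tt N19791 (iv2 F48323)) (tt N9684 (iv3 D30063)) (tt N9698 F48300) (tt N9684 (iv5 F48302)) (tt N32986 (iv6 F83828)) (tt N19817 (iv7 F48361)))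
theorem Q19786 : ∀ i, i < 19786 → P i := stepQ 19785 Q19785 (allL N19785 (tt N38570 (iv1 F102164)) (tt N38938 D63700) (tt N19792 (iv2 F48325)) (tt N9701 F48306) (tt N37964 (iv4 F97057)) (tt N19785 F48307) (tt N9685 (iv6 D30064)) (tt N32988 (iv7 F83836)))
theorem Q19787 : ∀ i, i < 19787 → P i := stepQ 19786 Q19786 (allL N19786 (tt N18728 F48311) (tt N18731 F48310) (tt N19777 F48308) (tt N38939 D63701) (tt N9686 (iv4 D30065)) (tt N35989 (iv5 F93723)) (tt N38940 D63702) (tt N19779 F48309))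
theorem Q19788 : ∀ i, i < 19788 → P i := stepQ 19787 Q19787 (allL N19787 (tt N38131 (iv1 F167943)) (tt N38941 D63704) (tt N19778 F48312) (tt N14955 F48313) (tt N38940 (iv4 F99053)) (tt N16237 F48314) (tt N9686 (iv6 D30066)) (tt N38942 D63705))
theorem Q19789 : ∀ i, i < 19789 → P i := stepQ 19788 Q19788 (allL N19788 (tt N15932 F48319) (tt N15068 F48318) (tt N19781 F48315) (tt N14693 F48316) (tt N29519 (iv4 F76581)) (tt N9688 (iv5 D30067)) (tt N15162 F48320) (tt N14689 F48317))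
theorem Q19790 : ∀ i, i < 19790 → P i := stepQ 19789 Q19789 (allL N19789 (tt N38844 (iv1 F163865)) (tt N38943 D63707) (tt N19782 F48321) (tt N15031 F48322) (tt N35980 (iv4 F93712)) (tt N19981 (iv5 F48647)) (tt N9688 (iv6 D30068)) (tt N38944 D63708))
theorem Q19791 : ∀ i, i < 19791 → P i := stepQ 19790 Q19790 (allL N19790 (tt N38945 D63709) (tt N38946 D63710) (tt N38947 D63711) (tt N9689 (iv3 D30069)) (tt N30114 (iv4 F78024)) (tt N38947 F99071) (tt N19925 (iv6 F48595)) (tt N37036 (iv7 F95443)))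
theorem Q19792 : ∀ i, i < 19792 → P i := stepQ 19791 Q19791 (allL N19791 (tt N35934 (iv1 F93609)) (tt N19230 F48324) (tt N19784 F48323) (tt N38947 (iv3 F99070)) (tt N19814 (iv4 F48353)) (tt N9689 (iv5 D30070)) (tt N38948 D63712) (tt N19851 (iv7 F48435)))
theorem Q19793 : ∀ i, i < 19793 → P i := stepQ 19792 Q19792 (allL N19792 (tt N38949 D63713) (tt N38834 (iv0 F102161)) (tt N19785 F48325) (tt N30117 (iv3 F78034)) (tt N37037 (iv4 F95444)) (tt N19792 F48326) (tt N9690 (iv6 D30071)) (tt N19927 (iv7 F48599)))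
theorem Q19794 : ∀ i, i < 19794 → P i := stepQ 19793 Q19793 (allL N19793 (tt N38950 D63715) (tt N38951 D63716) (tt N38952 D63717) (tt N9691 (iv3 D30072)) (tt N32989 (iv4 F83837)) (tt N38953 D63718) (tt N38954 D63719) (tt N19826 (iv7 F48378)))
theorem Q19795 : ∀ i, i < 19795 → P i := stepQ 19794 Q19794 (allL N19794 (tt N35956 (iv1 F93640)) (tt N35931 (iv0 F93602)) (tt N19348 F48327) (tt N38953 (iv3 F99077)) (tt N19230 F48328) (tt N9691 (iv5 D30073)) (tt N38955 D63720) (tt N19827 (iv7 F48380)))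
theorem Q19796 : ∀ i, i < 19796 → P i := stepQ 19795 Q19795 (allL N19795 (tt N38956 D63721) (tt N38957 D63722) (tt N19349 F48329) (tt N38954 (iv3 F99078)) (tt N9692 F48330) (tt N38958 D63723) (tt N9691 (iv6 D30074)) (tt N38959 D63724))
theorem Q19797 : ∀ i, i < 19797 → P i := stepQ 19796 Q19796 (allL N19796 (tt N19352 (iv1 F48336)) (tt N9692 (iv0 D30075)) (tt N19350 (iv2 F99972)) (tt N38431 (iv3 F165580)) (tt N38960 D63727) (tt N15521 F48331) (tt N31826 F81418) (tt N19351 F99971))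
theorem Q19798 : ∀ i, i < 19798 → P i := stepQ 19797 Q19797 (allL N19797 (tt N9692 (iv1 D30076)) (tt N19352 F48332) (tt N19351 F99968) (tt N38928 (iv3 F163878)) (tt N38961 D63730) (tt N15520 (iv5 F48333)) (tt N38962 D63731) (tt N19350 (iv7 F99973)))
theorem Q19799 : ∀ i, i < 19799 → P i := stepQ 19798 Q19798 (allL N19798 (tt N19351 (iv1 F48337)) (tt N19350 F48338) (tt N19352 F48335) (tt N32992 (iv3 F83842)) (tt N38959 (iv4 F99084)) (tt N31159 (iv5 F80030)) (tt N19831 (iv6 F48387)) (tt N9692 (iv7 D30077)))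
theorem Q19800 : ∀ i, i < 19800 → P i := stepQ 19799 Q19799 (allL N19799 (tt N38963 D63732) (tt N38964 D63733) (tt N38965 D63734) (tt N9693 (iv3 D30078)) (tt N32993 (iv4 F83847)) (tt N38966 D63735) (tt N38967 D63736) (tt N19834 (iv7 F48402)))
theorem Q19801 : ∀ i, i < 19801 → P i := stepQ 19800 Q19800 (allL N19800 (tt N32465 (iv1 F325459)) (tt N38119 (iv0 F97445)) (tt N19737 F48339) (tt N38966 (iv3 F99097)) (tt N19274 F48340) (tt N9693 (iv5 D30079)) (tt N38968 D63737) (tt N19835 (iv7 F48404)))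
theorem Q19802 : ∀ i, i < 19802 → P i := stepQ 19801 Q19801 (allL N19801 (tt N38969 D63738) (tt N38970 D63739) (tt N19738 F48341) (tt N38967 (iv3 F99098)) (tt N9695 F48342) (tt N38971 D63740) (tt N9693 (iv6 D30080)) (tt N38972 D63741))
theorem Q19803 : ∀ i, i < 19803 → P i := stepQ 19802 Q19802 (allL N19802 (tt N19741 (iv1 F48348)) (tt N9695 (iv0 D30081)) (tt N19739 F99767) (tt N38486 (iv3 F168190)) (tt N38973 D63744) (tt N38974 D63745) (tt N19750 (iv6 F83963)) (tt N19740 F99768))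
theorem Q19804 : ∀ i, i < 19804 → P i := stepQ 19803 Q19803 (allL N19803 (tt N9695 (iv1 D30082)) (tt N19741 F48343) (tt N19740 (iv2 F99765)) (tt N38934 (iv3 F163997)) (tt N38975 D63748) (tt N20195 (iv5 F48900)) (tt N38976 D63749) (tt N19739 (iv7 F99766)))
theorem Q19805 : ∀ i, i < 19805 → P i := stepQ 19804 Q19804 (allL N19804 (tt N9760 F48346) (tt N38977 D63750) (tt N9793 F48344) (tt N22622 (iv3 F53469)) (tt N38978 D63751) (tt N9695 (iv5 D30083)) (tt N9725 F48345) (tt N38979 D63752))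
theorem Q19806 : ∀ i, i < 19806 → P i := stepQ 19805 Q19805 (allL N19805 (tt N19740 (iv1 F48349)) (tt N19739 F48350) (tt N19741 F48347) (tt N32998 (iv3 F83855)) (tt N38972 (iv4 F99104)) (tt N38979 (iv5 F99126)) (tt N19839 (iv6 F48410)) (tt N9695 (iv7 D30084)))
theorem Q19807 : ∀ i, i < 19807 → P i := stepQ 19806 Q19806 (allL N19806 (tt N38980 D63753) (tt N38981 D63754) (tt N38982 D63755) (tt N9696 (iv3 D30085)) (tt N30018 (iv4 F77814)) (tt N38983 D63756) (tt N38984 D63757) (tt N19843 (iv7 F48420)))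
theorem Q19808 : ∀ i, i < 19808 → P i := stepQ 19807 Q19807 (allL N19807 (tt N38117 (iv1 F97437)) (tt N38111 (iv0 F97397)) (tt N19841 (iv2 F48416)) (tt N38983 (iv3 F99130)) (tt N35982 (iv4 F93716)) (tt N9696 (iv5 D30086)) (tt N38985 D63758) (tt N19844 (iv7 F48422)))
theorem Q19809 : ∀ i, i < 19809 → P i := stepQ 19808 Q19808 (allL N19808 (tt N38973 (iv1 F100274)) (tt N38975 (iv0 F100271)) (tt N19842 (iv2 F48418)) (tt N38984 (iv3 F99131)) (tt N30017 (iv4 F77813)) (tt N38986 D63761) (tt N9696 (iv6 D30087)) (tt N38987 D63762))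
theorem Q19810 : ∀ i, i < 19810 → P i := stepQ 19809 Q19809 (allL N19809 (tt N38988 D63763) (tt N38989 D63764) (tt N38990 D63765) (tt N9697 (iv3 D30088)) (tt N38418 (iv4 F98256)) (tt N38991 D63766) (tt N38992 D63767) (tt N19840 (iv7 F48415)))
theorem Q19811 : ∀ i, i < 19811 → P i := stepQ 19810 Q19810 (allL N19810 (tt N38111 (iv1 F97399)) (tt N38117 (iv0 F97436)) (tt N19844 (iv2 F48421)) (tt N38991 (iv3 F99133)) (tt N35979 (iv4 F93710)) (tt N9697 (iv5 D30089)) (tt N38993 D63768) (tt N19841 (iv7 F48417)))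
theorem Q19812 : ∀ i, i < 19812 → P i := stepQ 19811 Q19811 (allL N19811 (tt N38596 (iv1 F168419)) (tt N38598 (iv0 F168432)) (tt N19845 (iv2 F48423)) (tt N38992 (iv3 F99134)) (tt N35963 (iv4 F93654)) (tt N38994 D63771) (tt N9697 (iv6 D30090)) (tt N38995 D63772))
theorem Q19813 : ∀ i, i < 19813 → P i := stepQ 19812 Q19812 (allL N19812 (tt N9716 (iv1 F48352)) (tt N9698 (iv0 D30091)) (tt N19816 F77763) (tt N38996 D63773) (tt N35954 (iv4 F93635)) (tt N19141 F48351) (tt N38997 D63774) (tt N19815 (iv7 F77762)))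
theorem Q19814 : ∀ i, i < 19814 → P i := stepQ 19813 Q19813 (allL N19813 (tt N9698 (iv1 D30092)) (tt N9716 F48356) (tt N19815 (iv2 F77764)) (tt N38998 D63775) (tt N35955 (iv4 F93637)) (tt N35927 (iv5 F93592)) (tt N38999 D63776) (tt N19816 F77765))
theorem Q19815 : ∀ i, i < 19815 → P i := stepQ 19814 Q19814 (allL N19814 (tt N19816 (iv1 F48358)) (tt N19815 F48357) (tt N9698 (iv2 D30093)) (tt N19848 (iv3 F48425)) (tt N19791 F48353) (tt N9717 F48354) (tt N33007 (iv6 F83858)) (tt N9716 F48355))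
theorem Q19816 : ∀ i, i < 19816 → P i := stepQ 19815 Q19815 (allL N19815 (tt N19814 (iv1 F48357)) (tt N9699 (iv0 D30094)) (tt N19813 F77764) (tt N39000 D63777) (tt N35990 (iv4 F93733)) (tt N30003 (iv5 F77759)) (tt N39001 D63778) (tt N19812 F77762))
theorem Q19817 : ∀ i, i < 19817 → P i := stepQ 19816 Q19816 (allL N19816 (tt N9699 (iv1 D30095)) (tt N19814 F48358) (tt N19812 (iv2 F77763)) (tt N39002 D63779) (tt N35989 (iv4 F93724)) (tt N35961 (iv5 F93647)) (tt N39003 D63780) (tt N19813 (iv7 F77765)))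
theorem Q19818 : ∀ i, i < 19818 → P i := stepQ 19817 Q19817 (allL N19817 (tt N19230 (iv1 F48362)) (tt N35934 (iv0 F93608)) (tt N19851 (iv2 F48433)) (tt N19272 F48359) (tt N9699 (iv4 D30096)) (tt N19272 F48360) (tt N39004 D63781) (tt N19784 F48361))
theorem Q19819 : ∀ i, i < 19819 → P i := stepQ 19818 Q19818 (allL N19818 (tt N39005 D63782) (tt N39006 D63783) (tt N19852 (iv2 F48437)) (tt N19819 (iv3 F48363)) (tt N39004 (iv4 F99141)) (tt N33011 (iv5 F83861)) (tt N9699 (iv6 D30097)) (tt N39007 D63784))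
theorem Q19820 : ∀ i, i < 19820 → P i := stepQ 19819 Q19819 (allL N19819 (tt N16337 F328249) (tt N39008 D63786) (tt N19853 (iv2 F48438)) (tt N19818 F48363) (tt N9701 F48364) (tt N39009 D63787) (tt N9700 (iv6 D30098)) (tt N33012 (iv7 F83863)))
theorem Q19821 : ∀ i, i < 19821 → P i := stepQ 19820 Q19820 (allL N19820 (tt N16585 (iv1 F48365)) (tt N9701 (iv0 D30099)) (tt N19774 F101993) (tt N19854 F102021) (tt N39010 D63790) (tt N39011 D63791) (tt N39012 D63792) (tt N19854 F99952))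
theorem Q19822 : ∀ i, i < 19822 → P i := stepQ 19821 Q19821 (allL N19821 (tt N39013 D63797) (tt N38847 (iv0 F168149)) (tt N19574 F48367) (tt N19924 (iv3 F48593)) (tt N18711 F48368) (tt N19392 F48369) (tt N9702 (iv6 D30101)) (tt N39014 D63799))
theorem Q19823 : ∀ i, i < 19823 → P i := stepQ 19822 Q19822 (allL N19822 (tt N39015 D63800) (tt N39016 D63801) (tt N30113 (iv2 F78022)) (tt N15425 F48370) (tt N18714 F48371) (tt N15406 F48372) (tt N9703 (iv6 D30102)) (tt N39017 D63802))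
theorem Q19824 : ∀ i, i < 19824 → P i := stepQ 19823 Q19823 (allL N19823 (tt N39018 D63803) (tt N39019 D63804) (tt N39020 D63805) (tt N9704 (iv3 D30103)) (tt N9715 F48373) (tt N39021 D63806) (tt N15033 F48374) (tt N36789 (iv7 F95204)))
theorem Q19825 : ∀ i, i < 19825 → P i := stepQ 19824 Q19824 (allL N19824 (tt N36697 (iv1 F95057)) (tt N36699 (iv0 F95061)) (tt N30115 (iv2 F78026)) (tt N39021 (iv3 F99176)) (tt N36754 (iv4 F95155)) (tt N9704 (iv5 D30104)) (tt N39022 D63807) (tt N36754 (iv7 F95157)))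
theorem Q19826 : ∀ i, i < 19826 → P i := stepQ 19825 Q19825 (allL N19825 (tt N30132 (iv1 F78060)) (tt N30131 F78059) (tt N30117 (iv2 F78033)) (tt N9718 F48375) (tt N36790 (iv4 F95205)) (tt N19825 F48376) (tt N9705 (iv6 D30105)) (tt N15036 F48377))
theorem Q19827 : ∀ i, i < 19827 → P i := stepQ 19826 Q19826 (allL N19826 (tt N39023 D63808) (tt N39024 D63809) (tt N39025 D63810) (tt N9706 (iv3 D30106)) (tt N33013 (iv4 F83864)) (tt N39026 D63811) (tt N39027 D63812) (tt N19793 F48378))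
theorem Q19828 : ∀ i, i < 19828 → P i := stepQ 19827 Q19827 (allL N19827 (tt N35965 (iv1 F93661)) (tt N35991 (iv0 F93737)) (tt N18983 F48379) (tt N39026 (iv3 F99184)) (tt N18736 F48381) (tt N9706 (iv5 D30107)) (tt N39028 D63813) (tt N19794 F48380))
theorem Q19829 : ∀ i, i < 19829 → P i := stepQ 19828 Q19828 (allL N19828 (tt N39029 D63814) (tt N38226 (iv0 F97705)) (tt N18984 F48382) (tt N39027 (iv3 F99186)) (tt N9707 F48383) (tt N39030 D63815) (tt N9706 (iv6 D30108)) (tt N39031 D63816))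
theorem Q19830 : ∀ i, i < 19830 → P i := stepQ 19829 Q19829 (allL N19829 (tt N18987 (iv1 F48388)) (tt N9707 (iv0 D30109)) (tt N18985 F48391) (tt N30288 (iv3 F78297)) (tt N39032 D63817) (tt N30271 (iv5 F78282)) (tt N38223 (iv6 F97694)) (tt N18931 F48390))
theorem Q19831 : ∀ i, i < 19831 → P i := stepQ 19830 Q19830 (allL N19830 (tt N39033 D63818) (tt N39034 D63819) (tt N18986 F48384) (tt N19931 (iv3 F48606)) (tt N39035 D63820) (tt N9707 (iv5 D30110)) (tt N9709 F48385) (tt N39036 D63821))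
theorem Q19832 : ∀ i, i < 19832 → P i := stepQ 19831 Q19831 (allL N19831 (tt N18931 (iv1 F48389)) (tt N18985 F48394) (tt N18987 F48386) (tt N33015 (iv3 F83883)) (tt N39031 (iv4 F99191)) (tt N39036 (iv5 F99212)) (tt N19798 F48387) (tt N9707 (iv7 D30111)))
theorem Q19833 : ∀ i, i < 19833 → P i := stepQ 19832 Q19832 (allL N19832 (tt N30597 (iv1 F78962)) (tt N30581 (iv0 F78932)) (tt N18988 F48395) (tt N39037 D63822) (tt N9709 (iv4 D30112)) (tt N39038 D63823) (tt N39035 (iv6 F99210)) (tt N39039 D63824))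
theorem Q19834 : ∀ i, i < 19834 → P i := stepQ 19833 Q19833 (allL N19833 (tt N11059 (iv1 F48399)) (tt N11060 F48400) (tt N9803 F48396) (tt N19189 F48397) (tt N39039 (iv4 F99218)) (tt N9710 F48398) (tt N16618 (iv6 F48401)) (tt N9709 (iv7 D30113)))
theorem Q19835 : ∀ i, i < 19835 → P i := stepQ 19834 Q19834 (allL N19834 (tt N39040 D63825) (tt N39041 D63826) (tt N39042 D63827) (tt N9711 (iv3 D30114)) (tt N33016 (iv4 F83887)) (tt N39043 D63828) (tt N39044 D63829) (tt N19799 F48402))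
theorem Q19836 : ∀ i, i < 19836 → P i := stepQ 19835 Q19835 (allL N19835 (tt N37402 (iv1 F95928)) (tt N37400 (iv0 F95924)) (tt N19619 F48403) (tt N39043 (iv3 F99228)) (tt N18805 F48405) (tt N9711 (iv5 D30115)) (tt N39045 D63830) (tt N19800 F48404))
theorem Q19837 : ∀ i, i < 19837 → P i := stepQ 19836 Q19836 (allL N19836 (tt N39046 D63831) (tt N39047 D63832) (tt N19620 F48406) (tt N39044 (iv3 F99230)) (tt N9712 F48407) (tt N39048 D63833) (tt N9711 (iv6 D30116)) (tt N39049 D63834))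
theorem Q19838 : ∀ i, i < 19838 → P i := stepQ 19837 Q19837 (allL N19837 (tt N19623 (iv1 F48411)) (tt N9712 (iv0 D30117)) (tt N19621 F99259) (tt N39015 (iv3 F165564)) (tt N39050 D63837) (tt N31922 (iv5 F81744)) (tt N39051 D63838) (tt N19622 (iv7 F99264)))
theorem Q19839 : ∀ i, i < 19839 → P i := stepQ 19838 Q19838 (allL N19838 (tt N9712 (iv1 D30118)) (tt N19623 F48408) (tt N19622 (iv2 F99263)) (tt N38779 (iv3 F168154)) (tt N39052 D63841) (tt N31903 (iv5 F81652)) (tt N19612 (iv6 F81655)) (tt N19621 F99260))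
theorem Q19840 : ∀ i, i < 19840 → P i := stepQ 19839 Q19839 (allL N19839 (tt N19622 (iv1 F48412)) (tt N19621 F48413) (tt N19623 F48409) (tt N33021 (iv3 F83909)) (tt N39049 (iv4 F99236)) (tt N31793 (iv5 F81333)) (tt N19805 F48410) (tt N9712 (iv7 D30119)))
theorem Q19841 : ∀ i, i < 19841 → P i := stepQ 19840 Q19840 (allL N19840 (tt N39053 D63842) (tt N39054 D63843) (tt N39055 D63844) (tt N9713 (iv3 D30120)) (tt N19590 F48414) (tt N39056 D63845) (tt N39057 D63846) (tt N19809 F48415))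
theorem Q19842 : ∀ i, i < 19842 → P i := stepQ 19841 Q19841 (allL N19841 (tt N37392 (iv1 F95906)) (tt N37395 (iv0 F95917)) (tt N19807 F48416) (tt N39056 (iv3 F99298)) (tt N35947 (iv4 F93630)) (tt N9713 (iv5 D30121)) (tt N39058 D63847) (tt N19810 F48417))
theorem Q19843 : ∀ i, i < 19843 → P i := stepQ 19842 Q19842 (allL N19842 (tt N38845 (iv1 F100304)) (tt N32525 F327988) (tt N19808 F48418) (tt N39057 (iv3 F99300)) (tt N35929 (iv4 F93600)) (tt N39059 D63850) (tt N9713 (iv6 D30122)) (tt N39060 D63851))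
theorem Q19844 : ∀ i, i < 19844 → P i := stepQ 19843 Q19843 (allL N19843 (tt N39061 D63852) (tt N32568 (iv0 F325500)) (tt N39062 D63854) (tt N9714 (iv3 D30123)) (tt N19161 F48419) (tt N39063 D63855) (tt N39064 D63856) (tt N19806 F48420))
theorem Q19845 : ∀ i, i < 19845 → P i := stepQ 19844 Q19844 (allL N19844 (tt N37395 (iv1 F95918)) (tt N37392 (iv0 F95904)) (tt N19810 F48421) (tt N39063 (iv3 F99317)) (tt N35944 (iv4 F93627)) (tt N9714 (iv5 D30124)) (tt N39065 D63857) (tt N19807 F48422))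
theorem Q19846 : ∀ i, i < 19846 → P i := stepQ 19845 Q19845 (allL N19845 (tt N39050 (iv1 F168174)) (tt N39052 (iv0 F168171)) (tt N19811 F48423) (tt N39064 (iv3 F99319)) (tt N19160 F48424) (tt N39066 D63860) (tt N9714 (iv6 D30125)) (tt N39067 D63861))
theorem Q19847 : ∀ i, i < 19847 → P i := stepQ 19846 Q19846 (allL N19846 (tt N19849 (iv1 F48432)) (tt N9715 (iv0 D30126)) (tt N39068 D63862) (tt N39069 D63863) (tt N39070 D63864) (tt N39071 D63865) (tt N39072 D63866) (tt N39073 D63867))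
theorem Q19848 : ∀ i, i < 19848 → P i := stepQ 19847 Q19847 (allL N19847 (tt N9715 (iv1 D30127)) (tt N19849 F48428) (tt N39073 (iv2 F99331)) (tt N39074 D63868) (tt N39075 D63869) (tt N39076 D63870) (tt N39077 D63871) (tt N39068 F99330))
theorem Q19849 : ∀ i, i < 19849 → P i := stepQ 19848 Q19848 (allL N19848 (tt N39068 (iv1 F207225)) (tt N39073 (iv0 F207228)) (tt N9715 (iv2 D30128)) (tt N19814 F48425) (tt N39020 (iv4 F99174)) (tt N19850 (iv5 F48431)) (tt N33030 (iv6 F83929)) (tt N19849 F48427))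
theorem Q19850 : ∀ i, i < 19850 → P i := stepQ 19849 Q19849 (allL N19849 (tt N19847 (iv1 F48428)) (tt N19846 F48432) (tt N19850 (iv2 F48429)) (tt N9716 F48426) (tt N39078 D63874) (tt N9715 (iv5 D30129)) (tt N39079 D63875) (tt N19848 (iv7 F48427)))
theorem Q19851 : ∀ i, i < 19851 → P i := stepQ 19850 Q19850 (allL N19850 (tt N39073 (iv1 F207229)) (tt N39068 (iv0 F207224)) (tt N19849 F48429) (tt N9717 F48430) (tt N36789 (iv4 F95203)) (tt N19848 F48431) (tt N39080 D63876) (tt N9715 (iv7 D30130)))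
theorem Q19852 : ∀ i, i < 19852 → P i := stepQ 19851 Q19851 (allL N19851 (tt N35968 (iv1 F93671)) (tt N18736 (iv0 F48436)) (tt N19817 F48433) (tt N39081 D63877) (tt N9716 (iv4 D30131)) (tt N18803 F48434) (tt N39082 D63878) (tt N19791 F48435))
theorem Q19853 : ∀ i, i < 19853 → P i := stepQ 19852 Q19852 (allL N19852 (tt N39083 D63879) (tt N39084 D63880) (tt N19818 F48437) (tt N39079 (iv3 F99340)) (tt N39082 (iv4 F99349)) (tt N33036 (iv5 F83945)) (tt N9716 (iv6 D30132)) (tt N39085 D63881))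
theorem Q19854 : ∀ i, i < 19854 → P i := stepQ 19853 Q19853 (allL N19853 (tt N32522 (iv1 F327340)) (tt N32536 (iv0 F327341)) (tt N19819 F48438) (tt N39080 (iv3 F99342)) (tt N9718 F48439) (tt N39086 D63884) (tt N9717 (iv6 D30133)) (tt N32535 F328639))
theorem Q19855 : ∀ i, i < 19855 → P i := stepQ 19854 Q19854 (allL N19854 (tt N9718 (iv1 D30135)) (tt N16575 F48441) (tt N19645 F102004) (tt N19820 (iv3 F102021)) (tt N39087 D63891) (tt N39088 D63892) (tt N39089 D63893) (tt N19820 (iv7 F99952)))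
theorem Q19856 : ∀ i, i < 19856 → P i := stepQ 19855 Q19855 (allL N19855 (tt N37804 (iv1 F96627)) (tt N37803 F96624) (tt N9759 F48442) (tt N39090 D63894) (tt N9719 (iv4 D30136)) (tt N37827 (iv5 F96685)) (tt N39091 D63895) (tt N9757 F48443))
theorem Q19857 : ∀ i, i < 19857 → P i := stepQ 19856 Q19856 (allL N19856 (tt N38979 (iv1 F99129)) (tt N9793 (iv0 F48446)) (tt N9760 F48444) (tt N30730 (iv3 F79300)) (tt N39091 (iv4 F99368)) (tt N18929 F48445) (tt N9719 (iv6 D30137)) (tt N38977 (iv7 F99119)))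
theorem Q19858 : ∀ i, i < 19858 → P i := stepQ 19857 Q19857 (allL N19857 (tt N33100 (iv1 F84077)) (tt N18016 F48449) (tt N9762 F48447) (tt N39092 D63896) (tt N9720 (iv4 D30138)) (tt N39093 D63897) (tt N39094 D63898) (tt N9764 F48448))
theorem Q19859 : ∀ i, i < 19859 → P i := stepQ 19858 Q19858 (allL N19858 (tt N22705 F161296) (tt N39095 D63900) (tt N9763 F48450) (tt N16167 F48451) (tt N39094 (iv4 F99376)) (tt N15514 F48452) (tt N9720 (iv6 D30139)) (tt N39096 D63901))
theorem Q19860 : ∀ i, i < 19860 → P i := stepQ 19859 Q19859 (allL N19859 (tt N9770 (iv1 F48460)) (tt N9721 (iv0 D30140)) (tt N9766 (iv2 F48457)) (tt N39097 D63902) (tt N15284 F48458) (tt N39098 D63903) (tt N39099 D63904) (tt N9767 F48459))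
theorem Q19861 : ∀ i, i < 19861 → P i := stepQ 19860 Q19860 (allL N19860 (tt N9721 (iv1 D30141)) (tt N9770 F48453) (tt N9767 (iv2 F48455)) (tt N39100 D63905) (tt N19677 F48454) (tt N39101 D63906) (tt N39102 D63907) (tt N9766 (iv7 F48456)))
theorem Q19862 : ∀ i, i < 19862 → P i := stepQ 19861 Q19861 (allL N19861 (tt N39103 D63908) (tt N39104 D63909) (tt N39105 D63910) (tt N9721 (iv3 D30142)) (tt N22598 (iv4 F53410)) (tt N39106 D63911) (tt N9741 F48461) (tt N39107 D63912))
theorem Q19863 : ∀ i, i < 19863 → P i := stepQ 19862 Q19862 (allL N19862 (tt N39108 D63913) (tt N39109 D63914) (tt N9769 F48462) (tt N39106 (iv3 F99403)) (tt N37826 (iv4 F96683)) (tt N9721 (iv5 D30143)) (tt N39110 D63915) (tt N39111 D63916))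
theorem Q19864 : ∀ i, i < 19864 → P i := stepQ 19863 Q19863 (allL N19863 (tt N9767 (iv1 F48465)) (tt N9766 F48466) (tt N9770 F48463) (tt N39107 (iv3 F99404)) (tt N9722 F48464) (tt N39111 (iv5 F99417)) (tt N39112 D63917) (tt N9721 (iv7 D30144)))
theorem Q19865 : ∀ i, i < 19865 → P i := stepQ 19864 Q19864 (allL N19864 (tt N9875 (iv1 F48470)) (tt N9874 F48471) (tt N9771 F48467) (tt N22601 (iv3 F53418)) (tt N39112 (iv4 F99421)) (tt N19864 F48468) (tt N9722 (iv6 D30145)) (tt N9744 F48469))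
theorem Q19866 : ∀ i, i < 19866 → P i := stepQ 19865 Q19865 (allL N19865 (tt N16823 F48473) (tt N16820 F48474) (tt N19992 (iv2 F48669)) (tt N39113 D63918) (tt N9723 (iv4 D30146)) (tt N36681 (iv5 F95013)) (tt N39114 D63919) (tt N9810 F48472))
theorem Q19867 : ∀ i, i < 19867 → P i := stepQ 19866 Q19866 (allL N19866 (tt N35814 F93306) (tt N35812 (iv0 F93302)) (tt N19993 (iv2 F48672)) (tt N9727 F48475) (tt N39114 (iv4 F99427)) (tt N22632 (iv5 F53493)) (tt N9723 (iv6 D30147)) (tt N39115 D63920))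
theorem Q19868 : ∀ i, i < 19868 → P i := stepQ 19867 Q19867 (allL N19867 (tt N29623 (iv1 F76836)) (tt N30881 (iv0 F79637)) (tt N9792 F48476) (tt N39116 D63921) (tt N9725 (iv4 D30148)) (tt N20147 (iv5 F48868)) (tt N38978 (iv6 F99124)) (tt N9790 F48477))
theorem Q19869 : ∀ i, i < 19869 → P i := stepQ 19868 Q19868 (allL N19868 (tt N9730 (iv1 F48479)) (tt N9726 (iv0 D30149)) (tt N9794 (iv2 F48480)) (tt N39117 D63922) (tt N18277 F48478) (tt N20104 (iv5 F48831)) (tt N39118 D63923) (tt N9795 (iv7 F48481)))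
theorem Q19870 : ∀ i, i < 19870 → P i := stepQ 19869 Q19869 (allL N19869 (tt N9726 (iv1 D30150)) (tt N9730 F48482) (tt N9795 (iv2 F48485)) (tt N39119 D63924) (tt N15150 F48484) (tt N20103 (iv5 F48825)) (tt N39120 D63925) (tt N9794 F48483))
theorem Q19871 : ∀ i, i < 19871 → P i := stepQ 19870 Q19870 (allL N19870 (tt N39121 D63926) (tt N39122 D63927) (tt N39123 D63928) (tt N9726 (iv3 D30151)) (tt N39113 (iv4 F99425)) (tt N39124 D63929) (tt N28932 F346627) (tt N9820 F48486))
theorem Q19872 : ∀ i, i < 19872 → P i := stepQ 19871 Q19871 (allL N19871 (tt N39125 D63931) (tt N31357 (iv0 F80503)) (tt N9797 F48487) (tt N39124 (iv3 F99446)) (tt N36019 (iv4 F93815)) (tt N9726 (iv5 D30152)) (tt N39126 D63932) (tt N9821 F48488))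
theorem Q19873 : ∀ i, i < 19873 → P i := stepQ 19872 Q19872 (allL N19872 (tt N39127 D63933) (tt N39128 D63934) (tt N9798 F48489) (tt N28932 (iv3 F346617)) (tt N9727 F48490) (tt N39129 D63935) (tt N9726 (iv6 D30153)) (tt N39130 D63936))
theorem Q19874 : ∀ i, i < 19874 → P i := stepQ 19873 Q19873 (allL N19873 (tt N9727 (iv1 D30155)) (tt N9802 F48492) (tt N9800 F99830) (tt N20038 F111221) (tt N39131 D63942) (tt N16609 (iv5 F48493)) (tt N39132 D63943) (tt N9799 (iv7 F99835)))
theorem Q19875 : ∀ i, i < 19875 → P i := stepQ 19874 Q19874 (allL N19874 (tt N9800 (iv1 F48497)) (tt N9799 F48498) (tt N9802 F48494) (tt N39115 (iv3 F99428)) (tt N39130 (iv4 F99458)) (tt N22638 (iv5 F53500)) (tt N9826 F48495) (tt N9727 (iv7 D30156)))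
theorem Q19876 : ∀ i, i < 19876 → P i := stepQ 19875 Q19875 (allL N19875 (tt N19982 (iv1 F48648)) (tt N10168 F48501) (tt N9815 F48499) (tt N39133 D63944) (tt N9728 (iv4 D30157)) (tt N36019 (iv5 F93814)) (tt N39134 D63945) (tt N9785 F48500))
theorem Q19877 : ∀ i, i < 19877 → P i := stepQ 19876 Q19876 (allL N19876 (tt N32045 (iv1 F82156)) (tt N20472 (iv0 F49334)) (tt N9816 F48502) (tt N20051 (iv3 F48768)) (tt N39134 (iv4 F99471)) (tt N32292 (iv5 F82669)) (tt N9728 (iv6 D30158)) (tt N39135 D63946))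
theorem Q19878 : ∀ i, i < 19878 → P i := stepQ 19877 Q19877 (allL N19877 (tt N39136 D63947) (tt N39137 D63948) (tt N39138 D63949) (tt N9730 (iv3 D30159)) (tt N20059 (iv4 F48779)) (tt N39139 D63950) (tt N39140 D63951) (tt N9796 F48503))
theorem Q19879 : ∀ i, i < 19879 → P i := stepQ 19878 Q19878 (allL N19878 (tt N31357 (iv1 F80504)) (tt N39125 F99452) (tt N9821 F48504) (tt N39139 (iv3 F99483)) (tt N19984 (iv4 F48655)) (tt N9730 (iv5 D30160)) (tt N39141 D63952) (tt N9797 F48505))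
theorem Q19880 : ∀ i, i < 19880 → P i := stepQ 19879 Q19879 (allL N19879 (tt N39142 D63953) (tt N39143 D63954) (tt N9822 F48506) (tt N39140 (iv3 F99485)) (tt N9731 F48507) (tt N39144 D63955) (tt N9730 (iv6 D30161)) (tt N39145 D63956))
theorem Q19881 : ∀ i, i < 19881 → P i := stepQ 19880 Q19880 (allL N19880 (tt N9826 (iv1 F48514)) (tt N9731 (iv0 D30162)) (tt N9823 (iv2 F48510)) (tt N33040 (iv3 F83959)) (tt N39146 D63957) (tt N31122 (iv5 F79975)) (tt N39147 D63958) (tt N9824 F48509))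
theorem Q19882 : ∀ i, i < 19882 → P i := stepQ 19881 Q19881 (allL N19881 (tt N9824 (iv1 F48517)) (tt N9823 F48518) (tt N9826 F48515) (tt N20064 (iv3 F48786)) (tt N39145 (iv4 F99492)) (tt N31800 (iv5 F81354)) (tt N9802 F48516) (tt N9731 (iv7 D30163)))
theorem Q19883 : ∀ i, i < 19883 → P i := stepQ 19882 Q19882 (allL N19882 (tt N39148 D63959) (tt N39149 D63960) (tt N32208 (iv2 F82535)) (tt N9735 F48519) (tt N36673 (iv4 F95003)) (tt N30055 F77904) (tt N9732 (iv6 D30164)) (tt N39150 D63961))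
theorem Q19884 : ∀ i, i < 19884 → P i := stepQ 19883 Q19883 (allL N19883 (tt N9737 (iv1 F48522)) (tt N9733 (iv0 D30165)) (tt N9832 (iv2 F48521)) (tt N39151 D63962) (tt N18276 F48520) (tt N39125 (iv5 F99449)) (tt N39152 D63963) (tt N9833 F48523))
theorem Q19885 : ∀ i, i < 19885 → P i := stepQ 19884 Q19884 (allL N19884 (tt N39153 D63964) (tt N39154 D63965) (tt N39155 D63966) (tt N9733 (iv3 D30166)) (tt N36671 (iv4 F94996)) (tt N39156 D63967) (tt N39157 D63968) (tt N9847 F48524))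
theorem Q19886 : ∀ i, i < 19886 → P i := stepQ 19885 Q19885 (allL N19885 (tt N20023 (iv1 F48743)) (tt N20019 (iv0 F48735)) (tt N9835 F48525) (tt N39156 (iv3 F99534)) (tt N36012 (iv4 F93802)) (tt N9733 (iv5 D30167)) (tt N39158 D63969) (tt N9848 F48526))
theorem Q19887 : ∀ i, i < 19887 → P i := stepQ 19886 Q19886 (allL N19886 (tt N16944 (iv1 F328045)) (tt N39159 D63971) (tt N9836 F48527) (tt N39157 (iv3 F99536)) (tt N9735 F48528) (tt N39160 D63972) (tt N9733 (iv6 D30168)) (tt N39161 D63973))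
theorem Q19888 : ∀ i, i < 19888 → P i := stepQ 19887 Q19887 (allL N19887 (tt N9735 (iv1 D30170)) (tt N9843 F48529) (tt N9841 F99933) (tt N30270 (iv3 F102017)) (tt N39162 D63980) (tt N39012 (iv5 F99152)) (tt N39163 D63981) (tt N9840 (iv7 F99936)))
theorem Q19889 : ∀ i, i < 19889 → P i := stepQ 19888 Q19888 (allL N19888 (tt N9841 (iv1 F48533)) (tt N9840 F48534) (tt N9843 F48530) (tt N39150 (iv3 F99516)) (tt N39161 (iv4 F99541)) (tt N33014 (iv5 F83871)) (tt N9854 F48531) (tt N9735 (iv7 D30171)))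
theorem Q19890 : ∀ i, i < 19890 → P i := stepQ 19889 Q19889 (allL N19889 (tt N39164 D63982) (tt N30307 (iv0 F161385)) (tt N29927 (iv2 F77620)) (tt N9738 F48535) (tt N18329 F48536) (tt N22603 (iv5 F53425)) (tt N9736 (iv6 D30172)) (tt N39165 D63984))
theorem Q19891 : ∀ i, i < 19891 → P i := stepQ 19890 Q19890 (allL N19890 (tt N39166 D63985) (tt N39167 D63986) (tt N39168 D63987) (tt N9737 (iv3 D30173)) (tt N18327 F48537) (tt N39169 D63988) (tt N39170 D63989) (tt N9834 F48538))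
theorem Q19892 : ∀ i, i < 19892 → P i := stepQ 19891 Q19891 (allL N19891 (tt N20019 (iv1 F48736)) (tt N20023 (iv0 F48742)) (tt N9848 F48539) (tt N39169 (iv3 F99561)) (tt N20089 (iv4 F48815)) (tt N9737 (iv5 D30174)) (tt N39171 D63990) (tt N9835 F48540))
theorem Q19893 : ∀ i, i < 19893 → P i := stepQ 19892 Q19892 (allL N19892 (tt N39172 D63991) (tt N39173 D63992) (tt N9849 F48541) (tt N39170 (iv3 F99563)) (tt N9738 F48542) (tt N14389 F328241) (tt N9737 (iv6 D30175)) (tt N39174 D63994))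
theorem Q19894 : ∀ i, i < 19894 → P i := stepQ 19893 Q19893 (allL N19893 (tt N9854 (iv1 F48546)) (tt N9738 (iv0 D30176)) (tt N9851 F99895) (tt N33045 (iv3 F161292)) (tt N39175 D63997) (tt N33045 (iv5 F83977)) (tt N39176 D63998) (tt N9852 (iv7 F99900)))
theorem Q19895 : ∀ i, i < 19895 → P i := stepQ 19894 Q19894 (allL N19894 (tt N9852 (iv1 F48547)) (tt N9851 F48548) (tt N9854 F48544) (tt N39165 (iv3 F99551)) (tt N39174 (iv4 F99569)) (tt N22612 (iv5 F53436)) (tt N9843 F48545) (tt N9738 (iv7 D30178)))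
theorem Q19896 : ∀ i, i < 19896 → P i := stepQ 19895 Q19895 (allL N19895 (tt N39177 D64002) (tt N39178 D64003) (tt N39179 D64004) (tt N9739 (iv3 D30179)) (tt N29648 (iv4 F76894)) (tt N39180 D64005) (tt N39181 D64006) (tt N9859 F48549))
theorem Q19897 : ∀ i, i < 19897 → P i := stepQ 19896 Q19896 (allL N19896 (tt N20016 (iv1 F48731)) (tt N20010 (iv0 F48726)) (tt N9857 F48550) (tt N39180 (iv3 F99586)) (tt N36007 (iv4 F93789)) (tt N9739 (iv5 D30180)) (tt N39182 D64007) (tt N9861 F48551))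
theorem Q19898 : ∀ i, i < 19898 → P i := stepQ 19897 Q19897 (allL N19897 (tt N33332 (iv1 F101914)) (tt N39162 (iv0 F101958)) (tt N9858 F48552) (tt N39181 (iv3 F99588)) (tt N29646 (iv4 F76890)) (tt N33679 (iv5 F328817)) (tt N9739 (iv6 D30181)) (tt N33677 F328418))
theorem Q19899 : ∀ i, i < 19899 → P i := stepQ 19898 Q19898 (allL N19898 (tt N39183 D64012) (tt N39184 D64013) (tt N29367 (iv2 F328985)) (tt N9740 (iv3 D30182)) (tt N30149 (iv4 F78107)) (tt N39185 D64015) (tt N27784 F328557) (tt N9855 F48553))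
theorem Q19900 : ∀ i, i < 19900 → P i := stepQ 19899 Q19899 (allL N19899 (tt N15710 F48559) (tt N10251 F48557) (tt N9860 F48554) (tt N18636 F48558) (tt N9740 (iv4 D30183)) (tt N15273 F48556) (tt N39186 D64017) (tt N9856 F48555))
theorem Q19901 : ∀ i, i < 19901 → P i := stepQ 19900 Q19900 (allL N19900 (tt N20010 (iv1 F48727)) (tt N20016 (iv0 F48730)) (tt N9861 F48560) (tt N39185 (iv3 F99603)) (tt N36003 (iv4 F93778)) (tt N9740 (iv5 D30184)) (tt N39187 D64018) (tt N9857 F48561))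
theorem Q19902 : ∀ i, i < 19902 → P i := stepQ 19901 Q19901 (allL N19901 (tt N39175 (iv1 F166091)) (tt N33368 (iv0 F166093)) (tt N9862 F48562) (tt N27784 (iv3 F328160)) (tt N39186 (iv4 F99608)) (tt N27783 F327685) (tt N9740 (iv6 D30185)) (tt N29358 (iv7 F328156)))
theorem Q19903 : ∀ i, i < 19903 → P i := stepQ 19902 Q19902 (allL N19902 (tt N39188 D64023) (tt N9741 (iv0 D30186)) (tt N39189 D64024) (tt N39190 D64025) (tt N39191 D64026) (tt N39192 D64027) (tt N39193 D64028) (tt N39194 D64029))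
theorem Q19904 : ∀ i, i < 19904 → P i := stepQ 19903 Q19903 (allL N19903 (tt N9741 (iv1 D30187)) (tt N39188 F99621) (tt N39194 (iv2 F99623)) (tt N28356 F333109) (tt N39195 D64031) (tt N39196 D64032) (tt N28353 (iv6 F333114)) (tt N39189 F99622))
theorem Q19905 : ∀ i, i < 19905 → P i := stepQ 19904 Q19904 (allL N19904 (tt N39189 F224169) (tt N39194 (iv0 F224172)) (tt N9741 (iv2 D30188)) (tt N9865 F48563) (tt N33055 (iv4 F83999)) (tt N39197 D64036) (tt N39105 (iv6 F99402)) (tt N39188 (iv7 F99620)))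
theorem Q19906 : ∀ i, i < 19906 → P i := stepQ 19905 Q19905 (allL N19905 (tt N39198 D64037) (tt N39199 D64038) (tt N39197 (iv2 F99626)) (tt N9742 F48564) (tt N38522 F323861) (tt N9741 (iv5 D30189)) (tt N38521 (iv6 F325099)) (tt N36161 (iv7 F94026)))
theorem Q19907 : ∀ i, i < 19907 → P i := stepQ 19906 Q19906 (allL N19906 (tt N39194 (iv1 F224173)) (tt N39189 F224168) (tt N39188 F99618) (tt N9743 F48565) (tt N33057 (iv4 F84002)) (tt N36161 (iv5 F94025)) (tt N39200 D64041) (tt N9741 (iv7 D30190)))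
theorem Q19908 : ∀ i, i < 19908 → P i := stepQ 19907 Q19907 (allL N19907 (tt N9872 (iv1 F48566)) (tt N9742 (iv0 D30191)) (tt N9868 F76837) (tt N39201 D64042) (tt N36000 (iv4 F93770)) (tt N29623 (iv5 F76834)) (tt N39202 D64043) (tt N9869 F76838))
theorem Q19909 : ∀ i, i < 19909 → P i := stepQ 19908 Q19908 (allL N19908 (tt N9742 (iv1 D30192)) (tt N9872 F48567) (tt N9869 F76839) (tt N39203 D64044) (tt N35997 (iv4 F93754)) (tt N30881 (iv5 F79636)) (tt N39204 D64045) (tt N9868 F76840))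
theorem Q19910 : ∀ i, i < 19910 → P i := stepQ 19909 Q19909 (allL N19909 (tt N39205 D64046) (tt N38548 (iv0 F359623)) (tt N9871 F48568) (tt N38521 (iv3 F325098)) (tt N36165 (iv4 F94030)) (tt N39110 (iv5 F99414)) (tt N9742 (iv6 D30193)) (tt N39206 D64048))
theorem Q19911 : ∀ i, i < 19911 → P i := stepQ 19910 Q19910 (allL N19910 (tt N39207 D64049) (tt N39208 D64050) (tt N9873 F48569) (tt N39200 (iv3 F99629)) (tt N9744 F48570) (tt N39209 D64051) (tt N9743 (iv6 D30194)) (tt N39112 (iv7 F99422)))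
theorem Q19912 : ∀ i, i < 19912 → P i := stepQ 19911 Q19911 (allL N19911 (tt N9771 (iv1 F48571)) (tt N9744 (iv0 D30195)) (tt N9874 (iv2 F99743)) (tt N32222 (iv3 F168373)) (tt N39210 D64054) (tt N39211 D64055) (tt N38848 F98870) (tt N9875 (iv7 F99744)))
theorem Q19913 : ∀ i, i < 19913 → P i := stepQ 19912 Q19912 (allL N19912 (tt N9744 (iv1 D30196)) (tt N9771 F48572) (tt N9875 F99745) (tt N39212 D64057) (tt N39213 D64058) (tt N39214 D64059) (tt N39215 D64060) (tt N9874 F99746))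
theorem Q19914 : ∀ i, i < 19914 → P i := stepQ 19913 Q19913 (allL N19913 (tt N15946 (iv1 F48574)) (tt N9745 (iv0 D30197)) (tt N19917 F48579) (tt N39216 D64061) (tt N18033 F48573) (tt N39217 D64062) (tt N39218 D64063) (tt N18082 (iv7 F48575)))
theorem Q19915 : ∀ i, i < 19915 → P i := stepQ 19914 Q19914 (allL N19914 (tt N9745 (iv1 D30198)) (tt N15946 F48576) (tt N18082 (iv2 F48577)) (tt N39219 D64064) (tt N18081 (iv4 F48578)) (tt N39220 D64065) (tt N39221 D64066) (tt N19917 (iv7 F48581)))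
theorem Q19916 : ∀ i, i < 19916 → P i := stepQ 19915 Q19915 (allL N19915 (tt N39222 D64067) (tt N39223 D64068) (tt N39224 D64069) (tt N9745 (iv3 D30199)) (tt N32227 (iv4 F82570)) (tt N39225 D64070) (tt N22586 (iv6 F53378)) (tt N31012 (iv7 F79770)))
theorem Q19917 : ∀ i, i < 19917 → P i := stepQ 19916 Q19916 (allL N19916 (tt N39226 D64071) (tt N39227 D64072) (tt N19919 (iv2 F48583)) (tt N39225 (iv3 F99663)) (tt N29676 (iv4 F76913)) (tt N9745 (iv5 D30200)) (tt N39228 D64073) (tt N29674 F76912))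
theorem Q19918 : ∀ i, i < 19918 → P i := stepQ 19917 Q19917 (allL N19917 (tt N15498 (iv1 F48580)) (tt N9746 (iv0 D30201)) (tt N19913 (iv2 F48579)) (tt N31736 (iv3 F81260)) (tt N31739 (iv4 F81259)) (tt N39229 D64074) (tt N39230 D64075) (tt N19914 F48581))
theorem Q19919 : ∀ i, i < 19919 → P i := stepQ 19918 Q19918 (allL N19918 (tt N39231 D64076) (tt N39232 D64077) (tt N39233 D64078) (tt N9746 (iv3 D30202)) (tt N14701 F48582) (tt N39234 D64079) (tt N22589 (iv6 F53385)) (tt N31841 (iv7 F81506)))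
theorem Q19920 : ∀ i, i < 19920 → P i := stepQ 19919 Q19919 (allL N19919 (tt N39235 D64080) (tt N35635 (iv0 F93038)) (tt N19916 F48583) (tt N39234 (iv3 F99678)) (tt N39236 D64081) (tt N9746 (iv5 D30203)) (tt N39237 D64082) (tt N31842 (iv7 F81509)))
theorem Q19921 : ∀ i, i < 19921 → P i := stepQ 19920 Q19920 (allL N19920 (tt N14781 F48586) (tt N14784 F48587) (tt N19525 F48584) (tt N39238 D64083) (tt N9747 (iv4 D30204)) (tt N39239 D64084) (tt N16173 F48585) (tt N31021 (iv7 F79787)))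
theorem Q19922 : ∀ i, i < 19922 → P i := stepQ 19921 Q19921 (allL N19921 (tt N19191 F48588) (tt N19194 F48589) (tt N32982 (iv2 F83814)) (tt N39240 D64085) (tt N9748 (iv4 D30205)) (tt N39241 D64086) (tt N39242 D64087) (tt N32983 (iv7 F83819)))
theorem Q19923 : ∀ i, i < 19923 → P i := stepQ 19922 Q19922 (allL N19922 (tt N37326 (iv1 F165670)) (tt N39243 D64089) (tt N30940 (iv2 F79704)) (tt N18664 F48590) (tt N39242 (iv4 F99700)) (tt N30934 (iv5 F79700)) (tt N9748 (iv6 D30206)) (tt N39244 D64090))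
theorem Q19924 : ∀ i, i < 19924 → P i := stepQ 19923 Q19923 (allL N19923 (tt N19185 F48591) (tt N14761 F48592) (tt N29605 F76788) (tt N36827 (iv3 F95235)) (tt N9750 (iv4 D30207)) (tt N39245 D64091) (tt N39246 D64092) (tt N29606 (iv7 F76791)))
theorem Q19925 : ∀ i, i < 19925 → P i := stepQ 19924 Q19924 (allL N19924 (tt N38579 (iv1 F168153)) (tt N39247 D64094) (tt N32985 (iv2 F83824)) (tt N19821 F48593) (tt N39246 (iv4 F99705)) (tt N30241 (iv5 F78235)) (tt N9750 (iv6 D30208)) (tt N39248 D64095))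
theorem Q19926 : ∀ i, i < 19926 → P i := stepQ 19925 Q19925 (allL N19925 (tt N39249 D64096) (tt N39250 D64097) (tt N39251 D64098) (tt N9751 (iv3 D30209)) (tt N15043 F48594) (tt N39252 D64099) (tt N19790 F48595) (tt N37920 (iv7 F96944)))
theorem Q19927 : ∀ i, i < 19927 → P i := stepQ 19926 Q19926 (allL N19926 (tt N37799 (iv1 F96609)) (tt N18782 F48596) (tt N32987 (iv2 F83829)) (tt N39252 (iv3 F99710)) (tt N39111 (iv4 F99416)) (tt N9751 (iv5 D30210)) (tt N39253 D64100) (tt N37826 (iv7 F96682)))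
theorem Q19928 : ∀ i, i < 19928 → P i := stepQ 19927 Q19927 (allL N19927 (tt N38938 (iv1 F99048)) (tt N38570 (iv0 F102163)) (tt N32988 (iv2 F83833)) (tt N15046 F48597) (tt N37921 (iv4 F96946)) (tt N19927 F48598) (tt N9752 (iv6 D30211)) (tt N19792 F48599))
theorem Q19929 : ∀ i, i < 19929 → P i := stepQ 19928 Q19928 (allL N19928 (tt N18789 F48601) (tt N38164 F97566) (tt N18899 F48600) (tt N39254 D64101) (tt N9753 (iv4 D30212)) (tt N38236 (iv5 F97737)) (tt N39255 D64102) (tt N30729 (iv7 F79294)))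
theorem Q19930 : ∀ i, i < 19930 → P i := stepQ 19929 Q19929 (allL N19929 (tt N39256 D64103) (tt N39257 D64104) (tt N18900 F48602) (tt N9758 F48603) (tt N39255 (iv4 F99714)) (tt N30289 (iv5 F78302)) (tt N9753 (iv6 D30213)) (tt N39258 D64105))
theorem Q19931 : ∀ i, i < 19931 → P i := stepQ 19930 Q19930 (allL N19930 (tt N35542 (iv1 F92805)) (tt N35540 (iv0 F92798)) (tt N19421 F48604) (tt N39259 D64106) (tt N9755 (iv4 D30214)) (tt N39260 D64107) (tt N39261 D64108) (tt N37802 (iv7 F96621)))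
theorem Q19932 : ∀ i, i < 19932 → P i := stepQ 19931 Q19931 (allL N19931 (tt N39262 D64109) (tt N39263 D64110) (tt N19419 F48605) (tt N19830 F48606) (tt N39261 (iv4 F99728)) (tt N16577 F48607) (tt N9755 (iv6 D30215)) (tt N39147 (iv7 F99511)))
theorem Q19933 : ∀ i, i < 19933 → P i := stepQ 19932 Q19932 (allL N19932 (tt N35540 (iv1 F92799)) (tt N35542 (iv0 F92804)) (tt N37802 (iv2 F96619)) (tt N39264 D64111) (tt N9756 (iv4 D30216)) (tt N39265 D64112) (tt N31144 (iv6 F79997)) (tt N19421 F48608))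
theorem Q19934 : ∀ i, i < 19934 → P i := stepQ 19933 Q19933 (allL N19933 (tt N9759 (iv1 F48610)) (tt N9757 (iv0 D30217)) (tt N37803 F96625) (tt N39266 D64113) (tt N18682 F48609) (tt N39267 D64114) (tt N39268 D64115) (tt N37804 (iv7 F96628)))
theorem Q19935 : ∀ i, i < 19935 → P i := stepQ 19934 Q19934 (allL N19934 (tt N9757 (iv1 D30218)) (tt N9759 F48611) (tt N37804 F96630) (tt N39269 D64116) (tt N30576 F78915) (tt N39270 D64117) (tt N39143 (iv6 F99503)) (tt N37803 F96626))
theorem Q19936 : ∀ i, i < 19936 → P i := stepQ 19935 Q19935 (allL N19935 (tt N39271 D64118) (tt N39272 D64119) (tt N28901 F328528) (tt N9757 (iv3 D30219)) (tt N39254 (iv4 F99712)) (tt N39273 D64121) (tt N28899 F328529) (tt N39090 (iv7 F99366)))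
theorem Q19937 : ∀ i, i < 19937 → P i := stepQ 19936 Q19936 (allL N19936 (tt N39274 D64123) (tt N39275 D64124) (tt N37805 (iv2 F96633)) (tt N39273 (iv3 F99807)) (tt N18782 F48612) (tt N9757 (iv5 D30220)) (tt N39276 D64125) (tt N37827 (iv7 F96686)))
theorem Q19938 : ∀ i, i < 19938 → P i := stepQ 19937 Q19937 (allL N19937 (tt N28890 F328162) (tt N28634 F328163) (tt N28330 (iv2 F328569)) (tt N28899 F328526) (tt N9758 F48613) (tt N39277 D64128) (tt N9757 (iv6 D30221)) (tt N28910 (iv7 F328537)))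
theorem Q19939 : ∀ i, i < 19939 → P i := stepQ 19938 Q19938 (allL N19938 (tt N28911 F328993) (tt N9758 (iv0 D30222)) (tt N22671 (iv2 F111201)) (tt N22610 (iv3 F111222)) (tt N39278 D64132) (tt N20136 F48857) (tt N9799 F48753) (tt N33156 (iv7 F99842)))
theorem Q19940 : ∀ i, i < 19940 → P i := stepQ 19939 Q19939 (allL N19939 (tt N9758 (iv1 D30223)) (tt N28911 F328992) (tt N33156 (iv2 F99841)) (tt N9886 (iv3 F111229)) (tt N39279 D64135) (tt N20135 (iv5 F48856)) (tt N39280 D64136) (tt N22671 F111211))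
theorem Q19941 : ∀ i, i < 19941 → P i := stepQ 19940 Q19940 (allL N19940 (tt N33156 (iv1 F84138)) (tt N22671 (iv0 F111199)) (tt N28911 F328960) (tt N39258 (iv3 F99718)) (tt N28910 F328961) (tt N33046 (iv5 F83981)) (tt N38977 F99120) (tt N9758 (iv7 D30224)))
theorem Q19942 : ∀ i, i < 19942 → P i := stepQ 19941 Q19941 (allL N19941 (tt N28907 F329265) (tt N28906 F329266) (tt N28909 F329267) (tt N9759 (iv3 D30225)) (tt N32164 (iv4 F82446)) (tt N39281 D64140) (tt N28919 (iv6 F329360)) (tt N28332 F329268))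
theorem Q19943 : ∀ i, i < 19943 → P i := stepQ 19942 Q19942 (allL N19942 (tt N39275 (iv1 F99813)) (tt N39274 F99811) (tt N37827 (iv2 F96684)) (tt N39281 (iv3 F99852)) (tt N37799 (iv4 F96606)) (tt N9759 (iv5 D30226)) (tt N39282 D64142) (tt N37805 (iv7 F96634)))
theorem Q19944 : ∀ i, i < 19944 → P i := stepQ 19943 Q19943 (allL N19943 (tt N39283 D64143) (tt N39120 (iv0 F99817)) (tt N39091 (iv2 F99367)) (tt N28919 (iv3 F329359)) (tt N9760 F48614) (tt N39284 D64144) (tt N9759 (iv6 D30227)) (tt N28913 F329007))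
theorem Q19945 : ∀ i, i < 19945 → P i := stepQ 19944 Q19944 (allL N19944 (tt N38977 (iv1 F99118)) (tt N9760 (iv0 D30228)) (tt N38979 (iv2 F99125)) (tt N9894 F48901) (tt N39285 D64146) (tt N19741 F48902) (tt N31101 (iv6 F79929)) (tt N9793 F48903))
theorem Q19946 : ∀ i, i < 19946 → P i := stepQ 19945 Q19945 (allL N19945 (tt N9793 (iv1 F48615)) (tt N38979 F99128) (tt N38977 (iv2 F99122)) (tt N32168 (iv3 F82458)) (tt N28913 F328996) (tt N38223 (iv5 F97693)) (tt N28911 F328997) (tt N9760 (iv7 D30229)))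
theorem Q19947 : ∀ i, i < 19947 → P i := stepQ 19946 Q19946 (allL N19946 (tt N15216 F48618) (tt N15195 F48619) (tt N15213 F48616) (tt N39286 D64147) (tt N9761 (iv4 D30230)) (tt N38855 (iv5 F98907)) (tt N39287 D64148) (tt N15214 F48617))
theorem Q19948 : ∀ i, i < 19948 → P i := stepQ 19947 Q19947 (allL N19947 (tt N39288 D64149) (tt N39289 D64150) (tt N30732 (iv2 F79309)) (tt N9763 F48620) (tt N39287 (iv4 F99860)) (tt N31672 F81152) (tt N9761 (iv6 D30231)) (tt N39290 D64151))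
theorem Q19949 : ∀ i, i < 19949 → P i := stepQ 19948 Q19948 (allL N19948 (tt N9764 (iv1 F48622)) (tt N9762 (iv0 D30232)) (tt N33100 F84080) (tt N39291 D64152) (tt N18017 F48621) (tt N39274 (iv5 F99809)) (tt N39292 D64153) (tt N18016 (iv7 F48623)))
theorem Q19950 : ∀ i, i < 19950 → P i := stepQ 19949 Q19949 (allL N19949 (tt N9762 (iv1 D30233)) (tt N9764 F48624) (tt N18016 (iv2 F48626)) (tt N39293 D64154) (tt N14759 F48625) (tt N39275 (iv5 F99814)) (tt N9833 (iv6 F48627)) (tt N33100 (iv7 F84078)))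
theorem Q19951 : ∀ i, i < 19951 → P i := stepQ 19950 Q19950 (allL N19950 (tt N39294 D64155) (tt N39295 D64156) (tt N39296 D64157) (tt N9762 (iv3 D30234)) (tt N39286 (iv4 F99857)) (tt N39297 D64158) (tt N39298 D64159) (tt N33101 (iv7 F84082)))
theorem Q19952 : ∀ i, i < 19952 → P i := stepQ 19951 Q19951 (allL N19951 (tt N39299 D64160) (tt N39300 D64161) (tt N39093 (iv2 F99372)) (tt N39297 (iv3 F99868)) (tt N18832 F48628) (tt N9762 (iv5 D30235)) (tt N39301 D64162) (tt N33102 (iv7 F84084)))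
theorem Q19953 : ∀ i, i < 19953 → P i := stepQ 19952 Q19952 (allL N19952 (tt N39302 D64163) (tt N39303 D64164) (tt N39094 (iv2 F99375)) (tt N39298 (iv3 F99869)) (tt N9763 F48629) (tt N39304 D64165) (tt N9762 (iv6 D30236)) (tt N39305 D64166))
theorem Q19954 : ∀ i, i < 19954 → P i := stepQ 19953 Q19953 (allL N19953 (tt N39096 F99385) (tt N9763 (iv0 D30237)) (tt N22705 F161291) (tt N22629 (iv3 F161298)) (tt N39306 D64169) (tt N39307 D64170) (tt N9852 F83879) (tt N39095 (iv7 F99906)))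
theorem Q19955 : ∀ i, i < 19955 → P i := stepQ 19954 Q19954 (allL N19954 (tt N9763 (iv1 D30238)) (tt N39096 F99384) (tt N39095 (iv2 F99905)) (tt N9902 (iv3 F161306)) (tt N39308 D64173) (tt N31236 (iv5 F161308)) (tt N39309 D64175) (tt N22705 F161297))
theorem Q19956 : ∀ i, i < 19956 → P i := stepQ 19955 Q19955 (allL N19955 (tt N39095 (iv1 F99379)) (tt N22705 F161295) (tt N39096 (iv2 F99380)) (tt N39290 (iv3 F99861)) (tt N39305 (iv4 F99881)) (tt N15549 F79817) (tt N33099 (iv6 F84074)) (tt N9763 (iv7 D30239)))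
theorem Q19957 : ∀ i, i < 19957 → P i := stepQ 19956 Q19956 (allL N19956 (tt N39310 D64176) (tt N39311 D64177) (tt N39312 D64178) (tt N9764 (iv3 D30240)) (tt N30238 (iv4 F78228)) (tt N39313 D64179) (tt N39314 D64180) (tt N39092 (iv7 F99371)))
theorem Q19958 : ∀ i, i < 19958 → P i := stepQ 19957 Q19957 (allL N19957 (tt N39300 (iv1 F99875)) (tt N39299 F99872) (tt N33102 (iv2 F84083)) (tt N39313 (iv3 F99919)) (tt N37915 (iv4 F96929)) (tt N9764 (iv5 D30241)) (tt N39315 D64181) (tt N39093 (iv7 F99374)))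
theorem Q19959 : ∀ i, i < 19959 → P i := stepQ 19958 Q19958 (allL N19958 (tt N39316 D64182) (tt N39317 D64183) (tt N33098 (iv2 F84070)) (tt N39314 (iv3 F99920)) (tt N9765 F48630) (tt N39318 D64184) (tt N9764 (iv6 D30242)) (tt N39319 D64185))
theorem Q19960 : ∀ i, i < 19960 → P i := stepQ 19959 Q19959 (allL N19959 (tt N33099 F84076) (tt N9765 (iv0 D30243)) (tt N33097 (iv2 F99940)) (tt N9908 (iv3 F101990)) (tt N39320 D64188) (tt N22636 F53503) (tt N39321 D64189) (tt N22721 F101973))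
theorem Q19961 : ∀ i, i < 19961 → P i := stepQ 19960 Q19960 (allL N19960 (tt N9765 (iv1 D30244)) (tt N33099 F84075) (tt N22721 (iv2 F101967)) (tt N22637 (iv3 F101985)) (tt N39322 D64192) (tt N22637 F81361) (tt N9840 F81362) (tt N33097 (iv7 F99941)))
theorem Q19962 : ∀ i, i < 19962 → P i := stepQ 19961 Q19961 (allL N19961 (tt N22721 (iv1 F101966)) (tt N33097 (iv0 F84068)) (tt N33099 (iv2 F84072)) (tt N30237 (iv3 F78226)) (tt N39319 (iv4 F99921)) (tt N30213 (iv5 F78194)) (tt N39096 (iv6 F99383)) (tt N9765 (iv7 D30245)))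
theorem Q19963 : ∀ i, i < 19963 → P i := stepQ 19962 Q19962 (allL N19962 (tt N39323 D64193) (tt N39324 D64194) (tt N39325 D64195) (tt N9766 (iv3 D30246)) (tt N30757 (iv4 F79391)) (tt N39326 D64196) (tt N39327 D64197) (tt N39100 (iv7 F99396)))
theorem Q19964 : ∀ i, i < 19964 → P i := stepQ 19963 Q19963 (allL N19963 (tt N39328 D64198) (tt N38243 (iv0 F97756)) (tt N39098 (iv2 F99391)) (tt N39326 (iv3 F100011)) (tt N38506 (iv4 F98386)) (tt N9766 (iv5 D30247)) (tt N39329 D64199) (tt N39101 (iv7 F99398)))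
theorem Q19965 : ∀ i, i < 19965 → P i := stepQ 19964 Q19964 (allL N19964 (tt N39306 (iv1 F161369)) (tt N39308 (iv0 F99887)) (tt N39099 (iv2 F99393)) (tt N39327 (iv3 F100012)) (tt N35544 (iv4 F92809)) (tt N39330 D64201) (tt N9766 (iv6 D30248)) (tt N39331 D64202))
theorem Q19966 : ∀ i, i < 19966 → P i := stepQ 19965 Q19965 (allL N19965 (tt N39332 D64203) (tt N39333 D64204) (tt N39334 D64205) (tt N9767 (iv3 D30249)) (tt N36062 (iv4 F93890)) (tt N39335 D64206) (tt N39336 D64207) (tt N39097 (iv7 F99390)))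
theorem Q19967 : ∀ i, i < 19967 → P i := stepQ 19966 Q19966 (allL N19966 (tt N38243 (iv1 F97757)) (tt N39328 F100016) (tt N39101 (iv2 F99397)) (tt N39335 (iv3 F100018)) (tt N39245 (iv4 F99702)) (tt N9767 (iv5 D30250)) (tt N39337 D64208) (tt N39098 (iv7 F99392)))
theorem Q19968 : ∀ i, i < 19968 → P i := stepQ 19967 Q19967 (allL N19967 (tt N39320 (iv1 F162114)) (tt N39322 (iv0 F111276)) (tt N39102 (iv2 F99399)) (tt N39336 (iv3 F100019)) (tt N35545 (iv4 F92811)) (tt N39338 D64211) (tt N9767 (iv6 D30251)) (tt N39339 D64212))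
theorem Q19969 : ∀ i, i < 19969 → P i := stepQ 19968 Q19968 (allL N19968 (tt N39340 D64213) (tt N9768 (iv0 D30252)) (tt N39341 D64214) (tt N39342 D64215) (tt N39343 D64216) (tt N39344 D64217) (tt N39345 D64218) (tt N39346 D64219))
theorem Q19970 : ∀ i, i < 19970 → P i := stepQ 19969 Q19969 (allL N19969 (tt N9768 (iv1 D30253)) (tt N39340 F100023) (tt N39346 (iv2 F100025)) (tt N39347 D64220) (tt N12654 F310004) (tt N39348 D64222) (tt N23153 (iv6 F312266)) (tt N39341 F100024))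
theorem Q19971 : ∀ i, i < 19971 → P i := stepQ 19970 Q19970 (allL N19970 (tt N39341 F219715) (tt N39346 (iv0 F219716)) (tt N9768 (iv2 D30254)) (tt N39105 (iv3 F99401)) (tt N9918 F48631) (tt N39349 D64226) (tt N9865 F48632) (tt N39340 (iv7 F100022)))
theorem Q19972 : ∀ i, i < 19972 → P i := stepQ 19971 Q19971 (allL N19971 (tt N39350 D64227) (tt N39351 D64228) (tt N39349 (iv2 F100030)) (tt N9769 F48633) (tt N39352 D64229) (tt N9768 (iv5 D30255)) (tt N39353 D64230) (tt N39354 D64231))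
theorem Q19973 : ∀ i, i < 19973 → P i := stepQ 19972 Q19972 (allL N19972 (tt N39346 (iv1 F219717)) (tt N39341 F219714) (tt N39340 F100020) (tt N9770 F48634) (tt N9920 F48635) (tt N39354 (iv5 F100034)) (tt N39355 D64232) (tt N9768 (iv7 D30256)))
theorem Q19974 : ∀ i, i < 19974 → P i := stepQ 19973 Q19973 (allL N19973 (tt N39111 (iv1 F99419)) (tt N9769 (iv0 D30257)) (tt N39108 F99406) (tt N39356 D64233) (tt N38459 (iv4 F98333)) (tt N35540 (iv5 F92797)) (tt N39357 D64234) (tt N39109 (iv7 F99410)))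
theorem Q19975 : ∀ i, i < 19975 → P i := stepQ 19974 Q19974 (allL N19974 (tt N9769 (iv1 D30258)) (tt N39111 F99418) (tt N39109 F99412) (tt N39358 D64235) (tt N39241 (iv4 F99697)) (tt N35542 F92806) (tt N39359 D64236) (tt N39108 F99407))
theorem Q19976 : ∀ i, i < 19976 → P i := stepQ 19975 Q19975 (allL N19975 (tt N18782 (iv1 F48637)) (tt N37799 (iv0 F96608)) (tt N37826 F96680) (tt N39360 D64237) (tt N9769 (iv4 D30259)) (tt N18830 F48636) (tt N39361 D64238) (tt N32987 (iv7 F83830)))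
theorem Q19977 : ∀ i, i < 19977 → P i := stepQ 19976 Q19976 (allL N19976 (tt N39362 D64239) (tt N39363 D64240) (tt N39110 (iv2 F99413)) (tt N39353 (iv3 F100031)) (tt N39361 (iv4 F100039)) (tt N9871 F48638) (tt N9769 (iv6 D30260)) (tt N39364 D64241))
theorem Q19978 : ∀ i, i < 19978 → P i := stepQ 19977 Q19977 (allL N19977 (tt N39109 (iv1 F99409)) (tt N39108 F99408) (tt N39111 (iv2 F99415)) (tt N39354 (iv3 F100033)) (tt N32987 (iv4 F83831)) (tt N9770 F48639) (tt N39365 D64242) (tt N9769 (iv7 D30261)))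
theorem Q19979 : ∀ i, i < 19979 → P i := stepQ 19978 Q19978 (allL N19978 (tt N39208 (iv1 F99640)) (tt N39207 F99639) (tt N39112 (iv2 F99420)) (tt N39355 (iv3 F100035)) (tt N9771 F48640) (tt N39366 D64243) (tt N9770 (iv6 D30262)) (tt N9873 F48641))
theorem Q19980 : ∀ i, i < 19980 → P i := stepQ 19979 Q19979 (allL N19979 (tt N39367 D64244) (tt N39212 (iv0 F163982)) (tt N19991 (iv2 F48666)) (tt N9976 F48642) (tt N36091 (iv4 F93940)) (tt N19979 F48643) (tt N9772 (iv6 D30263)) (tt N30736 (iv7 F79318)))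
theorem Q19981 : ∀ i, i < 19981 → P i := stepQ 19980 Q19980 (allL N19980 (tt N39368 D64246) (tt N39369 D64247) (tt N19997 (iv2 F48692)) (tt N9997 F48644) (tt N36043 (iv4 F93858)) (tt N15865 F48645) (tt N9773 (iv6 D30264)) (tt N39370 D64248))
theorem Q19982 : ∀ i, i < 19982 → P i := stepQ 19981 Q19981 (allL N19981 (tt N30730 F79301) (tt N38170 F97584) (tt N19999 (iv2 F48699)) (tt N16067 F48646) (tt N36046 (iv4 F93863)) (tt N19789 F48647) (tt N9774 (iv6 D30265)) (tt N38168 (iv7 F100098)))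
theorem Q19983 : ∀ i, i < 19983 → P i := stepQ 19982 Q19982 (allL N19982 (tt N9775 (iv1 D30266)) (tt N19875 F48648) (tt N16793 (iv2 F48651)) (tt N39371 D64250) (tt N16792 F48650) (tt N36136 (iv5 F93999)) (tt N39372 D64251) (tt N18282 F48649))
theorem Q19984 : ∀ i, i < 19984 → P i := stepQ 19983 Q19983 (allL N19983 (tt N39373 D64252) (tt N39374 D64253) (tt N39375 D64254) (tt N9775 (iv3 D30267)) (tt N9796 F48652) (tt N39376 D64255) (tt N39377 D64256) (tt N20059 (iv7 F48780)))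
theorem Q19985 : ∀ i, i < 19985 → P i := stepQ 19984 Q19984 (allL N19984 (tt N18339 F48656) (tt N18268 F48657) (tt N18335 F48653) (tt N39376 (iv3 F100053)) (tt N19878 F48655) (tt N9775 (iv5 D30268)) (tt N39378 D64257) (tt N18336 F48654))
theorem Q19986 : ∀ i, i < 19986 → P i := stepQ 19985 Q19985 (allL N19985 (tt N20885 (iv1 F111235)) (tt N39379 D64259) (tt N20001 (iv2 F48703)) (tt N39377 (iv3 F100055)) (tt N9776 F48658) (tt N39380 D64260) (tt N9775 (iv6 D30269)) (tt N39381 D64261))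
theorem Q19987 : ∀ i, i < 19987 → P i := stepQ 19986 Q19986 (allL N19986 (tt N20005 (iv1 F48712)) (tt N9776 (iv0 D30270)) (tt N20002 F111295) (tt N20345 (iv3 F111288)) (tt N36054 (iv4 F111289)) (tt N20343 (iv5 F111290)) (tt N39256 (iv6 F99715)) (tt N20003 (iv7 F111298)))
theorem Q19988 : ∀ i, i < 19988 → P i := stepQ 19987 Q19987 (allL N19987 (tt N9776 (iv1 D30271)) (tt N20005 F48711) (tt N20003 (iv2 F111297)) (tt N18153 (iv3 F111285)) (tt N36055 (iv4 F111352)) (tt N31027 (iv5 F79802)) (tt N39382 D64268) (tt N20002 F111296))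
theorem Q19989 : ∀ i, i < 19989 → P i := stepQ 19988 Q19988 (allL N19988 (tt N39383 D64269) (tt N39384 D64270) (tt N20004 (iv2 F48706)) (tt N9801 F48659) (tt N30620 (iv4 F78982)) (tt N9776 (iv5 D30272)) (tt N9778 F48660) (tt N39385 D64271))
theorem Q19990 : ∀ i, i < 19990 → P i := stepQ 19989 Q19989 (allL N19989 (tt N20003 (iv1 F48705)) (tt N20002 F48710) (tt N20005 (iv2 F48709)) (tt N9802 F48661) (tt N39381 (iv4 F100059)) (tt N39385 (iv5 F100063)) (tt N20064 (iv6 F48787)) (tt N9776 (iv7 D30273)))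
theorem Q19991 : ∀ i, i < 19991 → P i := stepQ 19990 Q19990 (allL N19990 (tt N18264 F48664) (tt N18262 F48665) (tt N18307 F48662) (tt N30337 (iv3 F78344)) (tt N9780 (iv4 D30274)) (tt N39386 D64272) (tt N39387 D64273) (tt N14940 F48663))
theorem Q19992 : ∀ i, i < 19992 → P i := stepQ 19991 Q19991 (allL N19991 (tt N20192 F163996) (tt N39388 D64275) (tt N19979 F48666) (tt N14952 F48667) (tt N39387 (iv4 F100070)) (tt N19991 F48668) (tt N9780 (iv6 D30275)) (tt N32226 (iv7 F82569)))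
theorem Q19993 : ∀ i, i < 19993 → P i := stepQ 19992 Q19992 (allL N19992 (tt N10146 F48670) (tt N10149 F48671) (tt N19865 F48669) (tt N39389 D64276) (tt N9781 (iv4 D30276)) (tt N36692 (iv5 F95039)) (tt N39390 D64277) (tt N20050 (iv7 F48764)))
theorem Q19994 : ∀ i, i < 19994 → P i := stepQ 19993 Q19993 (allL N19993 (tt N20340 F111255) (tt N30231 (iv0 F78221)) (tt N19866 F48672) (tt N9786 F48673) (tt N39390 (iv4 F100075)) (tt N15078 F48674) (tt N9781 (iv6 D30277)) (tt N39391 D64278))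
theorem Q19995 : ∀ i, i < 19995 → P i := stepQ 19994 Q19994 (allL N19994 (tt N9782 (iv1 D30278)) (tt N15075 F48675) (tt N10164 F48679) (tt N16598 F48680) (tt N10143 F48677) (tt N22613 (iv5 F53440)) (tt N9812 (iv6 F48678)) (tt N10161 F48676))
theorem Q19996 : ∀ i, i < 19996 → P i := stepQ 19995 Q19995 (allL N19995 (tt N10164 (iv1 F48686)) (tt N10161 F48687) (tt N15075 F48681) (tt N9789 F48682) (tt N15075 F48683) (tt N14943 F48684) (tt N19544 F48685) (tt N9782 (iv7 D30279)))
theorem Q19997 : ∀ i, i < 19997 → P i := stepQ 19996 Q19996 (allL N19996 (tt N18260 F48690) (tt N18258 F48691) (tt N18284 F48688) (tt N39392 D64279) (tt N9783 (iv4 D30280)) (tt N36097 (iv5 F93950)) (tt N39393 D64280) (tt N18285 F48689))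
theorem Q19998 : ∀ i, i < 19998 → P i := stepQ 19997 Q19997 (allL N19997 (tt N39394 D64281) (tt N39395 D64282) (tt N19980 F48692) (tt N15091 F48693) (tt N39393 (iv4 F100087)) (tt N16222 F48694) (tt N9783 (iv6 D30281)) (tt N39396 D64283))
theorem Q19999 : ∀ i, i < 19999 → P i := stepQ 19998 Q19998 (allL N19998 (tt N18258 F48697) (tt N18260 (iv0 F48698)) (tt N18285 F48695) (tt N39397 D64284) (tt N9784 (iv4 D30282)) (tt N36096 (iv5 F93943)) (tt N39398 D64285) (tt N18284 F48696))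
theorem Q20000 : ∀ i, i < 20000 → P i := stepQ 19999 Q19999 (allL N19999 (tt N19381 F48702) (tt N39399 D64286) (tt N19981 F48699) (tt N16662 F48700) (tt N39398 (iv4 F100105)) (tt N19782 F48701) (tt N9784 (iv6 D30283)) (tt N39400 D64287))
theorem Q20001 : ∀ i, i < 20001 → P i := stepQ 20000 Q20000 (allL N20000 (tt N39401 D64288) (tt N39402 D64289) (tt N39403 D64290) (tt N9785 (iv3 D30284)) (tt N39389 (iv4 F100073)) (tt N36157 (iv5 F94021)) (tt N39404 D64291) (tt N39133 (iv7 F99469)))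
theorem Q20002 : ∀ i, i < 20002 → P i := stepQ 20001 Q20001 (allL N20001 (tt N36058 (iv1 F111274)) (tt N33485 (iv0 F111240)) (tt N19985 F48703) (tt N39404 (iv3 F100119)) (tt N9786 F48704) (tt N39405 D64294) (tt N9785 (iv6 D30285)) (tt N39406 D64295))
theorem Q20003 : ∀ i, i < 20003 → P i := stepQ 20002 Q20002 (allL N20002 (tt N19989 (iv1 F48710)) (tt N9786 (iv0 D30286)) (tt N19986 (iv2 F111295)) (tt N15096 F111268) (tt N39407 D64298) (tt N33065 F84019) (tt N37246 (iv6 F95704)) (tt N19987 (iv7 F111296)))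
theorem Q20004 : ∀ i, i < 20004 → P i := stepQ 20003 Q20003 (allL N20003 (tt N9786 (iv1 D30287)) (tt N19989 F48705) (tt N19987 F111297) (tt N16669 (iv3 F111299)) (tt N39408 D64301) (tt N33064 (iv5 F84017)) (tt N39409 D64302) (tt N19986 F111298))
theorem Q20005 : ∀ i, i < 20005 → P i := stepQ 20004 Q20004 (allL N20004 (tt N39410 D64303) (tt N39411 D64304) (tt N19988 F48706) (tt N15078 F48707) (tt N39412 D64305) (tt N9786 (iv5 D30288)) (tt N9788 F48708) (tt N39413 D64306))
theorem Q20006 : ∀ i, i < 20006 → P i := stepQ 20005 Q20005 (allL N20005 (tt N19987 (iv1 F48711)) (tt N19986 F48712) (tt N19989 F48709) (tt N39391 (iv3 F100077)) (tt N39406 (iv4 F100123)) (tt N39413 (iv5 F100134)) (tt N39135 (iv6 F99474)) (tt N9786 (iv7 D30289)))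
theorem Q20007 : ∀ i, i < 20007 → P i := stepQ 20006 Q20006 (allL N20006 (tt N14769 F48715) (tt N18281 (iv0 F48716)) (tt N15159 F48713) (tt N31242 (iv3 F80256)) (tt N9787 (iv4 D30290)) (tt N30442 F78564) (tt N20065 (iv6 F48790)) (tt N18244 F48714))
theorem Q20008 : ∀ i, i < 20008 → P i := stepQ 20007 Q20007 (allL N20007 (tt N11065 F48720) (tt N11071 (iv0 F48721)) (tt N18903 F48717) (tt N9877 F48718) (tt N39414 D64307) (tt N9787 (iv5 D30291)) (tt N30247 F78245) (tt N19695 F48719))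
theorem Q20009 : ∀ i, i < 20009 → P i := stepQ 20008 Q20008 (allL N20008 (tt N15267 F48724) (tt N15294 F48725) (tt N15291 F48722) (tt N39415 D64308) (tt N9788 (iv4 D30292)) (tt N39416 D64309) (tt N39412 (iv6 F100131)) (tt N15290 F48723))
theorem Q20010 : ∀ i, i < 20010 → P i := stepQ 20009 Q20009 (allL N20009 (tt N39417 D64310) (tt N39418 D64311) (tt N39419 D64312) (tt N9790 (iv3 D30293)) (tt N33067 (iv4 F84025)) (tt N33312 F326903) (tt N39420 D64314) (tt N39116 (iv7 F99431)))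
theorem Q20011 : ∀ i, i < 20011 → P i := stepQ 20010 Q20010 (allL N20010 (tt N19896 F48726) (tt N19900 F48727) (tt N20148 F48874) (tt N33312 (iv3 F326001)) (tt N33338 F325030) (tt N9790 (iv5 D30294)) (tt N36948 (iv6 F326002)) (tt N20147 F48871))
theorem Q20012 : ∀ i, i < 20012 → P i := stepQ 20011 Q20011 (allL N20011 (tt N39421 D64316) (tt N39422 D64317) (tt N31100 (iv2 F79924)) (tt N39420 (iv3 F100147)) (tt N9791 F48728) (tt N39423 D64318) (tt N9790 (iv6 D30295)) (tt N39424 D64319))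
theorem Q20013 : ∀ i, i < 20013 → P i := stepQ 20012 Q20012 (allL N20012 (tt N31101 F79932) (tt N9791 (iv0 D30296)) (tt N31098 (iv2 F99753)) (tt N39425 D64320) (tt N39426 D64321) (tt N31143 (iv5 F79995)) (tt N20198 F48905) (tt N31099 F99755))
theorem Q20014 : ∀ i, i < 20014 → P i := stepQ 20013 Q20013 (allL N20013 (tt N9791 (iv1 D30297)) (tt N31101 F79931) (tt N31099 F99752) (tt N39369 (iv3 F103655)) (tt N39427 D64323) (tt N31176 (iv5 F80050)) (tt N39263 (iv6 F99735)) (tt N31098 (iv7 F99750)))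
theorem Q20015 : ∀ i, i < 20015 → P i := stepQ 20014 Q20014 (allL N20014 (tt N31099 (iv1 F79923)) (tt N31098 F79930) (tt N31101 (iv2 F79926)) (tt N33072 (iv3 F84037)) (tt N39424 (iv4 F100149)) (tt N31038 F79814) (tt N38979 (iv6 F99127)) (tt N9791 (iv7 D30298)))
theorem Q20016 : ∀ i, i < 20016 → P i := stepQ 20015 Q20015 (allL N20015 (tt N39428 D64324) (tt N39429 D64325) (tt N39430 D64326) (tt N9792 (iv3 D30299)) (tt N9958 F48729) (tt N39431 D64327) (tt N39432 D64328) (tt N31102 (iv7 F79934)))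
theorem Q20017 : ∀ i, i < 20017 → P i := stepQ 20016 Q20016 (allL N20016 (tt N19900 F48730) (tt N19896 F48731) (tt N20147 F48870) (tt N39431 (iv3 F100286)) (tt N36036 (iv4 F93841)) (tt N9792 (iv5 D30300)) (tt N39433 D64329) (tt N20148 (iv7 F48873)))
theorem Q20018 : ∀ i, i < 20018 → P i := stepQ 20017 Q20017 (allL N20017 (tt N39434 D64330) (tt N39435 D64331) (tt N38978 (iv2 F99123)) (tt N39432 (iv3 F100287)) (tt N9793 F48732) (tt N39436 D64332) (tt N9792 (iv6 D30301)) (tt N39285 (iv7 F99856)))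
theorem Q20019 : ∀ i, i < 20019 → P i := stepQ 20018 Q20018 (allL N20018 (tt N39437 D64333) (tt N39438 D64334) (tt N39439 D64335) (tt N9794 (iv3 D30303)) (tt N21014 (iv4 F50029)) (tt N39440 D64336) (tt N39441 D64337) (tt N39119 (iv7 F99437)))
theorem Q20020 : ∀ i, i < 20020 → P i := stepQ 20019 Q20019 (allL N20019 (tt N19885 F48735) (tt N19891 F48736) (tt N20104 F48832) (tt N39440 (iv3 F100291)) (tt N36096 (iv4 F93944)) (tt N9794 (iv5 D30304)) (tt N39442 D64338) (tt N20103 F48828))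
theorem Q20021 : ∀ i, i < 20021 → P i := stepQ 20020 Q20020 (allL N20020 (tt N39426 (iv1 F169537)) (tt N39427 (iv0 F100150)) (tt N39118 (iv2 F99434)) (tt N39441 (iv3 F100292)) (tt N21013 (iv4 F50027)) (tt N39443 D64340) (tt N9794 (iv6 D30305)) (tt N39444 D64341))
theorem Q20022 : ∀ i, i < 20022 → P i := stepQ 20021 Q20021 (allL N20021 (tt N39445 D64342) (tt N39446 D64343) (tt N39447 D64344) (tt N9795 (iv3 D30306)) (tt N33261 (iv4 F84346)) (tt N39448 D64345) (tt N39449 D64346) (tt N39117 (iv7 F99433)))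
theorem Q20023 : ∀ i, i < 20023 → P i := stepQ 20022 Q20022 (allL N20022 (tt N14768 (iv1 F48741)) (tt N15438 F48739) (tt N15150 F48737) (tt N18295 (iv3 F48740)) (tt N9795 (iv4 D30307)) (tt N30445 (iv5 F78573)) (tt N39450 D64347) (tt N18277 F48738))
theorem Q20024 : ∀ i, i < 20024 → P i := stepQ 20023 Q20023 (allL N20023 (tt N19891 F48742) (tt N19885 F48743) (tt N20103 F48827) (tt N39448 (iv3 F100294)) (tt N36097 (iv4 F93951)) (tt N9795 (iv5 D30308)) (tt N39451 D64348) (tt N20104 (iv7 F48830)))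
theorem Q20025 : ∀ i, i < 20025 → P i := stepQ 20024 Q20024 (allL N20024 (tt N39091 F99369) (tt N28913 F329000) (tt N39120 (iv2 F99438)) (tt N39449 (iv3 F100295)) (tt N39450 (iv4 F100298)) (tt N39452 D64349) (tt N9795 (iv6 D30309)) (tt N39283 (iv7 F216993)))
theorem Q20026 : ∀ i, i < 20026 → P i := stepQ 20025 Q20025 (allL N20025 (tt N39138 (iv1 F99480)) (tt N9796 (iv0 D30310)) (tt N39137 (iv2 F106601)) (tt N39453 D64352) (tt N39454 D64353) (tt N39455 D64354) (tt N39456 D64355) (tt N39136 (iv7 F106592)))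
theorem Q20027 : ∀ i, i < 20027 → P i := stepQ 20026 Q20026 (allL N20026 (tt N9796 (iv1 D30311)) (tt N39138 F99482) (tt N39136 (iv2 F106591)) (tt N39457 D64357) (tt N39458 D64358) (tt N39459 D64359) (tt N39460 D64360) (tt N39137 (iv7 F106603)))
theorem Q20028 : ∀ i, i < 20028 → P i := stepQ 20027 Q20027 (allL N20027 (tt N39137 (iv1 F99481)) (tt N39136 F99477) (tt N9796 (iv2 D30312)) (tt N39123 (iv3 F99441)) (tt N39375 (iv4 F100052)) (tt N39461 D64361) (tt N39462 D64362) (tt N39138 (iv7 F99479)))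
theorem Q20029 : ∀ i, i < 20029 → P i := stepQ 20028 Q20028 (allL N20028 (tt N39463 D64363) (tt N39464 D64364) (tt N39461 (iv2 F100307)) (tt N9797 F48744) (tt N32493 (iv4 F82951)) (tt N9796 (iv5 D30313)) (tt N39465 D64365) (tt N39139 (iv7 F99484)))
theorem Q20030 : ∀ i, i < 20030 → P i := stepQ 20029 Q20029 (allL N20029 (tt N39466 D64366) (tt N39467 D64367) (tt N39462 (iv2 F100308)) (tt N9798 F48745) (tt N39377 (iv4 F100056)) (tt N39468 D64368) (tt N9796 (iv6 D30314)) (tt N39469 D64369))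
theorem Q20031 : ∀ i, i < 20031 → P i := stepQ 20030 Q20030 (allL N20030 (tt N9821 (iv1 F48747)) (tt N9797 (iv0 D30315)) (tt N39125 F99451) (tt N39470 D64370) (tt N38649 (iv4 F98531)) (tt N9832 F48746) (tt N39471 D64371) (tt N31357 (iv7 F80502)))
theorem Q20032 : ∀ i, i < 20032 → P i := stepQ 20031 Q20031 (allL N20031 (tt N9797 (iv1 D30316)) (tt N9821 F48748) (tt N31357 (iv2 F80501)) (tt N39472 D64372) (tt N39386 (iv4 F100065)) (tt N9833 F48749) (tt N39473 D64373) (tt N39125 (iv7 F99453)))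
theorem Q20033 : ∀ i, i < 20033 → P i := stepQ 20032 Q20032 (allL N20032 (tt N39474 D64374) (tt N39475 D64375) (tt N39126 (iv2 F99454)) (tt N39465 (iv3 F100309)) (tt N36160 (iv4 F94024)) (tt N39476 D64376) (tt N9797 (iv6 D30317)) (tt N39477 D64377))
theorem Q20034 : ∀ i, i < 20034 → P i := stepQ 20033 Q20033 (allL N20033 (tt N39130 (iv1 F99462)) (tt N9798 (iv0 D30318)) (tt N39127 (iv2 F111373)) (tt N39478 D64379) (tt N31477 (iv4 F111282)) (tt N39479 D64381) (tt N28890 F328180) (tt N39128 (iv7 F111284)))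
theorem Q20035 : ∀ i, i < 20035 → P i := stepQ 20034 Q20034 (allL N20034 (tt N9798 (iv1 D30319)) (tt N39130 F99461) (tt N39128 (iv2 F111283)) (tt N39480 D64383) (tt N39481 D64384) (tt N39482 D64385) (tt N39483 D64386) (tt N39127 (iv7 F111374)))
theorem Q20036 : ∀ i, i < 20036 → P i := stepQ 20035 Q20035 (allL N20035 (tt N39484 D64387) (tt N39485 D64388) (tt N39129 (iv2 F99456)) (tt N39468 (iv3 F100310)) (tt N39486 D64389) (tt N9798 (iv5 D30320)) (tt N39476 (iv6 F100314)) (tt N39487 D64390))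
theorem Q20037 : ∀ i, i < 20037 → P i := stepQ 20036 Q20036 (allL N20036 (tt N39128 (iv1 F99455)) (tt N39127 F99460) (tt N39130 (iv2 F99457)) (tt N39469 (iv3 F100311)) (tt N9802 F48750) (tt N39487 (iv5 F100319)) (tt N39145 (iv6 F99493)) (tt N9798 (iv7 D30321)))
theorem Q20038 : ∀ i, i < 20038 → P i := stepQ 20037 Q20037 (allL N20037 (tt N39488 D64396) (tt N36031 (iv0 F111425)) (tt N33253 (iv2 F111197)) (tt N39489 D64398) (tt N9799 (iv4 D30324)) (tt N39490 D64399) (tt N39278 (iv6 F99823)) (tt N39131 (iv7 F99847)))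
theorem Q20039 : ∀ i, i < 20039 → P i := stepQ 20038 Q20038 (allL N20038 (tt N15087 F48752) (tt N16612 F48754) (tt N16610 F99838) (tt N19873 (iv3 F111221)) (tt N39491 D64400) (tt N9799 (iv5 D30325)) (tt N39492 D64401) (tt N16609 F99839))
theorem Q20040 : ∀ i, i < 20040 → P i := stepQ 20039 Q20039 (allL N20039 (tt N36031 (iv1 F111426)) (tt N39488 F100322) (tt N39131 (iv2 F99851)) (tt N34041 F322305) (tt N9800 (iv4 D30328)) (tt N39493 D64409) (tt N39494 D64410) (tt N33253 F111203))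
theorem Q20041 : ∀ i, i < 20041 → P i := stepQ 20040 Q20040 (allL N20040 (tt N20194 F48899) (tt N20198 F99758) (tt N39132 F99829) (tt N9973 (iv3 F111213)) (tt N39494 (iv4 F100330)) (tt N39280 (iv5 F99825)) (tt N9800 (iv6 D30330)) (tt N39280 (iv7 F99826)))
theorem Q20042 : ∀ i, i < 20042 → P i := stepQ 20041 Q20041 (allL N20041 (tt N22638 (iv1 F53504)) (tt N9801 (iv0 D30331)) (tt N22636 F99943) (tt N33097 (iv3 F102073)) (tt N39495 D64413) (tt N33097 (iv5 F84067)) (tt N39496 D64414) (tt N22637 (iv7 F99942)))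
theorem Q20043 : ∀ i, i < 20043 → P i := stepQ 20042 Q20042 (allL N20042 (tt N9801 (iv1 D30332)) (tt N22638 F53502) (tt N22637 (iv2 F99944)) (tt N9909 (iv3 F101986)) (tt N39497 D64416) (tt N22721 F101972) (tt N10054 (iv6 F101988)) (tt N22636 (iv7 F99939)))
theorem Q20044 : ∀ i, i < 20044 → P i := stepQ 20043 Q20043 (allL N20043 (tt N39498 D64417) (tt N39499 D64418) (tt N22635 (iv2 F53495)) (tt N39500 D64419) (tt N9801 (iv4 D30333)) (tt N39501 D64420) (tt N9804 F48757) (tt N39502 D64421))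
theorem Q20045 : ∀ i, i < 20045 → P i := stepQ 20044 Q20044 (allL N20044 (tt N22637 (iv1 F53497)) (tt N22636 F53501) (tt N22638 (iv2 F53499)) (tt N39385 (iv3 F100062)) (tt N39502 (iv4 F100337)) (tt N9802 F48758) (tt N22631 (iv6 F53490)) (tt N9801 (iv7 D30334)))
theorem Q20046 : ∀ i, i < 20046 → P i := stepQ 20045 Q20045 (allL N20045 (tt N30581 (iv1 F78933)) (tt N30597 (iv0 F78961)) (tt N39039 (iv2 F99217)) (tt N25114 F316105) (tt N9803 (iv4 D30335)) (tt N39503 D64423) (tt N20510 (iv6 F49364)) (tt N18988 F48759))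
theorem Q20047 : ∀ i, i < 20047 → P i := stepQ 20046 Q20046 (allL N20046 (tt N9804 (iv1 D30336)) (tt N22594 F53398) (tt N22626 (iv2 F53480)) (tt N39504 D64424) (tt N30579 (iv4 F78924)) (tt N39505 D64425) (tt N39506 D64426) (tt N22627 (iv7 F53482)))
theorem Q20048 : ∀ i, i < 20048 → P i := stepQ 20047 Q20047 (allL N20047 (tt N39507 D64427) (tt N39508 D64428) (tt N39509 D64429) (tt N9804 (iv3 D30337)) (tt N30619 (iv4 F78980)) (tt N11076 F96861) (tt N39500 (iv6 F100336)) (tt N20048 (iv7 F96863)))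
theorem Q20049 : ∀ i, i < 20049 → P i := stepQ 20048 Q20048 (allL N20048 (tt N39510 D64430) (tt N39511 D64431) (tt N22634 (iv2 F53494)) (tt N11076 F96862) (tt N39512 D64432) (tt N9804 (iv5 D30338)) (tt N39513 D64433) (tt N20047 F96863))
theorem Q20050 : ∀ i, i < 20050 → P i := stepQ 20049 Q20049 (allL N20049 (tt N32222 (iv1 F82556)) (tt N32221 F82555) (tt N20783 (iv2 F49605)) (tt N9926 F48760) (tt N36193 (iv4 F94068)) (tt N20049 F48761) (tt N9805 (iv6 D30339)) (tt N16172 F48762))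
theorem Q20051 : ∀ i, i < 20051 → P i := stepQ 20050 Q20050 (allL N20050 (tt N16820 F48765) (tt N16823 F48766) (tt N9810 F48763) (tt N39514 D64434) (tt N9806 (iv4 D30340)) (tt N36682 (iv5 F95018)) (tt N39515 D64435) (tt N19992 F48764))
theorem Q20052 : ∀ i, i < 20052 → P i := stepQ 20051 Q20051 (allL N20051 (tt N32327 (iv1 F82714)) (tt N18905 (iv0 F48769)) (tt N9811 F48767) (tt N19876 F48768) (tt N39515 (iv4 F100359)) (tt N35598 (iv5 F92948)) (tt N9806 (iv6 D30341)) (tt N32325 (iv7 F82705)))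
theorem Q20053 : ∀ i, i < 20053 → P i := stepQ 20052 Q20052 (allL N20052 (tt N39425 (iv1 F168365)) (tt N39516 D64437) (tt N32258 (iv2 F82622)) (tt N9932 F48770) (tt N33526 (iv4 F85050)) (tt N18067 F48771) (tt N9809 (iv6 D30342)) (tt N38191 (iv7 F97620)))
theorem Q20054 : ∀ i, i < 20054 → P i := stepQ 20053 Q20053 (allL N20053 (tt N39517 D64438) (tt N39518 D64439) (tt N39519 D64440) (tt N9810 (iv3 D30343)) (tt N9820 F48772) (tt N39520 D64441) (tt N39521 D64442) (tt N39113 (iv7 F99426)))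
theorem Q20055 : ∀ i, i < 20055 → P i := stepQ 20054 Q20054 (allL N20054 (tt N18644 F48773) (tt N20785 (iv0 F49611)) (tt N36682 F95019) (tt N39520 (iv3 F100362)) (tt N36681 (iv4 F95014)) (tt N9810 (iv5 D30344)) (tt N39522 D64443) (tt N36681 F95016))
theorem Q20056 : ∀ i, i < 20056 → P i := stepQ 20055 Q20055 (allL N20055 (tt N39523 D64444) (tt N35825 (iv0 F93333)) (tt N39515 (iv2 F100358)) (tt N39521 (iv3 F100363)) (tt N9811 F48774) (tt N39524 D64445) (tt N9810 (iv6 D30345)) (tt N39525 D64446))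
theorem Q20057 : ∀ i, i < 20057 → P i := stepQ 20056 Q20056 (allL N20056 (tt N32325 (iv1 F82704)) (tt N9811 (iv0 D30346)) (tt N32327 (iv2 F82710)) (tt N30246 (iv3 F162150)) (tt N33534 (iv4 F165827)) (tt N29497 F82702) (tt N38178 (iv6 F97598)) (tt N18905 (iv7 F82703)))
theorem Q20058 : ∀ i, i < 20058 → P i := stepQ 20057 Q20057 (allL N20057 (tt N39526 D64449) (tt N39527 D64450) (tt N35598 (iv2 F92946)) (tt N9825 F48775) (tt N35611 (iv4 F92984)) (tt N9811 (iv5 D30347)) (tt N9813 F48776) (tt N39528 D64451))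
theorem Q20059 : ∀ i, i < 20059 → P i := stepQ 20058 Q20058 (allL N20058 (tt N18905 (iv1 F48778)) (tt N32327 F82713) (tt N32325 F82707) (tt N9826 F48777) (tt N39525 (iv4 F100369)) (tt N39528 (iv5 F100377)) (tt N39115 (iv6 F99429)) (tt N9811 (iv7 D30348)))
theorem Q20060 : ∀ i, i < 20060 → P i := stepQ 20059 Q20059 (allL N20059 (tt N39529 D64452) (tt N39530 D64453) (tt N39531 D64454) (tt N9815 (iv3 D30349)) (tt N19877 F48779) (tt N36159 (iv5 F94023)) (tt N39532 D64455) (tt N19983 F48780))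
theorem Q20061 : ∀ i, i < 20061 → P i := stepQ 20060 Q20060 (allL N20060 (tt N33557 F85107) (tt N36085 (iv0 F166350)) (tt N39134 (iv2 F99470)) (tt N39532 (iv3 F100386)) (tt N9816 F48781) (tt N39533 D64457) (tt N9815 (iv6 D30350)) (tt N39534 D64458))
theorem Q20062 : ∀ i, i < 20062 → P i := stepQ 20061 Q20061 (allL N20061 (tt N39135 (iv1 F99476)) (tt N9816 (iv0 D30351)) (tt N32045 (iv2 F82153)) (tt N20426 F82154) (tt N39535 D64459) (tt N39536 D64460) (tt N39537 D64461) (tt N20472 F82155))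
theorem Q20063 : ∀ i, i < 20063 → P i := stepQ 20062 Q20062 (allL N20062 (tt N9816 (iv1 D30352)) (tt N39135 F99475) (tt N20472 F49333) (tt N15115 (iv3 F53447)) (tt N39538 D64462) (tt N16194 F48783) (tt N19378 (iv6 F48782)) (tt N32045 (iv7 F82151)))
theorem Q20064 : ∀ i, i < 20064 → P i := stepQ 20063 Q20063 (allL N20063 (tt N39539 D64463) (tt N39540 D64464) (tt N32292 (iv2 F82667)) (tt N15919 F48784) (tt N31339 (iv4 F80472)) (tt N9816 (iv5 D30353)) (tt N9818 F48785) (tt N39541 D64465))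
theorem Q20065 : ∀ i, i < 20065 → P i := stepQ 20064 Q20064 (allL N20064 (tt N20472 (iv1 F49335)) (tt N32045 F82152) (tt N39135 (iv2 F99472)) (tt N19881 F48786) (tt N39534 (iv4 F100388)) (tt N39541 (iv5 F100414)) (tt N19989 F48787) (tt N9816 (iv7 D30354)))
theorem Q20066 : ∀ i, i < 20066 → P i := stepQ 20065 Q20065 (allL N20065 (tt N15677 F48792) (tt N15439 (iv0 F48794)) (tt N15173 F48788) (tt N18298 F48789) (tt N9817 (iv4 D30355)) (tt N29849 (iv5 F77444)) (tt N20006 F48790) (tt N18229 F48791))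
theorem Q20067 : ∀ i, i < 20067 → P i := stepQ 20066 Q20066 (allL N20066 (tt N39123 (iv1 F99443)) (tt N9820 (iv0 D30356)) (tt N39122 (iv2 F182934)) (tt N39542 D64467) (tt N39543 D64468) (tt N39544 D64469) (tt N28916 (iv6 F365504)) (tt N39121 (iv7 F182938)))
theorem Q20068 : ∀ i, i < 20068 → P i := stepQ 20067 Q20067 (allL N20067 (tt N9820 (iv1 D30357)) (tt N39123 F99445) (tt N39121 (iv2 F182937)) (tt N39545 D64472) (tt N39546 D64473) (tt N39547 D64474) (tt N39548 D64475) (tt N39122 (iv7 F182935)))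
theorem Q20069 : ∀ i, i < 20069 → P i := stepQ 20068 Q20068 (allL N20068 (tt N39122 (iv1 F99444)) (tt N39121 F99440) (tt N9820 (iv2 D30358)) (tt N39138 (iv3 F99478)) (tt N39519 (iv4 F100361)) (tt N39549 D64476) (tt N39550 D64477) (tt N39123 (iv7 F99442)))
theorem Q20070 : ∀ i, i < 20070 → P i := stepQ 20069 Q20069 (allL N20069 (tt N39551 D64478) (tt N39552 D64479) (tt N39549 (iv2 F100419)) (tt N9821 F48795) (tt N39553 D64480) (tt N9820 (iv5 D30359)) (tt N39554 D64481) (tt N39124 (iv7 F99447)))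
theorem Q20071 : ∀ i, i < 20071 → P i := stepQ 20070 Q20070 (allL N20070 (tt N39555 D64482) (tt N39556 D64483) (tt N39550 (iv2 F100420)) (tt N9822 F48796) (tt N39521 (iv4 F100364)) (tt N39557 D64484) (tt N9820 (iv6 D30360)) (tt N39558 D64485))
theorem Q20072 : ∀ i, i < 20072 → P i := stepQ 20071 Q20071 (allL N20071 (tt N39559 D64486) (tt N39560 D64487) (tt N39141 (iv2 F99486)) (tt N39554 (iv3 F100421)) (tt N36158 (iv4 F94022)) (tt N39561 D64488) (tt N9821 (iv6 D30361)) (tt N39562 D64489))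
theorem Q20073 : ∀ i, i < 20073 → P i := stepQ 20072 Q20072 (allL N20072 (tt N39145 (iv1 F99501)) (tt N9822 (iv0 D30362)) (tt N39142 (iv2 F99499)) (tt N39563 D64490) (tt N39564 D64491) (tt N39565 D64492) (tt N39566 D64493) (tt N39143 F99500))
theorem Q20074 : ∀ i, i < 20074 → P i := stepQ 20073 Q20073 (allL N20073 (tt N9822 (iv1 D30363)) (tt N39145 F99494) (tt N39143 F99498) (tt N39567 D64494) (tt N21033 F99495) (tt N39568 D64495) (tt N37804 (iv6 F99496)) (tt N39142 (iv7 F99497)))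
theorem Q20075 : ∀ i, i < 20075 → P i := stepQ 20074 Q20074 (allL N20074 (tt N39569 D64496) (tt N39570 D64497) (tt N39144 (iv2 F99490)) (tt N39557 (iv3 F100422)) (tt N39571 D64498) (tt N9822 (iv5 D30364)) (tt N39561 (iv6 F100424)) (tt N39572 D64499))
theorem Q20076 : ∀ i, i < 20076 → P i := stepQ 20075 Q20075 (allL N20075 (tt N39143 (iv1 F99489)) (tt N39142 (iv0 F99488)) (tt N39145 (iv2 F99491)) (tt N39558 (iv3 F100423)) (tt N9826 F48797) (tt N39572 (iv5 F100432)) (tt N39130 (iv6 F99459)) (tt N9822 (iv7 D30365)))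
theorem Q20077 : ∀ i, i < 20077 → P i := stepQ 20076 Q20076 (allL N20076 (tt N39573 D64500) (tt N36072 (iv0 F93923)) (tt N39146 (iv2 F99505)) (tt N39574 D64501) (tt N9823 (iv4 D30366)) (tt N39575 D64502) (tt N39576 D64503) (tt N31144 (iv7 F79998)))
theorem Q20078 : ∀ i, i < 20078 → P i := stepQ 20077 Q20077 (allL N20077 (tt N39263 (iv1 F99733)) (tt N39262 F99732) (tt N39147 (iv2 F99508)) (tt N10020 F48798) (tt N39576 (iv4 F100435)) (tt N19420 F48799) (tt N9823 (iv6 D30367)) (tt N19419 F48800))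
theorem Q20079 : ∀ i, i < 20079 → P i := stepQ 20078 Q20078 (allL N20078 (tt N36072 (iv1 F99507)) (tt N39573 F100433) (tt N31144 (iv2 F79996)) (tt N39577 D64504) (tt N9824 (iv4 D30368)) (tt N39578 D64505) (tt N37802 (iv6 F96620)) (tt N39146 (iv7 F99506)))
theorem Q20080 : ∀ i, i < 20080 → P i := stepQ 20079 Q20079 (allL N20079 (tt N31800 (iv1 F81364)) (tt N9825 (iv0 D30369)) (tt N31798 (iv2 F99915)) (tt N10023 (iv3 F161302)) (tt N39579 D64507) (tt N39309 (iv5 F99890)) (tt N31235 (iv6 F161304)) (tt N31799 F99891))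
theorem Q20081 : ∀ i, i < 20081 → P i := stepQ 20080 Q20080 (allL N20080 (tt N9825 (iv1 D30370)) (tt N31800 F81357) (tt N31799 F99894) (tt N31855 (iv3 F161372)) (tt N39580 D64510) (tt N39176 (iv5 F99575)) (tt N31855 F99578) (tt N31798 (iv7 F99914)))
theorem Q20082 : ∀ i, i < 20082 → P i := stepQ 20081 Q20081 (allL N20081 (tt N39581 D64511) (tt N39582 D64512) (tt N31797 (iv2 F81349)) (tt N39583 D64513) (tt N9825 (iv4 D30371)) (tt N39584 D64514) (tt N9827 F48801) (tt N39585 D64515))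
theorem Q20083 : ∀ i, i < 20083 → P i := stepQ 20082 Q20082 (allL N20082 (tt N31799 (iv1 F81351)) (tt N31798 F81356) (tt N31800 (iv2 F81353)) (tt N39528 (iv3 F100376)) (tt N39585 (iv4 F100441)) (tt N9826 F48802) (tt N31806 (iv6 F81381)) (tt N9825 (iv7 D30372)))
theorem Q20084 : ∀ i, i < 20084 → P i := stepQ 20083 Q20083 (allL N20083 (tt N15542 (iv1 F48804)) (tt N9827 (iv0 D30373)) (tt N16284 (iv2 F48805)) (tt N39586 D64516) (tt N15861 F48803) (tt N39587 D64517) (tt N39588 D64518) (tt N31794 (iv7 F81339)))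
theorem Q20085 : ∀ i, i < 20085 → P i := stepQ 20084 Q20084 (allL N20084 (tt N9827 (iv1 D30374)) (tt N15542 F48806) (tt N31794 F81341) (tt N39589 D64519) (tt N14706 F48808) (tt N39590 D64520) (tt N39591 D64521) (tt N16284 F48807))
theorem Q20086 : ∀ i, i < 20086 → P i := stepQ 20085 Q20085 (allL N20085 (tt N39592 D64522) (tt N39593 D64523) (tt N39594 D64524) (tt N9827 (iv3 D30375)) (tt N35609 (iv4 F92981)) (tt N39595 D64525) (tt N39583 (iv6 F100440)) (tt N31802 (iv7 F81369)))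
theorem Q20087 : ∀ i, i < 20087 → P i := stepQ 20086 Q20086 (allL N20086 (tt N39596 D64526) (tt N35827 (iv0 F93335)) (tt N31796 (iv2 F81345)) (tt N39595 (iv3 F100459)) (tt N31335 (iv4 F80463)) (tt N9827 (iv5 D30376)) (tt N39597 D64527) (tt N31803 (iv7 F81371)))
theorem Q20088 : ∀ i, i < 20088 → P i := stepQ 20087 Q20087 (allL N20087 (tt N30280 (iv1 F102179)) (tt N33308 (iv0 F102184)) (tt N9831 F48809) (tt N32208 (iv3 F82536)) (tt N18326 F48810) (tt N38742 (iv5 F98727)) (tt N9828 (iv6 D30377)) (tt N39598 D64530))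
theorem Q20089 : ∀ i, i < 20089 → P i := stepQ 20088 Q20088 (allL N20088 (tt N39599 D64531) (tt N39600 D64532) (tt N39601 D64533) (tt N9829 (iv3 D30378)) (tt N9834 F48811) (tt N39602 D64534) (tt N39603 D64535) (tt N18327 F48812))
theorem Q20090 : ∀ i, i < 20090 → P i := stepQ 20089 Q20089 (allL N20089 (tt N33338 F325027) (tt N36036 (iv0 F93842)) (tt N18325 F48813) (tt N39602 (iv3 F100478)) (tt N19891 F48815) (tt N9829 (iv5 D30379)) (tt N39604 D64536) (tt N18328 F48814))
theorem Q20091 : ∀ i, i < 20091 → P i := stepQ 20090 Q20090 (allL N20090 (tt N39605 D64537) (tt N39606 D64538) (tt N18326 F48816) (tt N39603 (iv3 F100480)) (tt N9831 F48817) (tt N39607 D64539) (tt N9829 (iv6 D30380)) (tt N39608 D64540))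
theorem Q20092 : ∀ i, i < 20092 → P i := stepQ 20091 Q20091 (allL N20091 (tt N39598 (iv1 F100469)) (tt N9831 (iv0 D30381)) (tt N30280 (iv2 F102182)) (tt N30143 (iv3 F102187)) (tt N36099 (iv4 F102189)) (tt N39609 D64544) (tt N39610 D64545) (tt N33308 (iv7 F102181)))
theorem Q20093 : ∀ i, i < 20093 → P i := stepQ 20092 Q20092 (allL N20092 (tt N9831 (iv1 D30382)) (tt N39598 F100468) (tt N33308 (iv2 F102180)) (tt N29941 (iv3 F102171)) (tt N36100 (iv4 F165194)) (tt N39611 D64549) (tt N39612 D64550) (tt N30280 (iv7 F102183)))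
theorem Q20094 : ∀ i, i < 20094 → P i := stepQ 20093 Q20093 (allL N20093 (tt N19562 F48820) (tt N39613 D64551) (tt N38742 (iv2 F98724)) (tt N9842 F48818) (tt N36896 (iv4 F95320)) (tt N9831 (iv5 D30383)) (tt N18975 F48819) (tt N38237 (iv7 F97746)))
theorem Q20095 : ∀ i, i < 20095 → P i := stepQ 20094 Q20094 (allL N20094 (tt N33308 (iv1 F102185)) (tt N30280 (iv0 F102178)) (tt N39598 (iv2 F100464)) (tt N9843 F48821) (tt N39608 (iv4 F100487)) (tt N38237 (iv5 F97745)) (tt N39165 (iv6 F99553)) (tt N9831 (iv7 D30384)))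
theorem Q20096 : ∀ i, i < 20096 → P i := stepQ 20095 Q20095 (allL N20095 (tt N39614 D64552) (tt N39615 D64553) (tt N39616 D64554) (tt N9832 (iv3 D30385)) (tt N15797 F48822) (tt N39470 (iv5 F100312)) (tt N39617 D64555) (tt N31356 (iv7 F80500)))
theorem Q20097 : ∀ i, i < 20097 → P i := stepQ 20096 Q20096 (allL N20096 (tt N39210 (iv1 F100227)) (tt N39213 (iv0 F100219)) (tt N39152 (iv2 F99526)) (tt N39617 (iv3 F100502)) (tt N21007 (iv4 F50016)) (tt N39618 D64556) (tt N9832 (iv6 D30386)) (tt N39292 (iv7 F99866)))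
theorem Q20098 : ∀ i, i < 20098 → P i := stepQ 20097 Q20097 (allL N20097 (tt N39619 D64557) (tt N39620 D64558) (tt N39621 D64559) (tt N9833 (iv3 D30387)) (tt N31396 (iv4 F80586)) (tt N39472 (iv5 F100313)) (tt N39293 (iv6 F99867)) (tt N39151 (iv7 F99524)))
theorem Q20099 : ∀ i, i < 20099 → P i := stepQ 20098 Q20098 (allL N20098 (tt N39168 (iv1 F99558)) (tt N9834 (iv0 D30388)) (tt N39167 (iv2 F218811)) (tt N39622 D64561) (tt N39623 D64562) (tt N39463 (iv5 F114701)) (tt N39624 D64564) (tt N39166 (iv7 F218809)))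
theorem Q20100 : ∀ i, i < 20100 → P i := stepQ 20099 Q20099 (allL N20099 (tt N9834 (iv1 D30389)) (tt N39168 F99560) (tt N39166 (iv2 F218808)) (tt N39625 D64566) (tt N39626 D64567) (tt N39464 (iv5 F177028)) (tt N39295 F344823) (tt N39167 (iv7 F218812)))
theorem Q20101 : ∀ i, i < 20101 → P i := stepQ 20100 Q20100 (allL N20100 (tt N39167 (iv1 F99559)) (tt N39166 F99554) (tt N9834 (iv2 D30390)) (tt N39155 (iv3 F99529)) (tt N39601 (iv4 F100473)) (tt N39627 D64570) (tt N39628 D64571) (tt N39168 (iv7 F99557)))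
theorem Q20102 : ∀ i, i < 20102 → P i := stepQ 20101 Q20101 (allL N20101 (tt N39629 D64572) (tt N39630 D64573) (tt N39627 (iv2 F100508)) (tt N9835 F48823) (tt N39631 D64574) (tt N9834 (iv5 D30391)) (tt N39632 D64575) (tt N39169 (iv7 F99562)))
theorem Q20103 : ∀ i, i < 20103 → P i := stepQ 20102 Q20102 (allL N20102 (tt N39633 D64576) (tt N39634 D64577) (tt N39628 (iv2 F100509)) (tt N9836 F48824) (tt N39603 (iv4 F100481)) (tt N39635 D64578) (tt N9834 (iv6 D30392)) (tt N39636 D64579))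
theorem Q20104 : ∀ i, i < 20104 → P i := stepQ 20103 Q20103 (allL N20103 (tt N9848 (iv1 F48826)) (tt N9835 (iv0 D30393)) (tt N20023 (iv2 F48827)) (tt N39637 D64580) (tt N36042 (iv4 F93855)) (tt N19869 F48825) (tt N39638 D64581) (tt N20019 (iv7 F48828)))
theorem Q20105 : ∀ i, i < 20105 → P i := stepQ 20104 Q20104 (allL N20104 (tt N9835 (iv1 D30394)) (tt N9848 F48829) (tt N20019 (iv2 F48832)) (tt N39639 D64582) (tt N36045 (iv4 F93860)) (tt N19868 F48831) (tt N39640 D64583) (tt N20023 F48830))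
theorem Q20106 : ∀ i, i < 20106 → P i := stepQ 20105 Q20105 (allL N20105 (tt N39641 D64584) (tt N39642 D64585) (tt N39158 (iv2 F99537)) (tt N39632 (iv3 F100516)) (tt N36145 (iv4 F94007)) (tt N39643 D64586) (tt N9835 (iv6 D30395)) (tt N39644 D64587))
theorem Q20107 : ∀ i, i < 20107 → P i := stepQ 20106 Q20106 (allL N20106 (tt N39161 (iv1 F99545)) (tt N9836 (iv0 D30396)) (tt N16944 F328442) (tt N39645 D64589) (tt N31499 (iv4 F102076)) (tt N16934 (iv5 F328582)) (tt N39317 (iv6 F172080)) (tt N39159 (iv7 F103587)))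
theorem Q20108 : ∀ i, i < 20108 → P i := stepQ 20107 Q20107 (allL N20107 (tt N9836 (iv1 D30397)) (tt N39161 F99544) (tt N39159 (iv2 F103586)) (tt N20737 (iv3 F328847)) (tt N39646 D64595) (tt N16946 (iv5 F328583)) (tt N39647 D64597) (tt N16944 F328443))
theorem Q20109 : ∀ i, i < 20109 → P i := stepQ 20108 Q20108 (allL N20108 (tt N39648 D64598) (tt N21206 F328445) (tt N39160 (iv2 F99539)) (tt N39635 (iv3 F100517)) (tt N39649 D64600) (tt N9836 (iv5 D30398)) (tt N39643 (iv6 F100525)) (tt N39650 D64601))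
theorem Q20110 : ∀ i, i < 20110 → P i := stepQ 20109 Q20109 (allL N20109 (tt N39159 (iv1 F99538)) (tt N16944 (iv0 F328044)) (tt N39161 (iv2 F99540)) (tt N39636 (iv3 F100518)) (tt N9843 F48833) (tt N39650 (iv5 F100531)) (tt N39174 (iv6 F99570)) (tt N9836 (iv7 D30399)))
theorem Q20111 : ∀ i, i < 20111 → P i := stepQ 20110 Q20110 (allL N20110 (tt N14689 F48838) (tt N19781 (iv0 F48840)) (tt N15932 F48834) (tt N15073 F48835) (tt N9839 F48836) (tt N19692 F48839) (tt N9838 (iv6 D30400)) (tt N15068 F48837))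
theorem Q20112 : ∀ i, i < 20112 → P i := stepQ 20111 Q20111 (allL N20111 (tt N33677 F328416) (tt N9858 F100005) (tt N33332 (iv2 F101961)) (tt N39651 D64607) (tt N9840 (iv4 D30403)) (tt N33707 (iv5 F328815)) (tt N39322 (iv6 F100010)) (tt N39162 (iv7 F99999)))
theorem Q20113 : ∀ i, i < 20113 → P i := stepQ 20112 Q20112 (allL N20112 (tt N39652 D64609) (tt N38976 (iv0 F99117)) (tt N33333 (iv2 F101964)) (tt N33138 (iv3 F102016)) (tt N33668 (iv4 F326889)) (tt N9840 (iv5 D30404)) (tt N33138 (iv6 F84120)) (tt N39012 F99994))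
theorem Q20114 : ∀ i, i < 20114 → P i := stepQ 20113 Q20113 (allL N20113 (tt N9858 F97744) (tt N33677 F328417) (tt N39162 (iv2 F100003)) (tt N39653 D64617) (tt N9841 (iv4 D30408)) (tt N33706 (iv5 F328816)) (tt N39654 D64619) (tt N33332 F101969))
theorem Q20115 : ∀ i, i < 20115 → P i := stepQ 20114 Q20114 (allL N20114 (tt N38976 F99513) (tt N39652 F100536) (tt N39012 (iv2 F99991)) (tt N10058 (iv3 F101974)) (tt N33669 (iv4 F326890)) (tt N9841 (iv5 D30409)) (tt N19774 (iv6 F101976)) (tt N33333 F101970))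
theorem Q20116 : ∀ i, i < 20116 → P i := stepQ 20115 Q20115 (allL N20115 (tt N38846 F98868) (tt N38848 F99784) (tt N39163 F99931) (tt N10059 (iv3 F101975)) (tt N39654 (iv4 F100541)) (tt N38138 (iv5 F101980)) (tt N9841 (iv6 D30410)) (tt N39321 (iv7 F99929)))
theorem Q20117 : ∀ i, i < 20117 → P i := stepQ 20116 Q20116 (allL N20116 (tt N32413 (iv1 F327033)) (tt N39655 D64621) (tt N16326 (iv2 F327031)) (tt N39656 D64622) (tt N9842 (iv4 D30411)) (tt N16323 (iv5 F327035)) (tt N18976 F48844) (tt N16331 (iv7 F327037)))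
theorem Q20118 : ∀ i, i < 20118 → P i := stepQ 20117 Q20117 (allL N20117 (tt N30305 F82462) (tt N30309 F99521) (tt N9846 F48846) (tt N29927 (iv3 F77621)) (tt N36676 (iv4 F95010)) (tt N29931 (iv5 F77632)) (tt N9844 (iv6 D30413)) (tt N39657 D64624))
theorem Q20119 : ∀ i, i < 20119 → P i := stepQ 20118 Q20118 (allL N20118 (tt N39658 D64625) (tt N39659 D64626) (tt N39660 D64627) (tt N9845 (iv3 D30414)) (tt N9847 F48847) (tt N39661 D64628) (tt N14392 F329625) (tt N36671 (iv7 F94997)))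
theorem Q20120 : ∀ i, i < 20120 → P i := stepQ 20119 Q20119 (allL N20119 (tt N33517 (iv1 F85025)) (tt N33513 (iv0 F85014)) (tt N36675 (iv2 F95006)) (tt N39661 (iv3 F100548)) (tt N36672 (iv4 F94999)) (tt N9845 (iv5 D30415)) (tt N39662 D64630) (tt N36672 (iv7 F94998)))
theorem Q20121 : ∀ i, i < 20121 → P i := stepQ 20120 Q20120 (allL N20120 (tt N39663 D64631) (tt N39664 D64632) (tt N36676 (iv2 F95009)) (tt N14392 F329624) (tt N9846 F48848) (tt N39665 D64633) (tt N9845 (iv6 D30416)) (tt N39666 D64634))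
theorem Q20122 : ∀ i, i < 20122 → P i := stepQ 20121 Q20121 (allL N20121 (tt N39657 (iv1 F100546)) (tt N9846 (iv0 D30417)) (tt N30305 (iv2 F163582)) (tt N30293 (iv3 F163600)) (tt N36195 (iv4 F163598)) (tt N29946 F82456) (tt N39667 D64638) (tt N30309 (iv7 F163585)))
theorem Q20123 : ∀ i, i < 20123 → P i := stepQ 20122 Q20122 (allL N20122 (tt N9846 (iv1 D30418)) (tt N39657 F100545) (tt N30309 (iv2 F163584)) (tt N33340 (iv3 F163579)) (tt N36196 (iv4 F163578)) (tt N29947 (iv5 F163593)) (tt N32211 (iv6 F163581)) (tt N30305 (iv7 F163583)))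
theorem Q20124 : ∀ i, i < 20124 → P i := stepQ 20123 Q20123 (allL N20123 (tt N30309 F99519) (tt N30305 (iv0 F82119)) (tt N39657 (iv2 F100544)) (tt N9854 F48849) (tt N39666 (iv4 F100551)) (tt N30171 (iv5 F78143)) (tt N39150 (iv6 F99518)) (tt N9846 (iv7 D30419)))
theorem Q20125 : ∀ i, i < 20125 → P i := stepQ 20124 Q20124 (allL N20124 (tt N39155 (iv1 F99531)) (tt N9847 (iv0 D30420)) (tt N39154 (iv2 F102543)) (tt N39668 D64645) (tt N39669 D64646) (tt N39551 F221252) (tt N39310 F326615) (tt N39153 (iv7 F102547)))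
theorem Q20126 : ∀ i, i < 20126 → P i := stepQ 20125 Q20125 (allL N20125 (tt N9847 (iv1 D30421)) (tt N39155 F99533) (tt N39153 (iv2 F102546)) (tt N39670 D64650) (tt N39671 D64651) (tt N39552 F221259) (tt N39672 D64653) (tt N39154 (iv7 F102545)))
theorem Q20127 : ∀ i, i < 20127 → P i := stepQ 20126 Q20126 (allL N20126 (tt N39154 (iv1 F99532)) (tt N39153 F99528) (tt N9847 (iv2 D30422)) (tt N39168 (iv3 F99555)) (tt N39660 (iv4 F100547)) (tt N39673 D64654) (tt N14130 F329049) (tt N39155 (iv7 F99530)))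
theorem Q20128 : ∀ i, i < 20128 → P i := stepQ 20127 Q20127 (allL N20127 (tt N39674 D64656) (tt N39675 D64657) (tt N39673 (iv2 F100558)) (tt N9848 F48850) (tt N39676 D64658) (tt N9847 (iv5 D30423)) (tt N14393 F329626) (tt N39156 (iv7 F99535)))
theorem Q20129 : ∀ i, i < 20129 → P i := stepQ 20128 Q20128 (allL N20128 (tt N39677 D64664) (tt N39678 D64665) (tt N39171 (iv2 F99565)) (tt N14393 (iv3 F329581)) (tt N36137 (iv4 F94004)) (tt N14391 F329339) (tt N9848 (iv6 D30425)) (tt N39679 D64667))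
theorem Q20130 : ∀ i, i < 20130 → P i := stepQ 20129 Q20129 (allL N20129 (tt N39174 (iv1 F99573)) (tt N9849 (iv0 D30426)) (tt N39172 (iv2 F166467)) (tt N39680 D64669) (tt N39681 D64670) (tt N39682 D64671) (tt N39683 D64672) (tt N39173 (iv7 F166481)))
theorem Q20131 : ∀ i, i < 20131 → P i := stepQ 20130 Q20130 (allL N20130 (tt N9849 (iv1 D30427)) (tt N39174 F99572) (tt N39173 (iv2 F166479)) (tt N39684 D64674) (tt N31511 (iv4 F161378)) (tt N39685 D64676) (tt N39302 (iv6 F167116)) (tt N39172 (iv7 F166468)))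
theorem Q20132 : ∀ i, i < 20132 → P i := stepQ 20131 Q20131 (allL N20131 (tt N39173 (iv1 F99566)) (tt N39172 F99571) (tt N39174 (iv2 F99568)) (tt N14126 (iv3 F329013)) (tt N9854 F48852) (tt N14125 F328572) (tt N39161 (iv6 F99542)) (tt N9849 (iv7 D30429)))
theorem Q20133 : ∀ i, i < 20133 → P i := stepQ 20132 Q20132 (allL N20132 (tt N29358 F328539) (tt N9862 F166059) (tt N39175 (iv2 F99912)) (tt N39686 D64689) (tt N9851 (iv4 D30432)) (tt N39687 D64690) (tt N39688 D64691) (tt N33368 F161294))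
theorem Q20134 : ∀ i, i < 20134 → P i := stepQ 20133 Q20133 (allL N20133 (tt N39215 F99648) (tt N39689 D64692) (tt N39176 F99893) (tt N10081 (iv3 F161300)) (tt N39688 (iv4 F100571)) (tt N31799 F81352) (tt N9851 (iv6 D30434)) (tt N39309 (iv7 F99889)))
theorem Q20135 : ∀ i, i < 20135 → P i := stepQ 20134 Q20134 (allL N20134 (tt N9862 F166060) (tt N29358 F328538) (tt N33368 (iv2 F161289)) (tt N28974 (iv3 F328969)) (tt N9852 (iv4 D30437)) (tt N39690 D64698) (tt N39306 (iv6 F99885)) (tt N39175 (iv7 F99908)))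
theorem Q20136 : ∀ i, i < 20136 → P i := stepQ 20135 Q20135 (allL N20135 (tt N22612 (iv1 F53439)) (tt N9853 (iv0 D30440)) (tt N22610 (iv2 F99844)) (tt N9885 (iv3 F111230)) (tt N39691 D64700) (tt N19939 F48856) (tt N9972 F111219) (tt N22611 F99840))
theorem Q20137 : ∀ i, i < 20137 → P i := stepQ 20136 Q20136 (allL N20136 (tt N9853 (iv1 D30441)) (tt N22612 F53438) (tt N22611 F99845) (tt N33156 (iv3 F111234)) (tt N39692 D64702) (tt N19938 (iv5 F48857)) (tt N39693 D64703) (tt N22610 F99843))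
theorem Q20138 : ∀ i, i < 20138 → P i := stepQ 20137 Q20137 (allL N20137 (tt N39694 D64704) (tt N39695 D64705) (tt N22609 (iv2 F53431)) (tt N39696 D64706) (tt N9853 (iv4 D30442)) (tt N39697 D64707) (tt N22591 (iv6 F53388)) (tt N39698 D64708))
theorem Q20139 : ∀ i, i < 20139 → P i := stepQ 20138 Q20138 (allL N20138 (tt N22611 (iv1 F53434)) (tt N22610 F53437) (tt N22612 (iv2 F53435)) (tt N30171 (iv3 F78142)) (tt N39698 (iv4 F100586)) (tt N9854 F48858) (tt N22623 (iv6 F53470)) (tt N9853 (iv7 D30443)))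
theorem Q20140 : ∀ i, i < 20140 → P i := stepQ 20139 Q20139 (allL N20139 (tt N29367 F329343) (tt N9855 (iv0 D30444)) (tt N39184 (iv2 F176461)) (tt N39699 D64710) (tt N39700 D64711) (tt N39701 D64712) (tt N39702 D64713) (tt N39183 (iv7 F176458)))
theorem Q20141 : ∀ i, i < 20141 → P i := stepQ 20140 Q20140 (allL N20140 (tt N9855 (iv1 D30445)) (tt N29367 F329342) (tt N39183 (iv2 F176457)) (tt N39703 D64715) (tt N39704 D64716) (tt N39705 D64717) (tt N39324 (iv6 F338931)) (tt N39184 (iv7 F176462)))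
theorem Q20142 : ∀ i, i < 20142 → P i := stepQ 20141 Q20141 (allL N20141 (tt N39184 (iv1 F99601)) (tt N39183 F99597) (tt N9855 (iv2 D30446)) (tt N39179 (iv3 F99581)) (tt N39706 D64719) (tt N39707 D64720) (tt N39708 D64721) (tt N29367 F329350))
theorem Q20143 : ∀ i, i < 20143 → P i := stepQ 20142 Q20142 (allL N20142 (tt N39709 D64722) (tt N39710 D64723) (tt N39706 (iv2 F100591)) (tt N19648 F48865) (tt N9855 (iv4 D30447)) (tt N39711 D64724) (tt N39712 D64725) (tt N30149 (iv7 F78108)))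
theorem Q20144 : ∀ i, i < 20144 → P i := stepQ 20143 Q20143 (allL N20143 (tt N39713 D64726) (tt N39714 D64727) (tt N39707 (iv2 F100592)) (tt N9857 F48859) (tt N39715 D64728) (tt N9855 (iv5 D30448)) (tt N39716 D64729) (tt N39185 (iv7 F99604)))
theorem Q20145 : ∀ i, i < 20145 → P i := stepQ 20144 Q20144 (allL N20144 (tt N39717 D64730) (tt N39718 D64731) (tt N39708 (iv2 F100593)) (tt N9858 F48860) (tt N39712 (iv4 F100598)) (tt N33685 (iv5 F328818)) (tt N9855 (iv6 D30449)) (tt N29363 F329323))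
theorem Q20146 : ∀ i, i < 20146 → P i := stepQ 20145 Q20145 (allL N20145 (tt N10137 F48863) (tt N15343 (iv0 F48866)) (tt N18635 F48861) (tt N9856 (iv3 D30450)) (tt N19648 F48864) (tt N20353 F49182) (tt N39719 D64734) (tt N18636 F48862))
theorem Q20147 : ∀ i, i < 20147 → P i := stepQ 20146 Q20146 (allL N20146 (tt N33732 (iv1 F328025)) (tt N32532 (iv0 F328026)) (tt N29646 (iv2 F76888)) (tt N39719 (iv3 F100603)) (tt N9858 F48867) (tt N33672 F327563) (tt N9856 (iv6 D30451)) (tt N39720 D64737))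
theorem Q20148 : ∀ i, i < 20148 → P i := stepQ 20147 Q20147 (allL N20147 (tt N9861 (iv1 F48869)) (tt N9857 (iv0 D30452)) (tt N20016 (iv2 F48870)) (tt N37434 (iv3 F325880)) (tt N20845 (iv4 F49685)) (tt N19867 F48868) (tt N39721 D64739) (tt N20010 (iv7 F48871)))
theorem Q20149 : ∀ i, i < 20149 → P i := stepQ 20148 Q20148 (allL N20148 (tt N9857 (iv1 D30453)) (tt N9861 F48872) (tt N20010 (iv2 F48874)) (tt N39722 D64740) (tt N36136 (iv4 F94000)) (tt N15552 (iv5 F48875)) (tt N39723 D64741) (tt N20016 F48873))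
theorem Q20150 : ∀ i, i < 20150 → P i := stepQ 20149 Q20149 (allL N20149 (tt N37345 (iv1 F328284)) (tt N39724 D64743) (tt N39182 (iv2 F99589)) (tt N39716 (iv3 F100599)) (tt N36119 (iv4 F93978)) (tt N33686 F329416) (tt N9857 (iv6 D30454)) (tt N39725 D64745))
theorem Q20151 : ∀ i, i < 20151 → P i := stepQ 20150 Q20150 (allL N20150 (tt N39162 (iv1 F101959)) (tt N33332 (iv0 F101913)) (tt N33677 F328420) (tt N29363 (iv3 F328972)) (tt N39720 (iv4 F100607)) (tt N33617 (iv5 F328820)) (tt N29358 F328547) (tt N9858 (iv7 D30458)))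
theorem Q20152 : ∀ i, i < 20152 → P i := stepQ 20151 Q20151 (allL N20151 (tt N39179 (iv1 F99583)) (tt N9859 (iv0 D30459)) (tt N39178 (iv2 F219033)) (tt N29033 F333096) (tt N39726 D64752) (tt N39727 D64753) (tt N39332 F352948) (tt N39177 (iv7 F219031)))
theorem Q20153 : ∀ i, i < 20153 → P i := stepQ 20152 Q20152 (allL N20152 (tt N9859 (iv1 D30460)) (tt N39179 F99585) (tt N39177 F219032) (tt N39728 D64756) (tt N39729 D64757) (tt N39730 D64758) (tt N39731 D64759) (tt N39178 (iv7 F219034)))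
theorem Q20154 : ∀ i, i < 20154 → P i := stepQ 20153 Q20153 (allL N20153 (tt N39178 (iv1 F99584)) (tt N39177 F99580) (tt N9859 (iv2 D30461)) (tt N29367 F329328) (tt N39732 D64760) (tt N39733 D64761) (tt N29365 F329329) (tt N39179 (iv7 F99582)))
theorem Q20155 : ∀ i, i < 20155 → P i := stepQ 20154 Q20154 (allL N20154 (tt N39734 D64763) (tt N39735 D64764) (tt N39732 (iv2 F100622)) (tt N29617 (iv3 F76817)) (tt N9859 (iv4 D30462)) (tt N39736 D64765) (tt N39737 D64766) (tt N29648 (iv7 F76895)))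
theorem Q20156 : ∀ i, i < 20156 → P i := stepQ 20155 Q20155 (allL N20155 (tt N39738 D64767) (tt N39739 D64768) (tt N39733 (iv2 F100623)) (tt N9861 F48876) (tt N39740 D64769) (tt N9859 (iv5 D30463)) (tt N39741 D64770) (tt N39180 (iv7 F99587)))
theorem Q20157 : ∀ i, i < 20157 → P i := stepQ 20156 Q20156 (allL N20156 (tt N28984 (iv1 F328974)) (tt N39742 D64772) (tt N29365 (iv2 F328973)) (tt N9862 F48877) (tt N39737 (iv4 F100627)) (tt N28392 F328548) (tt N9859 (iv6 D30464)) (tt N39743 D64774))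
theorem Q20158 : ∀ i, i < 20158 → P i := stepQ 20157 Q20157 (allL N20157 (tt N39744 D64775) (tt N39745 D64776) (tt N39186 (iv2 F99606)) (tt N29618 (iv3 F76821)) (tt N9862 F48878) (tt N30444 (iv5 F78569)) (tt N9860 (iv6 D30465)) (tt N39746 D64777))
theorem Q20159 : ∀ i, i < 20159 → P i := stepQ 20158 Q20158 (allL N20158 (tt N39747 D64778) (tt N39748 D64779) (tt N39187 (iv2 F99610)) (tt N39741 (iv3 F100628)) (tt N36098 (iv4 F93953)) (tt N39749 D64780) (tt N9861 (iv6 D30466)) (tt N39750 D64781))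
theorem Q20160 : ∀ i, i < 20160 → P i := stepQ 20159 Q20159 (allL N20159 (tt N28647 F327677) (tt N28969 F327678) (tt N27783 F327679) (tt N28392 (iv3 F328157)) (tt N28639 (iv4 F328158)) (tt N9862 (iv5 D30469)) (tt N39749 (iv6 F100632)) (tt N29357 F327680))
theorem Q20161 : ∀ i, i < 20161 → P i := stepQ 20160 Q20160 (allL N20160 (tt N33368 (iv1 F166094)) (tt N39175 (iv0 F166090)) (tt N29358 (iv2 F328155)) (tt N39743 (iv3 F100630)) (tt N39746 (iv4 F100631)) (tt N29357 F327684) (tt N33677 F328425) (tt N9862 (iv7 D30470)))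
theorem Q20162 : ∀ i, i < 20162 → P i := stepQ 20161 Q20161 (allL N20161 (tt N9864 (iv1 F48882)) (tt N9863 (iv0 D30471)) (tt N9867 (iv2 F48879)) (tt N39188 (iv3 F99619)) (tt N10103 F48880) (tt N39751 D64796) (tt N39752 D64797) (tt N9865 F48881))
theorem Q20163 : ∀ i, i < 20163 → P i := stepQ 20162 Q20162 (allL N20162 (tt N9867 (iv1 F102780)) (tt N9865 (iv0 F102781)) (tt N9863 (iv2 D30472)) (tt N39753 D64800) (tt N18364 F102776) (tt N39754 D64802) (tt N39755 D64803) (tt N9864 (iv7 F48883)))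
theorem Q20164 : ∀ i, i < 20164 → P i := stepQ 20163 Q20163 (allL N20163 (tt N39728 (iv1 F219213)) (tt N39756 D64805) (tt N39757 D64806) (tt N9863 (iv3 D30473)) (tt N31525 F80831) (tt N39758 D64807) (tt N39759 D64808) (tt N39760 D64809))
theorem Q20165 : ∀ i, i < 20165 → P i := stepQ 20164 Q20164 (allL N20164 (tt N39761 D64810) (tt N33316 (iv0 F102535)) (tt N18364 F102775) (tt N39762 D64812) (tt N9863 (iv4 D30474)) (tt N39763 D64813) (tt N39764 D64814) (tt N39765 D64815))
theorem Q20166 : ∀ i, i < 20166 → P i := stepQ 20165 Q20165 (allL N20165 (tt N39766 D64816) (tt N39722 (iv0 F103082)) (tt N39754 (iv2 F100648)) (tt N39758 (iv3 F100651)) (tt N39767 D64818) (tt N9863 (iv5 D30475)) (tt N39768 D64819) (tt N39769 D64820))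
theorem Q20167 : ∀ i, i < 20167 → P i := stepQ 20166 Q20166 (allL N20166 (tt N39770 D64821) (tt N39653 F343284) (tt N39755 (iv2 F100650)) (tt N39759 (iv3 F100652)) (tt N39764 (iv4 F100658)) (tt N39771 D64823) (tt N9863 (iv6 D30476)) (tt N39772 D64824))
theorem Q20168 : ∀ i, i < 20168 → P i := stepQ 20167 Q20167 (allL N20167 (tt N9865 F102784) (tt N9867 F102785) (tt N9864 F48884) (tt N39760 (iv3 F100653)) (tt N39765 (iv4 F100660)) (tt N39769 (iv5 F100664)) (tt N39773 D64825) (tt N9863 (iv7 D30477)))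
theorem Q20169 : ∀ i, i < 20169 → P i := stepQ 20168 Q20168 (allL N20168 (tt N39774 D64826) (tt N39699 (iv0 F177276)) (tt N39775 D64828) (tt N9864 (iv3 D30478)) (tt N38252 F323477) (tt N39776 D64830) (tt N39777 D64831) (tt N39753 (iv7 F100644)))
theorem Q20170 : ∀ i, i < 20170 → P i := stepQ 20169 Q20169 (allL N20169 (tt N33316 (iv1 F102536)) (tt N39761 F100661) (tt N39765 (iv2 F100659)) (tt N18368 F102769) (tt N9864 (iv4 D30479)) (tt N39778 D64832) (tt N39779 D64833) (tt N18364 F102770))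
theorem Q20171 : ∀ i, i < 20171 → P i := stepQ 20170 Q20170 (allL N20170 (tt N39722 (iv1 F103083)) (tt N39766 F100665) (tt N39769 (iv2 F100663)) (tt N39776 (iv3 F100671)) (tt N39780 D64834) (tt N9864 (iv5 D30480)) (tt N39781 D64835) (tt N39754 (iv7 F100649)))
theorem Q20172 : ∀ i, i < 20172 → P i := stepQ 20171 Q20171 (allL N20171 (tt N39686 (iv1 F323865)) (tt N39782 D64837) (tt N39773 (iv2 F100666)) (tt N39777 (iv3 F100672)) (tt N39779 (iv4 F100675)) (tt N39783 D64838) (tt N9864 (iv6 D30481)) (tt N39784 D64839))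
theorem Q20173 : ∀ i, i < 20173 → P i := stepQ 20172 Q20172 (allL N20172 (tt N39785 D64849) (tt N39786 D64850) (tt N9866 F48889) (tt N39197 (iv3 F99627)) (tt N39787 D64851) (tt N9865 (iv5 D30484)) (tt N39788 D64852) (tt N39751 (iv7 F100637)))
theorem Q20174 : ∀ i, i < 20174 → P i := stepQ 20173 Q20173 (allL N20173 (tt N39751 (iv1 F100639)) (tt N9866 (iv0 D30485)) (tt N39785 (iv2 F177218)) (tt N39789 D64854) (tt N39790 D64855) (tt N39428 (iv5 F103147)) (tt N39791 D64857) (tt N39786 (iv7 F177222)))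
theorem Q20175 : ∀ i, i < 20175 → P i := stepQ 20174 Q20174 (allL N20174 (tt N9866 (iv1 D30486)) (tt N39751 F100638) (tt N39786 (iv2 F177221)) (tt N39792 D64859) (tt N39793 D64860) (tt N39429 (iv5 F169581)) (tt N39794 D64862) (tt N39785 (iv7 F177219)))
theorem Q20176 : ∀ i, i < 20176 → P i := stepQ 20175 Q20175 (allL N20175 (tt N39795 D64863) (tt N39794 (iv0 F355780)) (tt N39787 (iv2 F100691)) (tt N39796 D64865) (tt N9866 (iv4 D30487)) (tt N39797 D64866) (tt N39798 D64867) (tt N39799 D64868))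
theorem Q20177 : ∀ i, i < 20177 → P i := stepQ 20176 Q20176 (allL N20176 (tt N39800 D64869) (tt N39801 D64870) (tt N39788 (iv2 F100692)) (tt N9871 F48890) (tt N39798 (iv4 F100696)) (tt N39353 (iv5 F100032)) (tt N9866 (iv6 D30488)) (tt N39802 D64871))
theorem Q20178 : ∀ i, i < 20178 → P i := stepQ 20177 Q20177 (allL N20177 (tt N39786 (iv1 F100690)) (tt N39785 F100689) (tt N39751 (iv2 F100636)) (tt N9872 F48891) (tt N39799 (iv4 F100697)) (tt N9867 F48892) (tt N39803 D64872) (tt N9866 (iv7 D30489)))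
theorem Q20179 : ∀ i, i < 20179 → P i := stepQ 20178 Q20178 (allL N20178 (tt N39804 D64873) (tt N39805 D64874) (tt N39752 (iv2 F100640)) (tt N9873 F48893) (tt N10119 F48894) (tt N39806 D64875) (tt N9867 (iv6 D30490)) (tt N39355 (iv7 F100037)))
theorem Q20180 : ∀ i, i < 20180 → P i := stepQ 20179 Q20179 (allL N20179 (tt N39701 (iv1 F161537)) (tt N39705 (iv0 F219112)) (tt N39807 D64878) (tt N9868 (iv3 D30492)) (tt N39808 D64879) (tt N36030 (iv5 F93833)) (tt N39809 D64880) (tt N39203 (iv7 F99632)))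
theorem Q20181 : ∀ i, i < 20181 → P i := stepQ 20180 Q20180 (allL N20180 (tt N38554 (iv1 F347005)) (tt N39810 D64882) (tt N39202 (iv2 F99631)) (tt N39809 (iv3 F100701)) (tt N36080 (iv4 F93931)) (tt N39811 D64883) (tt N9868 (iv6 D30493)) (tt N39812 D64884))
theorem Q20182 : ∀ i, i < 20182 → P i := stepQ 20181 Q20181 (allL N20181 (tt N39727 (iv1 F347225)) (tt N39730 F347222) (tt N39813 D64887) (tt N9869 (iv3 D30495)) (tt N39814 D64888) (tt N36071 (iv5 F93921)) (tt N39815 D64889) (tt N39201 (iv7 F99630)))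
theorem Q20183 : ∀ i, i < 20183 → P i := stepQ 20182 Q20182 (allL N20182 (tt N39796 F362696) (tt N39816 D64891) (tt N39204 (iv2 F99633)) (tt N39815 (iv3 F100702)) (tt N36053 (iv4 F93869)) (tt N39817 D64892) (tt N9869 (iv6 D30496)) (tt N39818 D64893))
theorem Q20184 : ∀ i, i < 20184 → P i := stepQ 20183 Q20183 (allL N20183 (tt N39819 D64894) (tt N36158 (iv0 F336109)) (tt N39820 D64896) (tt N9870 (iv3 D30497)) (tt N39796 (iv4 F100695)) (tt N36018 (iv5 F93811)) (tt N39821 D64897) (tt N36017 F93809))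
theorem Q20185 : ∀ i, i < 20185 → P i := stepQ 20184 Q20184 (allL N20184 (tt N38627 F340130) (tt N38616 (iv0 F340131)) (tt N36165 (iv2 F94029)) (tt N39821 (iv3 F100703)) (tt N9871 F48897) (tt N39822 D64900) (tt N9870 (iv6 D30498)) (tt N38625 (iv7 F333833)))
theorem Q20186 : ∀ i, i < 20186 → P i := stepQ 20185 Q20185 (allL N20185 (tt N39206 (iv1 F99638)) (tt N9871 (iv0 D30499)) (tt N39205 F359617) (tt N39823 D64903) (tt N39824 D64904) (tt N39825 D64905) (tt N39826 D64906) (tt N38548 F333886))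
theorem Q20187 : ∀ i, i < 20187 → P i := stepQ 20186 Q20186 (allL N20186 (tt N9871 (iv1 D30500)) (tt N39206 F99637) (tt N38548 (iv2 F333878)) (tt N39827 D64908) (tt N39828 D64909) (tt N39829 D64910) (tt N38545 F333877) (tt N39205 F359622))
theorem Q20188 : ∀ i, i < 20188 → P i := stepQ 20187 Q20187 (allL N20187 (tt N38548 (iv1 F359624)) (tt N39205 F99636) (tt N39206 (iv2 F99635)) (tt N39802 (iv3 F100698)) (tt N38625 F333835) (tt N39364 (iv5 F100040)) (tt N39830 D64912) (tt N9871 (iv7 D30501)))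
theorem Q20189 : ∀ i, i < 20189 → P i := stepQ 20188 Q20188 (allL N20188 (tt N39831 D64913) (tt N39832 D64914) (tt N36162 (iv2 F94027)) (tt N39803 (iv3 F100699)) (tt N36020 (iv4 F93818)) (tt N39833 D64915) (tt N9872 (iv6 D30502)) (tt N39830 (iv7 F100707)))
theorem Q20190 : ∀ i, i < 20190 → P i := stepQ 20189 Q20189 (allL N20189 (tt N39112 (iv1 F99424)) (tt N9873 (iv0 D30503)) (tt N39207 (iv2 F202570)) (tt N39834 D64917) (tt N39835 D64918) (tt N39836 D64919) (tt N39837 D64920) (tt N39208 (iv7 F202578)))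
theorem Q20191 : ∀ i, i < 20191 → P i := stepQ 20190 Q20190 (allL N20190 (tt N9873 (iv1 D30504)) (tt N39112 F99423) (tt N39208 (iv2 F202577)) (tt N39838 D64922) (tt N39839 D64923) (tt N39840 D64924) (tt N39841 D64925) (tt N39207 (iv7 F202571)))
theorem Q20192 : ∀ i, i < 20192 → P i := stepQ 20191 Q20191 (allL N20191 (tt N39842 D64926) (tt N39843 D64927) (tt N39209 (iv2 F99641)) (tt N39806 (iv3 F100700)) (tt N39844 D64928) (tt N9873 (iv5 D30505)) (tt N39833 (iv6 F100708)) (tt N39366 (iv7 F100041)))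
theorem Q20193 : ∀ i, i < 20193 → P i := stepQ 20192 Q20192 (allL N20192 (tt N30736 (iv1 F163995)) (tt N19991 (iv0 F163996)) (tt N39367 (iv2 F163984)) (tt N9874 (iv3 D30507)) (tt N39845 D64932) (tt N39846 D64933) (tt N39847 D64934) (tt N39212 F99747))
theorem Q20194 : ∀ i, i < 20194 → P i := stepQ 20193 Q20193 (allL N20193 (tt N39292 (iv1 F101318)) (tt N39152 (iv0 F101320)) (tt N39210 F99791) (tt N39848 D64937) (tt N9874 (iv4 D30508)) (tt N39849 D64938) (tt N39850 D64939) (tt N39213 F99748))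
theorem Q20195 : ∀ i, i < 20195 → P i := stepQ 20194 Q20194 (allL N20194 (tt N39851 D64940) (tt N20040 (iv0 F48899)) (tt N39211 (iv2 F99742)) (tt N39846 (iv3 F100718)) (tt N39852 D64941) (tt N9874 (iv5 D30509)) (tt N38238 (iv6 F97748)) (tt N39214 F99749))
theorem Q20196 : ∀ i, i < 20196 → P i := stepQ 20195 Q20195 (allL N20195 (tt N39163 F99549) (tt N39321 (iv0 F99924)) (tt N38848 F99783) (tt N39847 (iv3 F100719)) (tt N39850 (iv4 F100723)) (tt N19803 F48900) (tt N9874 (iv6 D30510)) (tt N38846 F99764))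
theorem Q20197 : ∀ i, i < 20197 → P i := stepQ 20196 Q20196 (allL N20196 (tt N20783 F168338) (tt N16172 (iv0 F168339)) (tt N32221 (iv2 F168203)) (tt N9875 (iv3 D30512)) (tt N39853 D64945) (tt N39854 D64946) (tt N39855 D64947) (tt N32222 (iv7 F168375)))
theorem Q20198 : ∀ i, i < 20198 → P i := stepQ 20197 Q20197 (allL N20197 (tt N39152 (iv1 F101321)) (tt N39292 (iv0 F101317)) (tt N39213 F99759) (tt N14363 (iv3 F327152)) (tt N9875 (iv4 D30513)) (tt N14361 F326330) (tt N39856 D64950) (tt N39210 (iv7 F99790)))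
theorem Q20199 : ∀ i, i < 20199 → P i := stepQ 20198 Q20198 (allL N20198 (tt N20040 (iv1 F99758)) (tt N39851 F100727) (tt N39214 F99754) (tt N39854 (iv3 F100729)) (tt N39857 D64951) (tt N9875 (iv5 D30514)) (tt N20012 (iv6 F48905)) (tt N39211 (iv7 F99756)))
theorem Q20200 : ∀ i, i < 20200 → P i := stepQ 20199 Q20199 (allL N20199 (tt N39309 (iv1 F100576)) (tt N39176 (iv0 F99576)) (tt N39215 F99760) (tt N39855 (iv3 F100731)) (tt N39856 (iv4 F100733)) (tt N15571 F48906) (tt N9875 (iv6 D30515)) (tt N39689 (iv7 F100572)))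
theorem Q20201 : ∀ i, i < 20201 → P i := stepQ 20200 Q20200 (allL N20200 (tt N30459 (iv1 F78601)) (tt N38406 (iv0 F98220)) (tt N19702 F48907) (tt N39858 D64952) (tt N9876 (iv4 D30516)) (tt N39859 D64953) (tt N39860 D64954) (tt N22675 (iv7 F53578)))
theorem Q20202 : ∀ i, i < 20202 → P i := stepQ 20201 Q20201 (allL N20201 (tt N39861 D64955) (tt N37436 (iv0 F168249)) (tt N19700 F48908) (tt N18902 F48909) (tt N39860 (iv4 F100741)) (tt N19657 F48910) (tt N9876 (iv6 D30517)) (tt N33274 (iv7 F84370)))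
theorem Q20203 : ∀ i, i < 20203 → P i := stepQ 20202 Q20202 (allL N20202 (tt N38406 (iv1 F98221)) (tt N30459 (iv0 F78600)) (tt N22675 (iv2 F53577)) (tt N39862 D64957) (tt N9877 (iv4 D30518)) (tt N17753 F328729) (tt N17754 (iv6 F329117)) (tt N19702 F48911))
theorem Q20204 : ∀ i, i < 20204 → P i := stepQ 20203 Q20203 (allL N20203 (tt N15817 (iv1 F48913)) (tt N9878 (iv0 D30519)) (tt N22677 F53584) (tt N39863 D64959) (tt N19546 F48912) (tt N34975 (iv5 F329214)) (tt N39864 D64961) (tt N22676 (iv7 F53587)))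
theorem Q20205 : ∀ i, i < 20205 → P i := stepQ 20204 Q20204 (allL N20204 (tt N9878 (iv1 D30520)) (tt N15817 F48914) (tt N22676 F53586) (tt N39865 D64962) (tt N19547 F48915) (tt N34892 (iv5 F329206)) (tt N33272 (iv6 F84366)) (tt N22677 F53585))
theorem Q20206 : ∀ i, i < 20206 → P i := stepQ 20205 Q20205 (allL N20205 (tt N35420 (iv1 F313389)) (tt N39866 D64965) (tt N39867 D64966) (tt N9878 (iv3 D30521)) (tt N9882 F48916) (tt N39868 D64967) (tt N39869 D64968) (tt N22678 (iv7 F53589)))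
theorem Q20207 : ∀ i, i < 20207 → P i := stepQ 20206 Q20206 (allL N20206 (tt N39870 D64969) (tt N31402 (iv0 F80602)) (tt N31537 (iv2 F80850)) (tt N39868 (iv3 F100765)) (tt N38426 (iv4 F98270)) (tt N9878 (iv5 D30522)) (tt N38560 F343192) (tt N22679 (iv7 F53590)))
theorem Q20208 : ∀ i, i < 20208 → P i := stepQ 20207 Q20207 (allL N20207 (tt N39871 D64971) (tt N39872 D64972) (tt N31538 (iv2 F80852)) (tt N39869 (iv3 F100766)) (tt N9879 F48917) (tt N39873 D64973) (tt N9878 (iv6 D30523)) (tt N39874 D64974))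
theorem Q20209 : ∀ i, i < 20209 → P i := stepQ 20208 Q20208 (allL N20208 (tt N31541 (iv1 F80865)) (tt N9879 (iv0 D30524)) (tt N31539 (iv2 F101219)) (tt N18911 F111265) (tt N39875 D64977) (tt N30705 F79263) (tt N9941 F49145) (tt N31540 (iv7 F101223)))
theorem Q20210 : ∀ i, i < 20210 → P i := stepQ 20209 Q20209 (allL N20209 (tt N9879 (iv1 D30525)) (tt N31541 F80863) (tt N31540 (iv2 F101222)) (tt N39876 D64979) (tt N39877 D64980) (tt N30704 (iv5 F79261)) (tt N39878 D64981) (tt N31539 (iv7 F101220)))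
theorem Q20211 : ∀ i, i < 20211 → P i := stepQ 20210 Q20210 (allL N20210 (tt N31540 (iv1 F80856)) (tt N31539 F80862) (tt N31541 (iv2 F80858)) (tt N9887 F48918) (tt N39874 (iv4 F100771)) (tt N10070 F48919) (tt N22682 (iv6 F53600)) (tt N9879 (iv7 D30526)))
theorem Q20212 : ∀ i, i < 20212 → P i := stepQ 20211 Q20211 (allL N20211 (tt N39879 D64982) (tt N39880 D64983) (tt N39881 D64984) (tt N9880 (iv3 D30527)) (tt N39264 (iv4 F99793)) (tt N37451 (iv5 F96019)) (tt N31153 (iv6 F80018)) (tt N19432 F48920))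
theorem Q20213 : ∀ i, i < 20213 → P i := stepQ 20212 Q20212 (allL N20212 (tt N22685 (iv1 F53606)) (tt N9882 (iv0 D30530)) (tt N22684 (iv2 F212172)) (tt N39882 D64992) (tt N39883 D64993) (tt N39884 D64994) (tt N39885 D64995) (tt N22683 F212171))
theorem Q20214 : ∀ i, i < 20214 → P i := stepQ 20213 Q20213 (allL N20213 (tt N9882 (iv1 D30531)) (tt N22685 F53608) (tt N22683 F212170) (tt N39886 D64997) (tt N39887 D64998) (tt N39888 D64999) (tt N33288 F327179) (tt N22684 (iv7 F212173)))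
theorem Q20215 : ∀ i, i < 20215 → P i := stepQ 20214 Q20214 (allL N20214 (tt N22684 (iv1 F53607)) (tt N22683 F53603) (tt N9882 (iv2 D30532)) (tt N22669 (iv3 F53533)) (tt N39867 (iv4 F100764)) (tt N39889 D65001) (tt N39890 D65002) (tt N22685 (iv7 F53605)))
theorem Q20216 : ∀ i, i < 20216 → P i := stepQ 20215 Q20215 (allL N20215 (tt N39891 D65003) (tt N39892 D65004) (tt N39889 (iv2 F100797)) (tt N9883 F48935) (tt N21987 (iv4 F309947)) (tt N9882 (iv5 D30533)) (tt N21730 (iv6 F309205)) (tt N21984 F308944))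
theorem Q20217 : ∀ i, i < 20217 → P i := stepQ 20216 Q20216 (allL N20216 (tt N39893 D65007) (tt N39894 D65008) (tt N39890 (iv2 F100798)) (tt N9884 F48936) (tt N39869 (iv4 F100767)) (tt N21731 (iv5 F313398)) (tt N9882 (iv6 D30534)) (tt N21876 (iv7 F313395)))
theorem Q20218 : ∀ i, i < 20218 → P i := stepQ 20217 Q20217 (allL N20217 (tt N16791 F48948) (tt N16787 (iv0 F48949)) (tt N20773 F49588) (tt N39280 (iv3 F111220)) (tt N34051 F317147) (tt N9973 F48946) (tt N9886 (iv6 D30546)) (tt N9973 F48947))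
theorem Q20219 : ∀ i, i < 20219 → P i := stepQ 20218 Q20218 (allL N20218 (tt N19669 F48965) (tt N19673 (iv0 F48966)) (tt N20354 (iv2 F49184)) (tt N39895 D65032) (tt N9888 (iv4 D30547)) (tt N39896 D65033) (tt N30933 (iv6 F79696)) (tt N20348 (iv7 F49156)))
theorem Q20220 : ∀ i, i < 20220 → P i := stepQ 20219 Q20219 (allL N20219 (tt N15351 (iv1 F48967)) (tt N9889 (iv0 D30548)) (tt N22659 (iv2 F53575)) (tt N39897 D65034) (tt N30594 (iv4 F78949)) (tt N39898 D65035) (tt N39899 D65036) (tt N22658 (iv7 F53576)))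
theorem Q20221 : ∀ i, i < 20221 → P i := stepQ 20220 Q20220 (allL N20220 (tt N9889 (iv1 D30549)) (tt N15351 F48968) (tt N22658 F53573) (tt N39900 D65037) (tt N22674 (iv4 F53572)) (tt N39901 D65038) (tt N39902 D65039) (tt N22659 F53574))
theorem Q20222 : ∀ i, i < 20222 → P i := stepQ 20221 Q20221 (allL N20221 (tt N35398 (iv1 F310576)) (tt N35386 (iv0 F310577)) (tt N39903 D65042) (tt N9889 (iv3 D30550)) (tt N9891 F48969) (tt N39904 D65043) (tt N39905 D65044) (tt N22660 (iv7 F53521)))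
theorem Q20223 : ∀ i, i < 20223 → P i := stepQ 20222 Q20222 (allL N20222 (tt N38664 (iv1 F98575)) (tt N38684 (iv0 F98631)) (tt N30747 (iv2 F79350)) (tt N39904 (iv3 F100847)) (tt N38667 (iv4 F98582)) (tt N9889 (iv5 D30551)) (tt N30987 F341398) (tt N22661 (iv7 F53522)))
theorem Q20224 : ∀ i, i < 20224 → P i := stepQ 20223 Q20223 (allL N20223 (tt N39906 D65046) (tt N33223 (iv0 F84227)) (tt N30748 (iv2 F79355)) (tt N39905 (iv3 F100848)) (tt N9890 F48970) (tt N39907 D65047) (tt N9889 (iv6 D30552)) (tt N39908 D65048))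
theorem Q20225 : ∀ i, i < 20225 → P i := stepQ 20224 Q20224 (allL N20224 (tt N30750 (iv1 F79370)) (tt N9890 (iv0 D30553)) (tt N30749 F79361) (tt N30177 F79362) (tt N39909 D65049) (tt N19709 F79363) (tt N33216 (iv6 F84210)) (tt N9995 F79364))
theorem Q20226 : ∀ i, i < 20226 → P i := stepQ 20225 Q20225 (allL N20225 (tt N9995 (iv1 F48972)) (tt N30749 F79365) (tt N30750 (iv2 F79366)) (tt N9895 F48971) (tt N39908 (iv4 F100850)) (tt N38137 (iv5 F97494)) (tt N22665 (iv6 F53529)) (tt N9890 (iv7 D30554)))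
theorem Q20227 : ∀ i, i < 20227 → P i := stepQ 20226 Q20226 (allL N20226 (tt N22669 (iv1 F53535)) (tt N9891 (iv0 D30555)) (tt N22668 F245743) (tt N39910 D65051) (tt N39911 D65052) (tt N39912 D65053) (tt N39913 D65054) (tt N22667 (iv7 F245747)))
theorem Q20228 : ∀ i, i < 20228 → P i := stepQ 20227 Q20227 (allL N20227 (tt N9891 (iv1 D30556)) (tt N22669 F53537) (tt N22667 (iv2 F245746)) (tt N25490 (iv3 F309997)) (tt N39914 D65057) (tt N25488 (iv5 F309996)) (tt N39915 D65059) (tt N22668 F245745))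
theorem Q20229 : ∀ i, i < 20229 → P i := stepQ 20228 Q20228 (allL N20228 (tt N22668 (iv1 F53536)) (tt N22667 F53532) (tt N9891 (iv2 D30557)) (tt N22685 (iv3 F53604)) (tt N39903 (iv4 F100846)) (tt N25441 F308580) (tt N25442 (iv6 F310579)) (tt N22669 (iv7 F53534)))
theorem Q20230 : ∀ i, i < 20230 → P i := stepQ 20229 Q20229 (allL N20229 (tt N39916 D65062) (tt N39917 D65063) (tt N25441 (iv2 F308476)) (tt N9892 F48973) (tt N14619 (iv4 F307751)) (tt N9891 (iv5 D30558)) (tt N14618 F306647) (tt N22670 (iv7 F53539)))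
theorem Q20231 : ∀ i, i < 20231 → P i := stepQ 20230 Q20230 (allL N20230 (tt N39918 D65066) (tt N33248 F322671) (tt N25442 (iv2 F310578)) (tt N9893 F48974) (tt N39905 (iv4 F100849)) (tt N17987 F308478) (tt N9891 (iv6 D30559)) (tt N25272 (iv7 F310571)))
theorem Q20232 : ∀ i, i < 20232 → P i := stepQ 20231 Q20231 (allL N20231 (tt N20873 F49754) (tt N9893 (iv0 D30561)) (tt N20875 (iv2 F49759)) (tt N39919 D65074) (tt N11148 F49755) (tt N39920 D65075) (tt N20857 F49756) (tt N9966 F49757))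
theorem Q20233 : ∀ i, i < 20233 → P i := stepQ 20232 Q20232 (allL N20232 (tt N21714 (iv1 F307988)) (tt N10250 (iv0 F309239)) (tt N22687 (iv2 F53614)) (tt N17987 (iv3 F308473)) (tt N14874 (iv4 F308767)) (tt N9893 (iv5 D30562)) (tt N25394 F307248) (tt N18610 (iv7 F308770)))
theorem Q20234 : ∀ i, i < 20234 → P i := stepQ 20233 Q20233 (allL N20233 (tt N9966 (iv1 F48977)) (tt N20875 F49762) (tt N20873 F49744) (tt N25272 (iv3 F310570)) (tt N9895 F48976) (tt N18610 F310924) (tt N17052 (iv6 F312643)) (tt N9893 (iv7 D30563)))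
theorem Q20235 : ∀ i, i < 20235 → P i := stepQ 20234 Q20234 (allL N20234 (tt N22775 (iv1 F53932)) (tt N15305 F53620) (tt N22688 (iv2 F53615)) (tt N39921 D65080) (tt N9894 (iv4 D30564)) (tt N39922 D65081) (tt N31113 (iv6 F79959)) (tt N9960 F48985))
theorem Q20236 : ∀ i, i < 20236 → P i := stepQ 20235 Q20235 (allL N20235 (tt N15821 (iv1 F48987)) (tt N9896 (iv0 D30565)) (tt N22709 (iv2 F53731)) (tt N39923 D65082) (tt N19545 F48986) (tt N39870 (iv5 F100768)) (tt N39924 D65083) (tt N22708 F53727))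
theorem Q20237 : ∀ i, i < 20237 → P i := stepQ 20236 Q20236 (allL N20236 (tt N25173 (iv1 F316920)) (tt N39925 D65085) (tt N39926 D65086) (tt N9896 (iv3 D30566)) (tt N9898 F48988) (tt N39927 D65087) (tt N39928 D65088) (tt N22710 (iv7 F53733)))
theorem Q20238 : ∀ i, i < 20238 → P i := stepQ 20237 Q20237 (allL N20237 (tt N17715 F329213) (tt N39929 D65090) (tt N31543 (iv2 F80867)) (tt N39927 (iv3 F100873)) (tt N38419 (iv4 F98259)) (tt N9896 (iv5 D30567)) (tt N39930 D65091) (tt N22711 (iv7 F53734)))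
theorem Q20239 : ∀ i, i < 20239 → P i := stepQ 20238 Q20238 (allL N20238 (tt N39931 D65092) (tt N39932 D65093) (tt N31544 (iv2 F80869)) (tt N39928 (iv3 F100874)) (tt N9897 F48989) (tt N39933 D65094) (tt N9896 (iv6 D30568)) (tt N39934 D65095))
theorem Q20240 : ∀ i, i < 20240 → P i := stepQ 20239 Q20239 (allL N20239 (tt N31547 (iv1 F80878)) (tt N9897 (iv0 D30569)) (tt N31545 (iv2 F102479)) (tt N32211 (iv3 F161366)) (tt N39935 D65098) (tt N39936 D65099) (tt N33340 (iv6 F95819)) (tt N31546 (iv7 F102477)))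
theorem Q20241 : ∀ i, i < 20241 → P i := stepQ 20240 Q20240 (allL N20240 (tt N9897 (iv1 D30570)) (tt N31547 F80877) (tt N31546 (iv2 F102476)) (tt N39937 D65101) (tt N39938 D65102) (tt N31011 (iv5 F79769)) (tt N39939 D65103) (tt N31545 (iv7 F102480)))
theorem Q20242 : ∀ i, i < 20242 → P i := stepQ 20241 Q20241 (allL N20241 (tt N31546 (iv1 F80873)) (tt N31545 (iv0 F80872)) (tt N31547 (iv2 F80874)) (tt N9903 F48990) (tt N39934 (iv4 F100886)) (tt N15448 (iv5 F49342)) (tt N22715 (iv6 F53739)) (tt N9897 (iv7 D30571)))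
theorem Q20243 : ∀ i, i < 20243 → P i := stepQ 20242 Q20242 (allL N20242 (tt N22718 (iv1 F53743)) (tt N9898 (iv0 D30572)) (tt N22717 (iv2 F212017)) (tt N36619 F313039) (tt N39940 D65106) (tt N39891 (iv5 F211926)) (tt N39941 D65108) (tt N22716 (iv7 F212018)))
theorem Q20244 : ∀ i, i < 20244 → P i := stepQ 20243 Q20243 (allL N20243 (tt N9898 (iv1 D30573)) (tt N22718 F53745) (tt N22716 F212019) (tt N39942 D65110) (tt N39943 D65111) (tt N39892 (iv5 F212037)) (tt N10043 F319543) (tt N22717 F212020))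
theorem Q20245 : ∀ i, i < 20245 → P i := stepQ 20244 Q20244 (allL N20244 (tt N22717 (iv1 F53744)) (tt N22716 F53740) (tt N9898 (iv2 D30574)) (tt N22698 (iv3 F53641)) (tt N39926 (iv4 F100872)) (tt N39944 D65114) (tt N39945 D65115) (tt N22718 (iv7 F53742)))
theorem Q20246 : ∀ i, i < 20246 → P i := stepQ 20245 Q20245 (allL N20245 (tt N36615 F312534) (tt N39946 D65117) (tt N39944 (iv2 F100893)) (tt N9899 F48992) (tt N22440 F312535) (tt N9898 (iv5 D30575)) (tt N22438 F312536) (tt N22719 (iv7 F53747)))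
theorem Q20247 : ∀ i, i < 20247 → P i := stepQ 20246 Q20246 (allL N20246 (tt N39947 D65120) (tt N39948 D65121) (tt N39945 (iv2 F100894)) (tt N9900 F48993) (tt N39928 (iv4 F100875)) (tt N39949 D65122) (tt N9898 (iv6 D30576)) (tt N33913 (iv7 F317245)))
theorem Q20248 : ∀ i, i < 20248 → P i := stepQ 20247 Q20247 (allL N20247 (tt N10713 F315107) (tt N9900 (iv0 D30578)) (tt N22702 F78678) (tt N39950 D65128) (tt N15219 F53662) (tt N35493 (iv5 F317311)) (tt N10078 F53546) (tt N22703 F78665))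
theorem Q20249 : ∀ i, i < 20249 → P i := stepQ 20248 Q20248 (allL N20248 (tt N9900 (iv1 D30579)) (tt N10713 F315108) (tt N22703 (iv2 F78677)) (tt N36383 (iv3 F317313)) (tt N15220 F48995) (tt N39951 D65131) (tt N39952 D65132) (tt N22702 (iv7 F78679)))
theorem Q20250 : ∀ i, i < 20250 → P i := stepQ 20249 Q20249 (allL N20249 (tt N20390 (iv1 F49213)) (tt N36377 (iv0 F315673)) (tt N22704 (iv2 F53653)) (tt N39949 (iv3 F100897)) (tt N39953 D65134) (tt N9900 (iv5 D30580)) (tt N36368 F313281) (tt N33492 (iv7 F315679)))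
theorem Q20251 : ∀ i, i < 20251 → P i := stepQ 20250 Q20250 (allL N20250 (tt N22631 (iv1 F161262)) (tt N22595 (iv0 F161261)) (tt N22629 (iv2 F161260)) (tt N9901 (iv3 D30583)) (tt N39954 D65139) (tt N39955 D65140) (tt N10082 F48999) (tt N22630 F161259))
theorem Q20252 : ∀ i, i < 20252 → P i := stepQ 20251 Q20251 (allL N20251 (tt N17064 (iv1 F316091)) (tt N9913 F53706) (tt N21910 (iv2 F316082)) (tt N39956 D65141) (tt N9901 (iv4 D30584)) (tt N23074 (iv5 F316160)) (tt N10083 F49000) (tt N21909 (iv7 F316089)))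
theorem Q20253 : ∀ i, i < 20253 → P i := stepQ 20252 Q20252 (allL N20252 (tt N16009 F49001) (tt N15993 (iv0 F49002)) (tt N22706 (iv2 F53707)) (tt N39955 (iv3 F100913)) (tt N24885 (iv4 F323809)) (tt N9901 (iv5 D30585)) (tt N22706 (iv6 F53708)) (tt N16030 F49019))
theorem Q20254 : ∀ i, i < 20254 → P i := stepQ 20253 Q20253 (allL N20253 (tt N9913 F49004) (tt N17064 (iv0 F316090)) (tt N21909 (iv2 F316087)) (tt N39957 D65149) (tt N9902 (iv4 D30588)) (tt N39958 D65150) (tt N39959 D65151) (tt N21910 (iv7 F316085)))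
theorem Q20255 : ∀ i, i < 20255 → P i := stepQ 20254 Q20254 (allL N20254 (tt N15583 F49007) (tt N10136 F49008) (tt N22707 (iv2 F53718)) (tt N39309 (iv3 F161301)) (tt N39959 (iv4 F100922)) (tt N10023 F49005) (tt N9902 (iv6 D30589)) (tt N10081 F49006))
theorem Q20256 : ∀ i, i < 20256 → P i := stepQ 20255 Q20255 (allL N20255 (tt N39960 D65152) (tt N39961 D65153) (tt N39962 D65154) (tt N9904 (iv3 D30590)) (tt N9906 F49037) (tt N39963 D65155) (tt N33910 (iv6 F316992)) (tt N22690 (iv7 F53633)))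
theorem Q20257 : ∀ i, i < 20257 → P i := stepQ 20256 Q20256 (allL N20256 (tt N39964 D65157) (tt N39965 D65158) (tt N30752 (iv2 F79372)) (tt N39963 (iv3 F100928)) (tt N38672 (iv4 F98598)) (tt N9904 (iv5 D30591)) (tt N39966 D65159) (tt N22691 (iv7 F53634)))
theorem Q20258 : ∀ i, i < 20258 → P i := stepQ 20257 Q20257 (allL N20257 (tt N39967 D65160) (tt N39968 D65161) (tt N30753 (iv2 F79375)) (tt N33910 F318404) (tt N9905 F49038) (tt N39969 D65162) (tt N9904 (iv6 D30592)) (tt N39970 D65163))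
theorem Q20259 : ∀ i, i < 20259 → P i := stepQ 20258 Q20258 (allL N20258 (tt N30756 (iv1 F79390)) (tt N9905 (iv0 D30593)) (tt N30754 (iv2 F102105)) (tt N30190 (iv3 F111456)) (tt N39971 D65166) (tt N22713 F80934) (tt N39972 D65167) (tt N30755 (iv7 F102103)))
theorem Q20260 : ∀ i, i < 20260 → P i := stepQ 20259 Q20259 (allL N20259 (tt N9905 (iv1 D30594)) (tt N30756 F79389) (tt N30755 (iv2 F102102)) (tt N39610 (iv3 F102188)) (tt N39973 D65170) (tt N22714 (iv5 F80930)) (tt N30143 F80931) (tt N30754 (iv7 F102106)))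
theorem Q20261 : ∀ i, i < 20261 → P i := stepQ 20260 Q20260 (allL N20260 (tt N30755 (iv1 F79377)) (tt N30754 F79388) (tt N30756 (iv2 F79385)) (tt N9910 F49039) (tt N39970 (iv4 F100941)) (tt N9943 F49040) (tt N22695 (iv6 F53639)) (tt N9905 (iv7 D30595)))
theorem Q20262 : ∀ i, i < 20262 → P i := stepQ 20261 Q20261 (allL N20261 (tt N22698 (iv1 F53643)) (tt N9906 (iv0 D30596)) (tt N22697 (iv2 F221954)) (tt N39974 D65172) (tt N35408 (iv4 F312319)) (tt N39916 F222374) (tt N10071 F319270) (tt N22696 F221953))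
theorem Q20263 : ∀ i, i < 20263 → P i := stepQ 20262 Q20262 (allL N20262 (tt N9906 (iv1 D30597)) (tt N22698 F53645) (tt N22696 F221950) (tt N39975 D65177) (tt N35409 (iv4 F312322)) (tt N39917 F222380) (tt N39976 D65180) (tt N22697 (iv7 F221955)))
theorem Q20264 : ∀ i, i < 20264 → P i := stepQ 20263 Q20263 (allL N20263 (tt N22697 (iv1 F53644)) (tt N22696 F53640) (tt N9906 (iv2 D30598)) (tt N22718 (iv3 F53741)) (tt N39962 (iv4 F100927)) (tt N36431 (iv5 F312246)) (tt N33907 (iv6 F312317)) (tt N22698 (iv7 F53642)))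
theorem Q20265 : ∀ i, i < 20265 → P i := stepQ 20264 Q20264 (allL N20264 (tt N35105 (iv1 F312249)) (tt N35108 F312111) (tt N36431 (iv2 F312245)) (tt N9907 F49041) (tt N22302 (iv4 F313363)) (tt N9906 (iv5 D30599)) (tt N10620 F312112) (tt N22699 (iv7 F53647)))
theorem Q20266 : ∀ i, i < 20266 → P i := stepQ 20265 Q20265 (allL N20265 (tt N10132 F49047) (tt N19616 (iv0 F49048)) (tt N22720 (iv2 F53765)) (tt N39321 (iv3 F101981)) (tt N21900 F312475) (tt N18945 F49046) (tt N9908 (iv6 D30609)) (tt N10059 F49052))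
theorem Q20267 : ∀ i, i < 20267 → P i := stepQ 20266 Q20266 (allL N20266 (tt N22055 (iv1 F314304)) (tt N9911 (iv0 D30613)) (tt N17951 F311902) (tt N25172 (iv3 F312290)) (tt N39977 D65214) (tt N39978 D65215) (tt N39979 D65216) (tt N22730 (iv7 F222084)))
theorem Q20268 : ∀ i, i < 20268 → P i := stepQ 20267 Q20267 (allL N20267 (tt N17951 F313575) (tt N22730 F53827) (tt N9911 (iv2 D30615)) (tt N22724 (iv3 F53809)) (tt N39980 D65222) (tt N17939 F313576) (tt N39981 D65224) (tt N22055 (iv7 F314307)))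
theorem Q20269 : ∀ i, i < 20269 → P i := stepQ 20268 Q20268 (allL N20268 (tt N39982 D65225) (tt N39983 D65226) (tt N39980 (iv2 F100975)) (tt N15306 F49085) (tt N9911 (iv4 D30616)) (tt N39984 D65227) (tt N39985 D65228) (tt N22731 (iv7 F53834)))
theorem Q20270 : ∀ i, i < 20270 → P i := stepQ 20269 Q20269 (allL N20269 (tt N39986 D65233) (tt N39987 D65234) (tt N39981 (iv2 F100977)) (tt N9913 F49087) (tt N39985 (iv4 F100981)) (tt N39988 D65235) (tt N9911 (iv6 D30618)) (tt N21907 (iv7 F316159)))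
theorem Q20271 : ∀ i, i < 20271 → P i := stepQ 20270 Q20270 (allL N20270 (tt N17255 F308768) (tt N23892 (iv0 F308890)) (tt N22728 (iv2 F53819)) (tt N17297 (iv3 F310921)) (tt N10250 F49088) (tt N39989 D65239) (tt N9912 (iv6 D30619)) (tt N17543 (iv7 F308888)))
theorem Q20272 : ∀ i, i < 20272 → P i := stepQ 20271 Q20271 (allL N20271 (tt N20370 (iv1 F49197)) (tt N39990 D65241) (tt N22729 (iv2 F53821)) (tt N39988 (iv3 F100984)) (tt N34725 F323511) (tt N9913 (iv5 D30621)) (tt N39989 (iv6 F100986)) (tt N21141 (iv7 F315531)))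
theorem Q20273 : ∀ i, i < 20273 → P i := stepQ 20272 Q20272 (allL N20272 (tt N22724 (iv1 F53811)) (tt N9914 (iv0 D30623)) (tt N22723 F214137) (tt N17927 (iv3 F311274)) (tt N39991 D65246) (tt N38345 (iv5 F211924)) (tt N10095 F318356) (tt N22722 F214138))
theorem Q20274 : ∀ i, i < 20274 → P i := stepQ 20273 Q20273 (allL N20273 (tt N9914 (iv1 D30624)) (tt N22724 F53813) (tt N22722 (iv2 F214135)) (tt N39992 D65250) (tt N39993 D65251) (tt N38346 (iv5 F211927)) (tt N39994 D65253) (tt N22723 (iv7 F214136)))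
theorem Q20275 : ∀ i, i < 20275 → P i := stepQ 20274 Q20274 (allL N20274 (tt N22723 (iv1 F53812)) (tt N22722 F53808) (tt N9914 (iv2 D30625)) (tt N22055 (iv3 F314306)) (tt N39995 D65254) (tt N22048 (iv5 F312959)) (tt N21895 (iv6 F314319)) (tt N22724 (iv7 F53810)))
theorem Q20276 : ∀ i, i < 20276 → P i := stepQ 20275 Q20275 (allL N20275 (tt N39996 D65257) (tt N39997 D65258) (tt N39995 (iv2 F100994)) (tt N10167 F49090) (tt N9914 (iv4 D30626)) (tt N39998 D65259) (tt N21898 (iv6 F316140)) (tt N22725 (iv7 F53815)))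
theorem Q20277 : ∀ i, i < 20277 → P i := stepQ 20276 Q20276 (allL N20276 (tt N17919 (iv1 F311940)) (tt N39999 D65262) (tt N22048 (iv2 F312958)) (tt N9915 F49091) (tt N37144 (iv4 F95591)) (tt N9914 (iv5 D30627)) (tt N10864 F310704) (tt N22726 (iv7 F53817)))
theorem Q20278 : ∀ i, i < 20278 → P i := stepQ 20277 Q20277 (allL N20277 (tt N9917 (iv1 F49097)) (tt N9916 (iv0 D30634)) (tt N9920 (iv2 F49095)) (tt N22732 (iv3 F53847)) (tt N39340 (iv4 F100021)) (tt N22837 (iv5 F54497)) (tt N40000 D65274) (tt N9918 F49096))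
theorem Q20279 : ∀ i, i < 20279 → P i := stepQ 20278 Q20278 (allL N20278 (tt N9920 (iv1 F210261)) (tt N9918 (iv0 F210262)) (tt N9916 (iv2 D30635)) (tt N25150 (iv3 F312293)) (tt N40001 D65278) (tt N25099 F310035) (tt N40002 D65280) (tt N9917 (iv7 F49098)))
theorem Q20280 : ∀ i, i < 20280 → P i := stepQ 20279 Q20279 (allL N20279 (tt N39992 (iv1 F221976)) (tt N40003 D65282) (tt N40004 D65283) (tt N9916 (iv3 D30636)) (tt N40005 D65284) (tt N40006 D65285) (tt N40007 D65286) (tt N40008 D65287))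
theorem Q20281 : ∀ i, i < 20281 → P i := stepQ 20280 Q20280 (allL N20280 (tt N40009 D65288) (tt N40010 D65289) (tt N40001 (iv2 F101016)) (tt N40011 D65290) (tt N9916 (iv4 D30637)) (tt N40012 D65291) (tt N40013 D65292) (tt N40014 D65293))
theorem Q20282 : ∀ i, i < 20282 → P i := stepQ 20281 Q20281 (allL N20281 (tt N25095 F310007) (tt N25100 F310008) (tt N25099 F310009) (tt N40006 (iv3 F101023)) (tt N40015 D65296) (tt N9916 (iv5 D30638)) (tt N40016 D65297) (tt N25062 F310010))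
theorem Q20283 : ∀ i, i < 20283 → P i := stepQ 20282 Q20282 (allL N20282 (tt N40017 D65299) (tt N39957 F319249) (tt N40002 (iv2 F101020)) (tt N40007 (iv3 F101024)) (tt N40013 (iv4 F101028)) (tt N40018 D65301) (tt N9916 (iv6 D30639)) (tt N40019 D65302))
theorem Q20284 : ∀ i, i < 20284 → P i := stepQ 20283 Q20283 (allL N20283 (tt N9918 F210263) (tt N9920 F210264) (tt N9917 F49099) (tt N40008 (iv3 F101025)) (tt N40014 (iv4 F101030)) (tt N25062 F310032) (tt N17134 (iv6 F312283)) (tt N9916 (iv7 D30640)))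
theorem Q20285 : ∀ i, i < 20285 → P i := stepQ 20284 Q20284 (allL N20284 (tt N17947 (iv1 F312288)) (tt N25172 (iv0 F312289)) (tt N21922 (iv2 F312286)) (tt N9917 (iv3 D30641)) (tt N40020 D65307) (tt N17107 F310033) (tt N17109 (iv6 F312292)) (tt N25150 (iv7 F312294)))
theorem Q20286 : ∀ i, i < 20286 → P i := stepQ 20285 Q20285 (allL N20285 (tt N40010 (iv1 F101027)) (tt N40009 F101031) (tt N40014 (iv2 F101029)) (tt N40021 D65310) (tt N9917 (iv4 D30642)) (tt N40022 D65311) (tt N40023 D65312) (tt N40001 (iv7 F101017)))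
theorem Q20287 : ∀ i, i < 20287 → P i := stepQ 20286 Q20286 (allL N20286 (tt N25100 (iv1 F308002)) (tt N25095 (iv0 F308005)) (tt N25062 (iv2 F308012)) (tt N17107 (iv3 F308013)) (tt N40024 D65313) (tt N9917 (iv5 D30643)) (tt N17102 F306067) (tt N25099 (iv7 F308017)))
theorem Q20288 : ∀ i, i < 20288 → P i := stepQ 20287 Q20287 (allL N20287 (tt N21899 (iv1 F312295)) (tt N36253 (iv0 F312296)) (tt N17134 (iv2 F312282)) (tt N17109 (iv3 F312291)) (tt N40023 (iv4 F101040)) (tt N17103 F310034) (tt N9917 (iv6 D30644)) (tt N17136 (iv7 F312297)))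
theorem Q20289 : ∀ i, i < 20289 → P i := stepQ 20288 Q20288 (allL N20288 (tt N22836 (iv1 F54500)) (tt N22835 F54496) (tt N9919 F49102) (tt N22737 (iv3 F53855)) (tt N40025 D65329) (tt N9918 (iv5 D30647)) (tt N40026 D65330) (tt N22837 (iv7 F54498)))
theorem Q20290 : ∀ i, i < 20290 → P i := stepQ 20289 Q20289 (allL N20289 (tt N22837 (iv1 F54499)) (tt N9919 (iv0 D30648)) (tt N22836 F209826) (tt N40027 D65332) (tt N40028 D65333) (tt N39879 (iv5 F210487)) (tt N34313 (iv6 F310519)) (tt N22835 F209827))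
theorem Q20291 : ∀ i, i < 20291 → P i := stepQ 20290 Q20290 (allL N20290 (tt N9919 (iv1 D30649)) (tt N22837 F54501) (tt N22835 (iv2 F209824)) (tt N21993 (iv3 F310063)) (tt N40029 D65338) (tt N39880 (iv5 F210490)) (tt N21991 F308055) (tt N22836 (iv7 F209825)))
theorem Q20292 : ∀ i, i < 20292 → P i := stepQ 20291 Q20291 (allL N20291 (tt N40030 D65341) (tt N27740 F309084) (tt N40025 (iv2 F101044)) (tt N22822 (iv3 F54482)) (tt N9919 (iv4 D30650)) (tt N40031 D65343) (tt N40032 D65344) (tt N22819 F54480))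
theorem Q20293 : ∀ i, i < 20293 → P i := stepQ 20292 Q20292 (allL N20292 (tt N40033 D65345) (tt N40034 D65346) (tt N40026 (iv2 F101045)) (tt N9922 F49103) (tt N40032 (iv4 F101049)) (tt N10118 F49104) (tt N9919 (iv6 D30651)) (tt N40035 D65347))
theorem Q20294 : ∀ i, i < 20294 → P i := stepQ 20293 Q20293 (allL N20293 (tt N40036 D65348) (tt N40037 D65349) (tt N40000 (iv2 F101009)) (tt N9923 F49105) (tt N39355 (iv4 F100036)) (tt N40038 D65350) (tt N9920 (iv6 D30652)) (tt N10119 F49106))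
theorem Q20295 : ∀ i, i < 20295 → P i := stepQ 20294 Q20294 (allL N20294 (tt N39978 F222425) (tt N25165 (iv0 F309704)) (tt N40039 D65353) (tt N9921 (iv3 D30653)) (tt N40040 D65354) (tt N15298 F49107) (tt N34197 F309105) (tt N22743 (iv7 F53863)))
theorem Q20296 : ∀ i, i < 20296 → P i := stepQ 20295 Q20295 (allL N20295 (tt N22747 (iv1 F53871)) (tt N9922 (iv0 D30655)) (tt N22745 F200020) (tt N22124 (iv3 F311272)) (tt N30560 (iv4 F104785)) (tt N34602 (iv5 F311044)) (tt N22121 F309112) (tt N22746 (iv7 F200024)))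
theorem Q20297 : ∀ i, i < 20297 → P i := stepQ 20296 Q20296 (allL N20296 (tt N9922 (iv1 D30656)) (tt N22747 F53870) (tt N22746 (iv2 F200023)) (tt N40041 D65366) (tt N30561 (iv4 F104782)) (tt N34601 (iv5 F311045)) (tt N40042 D65369) (tt N22745 F200021))
theorem Q20298 : ∀ i, i < 20298 → P i := stepQ 20297 Q20297 (allL N20297 (tt N22746 (iv1 F53866)) (tt N22745 F53869) (tt N22747 (iv2 F53867)) (tt N40035 (iv3 F101050)) (tt N22845 (iv4 F54517)) (tt N10125 F49109) (tt N22841 (iv6 F54506)) (tt N9922 (iv7 D30657)))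
theorem Q20299 : ∀ i, i < 20299 → P i := stepQ 20298 Q20298 (allL N20298 (tt N33463 (iv1 F84841)) (tt N33462 F84840) (tt N22748 (iv2 F53872)) (tt N40038 (iv3 F101054)) (tt N40043 D65370) (tt N9923 (iv5 D30658)) (tt N22840 (iv6 F54504)) (tt N10128 F49110))
theorem Q20300 : ∀ i, i < 20300 → P i := stepQ 20299 Q20299 (allL N20299 (tt N40044 D65371) (tt N35872 (iv0 F166162)) (tt N33254 (iv2 F84327)) (tt N16081 F49111) (tt N31692 (iv4 F81197)) (tt N20299 F49112) (tt N9924 (iv6 D30659)) (tt N31316 (iv7 F80429)))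
theorem Q20301 : ∀ i, i < 20301 → P i := stepQ 20300 Q20300 (allL N20300 (tt N40045 D65373) (tt N40046 D65374) (tt N40047 D65375) (tt N9925 (iv3 D30660)) (tt N36192 (iv4 F94066)) (tt N40048 D65376) (tt N40049 D65377) (tt N19523 F49113))
theorem Q20302 : ∀ i, i < 20302 → P i := stepQ 20301 Q20301 (allL N20301 (tt N36067 (iv1 F93908)) (tt N38404 F98213) (tt N33256 (iv2 F84332)) (tt N40048 (iv3 F101075)) (tt N31652 F81110) (tt N9925 (iv5 D30661)) (tt N40050 D65378) (tt N19524 F49114))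
theorem Q20303 : ∀ i, i < 20303 → P i := stepQ 20302 Q20302 (allL N20302 (tt N40051 D65379) (tt N40052 D65380) (tt N33257 (iv2 F84336)) (tt N40049 (iv3 F101077)) (tt N9926 F49115) (tt N40053 D65381) (tt N9925 (iv6 D30662)) (tt N31563 (iv7 F80900)))
theorem Q20304 : ∀ i, i < 20304 → P i := stepQ 20303 Q20303 (allL N20303 (tt N15828 (iv1 F49116)) (tt N9926 (iv0 D30663)) (tt N10129 (iv2 F168210)) (tt N30163 (iv3 F168211)) (tt N40054 D65384) (tt N40055 D65385) (tt N40056 D65386) (tt N31564 (iv7 F101134)))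
theorem Q20305 : ∀ i, i < 20305 → P i := stepQ 20304 Q20304 (allL N20304 (tt N40057 D65391) (tt N40058 D65392) (tt N40059 D65393) (tt N9927 (iv3 D30665)) (tt N30136 (iv4 F78075)) (tt N40060 D65394) (tt N14191 F329480) (tt N31674 (iv7 F81166)))
theorem Q20306 : ∀ i, i < 20306 → P i := stepQ 20305 Q20305 (allL N20305 (tt N31447 (iv1 F80676)) (tt N31397 (iv0 F80591)) (tt N9939 F49118) (tt N40060 (iv3 F101089)) (tt N31600 (iv4 F80987)) (tt N9927 (iv5 D30666)) (tt N40061 D65396) (tt N31444 (iv7 F80663)))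
theorem Q20307 : ∀ i, i < 20307 → P i := stepQ 20306 Q20306 (allL N20306 (tt N40062 D65397) (tt N40063 D65398) (tt N9940 F49119) (tt N14191 (iv3 F329200)) (tt N9928 F49120) (tt N14173 (iv5 F329222)) (tt N9927 (iv6 D30667)) (tt N14172 F328889))
theorem Q20308 : ∀ i, i < 20308 → P i := stepQ 20307 Q20307 (allL N20307 (tt N9943 (iv1 F49125)) (tt N9928 (iv0 D30668)) (tt N9941 F101210) (tt N33064 (iv3 F111300)) (tt N40064 D65403) (tt N16669 F49121) (tt N31539 (iv6 F80854)) (tt N9942 F101211))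
theorem Q20309 : ∀ i, i < 20309 → P i := stepQ 20308 Q20308 (allL N20308 (tt N9928 (iv1 D30669)) (tt N9943 F49122) (tt N9942 (iv2 F101205)) (tt N35812 (iv3 F111178)) (tt N40065 D65406) (tt N16668 (iv5 F49123)) (tt N40066 D65407) (tt N9941 (iv7 F101209)))
theorem Q20310 : ∀ i, i < 20310 → P i := stepQ 20309 Q20309 (allL N20309 (tt N9942 (iv1 F49126)) (tt N9941 F49127) (tt N9943 F49124) (tt N30139 (iv3 F78085)) (tt N14172 F328886) (tt N30756 (iv5 F79386)) (tt N31677 (iv6 F81178)) (tt N9928 (iv7 D30670)))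
theorem Q20311 : ∀ i, i < 20311 → P i := stepQ 20310 Q20310 (allL N20310 (tt N9931 (iv1 D30671)) (tt N9934 F49128) (tt N15747 F49131) (tt N40067 D65408) (tt N15735 (iv4 F49130)) (tt N38404 (iv5 F98210)) (tt N40068 D65409) (tt N15754 F49129))
theorem Q20312 : ∀ i, i < 20312 → P i := stepQ 20311 Q20311 (allL N20311 (tt N40069 D65410) (tt N40070 D65411) (tt N40071 D65412) (tt N9931 (iv3 D30672)) (tt N33524 (iv4 F85043)) (tt N40072 D65413) (tt N40073 D65414) (tt N33258 (iv7 F84340)))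
theorem Q20313 : ∀ i, i < 20313 → P i := stepQ 20312 Q20312 (allL N20312 (tt N31422 (iv1 F80637)) (tt N31430 (iv0 F80644)) (tt N30907 (iv2 F79662)) (tt N40072 (iv3 F101111)) (tt N31644 (iv4 F81099)) (tt N9931 (iv5 D30673)) (tt N40074 D65415) (tt N33259 (iv7 F84343)))
theorem Q20314 : ∀ i, i < 20314 → P i := stepQ 20313 Q20313 (allL N20313 (tt N40075 D65416) (tt N40076 D65417) (tt N30904 (iv2 F79653)) (tt N40073 (iv3 F101112)) (tt N9932 F49132) (tt N40077 D65418) (tt N9931 (iv6 D30674)) (tt N40078 D65419))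
theorem Q20315 : ∀ i, i < 20315 → P i := stepQ 20314 Q20314 (allL N20314 (tt N30905 (iv1 F79660)) (tt N9932 (iv0 D30675)) (tt N30902 (iv2 F81225)) (tt N33215 (iv3 F168311)) (tt N40079 D65421) (tt N40080 D65422) (tt N40081 D65423) (tt N30903 (iv7 F81227)))
theorem Q20316 : ∀ i, i < 20316 → P i := stepQ 20315 Q20315 (allL N20315 (tt N9932 (iv1 D30676)) (tt N30905 F79659) (tt N30903 F81226) (tt N9956 (iv3 F168262)) (tt N40082 D65425) (tt N30953 (iv5 F79712)) (tt N37436 (iv6 F168252)) (tt N30902 F81224))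
theorem Q20317 : ∀ i, i < 20317 → P i := stepQ 20316 Q20316 (allL N20316 (tt N30903 (iv1 F79652)) (tt N30902 F79658) (tt N30905 (iv2 F79655)) (tt N38191 (iv3 F97619)) (tt N40078 (iv4 F101113)) (tt N30788 (iv5 F79467)) (tt N22681 F53596) (tt N9932 (iv7 D30677)))
theorem Q20318 : ∀ i, i < 20318 → P i := stepQ 20317 Q20317 (allL N20317 (tt N29611 (iv1 F76799)) (tt N29613 (iv0 F76805)) (tt N29631 F76864) (tt N40083 D65426) (tt N9933 (iv4 D30678)) (tt N40084 D65427) (tt N40085 D65428) (tt N29630 F76861))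
theorem Q20319 : ∀ i, i < 20319 → P i := stepQ 20318 Q20318 (allL N20318 (tt N30173 F78149) (tt N40086 D65429) (tt N30241 (iv2 F78233)) (tt N9935 F49133) (tt N40085 (iv4 F101147)) (tt N32985 (iv5 F83826)) (tt N9933 (iv6 D30679)) (tt N40087 D65430))
theorem Q20320 : ∀ i, i < 20320 → P i := stepQ 20319 Q20319 (allL N20319 (tt N40088 D65431) (tt N40089 D65432) (tt N40090 D65433) (tt N9934 (iv3 D30680)) (tt N40083 (iv4 F101143)) (tt N40091 D65434) (tt N40092 D65435) (tt N30906 (iv7 F79661)))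
theorem Q20321 : ∀ i, i < 20321 → P i := stepQ 20320 Q20320 (allL N20320 (tt N31430 (iv1 F80645)) (tt N31422 (iv0 F80636)) (tt N33259 (iv2 F84341)) (tt N40091 (iv3 F101151)) (tt N31641 (iv4 F81095)) (tt N9934 (iv5 D30681)) (tt N40093 D65436) (tt N30907 (iv7 F79663)))
theorem Q20322 : ∀ i, i < 20322 → P i := stepQ 20321 Q20321 (allL N20321 (tt N38465 F98345) (tt N40094 D65437) (tt N33260 (iv2 F84344)) (tt N40092 (iv3 F101152)) (tt N9935 F49134) (tt N40095 D65438) (tt N9934 (iv6 D30682)) (tt N40096 D65439))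
theorem Q20323 : ∀ i, i < 20323 → P i := stepQ 20322 Q20322 (allL N20322 (tt N9935 (iv1 D30683)) (tt N22681 F53597) (tt N22682 (iv2 F53598)) (tt N30750 (iv3 F79367)) (tt N40097 D65440) (tt N38724 (iv5 F98699)) (tt N31541 (iv6 F80861)) (tt N15818 F49135))
theorem Q20324 : ∀ i, i < 20324 → P i := stepQ 20323 Q20323 (allL N20323 (tt N22682 (iv1 F53602)) (tt N15818 F53594) (tt N22681 F53592) (tt N40087 (iv3 F101150)) (tt N40096 (iv4 F101153)) (tt N38417 (iv5 F98252)) (tt N30905 (iv6 F79657)) (tt N9935 (iv7 D30684)))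
theorem Q20325 : ∀ i, i < 20325 → P i := stepQ 20324 Q20324 (allL N20324 (tt N40098 D65441) (tt N40099 D65442) (tt N40100 D65443) (tt N9936 (iv3 D30685)) (tt N39117 (iv4 F99432)) (tt N40101 D65444) (tt N40102 D65445) (tt N33261 (iv7 F84347)))
theorem Q20326 : ∀ i, i < 20326 → P i := stepQ 20325 Q20325 (allL N20325 (tt N20521 (iv1 F49374)) (tt N16729 F49136) (tt N20534 F49392) (tt N40101 (iv3 F101157)) (tt N31638 (iv4 F81088)) (tt N9936 (iv5 D30686)) (tt N40103 D65446) (tt N20533 F49388))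
theorem Q20327 : ∀ i, i < 20327 → P i := stepQ 20326 Q20326 (allL N20326 (tt N40079 (iv1 F168883)) (tt N40082 (iv0 F101535)) (tt N33264 (iv2 F84352)) (tt N40102 (iv3 F101158)) (tt N31406 (iv4 F80615)) (tt N40104 D65449) (tt N9936 (iv6 D30687)) (tt N40105 D65450))
theorem Q20328 : ∀ i, i < 20328 → P i := stepQ 20327 Q20327 (allL N20327 (tt N40106 D65451) (tt N40107 D65452) (tt N40108 D65453) (tt N9937 (iv3 D30688)) (tt N21010 (iv4 F50023)) (tt N40109 D65454) (tt N40110 D65455) (tt N33263 (iv7 F84351)))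
theorem Q20329 : ∀ i, i < 20329 → P i := stepQ 20328 Q20328 (allL N20328 (tt N16729 F49137) (tt N20521 (iv0 F49373)) (tt N20533 F49387) (tt N40109 (iv3 F101160)) (tt N31632 (iv4 F81072)) (tt N9937 (iv5 D30689)) (tt N40111 D65456) (tt N20534 (iv7 F49390)))
theorem Q20330 : ∀ i, i < 20330 → P i := stepQ 20329 Q20329 (allL N20329 (tt N22680 F53625) (tt N40097 F101155) (tt N33262 (iv2 F84348)) (tt N40110 (iv3 F101161)) (tt N21009 (iv4 F50021)) (tt N40112 D65457) (tt N9937 (iv6 D30690)) (tt N40113 D65458))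
theorem Q20331 : ∀ i, i < 20331 → P i := stepQ 20330 Q20330 (allL N20330 (tt N33267 (iv1 F84358)) (tt N9938 (iv0 D30691)) (tt N33266 F183033) (tt N40114 D65460) (tt N40115 D65461) (tt N40116 D65462) (tt N40117 D65463) (tt N33265 F183034))
theorem Q20332 : ∀ i, i < 20332 → P i := stepQ 20331 Q20331 (allL N20331 (tt N9938 (iv1 D30692)) (tt N33267 F84360) (tt N33265 (iv2 F183032)) (tt N40118 D65465) (tt N33541 (iv4 F85077)) (tt N40119 D65466) (tt N40120 D65467) (tt N33266 (iv7 F183031)))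
theorem Q20333 : ∀ i, i < 20333 → P i := stepQ 20332 Q20332 (allL N20332 (tt N33266 (iv1 F84359)) (tt N33265 F84354) (tt N9938 (iv2 D30693)) (tt N40059 (iv3 F101088)) (tt N9969 F49138) (tt N40121 D65468) (tt N40122 D65469) (tt N33267 (iv7 F84357)))
theorem Q20334 : ∀ i, i < 20334 → P i := stepQ 20333 Q20333 (allL N20333 (tt N40123 D65470) (tt N40124 D65471) (tt N40121 (iv2 F101165)) (tt N9939 F49139) (tt N40125 D65472) (tt N9938 (iv5 D30694)) (tt N40126 D65473) (tt N33268 (iv7 F84362)))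
theorem Q20335 : ∀ i, i < 20335 → P i := stepQ 20334 Q20334 (allL N20334 (tt N34360 (iv1 F322097)) (tt N40127 D65475) (tt N40122 (iv2 F101166)) (tt N9940 F49140) (tt N9971 F49141) (tt N40128 D65476) (tt N9938 (iv6 D30695)) (tt N21891 (iv7 F320856)))
theorem Q20336 : ∀ i, i < 20336 → P i := stepQ 20335 Q20335 (allL N20335 (tt N40129 D65478) (tt N40130 D65479) (tt N40061 (iv2 F101091)) (tt N40126 (iv3 F101168)) (tt N31683 (iv4 F81183)) (tt N40131 D65480) (tt N9939 (iv6 D30696)) (tt N40132 D65481))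
theorem Q20337 : ∀ i, i < 20337 → P i := stepQ 20336 Q20336 (allL N20336 (tt N14172 F328888) (tt N9940 (iv0 D30697)) (tt N40062 (iv2 F103516)) (tt N40133 D65483) (tt N31410 (iv4 F111417)) (tt N40134 D65485) (tt N39871 (iv6 F171767)) (tt N40063 (iv7 F103519)))
theorem Q20338 : ∀ i, i < 20338 → P i := stepQ 20337 Q20337 (allL N20337 (tt N9940 (iv1 D30698)) (tt N14172 F328887) (tt N40063 (iv2 F103518)) (tt N40135 D65488) (tt N31411 (iv4 F111413)) (tt N40136 D65489) (tt N40137 D65490) (tt N40062 (iv7 F103517)))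
theorem Q20339 : ∀ i, i < 20339 → P i := stepQ 20338 Q20338 (allL N20338 (tt N14171 (iv1 F329220)) (tt N14170 (iv0 F329219)) (tt N14173 (iv2 F329221)) (tt N40128 (iv3 F101169)) (tt N40138 D65493) (tt N9940 (iv5 D30699)) (tt N40131 (iv6 F101172)) (tt N14168 F328896))
theorem Q20340 : ∀ i, i < 20340 → P i := stepQ 20339 Q20339 (allL N20339 (tt N40063 (iv1 F101092)) (tt N40062 F101096) (tt N14172 (iv2 F328501)) (tt N21891 F322220) (tt N9943 F49142) (tt N14168 (iv5 F328503)) (tt N24396 F328063) (tt N9940 (iv7 D30700)))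
theorem Q20341 : ∀ i, i < 20341 → P i := stepQ 20340 Q20340 (allL N20340 (tt N39115 (iv1 F111254)) (tt N19993 (iv0 F111255)) (tt N35814 (iv2 F111186)) (tt N9941 (iv3 D30702)) (tt N40139 D65503) (tt N15097 (iv5 F111256)) (tt N18911 (iv6 F111257)) (tt N35812 (iv7 F111180)))
theorem Q20342 : ∀ i, i < 20342 → P i := stepQ 20341 Q20341 (allL N20341 (tt N25811 F329510) (tt N40068 (iv0 F101949)) (tt N40064 (iv2 F101215)) (tt N40140 D65508) (tt N9941 (iv4 D30703)) (tt N40141 D65509) (tt N39875 (iv6 F100775)) (tt N40065 (iv7 F101208)))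
theorem Q20343 : ∀ i, i < 20343 → P i := stepQ 20342 Q20342 (allL N20342 (tt N15050 F49144) (tt N16670 F49146) (tt N16669 (iv2 F101217)) (tt N15097 F111259) (tt N40142 D65511) (tt N9941 (iv5 D30704)) (tt N40143 D65512) (tt N16668 F101213))
theorem Q20344 : ∀ i, i < 20344 → P i := stepQ 20343 Q20343 (allL N20343 (tt N15507 (iv1 F111291)) (tt N33066 (iv0 F111292)) (tt N33065 (iv2 F111302)) (tt N9942 (iv3 D30706)) (tt N40144 D65518) (tt N19986 F111290) (tt N40145 D65520) (tt N33064 (iv7 F111301)))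
theorem Q20345 : ∀ i, i < 20345 → P i := stepQ 20344 Q20344 (allL N20344 (tt N40068 (iv1 F101950)) (tt N25811 F329679) (tt N40065 (iv2 F101207)) (tt N40146 D65521) (tt N9942 (iv4 D30707)) (tt N40147 D65522) (tt N40148 D65523) (tt N40064 (iv7 F101216)))
theorem Q20346 : ∀ i, i < 20346 → P i := stepQ 20345 Q20345 (allL N20345 (tt N16670 (iv1 F78087)) (tt N15050 (iv0 F49148)) (tt N16668 F101212) (tt N19986 F111288) (tt N40149 D65524) (tt N9942 (iv5 D30708)) (tt N30704 (iv6 F79260)) (tt N16669 (iv7 F101218)))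
theorem Q20347 : ∀ i, i < 20347 → P i := stepQ 20346 Q20346 (allL N20346 (tt N20769 F168232) (tt N40081 (iv0 F101141)) (tt N40066 (iv2 F101204)) (tt N40145 (iv3 F101197)) (tt N40148 (iv4 F101198)) (tt N39878 (iv5 F100777)) (tt N9942 (iv6 D30709)) (tt N39878 (iv7 F100778)))
theorem Q20348 : ∀ i, i < 20348 → P i := stepQ 20347 Q20347 (allL N20347 (tt N9947 (iv1 F49152)) (tt N9944 (iv0 D30710)) (tt N18045 (iv2 F49151)) (tt N18788 (iv3 F49154)) (tt N15749 F49150) (tt N15347 F49149) (tt N30928 (iv6 F79687)) (tt N15745 F49153))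
theorem Q20349 : ∀ i, i < 20349 → P i := stepQ 20348 Q20348 (allL N20348 (tt N30595 (iv1 F78957)) (tt N36721 (iv0 F95115)) (tt N19573 F49155) (tt N40150 D65526) (tt N9945 (iv4 D30711)) (tt N40151 D65527) (tt N40152 D65528) (tt N20218 F49156))
theorem Q20350 : ∀ i, i < 20350 → P i := stepQ 20349 Q20349 (allL N20349 (tt N40153 D65529) (tt N38259 (iv0 F163937)) (tt N19571 F49157) (tt N36769 (iv3 F95177)) (tt N40152 (iv4 F101249)) (tt N19533 F49158) (tt N9945 (iv6 D30712)) (tt N20471 (iv7 F49331)))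
theorem Q20351 : ∀ i, i < 20351 → P i := stepQ 20350 Q20350 (allL N20350 (tt N18028 F49161) (tt N18788 (iv0 F49163)) (tt N29627 (iv2 F76849)) (tt N15701 F49162) (tt N9946 (iv4 D30713)) (tt N19223 F49160) (tt N15699 F49164) (tt N16051 F49159))
theorem Q20352 : ∀ i, i < 20352 → P i := stepQ 20351 Q20351 (allL N20351 (tt N15111 F49169) (tt N15103 (iv0 F49171)) (tt N15108 F49165) (tt N9949 F49166) (tt N15699 F49167) (tt N15393 F49170) (tt N9946 (iv6 D30714)) (tt N15109 F49168))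
theorem Q20353 : ∀ i, i < 20353 → P i := stepQ 20352 Q20352 (allL N20352 (tt N29516 F76571) (tt N29519 F76584) (tt N16054 F49172) (tt N9947 (iv3 D30715)) (tt N15701 F49173) (tt N19139 F49174) (tt N15700 (iv6 F49176)) (tt N16052 F49175))
theorem Q20354 : ∀ i, i < 20354 → P i := stepQ 20353 Q20353 (allL N20353 (tt N19550 F49181) (tt N18294 (iv0 F49183)) (tt N15462 F49177) (tt N15700 F49178) (tt N9949 F49179) (tt N20145 (iv5 F49182)) (tt N9947 (iv6 D30716)) (tt N15473 F49180))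
theorem Q20355 : ∀ i, i < 20355 → P i := stepQ 20354 Q20354 (allL N20354 (tt N36721 (iv1 F95116)) (tt N30595 (iv0 F78956)) (tt N20218 F49184) (tt N40154 D65531) (tt N9948 (iv4 D30717)) (tt N40155 D65532) (tt N20473 (iv6 F49336)) (tt N19573 F49185))
theorem Q20356 : ∀ i, i < 20356 → P i := stepQ 20355 Q20355 (allL N20355 (tt N30208 (iv1 F78182)) (tt N9950 (iv0 D30718)) (tt N30871 (iv2 F79615)) (tt N40156 D65533) (tt N15750 F49186) (tt N33059 (iv5 F84009)) (tt N40157 D65534) (tt N32229 (iv7 F82574)))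
theorem Q20357 : ∀ i, i < 20357 → P i := stepQ 20356 Q20356 (allL N20356 (tt N40158 D65535) (tt N40159 D65536) (tt N40160 D65537) (tt N9950 (iv3 D30719)) (tt N9952 F49187) (tt N40161 D65538) (tt N40162 D65539) (tt N33073 (iv7 F84042)))
theorem Q20358 : ∀ i, i < 20358 → P i := stepQ 20357 Q20357 (allL N20357 (tt N16640 F49188) (tt N16644 F49189) (tt N33068 (iv2 F84026)) (tt N40161 (iv3 F101269)) (tt N31275 (iv4 F80321)) (tt N9950 (iv5 D30720)) (tt N40163 D65540) (tt N33074 (iv7 F84044)))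
theorem Q20359 : ∀ i, i < 20359 → P i := stepQ 20358 Q20358 (allL N20358 (tt N40164 D65541) (tt N40165 D65542) (tt N33069 (iv2 F84030)) (tt N40162 (iv3 F101270)) (tt N9951 F49190) (tt N40166 D65543) (tt N9950 (iv6 D30721)) (tt N40167 D65544))
theorem Q20360 : ∀ i, i < 20360 → P i := stepQ 20359 Q20359 (allL N20359 (tt N33072 (iv1 F84040)) (tt N9951 (iv0 D30722)) (tt N33070 F99258) (tt N40168 D65545) (tt N40169 D65546) (tt N40170 D65547) (tt N40171 D65548) (tt N33071 F99256))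
theorem Q20361 : ∀ i, i < 20361 → P i := stepQ 20360 Q20360 (allL N20360 (tt N9951 (iv1 D30723)) (tt N33072 F84039) (tt N33071 (iv2 F99255)) (tt N30218 F165612) (tt N40172 D65550) (tt N40173 D65551) (tt N37416 (iv6 F99246)) (tt N33070 (iv7 F99257)))
theorem Q20362 : ∀ i, i < 20362 → P i := stepQ 20361 Q20361 (allL N20361 (tt N33071 (iv1 F84034)) (tt N33070 (iv0 F84033)) (tt N33072 (iv2 F84036)) (tt N9957 F49191) (tt N40167 (iv4 F101272)) (tt N15962 F49192) (tt N22621 (iv6 F53462)) (tt N9951 (iv7 D30724)))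
theorem Q20363 : ∀ i, i < 20363 → P i := stepQ 20362 Q20362 (allL N20362 (tt N33240 (iv1 F84257)) (tt N9952 (iv0 D30725)) (tt N33239 (iv2 F173388)) (tt N33453 (iv3 F320095)) (tt N40174 D65554) (tt N10450 F105785) (tt N33550 F318241) (tt N33238 (iv7 F173380)))
theorem Q20364 : ∀ i, i < 20364 → P i := stepQ 20363 Q20363 (allL N20363 (tt N9952 (iv1 D30726)) (tt N33240 F84259) (tt N33238 (iv2 F173379)) (tt N40175 D65558) (tt N40176 D65559) (tt N10451 (iv5 F105788)) (tt N10838 (iv6 F320494)) (tt N33239 (iv7 F173389)))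
theorem Q20365 : ∀ i, i < 20365 → P i := stepQ 20364 Q20364 (allL N20364 (tt N33239 (iv1 F84258)) (tt N33238 F84254) (tt N9952 (iv2 D30727)) (tt N31116 (iv3 F79963)) (tt N40160 (iv4 F101268)) (tt N40177 D65562) (tt N40178 D65563) (tt N33240 (iv7 F84256)))
theorem Q20366 : ∀ i, i < 20366 → P i := stepQ 20365 Q20365 (allL N20365 (tt N16763 F175005) (tt N16768 (iv0 F175006)) (tt N40177 (iv2 F101285)) (tt N9953 F49193) (tt N40179 D65566) (tt N9952 (iv5 D30728)) (tt N40180 D65567) (tt N20660 (iv7 F49500)))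
theorem Q20367 : ∀ i, i < 20367 → P i := stepQ 20366 Q20366 (allL N20366 (tt N40181 D65568) (tt N40182 D65569) (tt N40178 (iv2 F101286)) (tt N9954 F49194) (tt N40162 (iv4 F101271)) (tt N33749 F318281) (tt N9952 (iv6 D30729)) (tt N40183 D65571))
theorem Q20368 : ∀ i, i < 20368 → P i := stepQ 20367 Q20367 (allL N20367 (tt N40184 D65572) (tt N40185 D65573) (tt N20663 (iv2 F49505)) (tt N40180 (iv3 F101288)) (tt N10207 F49195) (tt N40186 D65574) (tt N9953 (iv6 D30730)) (tt N40187 D65575))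
theorem Q20369 : ∀ i, i < 20369 → P i := stepQ 20368 Q20368 (allL N20368 (tt N31113 (iv1 F79961)) (tt N9954 (iv0 D30731)) (tt N31109 F79950) (tt N40188 D65576) (tt N10172 F79951) (tt N40189 D65577) (tt N34055 F313676) (tt N31110 F79952))
theorem Q20370 : ∀ i, i < 20370 → P i := stepQ 20369 Q20369 (allL N20369 (tt N9954 (iv1 D30732)) (tt N31113 F79960) (tt N31110 F79945) (tt N40190 D65579) (tt N10173 F49196) (tt N40191 D65580) (tt N21408 F313675) (tt N31109 (iv7 F79949)))
theorem Q20371 : ∀ i, i < 20371 → P i := stepQ 20370 Q20370 (allL N20370 (tt N33580 F315528) (tt N20271 F49197) (tt N31112 (iv2 F79955)) (tt N33749 (iv3 F317762)) (tt N24646 F324810) (tt N9954 (iv5 D30733)) (tt N40186 (iv6 F101292)) (tt N40192 D65583))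
theorem Q20372 : ∀ i, i < 20372 → P i := stepQ 20371 Q20371 (allL N20371 (tt N31110 (iv1 F79943)) (tt N31109 F79953) (tt N31113 (iv2 F79957)) (tt N40183 (iv3 F101290)) (tt N9957 F49198) (tt N40192 (iv5 F101339)) (tt N22688 (iv6 F53616)) (tt N9954 (iv7 D30734)))
theorem Q20373 : ∀ i, i < 20373 → P i := stepQ 20372 Q20372 (allL N20372 (tt N33216 (iv1 F163958)) (tt N9997 (iv0 F163959)) (tt N33215 (iv2 F163960)) (tt N9955 (iv3 D30735)) (tt N40193 D65587) (tt N30932 F163942) (tt N20776 F49592) (tt N31108 (iv7 F79942)))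
theorem Q20374 : ∀ i, i < 20374 → P i := stepQ 20373 Q20373 (allL N20373 (tt N20857 (iv1 F49712)) (tt N9963 F49705) (tt N20854 F49702) (tt N40194 D65588) (tt N9955 (iv4 D30736)) (tt N40195 D65589) (tt N20780 (iv6 F49596)) (tt N20855 F49701))
theorem Q20375 : ∀ i, i < 20375 → P i := stepQ 20374 Q20374 (allL N20374 (tt N9963 F49199) (tt N20857 F49711) (tt N20855 F49700) (tt N40196 D65594) (tt N9956 (iv4 D30738)) (tt N40197 D65595) (tt N33502 F316344) (tt N20854 (iv7 F49704)))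
theorem Q20376 : ∀ i, i < 20376 → P i := stepQ 20375 Q20375 (allL N20375 (tt N31116 (iv1 F79965)) (tt N9958 (iv0 D30739)) (tt N31115 F205099) (tt N40198 D65597) (tt N40199 D65598) (tt N10115 (iv5 F103146)) (tt N23338 F316927) (tt N31114 F205100))
theorem Q20377 : ∀ i, i < 20377 → P i := stepQ 20376 Q20376 (allL N20376 (tt N9958 (iv1 D30740)) (tt N31116 F79967) (tt N31114 (iv2 F205092)) (tt N40200 D65602) (tt N40201 D65603) (tt N10116 F103142) (tt N40202 D65605) (tt N31115 (iv7 F205095)))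
theorem Q20378 : ∀ i, i < 20378 → P i := stepQ 20377 Q20377 (allL N20377 (tt N31115 (iv1 F79966)) (tt N31114 F79962) (tt N9958 (iv2 D30741)) (tt N33240 (iv3 F84255)) (tt N39430 (iv4 F100285)) (tt N20708 F103079) (tt N40203 D65607) (tt N31116 (iv7 F79964)))
theorem Q20379 : ∀ i, i < 20379 → P i := stepQ 20378 Q20378 (allL N20378 (tt N20711 F220971) (tt N20694 (iv0 F220972)) (tt N20708 (iv2 F103076)) (tt N9959 F49200) (tt N40204 D65610) (tt N9958 (iv5 D30742)) (tt N40205 D65611) (tt N20662 (iv7 F49504)))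
theorem Q20380 : ∀ i, i < 20380 → P i := stepQ 20379 Q20379 (allL N20379 (tt N40206 D65612) (tt N40207 D65613) (tt N40203 (iv2 F101345)) (tt N9960 F49201) (tt N39432 (iv4 F100288)) (tt N40208 D65614) (tt N9958 (iv6 D30743)) (tt N39921 (iv7 F100868)))
theorem Q20381 : ∀ i, i < 20381 → P i := stepQ 20380 Q20380 (allL N20380 (tt N23359 (iv1 F311582)) (tt N17455 (iv0 F311584)) (tt N20661 (iv2 F49501)) (tt N40205 (iv3 F101347)) (tt N10202 F49202) (tt N40209 D65617) (tt N9959 (iv6 D30744)) (tt N23358 (iv7 F309347)))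
theorem Q20382 : ∀ i, i < 20382 → P i := stepQ 20381 Q20381 (allL N20381 (tt N9960 (iv1 D30745)) (tt N22688 F53619) (tt N22775 (iv2 F53929)) (tt N40210 D65619) (tt N10180 (iv4 F49204)) (tt N30518 F309122) (tt N10846 (iv6 F311302)) (tt N15305 F49203))
theorem Q20383 : ∀ i, i < 20383 → P i := stepQ 20382 Q20382 (allL N20382 (tt N40211 D65621) (tt N40212 D65622) (tt N33242 (iv2 F84261)) (tt N40208 (iv3 F101348)) (tt N40213 D65623) (tt N9960 (iv5 D30746)) (tt N40209 (iv6 F101355)) (tt N39922 (iv7 F100869)))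
theorem Q20384 : ∀ i, i < 20384 → P i := stepQ 20383 Q20383 (allL N20383 (tt N20871 (iv1 F49738)) (tt N9961 (iv0 D30747)) (tt N20870 (iv2 F162342)) (tt N40214 D65625) (tt N40215 D65626) (tt N18460 F94441) (tt N40216 D65627) (tt N20869 F162341))
theorem Q20385 : ∀ i, i < 20385 → P i := stepQ 20384 Q20384 (allL N20384 (tt N9961 (iv1 D30748)) (tt N20871 F49740) (tt N20869 F162340) (tt N40217 D65629) (tt N40218 D65630) (tt N18461 F101363) (tt N17049 F322610) (tt N20870 (iv7 F162343)))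
theorem Q20386 : ∀ i, i < 20386 → P i := stepQ 20385 Q20385 (allL N20385 (tt N20870 (iv1 F49739)) (tt N20869 F49735) (tt N9961 (iv2 D30749)) (tt N20852 (iv3 F49692)) (tt N40219 D65632) (tt N40220 D65633) (tt N40221 D65634) (tt N20871 (iv7 F49737)))
theorem Q20387 : ∀ i, i < 20387 → P i := stepQ 20386 Q20386 (allL N20386 (tt N40222 D65635) (tt N40223 D65636) (tt N40219 (iv2 F101368)) (tt N16102 F49209) (tt N9961 (iv4 D30750)) (tt N40224 D65637) (tt N40225 D65638) (tt N20863 (iv7 F49727)))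
theorem Q20388 : ∀ i, i < 20388 → P i := stepQ 20387 Q20387 (allL N20387 (tt N29692 F162318) (tt N29696 (iv0 F162319)) (tt N40220 (iv2 F101369)) (tt N9962 F49210) (tt N40226 D65641) (tt N9961 (iv5 D30751)) (tt N40227 D65642) (tt N20570 (iv7 F49421)))
theorem Q20389 : ∀ i, i < 20389 → P i := stepQ 20388 Q20388 (allL N20388 (tt N40228 D65643) (tt N40229 D65644) (tt N40221 (iv2 F101370)) (tt N9963 F49211) (tt N40225 (iv4 F101374)) (tt N40230 D65645) (tt N9961 (iv6 D30752)) (tt N40231 D65646))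
theorem Q20390 : ∀ i, i < 20390 → P i := stepQ 20389 Q20389 (allL N20389 (tt N40232 D65647) (tt N36217 F321565) (tt N20573 (iv2 F49426)) (tt N40227 (iv3 F101376)) (tt N10307 F49212) (tt N40233 D65649) (tt N9962 (iv6 D30753)) (tt N40234 D65650))
theorem Q20391 : ∀ i, i < 20391 → P i := stepQ 20390 Q20390 (allL N20390 (tt N21086 F315610) (tt N20249 F49213) (tt N20856 (iv2 F49707)) (tt N40230 (iv3 F101377)) (tt N34714 F320073) (tt N9963 (iv5 D30755)) (tt N40233 (iv6 F101379)) (tt N40235 D65653))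
theorem Q20392 : ∀ i, i < 20392 → P i := stepQ 20391 Q20391 (allL N20391 (tt N20855 (iv1 F49698)) (tt N20854 F49706) (tt N20857 (iv2 F49708)) (tt N40231 (iv3 F101378)) (tt N16106 F49214) (tt N40235 (iv5 F101386)) (tt N20875 (iv6 F49761)) (tt N9963 (iv7 D30756)))
theorem Q20393 : ∀ i, i < 20393 → P i := stepQ 20392 Q20392 (allL N20392 (tt N20852 (iv1 F49694)) (tt N9964 (iv0 D30757)) (tt N20851 (iv2 F177231)) (tt N40236 D65655) (tt N40237 D65656) (tt N10584 F318745) (tt N10585 F322634) (tt N20850 (iv7 F177232)))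
theorem Q20394 : ∀ i, i < 20394 → P i := stepQ 20393 Q20393 (allL N20393 (tt N9964 (iv1 D30758)) (tt N20852 F49696) (tt N20850 F177234) (tt N40238 D65660) (tt N40239 D65661) (tt N10014 F318778) (tt N10017 F318779) (tt N20851 F177235))
theorem Q20395 : ∀ i, i < 20395 → P i := stepQ 20394 Q20394 (allL N20394 (tt N20851 (iv1 F49695)) (tt N20850 F49691) (tt N9964 (iv2 D30759)) (tt N20871 (iv3 F49736)) (tt N20591 (iv4 F320311)) (tt N36216 (iv5 F204429)) (tt N40240 D65666) (tt N20852 (iv7 F49693)))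
theorem Q20396 : ∀ i, i < 20396 → P i := stepQ 20395 Q20395 (allL N20395 (tt N40241 D65667) (tt N40242 D65668) (tt N20591 F320411) (tt N16793 F49215) (tt N9964 (iv4 D30760)) (tt N16726 (iv5 F322106)) (tt N40243 D65670) (tt N20844 (iv7 F49684)))
theorem Q20397 : ∀ i, i < 20397 → P i := stepQ 20396 Q20396 (allL N20396 (tt N36218 F220554) (tt N36208 (iv0 F220555)) (tt N36216 (iv2 F204427)) (tt N9965 F49216) (tt N20582 (iv4 F319609)) (tt N9964 (iv5 D30761)) (tt N22510 (iv6 F317615)) (tt N20572 (iv7 F49425)))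
theorem Q20398 : ∀ i, i < 20398 → P i := stepQ 20397 Q20397 (allL N20397 (tt N25209 F313990) (tt N40244 D65676) (tt N40240 (iv2 F101393)) (tt N9966 F49217) (tt N40243 (iv4 F101397)) (tt N40245 D65677) (tt N9964 (iv6 D30762)) (tt N39919 (iv7 F100864)))
theorem Q20399 : ∀ i, i < 20399 → P i := stepQ 20398 Q20398 (allL N20398 (tt N22528 F53298) (tt N10588 F313559) (tt N20571 (iv2 F49422)) (tt N22510 (iv3 F317614)) (tt N10309 F49218) (tt N40246 D65679) (tt N9965 (iv6 D30763)) (tt N33833 (iv7 F314039)))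
theorem Q20400 : ∀ i, i < 20400 → P i := stepQ 20399 Q20399 (allL N20399 (tt N40247 D65681) (tt N40248 D65682) (tt N20874 (iv2 F49758)) (tt N40245 (iv3 F101400)) (tt N40249 D65683) (tt N9966 (iv5 D30764)) (tt N40246 (iv6 F101405)) (tt N39920 (iv7 F100865)))
theorem Q20401 : ∀ i, i < 20401 → P i := stepQ 20400 Q20400 (allL N20400 (tt N40238 (iv1 F180285)) (tt N40250 D65691) (tt N40251 D65692) (tt N9967 (iv3 D30767)) (tt N21023 F50034) (tt N40252 D65693) (tt N40253 D65694) (tt N33275 F180656))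
theorem Q20402 : ∀ i, i < 20402 → P i := stepQ 20401 Q20401 (allL N20401 (tt N40254 D65696) (tt N40255 D65697) (tt N33279 F180657) (tt N40256 D65698) (tt N9967 (iv4 D30768)) (tt N40257 D65699) (tt N40258 D65700) (tt N33276 F180658))
theorem Q20403 : ∀ i, i < 20403 → P i := stepQ 20402 Q20402 (allL N20402 (tt N20560 (iv1 F181586)) (tt N16737 (iv0 F181587)) (tt N20563 (iv2 F181546)) (tt N40252 (iv3 F101417)) (tt N40259 D65704) (tt N9967 (iv5 D30769)) (tt N40260 D65705) (tt N20562 F181545))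
theorem Q20404 : ∀ i, i < 20404 → P i := stepQ 20403 Q20403 (allL N20403 (tt N40261 D65707) (tt N40196 (iv0 F335043)) (tt N33280 F180661) (tt N40253 (iv3 F101418)) (tt N40258 (iv4 F101422)) (tt N40262 D65709) (tt N9967 (iv6 D30770)) (tt N40263 D65710))
theorem Q20405 : ∀ i, i < 20405 → P i := stepQ 20404 Q20404 (allL N20404 (tt N40264 D65712) (tt N40214 (iv0 F179600)) (tt N40265 D65714) (tt N9968 (iv3 D30772)) (tt N40266 D65715) (tt N40267 D65716) (tt N40268 D65717) (tt N33278 (iv7 F180646)))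
theorem Q20406 : ∀ i, i < 20406 → P i := stepQ 20405 Q20405 (allL N20405 (tt N40255 (iv1 F101421)) (tt N40254 F101425) (tt N33276 (iv2 F180651)) (tt N40269 D65718) (tt N9968 (iv4 D30773)) (tt N40270 D65719) (tt N40271 D65720) (tt N33279 (iv7 F180654)))
theorem Q20407 : ∀ i, i < 20407 → P i := stepQ 20406 Q20406 (allL N20406 (tt N16737 F181588) (tt N20560 F181589) (tt N20562 F181540) (tt N40267 (iv3 F101432)) (tt N40272 D65721) (tt N9968 (iv5 D30774)) (tt N40273 D65722) (tt N20563 (iv7 F181547)))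
theorem Q20408 : ∀ i, i < 20408 → P i := stepQ 20407 Q20407 (allL N20407 (tt N22686 F341101) (tt N40274 D65724) (tt N33277 (iv2 F180653)) (tt N40268 (iv3 F101433)) (tt N40271 (iv4 F101435)) (tt N40275 D65725) (tt N9968 (iv6 D30775)) (tt N40276 D65726))
theorem Q20409 : ∀ i, i < 20409 → P i := stepQ 20408 Q20408 (allL N20408 (tt N33284 (iv1 F84384)) (tt N33283 F84383) (tt N9970 F49222) (tt N33249 (iv3 F84265)) (tt N40277 D65727) (tt N9969 (iv5 D30776)) (tt N23374 F316025) (tt N33281 (iv7 F84378)))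
theorem Q20410 : ∀ i, i < 20410 → P i := stepQ 20409 Q20409 (allL N20409 (tt N14855 (iv1 F320860)) (tt N21880 (iv0 F320857)) (tt N9971 F49223) (tt N18545 (iv3 F320897)) (tt N40122 (iv4 F101167)) (tt N23375 F320398) (tt N9969 (iv6 D30777)) (tt N21890 (iv7 F320855)))
theorem Q20411 : ∀ i, i < 20411 → P i := stepQ 20410 Q20410 (allL N20410 (tt N33281 (iv1 F84380)) (tt N9970 (iv0 D30778)) (tt N33284 F181673) (tt N40278 D65734) (tt N40279 D65735) (tt N10042 (iv5 F105775)) (tt N40280 D65737) (tt N33283 (iv7 F181683)))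
theorem Q20412 : ∀ i, i < 20412 → P i := stepQ 20411 Q20411 (allL N20411 (tt N9970 (iv1 D30779)) (tt N33281 F84379) (tt N33283 (iv2 F181682)) (tt N40281 D65739) (tt N40282 D65740) (tt N10043 (iv5 F105780)) (tt N40283 D65742) (tt N33284 F181681))
theorem Q20413 : ∀ i, i < 20413 → P i := stepQ 20412 Q20412 (allL N20412 (tt N40284 D65743) (tt N40285 D65744) (tt N40277 (iv2 F101436)) (tt N10445 F49224) (tt N9970 (iv4 D30780)) (tt N40286 D65745) (tt N23378 F314110) (tt N33285 (iv7 F84386)))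
theorem Q20414 : ∀ i, i < 20414 → P i := stepQ 20413 Q20413 (allL N20413 (tt N21890 (iv1 F320854)) (tt N9971 (iv0 D30782)) (tt N14855 F323732) (tt N18537 (iv3 F322093)) (tt N40287 D65753) (tt N11370 (iv5 F322094)) (tt N39893 (iv6 F322095)) (tt N21880 F323733))
theorem Q20415 : ∀ i, i < 20415 → P i := stepQ 20414 Q20414 (allL N20414 (tt N9971 (iv1 D30783)) (tt N21890 (iv0 F320853)) (tt N21880 F323737) (tt N40288 D65757) (tt N40289 D65758) (tt N14856 (iv5 F322096)) (tt N40290 D65760) (tt N14855 F323738))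
theorem Q20416 : ∀ i, i < 20416 → P i := stepQ 20415 Q20415 (allL N20415 (tt N40291 D65819) (tt N36024 (iv0 F101952)) (tt N33094 F111217) (tt N10839 F322253) (tt N9972 (iv4 D30806)) (tt N40292 D65822) (tt N39691 (iv6 F111233)) (tt N33095 F111218))
theorem Q20417 : ∀ i, i < 20417 → P i := stepQ 20416 Q20416 (allL N20416 (tt N40293 D65861) (tt N40294 D65862) (tt N40295 D65863) (tt N9975 (iv3 D30820)) (tt N36090 (iv4 F93939)) (tt N30996 (iv5 F79761)) (tt N40296 D65864) (tt N19650 F49242))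
theorem Q20418 : ∀ i, i < 20418 → P i := stepQ 20417 Q20417 (allL N20417 (tt N40297 D65865) (tt N40298 D65866) (tt N30162 (iv2 F78128)) (tt N40296 (iv3 F101521)) (tt N9976 F49243) (tt N40299 D65867) (tt N9975 (iv6 D30821)) (tt N30773 (iv7 F79425)))
theorem Q20419 : ∀ i, i < 20419 → P i := stepQ 20418 Q20418 (allL N20418 (tt N9976 (iv1 D30823)) (tt N15360 F49245) (tt N10133 F163961) (tt N31564 (iv3 F168218)) (tt N40300 D65874) (tt N40301 D65875) (tt N40302 D65876) (tt N30163 (iv7 F101636)))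
theorem Q20420 : ∀ i, i < 20420 → P i := stepQ 20419 Q20419 (allL N20419 (tt N30778 (iv1 F79442)) (tt N15933 F49247) (tt N9987 F49246) (tt N40303 D65877) (tt N9977 (iv4 D30824)) (tt N30812 (iv5 F79524)) (tt N40304 D65878) (tt N30133 (iv7 F78062)))
theorem Q20421 : ∀ i, i < 20421 → P i := stepQ 20420 Q20420 (allL N20420 (tt N40305 D65879) (tt N31265 (iv0 F80309)) (tt N9988 F49248) (tt N31666 (iv3 F81141)) (tt N40304 (iv4 F101533)) (tt N31406 (iv5 F80616)) (tt N9977 (iv6 D30825)) (tt N40306 D65880))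
theorem Q20422 : ∀ i, i < 20422 → P i := stepQ 20421 Q20421 (allL N20421 (tt N9992 (iv1 F49255)) (tt N9978 (iv0 D30826)) (tt N9989 (iv2 F49253)) (tt N18065 F49251) (tt N15442 F49250) (tt N15737 F49249) (tt N16264 F49252) (tt N9990 F49254))
theorem Q20423 : ∀ i, i < 20423 → P i := stepQ 20422 Q20422 (allL N20422 (tt N9990 (iv1 F49259)) (tt N9989 F49260) (tt N9992 F49256) (tt N30445 F78574) (tt N9982 F49257) (tt N18295 F49258) (tt N30135 (iv6 F78072)) (tt N9978 (iv7 D30827)))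
theorem Q20424 : ∀ i, i < 20424 → P i := stepQ 20423 Q20423 (allL N20423 (tt N40307 D65881) (tt N40308 D65882) (tt N40309 D65883) (tt N9979 (iv3 D30828)) (tt N31674 (iv4 F81165)) (tt N40310 D65884) (tt N40311 D65885) (tt N30136 (iv7 F78076)))
theorem Q20425 : ∀ i, i < 20425 → P i := stepQ 20424 Q20424 (allL N20424 (tt N33229 (iv1 F84244)) (tt N33228 F84241) (tt N10001 F49261) (tt N40310 (iv3 F101548)) (tt N30811 F79521) (tt N9979 (iv5 D30829)) (tt N40312 D65886) (tt N30137 (iv7 F78079)))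
theorem Q20426 : ∀ i, i < 20426 → P i := stepQ 20425 Q20425 (allL N20425 (tt N40313 D65887) (tt N39899 (iv0 F100839)) (tt N10002 F49262) (tt N40311 (iv3 F101549)) (tt N9980 F49263) (tt N40314 D65888) (tt N9979 (iv6 D30830)) (tt N40315 D65889))
theorem Q20427 : ∀ i, i < 20427 → P i := stepQ 20426 Q20426 (allL N20426 (tt N10006 (iv1 F49265)) (tt N9980 (iv0 D30831)) (tt N10003 F49268) (tt N20061 (iv3 F82154)) (tt N40316 D65890) (tt N30794 (iv5 F79481)) (tt N38483 (iv6 F98362)) (tt N10004 F49267))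
theorem Q20428 : ∀ i, i < 20428 → P i := stepQ 20427 Q20427 (allL N20427 (tt N10004 (iv1 F49266)) (tt N10003 F49271) (tt N10006 F49264) (tt N31677 (iv3 F81176)) (tt N40315 (iv4 F101558)) (tt N31636 (iv5 F81081)) (tt N30139 (iv6 F78086)) (tt N9980 (iv7 D30832)))
theorem Q20429 : ∀ i, i < 20429 → P i := stepQ 20428 Q20428 (allL N20428 (tt N18081 F49275) (tt N18033 (iv0 F49277)) (tt N16031 F49272) (tt N9984 F49273) (tt N15565 F49276) (tt N9983 (iv5 D30833)) (tt N40317 D65891) (tt N18010 F49274))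
theorem Q20430 : ∀ i, i < 20430 → P i := stepQ 20429 Q20429 (allL N20429 (tt N15396 F49280) (tt N15394 F49281) (tt N15456 F49278) (tt N40318 D65892) (tt N9984 (iv4 D30834)) (tt N40319 D65893) (tt N40320 D65894) (tt N15457 F49279))
theorem Q20431 : ∀ i, i < 20431 → P i := stepQ 20430 Q20430 (allL N20430 (tt N35872 (iv1 F166163)) (tt N40044 F101067) (tt N31316 (iv2 F80425)) (tt N40317 (iv3 F101564)) (tt N40320 (iv4 F101577)) (tt N20430 F49282) (tt N9984 (iv6 D30835)) (tt N33254 (iv7 F84330)))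
theorem Q20432 : ∀ i, i < 20432 → P i := stepQ 20431 Q20431 (allL N20431 (tt N15389 F49285) (tt N15391 (iv0 F49286)) (tt N15419 F49283) (tt N40321 D65895) (tt N9985 (iv4 D30836)) (tt N30921 (iv5 F79673)) (tt N31685 F81184) (tt N15418 F49284))
theorem Q20433 : ∀ i, i < 20433 → P i := stepQ 20432 Q20432 (allL N20432 (tt N36064 F93897) (tt N40322 D65896) (tt N32397 (iv2 F82766)) (tt N16042 F49287) (tt N31685 (iv4 F81186)) (tt N19676 F49288) (tt N9985 (iv6 D30837)) (tt N40323 D65897))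
theorem Q20434 : ∀ i, i < 20434 → P i := stepQ 20433 Q20433 (allL N20433 (tt N18061 (iv1 F49294)) (tt N18027 F49293) (tt N16038 F49289) (tt N9986 (iv3 D30838)) (tt N15515 (iv4 F49292)) (tt N15751 F49290) (tt N40324 D65898) (tt N18062 F49291))
theorem Q20435 : ∀ i, i < 20435 → P i := stepQ 20434 Q20434 (allL N20434 (tt N15391 F49297) (tt N15389 F49298) (tt N15418 F49295) (tt N40325 D65899) (tt N9986 (iv4 D30839)) (tt N30922 (iv5 F79680)) (tt N40326 D65900) (tt N15419 F49296))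
theorem Q20436 : ∀ i, i < 20436 → P i := stepQ 20435 Q20435 (allL N20435 (tt N40327 D65901) (tt N40328 D65902) (tt N31328 (iv2 F80453)) (tt N40324 (iv3 F101586)) (tt N40326 (iv4 F101592)) (tt N15755 F49299) (tt N9986 (iv6 D30840)) (tt N40329 D65903))
theorem Q20437 : ∀ i, i < 20437 → P i := stepQ 20436 Q20436 (allL N20436 (tt N40330 D65904) (tt N40331 D65905) (tt N40332 D65906) (tt N9987 (iv3 D30841)) (tt N18398 F49300) (tt N30994 (iv5 F79760)) (tt N40333 D65907) (tt N32398 (iv7 F82770)))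
theorem Q20438 : ∀ i, i < 20438 → P i := stepQ 20437 Q20437 (allL N20437 (tt N30900 F79651) (tt N30901 (iv0 F81267)) (tt N40304 (iv2 F101532)) (tt N40333 (iv3 F101595)) (tt N9988 F49301) (tt N40334 D65908) (tt N9987 (iv6 D30842)) (tt N40335 D65909))
theorem Q20439 : ∀ i, i < 20439 → P i := stepQ 20438 Q20438 (allL N20438 (tt N40306 (iv1 F101544)) (tt N9988 (iv0 D30843)) (tt N40305 (iv2 F101541)) (tt N31270 F101542) (tt N40336 D65910) (tt N40337 D65911) (tt N40338 D65912) (tt N31265 F101543))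
theorem Q20440 : ∀ i, i < 20440 → P i := stepQ 20439 Q20439 (allL N20439 (tt N9988 (iv1 D30844)) (tt N40306 F101538) (tt N31265 (iv2 F80307)) (tt N32435 (iv3 F82841)) (tt N31645 (iv4 F81102)) (tt N40339 D65913) (tt N18042 (iv6 F49311)) (tt N40305 (iv7 F101539)))
theorem Q20441 : ∀ i, i < 20441 → P i := stepQ 20440 Q20440 (allL N20440 (tt N40340 D65914) (tt N40341 D65915) (tt N31406 (iv2 F80614)) (tt N15149 F49302) (tt N33264 (iv4 F84353)) (tt N9988 (iv5 D30845)) (tt N9991 F49303) (tt N40342 D65916))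
theorem Q20442 : ∀ i, i < 20442 → P i := stepQ 20441 Q20441 (allL N20441 (tt N31265 (iv1 F80310)) (tt N40305 F101537) (tt N40306 (iv2 F101536)) (tt N18402 F49304) (tt N40335 (iv4 F101597)) (tt N40342 (iv5 F101614)) (tt N32402 (iv6 F82773)) (tt N9988 (iv7 D30846)))
theorem Q20443 : ∀ i, i < 20443 → P i := stepQ 20442 Q20442 (allL N20442 (tt N15444 F49309) (tt N14777 F49310) (tt N15442 F49305) (tt N16100 F49306) (tt N9989 (iv4 D30847)) (tt N15894 F49308) (tt N30740 (iv6 F79333)) (tt N15345 F49307))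
theorem Q20444 : ∀ i, i < 20444 → P i := stepQ 20443 Q20443 (allL N20443 (tt N40343 D65917) (tt N40344 D65918) (tt N40345 D65919) (tt N9993 (iv3 D30848)) (tt N30220 (iv4 F78211)) (tt N40346 D65920) (tt N40347 D65921) (tt N33212 (iv7 F84192)))
theorem Q20445 : ∀ i, i < 20445 → P i := stepQ 20444 Q20444 (allL N20444 (tt N38653 (iv1 F98546)) (tt N38650 (iv0 F98537)) (tt N33218 (iv2 F84214)) (tt N40346 (iv3 F101620)) (tt N30832 (iv4 F79557)) (tt N9993 (iv5 D30849)) (tt N24372 (iv6 F341288)) (tt N33213 (iv7 F84194)))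
theorem Q20446 : ∀ i, i < 20446 → P i := stepQ 20445 Q20445 (allL N20445 (tt N40348 D65923) (tt N40349 D65924) (tt N33219 (iv2 F84219)) (tt N40347 (iv3 F101621)) (tt N9995 F49312) (tt N24364 (iv5 F341273)) (tt N9993 (iv6 D30850)) (tt N39909 (iv7 F100853)))
theorem Q20447 : ∀ i, i < 20447 → P i := stepQ 20446 Q20446 (allL N20446 (tt N40350 D65926) (tt N40351 D65927) (tt N40352 D65928) (tt N9996 (iv3 D30852)) (tt N36041 (iv4 F93854)) (tt N40353 D65929) (tt N40354 D65930) (tt N33217 (iv7 F84213)))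
theorem Q20448 : ∀ i, i < 20448 → P i := stepQ 20447 Q20447 (allL N20447 (tt N38650 (iv1 F98538)) (tt N38653 (iv0 F98545)) (tt N33213 (iv2 F84193)) (tt N40353 (iv3 F101627)) (tt N30838 (iv4 F79562)) (tt N9996 (iv5 D30853)) (tt N30844 (iv6 F336704)) (tt N33218 (iv7 F84216)))
theorem Q20449 : ∀ i, i < 20449 → P i := stepQ 20448 Q20448 (allL N20448 (tt N40355 D65932) (tt N40356 D65933) (tt N33214 (iv2 F84198)) (tt N40354 (iv3 F101628)) (tt N9997 F49314) (tt N30845 F336714) (tt N9996 (iv6 D30854)) (tt N40357 D65935))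
theorem Q20450 : ∀ i, i < 20450 → P i := stepQ 20449 Q20449 (allL N20449 (tt N9997 (iv1 D30856)) (tt N33216 F84211) (tt N31108 (iv2 F163918)) (tt N30903 (iv3 F168261)) (tt N40358 D65940) (tt N40359 D65941) (tt N38481 (iv6 F101257)) (tt N33215 F84204))
theorem Q20451 : ∀ i, i < 20451 → P i := stepQ 20450 Q20450 (allL N20450 (tt N31108 (iv1 F163917)) (tt N33215 F84206) (tt N33216 (iv2 F84207)) (tt N39370 (iv3 F100044)) (tt N40357 (iv4 F101629)) (tt N15874 F49315) (tt N30749 (iv6 F79358)) (tt N9997 (iv7 D30857)))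
theorem Q20452 : ∀ i, i < 20452 → P i := stepQ 20451 Q20451 (allL N20451 (tt N40360 D65942) (tt N40361 D65943) (tt N40362 D65944) (tt N9998 (iv3 D30858)) (tt N33079 (iv4 F84051)) (tt N40363 D65945) (tt N40364 D65946) (tt N33220 (iv7 F84221)))
theorem Q20453 : ∀ i, i < 20453 → P i := stepQ 20452 Q20452 (allL N20452 (tt N15386 F49320) (tt N14776 F49318) (tt N15409 F49316) (tt N18271 F49319) (tt N9998 (iv4 D30859)) (tt N30928 (iv5 F79684)) (tt N38701 F98669) (tt N15408 F49317))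
theorem Q20454 : ∀ i, i < 20454 → P i := stepQ 20453 Q20453 (allL N20453 (tt N20593 (iv1 F49448)) (tt N16705 F49449) (tt N20607 F49466) (tt N40363 (iv3 F101658)) (tt N30922 (iv4 F79681)) (tt N9998 (iv5 D30860)) (tt N40365 D65947) (tt N20606 F49463))
theorem Q20455 : ∀ i, i < 20455 → P i := stepQ 20454 Q20454 (allL N20454 (tt N30748 F79357) (tt N39908 F100851) (tt N33223 (iv2 F84225)) (tt N40364 (iv3 F101659)) (tt N38701 (iv4 F98672)) (tt N40366 D65948) (tt N9998 (iv6 D30861)) (tt N39906 (iv7 F167806)))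
theorem Q20456 : ∀ i, i < 20456 → P i := stepQ 20455 Q20455 (allL N20455 (tt N40367 D65950) (tt N40368 D65951) (tt N40369 D65952) (tt N9999 (iv3 D30862)) (tt N20795 (iv4 F49630)) (tt N40370 D65953) (tt N40371 D65954) (tt N33222 (iv7 F84224)))
theorem Q20457 : ∀ i, i < 20457 → P i := stepQ 20456 Q20456 (allL N20456 (tt N16705 F49321) (tt N20593 (iv0 F49447)) (tt N20606 F49462) (tt N40370 (iv3 F101660)) (tt N30921 (iv4 F79674)) (tt N9999 (iv5 D30863)) (tt N30965 F336703) (tt N20607 (iv7 F49464)))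
theorem Q20458 : ∀ i, i < 20458 → P i := stepQ 20457 Q20457 (allL N20457 (tt N40193 (iv1 F168414)) (tt N40358 (iv0 F168144)) (tt N33221 (iv2 F84222)) (tt N40371 (iv3 F101661)) (tt N20794 (iv4 F49629)) (tt N31690 F336693) (tt N9999 (iv6 D30864)) (tt N40372 D65959))
theorem Q20459 : ∀ i, i < 20459 → P i := stepQ 20458 Q20458 (allL N20458 (tt N33226 (iv1 F84233)) (tt N10000 (iv0 D30865)) (tt N33225 F182516) (tt N40373 D65961) (tt N40374 D65962) (tt N40375 D65963) (tt N40376 D65964) (tt N33224 F182517))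
theorem Q20460 : ∀ i, i < 20460 → P i := stepQ 20459 Q20459 (allL N20459 (tt N10000 (iv1 D30866)) (tt N33226 F84234) (tt N33224 (iv2 F182513)) (tt N40377 D65966) (tt N33476 (iv4 F84885)) (tt N40378 D65967) (tt N40379 D65968) (tt N33225 (iv7 F182512)))
theorem Q20461 : ∀ i, i < 20461 → P i := stepQ 20460 Q20460 (allL N20460 (tt N33225 F84230) (tt N33224 F84228) (tt N10000 (iv2 D30867)) (tt N40309 (iv3 F101547)) (tt N10011 F49322) (tt N40380 D65969) (tt N40381 D65970) (tt N33226 (iv7 F84232)))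
theorem Q20462 : ∀ i, i < 20462 → P i := stepQ 20461 Q20461 (allL N20461 (tt N40382 D65971) (tt N40383 D65972) (tt N40380 (iv2 F101664)) (tt N10001 F49323) (tt N40384 D65973) (tt N10000 (iv5 D30868)) (tt N40385 D65974) (tt N33227 (iv7 F84236)))
theorem Q20463 : ∀ i, i < 20463 → P i := stepQ 20462 Q20462 (allL N20462 (tt N40386 D65975) (tt N40387 D65976) (tt N40381 (iv2 F101665)) (tt N10002 F49324) (tt N10013 F49325) (tt N40388 D65977) (tt N10000 (iv6 D30869)) (tt N40389 D65978))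
theorem Q20464 : ∀ i, i < 20464 → P i := stepQ 20463 Q20463 (allL N20463 (tt N30137 (iv1 F78081)) (tt N10001 (iv0 D30870)) (tt N33229 F84248) (tt N40390 D65979) (tt N40319 (iv4 F101572)) (tt N10063 F49326) (tt N40391 D65980) (tt N33228 F84243))
theorem Q20465 : ∀ i, i < 20465 → P i := stepQ 20464 Q20464 (allL N20464 (tt N10001 (iv1 D30871)) (tt N30137 (iv0 F78080)) (tt N33228 F84242) (tt N40392 D65981) (tt N38689 (iv4 F98651)) (tt N10064 F49327) (tt N40393 D65982) (tt N33229 (iv7 F84245)))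
theorem Q20466 : ∀ i, i < 20466 → P i := stepQ 20465 Q20465 (allL N20465 (tt N40394 D65983) (tt N40395 D65984) (tt N40312 (iv2 F101550)) (tt N40385 (iv3 F101667)) (tt N30993 (iv4 F79759)) (tt N40396 D65985) (tt N10001 (iv6 D30873)) (tt N40397 D65986))
theorem Q20467 : ∀ i, i < 20467 → P i := stepQ 20466 Q20466 (allL N20466 (tt N40315 (iv1 F101560)) (tt N10002 (iv0 D30874)) (tt N40313 (iv2 F101554)) (tt N40398 D65987) (tt N40399 D65988) (tt N40400 D65989) (tt N40401 D65990) (tt N39899 (iv7 F101555)))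
theorem Q20468 : ∀ i, i < 20468 → P i := stepQ 20467 Q20467 (allL N20467 (tt N10002 (iv1 D30875)) (tt N40315 F101559) (tt N39899 (iv2 F100837)) (tt N40402 D65991) (tt N35818 (iv4 F93314)) (tt N40403 D65992) (tt N22659 F93315) (tt N40313 F101552))
theorem Q20469 : ∀ i, i < 20469 → P i := stepQ 20468 Q20468 (allL N20468 (tt N40404 D65993) (tt N40405 D65994) (tt N40314 (iv2 F101556)) (tt N40388 (iv3 F101668)) (tt N40406 D65995) (tt N10002 (iv5 D30876)) (tt N40396 (iv6 F101673)) (tt N40407 D65996))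
theorem Q20470 : ∀ i, i < 20470 → P i := stepQ 20469 Q20469 (allL N20469 (tt N39899 (iv1 F100840)) (tt N40313 (iv0 F101553)) (tt N40315 (iv2 F101557)) (tt N40389 (iv3 F101669)) (tt N10006 F49328) (tt N40407 (iv5 F101683)) (tt N33234 (iv6 F84250)) (tt N10002 (iv7 D30877)))
theorem Q20471 : ∀ i, i < 20471 → P i := stepQ 20470 Q20470 (allL N20470 (tt N40408 D65997) (tt N30884 (iv0 F82150)) (tt N40316 (iv2 F101561)) (tt N40409 D65998) (tt N10003 (iv4 D30879)) (tt N40410 D65999) (tt N40411 D66000) (tt N30933 (iv7 F79697)))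
theorem Q20472 : ∀ i, i < 20472 → P i := stepQ 20471 Q20471 (allL N20471 (tt N38481 (iv1 F98358)) (tt N37435 (iv0 F163954)) (tt N38483 (iv2 F98360)) (tt N30258 (iv3 F78258)) (tt N40411 (iv4 F101685)) (tt N37432 (iv5 F95953)) (tt N10003 (iv6 D30880)) (tt N20349 F49331))
theorem Q20473 : ∀ i, i < 20473 → P i := stepQ 20472 Q20472 (allL N20472 (tt N19876 F49334) (tt N20064 F49335) (tt N20062 (iv2 F49333)) (tt N10004 (iv3 D30881)) (tt N36082 F100396) (tt N30789 (iv5 F79473)) (tt N18898 F49332) (tt N20061 (iv7 F82155)))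
theorem Q20474 : ∀ i, i < 20474 → P i := stepQ 20473 Q20473 (allL N20473 (tt N30884 F100431) (tt N40408 F101684) (tt N30933 (iv2 F79695)) (tt N40412 D66001) (tt N10004 (iv4 D30882)) (tt N40413 D66002) (tt N20354 F49336) (tt N40316 (iv7 F101562)))
theorem Q20475 : ∀ i, i < 20475 → P i := stepQ 20474 Q20474 (allL N20474 (tt N31636 F81085) (tt N10005 (iv0 D30883)) (tt N31634 (iv2 F102468)) (tt N30260 (iv3 F161348)) (tt N40414 D66005) (tt N40415 D66006) (tt N31006 F79765) (tt N31635 (iv7 F102433)))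
theorem Q20476 : ∀ i, i < 20476 → P i := stepQ 20475 Q20475 (allL N20475 (tt N10005 (iv1 D30884)) (tt N31636 F81084) (tt N31635 (iv2 F102432)) (tt N40416 D66008) (tt N40417 D66009) (tt N40418 D66010) (tt N31831 F101694) (tt N31634 (iv7 F102469)))
theorem Q20477 : ∀ i, i < 20477 → P i := stepQ 20476 Q20476 (allL N20476 (tt N40419 D66011) (tt N40420 D66012) (tt N31633 (iv2 F81075)) (tt N40421 D66013) (tt N10005 (iv4 D30885)) (tt N40422 D66014) (tt N10008 F49337) (tt N40423 D66015))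
theorem Q20478 : ∀ i, i < 20478 → P i := stepQ 20477 Q20477 (allL N20477 (tt N31635 (iv1 F81077)) (tt N31634 F81083) (tt N31636 (iv2 F81079)) (tt N10026 F49338) (tt N40423 (iv4 F101698)) (tt N10006 F49339) (tt N15448 (iv6 F49343)) (tt N10005 (iv7 D30886)))
theorem Q20479 : ∀ i, i < 20479 → P i := stepQ 20478 Q20478 (allL N20478 (tt N31593 (iv1 F80967)) (tt N10008 (iv0 D30887)) (tt N31414 (iv2 F80622)) (tt N40424 D66016) (tt N18293 F49345) (tt N31628 (iv5 F81061)) (tt N40425 D66017) (tt N31404 (iv7 F80607)))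
theorem Q20480 : ∀ i, i < 20480 → P i := stepQ 20479 Q20479 (allL N20479 (tt N40426 D66018) (tt N40427 D66019) (tt N40428 D66020) (tt N10008 (iv3 D30888)) (tt N10027 F49346) (tt N40429 D66021) (tt N40421 (iv6 F101697)) (tt N31637 (iv7 F81087)))
theorem Q20481 : ∀ i, i < 20481 → P i := stepQ 20480 Q20480 (allL N20480 (tt N15895 F49347) (tt N15899 F49348) (tt N31632 (iv2 F81071)) (tt N40429 (iv3 F101703)) (tt N20533 F49389) (tt N10008 (iv5 D30889)) (tt N40430 D66022) (tt N31638 (iv7 F81089)))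
theorem Q20482 : ∀ i, i < 20482 → P i := stepQ 20481 Q20481 (allL N20481 (tt N40217 (iv1 F180644)) (tt N40431 D66030) (tt N40432 D66031) (tt N10009 (iv3 D30891)) (tt N20815 F49643) (tt N40433 D66032) (tt N40434 D66033) (tt N33243 F180250))
theorem Q20483 : ∀ i, i < 20483 → P i := stepQ 20482 Q20482 (allL N20482 (tt N40435 D66035) (tt N40436 D66036) (tt N33247 F180251) (tt N40437 D66037) (tt N10009 (iv4 D30892)) (tt N40438 D66038) (tt N40439 D66039) (tt N33244 F180252))
theorem Q20484 : ∀ i, i < 20484 → P i := stepQ 20483 Q20483 (allL N20483 (tt N20623 (iv1 F180968)) (tt N16714 (iv0 F180969)) (tt N20626 F180304) (tt N40433 (iv3 F101712)) (tt N40440 D66043) (tt N10009 (iv5 D30893)) (tt N40441 D66044) (tt N20625 (iv7 F180307)))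
theorem Q20485 : ∀ i, i < 20485 → P i := stepQ 20484 Q20484 (allL N20484 (tt N25442 (iv1 F322903)) (tt N25272 (iv0 F322904)) (tt N33248 F180255) (tt N40434 (iv3 F101713)) (tt N40439 (iv4 F101717)) (tt N40442 D66048) (tt N10009 (iv6 D30894)) (tt N39918 (iv7 F322906)))
theorem Q20486 : ∀ i, i < 20486 → P i := stepQ 20485 Q20485 (allL N20485 (tt N40443 D66051) (tt N40236 (iv0 F177229)) (tt N40444 D66053) (tt N10010 (iv3 D30896)) (tt N40445 D66054) (tt N40446 D66055) (tt N40447 D66056) (tt N33246 (iv7 F180240)))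
theorem Q20487 : ∀ i, i < 20487 → P i := stepQ 20486 Q20486 (allL N20486 (tt N40436 (iv1 F101716)) (tt N40435 F101720) (tt N33244 (iv2 F180245)) (tt N40448 D66057) (tt N10010 (iv4 D30897)) (tt N40449 D66058) (tt N40450 D66059) (tt N33247 (iv7 F180248)))
theorem Q20488 : ∀ i, i < 20488 → P i := stepQ 20487 Q20487 (allL N20487 (tt N16714 F180970) (tt N20623 F180971) (tt N20625 (iv2 F180306)) (tt N40446 (iv3 F101727)) (tt N40451 D66060) (tt N10010 (iv5 D30898)) (tt N40452 D66061) (tt N20626 F180305))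
theorem Q20489 : ∀ i, i < 20489 → P i := stepQ 20488 Q20488 (allL N20488 (tt N40194 F337758) (tt N40453 D66063) (tt N33245 (iv2 F180247)) (tt N40447 (iv3 F101728)) (tt N40450 (iv4 F101729)) (tt N40454 D66064) (tt N10010 (iv6 D30899)) (tt N40455 D66065))
theorem Q20490 : ∀ i, i < 20490 → P i := stepQ 20489 Q20489 (allL N20489 (tt N33251 (iv1 F84272)) (tt N33250 F84271) (tt N10012 F49351) (tt N33281 (iv3 F84377)) (tt N40456 D66066) (tt N10011 (iv5 D30900)) (tt N40457 D66067) (tt N33249 (iv7 F84266)))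
theorem Q20491 : ∀ i, i < 20491 → P i := stepQ 20490 Q20490 (allL N20490 (tt N40458 D66068) (tt N39913 (iv0 F330023)) (tt N10013 F49352) (tt N33282 (iv3 F84382)) (tt N40381 (iv4 F101666)) (tt N40459 D66070) (tt N10011 (iv6 D30901)) (tt N40460 D66071))
theorem Q20492 : ∀ i, i < 20492 → P i := stepQ 20491 Q20491 (allL N20491 (tt N33249 (iv1 F84268)) (tt N10012 (iv0 D30902)) (tt N33251 (iv2 F180355)) (tt N40461 D66073) (tt N40462 D66074) (tt N10071 (iv5 F103123)) (tt N40463 D66076) (tt N33250 F180354))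
theorem Q20493 : ∀ i, i < 20493 → P i := stepQ 20492 Q20492 (allL N20492 (tt N10012 (iv1 D30903)) (tt N33249 F84267) (tt N33250 F180353) (tt N40464 D66078) (tt N40465 D66079) (tt N10072 (iv5 F103128)) (tt N40466 D66081) (tt N33251 (iv7 F180356)))
theorem Q20494 : ∀ i, i < 20494 → P i := stepQ 20493 Q20493 (allL N20493 (tt N40467 D66082) (tt N36387 (iv0 F319133)) (tt N40456 (iv2 F101730)) (tt N10438 F49353) (tt N10012 (iv4 D30904)) (tt N40468 D66084) (tt N40469 D66085) (tt N33252 (iv7 F84274)))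
theorem Q20495 : ∀ i, i < 20495 → P i := stepQ 20494 Q20494 (allL N20494 (tt N40470 D66086) (tt N40278 F319597) (tt N40457 (iv2 F101731)) (tt N10014 F49354) (tt N40469 (iv4 F101742)) (tt N40238 (iv5 F320922)) (tt N10012 (iv6 D30905)) (tt N23385 F316030))
theorem Q20496 : ∀ i, i < 20496 → P i := stepQ 20495 Q20495 (allL N20495 (tt N40460 (iv1 F101737)) (tt N10013 (iv0 D30906)) (tt N40458 F330025) (tt N40471 D66091) (tt N40472 D66092) (tt N40473 D66093) (tt N40474 D66094) (tt N39913 F327724))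
theorem Q20497 : ∀ i, i < 20497 → P i := stepQ 20496 Q20496 (allL N20496 (tt N10013 (iv1 D30907)) (tt N40460 F101736) (tt N39913 (iv2 F327184)) (tt N40475 D66096) (tt N40476 D66097) (tt N40477 D66098) (tt N22668 F326383) (tt N40458 F330033))
theorem Q20498 : ∀ i, i < 20498 → P i := stepQ 20497 Q20497 (allL N20497 (tt N40478 D66100) (tt N40479 D66101) (tt N40459 (iv2 F101733)) (tt N10017 F49355) (tt N40480 D66102) (tt N10013 (iv5 D30908)) (tt N40238 (iv6 F320923)) (tt N40481 D66103))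
theorem Q20499 : ∀ i, i < 20499 → P i := stepQ 20498 Q20498 (allL N20498 (tt N39913 F330024) (tt N40458 F101735) (tt N40460 (iv2 F101734)) (tt N10018 F49356) (tt N40389 (iv4 F101670)) (tt N40481 (iv5 F101749)) (tt N17059 (iv6 F318620)) (tt N10013 (iv7 D30909)))
theorem Q20500 : ∀ i, i < 20500 → P i := stepQ 20499 Q20499 (allL N20499 (tt N10014 (iv1 D30911)) (tt N10584 F314043) (tt N14829 (iv2 F317310)) (tt N18462 (iv3 F317355)) (tt N16813 F105658) (tt N18362 F316363) (tt N40482 D66113) (tt N18373 (iv7 F316892)))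
theorem Q20501 : ∀ i, i < 20501 → P i := stepQ 20500 Q20500 (allL N20500 (tt N21861 (iv1 F318497)) (tt N10017 (iv0 F318496)) (tt N25265 (iv2 F318498)) (tt N10015 (iv3 D30914)) (tt N40483 D66121) (tt N39952 (iv5 F318618)) (tt N25216 (iv6 F316489)) (tt N17982 F316345))
theorem Q20502 : ∀ i, i < 20502 → P i := stepQ 20501 Q20501 (allL N20501 (tt N40484 D66124) (tt N40485 D66125) (tt N21062 (iv2 F50063)) (tt N39952 (iv3 F318617)) (tt N23595 F322792) (tt N10015 (iv5 D30915)) (tt N36383 F316348) (tt N21065 (iv7 F50072)))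
theorem Q20503 : ∀ i, i < 20503 → P i := stepQ 20502 Q20502 (allL N20502 (tt N33502 F313987) (tt N33505 F313988) (tt N21063 (iv2 F50065)) (tt N25216 (iv3 F316488)) (tt N16840 F49359) (tt N20581 F49437) (tt N10015 (iv6 D30916)) (tt N18802 F49360))
theorem Q20504 : ∀ i, i < 20504 → P i := stepQ 20503 Q20503 (allL N20503 (tt N40216 (iv1 F167397)) (tt N40486 D66129) (tt N25257 (iv2 F316475)) (tt N10016 (iv3 D30917)) (tt N40487 D66131) (tt N40488 D66132) (tt N22666 (iv6 F53530)) (tt N21061 (iv7 F50062)))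
theorem Q20505 : ∀ i, i < 20505 → P i := stepQ 20504 Q20504 (allL N20504 (tt N40485 (iv1 F101760)) (tt N40484 F101759) (tt N21065 (iv2 F50071)) (tt N40488 (iv3 F101764)) (tt N23539 F322787) (tt N10016 (iv5 D30918)) (tt N40489 D66134) (tt N21062 (iv7 F50064)))
theorem Q20506 : ∀ i, i < 20506 → P i := stepQ 20505 Q20505 (allL N20505 (tt N40490 D66141) (tt N35442 (iv0 F320501)) (tt N23602 (iv2 F322098)) (tt N40491 D66143) (tt N10017 (iv4 D30921)) (tt N23542 (iv5 F323714)) (tt N40239 (iv6 F320924)) (tt N23609 (iv7 F323716)))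
theorem Q20507 : ∀ i, i < 20507 → P i := stepQ 20506 Q20506 (allL N20506 (tt N17982 (iv1 F318516)) (tt N25265 (iv0 F317400)) (tt N21861 (iv2 F316483)) (tt N40481 (iv3 F101748)) (tt N23609 F324992) (tt N10018 F49361) (tt N17327 (iv6 F318257)) (tt N10017 (iv7 D30922)))
theorem Q20508 : ∀ i, i < 20508 → P i := stepQ 20507 Q20507 (allL N20507 (tt N34036 (iv1 F314634)) (tt N40202 (iv0 F208257)) (tt N40492 D66149) (tt N10019 (iv3 D30923)) (tt N39574 (iv4 F100434)) (tt N40493 D66150) (tt N40494 D66151) (tt N31153 (iv7 F80019)))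
theorem Q20509 : ∀ i, i < 20509 → P i := stepQ 20508 Q20508 (allL N20508 (tt N40495 D66152) (tt N40496 D66153) (tt N33291 (iv2 F84409)) (tt N40493 (iv3 F101773)) (tt N40497 D66154) (tt N10019 (iv5 D30924)) (tt N21470 (iv6 F316198)) (tt N31154 (iv7 F80021)))
theorem Q20510 : ∀ i, i < 20510 → P i := stepQ 20509 Q20509 (allL N20509 (tt N21408 F313608) (tt N21410 F313609) (tt N33292 (iv2 F84411)) (tt N40494 (iv3 F101774)) (tt N10020 F49362) (tt N20668 F49510) (tt N10019 (iv6 D30925)) (tt N19431 F49363))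
theorem Q20511 : ∀ i, i < 20511 → P i := stepQ 20510 Q20510 (allL N20510 (tt N40157 F101267) (tt N40498 D66156) (tt N33115 (iv2 F84095)) (tt N40499 D66157) (tt N10021 (iv4 D30926)) (tt N40500 D66158) (tt N20045 F49364) (tt N33113 (iv7 F84091)))
theorem Q20512 : ∀ i, i < 20512 → P i := stepQ 20511 Q20511 (allL N20511 (tt N33550 F318442) (tt N40501 D66160) (tt N40502 D66161) (tt N10022 (iv3 D30927)) (tt N40499 (iv4 F101781)) (tt N40503 D66162) (tt N12439 F313603) (tt N33290 (iv7 F84408)))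
theorem Q20513 : ∀ i, i < 20513 → P i := stepQ 20512 Q20512 (allL N20512 (tt N40496 (iv1 F101778)) (tt N40495 F101777) (tt N31154 (iv2 F80020)) (tt N40503 (iv3 F101784)) (tt N40504 D66163) (tt N10022 (iv5 D30928)) (tt N40505 D66164) (tt N33291 (iv7 F84410)))
theorem Q20514 : ∀ i, i < 20514 → P i := stepQ 20513 Q20513 (allL N20513 (tt N31304 (iv1 F80388)) (tt N10283 F80376) (tt N31302 F80372) (tt N35274 (iv3 F325859)) (tt N10023 (iv4 D30930)) (tt N23912 F324775) (tt N31240 (iv6 F80244)) (tt N31303 F80371))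
theorem Q20515 : ∀ i, i < 20515 → P i := stepQ 20514 Q20514 (allL N20514 (tt N15512 (iv1 F161279)) (tt N31856 (iv0 F161280)) (tt N31855 (iv2 F161281)) (tt N10024 (iv3 D30931)) (tt N40506 D66174) (tt N33154 F161273) (tt N31799 (iv6 F161283)) (tt N31833 (iv7 F81441)))
theorem Q20516 : ∀ i, i < 20516 → P i := stepQ 20515 Q20515 (allL N20515 (tt N10283 F49366) (tt N31304 F80387) (tt N31303 F80369) (tt N40507 D66175) (tt N10024 (iv4 D30932)) (tt N23911 F324776) (tt N31303 F80370) (tt N31302 (iv7 F80375)))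
theorem Q20517 : ∀ i, i < 20517 → P i := stepQ 20516 Q20516 (allL N20516 (tt N23543 (iv1 F321750)) (tt N10025 (iv0 D30933)) (tt N21067 (iv2 F78684)) (tt N11575 F319901) (tt N15663 F78685) (tt N11574 (iv5 F321751)) (tt N23618 (iv6 F321752)) (tt N21070 F78686))
theorem Q20518 : ∀ i, i < 20518 → P i := stepQ 20517 Q20517 (allL N20517 (tt N10025 (iv1 D30934)) (tt N23543 F323441) (tt N21070 F78683) (tt N17486 F323442) (tt N15664 F49367) (tt N11602 F323443) (tt N21070 (iv6 F50079)) (tt N21067 (iv7 F78682)))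
theorem Q20519 : ∀ i, i < 20519 → P i := stepQ 20518 Q20518 (allL N20518 (tt N40508 D66181) (tt N40509 D66182) (tt N40510 D66183) (tt N10025 (iv3 D30935)) (tt N40421 (iv4 F101696)) (tt N23544 (iv5 F324759)) (tt N10027 F49368) (tt N23599 (iv7 F324758)))
theorem Q20520 : ∀ i, i < 20520 → P i := stepQ 20519 Q20519 (allL N20519 (tt N31195 F170941) (tt N31210 (iv0 F170942)) (tt N10027 (iv2 D30940)) (tt N31832 (iv3 F81429)) (tt N40428 (iv4 F101702)) (tt N31832 (iv5 F81430)) (tt N40510 (iv6 F101794)) (tt N31207 (iv7 F169602)))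
theorem Q20521 : ∀ i, i < 20521 → P i := stepQ 20520 Q20520 (allL N20520 (tt N40511 D66197) (tt N40512 D66198) (tt N40513 D66199) (tt N10028 (iv3 D30941)) (tt N30140 (iv4 F78090)) (tt N40514 D66200) (tt N40515 D66201) (tt N31436 (iv7 F80650)))
theorem Q20522 : ∀ i, i < 20522 → P i := stepQ 20521 Q20521 (allL N20521 (tt N20328 F49373) (tt N20325 F49374) (tt N10033 F49372) (tt N40514 (iv3 F101802)) (tt N31612 (iv4 F81024)) (tt N10028 (iv5 D30942)) (tt N40516 D66202) (tt N31437 (iv7 F80653)))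
theorem Q20523 : ∀ i, i < 20523 → P i := stepQ 20522 Q20522 (allL N20522 (tt N40517 D66203) (tt N40518 D66204) (tt N10034 F49375) (tt N40515 (iv3 F101803)) (tt N10030 F49376) (tt N40519 D66205) (tt N10028 (iv6 D30943)) (tt N40520 D66206))
theorem Q20524 : ∀ i, i < 20524 → P i := stepQ 20523 Q20523 (allL N20523 (tt N10039 (iv1 F49379)) (tt N10030 (iv0 D30944)) (tt N10036 (iv2 F102109)) (tt N33118 (iv3 F111140)) (tt N40521 D66209) (tt N40522 D66210) (tt N22714 F80932) (tt N10037 (iv7 F102115)))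
theorem Q20525 : ∀ i, i < 20525 → P i := stepQ 20524 Q20524 (allL N20524 (tt N10030 (iv1 D30945)) (tt N10039 F49377) (tt N10037 F102116) (tt N39149 (iv3 F111462)) (tt N40523 D66213) (tt N38569 (iv5 F98428)) (tt N40524 D66214) (tt N10036 F102117))
theorem Q20526 : ∀ i, i < 20526 → P i := stepQ 20525 Q20525 (allL N20525 (tt N10037 (iv1 F49380)) (tt N10036 F49381) (tt N10039 F49378) (tt N30145 (iv3 F78101)) (tt N40520 (iv4 F101808)) (tt N38256 (iv5 F97786)) (tt N33341 (iv6 F84529)) (tt N10030 (iv7 D30946)))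
theorem Q20527 : ∀ i, i < 20527 → P i := stepQ 20526 Q20526 (allL N20526 (tt N40525 D66215) (tt N40526 D66216) (tt N40527 D66217) (tt N10031 (iv3 D30947)) (tt N39151 (iv4 F99523)) (tt N31768 (iv5 F81284)) (tt N40528 D66218) (tt N31396 (iv7 F80587)))
theorem Q20528 : ∀ i, i < 20528 → P i := stepQ 20527 Q20527 (allL N20527 (tt N40054 (iv1 F168213)) (tt N33471 (iv0 F111889)) (tt N31448 (iv2 F80677)) (tt N40528 (iv3 F101820)) (tt N31398 (iv4 F80594)) (tt N40529 D66221) (tt N10031 (iv6 D30948)) (tt N39924 (iv7 F100871)))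
theorem Q20529 : ∀ i, i < 20529 → P i := stepQ 20528 Q20528 (allL N20528 (tt N33344 (iv1 F84537)) (tt N10032 (iv0 D30949)) (tt N33343 (iv2 F102972)) (tt N40530 D66223) (tt N40531 D66224) (tt N40123 (iv5 F180560)) (tt N40532 D66226) (tt N33342 (iv7 F102977)))
theorem Q20530 : ∀ i, i < 20530 → P i := stepQ 20529 Q20529 (allL N20529 (tt N10032 (iv1 D30950)) (tt N33344 F84539) (tt N33342 (iv2 F102976)) (tt N40533 D66228) (tt N33391 (iv4 F84686)) (tt N40124 (iv5 F105781)) (tt N39925 (iv6 F320416)) (tt N33343 (iv7 F102973)))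
theorem Q20531 : ∀ i, i < 20531 → P i := stepQ 20530 Q20530 (allL N20530 (tt N33343 (iv1 F84538)) (tt N33342 F84532) (tt N10032 (iv2 D30951)) (tt N40513 (iv3 F101801)) (tt N10044 F49382) (tt N40534 D66231) (tt N40535 D66232) (tt N33344 (iv7 F84536)))
theorem Q20532 : ∀ i, i < 20532 → P i := stepQ 20531 Q20531 (allL N20531 (tt N40536 D66233) (tt N40537 D66234) (tt N40534 (iv2 F101824)) (tt N10033 F49383) (tt N40538 D66235) (tt N10032 (iv5 D30952)) (tt N40539 D66236) (tt N33345 (iv7 F84541)))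
theorem Q20533 : ∀ i, i < 20533 → P i := stepQ 20532 Q20532 (allL N20532 (tt N40540 D66237) (tt N40541 D66238) (tt N40535 (iv2 F101825)) (tt N10034 F49384) (tt N10046 F49385) (tt N40542 D66239) (tt N10032 (iv6 D30953)) (tt N40543 D66240))
theorem Q20534 : ∀ i, i < 20534 → P i := stepQ 20533 Q20533 (allL N20533 (tt N31437 (iv1 F80655)) (tt N10033 (iv0 D30954)) (tt N20328 (iv2 F49387)) (tt N40544 D66241) (tt N20480 (iv4 F49389)) (tt N16685 F49386) (tt N40545 D66242) (tt N20325 (iv7 F49388)))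
theorem Q20535 : ∀ i, i < 20535 → P i := stepQ 20534 Q20534 (allL N20534 (tt N10033 (iv1 D30955)) (tt N31437 (iv0 F80654)) (tt N20325 (iv2 F49392)) (tt N40546 D66243) (tt N31741 (iv4 F81266)) (tt N16686 F49391) (tt N40547 D66244) (tt N20328 F49390))
theorem Q20536 : ∀ i, i < 20536 → P i := stepQ 20535 Q20535 (allL N20535 (tt N40548 D66245) (tt N40549 D66246) (tt N40516 (iv2 F101804)) (tt N40539 (iv3 F101827)) (tt N31723 (iv4 F81236)) (tt N40550 D66247) (tt N10033 (iv6 D30956)) (tt N40551 D66248))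
theorem Q20537 : ∀ i, i < 20537 → P i := stepQ 20536 Q20536 (allL N20536 (tt N40520 (iv1 F101812)) (tt N10034 (iv0 D30957)) (tt N40517 (iv2 F103603)) (tt N40552 D66250) (tt N31424 (iv4 F103610)) (tt N40553 D66252) (tt N40554 D66253) (tt N40518 (iv7 F103607)))
theorem Q20538 : ∀ i, i < 20538 → P i := stepQ 20537 Q20537 (allL N20537 (tt N10034 (iv1 D30958)) (tt N40520 F101810) (tt N40518 (iv2 F103606)) (tt N40555 D66255) (tt N31425 (iv4 F101844)) (tt N40556 D66256) (tt N40557 D66257) (tt N40517 (iv7 F103604)))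
theorem Q20539 : ∀ i, i < 20539 → P i := stepQ 20538 Q20538 (allL N20538 (tt N38758 (iv1 F329152)) (tt N38257 (iv0 F329055)) (tt N40519 (iv2 F101806)) (tt N40542 (iv3 F101828)) (tt N40558 D66260) (tt N10034 (iv5 D30959)) (tt N40550 (iv6 F101838)) (tt N40559 D66261))
theorem Q20540 : ∀ i, i < 20540 → P i := stepQ 20539 Q20539 (allL N20539 (tt N40518 (iv1 F101805)) (tt N40517 F101809) (tt N40520 (iv2 F101807)) (tt N40543 (iv3 F101829)) (tt N10039 F49393) (tt N40559 (iv5 F101845)) (tt N33351 (iv6 F84545)) (tt N10034 (iv7 D30960)))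
theorem Q20541 : ∀ i, i < 20541 → P i := stepQ 20540 Q20540 (allL N20540 (tt N39150 (iv1 F111172)) (tt N32208 (iv0 F101881)) (tt N39148 (iv2 F111461)) (tt N10036 (iv3 D30962)) (tt N40560 D66271) (tt N40561 D66272) (tt N30235 (iv6 F111171)) (tt N39149 (iv7 F111463)))
theorem Q20542 : ∀ i, i < 20542 → P i := stepQ 20541 Q20541 (allL N20541 (tt N40562 D66275) (tt N38399 F101851) (tt N40521 (iv2 F102111)) (tt N40563 D66276) (tt N10036 (iv4 D30963)) (tt N40564 D66277) (tt N40565 D66278) (tt N40523 (iv7 F102120)))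
theorem Q20543 : ∀ i, i < 20543 → P i := stepQ 20542 Q20542 (allL N20542 (tt N40566 D66280) (tt N38504 (iv0 F98757)) (tt N40522 (iv2 F102113)) (tt N40561 (iv3 F101858)) (tt N40567 D66281) (tt N10036 (iv5 D30964)) (tt N33307 (iv6 F84435)) (tt N38569 (iv7 F102122)))
theorem Q20544 : ∀ i, i < 20544 → P i := stepQ 20543 Q20543 (allL N20543 (tt N15822 (iv1 F79380)) (tt N22715 (iv0 F79379)) (tt N22714 (iv2 F102107)) (tt N30235 (iv3 F111170)) (tt N40565 (iv4 F101861)) (tt N30755 F79378) (tt N10036 (iv6 D30965)) (tt N22713 (iv7 F102104)))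
theorem Q20545 : ∀ i, i < 20545 → P i := stepQ 20544 Q20544 (allL N20544 (tt N29937 (iv1 F102194)) (tt N33121 (iv0 F102195)) (tt N33119 (iv2 F163613)) (tt N10037 (iv3 D30967)) (tt N40568 D66286) (tt N40569 D66287) (tt N40570 D66288) (tt N33118 (iv7 F111142)))
theorem Q20546 : ∀ i, i < 20546 → P i := stepQ 20545 Q20545 (allL N20545 (tt N38399 F98753) (tt N40562 F101864) (tt N40523 (iv2 F102119)) (tt N40571 D66289) (tt N10037 (iv4 D30968)) (tt N40572 D66290) (tt N40573 D66291) (tt N40521 (iv7 F102112)))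
theorem Q20547 : ∀ i, i < 20547 → P i := stepQ 20546 Q20546 (allL N20546 (tt N38504 (iv1 F101854)) (tt N40566 (iv0 F102091)) (tt N38569 (iv2 F102121)) (tt N40569 (iv3 F102192)) (tt N40574 D66292) (tt N10037 (iv5 D30969)) (tt N19735 (iv6 F49396)) (tt N40522 (iv7 F102114)))
theorem Q20548 : ∀ i, i < 20548 → P i := stepQ 20547 Q20547 (allL N20547 (tt N38850 (iv1 F168240)) (tt N40056 (iv0 F101084)) (tt N40524 F102134) (tt N40570 (iv3 F102196)) (tt N40573 (iv4 F102197)) (tt N38722 (iv5 F98694)) (tt N10037 (iv6 D30970)) (tt N40575 D66294))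
theorem Q20549 : ∀ i, i < 20549 → P i := stepQ 20548 Q20548 (allL N20548 (tt N40559 F328802) (tt N40519 (iv0 F329148)) (tt N38758 (iv2 F98754)) (tt N40576 D66297) (tt N10038 (iv4 D30971)) (tt N40577 D66298) (tt N18948 F49397) (tt N38257 (iv7 F97790)))
theorem Q20550 : ∀ i, i < 20550 → P i := stepQ 20549 Q20549 (allL N20549 (tt N14802 (iv1 F49398)) (tt N10040 (iv0 D30972)) (tt N14801 (iv2 F173675)) (tt N33183 (iv3 F84175)) (tt N40578 D66300) (tt N40579 D66301) (tt N33881 (iv6 F317349)) (tt N14800 (iv7 F173680)))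
theorem Q20551 : ∀ i, i < 20551 → P i := stepQ 20550 Q20550 (allL N20550 (tt N10040 (iv1 D30973)) (tt N14802 F49403) (tt N14800 F173681) (tt N40580 D66304) (tt N40581 D66305) (tt N40582 D66306) (tt N40583 D66307) (tt N14801 F173682))
theorem Q20552 : ∀ i, i < 20552 → P i := stepQ 20551 Q20551 (allL N20551 (tt N14801 (iv1 F49404)) (tt N14800 F49402) (tt N10040 (iv2 D30974)) (tt N18362 F49399) (tt N40584 D66308) (tt N18462 F49400) (tt N40585 D66309) (tt N14802 F49401))
theorem Q20553 : ∀ i, i < 20553 → P i := stepQ 20552 Q20552 (allL N20552 (tt N40586 D66310) (tt N20698 (iv0 F49538)) (tt N40584 (iv2 F102212)) (tt N14790 F49405) (tt N10040 (iv4 D30975)) (tt N40587 D66311) (tt N40588 D66312) (tt N14788 F49406))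
theorem Q20554 : ∀ i, i < 20554 → P i := stepQ 20553 Q20553 (allL N20553 (tt N40589 D66313) (tt N40590 D66314) (tt N40585 (iv2 F102216)) (tt N10041 F49407) (tt N40588 (iv4 F102222)) (tt N40591 D66315) (tt N10040 (iv6 D30976)) (tt N30668 (iv7 F79096)))
theorem Q20555 : ∀ i, i < 20555 → P i := stepQ 20554 Q20554 (allL N20554 (tt N40592 D66316) (tt N40593 D66317) (tt N18379 F49410) (tt N40591 (iv3 F102223)) (tt N40594 D66318) (tt N10041 (iv5 D30979)) (tt N18464 F49411) (tt N30672 (iv7 F79107)))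
theorem Q20556 : ∀ i, i < 20556 → P i := stepQ 20555 Q20555 (allL N20555 (tt N18369 (iv1 F102796)) (tt N39762 (iv0 F100657)) (tt N40595 D66326) (tt N10042 (iv3 D30981)) (tt N20682 F49517) (tt N40278 (iv5 F105774)) (tt N40596 D66328) (tt N33355 (iv7 F102816)))
theorem Q20557 : ∀ i, i < 20557 → P i := stepQ 20556 Q20556 (allL N20556 (tt N20718 F49553) (tt N40597 D66330) (tt N33358 (iv2 F102807)) (tt N40598 D66331) (tt N10042 (iv4 D30982)) (tt N40599 D66332) (tt N40600 D66333) (tt N33356 (iv7 F102818)))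
theorem Q20558 : ∀ i, i < 20558 → P i := stepQ 20557 Q20557 (allL N20557 (tt N40601 D66340) (tt N33473 (iv0 F321519)) (tt N33359 (iv2 F102811)) (tt N40596 (iv3 F102244)) (tt N40600 (iv4 F102248)) (tt N40602 D66342) (tt N10042 (iv6 D30984)) (tt N39941 (iv7 F320218)))
theorem Q20559 : ∀ i, i < 20559 → P i := stepQ 20558 Q20558 (allL N20558 (tt N33178 F102252) (tt N33183 (iv0 F173698)) (tt N40603 D66346) (tt N10043 (iv3 D30986)) (tt N40604 D66347) (tt N40281 (iv5 F105779)) (tt N39942 (iv6 F321517)) (tt N33357 (iv7 F102805)))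
theorem Q20560 : ∀ i, i < 20560 → P i := stepQ 20559 Q20559 (allL N20559 (tt N40597 (iv1 F102246)) (tt N20718 F102251) (tt N33356 (iv2 F102817)) (tt N40605 D66350) (tt N10043 (iv4 D30987)) (tt N40606 D66351) (tt N39943 (iv6 F321518)) (tt N33358 (iv7 F102808)))
theorem Q20561 : ∀ i, i < 20561 → P i := stepQ 20560 Q20560 (allL N20560 (tt N20406 (iv1 F181589)) (tt N20402 F181586) (tt N10045 F49414) (tt N33318 (iv3 F84442)) (tt N40607 D66359) (tt N10044 (iv5 D30990)) (tt N40608 D66360) (tt N33360 (iv7 F84563)))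
theorem Q20562 : ∀ i, i < 20562 → P i := stepQ 20561 Q20561 (allL N20561 (tt N40609 D66361) (tt N40610 D66362) (tt N10046 F49415) (tt N33319 (iv3 F84447)) (tt N40535 (iv4 F101826)) (tt N40611 D66363) (tt N10044 (iv6 D30991)) (tt N40612 D66364))
theorem Q20563 : ∀ i, i < 20563 → P i := stepQ 20562 Q20562 (allL N20562 (tt N33360 (iv1 F84565)) (tt N10045 (iv0 D30992)) (tt N20406 (iv2 F181540)) (tt N40613 D66366) (tt N40614 D66367) (tt N16693 (iv5 F181543)) (tt N40615 D66369) (tt N20402 (iv7 F181545)))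
theorem Q20564 : ∀ i, i < 20564 → P i := stepQ 20563 Q20563 (allL N20563 (tt N10045 (iv1 D30993)) (tt N33360 F84564) (tt N20402 F181546) (tt N40616 D66371) (tt N40617 D66372) (tt N16694 (iv5 F181554)) (tt N40618 D66374) (tt N20406 F181547))
theorem Q20565 : ∀ i, i < 20565 → P i := stepQ 20564 Q20564 (allL N20564 (tt N40619 D66375) (tt N40620 D66376) (tt N40607 (iv2 F102263)) (tt N10379 F49416) (tt N10045 (iv4 D30994)) (tt N40621 D66377) (tt N40622 D66378) (tt N33362 (iv7 F84571)))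
theorem Q20566 : ∀ i, i < 20566 → P i := stepQ 20565 Q20565 (allL N20565 (tt N40623 D66379) (tt N40624 D66380) (tt N40608 (iv2 F102264)) (tt N10049 F49417) (tt N40622 (iv4 F102275)) (tt N21149 F319542) (tt N10045 (iv6 D30995)) (tt N40625 D66382))
theorem Q20567 : ∀ i, i < 20567 → P i := stepQ 20566 Q20566 (allL N20566 (tt N40612 (iv1 F102270)) (tt N10046 (iv0 D30996)) (tt N40609 F320808) (tt N36627 (iv3 F319216)) (tt N40626 D66385) (tt N29733 (iv5 F319217)) (tt N33911 (iv6 F319218)) (tt N40610 F320809))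
theorem Q20568 : ∀ i, i < 20568 → P i := stepQ 20567 Q20567 (allL N20567 (tt N10046 (iv1 D30997)) (tt N40612 F102269) (tt N40610 F320813) (tt N40627 D66389) (tt N40628 D66390) (tt N29736 (iv5 F319219)) (tt N40629 D66392) (tt N40609 F320814))
theorem Q20569 : ∀ i, i < 20569 → P i := stepQ 20568 Q20568 (allL N20568 (tt N40630 D66393) (tt N33666 (iv0 F322576)) (tt N40611 (iv2 F102266)) (tt N10052 F49418) (tt N10217 (iv4 F321649)) (tt N10046 (iv5 D30998)) (tt N21149 (iv6 F317929)) (tt N21122 F320819))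
theorem Q20570 : ∀ i, i < 20570 → P i := stepQ 20569 Q20569 (allL N20569 (tt N40610 (iv1 F102265)) (tt N40609 F102268) (tt N40612 (iv2 F102267)) (tt N10053 F49419) (tt N40543 (iv4 F101830)) (tt N21122 (iv5 F319212)) (tt N24202 (iv6 F317423)) (tt N10046 (iv7 D30999)))
theorem Q20571 : ∀ i, i < 20571 → P i := stepQ 20570 Q20570 (allL N20570 (tt N40579 (iv1 F173672)) (tt N40582 (iv0 F173690)) (tt N40631 D66399) (tt N10047 (iv3 D31000)) (tt N40632 D66400) (tt N10178 F49420) (tt N40633 D66401) (tt N20387 F49421))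
theorem Q20572 : ∀ i, i < 20572 → P i := stepQ 20571 Q20571 (allL N20571 (tt N21664 (iv1 F315387)) (tt N16997 F314036) (tt N20398 F49422) (tt N40633 (iv3 F102292)) (tt N10212 F49423) (tt N21844 (iv5 F315891)) (tt N10047 (iv6 D31001)) (tt N21663 F314037))
theorem Q20573 : ∀ i, i < 20573 → P i := stepQ 20572 Q20572 (allL N20572 (tt N18366 (iv1 F204431)) (tt N18371 F204426) (tt N33330 F318130) (tt N10048 (iv3 D31002)) (tt N10052 (iv4 F320293)) (tt N10170 F49424) (tt N21150 (iv6 F317431)) (tt N20396 F49425))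
theorem Q20574 : ∀ i, i < 20574 → P i := stepQ 20573 Q20573 (allL N20573 (tt N40634 D66410) (tt N40635 D66411) (tt N20389 F49426) (tt N21150 F319714) (tt N10218 F49427) (tt N40636 D66412) (tt N10048 (iv6 D31003)) (tt N40637 D66413))
theorem Q20575 : ∀ i, i < 20575 → P i := stepQ 20574 Q20574 (allL N20574 (tt N21153 (iv1 F317416)) (tt N10049 (iv0 D31004)) (tt N21150 F105861) (tt N40638 D66415) (tt N16867 (iv4 F105863)) (tt N36382 (iv5 F317826)) (tt N33330 F317834) (tt N21152 F105862))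
theorem Q20576 : ∀ i, i < 20576 → P i := stepQ 20575 Q20575 (allL N20575 (tt N10049 (iv1 D31005)) (tt N21153 (iv0 F317415)) (tt N21152 (iv2 F105857)) (tt N40637 (iv3 F318189)) (tt N16868 (iv4 F105858)) (tt N40639 D66422) (tt N21670 F315574) (tt N21150 (iv7 F105860)))
theorem Q20577 : ∀ i, i < 20577 → P i := stepQ 20576 Q20576 (allL N20576 (tt N21152 F110678) (tt N21150 F110679) (tt N21153 (iv2 F317417)) (tt N40625 (iv3 F102278)) (tt N10386 F49429) (tt N16868 F315754) (tt N16994 F315755) (tt N10049 (iv7 D31007)))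
theorem Q20578 : ∀ i, i < 20578 → P i := stepQ 20577 Q20577 (allL N20577 (tt N40640 D66428) (tt N40583 F320119) (tt N36654 (iv2 F317975)) (tt N10050 (iv3 D31009)) (tt N40641 D66431) (tt N10231 (iv5 F317980)) (tt N10234 (iv6 F317316)) (tt N33326 (iv7 F84468)))
theorem Q20579 : ∀ i, i < 20579 → P i := stepQ 20578 Q20578 (allL N20578 (tt N18367 F319591) (tt N36655 (iv0 F314547)) (tt N36656 (iv2 F314544)) (tt N10051 (iv3 D31013)) (tt N40642 D66440) (tt N33501 (iv5 F314548)) (tt N36652 F312224) (tt N22581 (iv7 F314550)))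
theorem Q20580 : ∀ i, i < 20580 → P i := stepQ 20579 Q20579 (allL N20579 (tt N38851 (iv1 F98886)) (tt N33469 (iv0 F95838)) (tt N33327 (iv2 F84471)) (tt N36652 (iv3 F309983)) (tt N18350 F49435) (tt N21714 F309980) (tt N10051 (iv6 D31015)) (tt N22783 (iv7 F309984)))
theorem Q20581 : ∀ i, i < 20581 → P i := stepQ 20580 Q20580 (allL N20580 (tt N33331 (iv1 F84485)) (tt N10052 (iv0 D31016)) (tt N33328 F84474) (tt N40643 D66445) (tt N40644 D66446) (tt N19246 F49436) (tt N21119 F311165) (tt N33329 (iv7 F84478)))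
theorem Q20582 : ∀ i, i < 20582 → P i := stepQ 20581 Q20581 (allL N20581 (tt N10052 (iv1 D31017)) (tt N33331 F84484) (tt N33329 (iv2 F84480)) (tt N40645 D66448) (tt N40646 D66449) (tt N20502 (iv5 F49437)) (tt N40647 D66450) (tt N33328 F84475))
theorem Q20583 : ∀ i, i < 20583 → P i := stepQ 20582 Q20582 (allL N20582 (tt N33329 (iv1 F84477)) (tt N33328 (iv0 F84476)) (tt N33331 (iv2 F84482)) (tt N21122 F319608) (tt N20396 F319609) (tt N10053 F49438) (tt N18613 (iv6 F316303)) (tt N10052 (iv7 D31019)))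
theorem Q20584 : ∀ i, i < 20584 → P i := stepQ 20583 Q20583 (allL N20583 (tt N33164 (iv1 F165205)) (tt N33049 (iv0 F102027)) (tt N33137 (iv2 F102034)) (tt N40648 D66458) (tt N10054 (iv4 D31023)) (tt N40649 D66459) (tt N39497 (iv6 F101987)) (tt N33139 (iv7 F102019)))
theorem Q20585 : ∀ i, i < 20585 → P i := stepQ 20584 Q20584 (allL N20584 (tt N38597 (iv1 F102041)) (tt N38584 F102042) (tt N33138 F102038) (tt N10056 F49439) (tt N40650 D66460) (tt N10054 (iv5 D31024)) (tt N33333 (iv6 F84494)) (tt N33140 (iv7 F102013)))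
theorem Q20586 : ∀ i, i < 20586 → P i := stepQ 20585 Q20585 (allL N20585 (tt N33425 F320928) (tt N33412 F320929) (tt N33423 F321238) (tt N10055 (iv3 D31025)) (tt N40648 (iv4 F102354)) (tt N16954 (iv5 F318782)) (tt N17262 F316524) (tt N33335 (iv7 F84513)))
theorem Q20587 : ∀ i, i < 20587 → P i := stepQ 20586 Q20586 (allL N20586 (tt N37130 (iv1 F95571)) (tt N37088 F95509) (tt N33334 (iv2 F84499)) (tt N40651 D66469) (tt N10056 (iv4 D31027)) (tt N40652 D66470) (tt N33334 (iv6 F84500)) (tt N33337 (iv7 F84520)))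
theorem Q20588 : ∀ i, i < 20588 → P i := stepQ 20587 Q20587 (allL N20587 (tt N10108 F319170) (tt N40653 D66472) (tt N40654 D66473) (tt N10057 (iv3 D31034)) (tt N39653 (iv4 F102074)) (tt N21406 (iv5 F314739)) (tt N40655 D66475) (tt N21405 (iv7 F316148)))
theorem Q20589 : ∀ i, i < 20589 → P i := stepQ 20588 Q20588 (allL N20588 (tt N37960 (iv1 F97036)) (tt N33459 F96726) (tt N33336 (iv2 F84516)) (tt N40655 (iv3 F102363)) (tt N10059 F49443) (tt N21712 F309121) (tt N10057 (iv6 D31036)) (tt N21900 F311020))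
theorem Q20590 : ∀ i, i < 20590 → P i := stepQ 20589 Q20589 (allL N20589 (tt N37088 (iv1 F95510)) (tt N37130 F95570) (tt N33337 (iv2 F84518)) (tt N40656 D66479) (tt N10058 (iv4 D31037)) (tt N40657 D66480) (tt N19334 F98842) (tt N33334 (iv7 F84501)))
theorem Q20591 : ∀ i, i < 20591 → P i := stepQ 20590 Q20590 (allL N20590 (tt N40658 D66481) (tt N40659 D66482) (tt N40660 D66483) (tt N10060 (iv3 D31038)) (tt N40576 (iv4 F102208)) (tt N40661 D66484) (tt N18949 F49445) (tt N37031 (iv7 F95421)))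
theorem Q20592 : ∀ i, i < 20592 → P i := stepQ 20591 Q20591 (allL N20591 (tt N40662 D66485) (tt N40663 D66486) (tt N20395 (iv2 F320411)) (tt N40661 (iv3 F102369)) (tt N20394 F320311) (tt N10060 (iv5 D31039)) (tt N40664 D66488) (tt N37032 (iv7 F95422)))
theorem Q20593 : ∀ i, i < 20593 → P i := stepQ 20592 Q20592 (allL N20592 (tt N40665 D66489) (tt N40666 D66490) (tt N40667 D66491) (tt N10061 (iv3 D31040)) (tt N31436 (iv4 F80649)) (tt N40668 D66492) (tt N40669 D66493) (tt N30140 (iv7 F78091)))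
theorem Q20594 : ∀ i, i < 20594 → P i := stepQ 20593 Q20593 (allL N20593 (tt N20456 F49447) (tt N20453 F49448) (tt N10066 F49446) (tt N40668 (iv3 F102377)) (tt N30801 (iv4 F79506)) (tt N10061 (iv5 D31041)) (tt N40670 D66494) (tt N30141 (iv7 F78094)))
theorem Q20595 : ∀ i, i < 20595 → P i := stepQ 20594 Q20594 (allL N20594 (tt N40671 D66495) (tt N40672 D66496) (tt N10067 F49450) (tt N40669 (iv3 F102378)) (tt N10062 F49451) (tt N40673 D66497) (tt N10061 (iv6 D31042)) (tt N40674 D66498))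
theorem Q20596 : ∀ i, i < 20596 → P i := stepQ 20595 Q20595 (allL N20595 (tt N10070 (iv1 F49454)) (tt N10062 (iv0 D31043)) (tt N10068 (iv2 F102435)) (tt N39164 (iv3 F163540)) (tt N40675 D66501) (tt N33339 (iv5 F84523)) (tt N40418 (iv6 F101692)) (tt N10069 (iv7 F102441)))
theorem Q20597 : ∀ i, i < 20597 → P i := stepQ 20596 Q20596 (allL N20596 (tt N10062 (iv1 D31044)) (tt N10070 F49452) (tt N10069 F102442) (tt N29947 (iv3 F163591)) (tt N40676 D66504) (tt N33340 F95818) (tt N22693 (iv6 F95820)) (tt N10068 F102443))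
theorem Q20598 : ∀ i, i < 20598 → P i := stepQ 20597 Q20597 (allL N20597 (tt N10069 (iv1 F49455)) (tt N10068 F49456) (tt N10070 F49453) (tt N33341 (iv3 F84527)) (tt N40674 (iv4 F102383)) (tt N31541 (iv5 F80860)) (tt N30145 (iv6 F78102)) (tt N10062 (iv7 D31045)))
theorem Q20599 : ∀ i, i < 20599 → P i := stepQ 20598 Q20598 (allL N20598 (tt N40677 D66505) (tt N40678 D66506) (tt N40679 D66507) (tt N10063 (iv3 D31046)) (tt N33124 (iv4 F84105)) (tt N40390 (iv5 F101671)) (tt N38663 (iv6 F98570)) (tt N33293 (iv7 F84414)))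
theorem Q20600 : ∀ i, i < 20600 → P i := stepQ 20599 Q20599 (allL N20599 (tt N40680 D66508) (tt N40681 D66509) (tt N40682 D66510) (tt N10064 (iv3 D31047)) (tt N20784 (iv4 F49608)) (tt N40392 (iv5 F101672)) (tt N40683 D66511) (tt N33295 (iv7 F84419)))
theorem Q20601 : ∀ i, i < 20601 → P i := stepQ 20600 Q20600 (allL N20600 (tt N33465 (iv1 F168106)) (tt N40300 (iv0 F168103)) (tt N33294 (iv2 F84415)) (tt N40683 (iv3 F102391)) (tt N20781 (iv4 F49598)) (tt N40684 D66514) (tt N10064 (iv6 D31048)) (tt N38716 (iv7 F98685)))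
theorem Q20602 : ∀ i, i < 20602 → P i := stepQ 20601 Q20601 (allL N20601 (tt N33298 (iv1 F84425)) (tt N10065 (iv0 D31049)) (tt N33297 (iv2 F102845)) (tt N40685 D66516) (tt N33426 (iv4 F84763)) (tt N40382 (iv5 F180140)) (tt N39960 (iv6 F323803)) (tt N33296 (iv7 F102869)))
theorem Q20603 : ∀ i, i < 20603 → P i := stepQ 20602 Q20602 (allL N20602 (tt N10065 (iv1 D31050)) (tt N33298 F84426) (tt N33296 (iv2 F102868)) (tt N40686 D66520) (tt N33370 (iv4 F84645)) (tt N40383 (iv5 F103129)) (tt N40687 D66522) (tt N33297 (iv7 F102846)))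
theorem Q20604 : ∀ i, i < 20604 → P i := stepQ 20603 Q20603 (allL N20603 (tt N33297 F84422) (tt N33296 F84420) (tt N10065 (iv2 D31051)) (tt N40667 (iv3 F102376)) (tt N10073 F49457) (tt N40688 D66523) (tt N40689 D66524) (tt N33298 (iv7 F84424)))
theorem Q20605 : ∀ i, i < 20605 → P i := stepQ 20604 Q20604 (allL N20604 (tt N40690 D66525) (tt N40691 D66526) (tt N40688 (iv2 F102394)) (tt N10066 F49458) (tt N40692 D66527) (tt N10065 (iv5 D31052)) (tt N40693 D66528) (tt N33299 (iv7 F84428)))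
theorem Q20606 : ∀ i, i < 20606 → P i := stepQ 20605 Q20605 (allL N20605 (tt N40694 D66529) (tt N40695 D66530) (tt N40689 (iv2 F102395)) (tt N10067 F49459) (tt N10075 F49460) (tt N40696 D66531) (tt N10065 (iv6 D31053)) (tt N40697 D66532))
theorem Q20607 : ∀ i, i < 20607 → P i := stepQ 20606 Q20606 (allL N20606 (tt N30141 (iv1 F78096)) (tt N10066 (iv0 D31054)) (tt N20456 (iv2 F49462)) (tt N40698 D66533) (tt N30844 (iv4 F79569)) (tt N16663 F49461) (tt N30838 F336701) (tt N20453 (iv7 F49463)))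
theorem Q20608 : ∀ i, i < 20608 → P i := stepQ 20607 Q20607 (allL N20607 (tt N10066 (iv1 D31055)) (tt N30141 (iv0 F78095)) (tt N20453 (iv2 F49466)) (tt N40699 D66535) (tt N30841 (iv4 F79566)) (tt N16664 F49465) (tt N40700 D66536) (tt N20456 F49464))
theorem Q20609 : ∀ i, i < 20609 → P i := stepQ 20608 Q20608 (allL N20608 (tt N40701 D66537) (tt N40702 D66538) (tt N40670 (iv2 F102379)) (tt N40693 (iv3 F102397)) (tt N30967 (iv4 F79740)) (tt N40703 D66539) (tt N10066 (iv6 D31056)) (tt N40704 D66540))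
theorem Q20610 : ∀ i, i < 20610 → P i := stepQ 20609 Q20609 (allL N20609 (tt N40674 (iv1 F102387)) (tt N10067 (iv0 D31057)) (tt N40671 (iv2 F166454)) (tt N40705 D66542) (tt N40706 D66543) (tt N40707 D66544) (tt N40708 D66545) (tt N40672 (iv7 F166461)))
theorem Q20611 : ∀ i, i < 20611 → P i := stepQ 20610 Q20610 (allL N20610 (tt N10067 (iv1 D31058)) (tt N40674 F102385) (tt N40672 (iv2 F166460)) (tt N40709 D66547) (tt N40710 D66548) (tt N40711 D66549) (tt N40712 D66550) (tt N40671 (iv7 F166455)))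
theorem Q20612 : ∀ i, i < 20612 → P i := stepQ 20611 Q20611 (allL N20611 (tt N40713 D66551) (tt N40714 D66552) (tt N40673 (iv2 F102381)) (tt N40696 (iv3 F102398)) (tt N40715 D66553) (tt N10067 (iv5 D31059)) (tt N40703 (iv6 F102407)) (tt N40716 D66554))
theorem Q20613 : ∀ i, i < 20613 → P i := stepQ 20612 Q20612 (allL N20612 (tt N40672 (iv1 F102380)) (tt N40671 F102384) (tt N40674 (iv2 F102382)) (tt N40697 (iv3 F102399)) (tt N10070 F49467) (tt N40716 (iv5 F102411)) (tt N33305 (iv6 F84432)) (tt N10067 (iv7 D31060)))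
theorem Q20614 : ∀ i, i < 20614 → P i := stepQ 20613 Q20613 (allL N20613 (tt N40717 D66565) (tt N30151 F166088) (tt N40675 (iv2 F102437)) (tt N40718 D66567) (tt N10068 (iv4 D31063)) (tt N40719 D66568) (tt N40720 D66569) (tt N40676 (iv7 F102446)))
theorem Q20615 : ∀ i, i < 20615 → P i := stepQ 20614 Q20614 (allL N20614 (tt N40302 F101530) (tt N31915 (iv0 F163909)) (tt N40418 (iv2 F102434)) (tt N30306 (iv3 F104344)) (tt N40720 (iv4 F102421)) (tt N31635 F81078) (tt N10068 (iv6 D31065)) (tt N40415 (iv7 F102431)))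
theorem Q20616 : ∀ i, i < 20616 → P i := stepQ 20615 Q20615 (allL N20615 (tt N29927 (iv1 F163549)) (tt N39165 F163548) (tt N30307 (iv2 F104361)) (tt N10069 (iv3 D31067)) (tt N36121 (iv4 F166477)) (tt N30294 (iv5 F163551)) (tt N39288 (iv6 F163553)) (tt N39164 (iv7 F163541)))
theorem Q20617 : ∀ i, i < 20617 → P i := stepQ 20616 Q20616 (allL N20616 (tt N30151 (iv1 F166087)) (tt N40717 F102424) (tt N40676 (iv2 F102445)) (tt N40721 D66579) (tt N10069 (iv4 D31068)) (tt N40722 D66580) (tt N40723 D66581) (tt N40675 (iv7 F102438)))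
theorem Q20618 : ∀ i, i < 20618 → P i := stepQ 20617 Q20617 (allL N20617 (tt N22695 F84550) (tt N15354 F84551) (tt N22693 (iv2 F102449)) (tt N39288 (iv3 F163552)) (tt N40723 (iv4 F102490)) (tt N40724 D66582) (tt N10069 (iv6 D31070)) (tt N22694 F102452))
theorem Q20619 : ∀ i, i < 20619 → P i := stepQ 20618 Q20618 (allL N20618 (tt N40580 (iv1 F179988)) (tt N40725 D66590) (tt N40726 D66591) (tt N10071 (iv3 D31072)) (tt N20649 F49493) (tt N40461 (iv5 F103122)) (tt N39974 (iv6 F321300)) (tt N33313 (iv7 F102520)))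
theorem Q20620 : ∀ i, i < 20620 → P i := stepQ 20619 Q20619 (allL N20619 (tt N40727 D66595) (tt N40728 D66596) (tt N33317 (iv2 F102529)) (tt N40729 D66597) (tt N10071 (iv4 D31073)) (tt N40730 D66598) (tt N35408 (iv6 F321301)) (tt N33314 (iv7 F102523)))
theorem Q20621 : ∀ i, i < 20621 → P i := stepQ 20620 Q20620 (allL N20620 (tt N39765 (iv1 F102778)) (tt N18364 F102511) (tt N39761 F102538) (tt N10072 (iv3 D31077)) (tt N20702 (iv4 F49542)) (tt N40464 (iv5 F103127)) (tt N40731 D66610) (tt N33316 (iv7 F102528)))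
theorem Q20622 : ∀ i, i < 20622 → P i := stepQ 20621 Q20621 (allL N20621 (tt N40728 (iv1 F102505)) (tt N40727 F102509) (tt N33314 (iv2 F102522)) (tt N39709 (iv3 F100594)) (tt N10072 (iv4 D31078)) (tt N40732 D66611) (tt N40733 D66612) (tt N33317 (iv7 F102530)))
theorem Q20623 : ∀ i, i < 20623 → P i := stepQ 20622 Q20622 (allL N20622 (tt N33468 F327174) (tt N40734 D66616) (tt N33315 (iv2 F102550)) (tt N40731 (iv3 F102554)) (tt N40733 (iv4 F102555)) (tt N40735 D66617) (tt N10072 (iv6 D31080)) (tt N39976 (iv7 F321304)))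
theorem Q20624 : ∀ i, i < 20624 → P i := stepQ 20623 Q20623 (allL N20623 (tt N20487 (iv1 F180971)) (tt N20483 F180968) (tt N10074 F49472) (tt N33360 (iv3 F84562)) (tt N40736 D66619) (tt N10073 (iv5 D31081)) (tt N40737 D66620) (tt N33318 (iv7 F84443)))
theorem Q20625 : ∀ i, i < 20625 → P i := stepQ 20624 Q20624 (allL N20624 (tt N40738 D66621) (tt N40739 D66622) (tt N10075 F49473) (tt N33361 (iv3 F84567)) (tt N40689 (iv4 F102396)) (tt N24183 (iv5 F317015)) (tt N10073 (iv6 D31082)) (tt N36491 (iv7 F317018)))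
theorem Q20626 : ∀ i, i < 20626 → P i := stepQ 20625 Q20625 (allL N20625 (tt N33318 (iv1 F84445)) (tt N10074 (iv0 D31083)) (tt N20487 F180306) (tt N40740 D66626) (tt N40741 D66627) (tt N16673 (iv5 F180312)) (tt N40742 D66629) (tt N20483 F180307))
theorem Q20627 : ∀ i, i < 20627 → P i := stepQ 20626 Q20626 (allL N20626 (tt N10074 (iv1 D31084)) (tt N33318 F84444) (tt N20483 (iv2 F180304)) (tt N40743 D66631) (tt N40744 D66632) (tt N16674 F180303) (tt N24312 (iv6 F322670)) (tt N20487 (iv7 F180305)))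
theorem Q20628 : ∀ i, i < 20628 → P i := stepQ 20627 Q20627 (allL N20627 (tt N40745 D66635) (tt N40746 D66636) (tt N40736 (iv2 F102556)) (tt N10349 F49474) (tt N10074 (iv4 D31085)) (tt N40747 D66637) (tt N40748 D66638) (tt N33320 (iv7 F84451)))
theorem Q20629 : ∀ i, i < 20629 → P i := stepQ 20628 Q20628 (allL N20628 (tt N18566 (iv1 F317998)) (tt N40749 D66640) (tt N40737 (iv2 F102557)) (tt N10076 F49475) (tt N40748 (iv4 F102568)) (tt N24184 (iv5 F317999)) (tt N10074 (iv6 D31086)) (tt N21636 (iv7 F317644)))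
theorem Q20630 : ∀ i, i < 20630 → P i := stepQ 20629 Q20629 (allL N20629 (tt N36491 F319289) (tt N10075 (iv0 D31087)) (tt N40738 (iv2 F321316)) (tt N40750 D66644) (tt N40751 D66645) (tt N40752 D66646) (tt N40753 D66647) (tt N40739 (iv7 F321319)))
theorem Q20631 : ∀ i, i < 20631 → P i := stepQ 20630 Q20630 (allL N20630 (tt N10075 (iv1 D31088)) (tt N36491 F319290) (tt N40739 (iv2 F321318)) (tt N40754 D66649) (tt N40755 D66650) (tt N40756 D66651) (tt N40757 D66652) (tt N40738 (iv7 F321317)))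
theorem Q20632 : ∀ i, i < 20632 → P i := stepQ 20631 Q20631 (allL N20631 (tt N40739 (iv1 F102558)) (tt N40738 F102561) (tt N36491 (iv2 F317016)) (tt N10079 F49477) (tt N40697 (iv4 F102400)) (tt N10703 F316882) (tt N33325 (iv6 F84455)) (tt N10075 (iv7 D31090)))
theorem Q20633 : ∀ i, i < 20633 → P i := stepQ 20632 Q20632 (allL N20632 (tt N40758 D66671) (tt N18372 (iv0 F321580)) (tt N40489 (iv2 F321536)) (tt N10077 (iv3 D31096)) (tt N23586 F324663) (tt N17980 F319578) (tt N21065 F319579) (tt N33365 (iv7 F84598)))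
theorem Q20634 : ∀ i, i < 20634 → P i := stepQ 20633 Q20633 (allL N20633 (tt N31918 (iv1 F81734)) (tt N31916 (iv0 F81709)) (tt N25264 F316244) (tt N21065 (iv3 F318616)) (tt N18360 F53698) (tt N17982 (iv5 F318517)) (tt N10077 (iv6 D31099)) (tt N39952 (iv7 F100903)))
theorem Q20635 : ∀ i, i < 20635 → P i := stepQ 20634 Q20634 (allL N20634 (tt N33881 (iv1 F321537)) (tt N33885 (iv0 F321538)) (tt N40759 D66681) (tt N10078 (iv3 D31101)) (tt N40760 D66682) (tt N25261 F319581) (tt N39950 (iv6 F100901)) (tt N25260 F319582))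
theorem Q20636 : ∀ i, i < 20636 → P i := stepQ 20635 Q20635 (allL N20635 (tt N40761 D66717) (tt N10113 (iv0 F320570)) (tt N40762 D66719) (tt N10080 (iv3 D31116)) (tt N39686 (iv4 F161305)) (tt N12457 F318388) (tt N40763 D66721) (tt N33369 (iv7 F84640)))
theorem Q20637 : ∀ i, i < 20637 → P i := stepQ 20636 Q20636 (allL N20636 (tt N33461 (iv1 F94152)) (tt N35894 (iv0 F93447)) (tt N33367 (iv2 F84629)) (tt N40763 (iv3 F102606)) (tt N10081 F49487) (tt N12459 F316834) (tt N10080 (iv6 D31118)) (tt N39959 (iv7 F100923)))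
theorem Q20638 : ∀ i, i < 20638 → P i := stepQ 20637 Q20637 (allL N20637 (tt N33052 (iv1 F166203)) (tt N33174 (iv0 F166206)) (tt N33155 (iv2 F161278)) (tt N40764 D66738) (tt N10082 (iv4 D31122)) (tt N40765 D66739) (tt N39954 (iv6 F100912)) (tt N33153 (iv7 F161285)))
theorem Q20639 : ∀ i, i < 20639 → P i := stepQ 20638 Q20638 (allL N20638 (tt N22123 F322303) (tt N22127 F322304) (tt N33436 F322301) (tt N10083 (iv3 D31123)) (tt N40764 (iv4 F102613)) (tt N35440 F318401) (tt N39956 (iv6 F100915)) (tt N33366 (iv7 F84625)))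
theorem Q20640 : ∀ i, i < 20640 → P i := stepQ 20639 Q20639 (allL N20639 (tt N10110 (iv1 F102949)) (tt N40766 D66753) (tt N40531 (iv2 F102980)) (tt N10084 (iv3 D31126)) (tt N33343 F84534) (tt N40767 D66755) (tt N40768 D66756) (tt N33391 (iv7 F102966)))
theorem Q20641 : ∀ i, i < 20641 → P i := stepQ 20640 Q20640 (allL N20640 (tt N40769 D66758) (tt N40770 D66759) (tt N33394 (iv2 F102957)) (tt N40771 D66760) (tt N10084 (iv4 D31127)) (tt N40772 D66761) (tt N40773 D66762) (tt N33392 (iv7 F102968)))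
theorem Q20642 : ∀ i, i < 20642 → P i := stepQ 20641 Q20641 (allL N20641 (tt N33442 F320150) (tt N10120 (iv0 F181696)) (tt N33395 (iv2 F102959)) (tt N40767 (iv3 F102623)) (tt N40774 D66766) (tt N10084 (iv5 D31128)) (tt N40775 D66767) (tt N33393 (iv7 F102970)))
theorem Q20643 : ∀ i, i < 20643 → P i := stepQ 20642 Q20642 (allL N20642 (tt N40776 D66769) (tt N33460 (iv0 F325036)) (tt N33396 (iv2 F102961)) (tt N40768 (iv3 F102624)) (tt N40773 (iv4 F102628)) (tt N40777 D66771) (tt N10084 (iv6 D31129)) (tt N39979 (iv7 F320417)))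
theorem Q20644 : ∀ i, i < 20644 → P i := stepQ 20643 Q20643 (allL N20643 (tt N40770 (iv1 F102627)) (tt N40769 F102631) (tt N33392 (iv2 F102967)) (tt N40778 D66779) (tt N10085 (iv4 D31132)) (tt N40779 D66780) (tt N25164 (iv6 F319063)) (tt N33394 (iv7 F102958)))
theorem Q20645 : ∀ i, i < 20645 → P i := stepQ 20644 Q20644 (allL N20644 (tt N10120 F181697) (tt N33442 F320149) (tt N33393 (iv2 F102969)) (tt N21694 (iv3 F317220)) (tt N40780 D66782) (tt N10085 (iv5 D31133)) (tt N40781 D66783) (tt N33395 (iv7 F102960)))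
theorem Q20646 : ∀ i, i < 20646 → P i := stepQ 20645 Q20645 (allL N20645 (tt N33401 (iv1 F84700)) (tt N33400 F84699) (tt N10087 F49490) (tt N40782 D66788) (tt N10086 (iv4 D31135)) (tt N40783 D66789) (tt N40784 D66790) (tt N33397 (iv7 F84689)))
theorem Q20647 : ∀ i, i < 20647 → P i := stepQ 20646 Q20646 (allL N20646 (tt N20883 (iv1 F181561)) (tt N20879 (iv0 F181562)) (tt N10088 F49491) (tt N33377 (iv3 F84649)) (tt N40785 D66791) (tt N10086 (iv5 D31136)) (tt N40786 D66792) (tt N33398 (iv7 F84694)))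
theorem Q20648 : ∀ i, i < 20648 → P i := stepQ 20647 Q20647 (allL N20647 (tt N22555 (iv1 F319190)) (tt N40787 D66794) (tt N10089 F49492) (tt N33378 (iv3 F84654)) (tt N40784 (iv4 F102647)) (tt N40788 D66795) (tt N10086 (iv6 D31137)) (tt N40789 D66796))
theorem Q20649 : ∀ i, i < 20649 → P i := stepQ 20648 Q20648 (allL N20648 (tt N33397 (iv1 F84691)) (tt N10087 (iv0 D31138)) (tt N33401 (iv2 F102519)) (tt N39671 F100557) (tt N40790 D66797) (tt N40791 D66798) (tt N40792 D66799) (tt N33400 F102518))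
theorem Q20650 : ∀ i, i < 20650 → P i := stepQ 20649 Q20649 (allL N20649 (tt N10087 (iv1 D31139)) (tt N33397 (iv0 F84690)) (tt N33400 F102516) (tt N40793 D66800) (tt N20618 (iv4 F49493)) (tt N40794 D66801) (tt N39983 (iv6 F322929)) (tt N33401 (iv7 F102517)))
theorem Q20651 : ∀ i, i < 20651 → P i := stepQ 20650 Q20650 (allL N20650 (tt N40795 D66803) (tt N40796 D66804) (tt N40783 (iv2 F102645)) (tt N29680 (iv3 F76916)) (tt N40797 D66805) (tt N10087 (iv5 D31140)) (tt N40798 D66806) (tt N33402 (iv7 F84703)))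
theorem Q20652 : ∀ i, i < 20652 → P i := stepQ 20651 Q20651 (allL N20651 (tt N40799 D66807) (tt N40800 D66808) (tt N40784 (iv2 F102646)) (tt N29681 (iv3 F76918)) (tt N10089 F49494) (tt N40801 D66809) (tt N10087 (iv6 D31141)) (tt N40802 D66810))
theorem Q20653 : ∀ i, i < 20653 → P i := stepQ 20652 Q20652 (allL N20652 (tt N33398 (iv1 F84696)) (tt N10088 (iv0 D31142)) (tt N20883 F183018) (tt N40803 D66812) (tt N40804 D66813) (tt N16833 F181596) (tt N40805 D66815) (tt N20879 (iv7 F183026)))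
theorem Q20654 : ∀ i, i < 20654 → P i := stepQ 20653 Q20653 (allL N20653 (tt N10088 (iv1 D31143)) (tt N33398 F84695) (tt N20879 (iv2 F183025)) (tt N33389 (iv3 F320138)) (tt N40806 D66818) (tt N16834 F181599) (tt N40807 D66820) (tt N20883 F183021))
theorem Q20655 : ∀ i, i < 20655 → P i := stepQ 20654 Q20654 (allL N20654 (tt N40808 D66821) (tt N40809 D66822) (tt N40785 (iv2 F102648)) (tt N10325 F49495) (tt N10088 (iv4 D31144)) (tt N40810 D66823) (tt N40811 D66824) (tt N33404 (iv7 F84709)))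
theorem Q20656 : ∀ i, i < 20656 → P i := stepQ 20655 Q20655 (allL N20655 (tt N40812 D66825) (tt N40813 D66826) (tt N40786 (iv2 F102649)) (tt N10092 F49496) (tt N40811 (iv4 F102669)) (tt N33656 (iv5 F318483)) (tt N10088 (iv6 D31145)) (tt N40814 D66828))
theorem Q20657 : ∀ i, i < 20657 → P i := stepQ 20656 Q20656 (allL N20656 (tt N40789 (iv1 F102655)) (tt N10089 (iv0 D31146)) (tt N22555 F322312) (tt N40815 D66830) (tt N40816 D66831) (tt N16938 (iv5 F320554)) (tt N21905 (iv6 F320555)) (tt N40787 F322313))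
theorem Q20658 : ∀ i, i < 20658 → P i := stepQ 20657 Q20657 (allL N20657 (tt N10089 (iv1 D31147)) (tt N40789 F102654) (tt N40787 F322317) (tt N22560 (iv3 F320556)) (tt N40817 D66836) (tt N40818 D66837) (tt N40819 D66838) (tt N22555 F322318))
theorem Q20659 : ∀ i, i < 20659 → P i := stepQ 20658 Q20658 (allL N20658 (tt N40820 D66839) (tt N40821 D66840) (tt N40788 (iv2 F102651)) (tt N10093 F49497) (tt N40822 D66841) (tt N10089 (iv5 D31148)) (tt N33656 (iv6 F318484)) (tt N40823 D66842))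
theorem Q20660 : ∀ i, i < 20660 → P i := stepQ 20659 Q20659 (allL N20659 (tt N40787 (iv1 F102650)) (tt N22555 (iv0 F319189)) (tt N40789 (iv2 F102652)) (tt N10094 F49498) (tt N40802 (iv4 F102663)) (tt N40823 (iv5 F102676)) (tt N22155 (iv6 F319194)) (tt N10089 (iv7 D31149)))
theorem Q20661 : ∀ i, i < 20661 → P i := stepQ 20660 Q20660 (allL N20660 (tt N33422 F181960) (tt N33411 (iv0 F181961)) (tt N33419 (iv2 F175001)) (tt N10090 (iv3 D31150)) (tt N40824 D66846) (tt N16671 F49499) (tt N40825 D66847) (tt N20365 F49500))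
theorem Q20662 : ∀ i, i < 20662 → P i := stepQ 20661 Q20661 (allL N20661 (tt N34595 (iv1 F311567)) (tt N11498 (iv0 F311230)) (tt N20380 F49501) (tt N40825 (iv3 F102686)) (tt N10357 F49502) (tt N21852 F309241) (tt N10090 (iv6 D31151)) (tt N34594 (iv7 F311568)))
theorem Q20663 : ∀ i, i < 20663 → P i := stepQ 20662 Q20662 (allL N20662 (tt N10107 (iv1 F103074)) (tt N10112 (iv0 F103075)) (tt N40826 D66853) (tt N10091 (iv3 D31152)) (tt N40827 D66854) (tt N15562 F49503) (tt N40828 D66855) (tt N20378 F49504))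
theorem Q20664 : ∀ i, i < 20664 → P i := stepQ 20663 Q20663 (allL N20663 (tt N40829 D66856) (tt N40830 D66857) (tt N20367 F49505) (tt N40828 (iv3 F102711)) (tt N10355 F49506) (tt N40831 D66858) (tt N10091 (iv6 D31153)) (tt N40832 D66859))
theorem Q20665 : ∀ i, i < 20665 → P i := stepQ 20664 Q20664 (allL N20664 (tt N33386 (iv1 F84671)) (tt N10092 (iv0 D31154)) (tt N33384 (iv2 F110655)) (tt N40807 F321854) (tt N10383 (iv4 F105815)) (tt N21469 F315928) (tt N33389 (iv6 F315924)) (tt N33385 (iv7 F110654)))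
theorem Q20666 : ∀ i, i < 20666 → P i := stepQ 20665 Q20665 (allL N20665 (tt N10092 (iv1 D31155)) (tt N33386 F84670) (tt N33385 (iv2 F110651)) (tt N40833 D66866) (tt N10384 (iv4 F105819)) (tt N40834 D66868) (tt N34346 (iv6 F105821)) (tt N33384 (iv7 F110657)))
theorem Q20667 : ∀ i, i < 20667 → P i := stepQ 20666 Q20666 (allL N20666 (tt N33385 (iv1 F84663)) (tt N33384 F84669) (tt N33386 (iv2 F84666)) (tt N40814 (iv3 F102672)) (tt N10331 F49508) (tt N10384 (iv5 F316371)) (tt N10984 F313939) (tt N10092 (iv7 D31157)))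
theorem Q20668 : ∀ i, i < 20668 → P i := stepQ 20667 Q20667 (allL N20667 (tt N33390 (iv1 F84684)) (tt N10093 (iv0 D31158)) (tt N33387 F84673) (tt N40835 D66874) (tt N18366 F319589) (tt N18998 F49509) (tt N20918 F311330) (tt N33388 (iv7 F84677)))
theorem Q20669 : ∀ i, i < 20669 → P i := stepQ 20668 Q20668 (allL N20668 (tt N10093 (iv1 D31159)) (tt N33390 F84683) (tt N33388 (iv2 F84679)) (tt N40836 D66876) (tt N18371 F319712) (tt N20509 (iv5 F49510)) (tt N40837 D66877) (tt N33387 F84674))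
theorem Q20670 : ∀ i, i < 20670 → P i := stepQ 20669 Q20669 (allL N20669 (tt N33414 F321858) (tt N40838 D66879) (tt N33389 (iv2 F84680)) (tt N40839 D66880) (tt N10093 (iv4 D31160)) (tt N40840 D66881) (tt N33384 (iv6 F316373)) (tt N40841 D66882))
theorem Q20671 : ∀ i, i < 20671 → P i := stepQ 20670 Q20670 (allL N20670 (tt N33388 (iv1 F84676)) (tt N33387 (iv0 F84675)) (tt N33390 (iv2 F84681)) (tt N40823 (iv3 F102675)) (tt N40841 (iv4 F102737)) (tt N10094 F49511) (tt N11009 (iv6 F315923)) (tt N10093 (iv7 D31161)))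
theorem Q20672 : ∀ i, i < 20672 → P i := stepQ 20671 Q20671 (allL N20671 (tt N33409 (iv1 F181462)) (tt N33427 (iv0 F181475)) (tt N33426 (iv2 F102844)) (tt N10095 (iv3 D31163)) (tt N33297 F84421) (tt N40842 D66893) (tt N17927 (iv6 F320517)) (tt N33370 (iv7 F102850)))
theorem Q20673 : ∀ i, i < 20673 → P i := stepQ 20672 Q20672 (allL N20672 (tt N40843 D66896) (tt N40844 D66897) (tt N33375 (iv2 F102862)) (tt N40845 D66898) (tt N10095 (iv4 D31164)) (tt N40846 D66899) (tt N39991 (iv6 F320518)) (tt N33371 (iv7 F102853)))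
theorem Q20674 : ∀ i, i < 20674 → P i := stepQ 20673 Q20673 (allL N20673 (tt N33451 (iv1 F166932)) (tt N10121 F166929) (tt N33376 (iv2 F102864)) (tt N40842 (iv3 F102748)) (tt N40847 D66904) (tt N10095 (iv5 D31165)) (tt N40848 D66905) (tt N33372 (iv7 F102855)))
theorem Q20675 : ∀ i, i < 20675 → P i := stepQ 20674 Q20674 (allL N20674 (tt N40849 D66912) (tt N10105 F102754) (tt N40850 D66913) (tt N10096 (iv3 D31168)) (tt N40851 D66914) (tt N40852 D66915) (tt N40853 D66916) (tt N33374 (iv7 F102861)))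
theorem Q20676 : ∀ i, i < 20676 → P i := stepQ 20675 Q20675 (allL N20675 (tt N40844 (iv1 F102752)) (tt N40843 F102761) (tt N33371 (iv2 F102852)) (tt N40854 D66917) (tt N10096 (iv4 D31169)) (tt N40855 D66918) (tt N40856 D66919) (tt N33375 (iv7 F102863)))
theorem Q20677 : ∀ i, i < 20677 → P i := stepQ 20676 Q20676 (allL N20676 (tt N10121 F166930) (tt N33451 (iv0 F166931)) (tt N33372 (iv2 F102854)) (tt N40852 (iv3 F102873)) (tt N40857 D66920) (tt N10096 (iv5 D31170)) (tt N40858 D66921) (tt N33376 (iv7 F102865)))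
theorem Q20678 : ∀ i, i < 20678 → P i := stepQ 20677 Q20677 (allL N20677 (tt N33458 (iv1 F320483)) (tt N40859 D66923) (tt N33373 (iv2 F102856)) (tt N40853 (iv3 F102874)) (tt N40856 (iv4 F102878)) (tt N12351 (iv5 F320557)) (tt N10096 (iv6 D31171)) (tt N39994 F322215))
theorem Q20679 : ∀ i, i < 20679 → P i := stepQ 20678 Q20678 (allL N20678 (tt N30311 (iv1 F78321)) (tt N30310 F78317) (tt N10098 F49514) (tt N30318 (iv3 F78326)) (tt N10097 (iv4 D31172)) (tt N31472 (iv5 F80715)) (tt N40860 D66926) (tt N30312 (iv7 F78319)))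
theorem Q20680 : ∀ i, i < 20680 → P i := stepQ 20679 Q20679 (allL N20679 (tt N21047 (iv1 F166893)) (tt N21043 (iv0 F166894)) (tt N10099 F49515) (tt N33398 (iv3 F84693)) (tt N40861 D66927) (tt N10097 (iv5 D31173)) (tt N35363 F318407) (tt N33377 (iv7 F84650)))
theorem Q20681 : ∀ i, i < 20681 → P i := stepQ 20680 Q20680 (allL N20680 (tt N35400 (iv1 F320559)) (tt N40862 D66930) (tt N10100 F49516) (tt N33399 (iv3 F84698)) (tt N40860 (iv4 F102880)) (tt N22149 (iv5 F320562)) (tt N10097 (iv6 D31174)) (tt N22264 (iv7 F320566)))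
theorem Q20682 : ∀ i, i < 20682 → P i := stepQ 20681 Q20681 (allL N20681 (tt N30312 (iv1 F78320)) (tt N10098 (iv0 D31175)) (tt N30311 (iv2 F102829)) (tt N40863 D66933) (tt N36221 (iv4 F94104)) (tt N31491 (iv5 F166921)) (tt N39996 (iv6 F321207)) (tt N30310 F102827))
theorem Q20683 : ∀ i, i < 20683 → P i := stepQ 20682 Q20682 (allL N20682 (tt N10098 (iv1 D31176)) (tt N30312 F78322) (tt N30310 F102826) (tt N40864 D66936) (tt N20555 (iv4 F49517)) (tt N31492 (iv5 F166927)) (tt N40865 D66938) (tt N30311 F102822))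
theorem Q20684 : ∀ i, i < 20684 → P i := stepQ 20683 Q20683 (allL N20683 (tt N40866 D66939) (tt N40867 D66940) (tt N40860 (iv2 F102879)) (tt N15790 F49518) (tt N10100 F49519) (tt N40868 D66941) (tt N10098 (iv6 D31177)) (tt N40869 D66942))
theorem Q20685 : ∀ i, i < 20685 → P i := stepQ 20684 Q20684 (allL N20684 (tt N33377 (iv1 F84652)) (tt N10099 (iv0 D31178)) (tt N21047 F182497) (tt N40870 D66944) (tt N40871 D66945) (tt N16795 F180722) (tt N40872 D66947) (tt N21043 (iv7 F182507)))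
theorem Q20686 : ∀ i, i < 20686 → P i := stepQ 20685 Q20685 (allL N20685 (tt N10099 (iv1 D31179)) (tt N33377 F84651) (tt N21043 (iv2 F182506)) (tt N40873 D66949) (tt N40874 D66950) (tt N16796 F180718) (tt N40875 D66952) (tt N21047 F182502))
theorem Q20687 : ∀ i, i < 20687 → P i := stepQ 20686 Q20686 (allL N20686 (tt N40876 D66953) (tt N40877 D66954) (tt N40861 (iv2 F102881)) (tt N10304 F49520) (tt N10099 (iv4 D31180)) (tt N40878 D66955) (tt N40879 D66956) (tt N33379 (iv7 F84658)))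
theorem Q20688 : ∀ i, i < 20688 → P i := stepQ 20687 Q20687 (allL N20687 (tt N10930 (iv1 F318067)) (tt N35364 (iv0 F318068)) (tt N35363 (iv2 F318069)) (tt N10101 F49521) (tt N40879 (iv4 F102901)) (tt N22151 (iv5 F318071)) (tt N10099 (iv6 D31181)) (tt N34298 F315902))
theorem Q20689 : ∀ i, i < 20689 → P i := stepQ 20688 Q20688 (allL N20688 (tt N22264 (iv1 F320564)) (tt N10100 (iv0 D31182)) (tt N35400 F322359) (tt N40880 D66962) (tt N40881 D66963) (tt N35372 (iv5 F320567)) (tt N40882 D66965) (tt N40862 F322360))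
theorem Q20690 : ∀ i, i < 20690 → P i := stepQ 20689 Q20689 (allL N20689 (tt N10100 (iv1 D31183)) (tt N22264 (iv0 F320563)) (tt N40862 F322365) (tt N40883 D66967) (tt N40884 D66968) (tt N35401 (iv5 F320569)) (tt N40885 D66970) (tt N35400 F322366))
theorem Q20691 : ∀ i, i < 20691 → P i := stepQ 20690 Q20690 (allL N20690 (tt N40862 (iv1 F102883)) (tt N35400 (iv0 F320558)) (tt N22264 (iv2 F320565)) (tt N10102 F49523) (tt N40869 (iv4 F102895)) (tt N17143 (iv5 F318494)) (tt N33383 (iv6 F84662)) (tt N10100 (iv7 D31185)))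
theorem Q20692 : ∀ i, i < 20692 → P i := stepQ 20691 Q20691 (allL N20691 (tt N40037 (iv1 F101053)) (tt N40036 F101052) (tt N10119 F49529) (tt N33408 (iv3 F84737)) (tt N39752 (iv4 F100641)) (tt N40886 D66999) (tt N10103 (iv6 D31204)) (tt N40000 (iv7 F101010)))
theorem Q20693 : ∀ i, i < 20693 → P i := stepQ 20692 Q20692 (allL N20692 (tt N40531 (iv1 F102979)) (tt N33391 (iv0 F102935)) (tt N40766 (iv2 F102945)) (tt N10104 (iv3 D31207)) (tt N40887 D67013) (tt N40888 D67014) (tt N40889 D67015) (tt N10110 F49532))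
theorem Q20694 : ∀ i, i < 20694 → P i := stepQ 20693 Q20693 (allL N20693 (tt N39670 (iv1 F103004)) (tt N40890 D67017) (tt N10106 F49533) (tt N39619 F102989) (tt N10104 (iv4 D31208)) (tt N40891 D67018) (tt N40892 D67019) (tt N10111 F49534))
theorem Q20695 : ∀ i, i < 20695 → P i := stepQ 20694 Q20694 (allL N20694 (tt N20378 F220972) (tt N40826 F220973) (tt N10107 F49535) (tt N40888 (iv3 F102995)) (tt N40893 D67022) (tt N10104 (iv5 D31209)) (tt N40894 D67023) (tt N10112 F49536))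
theorem Q20696 : ∀ i, i < 20696 → P i := stepQ 20695 Q20695 (allL N20695 (tt N21405 (iv1 F320285)) (tt N40654 (iv0 F320526)) (tt N10108 F49537) (tt N40889 (iv3 F102997)) (tt N40892 (iv4 F103008)) (tt N40895 D67026) (tt N10104 (iv6 D31210)) (tt N40653 F318374))
theorem Q20697 : ∀ i, i < 20697 → P i := stepQ 20696 Q20696 (allL N20696 (tt N10105 (iv1 D31212)) (tt N40849 F102842) (tt N33374 (iv2 F102860)) (tt N33426 (iv3 F84764)) (tt N40896 D67028) (tt N40897 D67029) (tt N40003 (iv6 F323802)) (tt N40850 (iv7 F102871)))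
theorem Q20698 : ∀ i, i < 20698 → P i := stepQ 20697 Q20697 (allL N20697 (tt N40850 (iv1 F102940)) (tt N33374 (iv0 F102938)) (tt N10105 (iv2 D31213)) (tt N40766 (iv3 F102946)) (tt N29668 F102936) (tt N40898 D67031) (tt N40899 D67032) (tt N40849 (iv7 F102841)))
theorem Q20699 : ∀ i, i < 20699 → P i := stepQ 20698 Q20698 (allL N20698 (tt N20552 F49538) (tt N29670 (iv0 F76906)) (tt N29668 (iv2 F102942)) (tt N40900 D67033) (tt N10105 (iv4 D31214)) (tt N40901 D67034) (tt N40902 D67035) (tt N29669 F102983))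
theorem Q20700 : ∀ i, i < 20700 → P i := stepQ 20699 Q20699 (allL N20699 (tt N40873 (iv1 F225634)) (tt N40903 D67037) (tt N40898 (iv2 F103022)) (tt N10107 F49539) (tt N40904 D67038) (tt N10105 (iv5 D31215)) (tt N40905 D67039) (tt N40906 D67040))
theorem Q20701 : ∀ i, i < 20701 → P i := stepQ 20700 Q20700 (allL N20700 (tt N40907 D67041) (tt N40908 D67042) (tt N40899 (iv2 F103023)) (tt N10108 F49540) (tt N40902 (iv4 F103025)) (tt N40909 D67043) (tt N10105 (iv6 D31216)) (tt N40910 D67044))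
theorem Q20702 : ∀ i, i < 20702 → P i := stepQ 20701 Q20701 (allL N20701 (tt N33374 (iv1 F102939)) (tt N40850 F102941) (tt N40849 F102839) (tt N10109 F49541) (tt N29669 F102984) (tt N40906 (iv5 F103028)) (tt N40911 D67045) (tt N10105 (iv7 D31217)))
theorem Q20703 : ∀ i, i < 20703 → P i := stepQ 20702 Q20702 (allL N20702 (tt N10111 (iv1 F49547)) (tt N10106 (iv0 D31218)) (tt N39670 (iv2 F102539)) (tt N40912 D67046) (tt N20620 F49542) (tt N40913 D67047) (tt N40914 D67048) (tt N40890 (iv7 F103002)))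
theorem Q20704 : ∀ i, i < 20704 → P i := stepQ 20703 Q20703 (allL N20703 (tt N10106 (iv1 D31219)) (tt N10111 F49543) (tt N40890 (iv2 F103001)) (tt N39154 (iv3 F102544)) (tt N36210 (iv4 F102542)) (tt N40915 D67049) (tt N40010 F324697) (tt N39670 F102540))
theorem Q20705 : ∀ i, i < 20705 → P i := stepQ 20704 Q20704 (allL N20704 (tt N39622 F100626) (tt N40916 D67051) (tt N40917 D67052) (tt N10106 (iv3 D31220)) (tt N40900 (iv4 F103024)) (tt N40918 D67053) (tt N40919 D67054) (tt N40920 D67055))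
theorem Q20706 : ∀ i, i < 20706 → P i := stepQ 20705 Q20705 (allL N20705 (tt N40921 D67056) (tt N40922 D67057) (tt N40891 (iv2 F103005)) (tt N40918 (iv3 F103035)) (tt N40923 D67058) (tt N10106 (iv5 D31221)) (tt N40924 D67059) (tt N40925 D67060))
theorem Q20707 : ∀ i, i < 20707 → P i := stepQ 20706 Q20706 (allL N20706 (tt N40926 D67061) (tt N40927 D67062) (tt N40892 (iv2 F103007)) (tt N40919 (iv3 F103036)) (tt N10108 F49544) (tt N40928 D67063) (tt N10106 (iv6 D31222)) (tt N40929 D67064))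
theorem Q20708 : ∀ i, i < 20708 → P i := stepQ 20707 Q20707 (allL N20707 (tt N40890 (iv1 F102999)) (tt N39670 (iv0 F103003)) (tt N10111 F49545) (tt N40920 (iv3 F103037)) (tt N10109 F49546) (tt N40925 (iv5 F103040)) (tt N40930 D67065) (tt N10106 (iv7 D31223)))
theorem Q20709 : ∀ i, i < 20709 → P i := stepQ 20708 Q20708 (allL N20708 (tt N10112 (iv1 F49551)) (tt N10107 (iv0 D31224)) (tt N20378 F103076) (tt N33419 (iv3 F175002)) (tt N40931 D67068) (tt N20377 (iv5 F103079)) (tt N40932 D67070) (tt N40826 F103077))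
theorem Q20710 : ∀ i, i < 20710 → P i := stepQ 20709 Q20709 (allL N20709 (tt N40933 D67076) (tt N40934 D67077) (tt N40893 (iv2 F103011)) (tt N40935 D67078) (tt N10107 (iv4 D31226)) (tt N40936 D67079) (tt N40937 D67080) (tt N40938 D67081))
theorem Q20711 : ∀ i, i < 20711 → P i := stepQ 20710 Q20710 (allL N20710 (tt N40939 D67082) (tt N40833 F326891) (tt N40894 (iv2 F103013)) (tt N40905 (iv3 F103026)) (tt N40937 (iv4 F103048)) (tt N33650 F316981) (tt N10107 (iv6 D31227)) (tt N40940 D67085))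
theorem Q20712 : ∀ i, i < 20712 → P i := stepQ 20711 Q20711 (allL N20711 (tt N40826 (iv1 F220970)) (tt N20378 (iv0 F220971)) (tt N10112 F49549) (tt N40906 (iv3 F103027)) (tt N40938 (iv4 F103050)) (tt N10109 F49550) (tt N40941 D67086) (tt N10107 (iv7 D31228)))
theorem Q20713 : ∀ i, i < 20713 → P i := stepQ 20712 Q20712 (allL N20712 (tt N40653 F318370) (tt N10108 (iv0 D31229)) (tt N21405 F322261) (tt N33423 F322263) (tt N39770 F343287) (tt N21398 (iv5 F320523)) (tt N36253 (iv6 F320524)) (tt N40654 (iv7 F320525)))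
theorem Q20714 : ∀ i, i < 20714 → P i := stepQ 20713 Q20713 (allL N20713 (tt N40942 D67097) (tt N40836 (iv0 F208260)) (tt N40895 (iv2 F103015)) (tt N40909 (iv3 F103029)) (tt N40943 D67099) (tt N10108 (iv5 D31231)) (tt N33650 (iv6 F316807)) (tt N40944 D67100))
theorem Q20715 : ∀ i, i < 20715 → P i := stepQ 20714 Q20714 (allL N20714 (tt N40654 (iv1 F320527)) (tt N21405 (iv0 F320284)) (tt N40653 F318371) (tt N40910 (iv3 F103030)) (tt N40929 (iv4 F103042)) (tt N40944 (iv5 F103056)) (tt N40761 F322296) (tt N10108 (iv7 D31232)))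
theorem Q20716 : ∀ i, i < 20716 → P i := stepQ 20715 Q20715 (allL N20715 (tt N40762 (iv1 F320547)) (tt N33369 (iv0 F320711)) (tt N10113 F49552) (tt N40911 (iv3 F103031)) (tt N40930 (iv4 F103044)) (tt N17130 (iv5 F319256)) (tt N10109 (iv6 D31233)) (tt N40761 F322297))
theorem Q20717 : ∀ i, i < 20717 → P i := stepQ 20716 Q20716 (allL N20716 (tt N40766 (iv1 F102944)) (tt N10110 (iv0 D31234)) (tt N33391 (iv2 F102965)) (tt N17950 (iv3 F319059)) (tt N33342 F84533) (tt N40945 D67105) (tt N17947 (iv6 F320541)) (tt N40531 (iv7 F102981)))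
theorem Q20718 : ∀ i, i < 20718 → P i := stepQ 20717 Q20717 (allL N20717 (tt N33391 F102870) (tt N40531 (iv0 F102978)) (tt N10110 (iv2 D31236)) (tt N40849 (iv3 F102840)) (tt N40946 D67107) (tt N40947 D67108) (tt N40948 D67109) (tt N40766 (iv7 F102948)))
theorem Q20719 : ∀ i, i < 20719 → P i := stepQ 20718 Q20718 (allL N20718 (tt N20559 (iv1 F102251)) (tt N20556 (iv0 F49553)) (tt N40946 (iv2 F103064)) (tt N40949 D67110) (tt N10110 (iv4 D31237)) (tt N40950 D67111) (tt N40951 D67112) (tt N40887 (iv7 F102992)))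
theorem Q20720 : ∀ i, i < 20720 → P i := stepQ 20719 Q20719 (allL N20719 (tt N40839 F323721) (tt N40803 (iv0 F182977)) (tt N40947 (iv2 F103069)) (tt N10112 F49554) (tt N40952 D67115) (tt N10110 (iv5 D31238)) (tt N40953 D67116) (tt N40888 (iv7 F102996)))
theorem Q20721 : ∀ i, i < 20721 → P i := stepQ 20720 Q20720 (allL N20720 (tt N40954 D67117) (tt N40955 D67118) (tt N40948 (iv2 F103070)) (tt N10113 F49555) (tt N40951 (iv4 F103072)) (tt N40956 D67119) (tt N10110 (iv6 D31239)) (tt N40957 D67120))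
theorem Q20722 : ∀ i, i < 20722 → P i := stepQ 20721 Q20721 (allL N20721 (tt N39621 (iv1 F100505)) (tt N39151 (iv0 F99525)) (tt N39620 (iv2 F218879)) (tt N10111 (iv3 D31240)) (tt N40949 (iv4 F103071)) (tt N40958 D67122) (tt N40959 D67123) (tt N39619 (iv7 F102990)))
theorem Q20723 : ∀ i, i < 20723 → P i := stepQ 20722 Q20722 (allL N20722 (tt N40922 (iv1 F103038)) (tt N40921 F103041) (tt N40925 (iv2 F103039)) (tt N40958 (iv3 F103092)) (tt N40960 D67124) (tt N10111 (iv5 D31241)) (tt N40961 D67125) (tt N40891 (iv7 F103006)))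
theorem Q20724 : ∀ i, i < 20724 → P i := stepQ 20723 Q20723 (allL N20723 (tt N40962 D67126) (tt N40963 D67127) (tt N40930 (iv2 F103043)) (tt N40959 (iv3 F103093)) (tt N10113 F49556) (tt N14118 (iv5 F334883)) (tt N10111 (iv6 D31242)) (tt N40964 D67129))
theorem Q20725 : ∀ i, i < 20725 → P i := stepQ 20724 Q20724 (allL N20724 (tt N40934 (iv1 F103047)) (tt N40933 F103051) (tt N40938 (iv2 F103049)) (tt N40965 D67130) (tt N10112 (iv4 D31243)) (tt N40966 D67131) (tt N40967 D67132) (tt N40893 (iv7 F103012)))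
theorem Q20726 : ∀ i, i < 20726 → P i := stepQ 20725 Q20725 (allL N20725 (tt N10978 (iv1 F314680)) (tt N40968 D67134) (tt N40941 (iv2 F103053)) (tt N40953 (iv3 F103089)) (tt N40967 (iv4 F103095)) (tt N40969 D67135) (tt N10112 (iv6 D31244)) (tt N40970 D67136))
theorem Q20727 : ∀ i, i < 20727 → P i := stepQ 20726 Q20726 (allL N20726 (tt N10113 (iv1 D31246)) (tt N40761 (iv0 F320545)) (tt N33369 (iv2 F320571)) (tt N33436 F322298) (tt N39782 F325061) (tt N40971 D67145) (tt N40017 (iv6 F226118)) (tt N40762 F322300))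
theorem Q20728 : ∀ i, i < 20728 → P i := stepQ 20727 Q20727 (allL N20727 (tt N17129 F321299) (tt N17113 F316966) (tt N17130 (iv2 F319255)) (tt N40956 (iv3 F103090)) (tt N36472 (iv4 F319257)) (tt N10113 (iv5 D31247)) (tt N40969 (iv6 F103096)) (tt N17131 (iv7 F319259)))
theorem Q20729 : ∀ i, i < 20729 → P i := stepQ 20728 Q20728 (allL N20728 (tt N33369 (iv1 F320712)) (tt N40762 (iv0 F320546)) (tt N40761 F322295) (tt N40957 (iv3 F103091)) (tt N40964 (iv4 F103094)) (tt N17131 (iv5 F319258)) (tt N40653 F318373) (tt N10113 (iv7 D31248)))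
theorem Q20730 : ∀ i, i < 20730 → P i := stepQ 20729 Q20729 (allL N20729 (tt N33728 (iv1 F85510)) (tt N33727 F85506) (tt N10117 F49559) (tt N40972 D67151) (tt N10114 (iv4 D31259)) (tt N40973 D67152) (tt N40974 D67153) (tt N33729 (iv7 F85508)))
theorem Q20731 : ∀ i, i < 20731 → P i := stepQ 20730 Q20730 (allL N20730 (tt N40975 D67154) (tt N40976 D67155) (tt N10118 F49560) (tt N33438 (iv3 F84777)) (tt N40974 (iv4 F103102)) (tt N40026 (iv5 F101046)) (tt N10114 (iv6 D31260)) (tt N40977 D67156))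
theorem Q20732 : ∀ i, i < 20732 → P i := stepQ 20731 Q20731 (allL N20731 (tt N40852 (iv1 F184460)) (tt N40897 (iv0 F103021)) (tt N40978 D67164) (tt N10115 (iv3 D31262)) (tt N36330 F94395) (tt N40198 (iv5 F103145)) (tt N23333 (iv6 F320241)) (tt N33775 F205096))
theorem Q20733 : ∀ i, i < 20733 → P i := stepQ 20732 Q20732 (allL N20732 (tt N40979 D67168) (tt N40980 D67169) (tt N33778 F205097) (tt N40981 D67170) (tt N10115 (iv4 D31263)) (tt N40982 D67171) (tt N23337 (iv6 F320242)) (tt N33776 F205098))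
theorem Q20734 : ∀ i, i < 20734 → P i := stepQ 20733 Q20733 (allL N20733 (tt N40945 (iv1 F181669)) (tt N40767 (iv0 F181271)) (tt N33777 (iv2 F320243)) (tt N10116 (iv3 D31267)) (tt N40983 D67187) (tt N40200 F103141) (tt N10116 (iv6 F320247)) (tt N23342 (iv7 F320238)))
theorem Q20735 : ∀ i, i < 20735 → P i := stepQ 20734 Q20734 (allL N20734 (tt N40980 (iv1 F103130)) (tt N40979 F103134) (tt N33776 (iv2 F205091)) (tt N40984 D67189) (tt N10116 (iv4 D31268)) (tt N40985 D67190) (tt N40983 F321952) (tt N33778 (iv7 F205094)))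
theorem Q20736 : ∀ i, i < 20736 → P i := stepQ 20735 Q20735 (allL N20735 (tt N33729 (iv1 F85509)) (tt N10117 (iv0 D31271)) (tt N33728 (iv2 F177247)) (tt N40986 D67197) (tt N40987 D67198) (tt N40988 D67199) (tt N40989 D67200) (tt N33727 (iv7 F177250)))
theorem Q20737 : ∀ i, i < 20737 → P i := stepQ 20736 Q20736 (allL N20736 (tt N10117 (iv1 D31272)) (tt N33729 F85511) (tt N33727 (iv2 F177249)) (tt N33758 (iv3 F320918)) (tt N33286 (iv4 F320907)) (tt N40990 D67204) (tt N33285 (iv6 F320919)) (tt N33728 (iv7 F177248)))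
theorem Q20738 : ∀ i, i < 20738 → P i := stepQ 20737 Q20737 (allL N20737 (tt N40991 D67206) (tt N40992 D67207) (tt N40973 (iv2 F103100)) (tt N20107 F328847) (tt N40993 D67208) (tt N10117 (iv5 D31273)) (tt N40994 D67209) (tt N33730 (iv7 F85513)))
theorem Q20739 : ∀ i, i < 20739 → P i := stepQ 20738 Q20738 (allL N20738 (tt N40995 D67210) (tt N40996 D67211) (tt N40974 (iv2 F103101)) (tt N33738 (iv3 F85519)) (tt N10118 F49563) (tt N40997 D67212) (tt N10117 (iv6 D31274)) (tt N40998 D67213))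
theorem Q20740 : ∀ i, i < 20740 → P i := stepQ 20739 Q20739 (allL N20739 (tt N40977 (iv1 F103107)) (tt N10118 (iv0 D31275)) (tt N40975 (iv2 F215269)) (tt N40999 D67215) (tt N41000 D67216) (tt N41001 D67217) (tt N41002 D67218) (tt N40976 (iv7 F215267)))
theorem Q20741 : ∀ i, i < 20741 → P i := stepQ 20740 Q20740 (allL N20740 (tt N10118 (iv1 D31276)) (tt N40977 F103106) (tt N40976 (iv2 F215266)) (tt N22439 (iv3 F312228)) (tt N41003 D67221) (tt N22437 F309988) (tt N41004 D67223) (tt N40975 (iv7 F215270)))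
theorem Q20742 : ∀ i, i < 20742 → P i := stepQ 20741 Q20741 (allL N20741 (tt N40976 (iv1 F103103)) (tt N40975 F103105) (tt N40977 (iv2 F103104)) (tt N10125 F49564) (tt N40998 (iv4 F103153)) (tt N40035 (iv5 F101051)) (tt N33783 (iv6 F85605)) (tt N10118 (iv7 D31277)))
theorem Q20743 : ∀ i, i < 20743 → P i := stepQ 20742 Q20742 (allL N20742 (tt N40000 (iv1 F101012)) (tt N10119 (iv0 D31278)) (tt N40037 (iv2 F338975)) (tt N41005 D67225) (tt N41006 D67226) (tt N41007 D67227) (tt N41008 D67228) (tt N40036 (iv7 F338976)))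
theorem Q20744 : ∀ i, i < 20744 → P i := stepQ 20743 Q20743 (allL N20743 (tt N10119 (iv1 D31279)) (tt N40000 F101011) (tt N40036 F338977) (tt N41009 D67230) (tt N41010 D67231) (tt N41011 D67232) (tt N41012 D67233) (tt N40037 F338978))
theorem Q20745 : ∀ i, i < 20745 → P i := stepQ 20744 Q20744 (allL N20744 (tt N41013 D67234) (tt N41014 D67235) (tt N40886 (iv2 F102928)) (tt N10128 F49565) (tt N41015 D67236) (tt N10119 (iv5 D31280)) (tt N33782 (iv6 F85603)) (tt N40038 (iv7 F101055)))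
theorem Q20746 : ∀ i, i < 20746 → P i := stepQ 20745 Q20745 (allL N20745 (tt N33395 (iv1 F181668)) (tt N33393 (iv0 F181665)) (tt N10120 (iv2 D31283)) (tt N33451 (iv3 F84798)) (tt N41016 D67247) (tt N10184 F49566) (tt N17448 F314982) (tt N33442 F320156))
theorem Q20747 : ∀ i, i < 20747 → P i := stepQ 20746 Q20746 (allL N20746 (tt N41017 D67249) (tt N41018 D67250) (tt N41016 (iv2 F103160)) (tt N10291 F49567) (tt N10120 (iv4 D31284)) (tt N41019 D67251) (tt N21681 F310239) (tt N33452 (iv7 F84824)))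
theorem Q20748 : ∀ i, i < 20748 → P i := stepQ 20747 Q20747 (allL N20747 (tt N33376 (iv1 F172105)) (tt N33372 (iv0 F172106)) (tt N10121 (iv2 D31292)) (tt N33442 F319497) (tt N41020 D67281) (tt N10272 F49571) (tt N33440 F319498) (tt N33451 (iv7 F84800)))
theorem Q20749 : ∀ i, i < 20749 → P i := stepQ 20748 Q20748 (allL N20748 (tt N41021 D67283) (tt N41022 D67284) (tt N41020 (iv2 F103177)) (tt N10230 F49572) (tt N10121 (iv4 D31293)) (tt N41023 D67285) (tt N41024 D67286) (tt N32795 F318080))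
theorem Q20750 : ∀ i, i < 20750 → P i := stepQ 20749 Q20749 (allL N20749 (tt N40842 (iv1 F320093)) (tt N41025 D67288) (tt N33440 (iv2 F318749)) (tt N10122 F49573) (tt N41024 (iv4 F103182)) (tt N41026 D67289) (tt N10121 (iv6 D31294)) (tt N21689 F316506))
theorem Q20751 : ∀ i, i < 20751 → P i := stepQ 20750 Q20750 (allL N20750 (tt N17006 F313563) (tt N10122 (iv0 D31295)) (tt N21694 (iv2 F314010)) (tt N40945 F322081) (tt N10440 (iv4 F110638)) (tt N17950 F313564) (tt N22447 F313565) (tt N21693 F313566))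
theorem Q20752 : ∀ i, i < 20752 → P i := stepQ 20751 Q20751 (allL N20751 (tt N10122 (iv1 D31296)) (tt N17006 F311572) (tt N21693 (iv2 F313310)) (tt N33395 F319505) (tt N10441 (iv4 F110641)) (tt N25171 F311573) (tt N41027 D67300) (tt N21694 (iv7 F314012)))
theorem Q20753 : ∀ i, i < 20753 → P i := stepQ 20752 Q20752 (allL N20752 (tt N41028 D67301) (tt N33544 F320135) (tt N33453 (iv2 F84828)) (tt N41026 (iv3 F103183)) (tt N40663 (iv4 F320410)) (tt N10122 (iv5 D31297)) (tt N10274 F49574) (tt N21695 F316507))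
theorem Q20754 : ∀ i, i < 20754 → P i := stepQ 20753 Q20753 (allL N20753 (tt N41029 D67311) (tt N40781 F318072) (tt N41030 D67313) (tt N10123 (iv3 D31300)) (tt N41031 D67314) (tt N17270 F308971) (tt N41032 D67316) (tt N33456 (iv7 F182247)))
theorem Q20755 : ∀ i, i < 20755 → P i := stepQ 20754 Q20754 (allL N20754 (tt N22493 (iv1 F307116)) (tt N17545 (iv0 F307117)) (tt N23897 F305204) (tt N17270 (iv3 F307119)) (tt N41033 D67326) (tt N10123 (iv5 D31302)) (tt N41034 D67327) (tt N23898 (iv7 F307121)))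
theorem Q20756 : ∀ i, i < 20756 → P i := stepQ 20755 Q20755 (allL N20755 (tt N41027 (iv1 F182315)) (tt N41035 D67330) (tt N33455 F182242) (tt N41032 (iv3 F103200)) (tt N36379 (iv4 F104775)) (tt N41036 D67331) (tt N10123 (iv6 D31303)) (tt N41037 D67332))
theorem Q20757 : ∀ i, i < 20757 → P i := stepQ 20756 Q20756 (allL N20756 (tt N40848 F320143) (tt N41038 D67335) (tt N41039 D67336) (tt N10124 (iv3 D31305)) (tt N41040 D67337) (tt N22298 F311050) (tt N41041 D67339) (tt N33454 F182245))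
theorem Q20758 : ∀ i, i < 20758 → P i := stepQ 20757 Q20757 (allL N20757 (tt N17545 (iv1 F307118)) (tt N22493 (iv0 F307115)) (tt N23898 (iv2 F307120)) (tt N22298 (iv3 F308899)) (tt N41042 D67343) (tt N10124 (iv5 D31307)) (tt N41043 D67344) (tt N23897 F307055))
theorem Q20759 : ∀ i, i < 20759 → P i := stepQ 20758 Q20758 (allL N20758 (tt N33660 (iv1 F311599)) (tt N10385 (iv0 F311596)) (tt N33457 (iv2 F182250)) (tt N41041 (iv3 F103215)) (tt N36382 (iv4 F104778)) (tt N41044 D67347) (tt N10124 (iv6 D31308)) (tt N33658 (iv7 F313188)))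
theorem Q20760 : ∀ i, i < 20760 → P i := stepQ 20759 Q20759 (allL N20759 (tt N39979 F325040) (tt N33396 F325041) (tt N40776 F323790) (tt N10126 (iv3 D31310)) (tt N41045 D67352) (tt N41046 D67353) (tt N41047 D67354) (tt N33460 F101326))
theorem Q20761 : ∀ i, i < 20761 → P i := stepQ 20760 Q20760 (allL N20760 (tt N17097 (iv1 F316184)) (tt N17592 (iv0 F316181)) (tt N22038 (iv2 F316097)) (tt N41046 (iv3 F103219)) (tt N18890 (iv4 F314969)) (tt N10126 (iv5 D31312)) (tt N41048 D67358) (tt N22037 (iv7 F316096)))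
theorem Q20762 : ∀ i, i < 20762 → P i := stepQ 20761 Q20761 (allL N20761 (tt N33336 F101302) (tt N21900 F312473) (tt N33459 F101304) (tt N41047 (iv3 F103220)) (tt N18826 F101305) (tt N41049 D67359) (tt N10126 (iv6 D31313)) (tt N37960 F101306))
theorem Q20763 : ∀ i, i < 20763 → P i := stepQ 20762 Q20762 (allL N20762 (tt N33373 F322211) (tt N39994 F321159) (tt N40859 F322207) (tt N10127 (iv3 D31315)) (tt N41050 D67363) (tt N41051 D67364) (tt N41052 D67365) (tt N33458 (iv7 F101323)))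
theorem Q20764 : ∀ i, i < 20764 → P i := stepQ 20763 Q20763 (allL N20763 (tt N17592 (iv1 F316182)) (tt N17097 (iv0 F316183)) (tt N22037 (iv2 F316094)) (tt N41051 (iv3 F103232)) (tt N18889 (iv4 F314878)) (tt N10127 (iv5 D31317)) (tt N41053 D67367) (tt N22038 (iv7 F316099)))
theorem Q20765 : ∀ i, i < 20765 → P i := stepQ 20764 Q20764 (allL N20764 (tt N39959 F101311) (tt N33367 F101312) (tt N33461 F101313) (tt N41052 (iv3 F103233)) (tt N18121 F101314) (tt N41054 D67368) (tt N10127 (iv6 D31318)) (tt N35894 F101315))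
theorem Q20766 : ∀ i, i < 20766 → P i := stepQ 20765 Q20765 (allL N20765 (tt N22748 (iv1 F53875)) (tt N10128 (iv0 D31319)) (tt N33462 (iv2 F101329)) (tt N41055 D67369) (tt N37231 (iv4 F312421)) (tt N34054 (iv5 F312422)) (tt N23934 (iv6 F312423)) (tt N33463 (iv7 F101330)))
theorem Q20767 : ∀ i, i < 20767 → P i := stepQ 20766 Q20766 (allL N20766 (tt N10128 (iv1 D31320)) (tt N22748 F53874) (tt N33463 F101298) (tt N27282 (iv3 F312561)) (tt N37234 (iv4 F312506)) (tt N34055 (iv5 F312507)) (tt N27281 (iv6 F312562)) (tt N33462 F101299))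
theorem Q20768 : ∀ i, i < 20768 → P i := stepQ 20767 Q20767 (allL N20767 (tt N38642 (iv1 F312568)) (tt N38644 (iv0 F312565)) (tt N33464 (iv2 F84842)) (tt N41056 D67377) (tt N10128 (iv4 D31321)) (tt N41057 D67378) (tt N33787 (iv6 F85630)) (tt N40043 (iv7 F101065)))
theorem Q20769 : ∀ i, i < 20769 → P i := stepQ 20768 Q20768 (allL N20768 (tt N39924 (iv1 F111880)) (tt N31448 (iv0 F101319)) (tt N40054 (iv2 F168214)) (tt N41058 D67393) (tt N10129 (iv4 D31325)) (tt N41059 D67394) (tt N41060 D67395) (tt N33471 (iv7 F84870)))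
theorem Q20770 : ∀ i, i < 20770 → P i := stepQ 20769 Q20769 (allL N20769 (tt N41061 D67396) (tt N20346 (iv0 F168232)) (tt N40055 F168227) (tt N10131 F49580) (tt N41062 D67398) (tt N10129 (iv5 D31326)) (tt N38258 (iv6 F97791)) (tt N33472 (iv7 F84873)))
theorem Q20771 : ∀ i, i < 20771 → P i := stepQ 20770 Q20770 (allL N20770 (tt N40524 (iv1 F168236)) (tt N40575 (iv0 F168237)) (tt N40056 F168228) (tt N10132 F49581) (tt N41060 (iv4 F103256)) (tt N19580 (iv5 F168238)) (tt N10129 (iv6 D31327)) (tt N38850 (iv7 F98882)))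
theorem Q20772 : ∀ i, i < 20772 → P i := stepQ 20771 Q20771 (allL N20771 (tt N39941 F326019) (tt N33359 (iv0 F326909)) (tt N40601 F321892) (tt N10130 (iv3 D31330)) (tt N41058 (iv4 F103255)) (tt N37651 (iv5 F316555)) (tt N41063 D67405) (tt N33473 (iv7 F84874)))
theorem Q20773 : ∀ i, i < 20773 → P i := stepQ 20772 Q20772 (allL N20772 (tt N33327 (iv1 F95840)) (tt N22783 F312222) (tt N33469 (iv2 F84860)) (tt N41063 (iv3 F103258)) (tt N10132 F49585) (tt N41064 D67410) (tt N10130 (iv6 D31332)) (tt N38851 (iv7 F98885)))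
theorem Q20774 : ∀ i, i < 20774 → P i := stepQ 20773 Q20773 (allL N20773 (tt N10135 (iv1 F49589)) (tt N10131 (iv0 D31333)) (tt N20217 (iv2 F49588)) (tt N41065 D67411) (tt N22159 F316225) (tt N16678 F49586) (tt N11093 F49587) (tt N16678 F49590))
theorem Q20775 : ∀ i, i < 20775 → P i := stepQ 20774 Q20774 (allL N20774 (tt N33905 F315953) (tt N10717 (iv0 F318094)) (tt N33470 (iv2 F84862)) (tt N41066 D67414) (tt N10131 (iv4 D31334)) (tt N36234 (iv5 F94132)) (tt N20988 F315954) (tt N33474 (iv7 F84879)))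
theorem Q20776 : ∀ i, i < 20776 → P i := stepQ 20775 Q20775 (allL N20775 (tt N33294 (iv1 F168123)) (tt N38716 (iv0 F168120)) (tt N40300 (iv2 F163973)) (tt N41067 D67430) (tt N10133 (iv4 D31338)) (tt N41068 D67431) (tt N41069 D67432) (tt N33465 (iv7 F84850)))
theorem Q20777 : ∀ i, i < 20777 → P i := stepQ 20776 Q20776 (allL N20776 (tt N40143 (iv1 F163966)) (tt N41070 D67434) (tt N40301 (iv2 F163965)) (tt N10135 F49591) (tt N41071 D67435) (tt N10133 (iv5 D31339)) (tt N20372 (iv6 F49592)) (tt N33466 (iv7 F84852)))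
theorem Q20778 : ∀ i, i < 20778 → P i := stepQ 20777 Q20777 (allL N20777 (tt N40415 (iv1 F163952)) (tt N40418 (iv0 F163953)) (tt N40302 (iv2 F163948)) (tt N10136 F49593) (tt N41069 (iv4 F103291)) (tt N15464 F163934) (tt N10133 (iv6 D31340)) (tt N31915 (iv7 F81702)))
theorem Q20779 : ∀ i, i < 20779 → P i := stepQ 20778 Q20778 (allL N20778 (tt N33315 F319318) (tt N39976 (iv0 F317019)) (tt N40734 (iv2 F327710)) (tt N10134 (iv3 D31341)) (tt N41067 (iv4 F103290)) (tt N37649 (iv5 F317426)) (tt N41072 D67442) (tt N33468 (iv7 F84857)))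
theorem Q20780 : ∀ i, i < 20780 → P i := stepQ 20779 Q20779 (allL N20779 (tt N39952 (iv1 F100905)) (tt N25264 F315197) (tt N31918 (iv2 F81731)) (tt N41072 (iv3 F103294)) (tt N10136 F49595) (tt N41073 D67445) (tt N10134 (iv6 D31343)) (tt N31916 (iv7 F81708)))
theorem Q20781 : ∀ i, i < 20781 → P i := stepQ 20780 Q20780 (allL N20780 (tt N10717 (iv1 F318095)) (tt N33905 F315958) (tt N33474 (iv2 F84877)) (tt N41074 D67446) (tt N10135 (iv4 D31344)) (tt N36235 F94127) (tt N20373 F49596) (tt N33470 (iv7 F84863)))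
theorem Q20782 : ∀ i, i < 20782 → P i := stepQ 20781 Q20781 (allL N20781 (tt N41075 D67447) (tt N41076 D67448) (tt N30822 (iv2 F79544)) (tt N10140 F49597) (tt N20600 F49598) (tt N20781 F49599) (tt N10137 (iv6 D31345)) (tt N19682 F49600))
theorem Q20783 : ∀ i, i < 20783 → P i := stepQ 20782 Q20782 (allL N20782 (tt N18352 F49603) (tt N14792 F49604) (tt N18354 F49601) (tt N41077 D67449) (tt N10138 (iv4 D31346)) (tt N20819 (iv5 F49648)) (tt N41078 D67450) (tt N16176 F49602))
theorem Q20784 : ∀ i, i < 20784 → P i := stepQ 20783 Q20783 (allL N20783 (tt N32203 (iv1 F82522)) (tt N20196 (iv0 F168338)) (tt N20049 F49605) (tt N31022 (iv3 F79791)) (tt N41078 (iv4 F103305)) (tt N20783 F49606) (tt N10138 (iv6 D31347)) (tt N16181 F49607))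
theorem Q20785 : ∀ i, i < 20785 → P i := stepQ 20784 Q20784 (allL N20784 (tt N41079 D67451) (tt N41080 D67452) (tt N41081 D67453) (tt N10139 (iv3 D31348)) (tt N20599 F49608) (tt N32184 F331474) (tt N41082 D67455) (tt N18639 F49609))
theorem Q20786 : ∀ i, i < 20786 → P i := stepQ 20785 Q20785 (allL N20785 (tt N20054 F49611) (tt N36692 F95042) (tt N33510 (iv2 F85004)) (tt N32184 F331473) (tt N20820 (iv4 F49651)) (tt N10139 (iv5 D31349)) (tt N32183 (iv6 F331485)) (tt N18640 F49610))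
theorem Q20787 : ∀ i, i < 20787 → P i := stepQ 20786 Q20786 (allL N20786 (tt N41083 D67457) (tt N41084 D67458) (tt N33511 (iv2 F85007)) (tt N41082 (iv3 F103315)) (tt N10140 F49612) (tt N41085 D67459) (tt N10139 (iv6 D31350)) (tt N32116 (iv7 F82367)))
theorem Q20788 : ∀ i, i < 20788 → P i := stepQ 20787 Q20787 (allL N20787 (tt N16149 (iv1 F49613)) (tt N10140 (iv0 D31351)) (tt N29703 F168097) (tt N15801 (iv3 F168098)) (tt N41086 D67462) (tt N41087 D67463) (tt N41088 D67464) (tt N32117 (iv7 F103378)))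
theorem Q20789 : ∀ i, i < 20789 → P i := stepQ 20788 Q20788 (allL N20788 (tt N41089 D67469) (tt N41090 D67470) (tt N41091 D67471) (tt N10141 (iv3 D31353)) (tt N15775 F49615) (tt N41092 D67472) (tt N14589 F299844) (tt N30381 (iv7 F78420)))
theorem Q20790 : ∀ i, i < 20790 → P i := stepQ 20789 Q20789 (allL N20789 (tt N33532 (iv1 F85062)) (tt N32210 (iv0 F82541)) (tt N10154 F49616) (tt N41092 (iv3 F103325)) (tt N16828 F49617) (tt N10141 (iv5 D31354)) (tt N41093 D67474) (tt N20821 (iv7 F49653)))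
theorem Q20791 : ∀ i, i < 20791 → P i := stepQ 20790 Q20790 (allL N20790 (tt N40139 F101184) (tt N41094 D67475) (tt N10155 F49618) (tt N14589 (iv3 F297678)) (tt N10142 F49619) (tt N41095 D67476) (tt N10141 (iv6 D31355)) (tt N41096 D67477))
theorem Q20792 : ∀ i, i < 20792 → P i := stepQ 20791 Q20791 (allL N20791 (tt N10159 (iv1 F49625)) (tt N10142 (iv0 D31356)) (tt N10156 F103492) (tt N36025 (iv3 F111430)) (tt N41097 D67480) (tt N15156 F49620) (tt N32099 (iv6 F82329)) (tt N10157 F103493))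
theorem Q20793 : ∀ i, i < 20793 → P i := stepQ 20792 Q20792 (allL N20792 (tt N10142 (iv1 D31357)) (tt N10159 F49621) (tt N10157 (iv2 F103487)) (tt N30829 (iv3 F111363)) (tt N41098 D67483) (tt N15155 (iv5 F49622)) (tt N41099 D67484) (tt N10156 (iv7 F103491)))
theorem Q20794 : ∀ i, i < 20794 → P i := stepQ 20793 Q20793 (allL N20793 (tt N10157 (iv1 F49626)) (tt N10156 F49627) (tt N10159 F49623) (tt N15780 F49624) (tt N41096 (iv4 F103335)) (tt N35553 (iv5 F92831)) (tt N30384 (iv6 F78425)) (tt N10142 (iv7 D31358)))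
theorem Q20795 : ∀ i, i < 20795 → P i := stepQ 20794 Q20794 (allL N20794 (tt N41100 D67485) (tt N41101 D67486) (tt N30824 (iv2 F79552)) (tt N10147 F49628) (tt N20457 F49629) (tt N31415 (iv5 F80628)) (tt N10145 (iv6 D31359)) (tt N41102 D67487))
theorem Q20796 : ∀ i, i < 20796 → P i := stepQ 20795 Q20795 (allL N20795 (tt N41103 D67488) (tt N41104 D67489) (tt N41105 D67490) (tt N10146 (iv3 D31360)) (tt N20455 F49630) (tt N41106 D67491) (tt N41107 D67492) (tt N33512 (iv7 F85011)))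
theorem Q20797 : ∀ i, i < 20797 → P i := stepQ 20796 Q20796 (allL N20796 (tt N36672 (iv1 F95001)) (tt N36675 (iv0 F95007)) (tt N33517 (iv2 F85023)) (tt N41106 (iv3 F103354)) (tt N20812 (iv4 F49641)) (tt N10146 (iv5 D31361)) (tt N41108 D67493) (tt N33513 (iv7 F85013)))
theorem Q20798 : ∀ i, i < 20798 → P i := stepQ 20797 Q20797 (allL N20797 (tt N41109 D67494) (tt N41110 D67495) (tt N33518 (iv2 F85026)) (tt N41107 (iv3 F103355)) (tt N10147 F49631) (tt N41111 D67496) (tt N10146 (iv6 D31362)) (tt N41112 D67497))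
theorem Q20799 : ∀ i, i < 20799 → P i := stepQ 20798 Q20798 (allL N20798 (tt N33520 (iv1 F85034)) (tt N10147 (iv0 D31363)) (tt N32094 F168074) (tt N30355 (iv3 F168087)) (tt N41113 D67499) (tt N41114 D67500) (tt N41115 D67501) (tt N33519 F93329))
theorem Q20800 : ∀ i, i < 20800 → P i := stepQ 20799 Q20799 (allL N20799 (tt N10147 (iv1 D31364)) (tt N33520 F85033) (tt N33519 F93327) (tt N10173 (iv3 F168053)) (tt N41116 D67503) (tt N35692 (iv5 F93120)) (tt N37035 (iv6 F168049)) (tt N32094 (iv7 F168057)))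
theorem Q20801 : ∀ i, i < 20801 → P i := stepQ 20800 Q20800 (allL N20800 (tt N33519 (iv1 F85028)) (tt N32094 (iv0 F168054)) (tt N33520 (iv2 F85029)) (tt N41102 (iv3 F103346)) (tt N41112 (iv4 F103357)) (tt N32091 F82307) (tt N22769 F53922) (tt N10147 (iv7 D31365)))
theorem Q20802 : ∀ i, i < 20802 → P i := stepQ 20801 Q20801 (allL N20801 (tt N15086 F49634) (tt N16586 F49635) (tt N16605 F49632) (tt N41117 D67505) (tt N10148 (iv4 D31366)) (tt N33130 (iv5 F84108)) (tt N41118 D67506) (tt N16604 F49633))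
theorem Q20803 : ∀ i, i < 20803 → P i := stepQ 20802 Q20802 (allL N20802 (tt N38463 F98343) (tt N41119 D67507) (tt N36022 (iv2 F93821)) (tt N10150 F49636) (tt N41118 (iv4 F103397)) (tt N35922 (iv5 F93581)) (tt N10148 (iv6 D31367)) (tt N41120 D67508))
theorem Q20804 : ∀ i, i < 20804 → P i := stepQ 20803 Q20803 (allL N20803 (tt N41121 D67509) (tt N41122 D67510) (tt N41123 D67511) (tt N10149 (iv3 D31368)) (tt N41117 (iv4 F103394)) (tt N41124 D67512) (tt N41125 D67513) (tt N33516 (iv7 F85022)))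
theorem Q20805 : ∀ i, i < 20805 → P i := stepQ 20804 Q20804 (allL N20804 (tt N36675 (iv1 F95008)) (tt N36672 (iv0 F95000)) (tt N33513 (iv2 F85012)) (tt N41124 (iv3 F103400)) (tt N20809 (iv4 F49639)) (tt N10149 (iv5 D31369)) (tt N41126 D67514) (tt N33517 (iv7 F85024)))
theorem Q20806 : ∀ i, i < 20806 → P i := stepQ 20805 Q20805 (allL N20805 (tt N19390 F95002) (tt N41127 D67515) (tt N33514 (iv2 F85015)) (tt N41125 (iv3 F103401)) (tt N10150 F49637) (tt N41128 D67516) (tt N10149 (iv6 D31370)) (tt N41129 D67517))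
theorem Q20807 : ∀ i, i < 20807 → P i := stepQ 20806 Q20806 (allL N20806 (tt N10150 (iv1 D31371)) (tt N22769 F53923) (tt N22770 (iv2 F53924)) (tt N30361 F78390) (tt N41130 D67518) (tt N37666 (iv5 F96412)) (tt N32101 (iv6 F82336)) (tt N16144 F49638))
theorem Q20808 : ∀ i, i < 20808 → P i := stepQ 20807 Q20807 (allL N20807 (tt N22770 (iv1 F53927)) (tt N16144 F53920) (tt N22769 F53918) (tt N41120 (iv3 F103399)) (tt N41129 (iv4 F103410)) (tt N36705 (iv5 F95074)) (tt N33520 (iv6 F85031)) (tt N10150 (iv7 D31372)))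
theorem Q20809 : ∀ i, i < 20809 → P i := stepQ 20808 Q20808 (allL N20808 (tt N41131 D67519) (tt N41132 D67520) (tt N41133 D67521) (tt N10151 (iv3 D31373)) (tt N41134 D67522) (tt N41135 D67523) (tt N41136 D67524) (tt N33521 (iv7 F85035)))
theorem Q20810 : ∀ i, i < 20810 → P i := stepQ 20809 Q20809 (allL N20809 (tt N31486 (iv1 F80754)) (tt N18355 F49640) (tt N33525 (iv2 F85045)) (tt N41135 (iv3 F103417)) (tt N20804 F49639) (tt N10151 (iv5 D31374)) (tt N41137 D67525) (tt N33522 (iv7 F85037)))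
theorem Q20811 : ∀ i, i < 20811 → P i := stepQ 20810 Q20810 (allL N20810 (tt N41113 (iv1 F169268)) (tt N41116 (iv0 F103387)) (tt N33526 (iv2 F85049)) (tt N41136 (iv3 F103418)) (tt N32258 F82625) (tt N41138 D67527) (tt N10151 (iv6 D31375)) (tt N41139 D67528))
theorem Q20812 : ∀ i, i < 20812 → P i := stepQ 20811 Q20811 (allL N20811 (tt N41140 D67529) (tt N41141 D67530) (tt N41142 D67531) (tt N10152 (iv3 D31376)) (tt N33258 (iv4 F84339)) (tt N41143 D67532) (tt N41144 D67533) (tt N33524 (iv7 F85044)))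
theorem Q20813 : ∀ i, i < 20813 → P i := stepQ 20812 Q20812 (allL N20812 (tt N18355 F49642) (tt N31486 (iv0 F80753)) (tt N33522 (iv2 F85036)) (tt N41143 (iv3 F103420)) (tt N20796 F49641) (tt N10152 (iv5 D31377)) (tt N41145 D67534) (tt N33525 (iv7 F85047)))
theorem Q20814 : ∀ i, i < 20814 → P i := stepQ 20813 Q20813 (allL N20813 (tt N22768 F80755) (tt N41130 F103414) (tt N33523 (iv2 F85040)) (tt N41144 (iv3 F103421)) (tt N32167 (iv4 F82455)) (tt N41146 D67535) (tt N10152 (iv6 D31378)) (tt N38189 (iv7 F97616)))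
theorem Q20815 : ∀ i, i < 20815 → P i := stepQ 20814 Q20814 (allL N20814 (tt N33529 (iv1 F85056)) (tt N10153 (iv0 D31379)) (tt N33528 (iv2 F180257)) (tt N39546 F100418) (tt N41147 D67537) (tt N41148 D67538) (tt N41149 D67539) (tt N33527 (iv7 F180261)))
theorem Q20816 : ∀ i, i < 20816 → P i := stepQ 20815 Q20815 (allL N20815 (tt N10153 (iv1 D31380)) (tt N33529 F85057) (tt N33527 (iv2 F180259)) (tt N41150 D67541) (tt N20481 (iv4 F49643)) (tt N41151 D67542) (tt N41152 D67543) (tt N33528 (iv7 F180258)))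
theorem Q20817 : ∀ i, i < 20817 → P i := stepQ 20816 Q20816 (allL N20816 (tt N33528 F85053) (tt N33527 F85051) (tt N10153 (iv2 D31381)) (tt N41091 (iv3 F103323)) (tt N10184 F49644) (tt N41153 D67544) (tt N34152 (iv6 F321507)) (tt N33529 (iv7 F85055)))
theorem Q20818 : ∀ i, i < 20818 → P i := stepQ 20817 Q20817 (allL N20817 (tt N40791 (iv1 F181802)) (tt N40794 (iv0 F181699)) (tt N41153 (iv2 F103436)) (tt N10154 F49645) (tt N41154 D67548) (tt N10153 (iv5 D31382)) (tt N41155 D67549) (tt N33530 (iv7 F85059)))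
theorem Q20819 : ∀ i, i < 20819 → P i := stepQ 20818 Q20818 (allL N20818 (tt N41156 D67550) (tt N41157 D67551) (tt N34152 (iv2 F321506)) (tt N10155 F49646) (tt N10185 F49647) (tt N41158 D67552) (tt N10153 (iv6 D31383)) (tt N34053 (iv7 F320509)))
theorem Q20820 : ∀ i, i < 20820 → P i := stepQ 20819 Q20819 (allL N20819 (tt N20821 (iv1 F49656)) (tt N10154 (iv0 D31384)) (tt N33532 (iv2 F85066)) (tt N41159 D67554) (tt N18644 (iv4 F49649)) (tt N20782 F49648) (tt N41160 D67555) (tt N32210 (iv7 F82540)))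
theorem Q20821 : ∀ i, i < 20821 → P i := stepQ 20820 Q20820 (allL N20820 (tt N10154 (iv1 D31385)) (tt N20821 (iv0 F49655)) (tt N32210 (iv2 F82539)) (tt N41161 D67556) (tt N20785 F49651) (tt N16166 F49650) (tt N41162 D67557) (tt N33532 (iv7 F85063)))
theorem Q20822 : ∀ i, i < 20822 → P i := stepQ 20821 Q20821 (allL N20821 (tt N20820 F49655) (tt N20819 F49656) (tt N16828 F49652) (tt N41163 D67558) (tt N10154 (iv4 D31386)) (tt N15164 F49654) (tt N41164 D67559) (tt N20789 F49653))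
theorem Q20823 : ∀ i, i < 20823 → P i := stepQ 20822 Q20822 (allL N20822 (tt N41165 D67560) (tt N41166 D67561) (tt N41093 (iv2 F103328)) (tt N41155 (iv3 F103439)) (tt N41164 (iv4 F103451)) (tt N41167 D67562) (tt N10154 (iv6 D31387)) (tt N41168 D67563))
theorem Q20824 : ∀ i, i < 20824 → P i := stepQ 20823 Q20823 (allL N20823 (tt N41096 (iv1 F103337)) (tt N10155 (iv0 D31388)) (tt N40139 (iv2 F101239)) (tt N41169 D67564) (tt N35814 (iv4 F111187)) (tt N29131 F295952) (tt N41170 D67566) (tt N41094 (iv7 F103331)))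
theorem Q20825 : ∀ i, i < 20825 → P i := stepQ 20824 Q20824 (allL N20824 (tt N10155 (iv1 D31389)) (tt N41096 F103336) (tt N41094 F103332) (tt N41171 D67567) (tt N35812 (iv4 F111179)) (tt N41172 D67568) (tt N41173 D67569) (tt N40139 (iv7 F101238)))
theorem Q20826 : ∀ i, i < 20826 → P i := stepQ 20825 Q20825 (allL N20825 (tt N41174 D67570) (tt N41175 D67571) (tt N41095 (iv2 F103333)) (tt N41158 (iv3 F103440)) (tt N41176 D67572) (tt N10155 (iv5 D31390)) (tt N41167 (iv6 F103452)) (tt N41177 D67573))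
theorem Q20827 : ∀ i, i < 20827 → P i := stepQ 20826 Q20826 (allL N20826 (tt N41094 (iv1 F103330)) (tt N40139 (iv0 F101183)) (tt N41096 (iv2 F103334)) (tt N34053 F321641) (tt N10159 F49657) (tt N41177 (iv5 F103453)) (tt N33536 (iv6 F85068)) (tt N10155 (iv7 D31391)))
theorem Q20828 : ∀ i, i < 20828 → P i := stepQ 20827 Q20827 (allL N20827 (tt N30830 (iv1 F162083)) (tt N30777 (iv0 F111420)) (tt N30828 (iv2 F111367)) (tt N10156 (iv3 D31393)) (tt N41178 D67582) (tt N31411 (iv5 F111414)) (tt N41179 D67583) (tt N30829 (iv7 F111366)))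
theorem Q20829 : ∀ i, i < 20829 → P i := stepQ 20828 Q20828 (allL N20828 (tt N41180 D67585) (tt N39390 (iv0 F111242)) (tt N41097 (iv2 F103497)) (tt N41181 D67587) (tt N10156 (iv4 D31394)) (tt N27597 (iv5 F331260)) (tt N37270 (iv6 F165092)) (tt N41098 (iv7 F103490)))
theorem Q20830 : ∀ i, i < 20830 → P i := stepQ 20829 Q20829 (allL N20829 (tt N32101 (iv1 F82340)) (tt N15297 (iv0 F49659)) (tt N32099 (iv2 F103501)) (tt N41179 (iv3 F103463)) (tt N37270 (iv4 F165091)) (tt N31455 F80689) (tt N10156 (iv6 D31395)) (tt N32100 (iv7 F103505)))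
theorem Q20831 : ∀ i, i < 20831 → P i := stepQ 20830 Q20830 (allL N20830 (tt N32230 (iv1 F111378)) (tt N36027 (iv0 F111379)) (tt N36026 (iv2 F111439)) (tt N10157 (iv3 D31397)) (tt N41182 D67596) (tt N31477 (iv5 F80731)) (tt N41183 D67597) (tt N36025 (iv7 F111433)))
theorem Q20832 : ∀ i, i < 20832 → P i := stepQ 20831 Q20831 (allL N20831 (tt N39390 (iv1 F111243)) (tt N41180 F103470) (tt N41098 (iv2 F103489)) (tt N41184 D67598) (tt N10157 (iv4 D31398)) (tt N41185 D67599) (tt N41186 D67600) (tt N41097 (iv7 F103498)))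
theorem Q20833 : ∀ i, i < 20833 → P i := stepQ 20832 Q20832 (allL N20832 (tt N41187 D67601) (tt N41115 (iv0 F103384)) (tt N41099 (iv2 F103486)) (tt N41183 (iv3 F103474)) (tt N41186 (iv4 F103475)) (tt N41188 D67602) (tt N10157 (iv6 D31399)) (tt N41188 F103485))
theorem Q20834 : ∀ i, i < 20834 → P i := stepQ 20833 Q20833 (allL N20833 (tt N35553 F92834) (tt N10158 (iv0 D31400)) (tt N35551 (iv2 F103542)) (tt N41189 D67604) (tt N41190 D67605) (tt N30374 F80744) (tt N41191 D67606) (tt N35552 (iv7 F103540)))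
theorem Q20835 : ∀ i, i < 20835 → P i := stepQ 20834 Q20834 (allL N20834 (tt N10158 (iv1 D31401)) (tt N35553 F92833) (tt N35552 (iv2 F103539)) (tt N41192 D67608) (tt N41193 D67609) (tt N30375 F82353) (tt N15786 F82354) (tt N35551 (iv7 F103543)))
theorem Q20836 : ∀ i, i < 20836 → P i := stepQ 20835 Q20835 (allL N20835 (tt N41194 D67610) (tt N41195 D67611) (tt N30197 (iv2 F78165)) (tt N21898 F317410) (tt N10158 (iv4 D31402)) (tt N41196 D67612) (tt N10167 F49661) (tt N41197 D67613))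
theorem Q20837 : ∀ i, i < 20837 → P i := stepQ 20836 Q20836 (allL N20836 (tt N35552 (iv1 F92825)) (tt N35551 (iv0 F92824)) (tt N35553 (iv2 F92829)) (tt N10192 F49662) (tt N41197 (iv4 F103620)) (tt N10159 F49663) (tt N30497 (iv6 F78637)) (tt N10158 (iv7 D31403)))
theorem Q20838 : ∀ i, i < 20838 → P i := stepQ 20837 Q20837 (allL N20837 (tt N15204 F49667) (tt N19530 F49668) (tt N19546 F49664) (tt N10162 F49665) (tt N22677 (iv4 F53583)) (tt N10160 (iv5 D31404)) (tt N41198 D67614) (tt N19547 F49666))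
theorem Q20839 : ∀ i, i < 20839 → P i := stepQ 20838 Q20838 (allL N20838 (tt N22614 (iv1 F53455)) (tt N29930 (iv0 F77628)) (tt N18692 F49669) (tt N41199 D67615) (tt N10162 (iv4 D31405)) (tt N41200 D67616) (tt N41201 D67617) (tt N30165 (iv7 F78134)))
theorem Q20840 : ∀ i, i < 20840 → P i := stepQ 20839 Q20839 (allL N20839 (tt N41202 D67618) (tt N37912 (iv0 F100278)) (tt N18690 F49670) (tt N41198 (iv3 F103622)) (tt N41201 (iv4 F103628)) (tt N18648 F49671) (tt N10162 (iv6 D31406)) (tt N21032 (iv7 F50040)))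
theorem Q20841 : ∀ i, i < 20841 → P i := stepQ 20840 Q20840 (allL N20840 (tt N18011 F49675) (tt N18013 F49674) (tt N30576 F78914) (tt N10165 F49672) (tt N37804 (iv4 F96629)) (tt N10163 (iv5 D31407)) (tt N21033 (iv6 F50041)) (tt N18682 F49673))
theorem Q20842 : ∀ i, i < 20842 → P i := stepQ 20841 Q20841 (allL N20841 (tt N30448 (iv1 F78578)) (tt N15432 (iv0 F49681)) (tt N16100 F49676) (tt N10166 F49677) (tt N15658 F49678) (tt N18033 F49680) (tt N10163 (iv6 D31408)) (tt N16101 F49679))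
theorem Q20843 : ∀ i, i < 20843 → P i := stepQ 20842 Q20842 (allL N20842 (tt N29930 (iv1 F77629)) (tt N22614 (iv0 F53454)) (tt N30165 F78136) (tt N41203 D67619) (tt N10165 (iv4 D31409)) (tt N41204 D67620) (tt N21034 (iv6 F50042)) (tt N18692 F49682))
theorem Q20844 : ∀ i, i < 20844 → P i := stepQ 20843 Q20843 (allL N20843 (tt N41205 D67621) (tt N41206 D67622) (tt N30196 (iv2 F78163)) (tt N39998 (iv3 F100998)) (tt N31458 (iv4 F80698)) (tt N10167 (iv5 D31410)) (tt N41207 D67623) (tt N30193 (iv7 F78161)))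
theorem Q20845 : ∀ i, i < 20845 → P i := stepQ 20844 Q20844 (allL N20844 (tt N40663 (iv1 F320409)) (tt N40662 (iv0 F320397)) (tt N37032 (iv2 F320295)) (tt N10168 (iv3 D31411)) (tt N10170 F49683) (tt N18995 (iv5 F321784)) (tt N41208 D67628) (tt N20395 F49684))
theorem Q20846 : ∀ i, i < 20846 → P i := stepQ 20845 Q20845 (allL N20845 (tt N18325 F49686) (tt N18328 F49687) (tt N36036 (iv2 F93840)) (tt N18995 F323491) (tt N20147 F49685) (tt N10168 (iv5 D31412)) (tt N41209 D67629) (tt N33338 (iv7 F323782)))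
theorem Q20847 : ∀ i, i < 20847 → P i := stepQ 20846 Q20846 (allL N20846 (tt N41210 D67630) (tt N41211 D67631) (tt N36037 (iv2 F93844)) (tt N41208 (iv3 F103651)) (tt N10169 F49688) (tt N41212 D67632) (tt N10168 (iv6 D31413)) (tt N41213 D67633))
theorem Q20848 : ∀ i, i < 20848 → P i := stepQ 20847 Q20847 (allL N20847 (tt N36040 (iv1 F93853)) (tt N10169 (iv0 D31414)) (tt N36038 (iv2 F171862)) (tt N41214 D67635) (tt N41215 D67636) (tt N41216 D67637) (tt N41217 D67638) (tt N36039 (iv7 F171867)))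
theorem Q20849 : ∀ i, i < 20849 → P i := stepQ 20848 Q20848 (allL N20848 (tt N10169 (iv1 D31415)) (tt N36040 F93852) (tt N36039 (iv2 F171866)) (tt N41218 D67640) (tt N41219 D67641) (tt N41220 D67642) (tt N37007 (iv6 F166321)) (tt N36038 (iv7 F171863)))
theorem Q20850 : ∀ i, i < 20850 → P i := stepQ 20849 Q20849 (allL N20849 (tt N36039 (iv1 F93847)) (tt N36038 F93851) (tt N36040 (iv2 F93849)) (tt N10174 F49689) (tt N41213 (iv4 F103656)) (tt N15698 F49690) (tt N22776 (iv6 F53934)) (tt N10169 (iv7 D31416)))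
theorem Q20851 : ∀ i, i < 20851 → P i := stepQ 20850 Q20850 (allL N20850 (tt N20394 (iv1 F49691)) (tt N10170 (iv0 D31417)) (tt N20393 (iv2 F177234)) (tt N41221 D67645) (tt N40657 (iv4 F320793)) (tt N16698 (iv5 F318775)) (tt N16699 F318255) (tt N20392 F177232))
theorem Q20852 : ∀ i, i < 20852 → P i := stepQ 20851 Q20851 (allL N20851 (tt N10170 (iv1 D31418)) (tt N20394 F49695) (tt N20392 F177231) (tt N41222 D67650) (tt N40652 (iv4 F320530)) (tt N11517 F319713) (tt N10699 (iv6 F320754)) (tt N20393 (iv7 F177235)))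
theorem Q20853 : ∀ i, i < 20853 → P i := stepQ 20852 Q20852 (allL N20852 (tt N20393 (iv1 F49696)) (tt N20392 F49694) (tt N10170 (iv2 D31419)) (tt N20385 F49692) (tt N37032 (iv4 F320296)) (tt N33330 F318131) (tt N36381 (iv6 F318777)) (tt N20394 F49693))
theorem Q20854 : ∀ i, i < 20854 → P i := stepQ 20853 Q20853 (allL N20853 (tt N41223 D67655) (tt N41224 D67656) (tt N36381 (iv2 F318776)) (tt N10171 F49697) (tt N41208 (iv4 F103652)) (tt N29750 F318612) (tt N10170 (iv6 D31420)) (tt N36378 F318613))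
theorem Q20855 : ∀ i, i < 20855 → P i := stepQ 20854 Q20854 (allL N20854 (tt N20391 (iv1 F49706)) (tt N10171 (iv0 D31421)) (tt N20373 (iv2 F49702)) (tt N41225 D67659) (tt N15558 F49703) (tt N41226 D67660) (tt N33474 (iv6 F84878)) (tt N20374 F49704))
theorem Q20856 : ∀ i, i < 20856 → P i := stepQ 20855 Q20855 (allL N20855 (tt N10171 (iv1 D31422)) (tt N20391 F49698) (tt N20374 (iv2 F49700)) (tt N41227 D67661) (tt N15559 F49699) (tt N41228 D67662) (tt N20986 F316490) (tt N20373 (iv7 F49701)))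
theorem Q20857 : ∀ i, i < 20857 → P i := stepQ 20856 Q20856 (allL N20856 (tt N33492 (iv1 F315678)) (tt N22704 (iv0 F53654)) (tt N20390 F49707) (tt N29750 (iv3 F317403)) (tt N17562 F321806) (tt N10171 (iv5 D31423)) (tt N40636 (iv6 F102321)) (tt N36377 (iv7 F315676)))
theorem Q20858 : ∀ i, i < 20858 → P i := stepQ 20857 Q20857 (allL N20857 (tt N20374 (iv1 F49711)) (tt N20373 F49712) (tt N20391 F49708) (tt N36378 (iv3 F316341)) (tt N10174 F49709) (tt N36377 (iv5 F315675)) (tt N20231 (iv6 F49756)) (tt N10171 (iv7 D31424)))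
theorem Q20859 : ∀ i, i < 20859 → P i := stepQ 20858 Q20858 (allL N20858 (tt N30357 F100151) (tt N10258 F100152) (tt N30355 F100153) (tt N10172 (iv3 D31425)) (tt N41229 D67664) (tt N35673 (iv5 F100156)) (tt N31534 F100154) (tt N30356 (iv7 F100159)))
theorem Q20860 : ∀ i, i < 20860 → P i := stepQ 20859 Q20859 (allL N20859 (tt N10189 F49716) (tt N22763 (iv0 F53901)) (tt N18384 F49713) (tt N31534 F100234) (tt N34055 F314970) (tt N14806 F49714) (tt N10172 (iv6 D31427)) (tt N18381 F49715))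
theorem Q20861 : ∀ i, i < 20861 → P i := stepQ 20860 Q20860 (allL N20860 (tt N16596 F49718) (tt N15106 F49719) (tt N10176 F49717) (tt N41230 D67669) (tt N10175 (iv4 D31429)) (tt N41231 D67670) (tt N41232 D67671) (tt N29628 (iv7 F76853)))
theorem Q20862 : ∀ i, i < 20862 → P i := stepQ 20861 Q20861 (allL N20861 (tt N15283 F49722) (tt N41233 D67672) (tt N10177 F49720) (tt N30464 (iv3 F78609)) (tt N41232 (iv4 F103691)) (tt N19249 F49721) (tt N10175 (iv6 D31430)) (tt N41234 D67673))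
theorem Q20863 : ∀ i, i < 20863 → P i := stepQ 20862 Q20862 (allL N20862 (tt N10176 (iv1 D31431)) (tt N29628 (iv0 F76854)) (tt N15106 (iv2 F49725)) (tt N41235 D67674) (tt N15102 F49724) (tt N29673 (iv5 F76909)) (tt N41236 D67675) (tt N16596 F49723))
theorem Q20864 : ∀ i, i < 20864 → P i := stepQ 20863 Q20863 (allL N20863 (tt N41237 D67676) (tt N41238 D67677) (tt N41239 D67678) (tt N10176 (iv3 D31432)) (tt N10178 F49726) (tt N41240 D67679) (tt N41241 D67680) (tt N20386 F49727))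
theorem Q20865 : ∀ i, i < 20865 → P i := stepQ 20864 Q20864 (allL N20864 (tt N30291 (iv1 F78307)) (tt N31931 (iv0 F81775)) (tt N41231 (iv2 F103686)) (tt N41240 (iv3 F103713)) (tt N31031 (iv4 F79809)) (tt N10176 (iv5 D31433)) (tt N41242 D67681) (tt N32090 (iv7 F82277)))
theorem Q20866 : ∀ i, i < 20866 → P i := stepQ 20865 Q20865 (allL N20865 (tt N41243 D67682) (tt N41244 D67683) (tt N41232 (iv2 F103690)) (tt N41241 (iv3 F103715)) (tt N10177 F49728) (tt N41245 D67684) (tt N10176 (iv6 D31434)) (tt N41246 D67685))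
theorem Q20867 : ∀ i, i < 20867 → P i := stepQ 20866 Q20866 (allL N20866 (tt N41234 (iv1 F103701)) (tt N10177 (iv0 D31435)) (tt N15283 (iv2 F49731)) (tt N35543 (iv3 F92807)) (tt N41247 D67686) (tt N18729 F49730) (tt N15265 F49729) (tt N41233 (iv7 F103693)))
theorem Q20868 : ∀ i, i < 20868 → P i := stepQ 20867 Q20867 (allL N20867 (tt N10177 (iv1 D31436)) (tt N41234 F103700) (tt N41233 (iv2 F103695)) (tt N41248 D67687) (tt N41249 D67688) (tt N37878 (iv5 F96824)) (tt N36129 (iv6 F93992)) (tt N15283 F49732))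
theorem Q20869 : ∀ i, i < 20869 → P i := stepQ 20868 Q20868 (allL N20868 (tt N41233 (iv1 F103692)) (tt N15283 F82276) (tt N41234 (iv2 F103698)) (tt N10181 F49733) (tt N41246 (iv4 F103717)) (tt N19256 F49734) (tt N32089 (iv6 F82275)) (tt N10177 (iv7 D31437)))
theorem Q20870 : ∀ i, i < 20870 → P i := stepQ 20869 Q20869 (allL N20869 (tt N20385 (iv1 F49735)) (tt N10178 (iv0 D31438)) (tt N20384 (iv2 F162340)) (tt N41250 D67690) (tt N41251 D67691) (tt N21620 F317380) (tt N20979 (iv6 F319640)) (tt N20383 (iv7 F162341)))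
theorem Q20871 : ∀ i, i < 20871 → P i := stepQ 20870 Q20870 (allL N20870 (tt N10178 (iv1 D31439)) (tt N20385 F49739) (tt N20383 F162342) (tt N41252 D67695) (tt N41253 D67696) (tt N29699 (iv5 F162344)) (tt N41254 D67698) (tt N20384 F162343))
theorem Q20872 : ∀ i, i < 20872 → P i := stepQ 20871 Q20871 (allL N20871 (tt N20384 (iv1 F49740)) (tt N20383 F49738) (tt N10178 (iv2 D31440)) (tt N20394 F49736) (tt N41239 (iv4 F103708)) (tt N40631 (iv5 F102285)) (tt N41255 D67699) (tt N20385 F49737))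
theorem Q20873 : ∀ i, i < 20873 → P i := stepQ 20872 Q20872 (allL N20872 (tt N41256 D67700) (tt N41257 D67701) (tt N41255 (iv2 F103729)) (tt N10179 F49741) (tt N41241 (iv4 F103716)) (tt N41258 D67702) (tt N10178 (iv6 D31441)) (tt N41259 D67703))
theorem Q20874 : ∀ i, i < 20874 → P i := stepQ 20873 Q20873 (allL N20873 (tt N10179 (iv1 D31442)) (tt N20231 (iv0 F49754)) (tt N20233 (iv2 F49744)) (tt N41260 D67704) (tt N11104 (iv4 F49745)) (tt N21005 F311552) (tt N10705 (iv6 F313991)) (tt N11102 F49743))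
theorem Q20875 : ∀ i, i < 20875 → P i := stepQ 20874 Q20874 (allL N20874 (tt N41261 D67706) (tt N41064 (iv0 F103268)) (tt N20399 F49758) (tt N41258 (iv3 F103731)) (tt N41262 D67707) (tt N10179 (iv5 D31443)) (tt N21844 (iv6 F315892)) (tt N41263 D67708))
theorem Q20876 : ∀ i, i < 20876 → P i := stepQ 20875 Q20875 (allL N20875 (tt N20233 (iv1 F49762)) (tt N11102 F49763) (tt N20231 F49759) (tt N41259 (iv3 F103732)) (tt N10181 F49760) (tt N41263 (iv5 F103746)) (tt N20391 F49761) (tt N10179 (iv7 D31444)))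
theorem Q20877 : ∀ i, i < 20877 → P i := stepQ 20876 Q20876 (allL N20876 (tt N10255 (iv1 F49765)) (tt N30362 F78394) (tt N30361 F78389) (tt N10180 (iv3 D31445)) (tt N41264 D67709) (tt N37703 (iv5 F96482)) (tt N22756 (iv6 F53887)) (tt N15303 F49764))
theorem Q20878 : ∀ i, i < 20878 → P i := stepQ 20877 Q20877 (allL N20877 (tt N40200 (iv1 F180708)) (tt N41265 D67717) (tt N40115 (iv2 F183029)) (tt N10182 (iv3 D31447)) (tt N33266 F84355) (tt N41266 D67719) (tt N41267 D67720) (tt N33541 F183022))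
theorem Q20879 : ∀ i, i < 20879 → P i := stepQ 20878 Q20878 (allL N20878 (tt N41268 D67722) (tt N41269 D67723) (tt N33545 F183023) (tt N41270 D67724) (tt N10182 (iv4 D31448)) (tt N41271 D67725) (tt N41272 D67726) (tt N33542 F183024))
theorem Q20880 : ∀ i, i < 20880 → P i := stepQ 20879 Q20879 (allL N20879 (tt N20646 F181562) (tt N16756 (iv0 F181563)) (tt N20653 F183025) (tt N41266 (iv3 F103761)) (tt N41273 D67730) (tt N10182 (iv5 D31449)) (tt N41274 D67731) (tt N20652 F183026))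
theorem Q20881 : ∀ i, i < 20881 → P i := stepQ 20880 Q20880 (allL N20880 (tt N41275 D67733) (tt N40190 (iv0 F321510)) (tt N33546 F183027) (tt N41267 (iv3 F103762)) (tt N41272 (iv4 F103766)) (tt N41276 D67735) (tt N10182 (iv6 D31450)) (tt N41277 D67736))
theorem Q20882 : ∀ i, i < 20882 → P i := stepQ 20881 Q20881 (allL N20881 (tt N21695 (iv1 F320536)) (tt N33453 (iv0 F320094)) (tt N41028 (iv2 F320096)) (tt N10183 (iv3 D31452)) (tt N36935 (iv4 F320795)) (tt N41278 D67742) (tt N41279 D67743) (tt N33544 (iv7 F183012)))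
theorem Q20883 : ∀ i, i < 20883 → P i := stepQ 20882 Q20882 (allL N20882 (tt N41269 (iv1 F103765)) (tt N41268 F103769) (tt N33542 (iv2 F183017)) (tt N41280 D67744) (tt N10183 (iv4 D31453)) (tt N41281 D67745) (tt N41282 D67746) (tt N33545 (iv7 F183020)))
theorem Q20884 : ∀ i, i < 20884 → P i := stepQ 20883 Q20883 (allL N20883 (tt N16756 (iv1 F181564)) (tt N20646 F181561) (tt N20652 (iv2 F183018)) (tt N41278 (iv3 F103777)) (tt N41283 D67747) (tt N10183 (iv5 D31454)) (tt N41284 D67748) (tt N20653 (iv7 F183021)))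
theorem Q20885 : ∀ i, i < 20885 → P i := stepQ 20884 Q20884 (allL N20884 (tt N22773 (iv1 F320414)) (tt N41285 D67750) (tt N33543 (iv2 F183019)) (tt N41279 (iv3 F103778)) (tt N41282 (iv4 F103780)) (tt N41286 D67751) (tt N10183 (iv6 D31455)) (tt N41287 D67752))
theorem Q20886 : ∀ i, i < 20886 → P i := stepQ 20885 Q20885 (allL N20885 (tt N39406 (iv1 F111236)) (tt N19985 F111235) (tt N36058 F101944) (tt N10700 F321534) (tt N10186 (iv4 D31483)) (tt N22561 (iv5 F323252)) (tt N41288 D67795) (tt N33485 (iv7 F84920)))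
theorem Q20887 : ∀ i, i < 20887 → P i := stepQ 20886 Q20886 (allL N20886 (tt N30457 (iv1 F112184)) (tt N29660 (iv0 F111398)) (tt N30456 F101945) (tt N10187 F49785) (tt N41288 (iv4 F103808)) (tt N30592 (iv5 F111401)) (tt N10186 (iv6 D31484)) (tt N22762 (iv7 F53897)))
theorem Q20888 : ∀ i, i < 20888 → P i := stepQ 20887 Q20887 (allL N20887 (tt N10188 (iv1 D31495)) (tt N29635 (iv0 F111386)) (tt N29637 (iv2 F111393)) (tt N30830 (iv3 F111396)) (tt N41289 D67812) (tt N30480 (iv5 F111397)) (tt N29645 (iv6 F111395)) (tt N29612 (iv7 F111392)))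
theorem Q20889 : ∀ i, i < 20889 → P i := stepQ 20888 Q20888 (allL N20888 (tt N29612 F101928) (tt N29637 (iv0 F101937)) (tt N10188 (iv2 D31496)) (tt N33484 (iv3 F84914)) (tt N41290 D67815) (tt N18289 (iv5 F101941)) (tt N41291 D67816) (tt N29635 (iv7 F111390)))
theorem Q20890 : ∀ i, i < 20890 → P i := stepQ 20889 Q20889 (allL N20889 (tt N31026 (iv1 F111447)) (tt N41292 D67818) (tt N41290 (iv2 F103827)) (tt N33902 F321642) (tt N10188 (iv4 D31497)) (tt N41293 D67820) (tt N41294 D67821) (tt N33482 (iv7 F84912)))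
theorem Q20891 : ∀ i, i < 20891 → P i := stepQ 20890 Q20890 (allL N20890 (tt N41295 D67822) (tt N41296 D67823) (tt N41291 (iv2 F103828)) (tt N10189 F49797) (tt N41294 (iv4 F103832)) (tt N41297 D67824) (tt N10188 (iv6 D31498)) (tt N41297 F103835))
theorem Q20892 : ∀ i, i < 20892 → P i := stepQ 20891 Q20891 (allL N20891 (tt N22763 F53902) (tt N10189 (iv0 D31502)) (tt N18381 (iv2 F49800)) (tt N41187 (iv3 F168081)) (tt N34054 F314880) (tt N14805 F49799) (tt N19244 F49801) (tt N18384 F49802))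
theorem Q20893 : ∀ i, i < 20893 → P i := stepQ 20892 Q20892 (allL N20892 (tt N18384 (iv1 F49805)) (tt N18381 (iv0 F49804)) (tt N22763 (iv2 F53898)) (tt N41297 (iv3 F103833)) (tt N33905 F317148) (tt N10189 (iv5 D31503)) (tt N15299 F49803) (tt N10189 (iv7 F49806)))
theorem Q20894 : ∀ i, i < 20894 → P i := stepQ 20893 Q20893 (allL N20893 (tt N36061 F101917) (tt N15289 F101918) (tt N36059 (iv2 F162097)) (tt N10190 (iv3 D31505)) (tt N41298 D67834) (tt N30478 (iv5 F101920)) (tt N41299 D67835) (tt N20995 (iv7 F319605)))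
theorem Q20895 : ∀ i, i < 20895 → P i := stepQ 20894 Q20894 (allL N20894 (tt N18826 F49824) (tt N18824 (iv0 F49825)) (tt N30501 (iv2 F78690)) (tt N41299 (iv3 F103856)) (tt N20996 F313901) (tt N18747 F49823) (tt N10190 (iv6 D31507)) (tt N29687 (iv7 F76931)))
theorem Q20896 : ∀ i, i < 20896 → P i := stepQ 20895 Q20895 (allL N20895 (tt N29636 (iv1 F162016)) (tt N30480 (iv0 F162017)) (tt N30479 (iv2 F101888)) (tt N10191 (iv3 D31509)) (tt N22563 (iv4 F319662)) (tt N20995 (iv5 F319603)) (tt N29685 (iv6 F76925)) (tt N30478 (iv7 F101921)))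
theorem Q20897 : ∀ i, i < 20897 → P i := stepQ 20896 Q20896 (allL N20896 (tt N29627 (iv1 F76845)) (tt N16051 F49842) (tt N18788 F49837) (tt N16062 F49838) (tt N10193 (iv4 D31511)) (tt N18224 F49841) (tt N16109 F49839) (tt N18028 F49840))
theorem Q20898 : ∀ i, i < 20898 → P i := stepQ 20897 Q20897 (allL N20897 (tt N15192 F49846) (tt N15193 F49847) (tt N10195 F49843) (tt N30567 F78884) (tt N38164 (iv4 F97564)) (tt N10194 (iv5 D31512)) (tt N18304 F49844) (tt N15201 F49845))
theorem Q20899 : ∀ i, i < 20899 → P i := stepQ 20898 Q20898 (allL N20898 (tt N18899 F49849) (tt N30729 (iv0 F79295)) (tt N38164 F97565) (tt N17981 F316119) (tt N10195 (iv4 D31513)) (tt N41300 D67842) (tt N21064 (iv6 F50068)) (tt N18789 F49848))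
theorem Q20900 : ∀ i, i < 20900 → P i := stepQ 20899 Q20899 (allL N20899 (tt N11796 (iv1 F49850)) (tt N10196 (iv0 D31514)) (tt N32412 (iv2 F82791)) (tt N41301 D67843) (tt N23279 (iv4 F55379)) (tt N32520 (iv5 F83078)) (tt N15714 F55493) (tt N32411 F82786))
theorem Q20901 : ∀ i, i < 20901 → P i := stepQ 20900 Q20900 (allL N20900 (tt N10196 (iv1 D31515)) (tt N11796 F49854) (tt N32411 (iv2 F82787)) (tt N41302 D67844) (tt N33488 (iv4 F84932)) (tt N32519 (iv5 F83073)) (tt N41303 D67845) (tt N32412 (iv7 F82789)))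
theorem Q20902 : ∀ i, i < 20902 → P i := stepQ 20901 Q20901 (allL N20901 (tt N32412 (iv1 F82788)) (tt N32411 F82782) (tt N10196 (iv2 D31516)) (tt N23220 (iv3 F55239)) (tt N10200 F49851) (tt N39655 F327579) (tt N18923 F49852) (tt N11796 F49853))
theorem Q20903 : ∀ i, i < 20903 → P i := stepQ 20902 Q20902 (allL N20902 (tt N16326 (iv1 F82799)) (tt N16331 F49856) (tt N39655 F327573) (tt N10197 F49855) (tt N36766 F327574) (tt N10196 (iv5 D31517)) (tt N41304 D67848) (tt N32413 (iv7 F82798)))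
theorem Q20904 : ∀ i, i < 20904 → P i := stepQ 20903 Q20903 (allL N20903 (tt N16248 F49858) (tt N16245 F49859) (tt N32055 (iv2 F82183)) (tt N36776 F328468) (tt N10197 (iv4 D31518)) (tt N18397 F49857) (tt N41305 D67850) (tt N32053 (iv7 F82175)))
theorem Q20905 : ∀ i, i < 20905 → P i := stepQ 20904 Q20904 (allL N20904 (tt N41306 D67851) (tt N41307 D67852) (tt N32056 (iv2 F82188)) (tt N41304 (iv3 F103894)) (tt N41305 (iv4 F103897)) (tt N18926 F49860) (tt N10197 (iv6 D31519)) (tt N41308 D67853))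
theorem Q20906 : ∀ i, i < 20906 → P i := stepQ 20905 Q20905 (allL N20905 (tt N11774 (iv1 F50463)) (tt N32449 F82863) (tt N22883 (iv2 F54579)) (tt N32621 F83236) (tt N10198 (iv4 D31521)) (tt N41309 D67854) (tt N17341 F49863) (tt N32588 (iv7 F83161)))
theorem Q20907 : ∀ i, i < 20907 → P i := stepQ 20906 Q20906 (allL N20906 (tt N32449 F82862) (tt N11774 (iv0 F50462)) (tt N32588 F83159) (tt N10481 F49864) (tt N10199 (iv4 D31522)) (tt N41310 D67855) (tt N36668 (iv6 F94990)) (tt N22883 (iv7 F54582)))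
theorem Q20908 : ∀ i, i < 20908 → P i := stepQ 20907 Q20907 (allL N20907 (tt N16880 F49867) (tt N16924 (iv0 F49868)) (tt N10201 F49865) (tt N21211 (iv3 F50348)) (tt N39648 F328579) (tt N10200 (iv5 D31523)) (tt N41311 D67857) (tt N11799 F49866))
theorem Q20909 : ∀ i, i < 20909 → P i := stepQ 20908 Q20908 (allL N20908 (tt N39650 F328451) (tt N39160 F328452) (tt N39648 F328453) (tt N40204 (iv3 F101346)) (tt N10201 (iv4 D31524)) (tt N41312 D67860) (tt N41313 D67861) (tt N21206 (iv7 F50331)))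
theorem Q20910 : ∀ i, i < 20910 → P i := stepQ 20909 Q20909 (allL N20909 (tt N41314 D67862) (tt N41315 D67863) (tt N41311 (iv2 F103904)) (tt N10202 F49869) (tt N41313 (iv4 F103915)) (tt N18971 F49870) (tt N10201 (iv6 D31525)) (tt N41316 D67864))
theorem Q20911 : ∀ i, i < 20911 → P i := stepQ 20910 Q20910 (allL N20910 (tt N10202 (iv1 D31526)) (tt N21215 F50361) (tt N21214 (iv2 F53109)) (tt N41317 D67865) (tt N10588 (iv4 F312985)) (tt N23936 F306184) (tt N10587 F310741) (tt N17310 F53108))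
theorem Q20912 : ∀ i, i < 20912 → P i := stepQ 20911 Q20911 (allL N20911 (tt N21214 (iv1 F50356)) (tt N17310 F50360) (tt N21215 (iv2 F50357)) (tt N41316 (iv3 F103917)) (tt N23358 F311588) (tt N18974 F49871) (tt N21210 (iv6 F50336)) (tt N10202 (iv7 D31527)))
theorem Q20913 : ∀ i, i < 20913 → P i := stepQ 20912 Q20912 (allL N20912 (tt N11178 F49873) (tt N11189 F49874) (tt N11203 (iv2 F50961)) (tt N23286 F55393) (tt N10203 (iv4 D31529)) (tt N21338 (iv5 F51109)) (tt N21690 (iv6 F54101)) (tt N11204 (iv7 F50962)))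
theorem Q20914 : ∀ i, i < 20914 → P i := stepQ 20913 Q20913 (allL N20913 (tt N22272 F52858) (tt N10246 F54098) (tt N22813 (iv2 F54468)) (tt N22867 (iv3 F54546)) (tt N21690 (iv4 F54099)) (tt N33919 (iv5 F86166)) (tt N10203 (iv6 D31531)) (tt N22807 (iv7 F54456)))
theorem Q20915 : ∀ i, i < 20915 → P i := stepQ 20914 Q20914 (allL N20914 (tt N11461 (iv1 F50410)) (tt N16844 (iv0 F49918)) (tt N20948 F50963) (tt N10204 (iv3 D31533)) (tt N20948 (iv4 F49916)) (tt N10422 F50965) (tt N21575 (iv6 F51532)) (tt N20949 F50959))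
theorem Q20916 : ∀ i, i < 20916 → P i := stepQ 20915 Q20915 (allL N20915 (tt N41318 D67866) (tt N41319 D67867) (tt N21292 (iv2 F51032)) (tt N40179 (iv3 F101287)) (tt N10206 (iv4 D31540)) (tt N41320 D67868) (tt N41321 D67869) (tt N21212 (iv7 F50353)))
theorem Q20917 : ∀ i, i < 20917 → P i := stepQ 20916 Q20916 (allL N20916 (tt N41322 D67870) (tt N41323 D67871) (tt N21293 (iv2 F51033)) (tt N10207 F49883) (tt N41321 (iv4 F103928)) (tt N22171 (iv5 F52624)) (tt N10206 (iv6 D31541)) (tt N41324 D67872))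
theorem Q20918 : ∀ i, i < 20918 → P i := stepQ 20917 Q20917 (allL N20917 (tt N21210 (iv1 F50339)) (tt N10207 (iv0 D31542)) (tt N21208 F200168) (tt N41325 D67874) (tt N40232 (iv4 F131053)) (tt N41326 D67876) (tt N41327 D67877) (tt N21209 (iv7 F200171)))
theorem Q20919 : ∀ i, i < 20919 → P i := stepQ 20918 Q20918 (allL N20918 (tt N10207 (iv1 D31543)) (tt N21210 F50338) (tt N21209 (iv2 F200170)) (tt N23062 (iv3 F199882)) (tt N36217 F321564) (tt N37439 F311125) (tt N20667 (iv6 F311330)) (tt N21208 F200169))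
theorem Q20920 : ∀ i, i < 20920 → P i := stepQ 20919 Q20919 (allL N20919 (tt N21209 (iv1 F50334)) (tt N21208 F50337) (tt N21210 (iv2 F50335)) (tt N41324 (iv3 F103929)) (tt N40187 (iv4 F101293)) (tt N33863 (iv5 F85944)) (tt N21215 (iv6 F50359)) (tt N10207 (iv7 D31544)))
theorem Q20921 : ∀ i, i < 20921 → P i := stepQ 20920 Q20920 (allL N20920 (tt N10223 F49934) (tt N33562 F85130) (tt N23279 (iv2 F55378)) (tt N10208 (iv3 D31546)) (tt N32412 F82790) (tt N33724 (iv5 F85503)) (tt N15322 F50950) (tt N33488 (iv7 F84930)))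
theorem Q20922 : ∀ i, i < 20922 → P i := stepQ 20921 Q20921 (allL N20921 (tt N10501 F49885) (tt N10286 (iv0 F49886)) (tt N10505 F55529) (tt N33560 F85116) (tt N10208 (iv4 D31547)) (tt N41328 D67883) (tt N15323 F50951) (tt N10504 F55530))
theorem Q20923 : ∀ i, i < 20923 → P i := stepQ 20922 Q20922 (allL N20922 (tt N10286 F50150) (tt N10501 F50151) (tt N10504 F55531) (tt N10213 F49888) (tt N10209 (iv4 D31552)) (tt N29731 (iv5 F77118)) (tt N23387 F79152) (tt N10505 F55532))
theorem Q20924 : ∀ i, i < 20924 → P i := stepQ 20923 Q20923 (allL N20923 (tt N10239 F54147) (tt N33507 F84994) (tt N33489 (iv2 F84936)) (tt N23278 (iv3 F55375)) (tt N23387 (iv4 F79154)) (tt N33909 (iv5 F86062)) (tt N10209 (iv6 D31554)) (tt N15328 (iv7 F50952)))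
theorem Q20925 : ∀ i, i < 20925 → P i := stepQ 20924 Q20924 (allL N20924 (tt N18417 (iv1 F54307)) (tt N18427 (iv0 F54315)) (tt N10211 F49889) (tt N21121 (iv3 F50163)) (tt N41329 D67884) (tt N10210 (iv5 D31555)) (tt N41330 D67885) (tt N18424 (iv7 F50765)))
theorem Q20926 : ∀ i, i < 20926 → P i := stepQ 20925 Q20925 (allL N20925 (tt N21289 (iv1 F51024)) (tt N21311 (iv0 F51065)) (tt N41329 (iv2 F103938)) (tt N40632 (iv3 F102290)) (tt N10211 (iv4 D31558)) (tt N41331 D67886) (tt N27819 F317685) (tt N21116 (iv7 F50154)))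
theorem Q20927 : ∀ i, i < 20927 → P i := stepQ 20926 Q20926 (allL N20926 (tt N41332 D67888) (tt N24937 F314767) (tt N41330 (iv2 F103941)) (tt N10212 F49890) (tt N27819 F317684) (tt N19103 F49891) (tt N10211 (iv6 D31559)) (tt N41333 D67890))
theorem Q20928 : ∀ i, i < 20928 → P i := stepQ 20927 Q20927 (allL N20927 (tt N21125 (iv1 F50180)) (tt N10212 (iv0 D31560)) (tt N18621 (iv2 F49893)) (tt N41334 D67891) (tt N23359 (iv4 F311583)) (tt N41335 D67892) (tt N14875 F49892) (tt N21124 (iv7 F50173)))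
theorem Q20929 : ∀ i, i < 20929 → P i := stepQ 20928 Q20928 (allL N20928 (tt N10212 (iv1 D31561)) (tt N21125 F50179) (tt N21124 F50174) (tt N32845 (iv3 F311526)) (tt N17455 (iv4 F311585)) (tt N37527 (iv5 F96205)) (tt N16999 F311224) (tt N18621 F49894))
theorem Q20930 : ∀ i, i < 20930 → P i := stepQ 20929 Q20929 (allL N20929 (tt N21124 (iv1 F50172)) (tt N18621 F50175) (tt N21125 (iv2 F50176)) (tt N41333 (iv3 F103947)) (tt N21663 (iv4 F313560)) (tt N19106 F49895) (tt N21120 (iv6 F50158)) (tt N10212 (iv7 D31562)))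
theorem Q20931 : ∀ i, i < 20931 → P i := stepQ 20930 Q20930 (allL N20930 (tt N34707 (iv1 F88624)) (tt N11466 (iv0 F50655)) (tt N32096 (iv2 F82322)) (tt N23276 (iv3 F55373)) (tt N10213 (iv4 D31564)) (tt N41336 D67895) (tt N41337 D67896) (tt N30526 F78802))
theorem Q20932 : ∀ i, i < 20932 → P i := stepQ 20931 Q20931 (allL N20931 (tt N23375 F77017) (tt N10240 F77018) (tt N23380 (iv2 F77099)) (tt N23387 (iv3 F79153)) (tt N41337 (iv4 F103962)) (tt N33911 (iv5 F86079)) (tt N10213 (iv6 D31566)) (tt N23379 F77103))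
theorem Q20933 : ∀ i, i < 20933 → P i := stepQ 20932 Q20932 (allL N20932 (tt N33561 (iv1 F85124)) (tt N10219 F55395) (tt N33560 (iv2 F85117)) (tt N10214 (iv3 D31568)) (tt N38204 (iv4 F97649)) (tt N29734 (iv5 F77127)) (tt N30520 (iv6 F78771)) (tt N32095 (iv7 F82318)))
theorem Q20934 : ∀ i, i < 20934 → P i := stepQ 20933 Q20933 (allL N20933 (tt N11466 F55394) (tt N34707 F88623) (tt N30526 (iv2 F78798)) (tt N30072 (iv3 F77959)) (tt N10214 (iv4 D31569)) (tt N41338 D67897) (tt N30069 F77956) (tt N32096 (iv7 F82323)))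
theorem Q20935 : ∀ i, i < 20935 → P i := stepQ 20934 Q20934 (allL N20934 (tt N14821 (iv1 F50328)) (tt N14816 (iv0 F50925)) (tt N10217 F49898) (tt N18424 (iv3 F50763)) (tt N40611 F321270) (tt N10215 (iv5 D31572)) (tt N41339 D67899) (tt N21121 (iv7 F50165)))
theorem Q20936 : ∀ i, i < 20936 → P i := stepQ 20935 Q20935 (allL N20935 (tt N23220 (iv1 F55243)) (tt N10216 (iv0 D31573)) (tt N23218 F55233) (tt N10477 F49899) (tt N11212 F49900) (tt N29537 (iv5 F85306)) (tt N41340 D67900) (tt N21504 (iv7 F51407)))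
theorem Q20937 : ∀ i, i < 20937 → P i := stepQ 20936 Q20936 (allL N20936 (tt N10216 (iv1 D31574)) (tt N23220 F55242) (tt N21504 (iv2 F51404)) (tt N41341 D67901) (tt N17538 (iv4 F50522)) (tt N29538 (iv5 F76633)) (tt N30412 (iv6 F78498)) (tt N23218 (iv7 F55234)))
theorem Q20938 : ∀ i, i < 20938 → P i := stepQ 20937 Q20937 (allL N20937 (tt N41342 D67902) (tt N33665 (iv0 F85414)) (tt N23219 (iv2 F55236)) (tt N16314 F49902) (tt N41343 D67903) (tt N10216 (iv5 D31575)) (tt N41344 D67904) (tt N32054 (iv7 F82180)))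
theorem Q20939 : ∀ i, i < 20939 → P i := stepQ 20938 Q20938 (allL N20938 (tt N21121 (iv1 F50166)) (tt N10217 (iv0 D31576)) (tt N14821 (iv2 F54339)) (tt N18434 F54341) (tt N41345 D67905) (tt N14818 F54342) (tt N41346 D67906) (tt N14816 (iv7 F54340)))
theorem Q20940 : ∀ i, i < 20940 → P i := stepQ 20939 Q20939 (allL N20939 (tt N10217 (iv1 D31577)) (tt N21121 F50168) (tt N14816 F54337) (tt N41347 D67907) (tt N41348 D67908) (tt N14813 (iv5 F54336)) (tt N41349 D67909) (tt N14821 F54338))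
theorem Q20941 : ∀ i, i < 20941 → P i := stepQ 20940 Q20940 (allL N20940 (tt N41350 D67913) (tt N41351 D67914) (tt N41339 (iv2 F103966)) (tt N10218 F49903) (tt N21149 F321732) (tt N21830 (iv5 F51993)) (tt N10217 (iv6 D31579)) (tt N41352 D67915))
theorem Q20942 : ∀ i, i < 20942 → P i := stepQ 20941 Q20941 (allL N20941 (tt N21120 (iv1 F50161)) (tt N10218 (iv0 D31580)) (tt N21118 F199824) (tt N41353 D67917) (tt N40184 (iv4 F104789)) (tt N25225 F199808) (tt N41354 D67920) (tt N21119 F199825))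
theorem Q20943 : ∀ i, i < 20943 → P i := stepQ 20942 Q20942 (allL N20942 (tt N10218 (iv1 D31581)) (tt N21120 F50160) (tt N21119 F199830) (tt N12494 (iv3 F199788)) (tt N40185 (iv4 F107374)) (tt N12488 F199739) (tt N33328 (iv6 F313230)) (tt N21118 (iv7 F199846)))
theorem Q20944 : ∀ i, i < 20944 → P i := stepQ 20943 Q20943 (allL N20943 (tt N21119 (iv1 F50156)) (tt N21118 F50159) (tt N21120 (iv2 F50157)) (tt N41352 (iv3 F103998)) (tt N40637 (iv4 F102323)) (tt N21834 (iv5 F52001)) (tt N21125 (iv6 F50178)) (tt N10218 (iv7 D31582)))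
theorem Q20945 : ∀ i, i < 20945 → P i := stepQ 20944 Q20944 (allL N20944 (tt N10219 (iv1 D31590)) (tt N33561 F85125) (tt N32095 (iv2 F82317)) (tt N10504 (iv3 F49912)) (tt N41302 (iv4 F103881)) (tt N41355 D67926) (tt N41356 D67927) (tt N33560 (iv7 F85114)))
theorem Q20946 : ∀ i, i < 20946 → P i := stepQ 20945 Q20945 (allL N20945 (tt N33560 (iv1 F85119)) (tt N32095 F82321) (tt N10219 (iv2 D31591)) (tt N33562 (iv3 F85126)) (tt N16273 (iv4 F50627)) (tt N41357 D67928) (tt N41358 D67929) (tt N33561 (iv7 F85123)))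
theorem Q20947 : ∀ i, i < 20947 → P i := stepQ 20946 Q20946 (allL N20946 (tt N41347 (iv1 F104023)) (tt N41359 D67931) (tt N41357 (iv2 F104007)) (tt N10221 F49913) (tt N33610 F85266) (tt N10219 (iv5 D31592)) (tt N41360 D67932) (tt N21103 F50619))
theorem Q20948 : ∀ i, i < 20948 → P i := stepQ 20947 Q20947 (allL N20947 (tt N35916 F93549) (tt N15322 F50486) (tt N41358 (iv2 F104013)) (tt N10222 F49914) (tt N34406 (iv4 F87471)) (tt N19086 F50559) (tt N10219 (iv6 D31593)) (tt N10539 F50558))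
theorem Q20949 : ∀ i, i < 20949 → P i := stepQ 20948 Q20948 (allL N20948 (tt N10224 F49919) (tt N10220 (iv0 D31595)) (tt N20914 (iv2 F50963)) (tt N11204 (iv3 F49917)) (tt N20914 F49916) (tt N21350 (iv5 F51125)) (tt N19373 (iv6 F50984)) (tt N23286 (iv7 F55391)))
theorem Q20950 : ∀ i, i < 20950 → P i := stepQ 20949 Q20949 (allL N20949 (tt N10220 (iv1 D31596)) (tt N10224 F49920) (tt N23286 F55389) (tt N16802 (iv3 F49921)) (tt N23286 (iv4 F55388)) (tt N21324 (iv5 F51082)) (tt N41361 D67933) (tt N20914 (iv7 F50959)))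
theorem Q20951 : ∀ i, i < 20951 → P i := stepQ 20950 Q20950 (allL N20950 (tt N21287 (iv1 F51017)) (tt N10406 F50616) (tt N33563 (iv2 F85131)) (tt N23304 (iv3 F55452)) (tt N33585 (iv4 F85201)) (tt N10220 (iv5 D31598)) (tt N41362 D67934) (tt N23287 (iv7 F55399)))
theorem Q20952 : ∀ i, i < 20952 → P i := stepQ 20951 Q20951 (allL N20951 (tt N11170 F50487) (tt N19373 F50488) (tt N22781 (iv2 F53941)) (tt N11155 F50489) (tt N10222 F49924) (tt N37591 (iv5 F96313)) (tt N10220 (iv6 D31599)) (tt N10541 F50501))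
theorem Q20953 : ∀ i, i < 20953 → P i := stepQ 20952 Q20952 (allL N20952 (tt N41363 D67935) (tt N41364 D67936) (tt N21107 F50614) (tt N41365 D67937) (tt N10221 (iv4 D31603)) (tt N41366 D67938) (tt N41367 D67939) (tt N21104 F50620))
theorem Q20954 : ∀ i, i < 20954 → P i := stepQ 20953 Q20953 (allL N20953 (tt N41368 D67940) (tt N32845 F313956) (tt N21108 F50615) (tt N41360 (iv3 F104024)) (tt N41367 (iv4 F104036)) (tt N19088 F50560) (tt N10221 (iv6 D31604)) (tt N41369 D67942))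
theorem Q20955 : ∀ i, i < 20955 → P i := stepQ 20954 Q20954 (allL N20954 (tt N33562 (iv1 F85129)) (tt N10223 (iv0 D31611)) (tt N33488 (iv2 F84928)) (tt N23272 (iv3 F82784)) (tt N32411 F82783) (tt N33720 (iv5 F85495)) (tt N41370 D67943) (tt N23279 F82785))
theorem Q20956 : ∀ i, i < 20956 → P i := stepQ 20955 Q20955 (allL N20955 (tt N33488 (iv1 F84935)) (tt N23279 F55396) (tt N10223 (iv2 D31613)) (tt N33561 (iv3 F85120)) (tt N16361 (iv4 F50618)) (tt N41371 D67944) (tt N10528 F50617) (tt N33562 (iv7 F85128)))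
theorem Q20957 : ∀ i, i < 20957 → P i := stepQ 20956 Q20956 (allL N20956 (tt N39649 F329162) (tt N18419 (iv0 F50916)) (tt N41371 (iv2 F104039)) (tt N10225 F49935) (tt N33674 (iv4 F85433)) (tt N10223 (iv5 D31615)) (tt N41372 D67946) (tt N21106 F50611))
theorem Q20958 : ∀ i, i < 20958 → P i := stepQ 20957 Q20957 (allL N20957 (tt N10406 (iv1 F51054)) (tt N21287 (iv0 F50729)) (tt N23287 (iv2 F55397)) (tt N10347 F50469) (tt N33586 (iv4 F85207)) (tt N10224 (iv5 D31617)) (tt N41373 D67947) (tt N33563 (iv7 F85133)))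
theorem Q20959 : ∀ i, i < 20959 → P i := stepQ 20958 Q20958 (allL N20958 (tt N41364 (iv1 F104033)) (tt N41363 F104031) (tt N21104 (iv2 F50621)) (tt N41374 D67948) (tt N10225 (iv4 D31619)) (tt N41375 D67949) (tt N41376 D67950) (tt N21107 F50612))
theorem Q20960 : ∀ i, i < 20960 → P i := stepQ 20959 Q20959 (allL N20959 (tt N41353 (iv1 F199848)) (tt N25269 (iv0 F155281)) (tt N21105 F50622) (tt N41372 (iv3 F104048)) (tt N41376 (iv4 F104052)) (tt N10534 (iv5 F50623)) (tt N10225 (iv6 D31620)) (tt N41377 D67953))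
theorem Q20961 : ∀ i, i < 20961 → P i := stepQ 20960 Q20960 (allL N20960 (tt N32727 (iv1 F316009)) (tt N32807 (iv0 F316008)) (tt N10230 F49938) (tt N41378 D67954) (tt N10226 (iv4 D31625)) (tt N41379 D67955) (tt N32827 F314387) (tt N32791 F314388))
theorem Q20962 : ∀ i, i < 20962 → P i := stepQ 20961 Q20961 (allL N20961 (tt N41380 D67957) (tt N41381 D67958) (tt N10231 F49939) (tt N22888 (iv3 F54595)) (tt N32827 (iv4 F313962)) (tt N36654 (iv5 F94954)) (tt N10226 (iv6 D31626)) (tt N32824 F311540))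
theorem Q20963 : ∀ i, i < 20963 → P i := stepQ 20962 Q20962 (allL N20962 (tt N10235 (iv1 F49940)) (tt N10227 (iv0 D31627)) (tt N10232 F50641) (tt N41382 D67960) (tt N23334 (iv4 F55627)) (tt N17049 (iv5 F50644)) (tt N10547 F50642) (tt N10233 F50643))
theorem Q20964 : ∀ i, i < 20964 → P i := stepQ 20963 Q20963 (allL N20963 (tt N10227 (iv1 D31628)) (tt N10235 F49941) (tt N10233 F50638) (tt N41383 D67961) (tt N41384 D67962) (tt N17048 F50602) (tt N10233 F50603) (tt N10232 F50639))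
theorem Q20965 : ∀ i, i < 20965 → P i := stepQ 20964 Q20964 (allL N20964 (tt N29734 (iv1 F105036)) (tt N41355 (iv0 F104004)) (tt N41385 D67964) (tt N10228 (iv3 D31630)) (tt N21415 F51180) (tt N10297 F50444) (tt N41386 D67965) (tt N33564 (iv7 F85144)))
theorem Q20966 : ∀ i, i < 20966 → P i := stepQ 20965 Q20965 (allL N20965 (tt N17173 F315427) (tt N41387 D67966) (tt N33568 (iv2 F85152)) (tt N41388 D67967) (tt N10228 (iv4 D31631)) (tt N41389 D67968) (tt N41390 D67969) (tt N33565 (iv7 F85146)))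
theorem Q20967 : ∀ i, i < 20967 → P i := stepQ 20966 Q20966 (allL N20966 (tt N41391 D67970) (tt N36380 F278602) (tt N33569 (iv2 F85154)) (tt N41386 (iv3 F104079)) (tt N41390 (iv4 F104081)) (tt N33893 (iv5 F86008)) (tt N10228 (iv6 D31633)) (tt N41392 D67972))
theorem Q20968 : ∀ i, i < 20968 → P i := stepQ 20967 Q20967 (allL N20967 (tt N33720 (iv1 F85496)) (tt N33724 (iv0 F85505)) (tt N36284 (iv2 F94290)) (tt N10229 (iv3 D31635)) (tt N41393 D67973) (tt N10299 F50448) (tt N41394 D67974) (tt N33567 (iv7 F85150)))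
theorem Q20969 : ∀ i, i < 20969 → P i := stepQ 20968 Q20968 (allL N20968 (tt N41387 (iv1 F104080)) (tt N17173 F315426) (tt N33565 (iv2 F85145)) (tt N41395 D67975) (tt N10229 (iv4 D31636)) (tt N41396 D67976) (tt N41397 D67977) (tt N33568 (iv7 F85153)))
theorem Q20970 : ∀ i, i < 20970 → P i := stepQ 20969 Q20969 (allL N20969 (tt N29745 (iv1 F155256)) (tt N36373 (iv0 F155348)) (tt N33566 (iv2 F85147)) (tt N41394 (iv3 F104086)) (tt N41397 (iv4 F104088)) (tt N10553 F50450) (tt N10229 (iv6 D31638)) (tt N36372 (iv7 F155382)))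
theorem Q20971 : ∀ i, i < 20971 → P i := stepQ 20970 Q20970 (allL N20970 (tt N32791 F314384) (tt N10230 (iv0 D31639)) (tt N32727 F318215) (tt N41398 D67981) (tt N21098 F50631) (tt N41399 D67982) (tt N41400 D67983) (tt N32807 F318216))
theorem Q20972 : ∀ i, i < 20972 → P i := stepQ 20971 Q20971 (allL N20971 (tt N10230 (iv1 D31640)) (tt N32791 F314383) (tt N32807 F318204) (tt N29574 (iv3 F319183)) (tt N21100 (iv4 F50515)) (tt N41401 D67985) (tt N41402 D67986) (tt N32727 F318205))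
theorem Q20973 : ∀ i, i < 20973 → P i := stepQ 20972 Q20972 (allL N20972 (tt N41403 D67987) (tt N41404 D67988) (tt N41379 (iv2 F104054)) (tt N41023 (iv3 F103180)) (tt N41405 D67989) (tt N10230 (iv5 D31641)) (tt N41406 D67990) (tt N32808 F318227))
theorem Q20974 : ∀ i, i < 20974 → P i := stepQ 20973 Q20973 (allL N20973 (tt N32825 F316460) (tt N32767 F316461) (tt N32827 F316462) (tt N41024 (iv3 F103181)) (tt N10231 F49944) (tt N41407 D67993) (tt N10230 (iv6 D31642)) (tt N32809 F316463))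
theorem Q20975 : ∀ i, i < 20975 → P i := stepQ 20974 Q20974 (allL N20974 (tt N32824 F311534) (tt N10231 (iv0 D31643)) (tt N41380 F264339) (tt N41408 D67996) (tt N41409 D67997) (tt N41410 D67998) (tt N41411 D67999) (tt N41381 (iv7 F264347)))
theorem Q20976 : ∀ i, i < 20976 → P i := stepQ 20975 Q20975 (allL N20975 (tt N10231 (iv1 D31644)) (tt N32824 F311533) (tt N41381 (iv2 F264346)) (tt N41412 D68001) (tt N41413 D68002) (tt N41414 D68003) (tt N41415 D68004) (tt N41380 F264345))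
theorem Q20977 : ∀ i, i < 20977 → P i := stepQ 20976 Q20976 (allL N20976 (tt N41381 (iv1 F104058)) (tt N41380 F104060) (tt N32824 F311531) (tt N10238 F49947) (tt N32809 (iv4 F313961)) (tt N33326 F315683) (tt N21692 F311532) (tt N10231 (iv7 D31646)))
theorem Q20978 : ∀ i, i < 20978 → P i := stepQ 20977 Q20977 (allL N20977 (tt N30532 (iv1 F115250)) (tt N41356 (iv0 F104006)) (tt N41416 D68010) (tt N10232 (iv3 D31648)) (tt N41417 D68011) (tt N41418 D68012) (tt N10562 F50636) (tt N41383 (iv7 F104069)))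
theorem Q20979 : ∀ i, i < 20979 → P i := stepQ 20978 Q20978 (allL N20978 (tt N37440 F95990) (tt N41361 F104028) (tt N23334 (iv2 F55625)) (tt N23329 (iv3 F55607)) (tt N10232 (iv4 D31649)) (tt N41419 D68013) (tt N10563 F50637) (tt N41384 (iv7 F104073)))
theorem Q20980 : ∀ i, i < 20980 → P i := stepQ 20979 Q20979 (allL N20979 (tt N17039 F50632) (tt N17051 F50634) (tt N17049 F50645) (tt N41418 (iv3 F104118)) (tt N41420 D68014) (tt N10232 (iv5 D31650)) (tt N20869 F319640) (tt N17048 F50640))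
theorem Q20981 : ∀ i, i < 20981 → P i := stepQ 20980 Q20980 (allL N20980 (tt N41370 (iv1 F106662)) (tt N41421 D68017) (tt N41422 D68018) (tt N10233 (iv3 D31653)) (tt N41423 D68019) (tt N41424 D68020) (tt N41383 (iv6 F104068)) (tt N41382 (iv7 F104066)))
theorem Q20982 : ∀ i, i < 20982 → P i := stepQ 20981 Q20981 (allL N20981 (tt N41361 (iv1 F104029)) (tt N37440 (iv0 F95991)) (tt N41384 (iv2 F104071)) (tt N23339 (iv3 F55645)) (tt N10233 (iv4 D31654)) (tt N34034 (iv5 F86522)) (tt N41384 (iv6 F104072)) (tt N23334 F55630))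
theorem Q20983 : ∀ i, i < 20983 → P i := stepQ 20982 Q20982 (allL N20982 (tt N17051 F50601) (tt N17039 (iv0 F50604)) (tt N17048 (iv2 F50647)) (tt N41424 (iv3 F104141)) (tt N41425 D68021) (tt N10233 (iv5 D31655)) (tt N40486 F318712) (tt N17049 F50646))
theorem Q20984 : ∀ i, i < 20984 → P i := stepQ 20983 Q20983 (allL N20983 (tt N41426 D68023) (tt N41427 D68024) (tt N36653 (iv2 F94951)) (tt N41428 D68025) (tt N10234 (iv4 D31659)) (tt N41429 D68026) (tt N40641 F319602) (tt N41430 D68027))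
theorem Q20985 : ∀ i, i < 20985 → P i := stepQ 20984 Q20984 (allL N20984 (tt N33582 F85194) (tt N10647 (iv0 F50557)) (tt N22579 (iv2 F53346)) (tt N10243 F49950) (tt N41430 (iv4 F104151)) (tt N10235 F49951) (tt N41431 D68028) (tt N10234 (iv7 D31660)))
theorem Q20986 : ∀ i, i < 20986 → P i := stepQ 20985 Q20985 (allL N20985 (tt N24303 F315261) (tt N36316 (iv0 F243327)) (tt N36325 F243162) (tt N10236 (iv3 D31662)) (tt N27493 (iv4 F314854)) (tt N41432 D68039) (tt N41433 D68040) (tt N33504 (iv7 F182732)))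
theorem Q20987 : ∀ i, i < 20987 → P i := stepQ 20986 Q20986 (allL N20986 (tt N18802 F313985) (tt N21063 F313986) (tt N33502 F182717) (tt N41432 (iv3 F104162)) (tt N19430 (iv4 F316115)) (tt N10236 (iv5 D31664)) (tt N20855 (iv6 F316490)) (tt N33505 (iv7 F182721)))
theorem Q20988 : ∀ i, i < 20988 → P i := stepQ 20987 Q20987 (allL N20987 (tt N22448 (iv1 F310958)) (tt N22449 F310932) (tt N33503 F182725) (tt N41433 (iv3 F104163)) (tt N21628 (iv4 F313161)) (tt N33573 F85174) (tt N10236 (iv6 D31665)) (tt N36376 (iv7 F182738)))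
theorem Q20989 : ∀ i, i < 20989 → P i := stepQ 20988 Q20988 (allL N20988 (tt N21063 F313983) (tt N18802 F313984) (tt N33505 (iv2 F182720)) (tt N29737 F320780) (tt N19429 (iv4 F316114)) (tt N10237 (iv5 D31669)) (tt N20774 (iv6 F315954)) (tt N33502 (iv7 F182716)))
theorem Q20990 : ∀ i, i < 20990 → P i := stepQ 20989 Q20989 (allL N20989 (tt N38358 F104175) (tt N36379 (iv0 F182266)) (tt N33506 (iv2 F182741)) (tt N29738 (iv3 F318668)) (tt N29744 F317926) (tt N41434 D68068) (tt N10237 (iv6 D31670)) (tt N41435 D68069))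
theorem Q20991 : ∀ i, i < 20991 → P i := stepQ 20990 Q20990 (allL N20990 (tt N33507 (iv1 F84993)) (tt N10239 (iv0 D31675)) (tt N15328 (iv2 F54149)) (tt N41421 F104136) (tt N23386 F55767) (tt N33908 (iv5 F86055)) (tt N15324 F54150) (tt N33489 (iv7 F84938)))
theorem Q20992 : ∀ i, i < 20992 → P i := stepQ 20991 Q20991 (allL N20991 (tt N15328 F56712) (tt N33489 (iv0 F84939)) (tt N10239 (iv2 D31677)) (tt N23375 (iv3 F55721)) (tt N22272 F54113) (tt N18545 (iv5 F54161)) (tt N10576 F49957) (tt N33507 (iv7 F84992)))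
theorem Q20993 : ∀ i, i < 20993 → P i := stepQ 20992 Q20992 (allL N20992 (tt N23380 (iv1 F55737)) (tt N23379 F55736) (tt N10240 (iv2 D31680)) (tt N33507 (iv3 F84990)) (tt N41436 D68082) (tt N21890 (iv5 F52117)) (tt N41437 D68083) (tt N23375 F55722))
theorem Q20994 : ∀ i, i < 20994 → P i := stepQ 20993 Q20993 (allL N20993 (tt N41340 F103972) (tt N26937 (iv0 F94978)) (tt N41436 (iv2 F104201)) (tt N18488 F49958) (tt N10240 (iv4 D31681)) (tt N41438 D68084) (tt N36244 (iv6 F94177)) (tt N23236 F55288))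
theorem Q20995 : ∀ i, i < 20995 → P i := stepQ 20994 Q20994 (allL N20994 (tt N23278 F79156) (tt N35917 (iv0 F93551)) (tt N41437 (iv2 F104203)) (tt N10241 F49959) (tt N36244 F94176) (tt N21859 (iv5 F52040)) (tt N10240 (iv6 D31682)) (tt N10583 F49960))
theorem Q20996 : ∀ i, i < 20996 → P i := stepQ 20995 Q20995 (allL N20995 (tt N18290 (iv1 F321598)) (tt N30615 (iv0 F321599)) (tt N30614 (iv2 F321600)) (tt N10242 (iv3 D31683)) (tt N41428 (iv4 F104150)) (tt N20895 F319603) (tt N18347 F319604) (tt N20893 F319605))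
theorem Q20997 : ∀ i, i < 20997 → P i := stepQ 20996 Q20996 (allL N20996 (tt N33469 F311452) (tt N38851 F311453) (tt N22783 (iv2 F54379)) (tt N41431 (iv3 F104152)) (tt N20894 (iv4 F313901)) (tt N10250 F49964) (tt N10243 (iv6 D31685)) (tt N33327 F311454))
theorem Q20998 : ∀ i, i < 20998 → P i := stepQ 20997 Q20997 (allL N20997 (tt N41439 D68092) (tt N41303 (iv0 F103887)) (tt N34583 (iv2 F87980)) (tt N10244 (iv3 D31686)) (tt N10245 F49965) (tt N41440 D68093) (tt N10596 F49966) (tt N32434 (iv7 F82839)))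
theorem Q20999 : ∀ i, i < 20999 → P i := stepQ 20998 Q20998 (allL N20998 (tt N11220 F49969) (tt N16467 F49970) (tt N16465 F49967) (tt N41440 (iv3 F104218)) (tt N36407 (iv4 F94513)) (tt N10244 (iv5 D31687)) (tt N41441 D68094) (tt N16464 F49968))
theorem Q21000 : ∀ i, i < 21000 → P i := stepQ 20999 Q20999 (allL N20999 (tt N33508 (iv1 F85000)) (tt N10245 (iv0 D31688)) (tt N17346 (iv2 F49971)) (tt N36664 (iv3 F94971)) (tt N41442 D68095) (tt N33917 (iv5 F86145)) (tt N17343 F49972) (tt N33487 (iv7 F84924)))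
theorem Q21001 : ∀ i, i < 21001 → P i := stepQ 21000 Q21000 (allL N21000 (tt N22813 (iv1 F54472)) (tt N22807 (iv0 F54458)) (tt N10246 (iv2 D31691)) (tt N33508 (iv3 F84997)) (tt N33507 (iv4 F84991)) (tt N22160 (iv5 F52573)) (tt N38154 (iv6 F97541)) (tt N22272 F54114))
theorem Q21002 : ∀ i, i < 21002 → P i := stepQ 21001 Q21001 (allL N21001 (tt N22867 F54551) (tt N19003 (iv0 F54103)) (tt N38154 F97542) (tt N10247 F49973) (tt N22578 (iv4 F53343)) (tt N22408 (iv5 F54096)) (tt N10246 (iv6 D31692)) (tt N10604 F49974))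
theorem Q21003 : ∀ i, i < 21003 → P i := stepQ 21002 Q21002 (allL N21002 (tt N41443 D68096) (tt N41444 D68097) (tt N37503 (iv2 F96151)) (tt N25122 (iv3 F313246)) (tt N10248 (iv4 D31705)) (tt N41445 D68098) (tt N41446 D68099) (tt N22782 (iv7 F54368)))
theorem Q21004 : ∀ i, i < 21004 → P i := stepQ 21003 Q21003 (allL N21003 (tt N41447 D68100) (tt N41448 D68101) (tt N37504 (iv2 F96153)) (tt N10250 F50010) (tt N41446 (iv4 F104238)) (tt N41431 (iv5 F104153)) (tt N10248 (iv6 D31706)) (tt N41449 D68102))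
theorem Q21005 : ∀ i, i < 21005 → P i := stepQ 21004 Q21004 (allL N21004 (tt N37507 (iv1 F109894)) (tt N41450 D68106) (tt N19494 F50013) (tt N17978 (iv3 F311170)) (tt N17980 (iv4 F311171)) (tt N10588 F50014) (tt N10249 (iv6 D31708)) (tt N41451 D68107))
theorem Q21006 : ∀ i, i < 21006 → P i := stepQ 21005 Q21005 (allL N21005 (tt N10250 (iv1 D31710)) (tt N21714 F307050) (tt N18610 F307051) (tt N41452 D68111) (tt N18609 (iv4 F308884)) (tt N20873 (iv5 F311552)) (tt N34613 F305246) (tt N22687 F309978))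
theorem Q21007 : ∀ i, i < 21007 → P i := stepQ 21006 Q21006 (allL N21006 (tt N18610 F307048) (tt N22687 F309979) (tt N21714 F307049) (tt N41449 (iv3 F104240)) (tt N17543 (iv4 F308887)) (tt N33327 (iv5 F309982)) (tt N16987 (iv6 F308889)) (tt N10250 (iv7 D31711)))
theorem Q21008 : ∀ i, i < 21008 → P i := stepQ 21007 Q21007 (allL N21007 (tt N39835 F100710) (tt N39839 (iv0 F111882)) (tt N36028 (iv2 F93827)) (tt N10252 F50015) (tt N20096 F50016) (tt N21007 F50017) (tt N10251 (iv6 D31712)) (tt N35548 (iv7 F92817)))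
theorem Q21009 : ∀ i, i < 21009 → P i := stepQ 21008 Q21008 (allL N21008 (tt N10252 (iv1 D31714)) (tt N15774 F50019) (tt N15802 F100220) (tt N32117 (iv3 F168094)) (tt N30344 (iv4 F163977)) (tt N41453 D68116) (tt N41454 D68117) (tt N15801 F100221))
theorem Q21010 : ∀ i, i < 21010 → P i := stepQ 21009 Q21009 (allL N21009 (tt N30460 F78604) (tt N38468 F98348) (tt N36065 (iv2 F93898)) (tt N10255 F50020) (tt N20329 F50021) (tt N19153 F50022) (tt N10253 (iv6 D31715)) (tt N38466 F101617))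
theorem Q21011 : ∀ i, i < 21011 → P i := stepQ 21010 Q21010 (allL N21010 (tt N41455 D68118) (tt N41456 D68119) (tt N41457 D68120) (tt N10254 (iv3 D31716)) (tt N20327 F50023) (tt N30359 (iv5 F78382)) (tt N41458 D68121) (tt N30353 (iv7 F78366)))
theorem Q21012 : ∀ i, i < 21012 → P i := stepQ 21011 Q21011 (allL N21011 (tt N41459 D68122) (tt N41460 D68123) (tt N30360 (iv2 F78384)) (tt N41458 (iv3 F104277)) (tt N10255 F50024) (tt N41461 D68124) (tt N10254 (iv6 D31717)) (tt N41462 D68125))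
theorem Q21013 : ∀ i, i < 21013 → P i := stepQ 21012 Q21012 (allL N21012 (tt N30361 (iv1 F78387)) (tt N15303 (iv0 F78375)) (tt N30362 (iv2 F78391)) (tt N38466 F101616) (tt N41462 (iv4 F104285)) (tt N19159 F50025) (tt N30357 (iv6 F78372)) (tt N10255 (iv7 D31718)))
theorem Q21014 : ∀ i, i < 21014 → P i := stepQ 21013 Q21013 (allL N21013 (tt N41463 D68126) (tt N41464 D68127) (tt N36029 (iv2 F93830)) (tt N10258 F50026) (tt N20020 F50027) (tt N16285 F50028) (tt N10256 (iv6 D31719)) (tt N41465 D68128))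
theorem Q21015 : ∀ i, i < 21015 → P i := stepQ 21014 Q21014 (allL N21014 (tt N31516 (iv1 F172280)) (tt N31521 (iv0 F172281)) (tt N41466 D68131) (tt N10257 (iv3 D31720)) (tt N20018 F50029) (tt N30353 (iv5 F78365)) (tt N41467 D68132) (tt N30359 (iv7 F78383)))
theorem Q21016 : ∀ i, i < 21016 → P i := stepQ 21015 Q21015 (allL N21015 (tt N41468 D68133) (tt N41469 D68134) (tt N30354 (iv2 F78367)) (tt N41467 (iv3 F104290)) (tt N10258 F50030) (tt N41470 D68135) (tt N10257 (iv6 D31721)) (tt N41471 D68136))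
theorem Q21017 : ∀ i, i < 21017 → P i := stepQ 21016 Q21016 (allL N21016 (tt N10258 (iv1 D31723)) (tt N30357 F78374) (tt N30356 (iv2 F93346)) (tt N33519 (iv3 F168052)) (tt N41472 D68137) (tt N41473 D68138) (tt N36780 (iv6 F100233)) (tt N30355 (iv7 F93348)))
theorem Q21018 : ∀ i, i < 21018 → P i := stepQ 21017 Q21017 (allL N21017 (tt N30356 (iv1 F78369)) (tt N30355 F78373) (tt N30357 (iv2 F78370)) (tt N41465 (iv3 F104286)) (tt N41471 (iv4 F104293)) (tt N16289 F50031) (tt N30362 (iv6 F78393)) (tt N10258 (iv7 D31724)))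
theorem Q21019 : ∀ i, i < 21019 → P i := stepQ 21018 Q21018 (allL N21018 (tt N41474 D68139) (tt N41475 D68140) (tt N41476 D68141) (tt N10259 (iv3 D31725)) (tt N36044 (iv4 F93859)) (tt N30220 (iv5 F78212)) (tt N41477 D68142) (tt N30215 (iv7 F78207)))
theorem Q21020 : ∀ i, i < 21020 → P i := stepQ 21019 Q21019 (allL N21019 (tt N35550 F92822) (tt N41264 F103750) (tt N30221 (iv2 F78214)) (tt N41477 (iv3 F104298)) (tt N16067 F50032) (tt N41478 D68143) (tt N10259 (iv6 D31726)) (tt N41479 D68144))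
theorem Q21021 : ∀ i, i < 21021 → P i := stepQ 21020 Q21020 (allL N21020 (tt N41480 D68145) (tt N41481 D68146) (tt N41482 D68147) (tt N10260 (iv3 D31727)) (tt N33212 (iv4 F84191)) (tt N30215 (iv5 F78206)) (tt N41483 D68148) (tt N30220 (iv7 F78213)))
theorem Q21022 : ∀ i, i < 21022 → P i := stepQ 21021 Q21021 (allL N21021 (tt N41229 (iv1 F164023)) (tt N41472 (iv0 F104294)) (tt N30216 (iv2 F78208)) (tt N41483 (iv3 F104300)) (tt N16068 F50033) (tt N41484 D68150) (tt N10260 (iv6 D31728)) (tt N41485 D68151))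
theorem Q21023 : ∀ i, i < 21023 → P i := stepQ 21022 Q21022 (allL N21022 (tt N30365 (iv1 F78400)) (tt N10261 (iv0 D31729)) (tt N30364 F180666) (tt N41486 D68153) (tt N41487 D68154) (tt N30385 (iv5 F166889)) (tt N41488 D68156) (tt N30363 (iv7 F180671)))
theorem Q21024 : ∀ i, i < 21024 → P i := stepQ 21023 Q21023 (allL N21023 (tt N10261 (iv1 D31730)) (tt N30365 F78402) (tt N30363 (iv2 F180669)) (tt N41489 D68158) (tt N20400 (iv4 F50034)) (tt N30386 F166900) (tt N41490 D68160) (tt N30364 F180665))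
theorem Q21025 : ∀ i, i < 21025 → P i := stepQ 21024 Q21024 (allL N21024 (tt N30364 (iv1 F78401)) (tt N30363 F78396) (tt N10261 (iv2 D31731)) (tt N30387 (iv3 F78437)) (tt N10272 F50035) (tt N31493 (iv5 F80767)) (tt N41491 D68161) (tt N30365 (iv7 F78399)))
theorem Q21026 : ∀ i, i < 21026 → P i := stepQ 21025 Q21025 (allL N21025 (tt N41492 D68162) (tt N41493 D68163) (tt N41491 (iv2 F104314)) (tt N10262 F50036) (tt N10273 F50037) (tt N40472 F331033) (tt N10261 (iv6 D31732)) (tt N41494 D68165))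
theorem Q21027 : ∀ i, i < 21027 → P i := stepQ 21026 Q21026 (allL N21026 (tt N30390 (iv1 F78445)) (tt N10262 (iv0 D31733)) (tt N30256 (iv2 F78254)) (tt N41495 D68166) (tt N16071 F78255) (tt N41496 D68167) (tt N41497 D68168) (tt N30259 (iv7 F78260)))
theorem Q21028 : ∀ i, i < 21028 → P i := stepQ 21027 Q21027 (allL N21027 (tt N10262 (iv1 D31734)) (tt N30390 F78444) (tt N30259 (iv2 F78259)) (tt N41498 D68169) (tt N16072 (iv4 F50038)) (tt N41499 D68170) (tt N22750 F53880) (tt N30256 (iv7 F78252)))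
theorem Q21029 : ∀ i, i < 21029 → P i := stepQ 21028 Q21028 (allL N21028 (tt N41500 D68171) (tt N41501 D68172) (tt N30389 (iv2 F78440)) (tt N40472 F331032) (tt N41502 D68173) (tt N10262 (iv5 D31735)) (tt N31497 (iv6 F80775)) (tt N41503 D68174))
theorem Q21030 : ∀ i, i < 21030 → P i := stepQ 21029 Q21029 (allL N21029 (tt N30259 (iv1 F78261)) (tt N30256 (iv0 F78253)) (tt N30390 (iv2 F78442)) (tt N41494 (iv3 F104317)) (tt N10266 F50039) (tt N41503 (iv5 F104320)) (tt N30368 (iv6 F78407)) (tt N10262 (iv7 D31736)))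
theorem Q21031 : ∀ i, i < 21031 → P i := stepQ 21030 Q21030 (allL N21030 (tt N36070 (iv1 F93920)) (tt N15755 F93914) (tt N36069 F93912) (tt N10263 (iv3 D31737)) (tt N41504 D68175) (tt N35655 (iv5 F93078)) (tt N41505 D68176) (tt N30395 (iv7 F78459)))
theorem Q21032 : ∀ i, i < 21032 → P i := stepQ 21031 Q21031 (allL N21031 (tt N32044 F82146) (tt N15113 F82147) (tt N30392 (iv2 F78447)) (tt N41506 D68177) (tt N10263 (iv4 D31738)) (tt N41507 D68178) (tt N41508 D68179) (tt N30396 (iv7 F78462)))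
theorem Q21033 : ∀ i, i < 21033 → P i := stepQ 21032 Q21032 (allL N21032 (tt N36780 (iv1 F95191)) (tt N36779 F95190) (tt N30394 (iv2 F78454)) (tt N41505 (iv3 F104326)) (tt N41508 (iv4 F104328)) (tt N31503 F80792) (tt N10263 (iv6 D31739)) (tt N20839 F50040))
theorem Q21034 : ∀ i, i < 21034 → P i := stepQ 21033 Q21033 (allL N21033 (tt N30882 F79641) (tt N36074 F93928) (tt N36073 (iv2 F93925)) (tt N10264 (iv3 D31740)) (tt N20073 (iv4 F99495)) (tt N35577 (iv5 F92908)) (tt N20840 F50041) (tt N30391 (iv7 F78446)))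
theorem Q21035 : ∀ i, i < 21035 → P i := stepQ 21034 Q21034 (allL N21034 (tt N15113 F82148) (tt N32044 F82149) (tt N30396 (iv2 F78460)) (tt N41509 D68180) (tt N10264 (iv4 D31741)) (tt N41510 D68181) (tt N20842 F50042) (tt N30392 (iv7 F78448)))
theorem Q21036 : ∀ i, i < 21036 → P i := stepQ 21035 Q21035 (allL N21035 (tt N30400 (iv1 F78470)) (tt N10265 (iv0 D31742)) (tt N30397 F166398) (tt N40327 (iv3 F173018)) (tt N41511 D68184) (tt N41512 D68185) (tt N35740 (iv6 F93169)) (tt N30398 F166399))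
theorem Q21037 : ∀ i, i < 21037 → P i := stepQ 21036 Q21036 (allL N21036 (tt N10265 (iv1 D31743)) (tt N30400 F78469) (tt N30398 (iv2 F166396)) (tt N41513 D68187) (tt N41514 D68188) (tt N41515 D68189) (tt N31298 F104340) (tt N30397 (iv7 F166397)))
theorem Q21038 : ∀ i, i < 21038 → P i := stepQ 21037 Q21037 (allL N21037 (tt N41516 D68190) (tt N41517 D68191) (tt N30399 (iv2 F78464)) (tt N41518 D68192) (tt N10265 (iv4 D31744)) (tt N41519 D68193) (tt N10269 F50043) (tt N41520 D68194))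
theorem Q21039 : ∀ i, i < 21039 → P i := stepQ 21038 Q21038 (allL N21038 (tt N30398 (iv1 F78463)) (tt N30397 F78468) (tt N30400 (iv2 F78466)) (tt N10284 F50044) (tt N41520 (iv4 F104365)) (tt N10266 F50045) (tt N16103 F50046) (tt N10265 (iv7 D31745)))
theorem Q21040 : ∀ i, i < 21040 → P i := stepQ 21039 Q21039 (allL N21039 (tt N41521 D68195) (tt N41522 D68196) (tt N41523 D68197) (tt N10269 (iv3 D31746)) (tt N10285 F50048) (tt N41524 D68198) (tt N41518 (iv6 F104364)) (tt N31306 (iv7 F80393)))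
theorem Q21041 : ∀ i, i < 21041 → P i := stepQ 21040 Q21040 (allL N21040 (tt N18170 F50050) (tt N18173 F50051) (tt N30402 (iv2 F78471)) (tt N41524 (iv3 F104368)) (tt N16300 F50049) (tt N10269 (iv5 D31747)) (tt N41525 D68199) (tt N30408 (iv7 F78485)))
theorem Q21042 : ∀ i, i < 21042 → P i := stepQ 21041 Q21041 (allL N21041 (tt N40175 (iv1 F180187)) (tt N41026 F321954) (tt N40374 (iv2 F182510)) (tt N10270 (iv3 D31749)) (tt N33225 F84229) (tt N41526 D68209) (tt N41527 D68210) (tt N33476 F182503))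
theorem Q21043 : ∀ i, i < 21043 → P i := stepQ 21042 Q21042 (allL N21042 (tt N41528 D68212) (tt N41529 D68213) (tt N33480 F182504) (tt N41530 D68214) (tt N10270 (iv4 D31750)) (tt N41531 D68215) (tt N41532 D68216) (tt N33477 F182505))
theorem Q21044 : ∀ i, i < 21044 → P i := stepQ 21043 Q21043 (allL N21043 (tt N20679 F166894) (tt N16747 (iv0 F166895)) (tt N20685 F182506) (tt N41526 (iv3 F104378)) (tt N41533 D68220) (tt N10270 (iv5 D31751)) (tt N41534 D68221) (tt N20684 F182507))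
theorem Q21045 : ∀ i, i < 21045 → P i := stepQ 21044 Q21044 (allL N21044 (tt N41535 D68223) (tt N40210 (iv0 F323604)) (tt N33481 F182508) (tt N41527 (iv3 F104379)) (tt N41532 (iv4 F104383)) (tt N41536 D68225) (tt N10270 (iv6 D31752)) (tt N41537 D68226))
theorem Q21046 : ∀ i, i < 21046 → P i := stepQ 21045 Q21045 (allL N21045 (tt N41538 D68228) (tt N40198 (iv0 F182584)) (tt N41539 D68230) (tt N10271 (iv3 D31754)) (tt N41540 D68231) (tt N41541 D68232) (tt N41542 D68233) (tt N33479 (iv7 F182491)))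
theorem Q21047 : ∀ i, i < 21047 → P i := stepQ 21046 Q21046 (allL N21046 (tt N41529 (iv1 F104382)) (tt N41528 F104386) (tt N33477 (iv2 F182496)) (tt N35806 (iv3 F93285)) (tt N10271 (iv4 D31755)) (tt N41543 D68234) (tt N41544 D68235) (tt N33480 (iv7 F182501)))
theorem Q21048 : ∀ i, i < 21048 → P i := stepQ 21047 Q21047 (allL N21047 (tt N16747 (iv1 F166896)) (tt N20679 F166893) (tt N20684 (iv2 F182497)) (tt N41541 (iv3 F104394)) (tt N41545 D68236) (tt N10271 (iv5 D31756)) (tt N41546 D68237) (tt N20685 (iv7 F182502)))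
theorem Q21049 : ∀ i, i < 21049 → P i := stepQ 21048 Q21048 (allL N21048 (tt N40188 F326749) (tt N41547 D68239) (tt N33478 (iv2 F182498)) (tt N41542 (iv3 F104395)) (tt N41544 (iv4 F104396)) (tt N41548 D68240) (tt N10271 (iv6 D31757)) (tt N41549 D68241))
theorem Q21050 : ∀ i, i < 21050 → P i := stepQ 21049 Q21049 (allL N21049 (tt N41550 D68242) (tt N41551 D68243) (tt N10273 F50054) (tt N33547 (iv3 F85080)) (tt N41491 (iv4 F104315)) (tt N41552 D68244) (tt N10272 (iv6 D31758)) (tt N41553 D68245))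
theorem Q21051 : ∀ i, i < 21051 → P i := stepQ 21050 Q21050 (allL N21050 (tt N41553 (iv1 F104402)) (tt N10273 (iv0 D31759)) (tt N41550 (iv2 F319073)) (tt N41554 D68247) (tt N41555 D68248) (tt N41556 D68249) (tt N41557 D68250) (tt N41551 (iv7 F319072)))
theorem Q21052 : ∀ i, i < 21052 → P i := stepQ 21051 Q21051 (allL N21051 (tt N10273 (iv1 D31760)) (tt N41553 F104401) (tt N41551 (iv2 F319071)) (tt N41558 D68252) (tt N41559 D68253) (tt N41560 D68254) (tt N22758 (iv6 F319070)) (tt N41550 (iv7 F319074)))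
theorem Q21053 : ∀ i, i < 21053 → P i := stepQ 21052 Q21052 (allL N21052 (tt N41554 F322229) (tt N35399 (iv0 F320496)) (tt N41552 (iv2 F104398)) (tt N10274 F50055) (tt N41561 D68258) (tt N10273 (iv5 D31761)) (tt N41026 (iv6 F103184)) (tt N41562 D68259))
theorem Q21054 : ∀ i, i < 21054 → P i := stepQ 21053 Q21053 (allL N21053 (tt N41551 (iv1 F104397)) (tt N41550 F104400) (tt N41553 (iv2 F104399)) (tt N10275 F50056) (tt N41494 (iv4 F104318)) (tt N41562 (iv5 F104406)) (tt N10849 (iv6 F316187)) (tt N10273 (iv7 D31762)))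
theorem Q21055 : ∀ i, i < 21055 → P i := stepQ 21054 Q21054 (allL N21054 (tt N33554 (iv1 F85095)) (tt N10274 (iv0 D31763)) (tt N33552 (iv2 F85093)) (tt N41563 D68260) (tt N40490 (iv4 F101768)) (tt N39959 F100924) (tt N35430 (iv6 F320500)) (tt N12459 F318336))
theorem Q21056 : ∀ i, i < 21056 → P i := stepQ 21055 Q21055 (allL N21055 (tt N41564 D68264) (tt N35499 (iv0 F320503)) (tt N33553 (iv2 F85087)) (tt N41565 D68266) (tt N10274 (iv4 D31765)) (tt N11642 (iv5 F323780)) (tt N40663 F322105) (tt N41566 D68268))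
theorem Q21057 : ∀ i, i < 21057 → P i := stepQ 21056 Q21056 (allL N21056 (tt N12459 (iv1 F316186)) (tt N33552 F85090) (tt N33554 (iv2 F85088)) (tt N41562 (iv3 F104405)) (tt N41566 (iv4 F104415)) (tt N10275 F50057) (tt N11027 (iv6 F316189)) (tt N10274 (iv7 D31766)))
theorem Q21058 : ∀ i, i < 21058 → P i := stepQ 21057 Q21057 (allL N21057 (tt N29644 (iv1 F76882)) (tt N10276 (iv0 D31767)) (tt N29645 (iv2 F76885)) (tt N36074 (iv3 F93927)) (tt N41567 D68270) (tt N31263 (iv5 F80299)) (tt N29637 (iv6 F76884)) (tt N29614 F76883))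
theorem Q21059 : ∀ i, i < 21059 → P i := stepQ 21058 Q21058 (allL N21058 (tt N29645 (iv1 F76887)) (tt N29614 F76810) (tt N10276 (iv2 D31769)) (tt N33556 (iv3 F85102)) (tt N41568 D68271) (tt N35750 (iv5 F93181)) (tt N41569 D68272) (tt N29644 (iv7 F76878)))
theorem Q21060 : ∀ i, i < 21060 → P i := stepQ 21059 Q21059 (allL N21059 (tt N41570 D68273) (tt N41236 (iv0 F103706)) (tt N41568 (iv2 F104418)) (tt N41571 D68274) (tt N10276 (iv4 D31770)) (tt N41572 D68275) (tt N41573 D68276) (tt N33559 (iv7 F85112)))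
theorem Q21061 : ∀ i, i < 21061 → P i := stepQ 21060 Q21060 (allL N21060 (tt N41574 D68277) (tt N41575 D68278) (tt N41569 (iv2 F104420)) (tt N10278 F50058) (tt N41573 (iv4 F104429)) (tt N19234 F50059) (tt N10276 (iv6 D31771)) (tt N19233 F50060))
theorem Q21062 : ∀ i, i < 21062 → P i := stepQ 21061 Q21061 (allL N21061 (tt N33896 (iv1 F318701)) (tt N41254 (iv0 F167388)) (tt N41576 D68281) (tt N10277 (iv3 D31772)) (tt N41571 (iv4 F104427)) (tt N41577 D68282) (tt N41578 D68283) (tt N20503 F50062))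
theorem Q21063 : ∀ i, i < 21063 → P i := stepQ 21062 Q21062 (allL N21062 (tt N41073 (iv1 F103299)) (tt N41579 D68284) (tt N20501 F50063) (tt N41577 (iv3 F104441)) (tt N41580 D68285) (tt N10277 (iv5 D31773)) (tt N41581 D68286) (tt N20504 F50064))
theorem Q21064 : ∀ i, i < 21064 → P i := stepQ 21063 Q21063 (allL N21063 (tt N20986 (iv1 F313986)) (tt N20988 (iv0 F313983)) (tt N20502 F50065) (tt N41578 (iv3 F104443)) (tt N10278 F50066) (tt N33329 F84479) (tt N10277 (iv6 D31774)) (tt N19246 F50067))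
theorem Q21065 : ∀ i, i < 21065 → P i := stepQ 21064 Q21064 (allL N21064 (tt N39134 (iv1 F100391)) (tt N39534 (iv0 F100390)) (tt N36085 (iv2 F93934)) (tt N35499 F318350) (tt N10279 (iv4 D31775)) (tt N41582 D68288) (tt N20898 F50068) (tt N33557 (iv7 F85106)))
theorem Q21066 : ∀ i, i < 21066 → P i := stepQ 21065 Q21065 (allL N21065 (tt N41579 (iv1 F104445)) (tt N41073 (iv0 F103298)) (tt N20504 F50071) (tt N20633 F318616) (tt N11644 F324255) (tt N10280 (iv5 D31777)) (tt N20632 (iv6 F319579)) (tt N20501 F50072))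
theorem Q21067 : ∀ i, i < 21067 → P i := stepQ 21066 Q21066 (allL N21066 (tt N31263 F166176) (tt N16090 (iv0 F166177)) (tt N31261 (iv2 F166130)) (tt N10281 (iv3 D31779)) (tt N41583 D68298) (tt N41584 D68299) (tt N35804 F93282) (tt N31262 (iv7 F166121)))
theorem Q21068 : ∀ i, i < 21068 → P i := stepQ 21067 Q21067 (allL N21067 (tt N11648 (iv1 F323445)) (tt N11652 (iv0 F323447)) (tt N20516 F78684) (tt N11689 (iv3 F323440)) (tt N10281 (iv4 D31780)) (tt N11925 (iv5 F323451)) (tt N31233 (iv6 F80235)) (tt N20517 F78682))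
theorem Q21069 : ∀ i, i < 21069 → P i := stepQ 21068 Q21068 (allL N21068 (tt N18120 F50076) (tt N18121 (iv0 F50077)) (tt N30500 (iv2 F78662)) (tt N41584 (iv3 F104469)) (tt N41585 D68302) (tt N10281 (iv5 D31781)) (tt N15309 F50075) (tt N29688 F78661))
theorem Q21070 : ∀ i, i < 21070 → P i := stepQ 21069 Q21069 (allL N21069 (tt N16040 (iv1 F166124)) (tt N31333 (iv0 F166125)) (tt N31332 (iv2 F166158)) (tt N10282 (iv3 D31783)) (tt N41586 D68306) (tt N36125 F166122) (tt N31262 F166123) (tt N31305 (iv7 F80389)))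
theorem Q21071 : ∀ i, i < 21071 → P i := stepQ 21070 Q21070 (allL N21070 (tt N11652 (iv1 F323448)) (tt N11648 (iv0 F323444)) (tt N20517 (iv2 F78683)) (tt N11957 F321753) (tt N10282 (iv4 D31784)) (tt N11924 (iv5 F323321)) (tt N20517 F50079) (tt N20516 (iv7 F78686)))
theorem Q21072 : ∀ i, i < 21072 → P i := stepQ 21071 Q21071 (allL N21071 (tt N41587 D68309) (tt N34577 (iv0 F325659)) (tt N12356 F324553) (tt N10283 (iv3 D31786)) (tt N41518 (iv4 F104363)) (tt N12336 F324554) (tt N10285 F50082) (tt N12352 (iv7 F324931)))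
theorem Q21073 : ∀ i, i < 21073 → P i := stepQ 21072 Q21072 (allL N21072 (tt N12148 (iv1 F325861)) (tt N15987 F50083) (tt N31149 F80007) (tt N12336 F324777) (tt N11643 (iv4 F324845)) (tt N10283 (iv5 D31787)) (tt N31149 F80008) (tt N12350 (iv7 F324933)))
theorem Q21074 : ∀ i, i < 21074 → P i := stepQ 21073 Q21073 (allL N21073 (tt N31303 (iv1 F80367)) (tt N31302 (iv0 F80383)) (tt N31304 (iv2 F80384)) (tt N12352 (iv3 F324930)) (tt N10284 F50084) (tt N12350 (iv5 F324932)) (tt N15556 F50085) (tt N10283 (iv7 D31788)))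
theorem Q21075 : ∀ i, i < 21075 → P i := stepQ 21074 Q21074 (allL N21074 (tt N29468 F322532) (tt N27666 (iv0 F323113)) (tt N10285 (iv2 D31791)) (tt N31300 (iv3 F80360)) (tt N41523 (iv4 F104367)) (tt N31300 (iv5 F80361)) (tt N12356 (iv6 F324013)) (tt N29467 (iv7 F323121)))
theorem Q21076 : ∀ i, i < 21076 → P i := stepQ 21075 Q21075 (allL N21075 (tt N10505 (iv1 F50091)) (tt N10504 F50089) (tt N10286 (iv2 D31793)) (tt N23275 (iv3 F55366)) (tt N18409 F50086) (tt N41588 D68325) (tt N15320 F50087) (tt N10501 F50088))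
theorem Q21077 : ∀ i, i < 21077 → P i := stepQ 21076 Q21076 (allL N21076 (tt N18422 (iv1 F50772)) (tt N18434 (iv0 F51031)) (tt N41588 (iv2 F104495)) (tt N10287 F50092) (tt N41589 D68326) (tt N10286 (iv5 D31794)) (tt N41590 D68327) (tt N10506 F50093))
theorem Q21078 : ∀ i, i < 21078 → P i := stepQ 21077 Q21077 (allL N21077 (tt N10363 F50097) (tt N21508 (iv0 F51417)) (tt N21135 (iv2 F50188)) (tt N41591 D68328) (tt N10287 (iv4 D31795)) (tt N11459 F50096) (tt N41592 D68329) (tt N10509 F50095))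
theorem Q21079 : ∀ i, i < 21079 → P i := stepQ 21078 Q21078 (allL N21078 (tt N41334 (iv1 F109837)) (tt N41593 D68331) (tt N21136 (iv2 F50192)) (tt N41590 (iv3 F104505)) (tt N41592 (iv4 F104509)) (tt N15342 F50098) (tt N10287 (iv6 D31796)) (tt N41594 D68332))
theorem Q21080 : ∀ i, i < 21080 → P i := stepQ 21079 Q21079 (allL N21079 (tt N33497 (iv1 F84968)) (tt N33496 F84965) (tt N10291 F50099) (tt N40810 (iv3 F102667)) (tt N10288 (iv4 D31797)) (tt N10325 F50100) (tt N41595 D68333) (tt N22887 (iv7 F54591)))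
theorem Q21081 : ∀ i, i < 21081 → P i := stepQ 21080 Q21080 (allL N21080 (tt N41596 D68334) (tt N38378 (iv0 F98148)) (tt N10292 F50101) (tt N32790 (iv3 F307771)) (tt N41595 (iv4 F104513)) (tt N18963 F50102) (tt N10288 (iv6 D31798)) (tt N32822 F305781))
theorem Q21082 : ∀ i, i < 21082 → P i := stepQ 21081 Q21081 (allL N21081 (tt N23277 F79158) (tt N23281 (iv0 F55380)) (tt N36301 (iv2 F94326)) (tt N10289 (iv3 D31799)) (tt N21400 F51167) (tt N10315 F50103) (tt N41597 D68336) (tt N33490 (iv7 F84943)))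
theorem Q21083 : ∀ i, i < 21083 → P i := stepQ 21082 Q21082 (allL N21082 (tt N21228 (iv1 F50372)) (tt N21506 (iv0 F51411)) (tt N33494 (iv2 F84956)) (tt N41598 D68337) (tt N10289 (iv4 D31800)) (tt N33494 (iv5 F84957)) (tt N41599 D68338) (tt N33491 (iv7 F84946)))
theorem Q21084 : ∀ i, i < 21084 → P i := stepQ 21083 Q21083 (allL N21083 (tt N23107 F54990) (tt N29747 (iv0 F130813)) (tt N33495 (iv2 F84961)) (tt N41597 (iv3 F104524)) (tt N41599 (iv4 F104526)) (tt N10619 F50104) (tt N10289 (iv6 D31801)) (tt N36368 (iv7 F130834)))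
theorem Q21085 : ∀ i, i < 21085 → P i := stepQ 21084 Q21084 (allL N21084 (tt N41328 (iv1 F103936)) (tt N29731 F77126) (tt N36289 (iv2 F94300)) (tt N10290 (iv3 D31802)) (tt N21341 (iv4 F51118)) (tt N10314 F50105) (tt N41600 D68341) (tt N33493 (iv7 F84953)))
theorem Q21086 : ∀ i, i < 21086 → P i := stepQ 21085 Q21085 (allL N21085 (tt N21506 (iv1 F51412)) (tt N21228 (iv0 F50373)) (tt N33491 (iv2 F84945)) (tt N41601 D68342) (tt N10290 (iv4 D31803)) (tt N33491 (iv5 F84947)) (tt N41602 D68343) (tt N33494 (iv7 F84958)))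
theorem Q21087 : ∀ i, i < 21087 → P i := stepQ 21086 Q21086 (allL N21086 (tt N36377 F237423) (tt N20390 (iv0 F315610)) (tt N33492 (iv2 F84950)) (tt N41600 (iv3 F104529)) (tt N41602 (iv4 F104531)) (tt N10713 F50106) (tt N10290 (iv6 D31804)) (tt N22704 F315179))
theorem Q21088 : ∀ i, i < 21088 → P i := stepQ 21087 Q21087 (allL N21087 (tt N22887 (iv1 F54593)) (tt N10291 (iv0 D31805)) (tt N33497 F84972) (tt N41603 D68347) (tt N10324 F50107) (tt N33497 (iv5 F84970)) (tt N41604 D68348) (tt N33496 F84967))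
theorem Q21089 : ∀ i, i < 21089 → P i := stepQ 21088 Q21088 (allL N21088 (tt N10291 (iv1 D31806)) (tt N22887 (iv0 F54592)) (tt N33496 F84966) (tt N41605 D68349) (tt N10322 F50108) (tt N33496 (iv5 F84963)) (tt N41606 D68350) (tt N33497 (iv7 F84969)))
theorem Q21090 : ∀ i, i < 21090 → P i := stepQ 21089 Q21089 (allL N21089 (tt N21511 (iv1 F51426)) (tt N11217 (iv0 F50112)) (tt N10325 F50109) (tt N41019 (iv3 F103163)) (tt N10318 F50111) (tt N10291 (iv5 D31807)) (tt N41607 D68351) (tt N10317 F50110))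
theorem Q21091 : ∀ i, i < 21091 → P i := stepQ 21090 Q21090 (allL N21090 (tt N41608 D68352) (tt N41609 D68353) (tt N41595 (iv2 F104512)) (tt N21681 (iv3 F308229)) (tt N10292 F50113) (tt N41610 D68354) (tt N10291 (iv6 D31808)) (tt N41611 D68355))
theorem Q21092 : ∀ i, i < 21092 → P i := stepQ 21091 Q21091 (allL N21091 (tt N32822 (iv1 F305332)) (tt N10292 (iv0 D31809)) (tt N41596 F104514) (tt N41612 D68356) (tt N41613 D68357) (tt N38379 F104184) (tt N41614 D68358) (tt N38378 (iv7 F104185)))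
theorem Q21093 : ∀ i, i < 21093 → P i := stepQ 21092 Q21092 (allL N21092 (tt N10292 (iv1 D31810)) (tt N32822 (iv0 F305331)) (tt N38378 (iv2 F98146)) (tt N41615 D68359) (tt N41616 D68360) (tt N19118 (iv5 F50114)) (tt N23094 F54972) (tt N41596 (iv7 F104516)))
theorem Q21094 : ∀ i, i < 21094 → P i := stepQ 21093 Q21093 (allL N21093 (tt N38378 F98149) (tt N41596 F104517) (tt N32822 F305782) (tt N10296 F50115) (tt N41611 (iv4 F104537)) (tt N21713 (iv5 F306043)) (tt N33501 (iv6 F84976)) (tt N10292 (iv7 D31811)))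
theorem Q21095 : ∀ i, i < 21095 → P i := stepQ 21094 Q21094 (allL N21094 (tt N27497 (iv1 F309270)) (tt N27496 (iv0 F309268)) (tt N13898 (iv2 F309267)) (tt N10293 (iv3 D31813)) (tt N27498 (iv4 F309273)) (tt N21825 F307267) (tt N41617 D68372) (tt N27498 (iv7 F309274)))
theorem Q21096 : ∀ i, i < 21096 → P i := stepQ 21095 Q21095 (allL N21095 (tt N36382 (iv1 F104781)) (tt N40639 (iv0 F317828)) (tt N21842 (iv2 F310982)) (tt N41617 (iv3 F104548)) (tt N10330 (iv4 F311236)) (tt N33597 F85234) (tt N10293 (iv6 D31816)) (tt N41618 D68386))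
theorem Q21097 : ∀ i, i < 21097 → P i := stepQ 21096 Q21096 (allL N21096 (tt N23092 F130808) (tt N29746 (iv0 F94902)) (tt N33570 (iv2 F131103)) (tt N13853 (iv3 F307003)) (tt N21645 (iv4 F307004)) (tt N25206 F199786) (tt N10294 (iv6 D31821)) (tt N36371 (iv7 F131117)))
theorem Q21098 : ∀ i, i < 21098 → P i := stepQ 21097 Q21097 (allL N21097 (tt N29718 (iv1 F77075)) (tt N29707 (iv0 F77026)) (tt N10297 (iv2 D31826)) (tt N32507 (iv3 F83035)) (tt N16295 F50119) (tt N41385 (iv5 F104078)) (tt N32819 (iv6 F83601)) (tt N21243 (iv7 F50392)))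
theorem Q21099 : ∀ i, i < 21099 → P i := stepQ 21098 Q21098 (allL N21098 (tt N21350 (iv1 F51126)) (tt N21324 F51084) (tt N21160 (iv2 F50239)) (tt N21203 (iv3 F50325)) (tt N20970 (iv4 F50631)) (tt N10298 (iv5 D31828)) (tt N41619 D68409) (tt N21304 (iv7 F51048)))
theorem Q21100 : ∀ i, i < 21100 → P i := stepQ 21099 Q21099 (allL N21099 (tt N16299 F50130) (tt N16921 (iv0 F50131)) (tt N16918 F50126) (tt N16886 F50127) (tt N10299 (iv4 D31833)) (tt N41620 D68410) (tt N10648 F50128) (tt N16917 F50129))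
theorem Q21101 : ∀ i, i < 21101 → P i := stepQ 21100 Q21100 (allL N21100 (tt N21324 (iv1 F51085)) (tt N21350 F51127) (tt N21304 (iv2 F51047)) (tt N16887 F50133) (tt N20971 F50515) (tt N10300 (iv5 D31835)) (tt N41621 D68411) (tt N21160 (iv7 F50241)))
theorem Q21102 : ∀ i, i < 21102 → P i := stepQ 21101 Q21101 (allL N21101 (tt N33586 (iv1 F85205)) (tt N33585 F85202) (tt N10304 F50135) (tt N41622 D68412) (tt N10301 (iv4 D31838)) (tt N41623 D68413) (tt N16515 F319878) (tt N33583 (iv7 F85196)))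
theorem Q21103 : ∀ i, i < 21103 → P i := stepQ 21102 Q21102 (allL N21102 (tt N41624 D68415) (tt N41625 D68416) (tt N10305 F50136) (tt N10312 F50137) (tt N16515 F318013) (tt N10305 F50138) (tt N10301 (iv6 D31839)) (tt N41626 D68417))
theorem Q21104 : ∀ i, i < 21104 → P i := stepQ 21103 Q21103 (allL N21103 (tt N29720 (iv1 F104011)) (tt N36288 (iv0 F94299)) (tt N41627 D68418) (tt N10302 (iv3 D31840)) (tt N21258 F50665) (tt N16842 (iv5 F50407)) (tt N41628 D68419) (tt N20946 (iv7 F50619)))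
theorem Q21105 : ∀ i, i < 21105 → P i := stepQ 21104 Q21104 (allL N21104 (tt N21307 (iv1 F51059)) (tt N41629 D68420) (tt N20958 F50621) (tt N41630 D68421) (tt N10302 (iv4 D31841)) (tt N41631 D68422) (tt N41632 D68423) (tt N20952 (iv7 F50620)))
theorem Q21106 : ∀ i, i < 21106 → P i := stepQ 21105 Q21105 (allL N21105 (tt N35492 (iv1 F155202)) (tt N41633 D68425) (tt N20959 (iv2 F50622)) (tt N41628 (iv3 F104600)) (tt N41632 (iv4 F104610)) (tt N10657 F50140) (tt N10302 (iv6 D31842)) (tt N41634 D68426))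
theorem Q21107 : ∀ i, i < 21107 → P i := stepQ 21106 Q21106 (allL N21106 (tt N32508 (iv1 F84933)) (tt N32515 F84934) (tt N36285 F94295) (tt N10303 (iv3 D31843)) (tt N41635 D68427) (tt N16843 F50613) (tt N41636 D68428) (tt N20956 (iv7 F50611)))
theorem Q21108 : ∀ i, i < 21108 → P i := stepQ 21107 Q21107 (allL N21107 (tt N41629 (iv1 F104602)) (tt N21307 F51060) (tt N20952 (iv2 F50614)) (tt N41637 D68429) (tt N10303 (iv4 D31844)) (tt N41638 D68430) (tt N41639 D68431) (tt N20958 (iv7 F50612)))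
theorem Q21109 : ∀ i, i < 21109 → P i := stepQ 21108 Q21108 (allL N21108 (tt N36645 (iv1 F184741)) (tt N41640 D68433) (tt N20953 (iv2 F50615)) (tt N41636 (iv3 F104622)) (tt N41639 (iv4 F104627)) (tt N37564 (iv5 F96269)) (tt N10303 (iv6 D31845)) (tt N41641 D68434))
theorem Q21110 : ∀ i, i < 21110 → P i := stepQ 21109 Q21109 (allL N21109 (tt N33583 (iv1 F85198)) (tt N10304 (iv0 D31846)) (tt N33586 F85208) (tt N41642 D68435) (tt N23287 (iv4 F55402)) (tt N41643 D68436) (tt N41644 D68437) (tt N33585 F85204))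
theorem Q21111 : ∀ i, i < 21111 → P i := stepQ 21110 Q21110 (allL N21110 (tt N10304 (iv1 D31847)) (tt N33583 (iv0 F85197)) (tt N33585 F85203) (tt N41645 D68438) (tt N33563 F85136) (tt N41646 D68439) (tt N41647 D68440) (tt N33586 (iv7 F85206)))
theorem Q21112 : ∀ i, i < 21112 → P i := stepQ 21111 Q21111 (allL N21111 (tt N41399 (iv1 F104091)) (tt N41401 (iv0 F104093)) (tt N41623 (iv2 F104583)) (tt N40878 (iv3 F102899)) (tt N41648 D68441) (tt N10304 (iv5 D31848)) (tt N41649 D68442) (tt N33587 (iv7 F85209)))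
theorem Q21113 : ∀ i, i < 21113 → P i := stepQ 21112 Q21112 (allL N21112 (tt N16501 F318014) (tt N16516 F318015) (tt N16515 F318016) (tt N40879 (iv3 F102900)) (tt N10305 F50141) (tt N41650 D68445) (tt N10304 (iv6 D31849)) (tt N16514 F318017))
theorem Q21114 : ∀ i, i < 21114 → P i := stepQ 21113 Q21113 (allL N21113 (tt N41626 (iv1 F104593)) (tt N10305 (iv0 D31850)) (tt N41624 (iv2 F264331)) (tt N41651 D68448) (tt N34074 (iv4 F313959)) (tt N41652 D68450) (tt N34073 F311528) (tt N41625 F264330))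
theorem Q21115 : ∀ i, i < 21115 → P i := stepQ 21114 Q21114 (allL N21114 (tt N10305 (iv1 D31851)) (tt N41626 F104592) (tt N41625 F264324) (tt N41653 D68453) (tt N41654 D68454) (tt N41411 (iv5 F104105)) (tt N41655 D68455) (tt N41624 (iv7 F264332)))
theorem Q21116 : ∀ i, i < 21116 → P i := stepQ 21115 Q21115 (allL N21115 (tt N41625 (iv1 F104587)) (tt N41624 F104591) (tt N41626 (iv2 F104588)) (tt N10313 F50142) (tt N16514 (iv4 F317666)) (tt N41626 (iv5 F104590)) (tt N33592 (iv6 F85215)) (tt N10305 (iv7 D31852)))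
theorem Q21117 : ∀ i, i < 21117 → P i := stepQ 21116 Q21116 (allL N21116 (tt N41656 D68456) (tt N21282 (iv0 F50983)) (tt N36292 (iv2 F94307)) (tt N40226 (iv3 F101375)) (tt N10306 (iv4 D31856)) (tt N41657 D68457) (tt N41658 D68458) (tt N20925 F50154))
theorem Q21118 : ∀ i, i < 21118 → P i := stepQ 21117 Q21117 (allL N21117 (tt N41659 D68459) (tt N41660 D68460) (tt N36293 (iv2 F94310)) (tt N10307 F50155) (tt N41658 (iv4 F104659)) (tt N21705 (iv5 F51754)) (tt N10306 (iv6 D31857)) (tt N41661 D68461))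
theorem Q21119 : ∀ i, i < 21119 → P i := stepQ 21118 Q21118 (allL N21118 (tt N20943 (iv1 F50159)) (tt N10307 (iv0 D31858)) (tt N20941 (iv2 F199824)) (tt N12499 (iv3 F199875)) (tt N40829 (iv4 F107425)) (tt N12498 F199845) (tt N41662 D68466) (tt N20942 F199846))
theorem Q21120 : ∀ i, i < 21120 → P i := stepQ 21119 Q21119 (allL N21119 (tt N10307 (iv1 D31859)) (tt N20943 F50156) (tt N20942 (iv2 F199830)) (tt N41633 (iv3 F199807)) (tt N40830 (iv4 F107426)) (tt N25204 F199766) (tt N20580 (iv6 F311165)) (tt N20941 (iv7 F199825)))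
theorem Q21121 : ∀ i, i < 21121 → P i := stepQ 21120 Q21120 (allL N21120 (tt N20942 (iv1 F50160)) (tt N20941 F50161) (tt N20943 F50157) (tt N41661 (iv3 F104660)) (tt N40234 (iv4 F101380)) (tt N21709 (iv5 F51756)) (tt N20929 F50158) (tt N10307 (iv7 D31860)))
theorem Q21122 : ∀ i, i < 21122 → P i := stepQ 21121 Q21121 (allL N21121 (tt N20939 (iv1 F50168)) (tt N20938 F50166) (tt N10308 (iv2 D31863)) (tt N20924 F50163) (tt N41663 D68472) (tt N16111 F50164) (tt N41664 D68473) (tt N20934 F50165))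
theorem Q21123 : ∀ i, i < 21123 → P i := stepQ 21122 Q21122 (allL N21122 (tt N21204 F50326) (tt N41665 D68474) (tt N41663 (iv2 F104665)) (tt N20582 (iv3 F319608)) (tt N10308 (iv4 D31864)) (tt N20569 F319212) (tt N36639 (iv6 F320099)) (tt N20568 (iv7 F320819)))
theorem Q21124 : ∀ i, i < 21124 → P i := stepQ 21123 Q21123 (allL N21123 (tt N29802 F307927) (tt N41666 D68478) (tt N41664 (iv2 F104669)) (tt N10309 F50170) (tt N36639 (iv4 F320098)) (tt N19501 F50171) (tt N10308 (iv6 D31865)) (tt N41667 D68479))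
theorem Q21125 : ∀ i, i < 21125 → P i := stepQ 21124 Q21124 (allL N21124 (tt N10309 (iv1 D31866)) (tt N20929 F50172) (tt N20928 (iv2 F50174)) (tt N41668 D68480) (tt N11498 (iv4 F311231)) (tt N38337 (iv5 F98020)) (tt N10592 F309092) (tt N20927 F50173))
theorem Q21126 : ∀ i, i < 21126 → P i := stepQ 21125 Q21125 (allL N21125 (tt N20928 (iv1 F50179)) (tt N20927 F50180) (tt N20929 F50176) (tt N41667 (iv3 F104678)) (tt N33833 (iv4 F314038)) (tt N19504 F50177) (tt N20943 F50178) (tt N10309 (iv7 D31867)))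
theorem Q21127 : ∀ i, i < 21127 → P i := stepQ 21126 Q21126 (allL N21126 (tt N23096 F77156) (tt N41669 D68500) (tt N33576 (iv2 F131518)) (tt N35296 (iv3 F311064)) (tt N35330 (iv4 F311066)) (tt N10310 (iv5 D31871)) (tt N33821 F308907) (tt N33578 (iv7 F131511)))
theorem Q21128 : ∀ i, i < 21128 → P i := stepQ 21127 Q21127 (allL N21127 (tt N29716 F243110) (tt N41670 D68507) (tt N41671 D68508) (tt N10311 (iv3 D31874)) (tt N41672 D68509) (tt N41673 D68510) (tt N41672 F319873) (tt N33575 (iv7 F131515)))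
theorem Q21129 : ∀ i, i < 21129 → P i := stepQ 21128 Q21128 (allL N21128 (tt N41669 (iv1 F104701)) (tt N23096 (iv0 F54974)) (tt N33578 (iv2 F131510)) (tt N41673 (iv3 F104710)) (tt N12412 (iv4 F315540)) (tt N10311 (iv5 D31876)) (tt N33499 (iv6 F84974)) (tt N33576 (iv7 F131519)))
theorem Q21130 : ∀ i, i < 21130 → P i := stepQ 21129 Q21129 (allL N21129 (tt N41674 D68516) (tt N41662 (iv0 F114315)) (tt N33579 (iv2 F131505)) (tt N41672 F317960) (tt N33829 F313260) (tt N41675 D68518) (tt N10311 (iv6 D31877)) (tt N33828 F313261))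
theorem Q21131 : ∀ i, i < 21131 → P i := stepQ 21130 Q21130 (allL N21130 (tt N33574 (iv1 F85181)) (tt N10312 (iv0 D31878)) (tt N33572 (iv2 F182749)) (tt N41676 D68521) (tt N41677 D68522) (tt N36376 (iv5 F94461)) (tt N41678 D68523) (tt N33573 (iv7 F182736)))
theorem Q21132 : ∀ i, i < 21132 → P i := stepQ 21131 Q21131 (allL N21131 (tt N10312 (iv1 D31879)) (tt N33574 F85180) (tt N33573 (iv2 F182735)) (tt N41679 D68525) (tt N41680 D68526) (tt N33503 (iv5 F84978)) (tt N40197 F319651) (tt N33572 (iv7 F182750)))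
theorem Q21133 : ∀ i, i < 21133 → P i := stepQ 21132 Q21132 (allL N21132 (tt N41681 D68528) (tt N41682 D68529) (tt N33571 (iv2 F85171)) (tt N41683 D68530) (tt N10312 (iv4 D31880)) (tt N11874 (iv5 F319411)) (tt N10317 F50184) (tt N34744 F317873))
theorem Q21134 : ∀ i, i < 21134 → P i := stepQ 21133 Q21133 (allL N21133 (tt N33573 (iv1 F85173)) (tt N33572 F85179) (tt N33574 (iv2 F85175)) (tt N41626 (iv3 F104589)) (tt N34744 (iv4 F317770)) (tt N10313 F50185) (tt N41684 D68533) (tt N10312 (iv7 D31881)))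
theorem Q21135 : ∀ i, i < 21135 → P i := stepQ 21134 Q21134 (allL N21134 (tt N29717 F77072) (tt N36302 (iv0 F94331)) (tt N36305 F94342) (tt N10316 (iv3 D31885)) (tt N21195 F50319) (tt N11458 F50186) (tt N41685 D68534) (tt N11457 F50187))
theorem Q21136 : ∀ i, i < 21136 → P i := stepQ 21135 Q21135 (allL N21135 (tt N16885 F50191) (tt N21229 F50375) (tt N21077 F50188) (tt N41686 D68535) (tt N10316 (iv4 D31886)) (tt N10509 F50190) (tt N41687 D68536) (tt N11459 F50189))
theorem Q21137 : ∀ i, i < 21137 → P i := stepQ 21136 Q21136 (allL N21136 (tt N41688 D68537) (tt N41668 (iv0 F110531)) (tt N21078 F50192) (tt N41685 (iv3 F104728)) (tt N41687 (iv4 F104733)) (tt N15259 F50193) (tt N10316 (iv6 D31887)) (tt N41689 D68539))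
theorem Q21138 : ∀ i, i < 21138 → P i := stepQ 21137 Q21137 (allL N21137 (tt N10317 (iv1 D31888)) (tt N10325 F50194) (tt N21511 (iv2 F51422)) (tt N41690 D68540) (tt N10362 F50197) (tt N10493 F50196) (tt N41691 D68541) (tt N11217 F50195))
theorem Q21139 : ∀ i, i < 21139 → P i := stepQ 21138 Q21138 (allL N21138 (tt N41692 D68542) (tt N41693 D68543) (tt N41694 D68544) (tt N10317 (iv3 D31889)) (tt N41622 (iv4 F104582)) (tt N33452 F84825) (tt N41683 (iv6 F104722)) (tt N41019 (iv7 F103164)))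
theorem Q21140 : ∀ i, i < 21140 → P i := stepQ 21139 Q21139 (allL N21139 (tt N41695 D68545) (tt N41696 D68546) (tt N10326 F50198) (tt N33584 (iv3 F85200)) (tt N41607 (iv4 F104536)) (tt N21645 (iv5 F51627)) (tt N10318 (iv6 D31890)) (tt N41684 (iv7 F104725)))
theorem Q21141 : ∀ i, i < 21141 → P i := stepQ 21140 Q21140 (allL N21140 (tt N23195 (iv1 F55171)) (tt N23192 (iv0 F55157)) (tt N32477 (iv2 F82913)) (tt N33599 (iv3 F85241)) (tt N41697 D68547) (tt N10321 (iv5 D31891)) (tt N41698 D68548) (tt N32478 (iv7 F82917)))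
theorem Q21142 : ∀ i, i < 21142 → P i := stepQ 21141 Q21141 (allL N21141 (tt N40192 F315529) (tt N31112 F315530) (tt N33580 (iv2 F85186)) (tt N33601 (iv3 F85246)) (tt N41606 (iv4 F104534)) (tt N10727 F50199) (tt N10322 (iv6 D31892)) (tt N20271 F315531))
theorem Q21143 : ∀ i, i < 21143 → P i := stepQ 21142 Q21142 (allL N21142 (tt N10419 (iv1 F50955)) (tt N22868 (iv0 F54556)) (tt N21286 (iv2 F50724)) (tt N10324 F50200) (tt N27311 F318885) (tt N10323 (iv5 D31893)) (tt N41699 D68552) (tt N21284 (iv7 F50717)))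
theorem Q21144 : ∀ i, i < 21144 → P i := stepQ 21143 Q21143 (allL N21143 (tt N23071 F54943) (tt N33743 (iv0 F130895)) (tt N33581 (iv2 F85188)) (tt N41699 (iv3 F104750)) (tt N41604 (iv4 F104533)) (tt N11800 F50201) (tt N10324 (iv6 D31894)) (tt N41700 D68554))
theorem Q21145 : ∀ i, i < 21145 → P i := stepQ 21144 Q21144 (allL N21144 (tt N41701 D68555) (tt N37074 (iv0 F316143)) (tt N41607 (iv2 F104535)) (tt N40811 (iv3 F102668)) (tt N10326 F50202) (tt N41702 D68557) (tt N10325 (iv6 D31895)) (tt N41703 D68558))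
theorem Q21146 : ∀ i, i < 21146 → P i := stepQ 21145 Q21145 (allL N21145 (tt N41684 (iv1 F104727)) (tt N10326 (iv0 D31896)) (tt N41695 (iv2 F131556)) (tt N41704 D68560) (tt N24815 F317749) (tt N36217 F321283) (tt N36219 F321284) (tt N41696 (iv7 F131559)))
theorem Q21147 : ∀ i, i < 21147 → P i := stepQ 21146 Q21146 (allL N21146 (tt N10326 (iv1 D31897)) (tt N41684 F104726) (tt N41696 (iv2 F131558)) (tt N41705 D68565) (tt N38013 F317175) (tt N40232 (iv5 F313183)) (tt N36636 (iv6 F110548)) (tt N41695 (iv7 F131557)))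
theorem Q21148 : ∀ i, i < 21148 → P i := stepQ 21147 Q21147 (allL N21147 (tt N21634 F51608) (tt N21447 (iv0 F308777)) (tt N21645 (iv2 F51626)) (tt N10330 F50203) (tt N33570 F307002) (tt N10326 (iv5 D31898)) (tt N10327 F50204) (tt N41706 D68571))
theorem Q21149 : ∀ i, i < 21149 → P i := stepQ 21148 Q21148 (allL N21148 (tt N41696 (iv1 F104747)) (tt N41695 F104746) (tt N41684 (iv2 F104724)) (tt N10331 F50205) (tt N41703 (iv4 F104754)) (tt N41706 (iv5 F104763)) (tt N33574 (iv6 F85178)) (tt N10326 (iv7 D31899)))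
theorem Q21150 : ∀ i, i < 21150 → P i := stepQ 21149 Q21149 (allL N21149 (tt N41707 D68572) (tt N29726 (iv0 F243393)) (tt N41708 D68574) (tt N10328 (iv3 D31902)) (tt N20940 (iv4 F321732)) (tt N20565 (iv5 F319542)) (tt N20568 F317929) (tt N33595 (iv7 F85227)))
theorem Q21151 : ∀ i, i < 21151 → P i := stepQ 21150 Q21150 (allL N21150 (tt N20576 (iv1 F110679)) (tt N16716 F110676) (tt N20574 (iv2 F105861)) (tt N20573 (iv3 F319714)) (tt N10328 (iv4 D31903)) (tt N41709 D68581) (tt N20572 F317431) (tt N20575 F105860))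
theorem Q21152 : ∀ i, i < 21152 → P i := stepQ 21151 Q21151 (allL N21151 (tt N36300 (iv1 F188389)) (tt N36315 (iv0 F188392)) (tt N36313 F204935) (tt N10329 (iv3 D31907)) (tt N41710 D68592) (tt N41711 D68593) (tt N36603 (iv6 F188355)) (tt N33594 (iv7 F85220)))
theorem Q21153 : ∀ i, i < 21153 → P i := stepQ 21152 Q21152 (allL N21152 (tt N16716 F110677) (tt N20576 (iv0 F110678)) (tt N20575 F105857) (tt N41712 D68594) (tt N10329 (iv4 D31908)) (tt N41713 D68595) (tt N22511 F53275) (tt N20574 (iv7 F105862)))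
theorem Q21154 : ∀ i, i < 21154 → P i := stepQ 21153 Q21153 (allL N21153 (tt N20575 F317415) (tt N20574 F317416) (tt N20576 F317417) (tt N41711 (iv3 F104797)) (tt N16910 F317418) (tt N10329 (iv5 D31909)) (tt N10572 (iv6 F50214)) (tt N16716 F317419))
theorem Q21155 : ∀ i, i < 21155 → P i := stepQ 21154 Q21154 (allL N21154 (tt N33598 (iv1 F85239)) (tt N10330 (iv0 D31911)) (tt N33596 (iv2 F131082)) (tt N41714 D68598) (tt N21469 (iv4 F312724)) (tt N41618 (iv5 F131077)) (tt N21467 F312714) (tt N33597 (iv7 F131080)))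
theorem Q21156 : ∀ i, i < 21156 → P i := stepQ 21155 Q21155 (allL N21155 (tt N10330 (iv1 D31912)) (tt N33598 F85238) (tt N33597 (iv2 F131079)) (tt N24307 F309244) (tt N40834 F315213) (tt N21842 (iv5 F310983)) (tt N21845 F309245) (tt N33596 (iv7 F131083)))
theorem Q21157 : ∀ i, i < 21157 → P i := stepQ 21156 Q21156 (allL N21156 (tt N33597 (iv1 F85233)) (tt N33596 F85237) (tt N33598 (iv2 F85235)) (tt N41706 (iv3 F104762)) (tt N41618 F310942) (tt N10331 F50216) (tt N41706 (iv6 F104764)) (tt N10330 (iv7 D31914)))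
theorem Q21158 : ∀ i, i < 21158 → P i := stepQ 21157 Q21157 (allL N21157 (tt N19474 (iv1 F50222)) (tt N19473 F50220) (tt N10332 (iv2 D31917)) (tt N23901 (iv3 F56720)) (tt N21970 (iv4 F52296)) (tt N33831 (iv5 F85786)) (tt N19491 F50218) (tt N19466 F50219))
theorem Q21159 : ∀ i, i < 21159 → P i := stepQ 21158 Q21158 (allL N21158 (tt N16898 F50226) (tt N13449 F50228) (tt N21970 (iv2 F52294)) (tt N11789 F50223) (tt N10332 (iv4 D31918)) (tt N13598 (iv5 F50227)) (tt N19492 F50224) (tt N19468 F50225))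
theorem Q21160 : ∀ i, i < 21160 → P i := stepQ 21159 Q21159 (allL N21159 (tt N10414 (iv1 F54025)) (tt N10403 (iv0 F54026)) (tt N10333 (iv2 D31922)) (tt N10381 F50233) (tt N23901 (iv4 F56721)) (tt N22850 (iv5 F54533)) (tt N10861 F53994) (tt N10412 F53995))
theorem Q21161 : ∀ i, i < 21161 → P i := stepQ 21160 Q21160 (allL N21160 (tt N10422 (iv1 F51050)) (tt N41715 D68611) (tt N21098 F50239) (tt N10336 F50240) (tt N32727 (iv4 F316010)) (tt N10334 (iv5 D31923)) (tt N41716 D68612) (tt N21100 F50241))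
theorem Q21162 : ∀ i, i < 21162 → P i := stepQ 21161 Q21161 (allL N21161 (tt N10895 (iv1 F50776)) (tt N10900 (iv0 F51003)) (tt N10898 (iv2 F50998)) (tt N10337 F50243) (tt N16860 F50244) (tt N41717 D68613) (tt N10334 (iv6 D31924)) (tt N10729 F50245))
theorem Q21163 : ∀ i, i < 21163 → P i := stepQ 21162 Q21162 (allL N21162 (tt N10335 (iv1 D31925)) (tt N10339 F50247) (tt N29712 F77059) (tt N29867 (iv3 F77488)) (tt N29709 (iv4 F77039)) (tt N41718 D68614) (tt N29708 F77041) (tt N29870 (iv7 F77498)))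
theorem Q21164 : ∀ i, i < 21164 → P i := stepQ 21163 Q21163 (allL N21163 (tt N41719 D68615) (tt N41720 D68616) (tt N33631 (iv2 F85308)) (tt N33668 (iv3 F85420)) (tt N41721 D68617) (tt N10335 (iv5 D31926)) (tt N41721 F335899) (tt N33627 (iv7 F85295)))
theorem Q21165 : ∀ i, i < 21165 → P i := stepQ 21164 Q21164 (allL N21164 (tt N23141 F55051) (tt N29773 F77258) (tt N29771 (iv2 F77253)) (tt N10819 F50250) (tt N10337 F50248) (tt N41722 D68619) (tt N10335 (iv6 D31927)) (tt N10732 F50249))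
theorem Q21166 : ∀ i, i < 21166 → P i := stepQ 21165 Q21165 (allL N21165 (tt N36326 (iv1 F94387)) (tt N41723 D68620) (tt N33632 (iv2 F85310)) (tt N16461 (iv3 F316576)) (tt N10336 (iv4 D31930)) (tt N41724 D68622) (tt N41725 D68623) (tt N33628 (iv7 F85297)))
theorem Q21167 : ∀ i, i < 21167 → P i := stepQ 21166 Q21166 (allL N21166 (tt N41726 D68624) (tt N33808 F326376) (tt N33633 (iv2 F85312)) (tt N41716 (iv3 F104813)) (tt N41725 (iv4 F104825)) (tt N41727 D68626) (tt N10336 (iv6 D31931)) (tt N41728 D68627))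
theorem Q21168 : ∀ i, i < 21168 → P i := stepQ 21167 Q21167 (allL N21167 (tt N33984 (iv1 F86408)) (tt N11032 (iv0 F50500)) (tt N33634 (iv2 F85313)) (tt N41717 (iv3 F104815)) (tt N41729 D68628) (tt N10337 (iv5 D31932)) (tt N41727 (iv6 F104826)) (tt N10736 F50258))
theorem Q21169 : ∀ i, i < 21169 → P i := stepQ 21168 Q21168 (allL N21168 (tt N29708 F77032) (tt N29714 F77065) (tt N29711 (iv2 F77051)) (tt N26482 (iv3 F65298)) (tt N10338 (iv4 D31933)) (tt N41730 D68629) (tt N10737 F50259) (tt N29710 F77046))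
theorem Q21170 : ∀ i, i < 21170 → P i := stepQ 21169 Q21169 (allL N21169 (tt N22879 (iv1 F85305)) (tt N33694 F85461) (tt N33664 (iv2 F85406)) (tt N10340 F50260) (tt N41731 D68630) (tt N10338 (iv5 D31934)) (tt N41732 D68631) (tt N33630 (iv7 F85302)))
theorem Q21171 : ∀ i, i < 21171 → P i := stepQ 21170 Q21170 (allL N21170 (tt N41720 (iv1 F104819)) (tt N41719 F104818) (tt N33627 (iv2 F85294)) (tt N32453 F82872) (tt N41733 D68632) (tt N10339 (iv5 D31935)) (tt N41734 D68633) (tt N33631 (iv7 F85309)))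
theorem Q21172 : ∀ i, i < 21172 → P i := stepQ 21171 Q21171 (allL N21171 (tt N41723 (iv1 F104824)) (tt N36326 (iv0 F94386)) (tt N33628 (iv2 F85296)) (tt N41735 D68634) (tt N10340 (iv4 D31936)) (tt N41736 D68635) (tt N41737 D68636) (tt N33632 (iv7 F85311)))
theorem Q21173 : ∀ i, i < 21173 → P i := stepQ 21172 Q21172 (allL N21172 (tt N10458 F232233) (tt N33798 (iv0 F232234)) (tt N33629 (iv2 F85298)) (tt N41732 (iv3 F104828)) (tt N41737 (iv4 F104832)) (tt N10741 F50261) (tt N10340 (iv6 D31937)) (tt N33797 (iv7 F232235)))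
theorem Q21174 : ∀ i, i < 21174 → P i := stepQ 21173 Q21173 (allL N21173 (tt N16319 (iv1 F50264)) (tt N16318 F50265) (tt N14717 F50262) (tt N10341 (iv3 D31938)) (tt N26515 (iv4 F65425)) (tt N41738 D68640) (tt N26923 (iv6 F68253)) (tt N13238 F50263))
theorem Q21175 : ∀ i, i < 21175 → P i := stepQ 21174 Q21174 (allL N21174 (tt N23208 F55204) (tt N33640 F85341) (tt N10345 F50266) (tt N41738 (iv3 F104835)) (tt N41739 D68641) (tt N10341 (iv5 D31939)) (tt N41740 D68642) (tt N33635 (iv7 F85321)))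
theorem Q21176 : ∀ i, i < 21176 → P i := stepQ 21175 Q21175 (allL N21175 (tt N23283 (iv1 F55383)) (tt N33647 F85358) (tt N10349 F50267) (tt N41741 D68643) (tt N10342 (iv4 D31940)) (tt N41742 D68644) (tt N41743 D68645) (tt N33636 (iv7 F85325)))
theorem Q21177 : ∀ i, i < 21177 → P i := stepQ 21176 Q21176 (allL N21176 (tt N41744 D68646) (tt N41745 D68647) (tt N10350 F50268) (tt N33606 (iv3 F85259)) (tt N41743 (iv4 F104843)) (tt N33667 (iv5 F85419)) (tt N10342 (iv6 D31941)) (tt N41746 D68648))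
theorem Q21178 : ∀ i, i < 21178 → P i := stepQ 21177 Q21177 (allL N21177 (tt N18430 (iv1 F54333)) (tt N14817 (iv0 F50927)) (tt N16849 F50269) (tt N18421 F50270) (tt N10343 (iv4 D31942)) (tt N41747 D68649) (tt N14854 (iv6 F50898)) (tt N18429 F50271))
theorem Q21179 : ∀ i, i < 21179 → P i := stepQ 21178 Q21178 (allL N21178 (tt N41748 D68650) (tt N16340 (iv0 F50281)) (tt N33639 (iv2 F85335)) (tt N21235 (iv3 F50381)) (tt N41749 D68651) (tt N10343 (iv5 D31943)) (tt N41750 D68652) (tt N33638 (iv7 F85332)))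
theorem Q21180 : ∀ i, i < 21180 → P i := stepQ 21179 Q21179 (allL N21179 (tt N14750 (iv1 F50279)) (tt N11024 F50280) (tt N16435 F50275) (tt N16495 (iv3 F50903)) (tt N14854 (iv4 F50897)) (tt N41751 D68653) (tt N10343 (iv6 D31944)) (tt N10752 F50278))
theorem Q21181 : ∀ i, i < 21181 → P i := stepQ 21180 Q21180 (allL N21180 (tt N14719 (iv1 F50288)) (tt N16317 F50289) (tt N16307 F50284) (tt N10344 (iv3 D31945)) (tt N11507 F50285) (tt N41752 D68654) (tt N10753 F50286) (tt N16306 F50287))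
theorem Q21182 : ∀ i, i < 21182 → P i := stepQ 21181 Q21181 (allL N21181 (tt N16340 (iv1 F50545)) (tt N41748 F104857) (tt N33638 (iv2 F85330)) (tt N41752 (iv3 F104865)) (tt N41753 D68655) (tt N10344 (iv5 D31946)) (tt N41754 D68656) (tt N33639 (iv7 F85337)))
theorem Q21183 : ∀ i, i < 21183 → P i := stepQ 21182 Q21182 (allL N21182 (tt N33635 (iv1 F85322)) (tt N10345 (iv0 D31947)) (tt N23208 (iv2 F55201)) (tt N41755 D68657) (tt N41756 D68658) (tt N23204 F55188) (tt N41757 D68659) (tt N33640 (iv7 F85342)))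
theorem Q21184 : ∀ i, i < 21184 → P i := stepQ 21183 Q21183 (allL N21183 (tt N10345 (iv1 D31948)) (tt N33635 F85323) (tt N33640 F85340) (tt N23216 (iv3 F55227)) (tt N41758 D68660) (tt N23209 (iv5 F55209)) (tt N41759 D68661) (tt N23208 F55205))
theorem Q21185 : ∀ i, i < 21185 → P i := stepQ 21184 Q21184 (allL N21184 (tt N39027 F327872) (tt N41760 D68663) (tt N41739 (iv2 F104839)) (tt N41761 D68664) (tt N10345 (iv4 D31949)) (tt N41762 D68665) (tt N41763 D68666) (tt N33641 (iv7 F85344)))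
theorem Q21186 : ∀ i, i < 21186 → P i := stepQ 21185 Q21185 (allL N21185 (tt N38991 F323478) (tt N41764 D68668) (tt N41740 (iv2 F104840)) (tt N16315 F50290) (tt N41763 (iv4 F104876)) (tt N41765 D68669) (tt N10345 (iv6 D31950)) (tt N41766 D68670))
theorem Q21187 : ∀ i, i < 21187 → P i := stepQ 21186 Q21186 (allL N21186 (tt N14722 (iv1 F50295)) (tt N10346 (iv0 D31951)) (tt N14725 (iv2 F50293)) (tt N16322 F50292) (tt N14812 F50291) (tt N41767 D68671) (tt N22133 (iv6 F52512)) (tt N14723 F50294))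
theorem Q21188 : ∀ i, i < 21188 → P i := stepQ 21187 Q21187 (allL N21187 (tt N23219 (iv1 F55237)) (tt N32054 (iv0 F82181)) (tt N33665 (iv2 F85412)) (tt N16316 F50296) (tt N41768 D68672) (tt N10346 (iv5 D31952)) (tt N41765 (iv6 F104878)) (tt N41342 (iv7 F103980)))
theorem Q21189 : ∀ i, i < 21189 → P i := stepQ 21188 Q21188 (allL N21188 (tt N14723 (iv1 F50300)) (tt N14725 F50301) (tt N14722 F50297) (tt N16317 F50298) (tt N10353 F50299) (tt N41342 (iv5 F103977)) (tt N26913 (iv6 F68225)) (tt N10346 (iv7 D31953)))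
theorem Q21190 : ∀ i, i < 21190 → P i := stepQ 21189 Q21189 (allL N21189 (tt N36306 (iv1 F94346)) (tt N41769 D68673) (tt N33645 (iv2 F85352)) (tt N41770 D68674) (tt N10347 (iv4 D31956)) (tt N41771 D68675) (tt N41772 D68676) (tt N33643 (iv7 F85349)))
theorem Q21191 : ∀ i, i < 21191 → P i := stepQ 21190 Q21190 (allL N21190 (tt N38322 (iv1 F311692)) (tt N41773 D68678) (tt N33646 (iv2 F85354)) (tt N41373 (iv3 F104050)) (tt N41772 (iv4 F104887)) (tt N34067 (iv5 F86656)) (tt N10347 (iv6 D31958)) (tt N41774 D68679))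
theorem Q21192 : ∀ i, i < 21192 → P i := stepQ 21191 Q21191 (allL N21191 (tt N10352 (iv1 F50316)) (tt N23302 F55450) (tt N23304 (iv2 F55451)) (tt N10348 (iv3 D31959)) (tt N41775 D68680) (tt N17540 (iv5 F50315)) (tt N41776 D68681) (tt N17539 F50314))
theorem Q21193 : ∀ i, i < 21193 → P i := stepQ 21192 Q21192 (allL N21192 (tt N41769 (iv1 F104885)) (tt N36306 (iv0 F94345)) (tt N33643 (iv2 F85348)) (tt N41777 D68682) (tt N10348 (iv4 D31960)) (tt N41778 D68683) (tt N41779 D68684) (tt N33645 (iv7 F85353)))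
theorem Q21194 : ∀ i, i < 21194 → P i := stepQ 21193 Q21193 (allL N21193 (tt N34353 F232476) (tt N41780 D68686) (tt N33644 (iv2 F85350)) (tt N41776 (iv3 F104891)) (tt N41779 (iv4 F104892)) (tt N41781 D68687) (tt N10348 (iv6 D31962)) (tt N41782 D68688))
theorem Q21195 : ∀ i, i < 21195 → P i := stepQ 21194 Q21194 (allL N21194 (tt N33636 (iv1 F85327)) (tt N10349 (iv0 D31963)) (tt N23283 (iv2 F55381)) (tt N41783 D68689) (tt N23274 (iv4 F55364)) (tt N41784 D68690) (tt N41785 D68691) (tt N33647 (iv7 F85359)))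
theorem Q21196 : ∀ i, i < 21196 → P i := stepQ 21195 Q21195 (allL N21195 (tt N10349 (iv1 D31964)) (tt N33636 (iv0 F85326)) (tt N33647 F85357) (tt N41786 D68692) (tt N21134 (iv4 F50319)) (tt N41787 D68693) (tt N41788 D68694) (tt N23283 (iv7 F55382)))
theorem Q21197 : ∀ i, i < 21197 → P i := stepQ 21196 Q21196 (allL N21196 (tt N41789 D68695) (tt N41790 D68696) (tt N41742 (iv2 F104841)) (tt N40747 (iv3 F102566)) (tt N41791 D68697) (tt N10349 (iv5 D31965)) (tt N41792 D68698) (tt N33648 (iv7 F85360)))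
theorem Q21198 : ∀ i, i < 21198 → P i := stepQ 21197 Q21197 (allL N21197 (tt N41793 D68699) (tt N41794 D68700) (tt N41743 (iv2 F104842)) (tt N40748 (iv3 F102567)) (tt N10350 F50320) (tt N41795 D68701) (tt N10349 (iv6 D31966)) (tt N41796 D68702))
theorem Q21199 : ∀ i, i < 21199 → P i := stepQ 21198 Q21198 (allL N21198 (tt N41746 (iv1 F104848)) (tt N10350 (iv0 D31967)) (tt N41744 (iv2 F247773)) (tt N16512 (iv3 F313001)) (tt N16530 (iv4 F315370)) (tt N41797 D68706) (tt N16510 F312977) (tt N41745 F247772))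
theorem Q21200 : ∀ i, i < 21200 → P i := stepQ 21199 Q21199 (allL N21199 (tt N10350 (iv1 D31968)) (tt N41746 F104847) (tt N41745 F247765) (tt N41798 D68709) (tt N41799 D68710) (tt N41800 D68711) (tt N41801 D68712) (tt N41744 (iv7 F247774)))
theorem Q21201 : ∀ i, i < 21201 → P i := stepQ 21200 Q21200 (allL N21200 (tt N41802 D68713) (tt N41798 F247807) (tt N33667 (iv2 F85417)) (tt N10360 F50321) (tt N41803 D68715) (tt N10350 (iv5 D31969)) (tt N10352 F50322) (tt N41804 D68716))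
theorem Q21202 : ∀ i, i < 21202 → P i := stepQ 21201 Q21201 (allL N21201 (tt N41745 (iv1 F104844)) (tt N41744 F104846) (tt N41746 (iv2 F104845)) (tt N10361 F50323) (tt N41796 (iv4 F104901)) (tt N41804 (iv5 F104906)) (tt N33653 (iv6 F85365)) (tt N10350 (iv7 D31970)))
theorem Q21203 : ∀ i, i < 21203 → P i := stepQ 21202 Q21202 (allL N21202 (tt N29714 (iv1 F77066)) (tt N29708 (iv0 F77031)) (tt N29710 F77043) (tt N10374 F50324) (tt N10351 (iv4 D31971)) (tt N41805 D68717) (tt N33994 (iv6 F86455)) (tt N29711 (iv7 F77049)))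
theorem Q21204 : ∀ i, i < 21204 → P i := stepQ 21203 Q21203 (allL N21203 (tt N33694 F85460) (tt N22879 (iv0 F54567)) (tt N33630 (iv2 F85300)) (tt N21098 F50325) (tt N41806 D68718) (tt N10351 (iv5 D31972)) (tt N41807 D68719) (tt N33664 (iv7 F85408)))
theorem Q21205 : ∀ i, i < 21205 → P i := stepQ 21204 Q21204 (allL N21204 (tt N40611 F321260) (tt N21122 (iv0 F50326)) (tt N33666 (iv2 F85415)) (tt N41808 D68720) (tt N10352 (iv4 D31973)) (tt N41809 D68721) (tt N41803 (iv6 F104904)) (tt N40630 F324050))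
theorem Q21206 : ∀ i, i < 21206 → P i := stepQ 21205 Q21205 (allL N21205 (tt N23304 (iv1 F55455)) (tt N17539 (iv0 F52355)) (tt N23302 F55446) (tt N10364 F50329) (tt N40630 F324054) (tt N10353 F50330) (tt N41810 D68722) (tt N10352 (iv7 D31974)))
theorem Q21207 : ∀ i, i < 21207 → P i := stepQ 21206 Q21206 (allL N21206 (tt N20108 (iv1 F328445)) (tt N36286 (iv0 F94293)) (tt N23891 (iv2 F56695)) (tt N40827 (iv3 F102709)) (tt N10354 (iv4 D31975)) (tt N39566 F328188) (tt N41811 D68725) (tt N20908 F50331))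
theorem Q21208 : ∀ i, i < 21208 → P i := stepQ 21207 Q21207 (allL N21207 (tt N41812 D68726) (tt N25133 F199948) (tt N23889 (iv2 F56687)) (tt N10355 F50332) (tt N41811 (iv4 F104919)) (tt N10823 F50333) (tt N10354 (iv6 D31976)) (tt N41813 D68728))
theorem Q21209 : ∀ i, i < 21209 → P i := stepQ 21208 Q21208 (allL N21208 (tt N20919 (iv1 F50337)) (tt N10355 (iv0 D31977)) (tt N20917 (iv2 F200168)) (tt N41814 D68730) (tt N40634 (iv4 F131045)) (tt N41815 D68732) (tt N41816 D68733) (tt N20918 (iv7 F200169)))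
theorem Q21210 : ∀ i, i < 21210 → P i := stepQ 21209 Q21209 (allL N21209 (tt N10355 (iv1 D31978)) (tt N20919 F50334) (tt N20918 F200170) (tt N41773 F232594) (tt N40635 (iv4 F107360)) (tt N37490 F308996) (tt N33387 (iv6 F311146)) (tt N20917 F200171))
theorem Q21211 : ∀ i, i < 21211 → P i := stepQ 21210 Q21210 (allL N21210 (tt N20918 (iv1 F50338)) (tt N20917 F50339) (tt N20919 F50335) (tt N41813 (iv3 F104920)) (tt N40832 (iv4 F102716)) (tt N21756 (iv5 F51825)) (tt N20911 F50336) (tt N10355 (iv7 D31979)))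
theorem Q21212 : ∀ i, i < 21212 → P i := stepQ 21211 Q21211 (allL N21211 (tt N10392 F50758) (tt N10402 F50759) (tt N10356 (iv2 D31982)) (tt N20907 F50348) (tt N41817 D68739) (tt N16803 F50349) (tt N41818 D68740) (tt N10399 (iv7 F50754)))
theorem Q21213 : ∀ i, i < 21213 → P i := stepQ 21212 Q21212 (allL N21212 (tt N36290 (iv1 F94305)) (tt N36308 (iv0 F94349)) (tt N41817 (iv2 F104928)) (tt N40824 (iv3 F102684)) (tt N10356 (iv4 D31983)) (tt N41819 D68741) (tt N41820 D68742) (tt N20915 F50353))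
theorem Q21214 : ∀ i, i < 21214 → P i := stepQ 21213 Q21213 (allL N21213 (tt N41821 D68743) (tt N41822 D68744) (tt N41818 (iv2 F104932)) (tt N10357 F50354) (tt N41820 (iv4 F104937)) (tt N19374 F50355) (tt N10356 (iv6 D31984)) (tt N41823 D68745))
theorem Q21215 : ∀ i, i < 21215 → P i := stepQ 21214 Q21214 (allL N21214 (tt N10357 (iv1 D31985)) (tt N20911 F50356) (tt N20910 F53109) (tt N41824 D68746) (tt N16997 (iv4 F311593)) (tt N38304 (iv5 F97892)) (tt N11501 F309362) (tt N11022 F53107))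
theorem Q21216 : ∀ i, i < 21216 → P i := stepQ 21215 Q21215 (allL N21215 (tt N20910 (iv1 F50361)) (tt N11022 F50362) (tt N20911 F50357) (tt N41823 (iv3 F104939)) (tt N34594 F312988) (tt N19377 F50358) (tt N20919 F50359) (tt N10357 (iv7 D31986)))
theorem Q21217 : ∀ i, i < 21217 → P i := stepQ 21216 Q21216 (allL N21216 (tt N33681 (iv1 F183509)) (tt N33615 (iv0 F180398)) (tt N33680 (iv2 F183641)) (tt N10358 (iv3 D31988)) (tt N41825 D68756) (tt N41826 D68757) (tt N11502 F310220) (tt N33620 (iv7 F105976)))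
theorem Q21218 : ∀ i, i < 21218 → P i := stepQ 21217 Q21217 (allL N21217 (tt N21460 F51346) (tt N41827 D68766) (tt N33619 (iv2 F105987)) (tt N41826 (iv3 F104952)) (tt N34751 (iv4 F314935)) (tt N10358 (iv5 D31990)) (tt N41828 D68768) (tt N33621 (iv7 F105980)))
theorem Q21219 : ∀ i, i < 21219 → P i := stepQ 21218 Q21218 (allL N21218 (tt N10401 F242963) (tt N41829 D68773) (tt N41830 D68774) (tt N10359 (iv3 D31993)) (tt N41831 D68775) (tt N41832 D68776) (tt N41833 D68777) (tt N33618 (iv7 F105984)))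
theorem Q21220 : ∀ i, i < 21220 → P i := stepQ 21219 Q21219 (allL N21219 (tt N41827 (iv1 F104960)) (tt N21460 (iv0 F51347)) (tt N33621 (iv2 F105979)) (tt N41832 (iv3 F104967)) (tt N11877 (iv4 F315541)) (tt N10359 (iv5 D31995)) (tt N41834 D68782) (tt N33619 (iv7 F105988)))
theorem Q21221 : ∀ i, i < 21221 → P i := stepQ 21220 Q21220 (allL N21220 (tt N40837 F318134) (tt N41816 (iv0 F104974)) (tt N33622 (iv2 F105974)) (tt N41833 (iv3 F104968)) (tt N34299 F310816) (tt N41835 D68785) (tt N10359 (iv6 D31996)) (tt N34600 F310817))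
theorem Q21222 : ∀ i, i < 21222 → P i := stepQ 21221 Q21221 (allL N21221 (tt N33625 (iv1 F85293)) (tt N10360 (iv0 D31997)) (tt N33623 (iv2 F183584)) (tt N33613 (iv3 F183264)) (tt N41681 (iv4 F183266)) (tt N33803 (iv5 F85688)) (tt N41836 D68790) (tt N33624 (iv7 F183590)))
theorem Q21223 : ∀ i, i < 21223 → P i := stepQ 21222 Q21222 (allL N21222 (tt N10360 (iv1 D31998)) (tt N33625 F85291) (tt N33624 (iv2 F183589)) (tt N41837 D68792) (tt N41682 (iv4 F104983)) (tt N33764 (iv5 F85558)) (tt N41838 D68793) (tt N33623 (iv7 F183585)))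
theorem Q21224 : ∀ i, i < 21224 → P i := stepQ 21223 Q21223 (allL N21223 (tt N41839 D68794) (tt N41840 D68795) (tt N25046 F317588) (tt N41841 D68796) (tt N10360 (iv4 D31999)) (tt N11868 F317589) (tt N10363 F50365) (tt N25049 F317590))
theorem Q21225 : ∀ i, i < 21225 → P i := stepQ 21224 Q21224 (allL N21224 (tt N33624 (iv1 F85284)) (tt N33623 F85290) (tt N33625 (iv2 F85288)) (tt N41804 (iv3 F104905)) (tt N25049 (iv4 F317181)) (tt N10361 F50366) (tt N41842 D68799) (tt N10360 (iv7 D32000)))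
theorem Q21226 : ∀ i, i < 21226 → P i := stepQ 21225 Q21225 (allL N21225 (tt N10393 F50750) (tt N21291 F51029) (tt N21288 F51021) (tt N10362 (iv3 D32001)) (tt N36295 (iv4 F94316)) (tt N11178 F50367) (tt N41843 D68800) (tt N11205 F50368))
theorem Q21227 : ∀ i, i < 21227 → P i := stepQ 21226 Q21226 (allL N21226 (tt N41844 D68801) (tt N41845 D68802) (tt N21512 (iv2 F51427)) (tt N41843 (iv3 F104995)) (tt N41691 (iv4 F104743)) (tt N11188 F50370) (tt N10362 (iv6 D32002)) (tt N34564 (iv7 F87861)))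
theorem Q21228 : ∀ i, i < 21228 → P i := stepQ 21227 Q21227 (allL N21227 (tt N41846 D68803) (tt N41847 D68804) (tt N41848 D68805) (tt N10363 (iv3 D32003)) (tt N41808 (iv4 F104909)) (tt N41849 D68806) (tt N41841 (iv6 F104992)) (tt N41850 D68807))
theorem Q21229 : ∀ i, i < 21229 → P i := stepQ 21228 Q21228 (allL N21228 (tt N21085 F50373) (tt N21082 F50372) (tt N22881 (iv2 F54574)) (tt N41849 (iv3 F105000)) (tt N10489 F50371) (tt N10363 (iv5 D32004)) (tt N41851 D68808) (tt N22884 (iv7 F54585)))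
theorem Q21230 : ∀ i, i < 21230 → P i := stepQ 21229 Q21229 (allL N21229 (tt N21135 (iv1 F50375)) (tt N10509 F50376) (tt N21508 (iv2 F51414)) (tt N41850 (iv3 F105001)) (tt N10364 F50374) (tt N22884 (iv5 F54584)) (tt N41852 D68809) (tt N10363 (iv7 D32005)))
theorem Q21231 : ∀ i, i < 21231 → P i := stepQ 21230 Q21230 (allL N21230 (tt N41853 D68810) (tt N41854 D68811) (tt N21509 (iv2 F51419)) (tt N41810 (iv3 F104911)) (tt N41852 (iv4 F105003)) (tt N21683 (iv5 F51689)) (tt N10364 (iv6 D32006)) (tt N41842 (iv7 F104994)))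
theorem Q21232 : ∀ i, i < 21232 → P i := stepQ 21231 Q21231 (allL N21231 (tt N41855 D68812) (tt N32526 F83084) (tt N33602 (iv2 F85248)) (tt N32478 (iv3 F82916)) (tt N41856 D68813) (tt N10365 (iv5 D32009)) (tt N39005 F329786) (tt N33599 (iv7 F85242)))
theorem Q21233 : ∀ i, i < 21233 → P i := stepQ 21232 Q21232 (allL N21232 (tt N41857 D68815) (tt N41858 D68816) (tt N33603 (iv2 F85250)) (tt N41859 D68817) (tt N10366 (iv4 D32010)) (tt N41860 D68818) (tt N41861 D68819) (tt N33600 (iv7 F85244)))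
theorem Q21234 : ∀ i, i < 21234 → P i := stepQ 21233 Q21233 (allL N21233 (tt N33789 F130863) (tt N10462 F130864) (tt N33604 (iv2 F85252)) (tt N33581 (iv3 F85189)) (tt N41861 (iv4 F105010)) (tt N10796 F50379) (tt N10366 (iv6 D32011)) (tt N33788 (iv7 F130935)))
theorem Q21235 : ∀ i, i < 21235 → P i := stepQ 21234 Q21234 (allL N21234 (tt N22868 (iv1 F54555)) (tt N10419 (iv0 F50954)) (tt N21284 (iv2 F50715)) (tt N10369 F50380) (tt N27312 (iv4 F316568)) (tt N10367 (iv5 D32012)) (tt N41862 D68823) (tt N21286 (iv7 F50726)))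
theorem Q21236 : ∀ i, i < 21236 → P i := stepQ 21235 Q21235 (allL N21235 (tt N32526 F83085) (tt N41855 F105004) (tt N33599 (iv2 F85240)) (tt N21178 F50381) (tt N41863 D68824) (tt N10368 (iv5 D32013)) (tt N41864 D68825) (tt N33602 (iv7 F85249)))
theorem Q21237 : ∀ i, i < 21237 → P i := stepQ 21236 Q21236 (allL N21236 (tt N41858 (iv1 F105009)) (tt N41857 F105008) (tt N33600 (iv2 F85243)) (tt N41865 D68826) (tt N10369 (iv4 D32014)) (tt N41866 D68827) (tt N41867 D68828) (tt N33603 (iv7 F85251)))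
theorem Q21238 : ∀ i, i < 21238 → P i := stepQ 21237 Q21237 (allL N21237 (tt N33805 (iv1 F237471)) (tt N41276 F322275) (tt N33601 (iv2 F85245)) (tt N41862 (iv3 F105012)) (tt N41867 (iv4 F105016)) (tt N34151 (iv5 F86825)) (tt N10369 (iv6 D32015)) (tt N41868 D68831))
theorem Q21239 : ∀ i, i < 21239 → P i := stepQ 21238 Q21238 (allL N21238 (tt N32463 (iv1 F82888)) (tt N32462 F82885) (tt N10375 F50382) (tt N26514 (iv3 F65421)) (tt N41869 D68832) (tt N10370 (iv5 D32016)) (tt N26511 (iv6 F65407)) (tt N32461 (iv7 F82879)))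
theorem Q21240 : ∀ i, i < 21240 → P i := stepQ 21239 Q21239 (allL N21239 (tt N33610 (iv1 F85265)) (tt N33609 F85264) (tt N10379 F50383) (tt N41870 D68833) (tt N10371 (iv4 D32017)) (tt N41871 D68834) (tt N41872 D68835) (tt N33605 (iv7 F85255)))
theorem Q21241 : ∀ i, i < 21241 → P i := stepQ 21240 Q21240 (allL N21240 (tt N41873 D68836) (tt N41874 D68837) (tt N10380 F50384) (tt N33637 (iv3 F85329)) (tt N41872 (iv4 F105020)) (tt N41875 D68838) (tt N10371 (iv6 D32018)) (tt N41876 D68839))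
theorem Q21242 : ∀ i, i < 21242 → P i := stepQ 21241 Q21241 (allL N21241 (tt N17448 (iv1 F50387)) (tt N17004 F50386) (tt N10382 F50385) (tt N23336 (iv3 F55639)) (tt N41877 D68840) (tt N10372 (iv5 D32019)) (tt N41875 (iv6 F105023)) (tt N21680 (iv7 F51679)))
theorem Q21243 : ∀ i, i < 21243 → P i := stepQ 21242 Q21242 (allL N21242 (tt N26485 (iv1 F65415)) (tt N13440 (iv0 F65414)) (tt N26482 (iv2 F65302)) (tt N10373 (iv3 D32020)) (tt N26512 (iv4 F65408)) (tt N41878 D68841) (tt N10808 F50389) (tt N26483 (iv7 F65304)))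
theorem Q21244 : ∀ i, i < 21244 → P i := stepQ 21243 Q21243 (allL N21243 (tt N18420 (iv1 F50770)) (tt N14819 (iv0 F77027)) (tt N16858 F50390) (tt N18418 F50393) (tt N10373 (iv4 D32021)) (tt N41879 D68842) (tt N10809 F50391) (tt N21097 F50392))
theorem Q21245 : ∀ i, i < 21245 → P i := stepQ 21244 Q21244 (allL N21244 (tt N32418 (iv1 F82810)) (tt N18406 (iv0 F50518)) (tt N32421 F82815) (tt N41878 (iv3 F105029)) (tt N41880 D68843) (tt N10373 (iv5 D32022)) (tt N41881 D68844) (tt N32420 (iv7 F82819)))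
theorem Q21246 : ∀ i, i < 21246 → P i := stepQ 21245 Q21245 (allL N21245 (tt N18406 F50399) (tt N32418 (iv0 F82811)) (tt N32420 F82817) (tt N41805 (iv3 F104907)) (tt N41882 D68845) (tt N10374 (iv5 D32023)) (tt N41883 D68846) (tt N32421 F82816))
theorem Q21247 : ∀ i, i < 21247 → P i := stepQ 21246 Q21246 (allL N21246 (tt N32461 F82882) (tt N10375 (iv0 D32024)) (tt N32463 F82891) (tt N41884 D68847) (tt N41885 D68848) (tt N16273 F82883) (tt N41886 D68849) (tt N32462 F82887))
theorem Q21248 : ∀ i, i < 21248 → P i := stepQ 21247 Q21247 (allL N21247 (tt N10375 (iv1 D32025)) (tt N32461 (iv0 F82881)) (tt N32462 F82886) (tt N23293 (iv3 F55423)) (tt N41887 D68850) (tt N16274 F50400) (tt N41888 D68851) (tt N32463 (iv7 F82889)))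
theorem Q21249 : ∀ i, i < 21249 → P i := stepQ 21248 Q21248 (allL N21248 (tt N41889 D68852) (tt N41890 D68853) (tt N41869 (iv2 F105017)) (tt N41891 D68854) (tt N10375 (iv4 D32026)) (tt N41892 D68855) (tt N41893 D68856) (tt N32464 (iv7 F82892)))
theorem Q21250 : ∀ i, i < 21250 → P i := stepQ 21249 Q21249 (allL N21249 (tt N41894 D68857) (tt N41895 D68858) (tt N26511 (iv2 F65405)) (tt N18412 F50401) (tt N41893 (iv4 F105043)) (tt N26508 (iv5 F65398)) (tt N10375 (iv6 D32027)) (tt N41896 D68859))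
theorem Q21251 : ∀ i, i < 21251 → P i := stepQ 21250 Q21250 (allL N21250 (tt N13438 (iv1 F50405)) (tt N10376 (iv0 D32028)) (tt N26509 F65401) (tt N13159 F50403) (tt N41897 D68860) (tt N13158 F50402) (tt N30505 (iv6 F78714)) (tt N26480 (iv7 F65288)))
theorem Q21252 : ∀ i, i < 21252 → P i := stepQ 21251 Q21251 (allL N21251 (tt N10376 (iv1 D32029)) (tt N13438 F50656) (tt N26480 (iv2 F65291)) (tt N33654 (iv3 F85367)) (tt N19068 (iv4 F50657)) (tt N13179 F50659) (tt N19066 F50658) (tt N26509 (iv7 F65403)))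
theorem Q21253 : ∀ i, i < 21253 → P i := stepQ 21252 Q21252 (allL N21252 (tt N41898 D68861) (tt N41899 D68862) (tt N33607 (iv2 F85261)) (tt N41900 D68863) (tt N10377 (iv4 D32030)) (tt N41901 D68864) (tt N41902 D68865) (tt N21502 (iv7 F51402)))
theorem Q21254 : ∀ i, i < 21254 → P i := stepQ 21253 Q21253 (allL N21253 (tt N41903 D68866) (tt N41824 (iv0 F130732)) (tt N33608 (iv2 F85263)) (tt N21512 (iv3 F51428)) (tt N41902 (iv4 F105055)) (tt N33957 (iv5 F86277)) (tt N10377 (iv6 D32031)) (tt N41904 D68868))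
theorem Q21255 : ∀ i, i < 21255 → P i := stepQ 21254 Q21254 (allL N21254 (tt N21291 (iv1 F51030)) (tt N10393 F50749) (tt N11205 F50660) (tt N10378 (iv3 D32032)) (tt N36294 (iv4 F94311)) (tt N11189 F50661) (tt N34540 (iv6 F87802)) (tt N21288 (iv7 F51019)))
theorem Q21256 : ∀ i, i < 21256 → P i := stepQ 21255 Q21255 (allL N21255 (tt N41899 (iv1 F105053)) (tt N41898 F105052) (tt N21502 (iv2 F51401)) (tt N41905 D68869) (tt N10378 (iv4 D32033)) (tt N41906 D68870) (tt N41907 D68871) (tt N33607 (iv7 F85262)))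
theorem Q21257 : ∀ i, i < 21257 → P i := stepQ 21256 Q21256 (allL N21256 (tt N41814 (iv1 F200223)) (tt N25108 (iv0 F60318)) (tt N11316 F50663) (tt N34540 (iv3 F87801)) (tt N41907 (iv4 F105059)) (tt N11313 F50664) (tt N10378 (iv6 D32034)) (tt N41908 D68873))
theorem Q21258 : ∀ i, i < 21258 → P i := stepQ 21257 Q21257 (allL N21257 (tt N33605 (iv1 F85257)) (tt N10379 (iv0 D32035)) (tt N33610 (iv2 F85269)) (tt N41909 D68874) (tt N41357 (iv4 F104010)) (tt N41910 D68875) (tt N41911 D68876) (tt N33609 F85270))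
theorem Q21259 : ∀ i, i < 21259 → P i := stepQ 21258 Q21258 (allL N21258 (tt N10379 (iv1 D32036)) (tt N33605 (iv0 F85256)) (tt N33609 F85268) (tt N41912 D68877) (tt N21103 (iv4 F50665)) (tt N41913 D68878) (tt N41914 D68879) (tt N33610 (iv7 F85267)))
theorem Q21260 : ∀ i, i < 21260 → P i := stepQ 21259 Q21259 (allL N21259 (tt N41915 D68880) (tt N41916 D68881) (tt N41871 (iv2 F105018)) (tt N40621 (iv3 F102273)) (tt N41917 D68882) (tt N10379 (iv5 D32037)) (tt N41918 D68883) (tt N33611 (iv7 F85271)))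
theorem Q21261 : ∀ i, i < 21261 → P i := stepQ 21260 Q21260 (allL N21260 (tt N38558 F331628) (tt N41919 D68885) (tt N41872 (iv2 F105019)) (tt N40622 (iv3 F102274)) (tt N10380 F50666) (tt N41920 D68886) (tt N10379 (iv6 D32038)) (tt N41921 D68887))
theorem Q21262 : ∀ i, i < 21262 → P i := stepQ 21261 Q21261 (allL N21261 (tt N41876 (iv1 F105027)) (tt N10380 (iv0 D32039)) (tt N41873 (iv2 F188604)) (tt N41853 (iv3 F184375)) (tt N41922 D68890) (tt N33421 (iv5 F320140)) (tt N33424 F319164) (tt N41874 (iv7 F188603)))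
theorem Q21263 : ∀ i, i < 21263 → P i := stepQ 21262 Q21262 (allL N21262 (tt N10380 (iv1 D32040)) (tt N41876 F105026) (tt N41874 (iv2 F188601)) (tt N41923 D68894) (tt N41924 D68895) (tt N41925 D68896) (tt N34339 (iv6 F188607)) (tt N41873 (iv7 F188605)))
theorem Q21264 : ∀ i, i < 21264 → P i := stepQ 21263 Q21263 (allL N21263 (tt N41926 D68898) (tt N41927 D68899) (tt N41875 (iv2 F105022)) (tt N10385 F50667) (tt N41928 D68900) (tt N10380 (iv5 D32041)) (tt N10382 F50668) (tt N41929 D68901))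
theorem Q21265 : ∀ i, i < 21265 → P i := stepQ 21264 Q21264 (allL N21264 (tt N41874 (iv1 F105021)) (tt N41873 F105025) (tt N41876 (iv2 F105024)) (tt N10386 F50669) (tt N41921 (iv4 F105070)) (tt N41929 (iv5 F105076)) (tt N33616 (iv6 F85277)) (tt N10380 (iv7 D32042)))
theorem Q21266 : ∀ i, i < 21266 → P i := stepQ 21265 Q21265 (allL N21265 (tt N32514 (iv1 F83059)) (tt N32512 (iv0 F83053)) (tt N32486 (iv2 F82938)) (tt N21970 (iv3 F52295)) (tt N10381 (iv4 D32043)) (tt N27102 (iv5 F68960)) (tt N21968 F52293) (tt N32518 (iv7 F83066)))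
theorem Q21267 : ∀ i, i < 21267 → P i := stepQ 21266 Q21266 (allL N21266 (tt N10382 (iv1 D32044)) (tt N21680 F51678) (tt N17004 F50672) (tt N21686 (iv3 F51700)) (tt N41930 D68902) (tt N17003 (iv5 F50671)) (tt N10451 F320147) (tt N17448 F50670))
theorem Q21268 : ∀ i, i < 21268 → P i := stepQ 21267 Q21267 (allL N21267 (tt N41931 D68904) (tt N41932 D68905) (tt N41877 (iv2 F105028)) (tt N41933 D68906) (tt N10382 (iv4 D32045)) (tt N28070 (iv5 F72633)) (tt N41928 (iv6 F105074)) (tt N33691 (iv7 F85450)))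
theorem Q21269 : ∀ i, i < 21269 → P i := stepQ 21268 Q21268 (allL N21268 (tt N41934 D68907) (tt N10411 F190198) (tt N41935 D68909) (tt N10383 (iv3 D32047)) (tt N41936 D68910) (tt N33380 F318128) (tt N33382 F318129) (tt N33657 (iv7 F85383)))
theorem Q21270 : ∀ i, i < 21270 → P i := stepQ 21269 Q21269 (allL N21269 (tt N33682 (iv1 F130253)) (tt N33689 (iv0 F130254)) (tt N33687 F183988) (tt N10384 (iv3 D32052)) (tt N41937 D68927) (tt N40814 F318643) (tt N34246 (iv6 F113950)) (tt N33656 (iv7 F85375)))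
theorem Q21271 : ∀ i, i < 21271 → P i := stepQ 21270 Q21270 (allL N21270 (tt N10385 (iv1 D32057)) (tt N33660 F85397) (tt N33658 (iv2 F105721)) (tt N41938 D68938) (tt N40639 (iv4 F317830)) (tt N33659 (iv5 F311592)) (tt N41037 F311580) (tt N33457 F311581))
theorem Q21272 : ∀ i, i < 21272 → P i := stepQ 21271 Q21271 (allL N21271 (tt N33810 (iv1 F311597)) (tt N41939 D68942) (tt N33659 (iv2 F85392)) (tt N41940 D68943) (tt N10385 (iv4 D32058)) (tt N33658 F309371) (tt N10387 F50676) (tt N41044 F312727))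
theorem Q21273 : ∀ i, i < 21273 → P i := stepQ 21272 Q21272 (allL N21272 (tt N33658 (iv1 F85390)) (tt N33457 F312722) (tt N33660 (iv2 F85394)) (tt N41929 (iv3 F105075)) (tt N41044 F312726) (tt N10386 F50677) (tt N41941 D68946) (tt N10385 (iv7 D32059)))
theorem Q21274 : ∀ i, i < 21274 → P i := stepQ 21273 Q21273 (allL N21273 (tt N27702 F71133) (tt N10424 (iv0 F306831)) (tt N41942 D68947) (tt N10387 (iv3 D32060)) (tt N41933 (iv4 F105085)) (tt N27723 (iv5 F71214)) (tt N41940 (iv6 F105108)) (tt N33773 F305626))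
theorem Q21275 : ∀ i, i < 21275 → P i := stepQ 21274 Q21274 (allL N21274 (tt N10685 F50680) (tt N10688 F50681) (tt N17197 F50678) (tt N27723 F71213) (tt N10634 F50679) (tt N10387 (iv5 D32061)) (tt N41943 D68949) (tt N21700 (iv7 F51737)))
theorem Q21276 : ∀ i, i < 21276 → P i := stepQ 21275 Q21275 (allL N21275 (tt N22450 F53141) (tt N33786 (iv0 F308775)) (tt N21683 (iv2 F51688)) (tt N33688 (iv3 F85443)) (tt N33774 F308394) (tt N21509 (iv5 F51421)) (tt N10388 (iv6 D32063)) (tt N41941 (iv7 F105110)))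
theorem Q21277 : ∀ i, i < 21277 → P i := stepQ 21276 Q21276 (allL N21276 (tt N10426 (iv1 F50687)) (tt N10425 F50688) (tt N10430 F50685) (tt N41944 D68952) (tt N10389 (iv4 D32064)) (tt N36335 (iv5 F94405)) (tt N41945 D68953) (tt N10417 F50686))
theorem Q21278 : ∀ i, i < 21278 → P i := stepQ 21277 Q21277 (allL N21277 (tt N41946 D68954) (tt N41947 D68955) (tt N10434 F50689) (tt N33663 (iv3 F85404)) (tt N41945 (iv4 F105123)) (tt N41948 D68956) (tt N10389 (iv6 D32065)) (tt N41949 D68957))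
theorem Q21279 : ∀ i, i < 21279 → P i := stepQ 21278 Q21278 (allL N21278 (tt N10969 (iv1 F50693)) (tt N10968 F50694) (tt N10436 F50690) (tt N10836 F50691) (tt N41950 D68958) (tt N10390 (iv5 D32066)) (tt N41948 (iv6 F105127)) (tt N10851 F50692))
theorem Q21280 : ∀ i, i < 21280 → P i := stepQ 21279 Q21279 (allL N21279 (tt N23287 (iv1 F55401)) (tt N33563 (iv0 F85134)) (tt N21287 (iv2 F50727)) (tt N10392 F50695) (tt N41363 (iv4 F104030)) (tt N10391 (iv5 D32067)) (tt N41951 D68959) (tt N10406 F50696))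
theorem Q21281 : ∀ i, i < 21281 → P i := stepQ 21280 Q21280 (allL N21280 (tt N41952 D68960) (tt N41589 (iv0 F104503)) (tt N10400 F50700) (tt N41953 D68961) (tt N10392 (iv4 D32071)) (tt N41954 D68962) (tt N41955 D68963) (tt N10410 F50701))
theorem Q21282 : ∀ i, i < 21282 → P i := stepQ 21281 Q21281 (allL N21281 (tt N33618 F242990) (tt N41830 F242991) (tt N10401 F50702) (tt N41951 (iv3 F105137)) (tt N41955 (iv4 F105146)) (tt N21290 (iv5 F51026)) (tt N10392 (iv6 D32072)) (tt N41829 (iv7 F242967)))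
theorem Q21283 : ∀ i, i < 21283 → P i := stepQ 21282 Q21282 (allL N21282 (tt N21116 F50983) (tt N41329 (iv0 F103940)) (tt N21289 (iv2 F51023)) (tt N22587 F53380) (tt N10393 (iv4 D32079)) (tt N22586 (iv5 F53381)) (tt N29106 F319388) (tt N21311 (iv7 F51064)))
theorem Q21284 : ∀ i, i < 21284 → P i := stepQ 21283 Q21283 (allL N21283 (tt N41956 D68968) (tt N41837 F242954) (tt N21290 (iv2 F51025)) (tt N10401 F50711) (tt N29106 F319385) (tt N10401 F51010) (tt N10393 (iv6 D32080)) (tt N29145 F315415))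
theorem Q21285 : ∀ i, i < 21285 → P i := stepQ 21284 Q21284 (allL N21284 (tt N21327 F51092) (tt N21338 F51111) (tt N21234 F50715) (tt N16856 F50716) (tt N27649 F320037) (tt N10394 (iv5 D32084)) (tt N41957 D68972) (tt N21142 F50717))
theorem Q21286 : ∀ i, i < 21286 → P i := stepQ 21285 Q21285 (allL N21285 (tt N14814 F50722) (tt N18423 (iv0 F54312)) (tt N16850 F50718) (tt N18429 F50719) (tt N10395 (iv4 D32085)) (tt N41958 D68973) (tt N10865 F50720) (tt N18421 F50721))
theorem Q21287 : ∀ i, i < 21287 → P i := stepQ 21286 Q21286 (allL N21286 (tt N21338 (iv1 F51110)) (tt N21327 F51093) (tt N21142 F50724) (tt N16875 F50725) (tt N27648 F320025) (tt N10395 (iv5 D32086)) (tt N41959 D68975) (tt N21234 F50726))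
theorem Q21288 : ∀ i, i < 21288 → P i := stepQ 21287 Q21287 (allL N21287 (tt N20957 F50729) (tt N20950 F51017) (tt N21279 F50727) (tt N10397 F50728) (tt N41629 (iv4 F104604)) (tt N10396 (iv5 D32087)) (tt N32866 F317654) (tt N21305 (iv7 F51053)))
theorem Q21289 : ∀ i, i < 21289 → P i := stepQ 21288 Q21288 (allL N21288 (tt N10397 (iv1 D32088)) (tt N10408 F51018) (tt N21225 (iv2 F51021)) (tt N16877 (iv3 F51022)) (tt N41960 D68977) (tt N18409 F51020) (tt N41961 D68978) (tt N21254 F51019))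
theorem Q21290 : ∀ i, i < 21290 → P i := stepQ 21289 Q21289 (allL N21289 (tt N36292 (iv1 F94309)) (tt N20925 F51024) (tt N21282 F51023) (tt N41962 D68979) (tt N10397 (iv4 D32089)) (tt N36334 (iv5 F94400)) (tt N14524 F321364) (tt N41656 (iv7 F104655)))
theorem Q21291 : ∀ i, i < 21291 → P i := stepQ 21290 Q21290 (allL N21290 (tt N41963 D68981) (tt N41964 D68982) (tt N21283 F51025) (tt N32866 F317171) (tt N14524 (iv4 F319339)) (tt N21281 F51026) (tt N10397 (iv6 D32090)) (tt N41965 D68983))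
theorem Q21292 : ∀ i, i < 21292 → P i := stepQ 21291 Q21291 (allL N21291 (tt N21225 (iv1 F51029)) (tt N21254 F51030) (tt N10408 F51027) (tt N21305 (iv3 F51052)) (tt N41656 (iv4 F104652)) (tt N10398 F51028) (tt N41966 D68984) (tt N10397 (iv7 D32091)))
theorem Q21293 : ∀ i, i < 21293 → P i := stepQ 21292 Q21292 (allL N21292 (tt N36308 (iv1 F94350)) (tt N36290 (iv0 F94304)) (tt N20915 F51032) (tt N41967 D68985) (tt N10399 (iv4 D32092)) (tt N41968 D68986) (tt N41969 D68987) (tt N41817 (iv7 F104929)))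
theorem Q21294 : ∀ i, i < 21294 → P i := stepQ 21293 Q21293 (allL N21293 (tt N41970 D68988) (tt N41971 D68989) (tt N20916 F51033) (tt N23889 (iv3 F56688)) (tt N41969 (iv4 F105197)) (tt N22190 (iv5 F52685)) (tt N10399 (iv6 D32093)) (tt N41972 D68990))
theorem Q21295 : ∀ i, i < 21295 → P i := stepQ 21294 Q21294 (allL N21294 (tt N10410 (iv1 F51042)) (tt N10400 (iv0 D32094)) (tt N41952 F105139) (tt N41973 D68991) (tt N10506 F51034) (tt N41974 D68992) (tt N41975 D68993) (tt N41589 (iv7 F104502)))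
theorem Q21296 : ∀ i, i < 21296 → P i := stepQ 21295 Q21295 (allL N21295 (tt N10400 (iv1 D32095)) (tt N10410 F51035) (tt N41589 (iv2 F104501)) (tt N41976 D68994) (tt N41588 (iv4 F104500)) (tt N41977 D68995) (tt N41978 D68996) (tt N41952 (iv7 F105141)))
theorem Q21297 : ∀ i, i < 21297 → P i := stepQ 21296 Q21296 (allL N21296 (tt N15695 F51036) (tt N31092 (iv0 F79921)) (tt N32012 F82047) (tt N10400 (iv3 D32096)) (tt N22587 (iv4 F53379)) (tt N18197 (iv5 F51037)) (tt N41979 D68997) (tt N32013 (iv7 F82050)))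
theorem Q21298 : ∀ i, i < 21298 → P i := stepQ 21297 Q21297 (allL N21297 (tt N41980 D68998) (tt N41981 D68999) (tt N41954 (iv2 F105143)) (tt N18197 F51038) (tt N31785 (iv4 F81302)) (tt N10400 (iv5 D32097)) (tt N41982 D69000) (tt N35753 (iv7 F93192)))
theorem Q21299 : ∀ i, i < 21299 → P i := stepQ 21298 Q21298 (allL N21298 (tt N41983 D69001) (tt N41984 D69002) (tt N41955 (iv2 F105145)) (tt N41979 (iv3 F105207)) (tt N10401 F51039) (tt N41985 D69003) (tt N10400 (iv6 D32098)) (tt N41986 D69004))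
theorem Q21300 : ∀ i, i < 21300 → P i := stepQ 21299 Q21299 (allL N21299 (tt N41589 (iv1 F104504)) (tt N41952 F105140) (tt N10410 F51040) (tt N32013 F82052) (tt N10402 F51041) (tt N35753 (iv5 F93190)) (tt N41987 D69005) (tt N10400 (iv7 D32099)))
theorem Q21301 : ∀ i, i < 21301 → P i := stepQ 21300 Q21300 (allL N21300 (tt N41829 (iv1 F242965)) (tt N10401 (iv0 D32100)) (tt N33618 (iv2 F242968)) (tt N33680 (iv3 F242969)) (tt N41988 D69008) (tt N41989 D69009) (tt N34597 F306840) (tt N41830 (iv7 F242970)))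
theorem Q21302 : ∀ i, i < 21302 → P i := stepQ 21301 Q21301 (allL N21301 (tt N41830 F242988) (tt N33618 F242989) (tt N41829 (iv2 F242966)) (tt N29145 (iv3 F312993)) (tt N41986 (iv4 F105213)) (tt N29145 F315413) (tt N41934 (iv6 F190188)) (tt N10401 (iv7 D32102)))
theorem Q21303 : ∀ i, i < 21303 → P i := stepQ 21302 Q21302 (allL N21302 (tt N41935 F190194) (tt N33657 F190195) (tt N10411 F51043) (tt N21312 (iv3 F51066)) (tt N41987 (iv4 F105215)) (tt N41990 D69019) (tt N10402 (iv6 D32103)) (tt N41934 (iv7 F190189)))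
theorem Q21304 : ∀ i, i < 21304 → P i := stepQ 21303 Q21303 (allL N21303 (tt N21686 (iv1 F54198)) (tt N17002 (iv0 F54195)) (tt N10413 F51046) (tt N21313 (iv3 F51067)) (tt N11406 F54192) (tt N10403 (iv5 D32106)) (tt N41990 (iv6 F105225)) (tt N21313 (iv7 F51068)))
theorem Q21305 : ∀ i, i < 21305 → P i := stepQ 21304 Q21304 (allL N21304 (tt N41715 (iv1 F104806)) (tt N10422 F51049) (tt N21100 F51047) (tt N33664 (iv3 F85407)) (tt N32807 F318206) (tt N10404 (iv5 D32107)) (tt N41991 D69020) (tt N21098 F51048))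
theorem Q21306 : ∀ i, i < 21306 → P i := stepQ 21305 Q21305 (allL N21305 (tt N33563 (iv1 F85135)) (tt N23287 (iv0 F55400)) (tt N10406 F51051) (tt N21291 F51052) (tt N41364 (iv4 F104034)) (tt N10405 (iv5 D32108)) (tt N41992 D69021) (tt N21287 F51053))
theorem Q21307 : ∀ i, i < 21307 → P i := stepQ 21306 Q21306 (allL N21306 (tt N19072 F54352) (tt N19072 F54353) (tt N10407 F51055) (tt N10414 F51056) (tt N10407 F51057) (tt N41993 D69022) (tt N10405 (iv6 D32109)) (tt N10407 F51058))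
theorem Q21308 : ∀ i, i < 21308 → P i := stepQ 21307 Q21307 (allL N21307 (tt N21107 (iv1 F51060)) (tt N21104 F51059) (tt N41364 F104035) (tt N41994 D69023) (tt N10406 (iv4 D32110)) (tt N41995 D69024) (tt N41996 D69025) (tt N41363 F104032))
theorem Q21309 : ∀ i, i < 21309 → P i := stepQ 21308 Q21308 (allL N21308 (tt N41997 D69026) (tt N41998 D69027) (tt N41992 (iv2 F105229)) (tt N10411 F51061) (tt N41996 (iv4 F105239)) (tt N41999 D69028) (tt N10406 (iv6 D32111)) (tt N42000 D69029))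
theorem Q21310 : ∀ i, i < 21310 → P i := stepQ 21309 Q21309 (allL N21309 (tt N10407 (iv1 F51062)) (tt N10407 (iv0 D32112)) (tt N19072 F54354) (tt N10774 F54355) (tt N16865 F54356) (tt N42001 D69030) (tt N10771 F54357) (tt N19072 F54358))
theorem Q21311 : ∀ i, i < 21311 → P i := stepQ 21310 Q21310 (allL N21310 (tt N23333 (iv1 F55623)) (tt N23333 (iv0 F55624)) (tt N41993 (iv2 F105231)) (tt N10413 F51063) (tt N42002 D69031) (tt N10407 (iv5 D32113)) (tt N41999 (iv6 F105241)) (tt N41993 (iv7 F105233)))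
theorem Q21312 : ∀ i, i < 21312 → P i := stepQ 21311 Q21311 (allL N21311 (tt N20925 F51065) (tt N36292 (iv0 F94308)) (tt N41656 F104653) (tt N31786 (iv3 F81315)) (tt N10408 (iv4 D32114)) (tt N31785 F81305) (tt N42003 D69032) (tt N21282 F51064))
theorem Q21313 : ∀ i, i < 21313 → P i := stepQ 21312 Q21312 (allL N21312 (tt N42004 D69033) (tt N42005 D69034) (tt N41966 (iv2 F105193)) (tt N21302 F51066) (tt N42003 (iv4 F105251)) (tt N42006 D69035) (tt N10408 (iv6 D32115)) (tt N42007 D69036))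
theorem Q21314 : ∀ i, i < 21314 → P i := stepQ 21313 Q21313 (allL N21313 (tt N21321 (iv1 F51076)) (tt N10603 (iv0 F54045)) (tt N21323 (iv2 F51078)) (tt N21303 F51067) (tt N16354 F54028) (tt N10409 (iv5 D32116)) (tt N42006 (iv6 F105253)) (tt N21303 F51068))
theorem Q21315 : ∀ i, i < 21315 → P i := stepQ 21314 Q21314 (allL N21314 (tt N42008 D69037) (tt N42009 D69038) (tt N42010 D69039) (tt N10410 (iv3 D32117)) (tt N41994 (iv4 F105236)) (tt N42011 D69040) (tt N42012 D69041) (tt N41953 (iv7 F105142)))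
theorem Q21316 : ∀ i, i < 21316 → P i := stepQ 21315 Q21315 (allL N21315 (tt N41981 (iv1 F105210)) (tt N41980 F105209) (tt N35753 F93193) (tt N42011 (iv3 F105260)) (tt N36334 (iv4 F94402)) (tt N10410 (iv5 D32118)) (tt N42013 D69042) (tt N41954 (iv7 F105144)))
theorem Q21317 : ∀ i, i < 21317 → P i := stepQ 21316 Q21316 (allL N21316 (tt N42014 D69043) (tt N42015 D69044) (tt N41987 (iv2 F105214)) (tt N42012 (iv3 F105263)) (tt N10411 F51069) (tt N42016 D69045) (tt N10410 (iv6 D32119)) (tt N42017 D69046))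
theorem Q21318 : ∀ i, i < 21318 → P i := stepQ 21317 Q21317 (allL N21317 (tt N10411 (iv1 D32121)) (tt N41934 (iv0 F190185)) (tt N33657 (iv2 F190183)) (tt N33687 (iv3 F190190)) (tt N42018 D69054) (tt N42019 D69055) (tt N42020 D69056) (tt N41935 (iv7 F190191)))
theorem Q21319 : ∀ i, i < 21319 → P i := stepQ 21318 Q21318 (allL N21318 (tt N41041 F315737) (tt N42021 D69058) (tt N41990 (iv2 F105224)) (tt N41999 (iv3 F105240)) (tt N42022 D69059) (tt N10411 (iv5 D32122)) (tt N10413 F51070) (tt N42023 D69060))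
theorem Q21320 : ∀ i, i < 21320 → P i := stepQ 21319 Q21319 (allL N21319 (tt N33657 F190196) (tt N41935 F190197) (tt N41934 (iv2 F190186)) (tt N42000 (iv3 F105242)) (tt N42017 (iv4 F105267)) (tt N42023 (iv5 F105274)) (tt N41829 F242987) (tt N10411 (iv7 D32123)))
theorem Q21321 : ∀ i, i < 21321 → P i := stepQ 21320 Q21320 (allL N21320 (tt N22848 F54525) (tt N22849 (iv0 F54532)) (tt N11499 F54365) (tt N33690 (iv3 F85446)) (tt N42024 D69061) (tt N10412 (iv5 D32131)) (tt N42025 D69062) (tt N22850 (iv7 F54536)))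
theorem Q21322 : ∀ i, i < 21322 → P i := stepQ 21321 Q21321 (allL N21321 (tt N10413 (iv1 D32133)) (tt N21313 F51076) (tt N17002 F54214) (tt N17448 F54215) (tt N29896 (iv4 F77567)) (tt N11193 (iv5 F51077)) (tt N33451 (iv6 F316013)) (tt N21686 (iv7 F54213)))
theorem Q21323 : ∀ i, i < 21323 → P i := stepQ 21322 Q21322 (allL N21322 (tt N14926 (iv1 F54190)) (tt N14922 F54188) (tt N11406 (iv2 F54189)) (tt N11784 F54191) (tt N10413 (iv4 D32134)) (tt N11405 F54193) (tt N42022 (iv6 F105272)) (tt N32576 (iv7 F83128)))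
theorem Q21324 : ∀ i, i < 21324 → P i := stepQ 21323 Q21323 (allL N21323 (tt N17002 (iv1 F54197)) (tt N21686 F54196) (tt N21313 F51078) (tt N41993 (iv3 F105232)) (tt N32576 (iv4 F83129)) (tt N10414 F51079) (tt N42026 D69064) (tt N10413 (iv7 D32135)))
theorem Q21325 : ∀ i, i < 21325 → P i := stepQ 21324 Q21324 (allL N21324 (tt N21098 (iv1 F51084)) (tt N21100 F51085) (tt N41715 (iv2 F104810)) (tt N10415 (iv3 D32136)) (tt N34087 (iv4 F315428)) (tt N20949 F51082) (tt N42027 D69066) (tt N10422 F51083))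
theorem Q21326 : ∀ i, i < 21326 → P i := stepQ 21325 Q21325 (allL N21325 (tt N42028 D69067) (tt N42029 D69068) (tt N10420 F51086) (tt N42030 D69069) (tt N10415 (iv4 D32137)) (tt N42031 D69070) (tt N42032 D69071) (tt N10423 F51087))
theorem Q21327 : ∀ i, i < 21327 → P i := stepQ 21326 Q21326 (allL N21326 (tt N33762 F242920) (tt N42033 D69073) (tt N10421 F51088) (tt N42027 (iv3 F105292)) (tt N42032 (iv4 F105307)) (tt N42034 D69074) (tt N10415 (iv6 D32138)) (tt N42035 D69075))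
theorem Q21328 : ∀ i, i < 21328 → P i := stepQ 21327 Q21327 (allL N21327 (tt N21286 (iv1 F51093)) (tt N21284 (iv0 F51092)) (tt N22868 (iv2 F54552)) (tt N10416 (iv3 D32139)) (tt N13728 (iv4 F312415)) (tt N19001 F51089) (tt N12012 F310157) (tt N10419 F51090))
theorem Q21329 : ∀ i, i < 21329 → P i := stepQ 21328 Q21328 (allL N21328 (tt N42029 (iv1 F105297)) (tt N42028 F105294) (tt N10423 F51095) (tt N31338 (iv3 F80468)) (tt N10416 (iv4 D32140)) (tt N31337 F80466) (tt N42036 D69077) (tt N10420 F51096))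
theorem Q21330 : ∀ i, i < 21330 → P i := stepQ 21329 Q21329 (allL N21329 (tt N41942 F306561) (tt N33773 (iv0 F190801)) (tt N10424 F51097) (tt N12012 (iv3 F308122)) (tt N42036 (iv4 F105320)) (tt N12011 F306562) (tt N10416 (iv6 D32141)) (tt N27702 (iv7 F306834)))
theorem Q21331 : ∀ i, i < 21331 → P i := stepQ 21330 Q21330 (allL N21330 (tt N10430 (iv1 F51098)) (tt N10417 (iv0 D32142)) (tt N10425 F77121) (tt N42037 D69081) (tt N29731 (iv4 F77120)) (tt N42038 D69082) (tt N42039 D69083) (tt N10426 F77122))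
theorem Q21332 : ∀ i, i < 21332 → P i := stepQ 21331 Q21331 (allL N21331 (tt N10417 (iv1 D32143)) (tt N10430 F51099) (tt N10426 F77124) (tt N42040 D69084) (tt N41328 (iv4 F103937)) (tt N42041 D69085) (tt N42042 D69086) (tt N10425 F77125))
theorem Q21333 : ∀ i, i < 21333 → P i := stepQ 21332 Q21332 (allL N21332 (tt N42043 D69087) (tt N42044 D69088) (tt N42045 D69089) (tt N10417 (iv3 D32144)) (tt N33699 (iv4 F85468)) (tt N42046 D69090) (tt N42047 D69091) (tt N41944 (iv7 F105121)))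
theorem Q21334 : ∀ i, i < 21334 → P i := stepQ 21333 Q21333 (allL N21333 (tt N42048 D69092) (tt N42049 D69093) (tt N10428 F51100) (tt N42046 (iv3 F105340)) (tt N36337 (iv4 F94410)) (tt N10417 (iv5 D32145)) (tt N42050 D69094) (tt N36335 (iv7 F94408)))
theorem Q21335 : ∀ i, i < 21335 → P i := stepQ 21334 Q21334 (allL N21334 (tt N42051 D69095) (tt N42052 D69096) (tt N10429 F51101) (tt N42047 (iv3 F105341)) (tt N10418 F51102) (tt N42053 D69097) (tt N10417 (iv6 D32146)) (tt N42054 D69098))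
theorem Q21336 : ∀ i, i < 21336 → P i := stepQ 21335 Q21335 (allL N21335 (tt N10433 (iv1 F51106)) (tt N10418 (iv0 D32147)) (tt N10431 (iv2 F192050)) (tt N42055 D69100) (tt N42056 D69101) (tt N42057 D69102) (tt N42058 D69103) (tt N10432 (iv7 F192055)))
theorem Q21337 : ∀ i, i < 21337 → P i := stepQ 21336 Q21336 (allL N21336 (tt N10418 (iv1 D32148)) (tt N10433 F51103) (tt N10432 F192056) (tt N42059 D69105) (tt N42060 D69106) (tt N34544 (iv5 F87809)) (tt N42061 D69107) (tt N10431 F192057))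
theorem Q21338 : ∀ i, i < 21338 → P i := stepQ 21337 Q21337 (allL N21337 (tt N10432 (iv1 F51107)) (tt N10431 F51108) (tt N10433 F51104) (tt N33703 (iv3 F85475)) (tt N42054 (iv4 F105397)) (tt N10919 F51105) (tt N41949 (iv6 F105129)) (tt N10418 (iv7 D32149)))
theorem Q21339 : ∀ i, i < 21339 → P i := stepQ 21338 Q21338 (allL N21338 (tt N21284 (iv1 F51111)) (tt N21286 F51110) (tt N10419 (iv2 D32150)) (tt N41715 F104809) (tt N18448 (iv4 F51112)) (tt N20912 F51109) (tt N42062 D69108) (tt N22868 (iv7 F54554)))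
theorem Q21340 : ∀ i, i < 21340 → P i := stepQ 21339 Q21339 (allL N21339 (tt N18452 F51115) (tt N18442 F51116) (tt N18448 F51113) (tt N31796 (iv3 F81346)) (tt N10419 (iv4 D32151)) (tt N31795 F81344) (tt N27846 (iv6 F315276)) (tt N13728 F314852))
theorem Q21341 : ∀ i, i < 21341 → P i := stepQ 21340 Q21340 (allL N21340 (tt N42063 D69110) (tt N42064 D69111) (tt N42062 (iv2 F105404)) (tt N10421 F51117) (tt N27846 (iv4 F315275)) (tt N42065 D69112) (tt N10419 (iv6 D32152)) (tt N27704 F312911))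
theorem Q21342 : ∀ i, i < 21342 → P i := stepQ 21341 Q21341 (allL N21341 (tt N10423 (iv1 F51119)) (tt N10420 (iv0 D32153)) (tt N42028 F105295) (tt N42066 D69114) (tt N21084 F51118) (tt N41980 (iv5 F105208)) (tt N42067 D69115) (tt N42029 (iv7 F105298)))
theorem Q21343 : ∀ i, i < 21343 → P i := stepQ 21342 Q21342 (allL N21342 (tt N10420 (iv1 D32154)) (tt N10423 F51120) (tt N42029 F105300) (tt N42068 D69116) (tt N41958 (iv4 F105168)) (tt N41981 (iv5 F105211)) (tt N42069 D69117) (tt N42028 F105296))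
theorem Q21344 : ∀ i, i < 21344 → P i := stepQ 21343 Q21343 (allL N21343 (tt N18198 F51121) (tt N31169 (iv0 F80047)) (tt N31335 (iv2 F80462)) (tt N10420 (iv3 D32155)) (tt N31796 (iv4 F81348)) (tt N16044 (iv5 F51122)) (tt N42070 D69118) (tt N31338 (iv7 F80470)))
theorem Q21345 : ∀ i, i < 21345 → P i := stepQ 21344 Q21344 (allL N21344 (tt N42071 D69119) (tt N42072 D69120) (tt N42031 (iv2 F105302)) (tt N16044 F51123) (tt N27489 F317124) (tt N10420 (iv5 D32156)) (tt N29128 (iv6 F319398)) (tt N31337 (iv7 F80465)))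
theorem Q21346 : ∀ i, i < 21346 → P i := stepQ 21345 Q21345 (allL N21345 (tt N42073 D69122) (tt N42074 D69123) (tt N42032 (iv2 F105306)) (tt N42070 (iv3 F105415)) (tt N10421 F51124) (tt N42075 D69124) (tt N10420 (iv6 D32157)) (tt N42076 D69125))
theorem Q21347 : ∀ i, i < 21347 → P i := stepQ 21346 Q21346 (allL N21346 (tt N42035 (iv1 F105315)) (tt N10421 (iv0 D32158)) (tt N33762 (iv2 F242917)) (tt N33711 (iv3 F242919)) (tt N42077 D69128) (tt N42078 D69129) (tt N42079 D69130) (tt N42033 F241113))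
theorem Q21348 : ∀ i, i < 21348 → P i := stepQ 21347 Q21347 (allL N21347 (tt N10421 (iv1 D32159)) (tt N42035 F105314) (tt N42033 F241107) (tt N10441 (iv3 F242916)) (tt N42080 D69133) (tt N42081 D69134) (tt N42082 D69135) (tt N33762 (iv7 F242918)))
theorem Q21349 : ∀ i, i < 21349 → P i := stepQ 21348 Q21348 (allL N21348 (tt N42083 D69136) (tt N16748 F319188) (tt N42034 (iv2 F105309)) (tt N42065 (iv3 F105410)) (tt N42084 D69138) (tt N10421 (iv5 D32160)) (tt N33919 F86171) (tt N42085 D69139))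
theorem Q21350 : ∀ i, i < 21350 → P i := stepQ 21349 Q21349 (allL N21349 (tt N42033 (iv1 F105308)) (tt N33762 F242921) (tt N42035 (iv2 F105311)) (tt N27704 (iv3 F310644)) (tt N42076 (iv4 F105425)) (tt N42085 (iv5 F105432)) (tt N27702 F308663) (tt N10421 (iv7 D32161)))
theorem Q21351 : ∀ i, i < 21351 → P i := stepQ 21350 Q21350 (allL N21350 (tt N21100 (iv1 F51127)) (tt N21098 F51126) (tt N10422 (iv2 D32162)) (tt N22868 (iv3 F54553)) (tt N34057 (iv4 F314525)) (tt N20948 F51125) (tt N27696 F313002) (tt N41715 (iv7 F104807)))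
theorem Q21352 : ∀ i, i < 21352 → P i := stepQ 21351 Q21351 (allL N21351 (tt N42086 D69149) (tt N42087 D69150) (tt N42088 D69151) (tt N10423 (iv3 D32165)) (tt N34078 (iv4 F310813)) (tt N42089 D69152) (tt N34077 F308681) (tt N42030 (iv7 F105301)))
theorem Q21353 : ∀ i, i < 21353 → P i := stepQ 21352 Q21352 (allL N21352 (tt N42072 (iv1 F105420)) (tt N42071 F105417) (tt N31337 (iv2 F80467)) (tt N42089 (iv3 F105448)) (tt N36328 (iv4 F94394)) (tt N10423 (iv5 D32166)) (tt N42090 D69154) (tt N42031 (iv7 F105303)))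
theorem Q21354 : ∀ i, i < 21354 → P i := stepQ 21353 Q21353 (allL N21353 (tt N42091 D69155) (tt N42092 D69156) (tt N42036 (iv2 F105319)) (tt N34077 (iv3 F306843)) (tt N10424 F51132) (tt N24494 F304912) (tt N10423 (iv6 D32167)) (tt N42093 D69158))
theorem Q21355 : ∀ i, i < 21355 → P i := stepQ 21354 Q21354 (allL N21354 (tt N10424 (iv1 D32169)) (tt N27702 (iv0 F306832)) (tt N33773 (iv2 F190432)) (tt N33717 F190431) (tt N42094 D69166) (tt N27722 F305611) (tt N42095 D69168) (tt N41942 (iv7 F305908)))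
theorem Q21356 : ∀ i, i < 21356 → P i := stepQ 21355 Q21355 (allL N21355 (tt N17544 (iv1 F305638)) (tt N27700 F304895) (tt N12011 (iv2 F305646)) (tt N27695 (iv3 F306830)) (tt N42096 D69171) (tt N10424 (iv5 D32170)) (tt N22804 (iv6 F54441)) (tt N27701 (iv7 F305645)))
theorem Q21357 : ∀ i, i < 21357 → P i := stepQ 21356 Q21356 (allL N21356 (tt N33773 F190802) (tt N41942 F306563) (tt N27702 (iv2 F306833)) (tt N34085 (iv3 F308397)) (tt N42093 (iv4 F105450)) (tt N27701 F306564) (tt N42035 (iv6 F105312)) (tt N10424 (iv7 D32171)))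
theorem Q21358 : ∀ i, i < 21358 → P i := stepQ 21357 Q21357 (allL N21357 (tt N42097 D69173) (tt N42098 D69174) (tt N42099 D69175) (tt N10425 (iv3 D32173)) (tt N42100 D69176) (tt N42101 D69177) (tt N42102 D69178) (tt N42040 (iv7 F105333)))
theorem Q21359 : ∀ i, i < 21359 → P i := stepQ 21358 Q21358 (allL N21358 (tt N36289 (iv1 F94302)) (tt N33493 F84955) (tt N29731 (iv2 F77123)) (tt N41355 (iv3 F104003)) (tt N10425 (iv4 D32174)) (tt N10504 F51134) (tt N42103 D69179) (tt N41328 (iv7 F103935)))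
theorem Q21360 : ∀ i, i < 21360 → P i := stepQ 21359 Q21359 (allL N21359 (tt N42104 D69180) (tt N41320 (iv0 F103926)) (tt N42038 (iv2 F105328)) (tt N42101 (iv3 F105459)) (tt N27313 F318909) (tt N10425 (iv5 D32175)) (tt N27322 (iv6 F320998)) (tt N42041 (iv7 F105335)))
theorem Q21361 : ∀ i, i < 21361 → P i := stepQ 21360 Q21360 (allL N21360 (tt N42077 (iv1 F242682)) (tt N42080 (iv0 F242683)) (tt N42039 (iv2 F105332)) (tt N42102 (iv3 F105460)) (tt N42103 (iv4 F105461)) (tt N42105 D69184) (tt N10425 (iv6 D32176)) (tt N42106 D69185))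
theorem Q21362 : ∀ i, i < 21362 → P i := stepQ 21361 Q21361 (allL N21361 (tt N42107 D69186) (tt N25335 (iv0 F314976)) (tt N42108 D69188) (tt N10426 (iv3 D32178)) (tt N42109 D69189) (tt N32028 F105482) (tt N42110 D69190) (tt N42037 (iv7 F105327)))
theorem Q21363 : ∀ i, i < 21363 → P i := stepQ 21362 Q21362 (allL N21362 (tt N33493 F84954) (tt N36289 (iv0 F94301)) (tt N41328 (iv2 F103934)) (tt N29728 F77111) (tt N10426 (iv4 D32179)) (tt N10505 F54266) (tt N42111 D69191) (tt N29731 (iv7 F77119)))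
theorem Q21364 : ∀ i, i < 21364 → P i := stepQ 21363 Q21363 (allL N21363 (tt N41320 (iv1 F103927)) (tt N42104 F105465) (tt N42041 (iv2 F105334)) (tt N32028 (iv3 F105468)) (tt N36324 (iv4 F94383)) (tt N10426 (iv5 D32180)) (tt N42112 D69192) (tt N42038 (iv7 F105329)))
theorem Q21365 : ∀ i, i < 21365 → P i := stepQ 21364 Q21364 (allL N21364 (tt N41933 F304914) (tt N42094 (iv0 F191047)) (tt N42042 (iv2 F105338)) (tt N42110 (iv3 F105483)) (tt N42111 (iv4 F105484)) (tt N42113 D69195) (tt N10426 (iv6 D32181)) (tt N42114 D69196))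
theorem Q21366 : ∀ i, i < 21366 → P i := stepQ 21365 Q21365 (allL N21365 (tt N33437 (iv1 F84775)) (tt N10427 (iv0 D32182)) (tt N33444 (iv2 F84786)) (tt N42115 D69197) (tt N42116 D69198) (tt N42117 D69199) (tt N42118 D69200) (tt N33443 F84787))
theorem Q21367 : ∀ i, i < 21367 → P i := stepQ 21366 Q21366 (allL N21366 (tt N10427 (iv1 D32183)) (tt N33437 F84774) (tt N33443 F84785) (tt N31997 (iv3 F81994)) (tt N42119 D69201) (tt N31996 F81995) (tt N41932 (iv6 F321623)) (tt N33444 (iv7 F84784)))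
theorem Q21368 : ∀ i, i < 21368 → P i := stepQ 21367 Q21367 (allL N21367 (tt N33444 (iv1 F84781)) (tt N33443 F84780) (tt N10427 (iv2 D32184)) (tt N42045 (iv3 F105339)) (tt N10452 F51136) (tt N42120 D69203) (tt N42121 D69204) (tt N33437 (iv7 F84773)))
theorem Q21369 : ∀ i, i < 21369 → P i := stepQ 21368 Q21368 (allL N21368 (tt N42122 D69205) (tt N30563 (iv0 F78877)) (tt N42120 (iv2 F105496)) (tt N10428 F51137) (tt N42123 D69206) (tt N10427 (iv5 D32185)) (tt N42124 D69207) (tt N33445 (iv7 F84789)))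
theorem Q21370 : ∀ i, i < 21370 → P i := stepQ 21369 Q21369 (allL N21369 (tt N42125 D69208) (tt N42126 D69209) (tt N42121 (iv2 F105497)) (tt N10429 F51138) (tt N10453 F51139) (tt N42127 D69210) (tt N10427 (iv6 D32186)) (tt N42128 D69211))
theorem Q21371 : ∀ i, i < 21371 → P i := stepQ 21370 Q21370 (allL N21370 (tt N36335 (iv1 F94407)) (tt N10428 (iv0 D32187)) (tt N42048 F105345) (tt N42129 D69212) (tt N36311 (iv4 F94351)) (tt N36290 (iv5 F94303)) (tt N42130 D69213) (tt N42049 (iv7 F105390)))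
theorem Q21372 : ∀ i, i < 21372 → P i := stepQ 21371 Q21371 (allL N21371 (tt N10428 (iv1 D32188)) (tt N36335 (iv0 F94406)) (tt N42049 F105392) (tt N23794 F318606) (tt N36297 F94320) (tt N36308 (iv5 F94348)) (tt N42131 D69214) (tt N42048 F105346))
theorem Q21373 : ∀ i, i < 21373 → P i := stepQ 21372 Q21372 (allL N21372 (tt N31785 F81306) (tt N36334 F94403) (tt N36337 (iv2 F94409)) (tt N42132 D69215) (tt N10428 (iv4 D32189)) (tt N27488 F317117) (tt N42133 D69216) (tt N36317 (iv7 F94366)))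
theorem Q21374 : ∀ i, i < 21374 → P i := stepQ 21373 Q21373 (allL N21373 (tt N42134 D69217) (tt N23697 (iv0 F336338)) (tt N42050 (iv2 F105393)) (tt N42124 (iv3 F105500)) (tt N42133 (iv4 F105504)) (tt N42135 D69219) (tt N10428 (iv6 D32190)) (tt N42136 D69220))
theorem Q21375 : ∀ i, i < 21375 → P i := stepQ 21374 Q21374 (allL N21374 (tt N42049 (iv1 F105389)) (tt N42048 F105343) (tt N36335 (iv2 F94404)) (tt N33445 (iv3 F84788)) (tt N36317 (iv4 F94367)) (tt N10430 F51140) (tt N23492 F333995) (tt N10428 (iv7 D32191)))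
theorem Q21376 : ∀ i, i < 21376 → P i := stepQ 21375 Q21375 (allL N21375 (tt N42054 (iv1 F105400)) (tt N10429 (iv0 D32192)) (tt N42051 F233773) (tt N42137 D69223) (tt N42138 D69224) (tt N42139 D69225) (tt N42140 D69226) (tt N42052 (iv7 F233781)))
theorem Q21377 : ∀ i, i < 21377 → P i := stepQ 21376 Q21376 (allL N21376 (tt N10429 (iv1 D32193)) (tt N42054 F105399) (tt N42052 (iv2 F233780)) (tt N42141 D69228) (tt N42142 D69229) (tt N42143 D69230) (tt N42144 D69231) (tt N42051 F233779))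
theorem Q21378 : ∀ i, i < 21378 → P i := stepQ 21377 Q21377 (allL N21377 (tt N42145 D69232) (tt N42146 D69233) (tt N42053 (iv2 F105395)) (tt N42127 (iv3 F105501)) (tt N42147 D69234) (tt N10429 (iv5 D32194)) (tt N42135 (iv6 F105505)) (tt N42148 D69235))
theorem Q21379 : ∀ i, i < 21379 → P i := stepQ 21378 Q21378 (allL N21378 (tt N42052 (iv1 F105394)) (tt N42051 F105398) (tt N42054 (iv2 F105396)) (tt N42128 (iv3 F105502)) (tt N10433 F51141) (tt N42148 (iv5 F105508)) (tt N42149 D69236) (tt N10429 (iv7 D32195)))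
theorem Q21380 : ∀ i, i < 21380 → P i := stepQ 21379 Q21379 (allL N21379 (tt N42150 D69237) (tt N42151 D69238) (tt N41945 (iv2 F105122)) (tt N33446 (iv3 F84791)) (tt N10434 F51142) (tt N42152 D69239) (tt N10430 (iv6 D32196)) (tt N42149 (iv7 F105510)))
theorem Q21381 : ∀ i, i < 21381 → P i := stepQ 21380 Q21380 (allL N21380 (tt N42153 D69246) (tt N41699 (iv0 F130786)) (tt N42154 D69248) (tt N10431 (iv3 D32198)) (tt N42155 D69249) (tt N42156 D69250) (tt N42157 D69251) (tt N42059 (iv7 F192058)))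
theorem Q21382 : ∀ i, i < 21382 → P i := stepQ 21381 Q21381 (allL N21381 (tt N42158 D69253) (tt N42069 (iv0 F230629)) (tt N42056 (iv2 F192052)) (tt N42159 D69255) (tt N10431 (iv4 D32199)) (tt N42160 D69256) (tt N42161 D69257) (tt N42060 (iv7 F192060)))
theorem Q21383 : ∀ i, i < 21383 → P i := stepQ 21382 Q21382 (allL N21382 (tt N42162 D69259) (tt N34049 F190151) (tt N42057 (iv2 F192048)) (tt N42156 (iv3 F105521)) (tt N42163 D69261) (tt N10431 (iv5 D32200)) (tt N42164 D69262) (tt N34544 (iv7 F192062)))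
theorem Q21384 : ∀ i, i < 21384 → P i := stepQ 21383 Q21383 (allL N21383 (tt N42095 (iv1 F185299)) (tt N42165 D69265) (tt N42058 (iv2 F192054)) (tt N42157 (iv3 F105522)) (tt N42161 (iv4 F105525)) (tt N42166 D69266) (tt N10431 (iv6 D32201)) (tt N42167 D69267))
theorem Q21385 : ∀ i, i < 21385 → P i := stepQ 21384 Q21384 (allL N21384 (tt N41991 (iv1 F232280)) (tt N42168 D69270) (tt N42169 D69271) (tt N10432 (iv3 D32203)) (tt N42170 D69272) (tt N42171 D69273) (tt N42172 D69274) (tt N42055 (iv7 F192051)))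
theorem Q21386 : ∀ i, i < 21386 → P i := stepQ 21385 Q21385 (allL N21385 (tt N42069 (iv1 F230630)) (tt N42158 F105528) (tt N42060 (iv2 F192059)) (tt N42173 D69275) (tt N10432 (iv4 D32204)) (tt N42174 D69276) (tt N42175 D69277) (tt N42056 (iv7 F192053)))
theorem Q21387 : ∀ i, i < 21387 → P i := stepQ 21386 Q21386 (allL N21386 (tt N34049 F190152) (tt N42162 F105534) (tt N34544 (iv2 F192061)) (tt N42171 (iv3 F105537)) (tt N42176 D69278) (tt N10432 (iv5 D32205)) (tt N34538 (iv6 F87797)) (tt N42057 (iv7 F192049)))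
theorem Q21388 : ∀ i, i < 21388 → P i := stepQ 21387 Q21387 (allL N21387 (tt N42177 D69279) (tt N42079 (iv0 F231171)) (tt N42061 (iv2 F192063)) (tt N42172 (iv3 F105538)) (tt N42175 (iv4 F105539)) (tt N42178 D69281) (tt N10432 (iv6 D32206)) (tt N42179 D69282))
theorem Q21389 : ∀ i, i < 21389 → P i := stepQ 21388 Q21388 (allL N21388 (tt N41947 (iv1 F105124)) (tt N41946 F105130) (tt N41949 (iv2 F105128)) (tt N10466 F51145) (tt N42149 (iv4 F105509)) (tt N35412 (iv5 F92224)) (tt N10433 (iv6 D32207)) (tt N10434 F51146))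
theorem Q21390 : ∀ i, i < 21390 → P i := stepQ 21389 Q21389 (allL N21389 (tt N41949 (iv1 F105132)) (tt N10434 (iv0 D32208)) (tt N41946 (iv2 F241161)) (tt N42180 D69284) (tt N42181 D69285) (tt N42182 D69286) (tt N42183 D69287) (tt N41947 F241160))
theorem Q21391 : ∀ i, i < 21391 → P i := stepQ 21390 Q21390 (allL N21390 (tt N10434 (iv1 D32209)) (tt N41949 F105131) (tt N41947 F241153) (tt N42184 D69289) (tt N42185 D69290) (tt N42186 D69291) (tt N42187 D69292) (tt N41946 (iv7 F241162)))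
theorem Q21392 : ∀ i, i < 21392 → P i := stepQ 21391 Q21391 (allL N21391 (tt N42188 D69293) (tt N42189 D69294) (tt N41948 (iv2 F105125)) (tt N10469 F51147) (tt N42190 D69295) (tt N10434 (iv5 D32210)) (tt N10436 F51148) (tt N35412 (iv7 F92225)))
theorem Q21393 : ∀ i, i < 21393 → P i := stepQ 21392 Q21392 (allL N21392 (tt N10898 F51152) (tt N10729 F51153) (tt N10900 F51149) (tt N10435 (iv3 D32211)) (tt N10900 F51150) (tt N42191 D69296) (tt N19070 (iv6 F53956)) (tt N10895 F51151))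
theorem Q21394 : ∀ i, i < 21394 → P i := stepQ 21393 Q21393 (allL N21393 (tt N21691 (iv1 F54207)) (tt N22253 F52845) (tt N10966 F51155) (tt N42191 (iv3 F105546)) (tt N42192 D69297) (tt N10435 (iv5 D32212)) (tt N42193 D69298) (tt N10967 F51156))
theorem Q21395 : ∀ i, i < 21395 → P i := stepQ 21394 Q21394 (allL N21394 (tt N10851 (iv1 F51157)) (tt N10436 (iv0 D32213)) (tt N10969 (iv2 F51163)) (tt N33919 F86170) (tt N42194 D69299) (tt N22867 (iv5 F54550)) (tt N42065 (iv6 F105411)) (tt N10968 F51162))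
theorem Q21396 : ∀ i, i < 21396 → P i := stepQ 21395 Q21395 (allL N21395 (tt N10436 (iv1 D32214)) (tt N10851 F51158) (tt N10968 F51160) (tt N42195 D69300) (tt N42196 D69301) (tt N19003 (iv5 F51159)) (tt N42197 D69302) (tt N10969 (iv7 F51161)))
theorem Q21397 : ∀ i, i < 21397 → P i := stepQ 21396 Q21396 (allL N21396 (tt N42198 D69303) (tt N42199 D69304) (tt N41950 (iv2 F105133)) (tt N42200 D69305) (tt N10436 (iv4 D32215)) (tt N42201 D69306) (tt N42190 (iv6 F105544)) (tt N10970 F51164))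
theorem Q21398 : ∀ i, i < 21398 → P i := stepQ 21397 Q21397 (allL N21397 (tt N33770 (iv1 F85581)) (tt N33769 F85580) (tt N10438 F51165) (tt N42202 D69307) (tt N10437 (iv4 D32216)) (tt N42203 D69308) (tt N42204 D69309) (tt N33767 (iv7 F85575)))
theorem Q21399 : ∀ i, i < 21399 → P i := stepQ 21398 Q21398 (allL N21398 (tt N42205 D69310) (tt N42206 D69311) (tt N10439 F51166) (tt N33754 (iv3 F85543)) (tt N42204 (iv4 F105584)) (tt N20712 F320523) (tt N10437 (iv6 D32217)) (tt N42207 D69313))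
theorem Q21400 : ∀ i, i < 21400 → P i := stepQ 21399 Q21399 (allL N21399 (tt N33767 (iv1 F85577)) (tt N10438 (iv0 D32218)) (tt N33770 (iv2 F85585)) (tt N22090 (iv3 F316574)) (tt N41747 (iv4 F104853)) (tt N41789 (iv5 F104899)) (tt N42208 D69315) (tt N33769 F85586))
theorem Q21401 : ∀ i, i < 21401 → P i := stepQ 21400 Q21400 (allL N21400 (tt N10438 (iv1 D32219)) (tt N33767 (iv0 F85576)) (tt N33769 F85584) (tt N42209 D69316) (tt N21081 (iv4 F51167)) (tt N41790 (iv5 F104900)) (tt N42210 D69317) (tt N33770 (iv7 F85583)))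
theorem Q21402 : ∀ i, i < 21402 → P i := stepQ 21401 Q21401 (allL N21401 (tt N42211 D69318) (tt N42212 D69319) (tt N42203 (iv2 F105581)) (tt N40468 (iv3 F101740)) (tt N42213 D69320) (tt N10438 (iv5 D32220)) (tt N42214 D69321) (tt N33771 (iv7 F85587)))
theorem Q21403 : ∀ i, i < 21403 → P i := stepQ 21402 Q21402 (allL N21402 (tt N42215 D69322) (tt N42216 D69323) (tt N42204 (iv2 F105583)) (tt N40469 (iv3 F101741)) (tt N10439 F51168) (tt N42217 D69324) (tt N10438 (iv6 D32221)) (tt N42218 D69325))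
theorem Q21404 : ∀ i, i < 21404 → P i := stepQ 21403 Q21403 (allL N21403 (tt N42207 (iv1 F105591)) (tt N10439 (iv0 D32222)) (tt N42205 F247812) (tt N42219 D69327) (tt N42220 D69328) (tt N42221 D69329) (tt N42222 D69330) (tt N42206 (iv7 F247821)))
theorem Q21405 : ∀ i, i < 21405 → P i := stepQ 21404 Q21404 (allL N21404 (tt N10439 (iv1 D32223)) (tt N42207 F105590) (tt N42206 (iv2 F247820)) (tt N42223 D69332) (tt N42224 D69333) (tt N42225 D69334) (tt N42226 D69335) (tt N42205 F247819))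
theorem Q21406 : ∀ i, i < 21406 → P i := stepQ 21405 Q21405 (allL N21405 (tt N20714 F320284) (tt N20695 F320285) (tt N20712 (iv2 F322261)) (tt N10442 F51169) (tt N42227 D69338) (tt N10439 (iv5 D32224)) (tt N18396 F51170) (tt N20587 F316148))
theorem Q21407 : ∀ i, i < 21407 → P i := stepQ 21406 Q21406 (allL N21406 (tt N42206 (iv1 F105585)) (tt N42205 F105589) (tt N42207 (iv2 F105588)) (tt N10443 F51171) (tt N42218 (iv4 F105601)) (tt N20587 F314739) (tt N23388 F312360) (tt N10439 (iv7 D32225)))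
theorem Q21408 : ∀ i, i < 21408 → P i := stepQ 21407 Q21407 (allL N21407 (tt N33713 (iv1 F184037)) (tt N33693 (iv0 F183454)) (tt N33711 (iv2 F183596)) (tt N10440 (iv3 D32227)) (tt N42228 D69349) (tt N42229 D69350) (tt N42230 D69351) (tt N33712 (iv7 F183598)))
theorem Q21409 : ∀ i, i < 21409 → P i := stepQ 21408 Q21408 (allL N21408 (tt N18998 F311329) (tt N20509 (iv0 F313608)) (tt N33763 (iv2 F183579)) (tt N42229 (iv3 F105616)) (tt N18801 (iv4 F313730)) (tt N10440 (iv5 D32229)) (tt N20369 (iv6 F313675)) (tt N33765 (iv7 F183559)))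
theorem Q21410 : ∀ i, i < 21410 → P i := stepQ 21409 Q21409 (allL N21409 (tt N10465 F85956) (tt N23991 F312718) (tt N33764 (iv2 F183581)) (tt N42230 (iv3 F105617)) (tt N22447 (iv4 F313158)) (tt N33624 F85285) (tt N10440 (iv6 D32230)) (tt N33803 (iv7 F183587)))
theorem Q21411 : ∀ i, i < 21411 → P i := stepQ 21410 Q21410 (allL N21410 (tt N20509 (iv1 F313609)) (tt N18998 F311328) (tt N33765 (iv2 F183558)) (tt N42081 F242923) (tt N18800 (iv4 F313728)) (tt N10441 (iv5 D32234)) (tt N22162 (iv6 F52593)) (tt N33763 (iv7 F183580)))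
theorem Q21412 : ∀ i, i < 21412 → P i := stepQ 21411 Q21411 (allL N21411 (tt N38159 F105629) (tt N33807 (iv0 F105942)) (tt N33766 (iv2 F183566)) (tt N42082 F242924) (tt N41027 (iv4 F110642)) (tt N42231 D69377) (tt N10441 (iv6 D32235)) (tt N42232 D69378))
theorem Q21413 : ∀ i, i < 21413 → P i := stepQ 21412 Q21412 (allL N21412 (tt N33756 (iv1 F85545)) (tt N33755 F85544) (tt N10445 F51178) (tt N42233 D69389) (tt N10444 (iv4 D32240)) (tt N42234 D69390) (tt N42235 D69391) (tt N33753 (iv7 F85539)))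
theorem Q21414 : ∀ i, i < 21414 → P i := stepQ 21413 Q21413 (allL N21413 (tt N42236 D69392) (tt N42237 D69393) (tt N10446 F51179) (tt N33768 (iv3 F85579)) (tt N42235 (iv4 F105674)) (tt N35043 (iv5 F307413)) (tt N10444 (iv6 D32241)) (tt N42238 D69394))
theorem Q21415 : ∀ i, i < 21415 → P i := stepQ 21414 Q21414 (allL N21414 (tt N33753 (iv1 F85541)) (tt N10445 (iv0 D32242)) (tt N33756 (iv2 F85549)) (tt N34514 (iv3 F353603)) (tt N41879 (iv4 F105034)) (tt N41915 (iv5 F105068)) (tt N42239 D69396) (tt N33755 F85550))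
theorem Q21416 : ∀ i, i < 21416 → P i := stepQ 21415 Q21415 (allL N21415 (tt N10445 (iv1 D32243)) (tt N33753 (iv0 F85540)) (tt N33755 F85548) (tt N42240 D69397) (tt N20964 (iv4 F51180)) (tt N41916 (iv5 F105069)) (tt N42241 D69398) (tt N33756 (iv7 F85547)))
theorem Q21417 : ∀ i, i < 21417 → P i := stepQ 21416 Q21416 (allL N21416 (tt N42242 D69399) (tt N42243 D69400) (tt N42234 (iv2 F105670)) (tt N40286 (iv3 F101446)) (tt N42244 D69401) (tt N10445 (iv5 D32244)) (tt N42245 D69402) (tt N33757 (iv7 F85551)))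
theorem Q21418 : ∀ i, i < 21418 → P i := stepQ 21417 Q21417 (allL N21417 (tt N17751 (iv1 F311633)) (tt N42246 D69404) (tt N42235 (iv2 F105673)) (tt N23378 (iv3 F311638)) (tt N10446 F51181) (tt N34494 (iv5 F311639)) (tt N10445 (iv6 D32245)) (tt N42247 D69406))
theorem Q21419 : ∀ i, i < 21419 → P i := stepQ 21418 Q21418 (allL N21418 (tt N42238 (iv1 F105679)) (tt N10446 (iv0 D32246)) (tt N42236 (iv2 F130322)) (tt N42248 D69408) (tt N42249 D69409) (tt N42250 D69410) (tt N42251 D69411) (tt N42237 (iv7 F130315)))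
theorem Q21420 : ∀ i, i < 21420 → P i := stepQ 21419 Q21419 (allL N21419 (tt N10446 (iv1 D32247)) (tt N42238 F105678) (tt N42237 (iv2 F130314)) (tt N25388 (iv3 F307408)) (tt N42252 D69414) (tt N25386 F305366) (tt N42253 D69416) (tt N42236 (iv7 F130323)))
theorem Q21421 : ∀ i, i < 21421 → P i := stepQ 21420 Q21420 (allL N21420 (tt N35040 (iv1 F309600)) (tt N27280 F309410) (tt N35043 F309411) (tt N10448 F51182) (tt N22301 (iv4 F311640)) (tt N10446 (iv5 D32248)) (tt N15233 F51183) (tt N23893 F309412))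
theorem Q21422 : ∀ i, i < 21422 → P i := stepQ 21421 Q21421 (allL N21421 (tt N42237 (iv1 F105675)) (tt N42236 F105677) (tt N42238 (iv2 F105676)) (tt N10449 F51184) (tt N42247 (iv4 F105689)) (tt N23893 (iv5 F307414)) (tt N33761 (iv6 F85556)) (tt N10446 (iv7 D32249)))
theorem Q21423 : ∀ i, i < 21423 → P i := stepQ 21422 Q21422 (allL N21422 (tt N33696 (iv1 F112123)) (tt N33718 (iv0 F112124)) (tt N33717 F186330) (tt N10447 (iv3 D32256)) (tt N42254 D69449) (tt N42255 D69450) (tt N42256 D69451) (tt N33661 (iv7 F308208)))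
theorem Q21424 : ∀ i, i < 21424 → P i := stepQ 21423 Q21423 (allL N21423 (tt N10688 (iv1 F307330)) (tt N10685 (iv0 F307331)) (tt N21700 F305349) (tt N42255 (iv3 F105748)) (tt N10635 (iv4 F306555)) (tt N10447 (iv5 D32258)) (tt N22827 (iv6 F54491)) (tt N17197 (iv7 F307332)))
theorem Q21425 : ∀ i, i < 21425 → P i := stepQ 21424 Q21424 (allL N21424 (tt N33796 F87274) (tt N10461 F87275) (tt N33774 (iv2 F105740)) (tt N42256 (iv3 F105749)) (tt N21683 (iv4 F307336)) (tt N42257 D69456) (tt N10447 (iv6 D32259)) (tt N33795 F105743))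
theorem Q21426 : ∀ i, i < 21426 → P i := stepQ 21425 Q21425 (allL N21425 (tt N42258 D69477) (tt N42259 D69478) (tt N33441 (iv2 F173386)) (tt N33498 F318240) (tt N10450 (iv4 D32265)) (tt N42260 D69480) (tt N33452 (iv6 F320388)) (tt N33439 (iv7 F173376)))
theorem Q21427 : ∀ i, i < 21427 → P i := stepQ 21426 Q21426 (allL N21426 (tt N41025 (iv1 F319135)) (tt N40842 (iv0 F180375)) (tt N21689 (iv2 F320385)) (tt N10451 (iv3 D32269)) (tt N42261 D69491) (tt N40175 (iv5 F105790)) (tt N21686 (iv6 F320519)) (tt N33440 (iv7 F173385)))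
theorem Q21428 : ∀ i, i < 21428 → P i := stepQ 21427 Q21427 (allL N21427 (tt N42259 (iv1 F105782)) (tt N42258 F105795) (tt N33439 (iv2 F173375)) (tt N42262 D69493) (tt N10451 (iv4 D32270)) (tt N42263 D69494) (tt N41930 (iv6 F321868)) (tt N33441 (iv7 F173387)))
theorem Q21429 : ∀ i, i < 21429 → P i := stepQ 21428 Q21428 (allL N21428 (tt N42264 D69500) (tt N41032 F316508) (tt N10453 F51192) (tt N33779 (iv3 F85601)) (tt N42121 (iv4 F105498)) (tt N42265 D69502) (tt N10452 (iv6 D32273)) (tt N42266 D69503))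
theorem Q21430 : ∀ i, i < 21430 → P i := stepQ 21429 Q21429 (allL N21429 (tt N42266 (iv1 F105805)) (tt N10453 (iv0 D32274)) (tt N42264 (iv2 F318751)) (tt N41037 (iv3 F320074)) (tt N42267 D69506) (tt N42268 D69507) (tt N41938 (iv6 F320075)) (tt N41032 (iv7 F320076)))
theorem Q21431 : ∀ i, i < 21431 → P i := stepQ 21430 Q21430 (allL N21430 (tt N10453 (iv1 D32275)) (tt N42266 F105804) (tt N41032 F320888) (tt N42269 D69510) (tt N42270 D69511) (tt N42271 D69512) (tt N41030 (iv6 F322635)) (tt N42264 F320889))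
theorem Q21432 : ∀ i, i < 21432 → P i := stepQ 21431 Q21431 (allL N21431 (tt N33952 (iv1 F317234)) (tt N42272 D69515) (tt N42265 (iv2 F105801)) (tt N10456 F51193) (tt N42273 D69516) (tt N10453 (iv5 D32276)) (tt N33450 (iv6 F84796)) (tt N37483 F315023))
theorem Q21433 : ∀ i, i < 21433 → P i := stepQ 21432 Q21432 (allL N21432 (tt N41032 (iv1 F314013)) (tt N42264 F105803) (tt N42266 (iv2 F105802)) (tt N10457 F51194) (tt N42128 (iv4 F105503)) (tt N37483 (iv5 F315011)) (tt N33447 (iv6 F84794)) (tt N10453 (iv7 D32277)))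
theorem Q21434 : ∀ i, i < 21434 → P i := stepQ 21433 Q21433 (allL N21433 (tt N42274 D69518) (tt N40858 F321821) (tt N42275 D69520) (tt N10454 (iv3 D32278)) (tt N42276 D69521) (tt N25380 (iv5 F315599)) (tt N42277 D69523) (tt N25379 (iv7 F315601)))
theorem Q21435 : ∀ i, i < 21435 → P i := stepQ 21434 Q21434 (allL N21434 (tt N38160 (iv1 F315603)) (tt N42278 D69525) (tt N33785 (iv2 F85607)) (tt N25380 (iv3 F315598)) (tt N35514 (iv4 F92729)) (tt N10454 (iv5 D32279)) (tt N27279 (iv6 F315597)) (tt N22032 (iv7 F315609)))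
theorem Q21436 : ∀ i, i < 21436 → P i := stepQ 21435 Q21435 (allL N21435 (tt N21683 F308783) (tt N41941 (iv0 F310527)) (tt N33786 (iv2 F85610)) (tt N42277 (iv3 F105811)) (tt N29746 (iv4 F77149)) (tt N42279 D69529) (tt N10454 (iv6 D32280)) (tt N22450 F308784))
theorem Q21437 : ∀ i, i < 21437 → P i := stepQ 21436 Q21436 (allL N21436 (tt N40775 F319988) (tt N42280 D69532) (tt N42281 D69533) (tt N10455 (iv3 D32281)) (tt N42282 D69534) (tt N42283 D69535) (tt N22445 (iv6 F315589)) (tt N33784 (iv7 F85606)))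
theorem Q21438 : ∀ i, i < 21438 → P i := stepQ 21437 Q21437 (allL N21437 (tt N42278 (iv1 F105824)) (tt N38160 (iv0 F315602)) (tt N22032 (iv2 F315607)) (tt N42283 (iv3 F105828)) (tt N23561 (iv4 F317786)) (tt N10455 (iv5 D32282)) (tt N17094 (iv6 F317788)) (tt N33785 (iv7 F85608)))
theorem Q21439 : ∀ i, i < 21439 → P i := stepQ 21438 Q21438 (allL N21438 (tt N18842 (iv1 F315385)) (tt N35522 F92746) (tt N33787 (iv2 F85628)) (tt N42284 D69546) (tt N10456 (iv4 D32286)) (tt N12520 F51195) (tt N33464 (iv6 F84843)) (tt N12536 (iv7 F51196)))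
theorem Q21440 : ∀ i, i < 21440 → P i := stepQ 21439 Q21439 (allL N21439 (tt N33798 (iv1 F85674)) (tt N10458 (iv0 D32294)) (tt N33797 F205253) (tt N42168 (iv3 F184824)) (tt N42285 D69550) (tt N11004 F184822) (tt N41728 (iv6 F232236)) (tt N33629 (iv7 F232237)))
theorem Q21441 : ∀ i, i < 21441 → P i := stepQ 21440 Q21440 (allL N21440 (tt N33797 (iv1 F85675)) (tt N33629 F232246) (tt N10458 (iv2 D32296)) (tt N33789 (iv3 F85640)) (tt N42286 D69558) (tt N42287 D69559) (tt N37628 F312187) (tt N33798 (iv7 F85673)))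
theorem Q21442 : ∀ i, i < 21442 → P i := stepQ 21441 Q21441 (allL N21441 (tt N42288 D69561) (tt N42210 (iv0 F131154)) (tt N42286 (iv2 F105838)) (tt N42289 D69563) (tt N10458 (iv4 D32297)) (tt N42290 D69564) (tt N42291 D69565) (tt N33799 (iv7 F85677)))
theorem Q21443 : ∀ i, i < 21443 → P i := stepQ 21442 Q21442 (allL N21442 (tt N42292 D69566) (tt N34024 (iv0 F232225)) (tt N42287 (iv2 F105839)) (tt N10460 F51209) (tt N34452 F304259) (tt N10458 (iv5 D32298)) (tt N34450 F304260) (tt N33800 (iv7 F85679)))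
theorem Q21444 : ∀ i, i < 21444 → P i := stepQ 21443 Q21443 (allL N21443 (tt N42293 D69570) (tt N42294 D69571) (tt N37628 F311211) (tt N10461 F51210) (tt N42291 (iv4 F105842)) (tt N37625 F311212) (tt N10458 (iv6 D32299)) (tt N42295 D69573))
theorem Q21445 : ∀ i, i < 21445 → P i := stepQ 21444 Q21444 (allL N21444 (tt N10463 (iv1 F51216)) (tt N10459 (iv0 D32301)) (tt N18465 (iv2 F51213)) (tt N42296 D69574) (tt N14833 F51212) (tt N19044 F313165) (tt N18378 (iv6 F51215)) (tt N14830 F51214))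
theorem Q21446 : ∀ i, i < 21446 → P i := stepQ 21445 Q21445 (allL N21445 (tt N42297 D69576) (tt N40466 F321791) (tt N42298 D69578) (tt N10459 (iv3 D32302)) (tt N42289 (iv4 F105841)) (tt N42299 D69579) (tt N42300 D69580) (tt N33802 (iv7 F85682)))
theorem Q21447 : ∀ i, i < 21447 → P i := stepQ 21446 Q21446 (allL N21446 (tt N37622 (iv1 F315561)) (tt N37648 (iv0 F315562)) (tt N33793 (iv2 F85650)) (tt N42299 (iv3 F105854)) (tt N35517 (iv4 F92739)) (tt N10459 (iv5 D32303)) (tt N37646 (iv6 F313459)) (tt N19518 (iv7 F315564)))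
theorem Q21448 : ∀ i, i < 21448 → P i := stepQ 21447 Q21447 (allL N21447 (tt N21147 F308777) (tt N42301 D69585) (tt N33794 (iv2 F85653)) (tt N42300 (iv3 F105855)) (tt N10461 F51217) (tt N42302 D69586) (tt N10459 (iv6 D32304)) (tt N23992 (iv7 F308786)))
theorem Q21449 : ∀ i, i < 21449 → P i := stepQ 21448 Q21448 (allL N21448 (tt N10464 (iv1 F51225)) (tt N10460 (iv0 D32306)) (tt N22509 (iv2 F53260)) (tt N42303 D69588) (tt N11338 F51220) (tt N17303 (iv5 F51222)) (tt N22453 (iv6 F53145)) (tt N10845 F51224))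
theorem Q21450 : ∀ i, i < 21450 → P i := stepQ 21449 Q21449 (allL N21449 (tt N10784 F51228) (tt N22485 (iv0 F53217)) (tt N23914 (iv2 F300758)) (tt N34450 (iv3 F301440)) (tt N11958 F298783) (tt N34321 (iv5 F87196)) (tt N10460 (iv6 D32307)) (tt N11322 F51232))
theorem Q21451 : ∀ i, i < 21451 → P i := stepQ 21450 Q21450 (allL N21450 (tt N10461 (iv1 D32310)) (tt N33796 F85669) (tt N33795 F105742) (tt N42165 (iv3 F190460)) (tt N41941 (iv4 F310528)) (tt N41043 F309000) (tt N41044 (iv6 F311152)) (tt N33774 (iv7 F105741)))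
theorem Q21452 : ∀ i, i < 21452 → P i := stepQ 21451 Q21451 (allL N21451 (tt N10641 F51340) (tt N33863 F85947) (tt N23057 F130854) (tt N37625 F309131) (tt N42304 D69591) (tt N10461 (iv5 D32311)) (tt N34321 F87198) (tt N33862 (iv7 F85948)))
theorem Q21453 : ∀ i, i < 21453 → P i := stepQ 21452 Q21452 (allL N21452 (tt N33795 (iv1 F85661)) (tt N33774 F85668) (tt N33796 (iv2 F85666)) (tt N42295 (iv3 F105846)) (tt N23992 (iv4 F308785)) (tt N33862 F85949) (tt N23991 (iv6 F310526)) (tt N10461 (iv7 D32312)))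
theorem Q21454 : ∀ i, i < 21454 → P i := stepQ 21453 Q21453 (allL N21453 (tt N10462 (iv1 D32314)) (tt N33789 F85644) (tt N33788 (iv2 F130932)) (tt N42153 (iv3 F229476)) (tt N42305 D69599) (tt N11015 (iv5 F130867)) (tt N41868 (iv6 F131040)) (tt N33604 (iv7 F130868)))
theorem Q21455 : ∀ i, i < 21455 → P i := stepQ 21454 Q21454 (allL N21454 (tt N33604 (iv1 F130861)) (tt N33788 F85639) (tt N10462 (iv2 D32315)) (tt N33798 (iv3 F85672)) (tt N42306 D69602) (tt N42307 D69603) (tt N42308 D69604) (tt N33789 (iv7 F85641)))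
theorem Q21456 : ∀ i, i < 21456 → P i := stepQ 21455 Q21455 (allL N21455 (tt N42239 (iv1 F230226)) (tt N42309 D69606) (tt N42306 (iv2 F105884)) (tt N42310 D69607) (tt N10462 (iv4 D32316)) (tt N42311 D69608) (tt N42312 D69609) (tt N33790 (iv7 F85645)))
theorem Q21457 : ∀ i, i < 21457 → P i := stepQ 21456 Q21456 (allL N21456 (tt N42313 D69610) (tt N42314 D69611) (tt N42307 (iv2 F105885)) (tt N10464 F51341) (tt N42315 D69612) (tt N10462 (iv5 D32317)) (tt N11318 (iv6 F51342)) (tt N33791 (iv7 F85647)))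
theorem Q21458 : ∀ i, i < 21458 → P i := stepQ 21457 Q21457 (allL N21457 (tt N41826 (iv1 F181022)) (tt N42316 D69614) (tt N42308 (iv2 F105887)) (tt N10465 F51343) (tt N42312 (iv4 F105889)) (tt N42317 D69615) (tt N10462 (iv6 D32318)) (tt N42318 D69616))
theorem Q21459 : ∀ i, i < 21459 → P i := stepQ 21458 Q21458 (allL N21458 (tt N40280 F320404) (tt N42319 D69618) (tt N42320 D69619) (tt N10463 (iv3 D32319)) (tt N42310 (iv4 F105888)) (tt N37647 (iv5 F317921)) (tt N23967 F315622) (tt N33792 (iv7 F85649)))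
theorem Q21460 : ∀ i, i < 21460 → P i := stepQ 21459 Q21459 (allL N21459 (tt N23991 F312719) (tt N10465 (iv0 D32322)) (tt N33803 (iv2 F183586)) (tt N42177 F242952) (tt N22446 (iv4 F313159)) (tt N33623 F85292) (tt N42232 (iv6 F105638)) (tt N33764 (iv7 F183582)))
theorem Q21461 : ∀ i, i < 21461 → P i := stepQ 21460 Q21460 (allL N21460 (tt N21219 F51347) (tt N21217 (iv0 F51346)) (tt N33804 (iv2 F85690)) (tt N42317 (iv3 F105891)) (tt N23995 (iv4 F315668)) (tt N10465 (iv5 D32324)) (tt N11319 F51345) (tt N42321 D69630))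
theorem Q21462 : ∀ i, i < 21462 → P i := stepQ 21461 Q21461 (allL N21461 (tt N33764 (iv1 F85955)) (tt N33803 F85696) (tt N23991 (iv2 F310525)) (tt N42318 (iv3 F105893)) (tt N10570 (iv4 F310941)) (tt N42321 (iv5 F105902)) (tt N33796 (iv6 F85667)) (tt N10465 (iv7 D32325)))
theorem Q21463 : ∀ i, i < 21463 → P i := stepQ 21462 Q21462 (allL N21462 (tt N41728 (iv1 F247752)) (tt N33633 (iv0 F247753)) (tt N41726 (iv2 F327180)) (tt N10467 (iv3 D32327)) (tt N42322 D69640) (tt N42323 D69641) (tt N42324 D69642) (tt N33808 (iv7 F105955)))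
theorem Q21464 : ∀ i, i < 21464 → P i := stepQ 21463 Q21463 (allL N21463 (tt N18378 F167436) (tt N14804 (iv0 F167437)) (tt N18376 F166579) (tt N42325 D69645) (tt N10467 (iv4 D32328)) (tt N33815 F310196) (tt N42326 D69647) (tt N18377 (iv7 F166583)))
theorem Q21465 : ∀ i, i < 21465 → P i := stepQ 21464 Q21464 (allL N21464 (tt N42327 D69648) (tt N42328 D69649) (tt N33806 (iv2 F105929)) (tt N42323 (iv3 F105958)) (tt N42329 D69650) (tt N10467 (iv5 D32329)) (tt N42330 D69651) (tt N33809 F105954))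
theorem Q21466 : ∀ i, i < 21466 → P i := stepQ 21465 Q21465 (allL N21465 (tt N33766 (iv1 F183565)) (tt N42232 (iv0 F105639)) (tt N33807 (iv2 F105931)) (tt N42324 (iv3 F105959)) (tt N42326 (iv4 F105963)) (tt N18973 F51349) (tt N10467 (iv6 D32330)) (tt N38159 F105939))
theorem Q21467 : ∀ i, i < 21467 → P i := stepQ 21466 Q21466 (allL N21466 (tt N33601 F237514) (tt N41868 (iv0 F237515)) (tt N41276 F322013) (tt N10468 (iv3 D32332)) (tt N42331 D69655) (tt N33546 F322014) (tt N42332 D69657) (tt N33805 (iv7 F105926)))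
theorem Q21468 : ∀ i, i < 21468 → P i := stepQ 21467 Q21467 (allL N21467 (tt N14804 (iv1 F167438)) (tt N18378 F167435) (tt N18377 (iv2 F166582)) (tt N42333 D69658) (tt N10468 (iv4 D32333)) (tt N33816 F310517) (tt N21154 (iv6 F312714)) (tt N18376 F166581))
theorem Q21469 : ∀ i, i < 21469 → P i := stepQ 21468 Q21468 (allL N21468 (tt N42328 (iv1 F105967)) (tt N42327 F105965) (tt N33809 F105953) (tt N33546 (iv3 F320534)) (tt N42334 D69661) (tt N10468 (iv5 D32334)) (tt N33544 F320310) (tt N33806 (iv7 F105930)))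
theorem Q21470 : ∀ i, i < 21470 → P i := stepQ 21469 Q21469 (allL N21469 (tt N41044 F313469) (tt N33659 F312723) (tt N33810 F105921) (tt N42332 (iv3 F106006)) (tt N21154 F312724) (tt N20664 (iv5 F315928)) (tt N10468 (iv6 D32335)) (tt N41939 F312725))
theorem Q21471 : ∀ i, i < 21471 → P i := stepQ 21470 Q21470 (allL N21470 (tt N12474 (iv1 F51351)) (tt N10469 (iv0 D32336)) (tt N33811 F200091) (tt N42335 D69665) (tt N42336 D69666) (tt N40837 F316197) (tt N20508 F316198) (tt N33812 (iv7 F200098)))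
theorem Q21472 : ∀ i, i < 21472 → P i := stepQ 21471 Q21471 (allL N21471 (tt N10469 (iv1 D32337)) (tt N12474 F51352) (tt N33812 (iv2 F200097)) (tt N42337 D69669) (tt N42338 D69670) (tt N41816 (iv5 F104925)) (tt N42339 D69671) (tt N33811 F200096))
theorem Q21473 : ∀ i, i < 21473 → P i := stepQ 21472 Q21472 (allL N21472 (tt N42340 D69672) (tt N42341 D69673) (tt N22569 (iv2 F53334)) (tt N42342 D69674) (tt N10469 (iv4 D32338)) (tt N25185 (iv5 F60394)) (tt N10470 F51353) (tt N35462 (iv7 F92378)))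
theorem Q21474 : ∀ i, i < 21474 → P i := stepQ 21473 Q21473 (allL N21473 (tt N42343 D69675) (tt N42344 D69676) (tt N42345 D69677) (tt N10470 (iv3 D32339)) (tt N42200 (iv4 F105578)) (tt N17326 F51354) (tt N42342 (iv6 F106018)) (tt N11040 F51355))
theorem Q21475 : ∀ i, i < 21475 → P i := stepQ 21474 Q21474 (allL N21474 (tt N23171 F55122) (tt N42346 D69678) (tt N32574 (iv2 F83114)) (tt N10471 (iv3 D32340)) (tt N11404 F51356) (tt N23360 (iv5 F55674)) (tt N32574 (iv6 F83116)) (tt N17332 F51357))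
theorem Q21476 : ∀ i, i < 21476 → P i := stepQ 21475 Q21475 (allL N21475 (tt N10596 F54159) (tt N23234 F55279) (tt N17333 F51358) (tt N23248 (iv3 F55298)) (tt N22582 (iv4 F53360)) (tt N42347 D69679) (tt N10472 (iv6 D32341)) (tt N23248 (iv7 F55296)))
theorem Q21477 : ∀ i, i < 21477 → P i := stepQ 21476 Q21476 (allL N21476 (tt N16471 F51361) (tt N16484 F51362) (tt N10474 F51359) (tt N23203 (iv3 F55181)) (tt N42348 D69680) (tt N10473 (iv5 D32342)) (tt N42349 D69681) (tt N16481 F51360))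
theorem Q21478 : ∀ i, i < 21478 → P i := stepQ 21477 Q21477 (allL N21477 (tt N41302 F103884) (tt N38204 (iv0 F97650)) (tt N10475 F51363) (tt N23204 (iv3 F55186)) (tt N10485 F51364) (tt N41755 (iv5 F104871)) (tt N10473 (iv6 D32343)) (tt N18410 (iv7 F51365)))
theorem Q21479 : ∀ i, i < 21479 → P i := stepQ 21478 Q21478 (allL N21478 (tt N17172 F51367) (tt N17200 F51368) (tt N42348 (iv2 F106033)) (tt N21538 (iv3 F51471)) (tt N10474 (iv4 D32344)) (tt N24263 (iv5 F58219)) (tt N42350 D69682) (tt N17334 F51366))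
theorem Q21480 : ∀ i, i < 21480 → P i := stepQ 21479 Q21479 (allL N21479 (tt N42351 D69683) (tt N42352 D69684) (tt N42349 (iv2 F106038)) (tt N10476 F51369) (tt N42350 (iv4 F106039)) (tt N42353 D69685) (tt N10474 (iv6 D32345)) (tt N42354 D69686))
theorem Q21481 : ∀ i, i < 21481 → P i := stepQ 21480 Q21480 (allL N21480 (tt N18410 (iv1 F51376)) (tt N10475 (iv0 D32346)) (tt N41302 F103885) (tt N42355 D69687) (tt N32095 (iv4 F82319)) (tt N41855 (iv5 F105005)) (tt N42356 D69688) (tt N38204 F97652))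
theorem Q21482 : ∀ i, i < 21482 → P i := stepQ 21481 Q21481 (allL N21481 (tt N10475 (iv1 D32347)) (tt N18410 F51370) (tt N38204 (iv2 F97648)) (tt N32412 F82793) (tt N33560 F85115) (tt N32526 (iv5 F83083)) (tt N18922 (iv6 F82794)) (tt N41302 (iv7 F103882)))
theorem Q21483 : ∀ i, i < 21483 → P i := stepQ 21482 Q21482 (allL N21482 (tt N42357 D69689) (tt N39656 F327582) (tt N41755 (iv2 F104870)) (tt N10479 F51371) (tt N42358 D69691) (tt N10475 (iv5 D32348)) (tt N42353 (iv6 F106041)) (tt N42359 D69692))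
theorem Q21484 : ∀ i, i < 21484 → P i := stepQ 21483 Q21483 (allL N21483 (tt N38204 (iv1 F97651)) (tt N41302 (iv0 F103883)) (tt N18410 F51372) (tt N10480 F51373) (tt N10488 F51374) (tt N42359 (iv5 F106060)) (tt N15718 F51375) (tt N10475 (iv7 D32349)))
theorem Q21485 : ∀ i, i < 21485 → P i := stepQ 21484 Q21484 (allL N21484 (tt N23213 (iv1 F55220)) (tt N10476 (iv0 D32350)) (tt N23210 F193475) (tt N42360 D69694) (tt N23200 F177812) (tt N42361 D69696) (tt N42362 D69697) (tt N23211 F193476))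
theorem Q21486 : ∀ i, i < 21486 → P i := stepQ 21485 Q21485 (allL N21485 (tt N10476 (iv1 D32351)) (tt N23213 F55219) (tt N23211 (iv2 F193471)) (tt N42363 D69699) (tt N23201 (iv4 F177837)) (tt N42364 D69701) (tt N42365 D69702) (tt N23210 (iv7 F193472)))
theorem Q21487 : ∀ i, i < 21487 → P i := stepQ 21486 Q21486 (allL N21486 (tt N42366 D69703) (tt N42367 D69704) (tt N23212 (iv2 F55214)) (tt N42353 (iv3 F106040)) (tt N42368 D69705) (tt N10476 (iv5 D32352)) (tt N10479 F51377) (tt N42369 D69706))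
theorem Q21488 : ∀ i, i < 21488 → P i := stepQ 21487 Q21487 (allL N21487 (tt N23211 (iv1 F55213)) (tt N23210 F55218) (tt N23213 (iv2 F55216)) (tt N42354 (iv3 F106042)) (tt N23831 (iv4 F56565)) (tt N42369 (iv5 F106070)) (tt N17338 F51378) (tt N10476 (iv7 D32353)))
theorem Q21489 : ∀ i, i < 21489 → P i := stepQ 21488 Q21488 (allL N21488 (tt N32477 (iv1 F82915)) (tt N32478 (iv0 F82918)) (tt N23192 (iv2 F55155)) (tt N29537 F85307) (tt N42370 D69707) (tt N10477 (iv5 D32354)) (tt N42371 D69708) (tt N23195 (iv7 F55170)))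
theorem Q21490 : ∀ i, i < 21490 → P i := stepQ 21489 Q21489 (allL N21489 (tt N17461 (iv1 F51381)) (tt N22577 (iv0 F53341)) (tt N23193 (iv2 F55158)) (tt N41340 (iv3 F103969)) (tt N11380 F51379) (tt N23135 (iv5 F55031)) (tt N10477 (iv6 D32355)) (tt N18630 F51380))
theorem Q21491 : ∀ i, i < 21491 → P i := stepQ 21490 Q21490 (allL N21490 (tt N23170 F82960) (tt N42372 D69709) (tt N41341 (iv2 F103973)) (tt N10478 (iv3 D32356)) (tt N21497 (iv4 F51390)) (tt N42373 D69710) (tt N18919 F51382) (tt N23191 (iv7 F55154)))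
theorem Q21492 : ∀ i, i < 21492 → P i := stepQ 21491 Q21491 (allL N21491 (tt N32478 (iv1 F82919)) (tt N32477 (iv0 F82914)) (tt N23195 (iv2 F55169)) (tt N42373 (iv3 F106072)) (tt N42374 D69711) (tt N10478 (iv5 D32357)) (tt N42375 D69712) (tt N23192 (iv7 F55156)))
theorem Q21493 : ∀ i, i < 21493 → P i := stepQ 21492 Q21492 (allL N21492 (tt N23216 (iv1 F55230)) (tt N10479 (iv0 D32358)) (tt N23214 F55222) (tt N41342 (iv3 F103979)) (tt N42376 D69713) (tt N16317 F51383) (tt N42377 D69714) (tt N16316 (iv7 F51384)))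
theorem Q21494 : ∀ i, i < 21494 → P i := stepQ 21493 Q21493 (allL N21493 (tt N10479 (iv1 D32359)) (tt N23216 F55229) (tt N16316 (iv2 F51386)) (tt N42378 D69715) (tt N42379 D69716) (tt N14719 F51385) (tt N42380 D69717) (tt N23214 (iv7 F55223)))
theorem Q21495 : ∀ i, i < 21495 → P i := stepQ 21494 Q21494 (allL N21494 (tt N42381 D69718) (tt N42382 D69719) (tt N23215 (iv2 F55225)) (tt N42383 D69720) (tt N10479 (iv4 D32360)) (tt N42384 D69721) (tt N42368 (iv6 F106069)) (tt N42385 D69722))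
theorem Q21496 : ∀ i, i < 21496 → P i := stepQ 21495 Q21495 (allL N21495 (tt N16316 (iv1 F51388)) (tt N23214 F55224) (tt N23216 (iv2 F55226)) (tt N42359 (iv3 F106059)) (tt N42385 (iv4 F106095)) (tt N10480 F51387) (tt N42386 D69723) (tt N10479 (iv7 D32361)))
theorem Q21497 : ∀ i, i < 21497 → P i := stepQ 21496 Q21496 (allL N21496 (tt N32475 (iv1 F82911)) (tt N14881 F51389) (tt N23265 (iv2 F55327)) (tt N41310 (iv3 F103900)) (tt N42387 D69724) (tt N10481 (iv5 D32362)) (tt N42388 D69725) (tt N23266 (iv7 F55330)))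
theorem Q21498 : ∀ i, i < 21498 → P i := stepQ 21497 Q21497 (allL N21497 (tt N29552 F76659) (tt N32416 (iv0 F82804)) (tt N32621 (iv2 F83237)) (tt N10482 (iv3 D32363)) (tt N21490 F51390) (tt N42389 D69726) (tt N18915 F51391) (tt N23264 (iv7 F55326)))
theorem Q21499 : ∀ i, i < 21499 → P i := stepQ 21498 Q21498 (allL N21498 (tt N14881 F51392) (tt N32475 (iv0 F82910)) (tt N23266 (iv2 F55329)) (tt N42389 (iv3 F106100)) (tt N42390 D69727) (tt N10482 (iv5 D32364)) (tt N42391 D69728) (tt N23265 (iv7 F55328)))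
theorem Q21500 : ∀ i, i < 21500 → P i := stepQ 21499 Q21499 (allL N21499 (tt N21763 (iv1 F51835)) (tt N32628 F83255) (tt N11779 F51393) (tt N32625 (iv3 F83244)) (tt N32836 (iv4 F83630)) (tt N10483 (iv5 D32365)) (tt N42392 D69729) (tt N17354 F51394))
theorem Q21501 : ∀ i, i < 21501 → P i := stepQ 21500 Q21500 (allL N21500 (tt N32628 (iv1 F83256)) (tt N21763 (iv0 F51834)) (tt N17354 F51395) (tt N11787 F51396) (tt N24265 (iv4 F58225)) (tt N10484 (iv5 D32366)) (tt N42393 D69730) (tt N11779 F51397))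
theorem Q21502 : ∀ i, i < 21502 → P i := stepQ 21501 Q21501 (allL N21501 (tt N22142 F52533) (tt N22138 F52519) (tt N14807 F51398) (tt N18394 F51399) (tt N32419 (iv4 F82813)) (tt N33751 (iv5 F85532)) (tt N10486 (iv6 D32367)) (tt N18969 F51400))
theorem Q21503 : ∀ i, i < 21503 → P i := stepQ 21502 Q21502 (allL N21502 (tt N42394 D69731) (tt N42395 D69732) (tt N21255 F51401) (tt N42396 D69733) (tt N10487 (iv4 D32368)) (tt N42397 D69734) (tt N23063 (iv6 F54933)) (tt N21252 F51402))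
theorem Q21504 : ∀ i, i < 21504 → P i := stepQ 21503 Q21503 (allL N21503 (tt N41834 F104971) (tt N42398 D69735) (tt N22882 (iv2 F54577)) (tt N33693 (iv3 F85454)) (tt N41851 (iv4 F105002)) (tt N11037 F51403) (tt N10489 (iv6 D32369)) (tt N42399 D69736))
theorem Q21505 : ∀ i, i < 21505 → P i := stepQ 21504 Q21504 (allL N21504 (tt N11417 F51408) (tt N16077 (iv0 F51409)) (tt N20936 F51404) (tt N11402 F51405) (tt N10490 (iv4 D32370)) (tt N42400 D69737) (tt N15180 F51406) (tt N20935 F51407))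
theorem Q21506 : ∀ i, i < 21506 → P i := stepQ 21505 Q21505 (allL N21505 (tt N33664 F85409) (tt N33630 (iv0 F85303)) (tt N33694 (iv2 F85456)) (tt N10491 F51410) (tt N42401 D69738) (tt N10490 (iv5 D32371)) (tt N42402 D69739) (tt N22879 (iv7 F54566)))
theorem Q21507 : ∀ i, i < 21507 → P i := stepQ 21506 Q21506 (allL N21506 (tt N21082 F51411) (tt N21085 F51412) (tt N22884 (iv2 F54583)) (tt N42403 D69740) (tt N10491 (iv4 D32372)) (tt N21508 (iv5 F51415)) (tt N42404 D69741) (tt N22881 (iv7 F54575)))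
theorem Q21508 : ∀ i, i < 21508 → P i := stepQ 21507 Q21507 (allL N21507 (tt N42248 (iv1 F130317)) (tt N42405 D69743) (tt N22885 (iv2 F54586)) (tt N42402 (iv3 F106132)) (tt N42404 (iv4 F106134)) (tt N18966 F51413) (tt N10491 (iv6 D32373)) (tt N42406 D69744))
theorem Q21509 : ∀ i, i < 21509 → P i := stepQ 21508 Q21508 (allL N21508 (tt N21077 F51417) (tt N11459 F51418) (tt N21229 F51414) (tt N42407 D69745) (tt N10492 (iv4 D32374)) (tt N21506 F51415) (tt N42408 D69746) (tt N16885 F51416))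
theorem Q21510 : ∀ i, i < 21510 → P i := stepQ 21509 Q21509 (allL N21509 (tt N42409 D69747) (tt N42410 D69748) (tt N21230 F51419) (tt N16929 F51420) (tt N42408 (iv4 F106142)) (tt N21275 F51421) (tt N10492 (iv6 D32375)) (tt N42411 D69749))
theorem Q21511 : ∀ i, i < 21511 → P i := stepQ 21510 Q21510 (allL N21510 (tt N42412 D69750) (tt N42413 D69751) (tt N42414 D69752) (tt N10493 (iv3 D32376)) (tt N42396 (iv4 F106116)) (tt N41690 (iv5 F104741)) (tt N23080 (iv6 F54956)) (tt N42415 D69753))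
theorem Q21512 : ∀ i, i < 21512 → P i := stepQ 21511 Q21511 (allL N21511 (tt N16851 (iv1 F51425)) (tt N21089 F51426) (tt N21137 F51422) (tt N42415 (iv3 F106151)) (tt N10494 F51423) (tt N11217 F51424) (tt N42416 D69754) (tt N10493 (iv7 D32377)))
theorem Q21513 : ∀ i, i < 21513 → P i := stepQ 21512 Q21512 (allL N21512 (tt N42417 D69755) (tt N42418 D69756) (tt N21226 F51427) (tt N21253 F51428) (tt N42416 (iv4 F106155)) (tt N17353 F51429) (tt N10494 (iv6 D32378)) (tt N23081 (iv7 F54957)))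
theorem Q21514 : ∀ i, i < 21514 → P i := stepQ 21513 Q21513 (allL N21513 (tt N10586 F54523) (tt N33834 F85802) (tt N22583 (iv2 F53370)) (tt N23373 (iv3 F55702)) (tt N42419 D69757) (tt N10499 (iv5 D32383)) (tt N36508 (iv6 F94719)) (tt N23381 (iv7 F55750)))
theorem Q21515 : ∀ i, i < 21515 → P i := stepQ 21514 Q21514 (allL N21514 (tt N10859 F51437) (tt N21795 F51902) (tt N10502 F51435) (tt N42420 D69758) (tt N10500 (iv4 D32384)) (tt N22853 (iv5 F54539)) (tt N42421 D69759) (tt N18511 F51436))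
theorem Q21516 : ∀ i, i < 21516 → P i := stepQ 21515 Q21515 (allL N21515 (tt N42422 D69760) (tt N42423 D69761) (tt N10503 F51438) (tt N21805 (iv3 F51928)) (tt N42421 (iv4 F106168)) (tt N42424 D69762) (tt N10500 (iv6 D32385)) (tt N42425 D69763))
theorem Q21517 : ∀ i, i < 21517 → P i := stepQ 21516 Q21516 (allL N21516 (tt N18434 F51440) (tt N18422 F51441) (tt N10506 F51439) (tt N23274 (iv3 F55363)) (tt N41952 (iv4 F105138)) (tt N10501 (iv5 D32386)) (tt N42424 (iv6 F106173)) (tt N41588 (iv7 F104497)))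
theorem Q21518 : ∀ i, i < 21518 → P i := stepQ 21517 Q21517 (allL N21517 (tt N35358 (iv1 F92159)) (tt N22295 (iv0 F52882)) (tt N22853 (iv2 F54538)) (tt N11941 F51442) (tt N22201 (iv4 F52712)) (tt N10502 (iv5 D32387)) (tt N42426 D69764) (tt N21796 (iv7 F51905)))
theorem Q21519 : ∀ i, i < 21519 → P i := stepQ 21518 Q21518 (allL N21518 (tt N42427 D69765) (tt N42428 D69766) (tt N42421 (iv2 F106167)) (tt N11942 F51443) (tt N10503 F51444) (tt N42429 D69767) (tt N10502 (iv6 D32388)) (tt N42430 D69768))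
theorem Q21520 : ∀ i, i < 21520 → P i := stepQ 21519 Q21519 (allL N21519 (tt N42425 (iv1 F106177)) (tt N10503 (iv0 D32389)) (tt N42422 (iv2 F233736)) (tt N42431 D69770) (tt N42432 D69771) (tt N42433 D69772) (tt N42434 D69773) (tt N42423 (iv7 F233739)))
theorem Q21521 : ∀ i, i < 21521 → P i := stepQ 21520 Q21520 (allL N21520 (tt N10503 (iv1 D32390)) (tt N42425 F106176) (tt N42423 (iv2 F233738)) (tt N42435 D69775) (tt N42436 D69776) (tt N42437 D69777) (tt N42438 D69778) (tt N42422 (iv7 F233737)))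
theorem Q21522 : ∀ i, i < 21522 → P i := stepQ 21521 Q21521 (allL N21521 (tt N42439 D69779) (tt N42440 D69780) (tt N42424 (iv2 F106172)) (tt N10507 F51445) (tt N41975 (iv4 F105205)) (tt N10503 (iv5 D32391)) (tt N10506 F51446) (tt N42441 D69781))
theorem Q21523 : ∀ i, i < 21523 → P i := stepQ 21522 Q21522 (allL N21522 (tt N42423 (iv1 F106171)) (tt N42422 (iv0 F106170)) (tt N42425 (iv2 F106174)) (tt N10508 F51447) (tt N42430 (iv4 F106181)) (tt N42441 (iv5 F106186)) (tt N21800 (iv6 F51911)) (tt N10503 (iv7 D32392)))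
theorem Q21524 : ∀ i, i < 21524 → P i := stepQ 21523 Q21523 (allL N21523 (tt N23383 (iv1 F79146)) (tt N22578 F79147) (tt N23387 (iv2 F79151)) (tt N41356 (iv3 F104005)) (tt N33489 (iv4 F84937)) (tt N36355 (iv5 F94428)) (tt N10504 (iv6 D32394)) (tt N23386 F55768))
theorem Q21525 : ∀ i, i < 21525 → P i := stepQ 21524 Q21524 (allL N21524 (tt N41588 (iv1 F104499)) (tt N10506 (iv0 D32400)) (tt N18434 F54322) (tt N41359 F104020) (tt N41318 (iv4 F103920)) (tt N18423 (iv5 F54314)) (tt N42442 D69782) (tt N18422 F54323))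
theorem Q21526 : ∀ i, i < 21526 → P i := stepQ 21525 Q21525 (allL N21525 (tt N10506 (iv1 D32401)) (tt N41588 (iv0 F104498)) (tt N18422 (iv2 F54325)) (tt N14816 (iv3 F51451)) (tt N41319 F103924) (tt N14814 F51450) (tt N42443 D69783) (tt N18434 F54324))
theorem Q21527 : ∀ i, i < 21527 → P i := stepQ 21526 Q21526 (allL N21526 (tt N34560 (iv1 F87847)) (tt N25148 (iv0 F60363)) (tt N21811 (iv2 F51948)) (tt N42444 D69784) (tt N10507 (iv4 D32402)) (tt N25202 (iv5 F60463)) (tt N10509 F51452) (tt N25500 (iv7 F61220)))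
theorem Q21528 : ∀ i, i < 21528 → P i := stepQ 21527 Q21527 (allL N21527 (tt N12494 (iv1 F51454)) (tt N17974 F51455) (tt N21812 (iv2 F51950)) (tt N42441 (iv3 F106185)) (tt N25500 (iv4 F61219)) (tt N10508 F51453) (tt N41594 (iv6 F104511)) (tt N10507 (iv7 D32403)))
theorem Q21529 : ∀ i, i < 21529 → P i := stepQ 21528 Q21528 (allL N21528 (tt N42445 D69785) (tt N42446 D69786) (tt N42447 D69787) (tt N10509 (iv3 D32404)) (tt N41973 (iv4 F105203)) (tt N41686 (iv5 F104730)) (tt N42444 (iv6 F106191)) (tt N41591 (iv7 F104508)))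
theorem Q21530 : ∀ i, i < 21530 → P i := stepQ 21529 Q21529 (allL N21529 (tt N29751 (iv1 F77176)) (tt N29753 (iv0 F77187)) (tt N23269 (iv2 F55342)) (tt N33973 (iv3 F86355)) (tt N29593 (iv4 F76776)) (tt N10510 (iv5 D32405)) (tt N42448 D69788) (tt N23267 (iv7 F55333)))
theorem Q21531 : ∀ i, i < 21531 → P i := stepQ 21530 Q21530 (allL N21530 (tt N11490 F54142) (tt N11487 F54143) (tt N23270 (iv2 F55347)) (tt N23372 (iv3 F55696)) (tt N10511 F51456) (tt N14032 F54144) (tt N10510 (iv6 D32406)) (tt N23372 (iv7 F55698)))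
theorem Q21532 : ∀ i, i < 21532 → P i := stepQ 21531 Q21531 (allL N21531 (tt N33831 (iv1 F85788)) (tt N10589 F54244) (tt N23271 (iv2 F55354)) (tt N23381 (iv3 F55749)) (tt N42449 D69789) (tt N10511 (iv5 D32409)) (tt N29789 (iv6 F77312)) (tt N23373 (iv7 F55703)))
theorem Q21533 : ∀ i, i < 21533 → P i := stepQ 21532 Q21532 (allL N21532 (tt N29753 (iv1 F77188)) (tt N29751 (iv0 F77175)) (tt N23267 (iv2 F55331)) (tt N21660 F51650) (tt N21662 (iv4 F51652)) (tt N10513 (iv5 D32410)) (tt N42450 D69790) (tt N23269 (iv7 F55344)))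
theorem Q21534 : ∀ i, i < 21534 → P i := stepQ 21533 Q21533 (allL N21533 (tt N14749 F51459) (tt N14746 F51460) (tt N10519 F51457) (tt N16481 F51458) (tt N33772 F311601) (tt N10515 (iv5 D32411)) (tt N42451 D69792) (tt N23203 (iv7 F55182)))
theorem Q21535 : ∀ i, i < 21535 → P i := stepQ 21534 Q21534 (allL N21534 (tt N19119 F301136) (tt N21806 F51930) (tt N10522 F51461) (tt N42452 D69793) (tt N10516 (iv4 D32412)) (tt N21820 F301137) (tt N42453 D69794) (tt N21804 (iv7 F51924)))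
theorem Q21536 : ∀ i, i < 21536 → P i := stepQ 21535 Q21535 (allL N21535 (tt N42454 D69795) (tt N42455 D69796) (tt N10523 F51462) (tt N18512 F51463) (tt N42453 (iv4 F106206)) (tt N30541 (iv5 F78847)) (tt N10516 (iv6 D32413)) (tt N42456 D69797))
theorem Q21537 : ∀ i, i < 21537 → P i := stepQ 21536 Q21536 (allL N21536 (tt N26935 (iv1 F68283)) (tt N23168 (iv0 F55116)) (tt N14917 F51464) (tt N10518 (iv3 D32414)) (tt N16386 F51465) (tt N29590 (iv5 F76772)) (tt N14916 F51466) (tt N13248 F51467))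
theorem Q21538 : ∀ i, i < 21538 → P i := stepQ 21537 Q21537 (allL N21537 (tt N23203 (iv1 F55184)) (tt N10519 (iv0 D32415)) (tt N14749 (iv2 F51469)) (tt N23903 F56735) (tt N24304 (iv4 F58276)) (tt N11361 F51468) (tt N36326 (iv6 F312043)) (tt N14746 F51470))
theorem Q21539 : ∀ i, i < 21539 → P i := stepQ 21538 Q21538 (allL N21538 (tt N33768 F308060) (tt N23388 (iv0 F55773)) (tt N33772 (iv2 F309374)) (tt N21478 F51471) (tt N10519 (iv4 D32416)) (tt N42457 D69800) (tt N42293 F308061) (tt N23205 (iv7 F55193)))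
theorem Q21540 : ∀ i, i < 21540 → P i := stepQ 21539 Q21539 (allL N21539 (tt N42458 D69802) (tt N42459 D69803) (tt N42451 (iv2 F106201)) (tt N11767 F51472) (tt N42293 F309870) (tt N30418 (iv5 F78515)) (tt N10519 (iv6 D32417)) (tt N42460 D69804))
theorem Q21541 : ∀ i, i < 21541 → P i := stepQ 21540 Q21540 (allL N21540 (tt N21980 (iv1 F52306)) (tt N34709 (iv0 F88631)) (tt N14852 F51473) (tt N21995 F52320) (tt N10520 (iv4 D32418)) (tt N22430 (iv5 F53010)) (tt N42461 D69805) (tt N14842 F51474))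
theorem Q21542 : ∀ i, i < 21542 → P i := stepQ 21541 Q21541 (allL N21541 (tt N21867 F190058) (tt N11978 F190059) (tt N14853 F51475) (tt N18536 F51476) (tt N42461 (iv4 F106224)) (tt N39893 F315871) (tt N10520 (iv6 D32419)) (tt N21866 F191189))
theorem Q21543 : ∀ i, i < 21543 → P i := stepQ 21542 Q21542 (allL N21542 (tt N21769 (iv1 F51850)) (tt N10529 F51505) (tt N18505 F51477) (tt N10521 (iv3 D32420)) (tt N22101 (iv4 F52482)) (tt N11371 F51478) (tt N42462 D69810) (tt N14847 F51479))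
theorem Q21544 : ∀ i, i < 21544 → P i := stepQ 21543 Q21543 (allL N21543 (tt N34709 (iv1 F88632)) (tt N21980 (iv0 F52305)) (tt N14842 F51480) (tt N42463 D69811) (tt N10521 (iv4 D32421)) (tt N42464 D69812) (tt N42457 F299163) (tt N14852 F51481))
theorem Q21545 : ∀ i, i < 21545 → P i := stepQ 21544 Q21544 (allL N21544 (tt N11987 F300103) (tt N21821 F191245) (tt N14843 F51482) (tt N42462 (iv3 F106236)) (tt N42457 F300104) (tt N21804 (iv5 F302901)) (tt N10521 (iv6 D32422)) (tt N21820 F190030))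
theorem Q21546 : ∀ i, i < 21546 → P i := stepQ 21545 Q21545 (allL N21545 (tt N21804 (iv1 F51926)) (tt N10522 (iv0 D32423)) (tt N19119 F301132) (tt N38381 (iv3 F303877)) (tt N21742 F51797) (tt N25448 (iv5 F61039)) (tt N42465 D69818) (tt N21806 F51932))
theorem Q21547 : ∀ i, i < 21547 → P i := stepQ 21546 Q21546 (allL N21546 (tt N21821 F300276) (tt N11987 F51484) (tt N21820 F300277) (tt N11952 F51483) (tt N42466 D69819) (tt N10522 (iv5 D32424)) (tt N21866 (iv6 F302897)) (tt N14843 F300278))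
theorem Q21548 : ∀ i, i < 21548 → P i := stepQ 21547 Q21547 (allL N21547 (tt N42467 D69821) (tt N38384 (iv0 F307429)) (tt N42453 (iv2 F106205)) (tt N11953 F51485) (tt N10523 F51486) (tt N42468 D69823) (tt N10522 (iv6 D32425)) (tt N38309 (iv7 F307431)))
theorem Q21549 : ∀ i, i < 21549 → P i := stepQ 21548 Q21548 (allL N21548 (tt N42456 (iv1 F106212)) (tt N10523 (iv0 D32426)) (tt N42454 F234041) (tt N42469 D69826) (tt N42470 D69827) (tt N42471 D69828) (tt N42472 D69829) (tt N42455 (iv7 F234049)))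
theorem Q21550 : ∀ i, i < 21550 → P i := stepQ 21549 Q21549 (allL N21549 (tt N10523 (iv1 D32427)) (tt N42456 F106211) (tt N42455 (iv2 F234048)) (tt N42473 D69831) (tt N42474 D69832) (tt N42475 D69833) (tt N42476 D69834) (tt N42454 F234047))
theorem Q21551 : ∀ i, i < 21551 → P i := stepQ 21550 Q21550 (allL N21550 (tt N42455 (iv1 F106207)) (tt N42454 F106210) (tt N42456 (iv2 F106208)) (tt N10526 F51487) (tt N38309 F309459) (tt N30553 (iv5 F78859)) (tt N21810 (iv6 F51947)) (tt N10523 (iv7 D32428)))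
theorem Q21552 : ∀ i, i < 21552 → P i := stepQ 21551 Q21551 (allL N21551 (tt N21775 F155097) (tt N10543 F155098) (tt N21773 F155473) (tt N10524 (iv3 D32429)) (tt N42477 D69838) (tt N42478 D69839) (tt N23108 (iv6 F54991)) (tt N21774 (iv7 F155477)))
theorem Q21553 : ∀ i, i < 21553 → P i := stepQ 21552 Q21552 (allL N21552 (tt N21739 (iv1 F51786)) (tt N34613 (iv0 F302903)) (tt N21801 (iv2 F51913)) (tt N42478 (iv3 F106262)) (tt N22487 (iv4 F307351)) (tt N10524 (iv5 D32430)) (tt N21717 (iv6 F307353)) (tt N21802 (iv7 F51917)))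
theorem Q21554 : ∀ i, i < 21554 → P i := stepQ 21553 Q21553 (allL N21553 (tt N10612 F109883) (tt N21838 F109884) (tt N21837 (iv2 F109853)) (tt N10525 (iv3 D32431)) (tt N15341 F307450) (tt N37508 (iv5 F109887)) (tt N30503 (iv6 F309496)) (tt N15338 F307451))
theorem Q21555 : ∀ i, i < 21555 → P i := stepQ 21554 Q21554 (allL N21554 (tt N34613 (iv1 F302904)) (tt N21739 F51918) (tt N21802 (iv2 F51916)) (tt N37508 (iv3 F109886)) (tt N42479 D69848) (tt N10525 (iv5 D32432)) (tt N37507 (iv6 F109897)) (tt N21801 (iv7 F51914)))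
theorem Q21556 : ∀ i, i < 21556 → P i := stepQ 21555 Q21555 (allL N21555 (tt N21871 F52078) (tt N11966 F51602) (tt N21803 (iv2 F51920)) (tt N30503 F311676) (tt N11540 F51488) (tt N21627 (iv5 F51600)) (tt N10525 (iv6 D32433)) (tt N21870 (iv7 F52073)))
theorem Q21557 : ∀ i, i < 21557 → P i := stepQ 21556 Q21556 (allL N21556 (tt N10549 F51491) (tt N22072 F52452) (tt N12648 F51489) (tt N10943 F51490) (tt N33923 (iv4 F86195)) (tt N10527 (iv5 D32434)) (tt N42480 D69849) (tt N29790 (iv7 F77320)))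
theorem Q21558 : ∀ i, i < 21558 → P i := stepQ 21557 Q21557 (allL N21557 (tt N10562 F54123) (tt N42481 D69850) (tt N23268 (iv2 F55336)) (tt N10575 F54124) (tt N23248 F55297) (tt N42482 D69851) (tt N10527 (iv6 D32435)) (tt N22582 (iv7 F53361)))
theorem Q21559 : ∀ i, i < 21559 → P i := stepQ 21558 Q21558 (allL N21558 (tt N18505 (iv1 F51498)) (tt N14847 F51494) (tt N10529 F51492) (tt N18498 F51493) (tt N10827 F51495) (tt N10528 (iv5 D32436)) (tt N42483 D69852) (tt N21769 (iv7 F51849)))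
theorem Q21560 : ∀ i, i < 21560 → P i := stepQ 21559 Q21559 (allL N21559 (tt N10529 (iv1 D32438)) (tt N21769 F51851) (tt N14847 F51503) (tt N18508 (iv3 F51502)) (tt N22102 (iv4 F52485)) (tt N14845 F51501) (tt N42484 D69853) (tt N18505 F51504))
theorem Q21561 : ∀ i, i < 21561 → P i := stepQ 21560 Q21560 (allL N21560 (tt N42485 D69854) (tt N42486 D69855) (tt N42483 (iv2 F106276)) (tt N10534 F51506) (tt N24599 (iv4 F59155)) (tt N41372 (iv5 F104049)) (tt N10529 (iv6 D32439)) (tt N42487 D69856))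
theorem Q21562 : ∀ i, i < 21562 → P i := stepQ 21561 Q21561 (allL N21561 (tt N10563 F54087) (tt N10563 F54088) (tt N21684 F54091) (tt N11190 F51507) (tt N21684 F54089) (tt N42488 D69857) (tt N10531 (iv6 D32440)) (tt N21684 F54092))
theorem Q21563 : ∀ i, i < 21563 → P i := stepQ 21562 Q21562 (allL N21562 (tt N42489 D69858) (tt N34545 (iv0 F232394)) (tt N23285 (iv2 F55385)) (tt N34067 (iv3 F86655)) (tt N33874 (iv4 F85995)) (tt N41373 (iv5 F104051)) (tt N10533 (iv6 D32441)) (tt N42490 D69860))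
theorem Q21564 : ∀ i, i < 21564 → P i := stepQ 21563 Q21563 (allL N21563 (tt N21781 (iv1 F51883)) (tt N10534 (iv0 D32442)) (tt N17426 (iv2 F155352)) (tt N21833 (iv3 F155353)) (tt N42491 D69863) (tt N42492 D69864) (tt N42493 D69865) (tt N21780 (iv7 F155354)))
theorem Q21565 : ∀ i, i < 21565 → P i := stepQ 21564 Q21564 (allL N21564 (tt N21780 (iv1 F51878)) (tt N17426 F155245) (tt N21781 (iv2 F51879)) (tt N42487 (iv3 F106281)) (tt N28657 (iv4 F74344)) (tt N41377 (iv5 F104053)) (tt N21775 (iv6 F51862)) (tt N10534 (iv7 D32444)))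
theorem Q21566 : ∀ i, i < 21566 → P i := stepQ 21565 Q21565 (allL N21565 (tt N42481 (iv1 F106269)) (tt N10562 F54151) (tt N22582 (iv2 F53358)) (tt N10579 F54152) (tt N17333 F51508) (tt N42494 D69871) (tt N10535 (iv6 D32445)) (tt N23268 (iv7 F55339)))
theorem Q21567 : ∀ i, i < 21567 → P i := stepQ 21566 Q21566 (allL N21566 (tt N16491 F51511) (tt N16478 F51513) (tt N10538 F51509) (tt N21769 (iv3 F51846)) (tt N34058 (iv4 F86626)) (tt N10536 (iv5 D32446)) (tt N42495 D69872) (tt N18498 F51510))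
theorem Q21568 : ∀ i, i < 21568 → P i := stepQ 21567 Q21567 (allL N21567 (tt N15322 F56576) (tt N35916 (iv0 F93548)) (tt N10539 F51514) (tt N23834 (iv3 F56574)) (tt N23854 (iv4 F56622)) (tt N42496 D69873) (tt N10536 (iv6 D32447)) (tt N41358 (iv7 F104015)))
theorem Q21569 : ∀ i, i < 21569 → P i := stepQ 21568 Q21568 (allL N21568 (tt N19371 F51517) (tt N34409 F87485) (tt N23854 (iv2 F56621)) (tt N17533 F51515) (tt N10539 F51516) (tt N32135 F82402) (tt N10537 (iv6 D32448)) (tt N34406 (iv7 F87475)))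
theorem Q21570 : ∀ i, i < 21570 → P i := stepQ 21569 Q21569 (allL N21569 (tt N18498 (iv1 F51521)) (tt N10538 (iv0 D32449)) (tt N16491 (iv2 F51520)) (tt N18529 F51524) (tt N17356 F51519) (tt N16480 F51518) (tt N42497 D69874) (tt N16478 F51522))
theorem Q21571 : ∀ i, i < 21571 → P i := stepQ 21570 Q21570 (allL N21570 (tt N42498 D69875) (tt N42499 D69876) (tt N42495 (iv2 F106291)) (tt N10543 F51525) (tt N34100 (iv4 F86744)) (tt N42500 D69877) (tt N10538 (iv6 D32450)) (tt N42501 D69878))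
theorem Q21572 : ∀ i, i < 21572 → P i := stepQ 21571 Q21571 (allL N21571 (tt N41358 (iv1 F104018)) (tt N10539 (iv0 D32451)) (tt N15322 F55494) (tt N18214 F55490) (tt N15714 (iv4 F55492)) (tt N37519 (iv5 F96189)) (tt N23279 (iv6 F55491)) (tt N35916 (iv7 F93547)))
theorem Q21573 : ∀ i, i < 21573 → P i := stepQ 21572 Q21572 (allL N21572 (tt N10539 (iv1 D32452)) (tt N41358 (iv0 F104016)) (tt N35916 (iv2 F93545)) (tt N15324 (iv3 F55498)) (tt N15715 F51527) (tt N25189 F312061) (tt N41421 (iv6 F104137)) (tt N15322 F55495))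
theorem Q21574 : ∀ i, i < 21574 → P i := stepQ 21573 Q21573 (allL N21573 (tt N38310 (iv1 F97915)) (tt N42502 D69879) (tt N42496 (iv2 F106292)) (tt N10544 F51528) (tt N33961 F86282) (tt N10539 (iv5 D32453)) (tt N42500 (iv6 F106301)) (tt N19086 F51529))
theorem Q21575 : ∀ i, i < 21575 → P i := stepQ 21574 Q21574 (allL N21574 (tt N42503 D69880) (tt N42504 D69881) (tt N33837 (iv2 F85851)) (tt N10764 F51530) (tt N28648 (iv4 F74333)) (tt N42505 D69882) (tt N10540 (iv6 D32454)) (tt N42506 D69883))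
theorem Q21576 : ∀ i, i < 21576 → P i := stepQ 21575 Q21575 (allL N21575 (tt N22781 F53946) (tt N10541 (iv0 D32455)) (tt N19373 (iv2 F51533)) (tt N11166 F51534) (tt N19373 F51531) (tt N37540 (iv5 F96231)) (tt N20914 F51532) (tt N11170 F51535))
theorem Q21577 : ∀ i, i < 21577 → P i := stepQ 21576 Q21576 (allL N21576 (tt N22188 F52671) (tt N37441 F96001) (tt N33838 (iv2 F85853)) (tt N17534 F51536) (tt N37566 (iv4 F96276)) (tt N10541 (iv5 D32456)) (tt N42505 (iv6 F106310)) (tt N37591 (iv7 F96312)))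
theorem Q21578 : ∀ i, i < 21578 → P i := stepQ 21577 Q21577 (allL N21577 (tt N42507 D69884) (tt N42508 D69885) (tt N21772 (iv2 F51857)) (tt N28579 (iv3 F74206)) (tt N10543 F51537) (tt N42509 D69886) (tt N10542 (iv6 D32457)) (tt N42510 D69887))
theorem Q21579 : ∀ i, i < 21579 → P i := stepQ 21578 Q21578 (allL N21578 (tt N10543 (iv1 D32459)) (tt N21775 F51864) (tt N21774 (iv2 F155476)) (tt N21837 F155094) (tt N42511 D69895) (tt N42512 D69896) (tt N42513 D69897) (tt N21773 F155475))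
theorem Q21580 : ∀ i, i < 21580 → P i := stepQ 21579 Q21579 (allL N21579 (tt N30557 F184654) (tt N38368 F184655) (tt N19091 F51538) (tt N42500 (iv3 F106300)) (tt N42514 D69900) (tt N10543 (iv5 D32460)) (tt N10544 F51539) (tt N42515 D69901))
theorem Q21581 : ∀ i, i < 21581 → P i := stepQ 21580 Q21580 (allL N21580 (tt N21774 (iv1 F51860)) (tt N21773 F51863) (tt N21775 (iv2 F51861)) (tt N42501 (iv3 F106302)) (tt N42510 (iv4 F106312)) (tt N42515 (iv5 F106319)) (tt N21781 (iv6 F51880)) (tt N10543 (iv7 D32461)))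
theorem Q21582 : ∀ i, i < 21582 → P i := stepQ 21581 Q21581 (allL N21581 (tt N24111 F312402) (tt N42516 D69903) (tt N19090 F51540) (tt N42517 D69904) (tt N10544 (iv4 D32462)) (tt N42518 D69905) (tt N42514 (iv6 F106317)) (tt N19087 F51541))
theorem Q21583 : ∀ i, i < 21583 → P i := stepQ 21582 Q21582 (allL N21582 (tt N35245 (iv1 F91681)) (tt N35244 F91677) (tt N12380 F51542) (tt N10545 (iv3 D32463)) (tt N33813 (iv4 F85705)) (tt N25714 (iv5 F61993)) (tt N42519 D69906) (tt N33839 (iv7 F85862)))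
theorem Q21584 : ∀ i, i < 21584 → P i := stepQ 21583 Q21583 (allL N21583 (tt N35004 (iv1 F304446)) (tt N42520 D69908) (tt N10557 F51543) (tt N42519 (iv3 F106336)) (tt N10546 F51544) (tt N42521 D69909) (tt N10545 (iv6 D32464)) (tt N42522 D69910))
theorem Q21585 : ∀ i, i < 21585 → P i := stepQ 21584 Q21584 (allL N21584 (tt N10561 (iv1 F51550)) (tt N10546 (iv0 D32465)) (tt N10558 (iv2 F155213)) (tt N36521 (iv3 F188768)) (tt N42523 D69913) (tt N42524 D69914) (tt N34997 F303909) (tt N10559 (iv7 F155220)))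
theorem Q21586 : ∀ i, i < 21586 → P i := stepQ 21585 Q21585 (allL N21585 (tt N10546 (iv1 D32466)) (tt N10561 F51545) (tt N10559 F155221) (tt N42525 D69916) (tt N28853 F314167) (tt N42526 D69918) (tt N25266 F155269) (tt N10558 F155222))
theorem Q21587 : ∀ i, i < 21587 → P i := stepQ 21586 Q21586 (allL N21586 (tt N42527 D69920) (tt N42528 D69921) (tt N10560 F51546) (tt N10595 F51547) (tt N29217 (iv4 F75351)) (tt N10546 (iv5 D32467)) (tt N10548 F51548) (tt N42529 D69922))
theorem Q21588 : ∀ i, i < 21588 → P i := stepQ 21587 Q21587 (allL N21587 (tt N10559 (iv1 F51551)) (tt N10558 F51552) (tt N10561 F51549) (tt N33817 (iv3 F85714)) (tt N42522 (iv4 F106340)) (tt N42529 (iv5 F106352)) (tt N33842 (iv6 F85871)) (tt N10546 (iv7 D32468)))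
theorem Q21589 : ∀ i, i < 21589 → P i := stepQ 21588 Q21588 (allL N21588 (tt N23268 (iv1 F55341)) (tt N22582 (iv0 F54164)) (tt N42481 (iv2 F106273)) (tt N10547 (iv3 D32469)) (tt N16370 F51553) (tt N42530 D69923) (tt N41382 (iv6 F104065)) (tt N10562 F51554))
theorem Q21590 : ∀ i, i < 21590 → P i := stepQ 21589 Q21589 (allL N21589 (tt N16866 F51557) (tt N16866 (iv0 F51558)) (tt N10564 F51555) (tt N42530 (iv3 F106357)) (tt N42531 D69924) (tt N10547 (iv5 D32470)) (tt N18461 F319623) (tt N10564 F51556))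
theorem Q21591 : ∀ i, i < 21591 → P i := stepQ 21590 Q21590 (allL N21590 (tt N29790 (iv1 F77321)) (tt N12648 F51561) (tt N10549 (iv2 D32471)) (tt N25069 F60255) (tt N17266 F51559) (tt N10642 F51560) (tt N42532 D69926) (tt N22072 (iv7 F52449)))
theorem Q21592 : ∀ i, i < 21592 → P i := stepQ 21591 Q21591 (allL N21591 (tt N42533 D69927) (tt N42534 D69928) (tt N42532 (iv2 F106364)) (tt N10550 F51562) (tt N22463 (iv4 F53184)) (tt N30661 F315163) (tt N10549 (iv6 D32472)) (tt N35477 (iv7 F155123)))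
theorem Q21593 : ∀ i, i < 21593 → P i := stepQ 21592 Q21592 (allL N21592 (tt N34225 (iv1 F184630)) (tt N34229 (iv0 F185369)) (tt N36418 (iv2 F94552)) (tt N10553 F51564) (tt N25068 (iv4 F60250)) (tt N41394 (iv5 F104087)) (tt N10551 (iv6 D32477)) (tt N36595 (iv7 F184578)))
theorem Q21594 : ∀ i, i < 21594 → P i := stepQ 21593 Q21593 (allL N21593 (tt N42535 D69948) (tt N22400 F184622) (tt N26138 (iv2 F64277)) (tt N28760 (iv3 F74487)) (tt N10553 F51565) (tt N42536 D69950) (tt N10552 (iv6 D32478)) (tt N36640 (iv7 F184582)))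
theorem Q21595 : ∀ i, i < 21595 → P i := stepQ 21594 Q21594 (allL N21594 (tt N14011 F51567) (tt N25667 F61860) (tt N25528 (iv2 F61433)) (tt N10554 (iv3 D32482)) (tt N42537 D69962) (tt N13995 F51566) (tt N42538 D69963) (tt N25665 (iv7 F61857)))
theorem Q21596 : ∀ i, i < 21596 → P i := stepQ 21595 Q21595 (allL N21595 (tt N35467 F232489) (tt N12505 F232490) (tt N25623 (iv2 F61725)) (tt N42538 (iv3 F106387)) (tt N21760 (iv4 F51829)) (tt N42539 D69966) (tt N10554 (iv6 D32483)) (tt N35466 F232491))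
theorem Q21597 : ∀ i, i < 21597 → P i := stepQ 21596 Q21596 (allL N21596 (tt N29813 (iv1 F232417)) (tt N35006 (iv0 F304385)) (tt N33845 (iv2 F85891)) (tt N25525 (iv3 F61398)) (tt N21764 (iv4 F51837)) (tt N42540 D69970) (tt N10555 (iv6 D32484)) (tt N35010 (iv7 F304384)))
theorem Q21598 : ∀ i, i < 21598 → P i := stepQ 21597 Q21597 (allL N21597 (tt N25877 (iv1 F289763)) (tt N14390 (iv0 F289764)) (tt N25715 (iv2 F61996)) (tt N12388 F51568) (tt N28647 (iv4 F74330)) (tt N42541 D69974) (tt N10556 (iv6 D32485)) (tt N25876 (iv7 F289766)))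
theorem Q21599 : ∀ i, i < 21599 → P i := stepQ 21598 Q21598 (allL N21598 (tt N42522 (iv1 F106344)) (tt N10557 (iv0 D32486)) (tt N35004 (iv2 F304447)) (tt N42542 D69977) (tt N35352 (iv4 F191109)) (tt N42543 D69979) (tt N34887 (iv6 F302770)) (tt N42520 (iv7 F187864)))
theorem Q21600 : ∀ i, i < 21600 → P i := stepQ 21599 Q21599 (allL N21599 (tt N10557 (iv1 D32487)) (tt N42522 F106342) (tt N42520 (iv2 F187863)) (tt N42544 D69982) (tt N35353 (iv4 F191119)) (tt N42545 D69984) (tt N35195 (iv6 F304459)) (tt N35004 (iv7 F304448)))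
theorem Q21601 : ∀ i, i < 21601 → P i := stepQ 21600 Q21600 (allL N21600 (tt N42546 D69986) (tt N42547 D69987) (tt N42521 (iv2 F106338)) (tt N12391 F51569) (tt N42548 D69988) (tt N10557 (iv5 D32488)) (tt N42541 (iv6 F106389)) (tt N42549 D69989))
theorem Q21602 : ∀ i, i < 21602 → P i := stepQ 21601 Q21601 (allL N21601 (tt N42520 (iv1 F106337)) (tt N35004 (iv0 F304445)) (tt N42522 (iv2 F106339)) (tt N12392 F51570) (tt N10561 F51571) (tt N42549 (iv5 F106395)) (tt N33849 (iv6 F85896)) (tt N10557 (iv7 D32489)))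
theorem Q21603 : ∀ i, i < 21603 → P i := stepQ 21602 Q21602 (allL N21602 (tt N42550 D69996) (tt N42480 (iv0 F190084)) (tt N42551 D69998) (tt N10558 (iv3 D32491)) (tt N42552 D69999) (tt N42553 D70000) (tt N28715 F305431) (tt N42525 (iv7 F155225)))
theorem Q21604 : ∀ i, i < 21604 → P i := stepQ 21603 Q21603 (allL N21603 (tt N42554 D70003) (tt N28638 F190376) (tt N42523 (iv2 F155216)) (tt N24785 F309522) (tt N10558 (iv4 D32492)) (tt N42555 D70006) (tt N42556 D70007) (tt N28853 (iv7 F311724)))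
theorem Q21605 : ∀ i, i < 21605 → P i := stepQ 21604 Q21604 (allL N21604 (tt N42557 D70009) (tt N42558 D70010) (tt N42524 (iv2 F155218)) (tt N42553 (iv3 F106406)) (tt N42559 D70011) (tt N10558 (iv5 D32493)) (tt N42560 D70012) (tt N42526 (iv7 F155229)))
theorem Q21606 : ∀ i, i < 21606 → P i := stepQ 21605 Q21605 (allL N21605 (tt N34998 F303471) (tt N23918 F303472) (tt N34997 F303473) (tt N28715 F303474) (tt N42556 (iv4 F106410)) (tt N37571 F96283) (tt N10558 (iv6 D32494)) (tt N34996 F303475))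
theorem Q21607 : ∀ i, i < 21607 → P i := stepQ 21606 Q21606 (allL N21606 (tt N34205 F188400) (tt N36524 F188401) (tt N36522 (iv2 F188764)) (tt N10559 (iv3 D32496)) (tt N25085 F130279) (tt N42561 D70022) (tt N42562 D70023) (tt N36521 (iv7 F188770)))
theorem Q21608 : ∀ i, i < 21608 → P i := stepQ 21607 Q21607 (allL N21607 (tt N28638 F190377) (tt N42554 F106413) (tt N28853 F314164) (tt N42563 D70024) (tt N10559 (iv4 D32497)) (tt N42564 D70025) (tt N42565 D70026) (tt N42523 (iv7 F155217)))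
theorem Q21609 : ∀ i, i < 21609 → P i := stepQ 21608 Q21608 (allL N21608 (tt N42558 (iv1 F106415)) (tt N42557 F106418) (tt N42526 (iv2 F155228)) (tt N42561 (iv3 F106420)) (tt N42566 D70027) (tt N10559 (iv5 D32498)) (tt N42567 D70028) (tt N42524 (iv7 F155219)))
theorem Q21610 : ∀ i, i < 21610 → P i := stepQ 21609 Q21609 (allL N21609 (tt N17973 F155203) (tt N25268 (iv0 F155204)) (tt N25266 F155268) (tt N42562 (iv3 F106421)) (tt N42565 (iv4 F106422)) (tt N42568 D70031) (tt N10559 (iv6 D32499)) (tt N25267 (iv7 F155272)))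
theorem Q21611 : ∀ i, i < 21611 → P i := stepQ 21610 Q21610 (allL N21610 (tt N42529 (iv1 F106356)) (tt N10560 (iv0 D32500)) (tt N42527 (iv2 F187649)) (tt N42569 D70034) (tt N42570 D70035) (tt N42571 D70036) (tt N42572 D70037) (tt N42528 (iv7 F187647)))
theorem Q21612 : ∀ i, i < 21612 → P i := stepQ 21611 Q21611 (allL N21611 (tt N10560 (iv1 D32501)) (tt N42529 F106355) (tt N42528 (iv2 F187646)) (tt N42573 D70039) (tt N42574 D70040) (tt N42575 D70041) (tt N29696 F317370) (tt N42527 (iv7 F187650)))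
theorem Q21613 : ∀ i, i < 21613 → P i := stepQ 21612 Q21612 (allL N21612 (tt N42576 D70043) (tt N42577 D70044) (tt N29217 (iv2 F75349)) (tt N14502 F51574) (tt N10560 (iv4 D32502)) (tt N42578 D70045) (tt N10566 F51575) (tt N42579 D70046))
theorem Q21614 : ∀ i, i < 21614 → P i := stepQ 21613 Q21613 (allL N21613 (tt N42528 (iv1 F106348)) (tt N42527 F106354) (tt N42529 (iv2 F106350)) (tt N10574 F51576) (tt N42579 (iv4 F106432)) (tt N10561 F51577) (tt N42529 (iv6 F106353)) (tt N10560 (iv7 D32503)))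
theorem Q21615 : ∀ i, i < 21615 → P i := stepQ 21614 Q21614 (allL N21614 (tt N22582 F55301) (tt N23268 F55340) (tt N10562 (iv2 D32506)) (tt N42481 F106272) (tt N16369 (iv4 F51583)) (tt N42580 D70047) (tt N41416 (iv6 F104110)) (tt N42481 (iv7 F106270)))
theorem Q21616 : ∀ i, i < 21616 → P i := stepQ 21615 Q21615 (allL N21615 (tt N16371 F51579) (tt N13397 (iv0 F51581)) (tt N16369 F51582) (tt N23327 (iv3 F55599)) (tt N10562 (iv4 D32507)) (tt N13436 (iv5 F51580)) (tt N41417 (iv6 F104113)) (tt N16370 F51578))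
theorem Q21617 : ∀ i, i < 21617 → P i := stepQ 21616 Q21616 (allL N21616 (tt N42581 D70048) (tt N42582 D70049) (tt N42580 (iv2 F106433)) (tt N10564 F51585) (tt N41932 F105083) (tt N10562 (iv5 D32508)) (tt N42119 F319635) (tt N42530 (iv7 F106358)))
theorem Q21618 : ∀ i, i < 21618 → P i := stepQ 21617 Q21617 (allL N21617 (tt N41993 (iv1 F105235)) (tt N41993 (iv0 F105234)) (tt N23333 (iv2 F55620)) (tt N23328 (iv3 F55603)) (tt N27368 (iv4 F70138)) (tt N10563 (iv5 D32510)) (tt N40978 F321630) (tt N23333 (iv7 F55622)))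
theorem Q21619 : ∀ i, i < 21619 → P i := stepQ 21618 Q21618 (allL N21618 (tt N10564 (iv1 F51589)) (tt N10564 (iv0 D32511)) (tt N16866 (iv2 F51590)) (tt N10578 (iv3 F51591)) (tt N13677 F51593) (tt N16862 F51588) (tt N42583 D70052) (tt N16866 (iv7 F51592)))
theorem Q21620 : ∀ i, i < 21620 → P i := stepQ 21619 Q21619 (allL N21619 (tt N42002 (iv1 F105250)) (tt N42002 (iv0 F105248)) (tt N42531 (iv2 F106359)) (tt N42584 D70053) (tt N10564 (iv4 D32512)) (tt N29099 (iv5 F75021)) (tt N42585 D70054) (tt N42531 (iv7 F106360)))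
theorem Q21621 : ∀ i, i < 21621 → P i := stepQ 21620 Q21620 (allL N21620 (tt N18462 (iv1 F316522)) (tt N14803 F315170) (tt N18461 (iv2 F317350)) (tt N42119 (iv3 F317379)) (tt N42585 (iv4 F106448)) (tt N20869 (iv5 F317380)) (tt N10564 (iv6 D32513)) (tt N18460 (iv7 F317351)))
theorem Q21622 : ∀ i, i < 21622 → P i := stepQ 21621 Q21621 (allL N21621 (tt N42494 F106290) (tt N42482 (iv0 F106275)) (tt N42586 D70058) (tt N10565 (iv3 D32514)) (tt N42587 D70059) (tt N33593 (iv5 F85217)) (tt N42588 D70060) (tt N37539 (iv7 F96229)))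
theorem Q21623 : ∀ i, i < 21623 → P i := stepQ 21622 Q21622 (allL N21622 (tt N42589 D70061) (tt N42589 F106458) (tt N37553 (iv2 F96254)) (tt N42590 D70062) (tt N10565 (iv4 D32515)) (tt N27683 (iv5 F70961)) (tt N42591 D70063) (tt N37553 (iv7 F96255)))
theorem Q21624 : ∀ i, i < 21624 → P i := stepQ 21623 Q21623 (allL N21623 (tt N42592 D70064) (tt N42593 D70065) (tt N37550 (iv2 F96250)) (tt N42588 (iv3 F106456)) (tt N42591 (iv4 F106462)) (tt N37532 (iv5 F96213)) (tt N10565 (iv6 D32516)) (tt N42594 D70066))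
theorem Q21625 : ∀ i, i < 21625 → P i := stepQ 21624 Q21624 (allL N21624 (tt N10566 (iv1 F51595)) (tt N10566 (iv0 D32517)) (tt N27366 F70958) (tt N42595 D70067) (tt N42001 (iv4 F105246)) (tt N13818 F51594) (tt N42596 D70068) (tt N27366 (iv7 F70957)))
theorem Q21626 : ∀ i, i < 21626 → P i := stepQ 21625 Q21625 (allL N21625 (tt N36566 (iv1 F190739)) (tt N22296 F190726) (tt N36538 (iv2 F188437)) (tt N12191 F299285) (tt N10567 (iv4 D32521)) (tt N42597 D70084) (tt N12190 F299286) (tt N23980 (iv7 F57100)))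
theorem Q21627 : ∀ i, i < 21627 → P i := stepQ 21626 Q21626 (allL N21626 (tt N42598 D70086) (tt N42599 D70087) (tt N36539 (iv2 F188441)) (tt N10568 F51597) (tt N42600 D70088) (tt N10567 (iv5 D32522)) (tt N33802 F315611) (tt N23989 (iv7 F57115)))
theorem Q21628 : ∀ i, i < 21628 → P i := stepQ 21627 Q21627 (allL N21627 (tt N10570 (iv1 F51601)) (tt N10568 (iv0 D32524)) (tt N23968 F57053) (tt N18378 F314133) (tt N42601 D70093) (tt N21555 F51600) (tt N42296 (iv6 F315560)) (tt N18374 F314134))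
theorem Q21629 : ∀ i, i < 21629 → P i := stepQ 21628 Q21628 (allL N21628 (tt N10568 (iv1 D32525)) (tt N10570 F51603) (tt N18374 F314573) (tt N42558 (iv3 F155467)) (tt N20987 F313161) (tt N24185 (iv5 F57638)) (tt N18373 (iv6 F316891)) (tt N23968 F57054))
theorem Q21630 : ∀ i, i < 21630 → P i := stepQ 21629 Q21629 (allL N21629 (tt N10569 (iv1 D32529)) (tt N23966 F57046) (tt N23965 (iv2 F191148)) (tt N42550 (iv3 F188804)) (tt N42602 D70110) (tt N42603 D70111) (tt N23685 (iv6 F191154)) (tt N12650 (iv7 F191155)))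
theorem Q21631 : ∀ i, i < 21631 → P i := stepQ 21630 Q21630 (allL N21630 (tt N12650 F190023) (tt N23965 F57041) (tt N10569 (iv2 D32530)) (tt N23988 (iv3 F57109)) (tt N38320 F306074) (tt N42604 D70114) (tt N38319 (iv6 F307821)) (tt N23966 (iv7 F57043)))
theorem Q21632 : ∀ i, i < 21632 → P i := stepQ 21631 Q21631 (allL N21631 (tt N29798 (iv1 F130346)) (tt N42605 D70117) (tt N38320 F306054) (tt N17576 F51605) (tt N10569 (iv4 D32531)) (tt N42606 D70118) (tt N19054 (iv6 F307851)) (tt N23960 (iv7 F57035)))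
theorem Q21633 : ∀ i, i < 21633 → P i := stepQ 21632 Q21632 (allL N21632 (tt N42607 D70120) (tt N42608 D70121) (tt N42604 (iv2 F106495)) (tt N10570 F51606) (tt N40996 (iv4 F312233)) (tt N10569 (iv5 D32532)) (tt N42609 D70123) (tt N23967 (iv7 F57048)))
theorem Q21634 : ∀ i, i < 21634 → P i := stepQ 21633 Q21633 (allL N21633 (tt N42610 D70124) (tt N42611 D70125) (tt N38319 F309829) (tt N10571 F51607) (tt N19054 F309830) (tt N42612 D70126) (tt N10569 (iv6 D32533)) (tt N23922 F303818))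
theorem Q21635 : ∀ i, i < 21635 → P i := stepQ 21634 Q21634 (allL N21634 (tt N42301 (iv1 F308791)) (tt N21147 (iv0 F51608)) (tt N23992 (iv2 F57119)) (tt N42609 (iv3 F106500)) (tt N33796 F308776) (tt N42613 D70131) (tt N10570 (iv6 D32535)) (tt N33794 (iv7 F308789)))
theorem Q21636 : ∀ i, i < 21636 → P i := stepQ 21635 Q21635 (allL N21635 (tt N11345 F51609) (tt N11333 F51610) (tt N23993 (iv2 F57121)) (tt N42612 (iv3 F106501)) (tt N42614 D70133) (tt N10571 (iv5 D32536)) (tt N42613 (iv6 F106511)) (tt N23923 F303826))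
theorem Q21637 : ∀ i, i < 21637 → P i := stepQ 21636 Q21636 (allL N21636 (tt N36542 (iv1 F188387)) (tt N36508 (iv0 F188382)) (tt N36540 (iv2 F188346)) (tt N10572 (iv3 D32537)) (tt N42615 D70137) (tt N42616 D70138) (tt N41711 F104798) (tt N20628 F317644))
theorem Q21638 : ∀ i, i < 21638 → P i := stepQ 21637 Q21637 (allL N21637 (tt N21870 (iv1 F52070)) (tt N21803 F51922) (tt N21871 (iv2 F52075)) (tt N42616 (iv3 F106522)) (tt N11972 F51612) (tt N10572 (iv5 D32539)) (tt N21875 (iv6 F52088)) (tt N11966 F51611))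
theorem Q21639 : ∀ i, i < 21639 → P i := stepQ 21638 Q21638 (allL N21638 (tt N29789 (iv1 F191171)) (tt N42603 (iv0 F185140)) (tt N42617 D70143) (tt N10573 (iv3 D32540)) (tt N42618 D70144) (tt N21869 F52065) (tt N16737 F317421) (tt N33830 (iv7 F85762)))
theorem Q21640 : ∀ i, i < 21640 → P i := stepQ 21639 Q21639 (allL N21639 (tt N33827 (iv1 F85752)) (tt N33826 F85759) (tt N33829 (iv2 F85755)) (tt N42529 (iv3 F106351)) (tt N33579 (iv4 F311061)) (tt N33817 (iv5 F85715)) (tt N10574 (iv6 D32547)) (tt N10595 F51616))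
theorem Q21641 : ∀ i, i < 21641 → P i := stepQ 21640 Q21640 (allL N21640 (tt N33834 (iv1 F85801)) (tt N10586 F54165) (tt N23381 (iv2 F55748)) (tt N42482 (iv3 F106274)) (tt N42619 D70159) (tt N10575 (iv5 D32549)) (tt N42620 D70160) (tt N22583 F54163))
theorem Q21642 : ∀ i, i < 21642 → P i := stepQ 21641 Q21641 (allL N21641 (tt N18439 F54162) (tt N23384 F55763) (tt N10577 F51619) (tt N23374 (iv3 F55707)) (tt N14926 F51624) (tt N10576 (iv5 D32554)) (tt N33249 (iv6 F316517)) (tt N23382 (iv7 F55755)))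
theorem Q21643 : ∀ i, i < 21643 → P i := stepQ 21642 Q21642 (allL N21642 (tt N23382 (iv1 F55758)) (tt N10577 (iv0 D32555)) (tt N18439 F54318) (tt N42582 F106440) (tt N42621 D70162) (tt N18428 (iv5 F54317)) (tt N42622 D70163) (tt N23384 (iv7 F55764)))
theorem Q21644 : ∀ i, i < 21644 → P i := stepQ 21643 Q21643 (allL N21643 (tt N10577 (iv1 D32556)) (tt N23382 (iv0 F55757)) (tt N23384 F55762) (tt N23376 F55728) (tt N42623 D70164) (tt N18435 (iv5 F54320)) (tt N42624 D70165) (tt N18439 F54319))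
theorem Q21645 : ∀ i, i < 21645 → P i := stepQ 21644 Q21644 (allL N21644 (tt N32576 (iv1 F83130)) (tt N11406 (iv0 F54194)) (tt N14926 (iv2 F51622)) (tt N14850 (iv3 F51623)) (tt N10577 (iv4 D32557)) (tt N14849 F51621) (tt N33252 (iv6 F314419)) (tt N14922 F51620))
theorem Q21646 : ∀ i, i < 21646 → P i := stepQ 21645 Q21645 (allL N21645 (tt N23992 F57120) (tt N33794 (iv0 F308787)) (tt N21147 F51626) (tt N42583 (iv3 F106443)) (tt N21096 F307004) (tt N21139 F51627) (tt N10578 (iv6 D32559)) (tt N42301 (iv7 F308793)))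
theorem Q21647 : ∀ i, i < 21647 → P i := stepQ 21646 Q21646 (allL N21646 (tt N11487 (iv1 F51636)) (tt N11490 (iv0 F51635)) (tt N23372 (iv2 F55695)) (tt N32575 (iv3 F83120)) (tt N10579 (iv4 D32571)) (tt N14031 F51637) (tt N11463 F54156) (tt N23270 (iv7 F55350)))
theorem Q21648 : ∀ i, i < 21648 → P i := stepQ 21647 Q21647 (allL N21647 (tt N10589 F54260) (tt N33831 F85789) (tt N23373 (iv2 F55701)) (tt N42494 (iv3 F106289)) (tt N42625 D70184) (tt N10579 (iv5 D32572)) (tt N42626 D70185) (tt N23271 (iv7 F55355)))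
theorem Q21649 : ∀ i, i < 21649 → P i := stepQ 21648 Q21648 (allL N21648 (tt N23377 (iv1 F55730)) (tt N23376 F55726) (tt N10582 F51638) (tt N23382 (iv3 F55754)) (tt N40989 F321920) (tt N10580 (iv5 D32574)) (tt N40987 F321921) (tt N23374 (iv7 F55708)))
theorem Q21650 : ∀ i, i < 21650 → P i := stepQ 21649 Q21649 (allL N21649 (tt N35917 F93552) (tt N23278 F79157) (tt N10583 F51639) (tt N23383 (iv3 F55760)) (tt N23235 (iv4 F55284)) (tt N42627 D70188) (tt N10580 (iv6 D32575)) (tt N41437 (iv7 F104204)))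
theorem Q21651 : ∀ i, i < 21651 → P i := stepQ 21650 Q21650 (allL N21650 (tt N29977 F77711) (tt N36243 (iv0 F94172)) (tt N23235 (iv2 F55283)) (tt N17461 F51640) (tt N10583 F51641) (tt N34011 F86493) (tt N10581 (iv6 D32576)) (tt N36244 (iv7 F94174)))
theorem Q21652 : ∀ i, i < 21652 → P i := stepQ 21651 Q21651 (allL N21651 (tt N23374 (iv1 F55717)) (tt N10582 (iv0 D32577)) (tt N23377 F55733) (tt N18439 (iv3 F55719)) (tt N42628 D70189) (tt N18433 F55718) (tt N42629 D70190) (tt N23376 F55729))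
theorem Q21653 : ∀ i, i < 21653 → P i := stepQ 21652 Q21652 (allL N21652 (tt N10582 (iv1 D32578)) (tt N23374 F55709) (tt N23376 F55727) (tt N42581 (iv3 F106434)) (tt N22330 F55711) (tt N14822 F55710) (tt N42630 D70191) (tt N23377 (iv7 F55731)))
theorem Q21654 : ∀ i, i < 21654 → P i := stepQ 21653 Q21653 (allL N21653 (tt N33655 (iv1 F85374)) (tt N42631 D70192) (tt N40989 F321911) (tt N42247 F309442) (tt N10582 (iv4 D32579)) (tt N42632 D70194) (tt N33728 F321912) (tt N23378 (iv7 F55734)))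
theorem Q21655 : ∀ i, i < 21655 → P i := stepQ 21654 Q21654 (allL N21654 (tt N40464 (iv1 F320017)) (tt N42633 D70197) (tt N40987 (iv2 F320236)) (tt N10584 F51642) (tt N33728 (iv4 F320235)) (tt N40236 (iv5 F320873)) (tt N10582 (iv6 D32580)) (tt N33286 (iv7 F316521)))
theorem Q21656 : ∀ i, i < 21656 → P i := stepQ 21655 Q21655 (allL N21655 (tt N41437 F104207) (tt N10583 (iv0 D32581)) (tt N35917 (iv2 F93550)) (tt N15328 (iv3 F55713)) (tt N42634 D70200) (tt N23151 (iv5 F55715)) (tt N15325 F55712) (tt N23278 (iv7 F55714)))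
theorem Q21657 : ∀ i, i < 21657 → P i := stepQ 21656 Q21656 (allL N21656 (tt N10583 (iv1 D32582)) (tt N41437 (iv0 F104205)) (tt N23278 F93554) (tt N41370 (iv3 F104038)) (tt N42635 D70201) (tt N23152 F93556) (tt N23272 (iv6 F93555)) (tt N35917 F93553))
theorem Q21658 : ∀ i, i < 21658 → P i := stepQ 21657 Q21657 (allL N21657 (tt N18535 F56750) (tt N42636 D70202) (tt N42627 (iv2 F106634)) (tt N10585 F51643) (tt N34039 F86526) (tt N10583 (iv5 D32583)) (tt N40236 F322631) (tt N21859 (iv7 F52041)))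
theorem Q21659 : ∀ i, i < 21659 → P i := stepQ 21658 Q21658 (allL N21658 (tt N11030 F51646) (tt N11028 F51647) (tt N21863 (iv2 F52048)) (tt N42637 D70221) (tt N10585 (iv4 D32590)) (tt N21863 (iv5 F52049)) (tt N40237 F322633) (tt N21860 (iv7 F52042)))
theorem Q21660 : ∀ i, i < 21660 → P i := stepQ 21659 Q21659 (allL N21659 (tt N23381 (iv1 F55752)) (tt N22583 F54176) (tt N10586 (iv2 D32593)) (tt N33831 (iv3 F85785)) (tt N14930 (iv4 F54177)) (tt N23901 (iv5 F56722)) (tt N42638 D70222) (tt N33834 (iv7 F85800)))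
theorem Q21661 : ∀ i, i < 21661 → P i := stepQ 21660 Q21660 (allL N21660 (tt N14928 (iv1 F51664)) (tt N14932 (iv0 F51663)) (tt N14930 F54178) (tt N21532 (iv3 F51650)) (tt N10586 (iv4 D32594)) (tt N16351 F51649) (tt N42639 D70223) (tt N14929 F54361))
theorem Q21662 : ∀ i, i < 21662 → P i := stepQ 21661 Q21661 (allL N21661 (tt N40441 F324344) (tt N24191 F311465) (tt N42638 (iv2 F106680)) (tt N10588 F51651) (tt N42639 (iv4 F106684)) (tt N17978 F311466) (tt N10586 (iv6 D32595)) (tt N42640 D70226))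
theorem Q21663 : ∀ i, i < 21663 → P i := stepQ 21662 Q21662 (allL N21662 (tt N14754 F51662) (tt N32862 F83677) (tt N32861 F83671) (tt N10587 (iv3 D32596)) (tt N21532 F51652) (tt N21831 (iv5 F51994)) (tt N41317 (iv6 F312359)) (tt N22500 F310071))
theorem Q21664 : ∀ i, i < 21664 → P i := stepQ 21663 Q21663 (allL N21663 (tt N10588 (iv1 D32599)) (tt N22528 (iv0 F314040)) (tt N33833 F200057) (tt N42593 F324170) (tt N20929 F313560) (tt N42641 D70239) (tt N40234 (iv6 F315202)) (tt N20571 (iv7 F314037)))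
theorem Q21665 : ∀ i, i < 21665 → P i := stepQ 21664 Q21664 (allL N21664 (tt N33833 (iv1 F85791)) (tt N20571 F315387) (tt N22528 F315388) (tt N42640 (iv3 F106686)) (tt N17310 F315389) (tt N41451 (iv5 F104254)) (tt N17309 F315390) (tt N10588 (iv7 D32600)))
theorem Q21666 : ∀ i, i < 21666 → P i := stepQ 21665 Q21665 (allL N21665 (tt N23271 F55357) (tt N23373 (iv0 F55704)) (tt N10589 (iv2 D32603)) (tt N33834 (iv3 F85797)) (tt N23350 (iv4 F55665)) (tt N19466 F51654) (tt N42642 D70241) (tt N33831 (iv7 F85787)))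
theorem Q21667 : ∀ i, i < 21667 → P i := stepQ 21666 Q21666 (allL N21666 (tt N23354 F55669) (tt N23331 (iv0 F55614)) (tt N23350 F55664) (tt N35038 (iv3 F90719)) (tt N10589 (iv4 D32604)) (tt N35036 F90718) (tt N42643 D70242) (tt N23351 F55663))
theorem Q21668 : ∀ i, i < 21668 → P i := stepQ 21667 Q21667 (allL N21667 (tt N42644 D70243) (tt N42645 D70244) (tt N42642 (iv2 F106695)) (tt N10591 F51655) (tt N42643 (iv4 F106697)) (tt N19472 F51656) (tt N10589 (iv6 D32605)) (tt N22527 (iv7 F317593)))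
theorem Q21669 : ∀ i, i < 21669 → P i := stepQ 21668 Q21668 (allL N21668 (tt N42646 D70246) (tt N35044 (iv0 F90729)) (tt N42647 D70247) (tt N10590 (iv3 D32606)) (tt N35038 F90720) (tt N21836 (iv5 F52008)) (tt N17300 (iv6 F310202)) (tt N23362 (iv7 F55679)))
theorem Q21670 : ∀ i, i < 21670 → P i := stepQ 21669 Q21669 (allL N21669 (tt N17309 F313544) (tt N10591 (iv0 D32608)) (tt N22510 F313545) (tt N42592 F320896) (tt N21874 F313546) (tt N37648 (iv5 F96384)) (tt N36216 F319825) (tt N22511 F313547))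
theorem Q21671 : ∀ i, i < 21671 → P i := stepQ 21670 Q21670 (allL N21670 (tt N10591 (iv1 D32609)) (tt N17309 F313548) (tt N22511 F313549) (tt N33833 F237450) (tt N29816 F313550) (tt N37622 (iv5 F96345)) (tt N20575 (iv6 F315574)) (tt N22510 F313551))
theorem Q21672 : ∀ i, i < 21672 → P i := stepQ 21671 Q21671 (allL N21671 (tt N42648 D70260) (tt N41678 (iv0 F307840)) (tt N42649 D70262) (tt N10592 (iv3 D32611)) (tt N42650 D70263) (tt N21839 (iv5 F52019)) (tt N41668 (iv6 F307846)) (tt N33835 (iv7 F85818)))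
theorem Q21673 : ∀ i, i < 21673 → P i := stepQ 21672 Q21672 (allL N21672 (tt N34073 (iv1 F86678)) (tt N34070 (iv0 F86669)) (tt N16506 F51665) (tt N10593 (iv3 D32613)) (tt N16499 (iv4 F51661)) (tt N21841 (iv5 F52024)) (tt N29814 (iv6 F311227)) (tt N16503 F51660))
theorem Q21674 : ∀ i, i < 21674 → P i := stepQ 21673 Q21673 (allL N21673 (tt N41662 (iv1 F311436)) (tt N41674 (iv0 F311438)) (tt N33828 (iv2 F85753)) (tt N12345 F51667) (tt N10595 F51668) (tt N42651 D70276) (tt N10594 (iv6 D32615)) (tt N33579 (iv7 F311062)))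
theorem Q21675 : ∀ i, i < 21675 → P i := stepQ 21674 Q21674 (allL N21674 (tt N33829 (iv1 F85761)) (tt N10595 (iv0 D32616)) (tt N33826 (iv2 F110575)) (tt N42652 D70278) (tt N41327 F312652) (tt N30502 F312653) (tt N40232 (iv6 F313184)) (tt N33827 (iv7 F110574)))
theorem Q21676 : ∀ i, i < 21676 → P i := stepQ 21675 Q21675 (allL N21675 (tt N10595 (iv1 D32617)) (tt N33829 F85760) (tt N33827 (iv2 F110573)) (tt N42653 D70282) (tt N42654 D70283) (tt N21850 (iv5 F52035)) (tt N36218 F318623) (tt N33826 (iv7 F110577)))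
theorem Q21677 : ∀ i, i < 21677 → P i := stepQ 21676 Q21676 (allL N21676 (tt N23234 (iv1 F55280)) (tt N10596 (iv0 D32618)) (tt N23248 F55300) (tt N26551 (iv3 F65483)) (tt N23268 (iv4 F55338)) (tt N27076 (iv5 F68901)) (tt N11790 (iv6 F55282)) (tt N17333 F55281))
theorem Q21678 : ∀ i, i < 21678 → P i := stepQ 21677 Q21677 (allL N21677 (tt N25785 (iv1 F62303)) (tt N25782 F68209) (tt N26910 (iv2 F68204)) (tt N10597 F51669) (tt N14157 F51670) (tt N10596 (iv5 D32620)) (tt N42655 D70285) (tt N23249 (iv7 F55303)))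
theorem Q21679 : ∀ i, i < 21679 → P i := stepQ 21678 Q21678 (allL N21678 (tt N42656 D70286) (tt N13259 F157738) (tt N23247 (iv2 F55294)) (tt N42655 (iv3 F106720)) (tt N29246 (iv4 F75435)) (tt N41441 (iv5 F104223)) (tt N10597 (iv6 D32621)) (tt N42657 D70288))
theorem Q21680 : ∀ i, i < 21680 → P i := stepQ 21679 Q21679 (allL N21679 (tt N17529 F51674) (tt N14918 F51675) (tt N17527 F51671) (tt N10794 F51672) (tt N27472 (iv4 F70328)) (tt N10598 (iv5 D32622)) (tt N42658 D70289) (tt N17528 F51673))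
theorem Q21681 : ∀ i, i < 21681 → P i := stepQ 21680 Q21680 (allL N21680 (tt N21266 (iv1 F51678)) (tt N10599 (iv0 D32623)) (tt N16931 (iv2 F51677)) (tt N42659 D70290) (tt N42660 D70291) (tt N16925 F51676) (tt N42661 D70292) (tt N21241 F51679))
theorem Q21682 : ∀ i, i < 21682 → P i := stepQ 21681 Q21681 (allL N21681 (tt N42662 D70293) (tt N42663 D70294) (tt N34584 (iv2 F87983)) (tt N21090 F308229) (tt N10599 (iv4 D32624)) (tt N42664 D70296) (tt N20746 (iv6 F310239)) (tt N33836 (iv7 F85832)))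
theorem Q21683 : ∀ i, i < 21683 → P i := stepQ 21682 Q21682 (allL N21682 (tt N11488 (iv1 F55592)) (tt N11491 (iv0 F51683)) (tt N42659 (iv2 F106724)) (tt N10600 (iv3 D32626)) (tt N42665 D70301) (tt N16906 F51681) (tt N42666 D70302) (tt N16905 F51682))
theorem Q21684 : ∀ i, i < 21684 → P i := stepQ 21683 Q21683 (allL N21683 (tt N34297 F87128) (tt N21435 (iv0 F308783)) (tt N21275 F51688) (tt N42666 (iv3 F106751)) (tt N21424 F307336) (tt N21230 F51689) (tt N10600 (iv6 D32628)) (tt N42667 D70306))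
theorem Q21685 : ∀ i, i < 21685 → P i := stepQ 21684 Q21684 (allL N21684 (tt N11486 F51695) (tt N11486 (iv0 F51696)) (tt N21561 (iv2 F54091)) (tt N10601 (iv3 D32637)) (tt N21561 (iv4 F54089)) (tt N42668 D70324) (tt N11192 F54090) (tt N21561 (iv7 F54092)))
theorem Q21686 : ∀ i, i < 21686 → P i := stepQ 21685 Q21685 (allL N21685 (tt N11499 F54211) (tt N22850 F54535) (tt N22849 (iv2 F54526)) (tt N42668 (iv3 F106777)) (tt N29893 (iv4 F77555)) (tt N10601 (iv5 D32638)) (tt N42669 D70325) (tt N22848 (iv7 F54521)))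
theorem Q21687 : ∀ i, i < 21687 → P i := stepQ 21686 Q21686 (allL N21686 (tt N21323 (iv1 F54196)) (tt N21303 F54198) (tt N10603 F51699) (tt N21266 F51700) (tt N42670 D70326) (tt N10602 (iv5 D32640)) (tt N21426 F320519) (tt N21321 F54213))
theorem Q21688 : ∀ i, i < 21688 → P i := stepQ 21687 Q21687 (allL N21687 (tt N19003 F54199) (tt N22867 (iv0 F54549)) (tt N10604 F51701) (tt N22142 (iv3 F52531)) (tt N23383 (iv4 F55761)) (tt N22140 F52529) (tt N10602 (iv6 D32641)) (tt N38154 (iv7 F97544)))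
theorem Q21689 : ∀ i, i < 21689 → P i := stepQ 21688 Q21688 (allL N21688 (tt N42621 (iv1 F106557)) (tt N42623 (iv0 F106612)) (tt N42670 (iv2 F106784)) (tt N16484 (iv3 F51704)) (tt N10603 (iv4 D32644)) (tt N14925 F51703) (tt N42671 D70328) (tt N16474 F51702))
theorem Q21690 : ∀ i, i < 21690 → P i := stepQ 21689 Q21689 (allL N21689 (tt N42672 D70329) (tt N42673 D70330) (tt N21426 F320385) (tt N10606 F51708) (tt N42671 (iv4 F106793)) (tt N42674 D70331) (tt N10603 (iv6 D32645)) (tt N20749 (iv7 F316506)))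
theorem Q21691 : ∀ i, i < 21691 → P i := stepQ 21690 Q21690 (allL N21690 (tt N10604 (iv1 D32647)) (tt N38154 F97543) (tt N22867 (iv2 F54545)) (tt N42675 D70333) (tt N20913 F54099) (tt N10969 F54100) (tt N20912 F54101) (tt N19003 F54102))
theorem Q21692 : ∀ i, i < 21692 → P i := stepQ 21691 Q21691 (allL N21691 (tt N10903 F54206) (tt N21393 F54207) (tt N22140 (iv2 F52528)) (tt N10607 F51711) (tt N42676 D70334) (tt N10604 (iv5 D32648)) (tt N42674 (iv6 F106795)) (tt N22408 (iv7 F54097)))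
theorem Q21693 : ∀ i, i < 21693 → P i := stepQ 21692 Q21692 (allL N21692 (tt N34083 (iv1 F86705)) (tt N34081 (iv0 F86700)) (tt N16493 (iv2 F51714)) (tt N10605 (iv3 D32649)) (tt N16484 F51712) (tt N24752 (iv5 F59399)) (tt N20976 (iv6 F311532)) (tt N16482 F51713))
theorem Q21694 : ∀ i, i < 21694 → P i := stepQ 21693 Q21693 (allL N21693 (tt N16778 (iv1 F313567)) (tt N10606 (iv0 D32651)) (tt N20751 F313310) (tt N42677 D70340) (tt N16956 (iv4 F314035)) (tt N35448 (iv5 F92334)) (tt N42678 D70342) (tt N20750 (iv7 F313566)))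
theorem Q21695 : ∀ i, i < 21695 → P i := stepQ 21694 Q21694 (allL N21694 (tt N10606 (iv1 D32652)) (tt N16778 F314009) (tt N20750 F314010) (tt N20644 F317220) (tt N16955 F314011) (tt N12465 (iv5 F51717)) (tt N34295 F87110) (tt N20751 F314012))
theorem Q21696 : ∀ i, i < 21696 → P i := stepQ 21695 Q21695 (allL N21695 (tt N40840 F318649) (tt N20881 F320536) (tt N22535 (iv2 F53313)) (tt N42674 (iv3 F106794)) (tt N40241 (iv4 F320872)) (tt N10606 (iv5 D32653)) (tt N10607 F51716) (tt N20752 (iv7 F316507)))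
theorem Q21697 : ∀ i, i < 21697 → P i := stepQ 21696 Q21696 (allL N21696 (tt N17330 F51718) (tt N17328 F51719) (tt N21865 F52060) (tt N42679 D70349) (tt N10607 (iv4 D32655)) (tt N21865 (iv5 F52058)) (tt N40241 F322628) (tt N21864 F52056))
theorem Q21698 : ∀ i, i < 21698 → P i := stepQ 21697 Q21697 (allL N21697 (tt N18529 (iv1 F51726)) (tt N18492 F51723) (tt N10610 F51720) (tt N18507 F51721) (tt N10768 F51724) (tt N10609 (iv5 D32656)) (tt N42680 D70350) (tt N18532 F51722))
theorem Q21699 : ∀ i, i < 21699 → P i := stepQ 21698 Q21698 (allL N21698 (tt N10610 (iv1 D32657)) (tt N18532 F51729) (tt N18492 F51733) (tt N16478 (iv3 F51732)) (tt N21975 (iv4 F52302)) (tt N16477 F51731) (tt N23295 F303667) (tt N18529 F51730))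
theorem Q21700 : ∀ i, i < 21700 → P i := stepQ 21699 Q21699 (allL N21699 (tt N42681 D70352) (tt N42682 D70353) (tt N42680 (iv2 F106824)) (tt N10612 F51734) (tt N34016 (iv4 F86501)) (tt N19109 F51735) (tt N10610 (iv6 D32658)) (tt N42683 D70354))
theorem Q21701 : ∀ i, i < 21701 → P i := stepQ 21700 Q21700 (allL N21700 (tt N10611 (iv1 D32659)) (tt N10615 F51736) (tt N21423 (iv2 F305349)) (tt N24277 F58255) (tt N15319 F51739) (tt N16961 (iv5 F305350)) (tt N30506 F302969) (tt N21274 F51737))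
theorem Q21702 : ∀ i, i < 21702 → P i := stepQ 21701 Q21701 (allL N21701 (tt N42684 D70356) (tt N29763 F302977) (tt N42685 D70358) (tt N10611 (iv3 D32660)) (tt N25480 (iv4 F61205)) (tt N22500 (iv5 F308636)) (tt N22503 (iv6 F309359)) (tt N21831 (iv7 F51995)))
theorem Q21703 : ∀ i, i < 21703 → P i := stepQ 21702 Q21702 (allL N21702 (tt N21837 (iv1 F52012)) (tt N15338 F309154) (tt N21838 (iv2 F52013)) (tt N42683 (iv3 F106830)) (tt N11185 (iv4 F309320)) (tt N19112 F51741) (tt N21834 (iv6 F52002)) (tt N10612 (iv7 D32664)))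
theorem Q21704 : ∀ i, i < 21704 → P i := stepQ 21703 Q21703 (allL N21703 (tt N14835 F51745) (tt N18508 F51746) (tt N10614 F51742) (tt N18532 F51743) (tt N10879 F51747) (tt N10613 (iv5 D32665)) (tt N42686 D70373) (tt N18507 F51744))
theorem Q21705 : ∀ i, i < 21705 → P i := stepQ 21704 Q21704 (allL N21704 (tt N10854 F51751) (tt N10883 F51752) (tt N10879 F51749) (tt N42687 D70374) (tt N10614 (iv4 D32666)) (tt N22309 (iv5 F52892)) (tt N42688 D70375) (tt N10878 F51750))
theorem Q21706 : ∀ i, i < 21706 → P i := stepQ 21705 Q21705 (allL N21705 (tt N42689 D70376) (tt N42690 D70377) (tt N42686 (iv2 F106854)) (tt N10616 F51753) (tt N42688 (iv4 F106861)) (tt N21117 F51754) (tt N10614 (iv6 D32667)) (tt N42691 D70378))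
theorem Q21707 : ∀ i, i < 21707 → P i := stepQ 21706 Q21706 (allL N21706 (tt N42692 D70379) (tt N24262 (iv0 F58217)) (tt N42693 D70380) (tt N10615 (iv3 D32668)) (tt N42687 (iv4 F106858)) (tt N23362 (iv5 F55678)) (tt N42694 D70381) (tt N21836 (iv7 F52009)))
theorem Q21708 : ∀ i, i < 21708 → P i := stepQ 21707 Q21707 (allL N21707 (tt N42695 D70382) (tt N42696 D70383) (tt N21832 (iv2 F51996)) (tt N42694 (iv3 F106866)) (tt N10616 F51755) (tt N19455 (iv5 F309365)) (tt N10615 (iv6 D32669)) (tt N34428 (iv7 F309368)))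
theorem Q21709 : ∀ i, i < 21709 → P i := stepQ 21708 Q21708 (allL N21708 (tt N10616 (iv1 D32671)) (tt N21834 F52004) (tt N17435 F130807) (tt N21780 F155249) (tt N42697 D70390) (tt N29746 (iv5 F77150)) (tt N23663 (iv6 F56339)) (tt N21833 (iv7 F57953)))
theorem Q21710 : ∀ i, i < 21710 → P i := stepQ 21709 Q21709 (allL N21709 (tt N17435 F130802) (tt N21833 F52003) (tt N21834 (iv2 F52000)) (tt N42691 (iv3 F106862)) (tt N34428 (iv4 F309367)) (tt N21120 F51756) (tt N21838 (iv6 F52015)) (tt N10616 (iv7 D32672)))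
theorem Q21711 : ∀ i, i < 21711 → P i := stepQ 21710 Q21710 (allL N21710 (tt N36517 (iv1 F185361)) (tt N36606 (iv0 F185362)) (tt N22435 (iv2 F305186)) (tt N10619 F51757) (tt N22424 F305141) (tt N41597 (iv5 F104525)) (tt N10617 (iv6 D32674)) (tt N22438 (iv7 F305189)))
theorem Q21712 : ∀ i, i < 21712 → P i := stepQ 21711 Q21711 (allL N21711 (tt N32863 F83683) (tt N25449 (iv0 F61044)) (tt N42698 D70394) (tt N10618 (iv3 D32675)) (tt N22430 (iv4 F53009)) (tt N23388 (iv5 F55771)) (tt N42699 D70395) (tt N22793 (iv7 F310756)))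
theorem Q21713 : ∀ i, i < 21713 → P i := stepQ 21712 Q21712 (allL N21712 (tt N22801 (iv1 F308931)) (tt N22800 F308856) (tt N22803 F308857) (tt N42699 (iv3 F106874)) (tt N10619 F51758) (tt N20588 (iv5 F309121)) (tt N10618 (iv6 D32676)) (tt N15236 F308858))
theorem Q21714 : ∀ i, i < 21714 → P i := stepQ 21713 Q21713 (allL N21713 (tt N37368 (iv1 F306126)) (tt N37367 (iv0 F307991)) (tt N37369 F306042) (tt N10621 (iv3 D32686)) (tt N36527 (iv4 F94752)) (tt N21093 F306043) (tt N37366 F306044) (tt N19041 (iv7 F307293)))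
theorem Q21715 : ∀ i, i < 21715 → P i := stepQ 21714 Q21714 (allL N21714 (tt N21005 (iv1 F307050)) (tt N20232 F307988) (tt N21006 (iv2 F307049)) (tt N37366 F306040) (tt N11800 F51761) (tt N20579 (iv5 F309980)) (tt N10621 (iv6 D32687)) (tt N11153 F306041))
theorem Q21716 : ∀ i, i < 21716 → P i := stepQ 21715 Q21715 (allL N21715 (tt N42700 D70434) (tt N42701 D70435) (tt N24750 (iv2 F59396)) (tt N10622 (iv3 D32688)) (tt N17244 F51762) (tt N16482 F51763) (tt N11152 (iv6 F311351)) (tt N24752 (iv7 F59398)))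
theorem Q21717 : ∀ i, i < 21717 → P i := stepQ 21716 Q21716 (allL N21716 (tt N33861 (iv1 F85934)) (tt N10623 (iv0 D32690)) (tt N33858 F85907) (tt N18379 F313319) (tt N11000 F53215) (tt N18375 (iv5 F313740)) (tt N38330 (iv6 F309008)) (tt N33859 (iv7 F85922)))
theorem Q21718 : ∀ i, i < 21718 → P i := stepQ 21717 Q21717 (allL N21717 (tt N10623 (iv1 D32691)) (tt N33861 F85933) (tt N33859 F85924) (tt N42702 D70444) (tt N11001 F51765) (tt N36647 (iv5 F309166)) (tt N21552 F307353) (tt N33858 F85908))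
theorem Q21719 : ∀ i, i < 21719 → P i := stepQ 21718 Q21718 (allL N21718 (tt N17329 (iv1 F307207)) (tt N22576 F305285) (tt N22575 (iv2 F307215)) (tt N12348 F51766) (tt N35287 (iv4 F91901)) (tt N10623 (iv5 D32692)) (tt N42651 (iv6 F106717)) (tt N22574 (iv7 F307218)))
theorem Q21720 : ∀ i, i < 21720 → P i := stepQ 21719 Q21719 (allL N21719 (tt N33859 (iv1 F85921)) (tt N33858 F85909) (tt N33861 (iv2 F85930)) (tt N12349 F51767) (tt N10626 F51768) (tt N22574 F308863) (tt N33822 (iv6 F85746)) (tt N10623 (iv7 D32693)))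
theorem Q21721 : ∀ i, i < 21721 → P i := stepQ 21720 Q21720 (allL N21720 (tt N36546 (iv1 F189987)) (tt N29796 F189978) (tt N36545 (iv2 F189897)) (tt N10624 (iv3 D32694)) (tt N22502 F307897) (tt N42703 D70453) (tt N42704 D70454) (tt N33857 (iv7 F85903)))
theorem Q21722 : ∀ i, i < 21722 → P i := stepQ 21721 Q21721 (allL N21721 (tt N22492 (iv1 F53231)) (tt N17295 (iv0 F53204)) (tt N22488 F53220) (tt N42705 D70455) (tt N10624 (iv4 D32695)) (tt N25178 F311836) (tt N38276 (iv6 F312638)) (tt N22489 (iv7 F53222)))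
theorem Q21723 : ∀ i, i < 21723 → P i := stepQ 21722 Q21722 (allL N21722 (tt N21818 (iv1 F51966)) (tt N17437 F51771) (tt N21819 (iv2 F51970)) (tt N42703 (iv3 F106919)) (tt N11990 F300287) (tt N10624 (iv5 D32696)) (tt N21824 (iv6 F51980)) (tt N11989 F300288))
theorem Q21724 : ∀ i, i < 21724 → P i := stepQ 21723 Q21723 (allL N21723 (tt N35497 F199744) (tt N25226 (iv0 F199791)) (tt N33856 (iv2 F85900)) (tt N42704 (iv3 F106921)) (tt N38276 (iv4 F312637)) (tt N34393 F87452) (tt N10624 (iv6 D32697)) (tt N35498 (iv7 F199770)))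
theorem Q21725 : ∀ i, i < 21725 → P i := stepQ 21724 Q21724 (allL N21724 (tt N35078 (iv1 F190034)) (tt N36558 (iv0 F190004)) (tt N36557 (iv2 F189886)) (tt N10625 (iv3 D32698)) (tt N22334 F190662) (tt N21814 F51957) (tt N28720 F310337) (tt N33855 (iv7 F85899)))
theorem Q21726 : ∀ i, i < 21726 → P i := stepQ 21725 Q21725 (allL N21725 (tt N17295 F51772) (tt N22492 F53230) (tt N22489 F53227) (tt N42706 D70466) (tt N10625 (iv4 D32699)) (tt N17953 F311619) (tt N17364 F311620) (tt N22488 F53221))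
theorem Q21727 : ∀ i, i < 21727 → P i := stepQ 21726 Q21726 (allL N21726 (tt N36638 (iv1 F109842)) (tt N36633 (iv0 F109834)) (tt N22873 F307347) (tt N28720 F310334) (tt N17364 (iv4 F309394)) (tt N21817 (iv5 F51965)) (tt N10625 (iv6 D32700)) (tt N22877 F307348))
theorem Q21728 : ∀ i, i < 21728 → P i := stepQ 21727 Q21727 (allL N21727 (tt N23686 (iv1 F56379)) (tt N10627 (iv0 D32701)) (tt N23685 F189992) (tt N36558 (iv3 F190006)) (tt N42707 D70472) (tt N36546 F189993) (tt N23965 (iv6 F188914)) (tt N12647 F189994))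
theorem Q21729 : ∀ i, i < 21729 → P i := stepQ 21728 Q21728 (allL N21728 (tt N23685 (iv1 F56380)) (tt N12647 F189890) (tt N10627 (iv2 D32703)) (tt N23659 (iv3 F56323)) (tt N42708 D70480) (tt N42709 D70481) (tt N42710 D70482) (tt N23686 (iv7 F56378)))
theorem Q21730 : ∀ i, i < 21730 → P i := stepQ 21729 Q21729 (allL N21729 (tt N42711 D70483) (tt N25063 (iv0 F60245)) (tt N42708 (iv2 F106932)) (tt N17484 F51773) (tt N10627 (iv4 D32704)) (tt N42712 D70484) (tt N38324 (iv6 F307432)) (tt N23677 (iv7 F56370)))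
theorem Q21731 : ∀ i, i < 21731 → P i := stepQ 21730 Q21730 (allL N21730 (tt N42713 D70486) (tt N42714 D70487) (tt N42709 (iv2 F106934)) (tt N10628 F51774) (tt N23319 F305253) (tt N10627 (iv5 D32705)) (tt N20215 F309205) (tt N23316 F305254))
theorem Q21732 : ∀ i, i < 21732 → P i := stepQ 21731 Q21731 (allL N21731 (tt N42715 D70490) (tt N42716 D70491) (tt N42710 (iv2 F106935)) (tt N10629 F51775) (tt N38324 F309479) (tt N20216 F313398) (tt N10627 (iv6 D32706)) (tt N34760 (iv7 F89223)))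
theorem Q21733 : ∀ i, i < 21733 → P i := stepQ 21732 Q21732 (allL N21732 (tt N10631 (iv1 F51777)) (tt N10628 (iv0 D32707)) (tt N23662 F56334) (tt N39844 F322852) (tt N22777 (iv4 F306298)) (tt N11346 F51776) (tt N42717 D70494) (tt N23663 (iv7 F56337)))
theorem Q21734 : ∀ i, i < 21734 → P i := stepQ 21733 Q21733 (allL N21733 (tt N10628 (iv1 D32708)) (tt N10631 F51779) (tt N23663 F56340) (tt N17437 (iv3 F130824)) (tt N22778 (iv4 F306299)) (tt N24216 F303015) (tt N17435 F130819) (tt N23662 F56335))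
theorem Q21735 : ∀ i, i < 21735 → P i := stepQ 21734 Q21734 (allL N21734 (tt N22345 (iv1 F190673)) (tt N36573 F190658) (tt N36556 (iv2 F189924)) (tt N17491 F51780) (tt N10630 (iv4 D32714)) (tt N42718 D70519) (tt N42719 D70520) (tt N23649 (iv7 F56318)))
theorem Q21736 : ∀ i, i < 21736 → P i := stepQ 21735 Q21735 (allL N21735 (tt N42720 D70521) (tt N42721 D70522) (tt N29332 (iv2 F304632)) (tt N10631 F51781) (tt N12823 F302973) (tt N10630 (iv5 D32715)) (tt N12615 F302974) (tt N23660 (iv7 F56329)))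
theorem Q21737 : ∀ i, i < 21737 → P i := stepQ 21736 Q21736 (allL N21736 (tt N36605 (iv1 F191375)) (tt N24300 (iv0 F309390)) (tt N34951 (iv2 F308471)) (tt N10632 F51782) (tt N42719 (iv4 F106970)) (tt N12616 F307344) (tt N10630 (iv6 D32716)) (tt N36604 (iv7 F190685)))
theorem Q21738 : ∀ i, i < 21738 → P i := stepQ 21737 Q21737 (allL N21737 (tt N30513 (iv1 F307313)) (tt N30512 (iv0 F307315)) (tt N23688 (iv2 F56385)) (tt N42722 D70528) (tt N10631 (iv4 D32717)) (tt N34357 (iv5 F307317)) (tt N30508 F305336) (tt N11182 (iv7 F307318)))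
theorem Q21739 : ∀ i, i < 21739 → P i := stepQ 21738 Q21738 (allL N21738 (tt N17034 F85749) (tt N17031 (iv0 F51784)) (tt N17032 F51783) (tt N12615 (iv3 F300218)) (tt N30508 F305255) (tt N12614 (iv5 F300219)) (tt N10631 (iv6 D32718)) (tt N17033 (iv7 F51785)))
theorem Q21740 : ∀ i, i < 21740 → P i := stepQ 21739 Q21739 (allL N21739 (tt N21554 (iv1 F51918)) (tt N21552 F51786) (tt N23690 (iv2 F56394)) (tt N12616 (iv3 F305352)) (tt N36638 (iv4 F305354)) (tt N10632 (iv5 D32720)) (tt N12614 (iv6 F305355)) (tt N36634 (iv7 F305358)))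
theorem Q21741 : ∀ i, i < 21741 → P i := stepQ 21740 Q21740 (allL N21740 (tt N18518 F51789) (tt N18494 F51790) (tt N18513 F51787) (tt N42723 D70533) (tt N10633 (iv4 D32721)) (tt N36532 (iv5 F94768)) (tt N42724 D70534) (tt N18514 F51788))
theorem Q21742 : ∀ i, i < 21742 → P i := stepQ 21741 Q21741 (allL N21741 (tt N22859 F130976) (tt N42725 D70536) (tt N22106 (iv2 F52488)) (tt N10637 F51791) (tt N42724 (iv4 F106989)) (tt N19007 F51792) (tt N10633 (iv6 D32722)) (tt N42726 D70537))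
theorem Q21743 : ∀ i, i < 21743 → P i := stepQ 21742 Q21742 (allL N21742 (tt N17158 F51796) (tt N11473 F51798) (tt N17161 F51793) (tt N10634 (iv3 D32723)) (tt N21545 (iv4 F51797)) (tt N17101 F51794) (tt N42727 D70538) (tt N17154 F51795))
theorem Q21744 : ∀ i, i < 21744 → P i := stepQ 21743 Q21743 (allL N21743 (tt N22121 F185043) (tt N42728 D70540) (tt N17198 F51799) (tt N42727 (iv3 F106993)) (tt N41943 (iv4 F105118)) (tt N17317 F51800) (tt N10634 (iv6 D32724)) (tt N42729 D70541))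
theorem Q21745 : ∀ i, i < 21745 → P i := stepQ 21744 Q21744 (allL N21744 (tt N34323 F87214) (tt N22744 F304559) (tt N22829 (iv2 F54492)) (tt N17152 F51806) (tt N22827 F304560) (tt N15227 F51807) (tt N10635 (iv6 D32726)) (tt N38348 F304561))
theorem Q21746 : ∀ i, i < 21746 → P i := stepQ 21745 Q21745 (allL N21745 (tt N38379 F302959) (tt N19118 F302960) (tt N38369 (iv2 F303820)) (tt N10636 (iv3 D32727)) (tt N42723 (iv4 F106985)) (tt N33835 (iv5 F85817)) (tt N19111 (iv6 F305327)) (tt N21839 (iv7 F52020)))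
theorem Q21747 : ∀ i, i < 21747 → P i := stepQ 21746 Q21746 (allL N21746 (tt N10637 (iv1 D32730)) (tt N22839 (iv0 F310520)) (tt N22841 (iv2 F309944)) (tt N17361 (iv3 F162889)) (tt N17352 (iv4 F311324)) (tt N37484 (iv5 F96088)) (tt N22747 (iv6 F311121)) (tt N17350 F309128))
theorem Q21748 : ∀ i, i < 21748 → P i := stepQ 21747 Q21747 (allL N21747 (tt N22841 (iv1 F309943)) (tt N17350 F309126) (tt N22839 (iv2 F310521)) (tt N42726 (iv3 F106990)) (tt N15339 F309127) (tt N19010 F51809) (tt N33863 (iv6 F85945)) (tt N10637 (iv7 D32731)))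
theorem Q21749 : ∀ i, i < 21749 → P i := stepQ 21748 Q21748 (allL N21748 (tt N17528 F51812) (tt N17527 F51813) (tt N17529 F51810) (tt N26936 (iv3 F68286)) (tt N23256 (iv4 F55312)) (tt N10638 (iv5 D32732)) (tt N27113 (iv6 F68976)) (tt N14918 F51811))
theorem Q21750 : ∀ i, i < 21750 → P i := stepQ 21749 Q21749 (allL N21749 (tt N11788 (iv1 F51815)) (tt N10639 (iv0 D32733)) (tt N23902 F56729) (tt N14746 (iv3 F51816)) (tt N13780 (iv4 F51817)) (tt N14745 F51814) (tt N42730 D70563) (tt N23903 (iv7 F56732)))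
theorem Q21751 : ∀ i, i < 21751 → P i := stepQ 21750 Q21750 (allL N21750 (tt N10639 (iv1 D32734)) (tt N11788 F51818) (tt N23903 F56734) (tt N42731 D70564) (tt N27302 (iv4 F70041)) (tt N16550 F51819) (tt N42732 D70565) (tt N23902 F56730))
theorem Q21752 : ∀ i, i < 21752 → P i := stepQ 21751 Q21751 (allL N21751 (tt N13896 F51821) (tt N27490 F70347) (tt N23904 (iv2 F56737)) (tt N27444 (iv3 F70286)) (tt N10639 (iv4 D32735)) (tt N13889 F51820) (tt N42733 D70566) (tt N27467 (iv7 F70311)))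
theorem Q21753 : ∀ i, i < 21753 → P i := stepQ 21752 Q21752 (allL N21752 (tt N42734 D70567) (tt N42735 D70568) (tt N23905 (iv2 F56741)) (tt N33034 F328470) (tt N42733 (iv4 F107033)) (tt N32414 (iv5 F82800)) (tt N10639 (iv6 D32736)) (tt N42736 D70569))
theorem Q21754 : ∀ i, i < 21754 → P i := stepQ 21753 Q21753 (allL N21753 (tt N42737 D70570) (tt N42738 D70571) (tt N24733 (iv2 F59380)) (tt N10640 (iv3 D32737)) (tt N17241 F51822) (tt N16503 F51823) (tt N42739 D70572) (tt N21841 (iv7 F52025)))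
theorem Q21755 : ∀ i, i < 21755 → P i := stepQ 21754 Q21754 (allL N21754 (tt N23085 F130793) (tt N42697 (iv0 F107421)) (tt N21840 (iv2 F52021)) (tt N42739 (iv3 F107041)) (tt N10641 F51824) (tt N19060 F309086) (tt N10640 (iv6 D32738)) (tt N30558 F309087))
theorem Q21756 : ∀ i, i < 21756 → P i := stepQ 21755 Q21755 (allL N21755 (tt N33863 (iv1 F85953)) (tt N10641 (iv0 D32739)) (tt N33862 (iv2 F85950)) (tt N23052 (iv3 F130858)) (tt N42740 D70578) (tt N33796 F85951) (tt N42741 D70579) (tt N23057 F130856))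
theorem Q21757 : ∀ i, i < 21757 → P i := stepQ 21756 Q21756 (allL N21756 (tt N23057 F130853) (tt N33862 F85946) (tt N33863 (iv2 F85943)) (tt N22105 (iv3 F52487)) (tt N30558 F309190) (tt N21210 F51825) (tt N22839 (iv6 F310522)) (tt N10641 (iv7 D32740)))
theorem Q21758 : ∀ i, i < 21758 → P i := stepQ 21757 Q21757 (allL N21757 (tt N32821 (iv1 F83608)) (tt N23148 F55085) (tt N10643 F51826) (tt N22093 F52472) (tt N16402 F51827) (tt N42742 D70580) (tt N10642 (iv6 D32741)) (tt N32819 (iv7 F83598)))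
theorem Q21759 : ∀ i, i < 21759 → P i := stepQ 21758 Q21758 (allL N21758 (tt N32819 (iv1 F83597)) (tt N10643 (iv0 D32742)) (tt N32821 (iv2 F83603)) (tt N23143 (iv3 F83383)) (tt N32717 F83382) (tt N42743 D70581) (tt N32802 (iv6 F83570)) (tt N23148 F83384))
theorem Q21760 : ∀ i, i < 21760 → P i := stepQ 21759 Q21759 (allL N21759 (tt N42744 D70582) (tt N42745 D70583) (tt N42742 (iv2 F107045)) (tt N10647 F51828) (tt N42746 D70584) (tt N10643 (iv5 D32743)) (tt N30661 F315164) (tt N33891 (iv7 F86006)))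
theorem Q21761 : ∀ i, i < 21761 → P i := stepQ 21760 Q21760 (allL N21760 (tt N42747 D70585) (tt N17923 F232423) (tt N21911 (iv2 F52171)) (tt N25062 (iv3 F60242)) (tt N21595 F51829) (tt N40008 (iv5 F312279)) (tt N10645 (iv6 D32744)) (tt N40006 (iv7 F312271)))
theorem Q21762 : ∀ i, i < 21762 → P i := stepQ 21761 Q21761 (allL N21761 (tt N42748 D70589) (tt N22415 F106804) (tt N21912 (iv2 F52173)) (tt N17134 F51830) (tt N42749 D70590) (tt N10646 (iv5 D32745)) (tt N40008 F314639) (tt N22242 (iv7 F52835)))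
theorem Q21763 : ∀ i, i < 21763 → P i := stepQ 21762 Q21762 (allL N21762 (tt N42750 D70591) (tt N42751 D70592) (tt N33866 (iv2 F85973)) (tt N42752 D70593) (tt N10647 (iv4 D32746)) (tt N42753 D70594) (tt N30662 F315167) (tt N33892 (iv7 F86007)))
theorem Q21764 : ∀ i, i < 21764 → P i := stepQ 21763 Q21763 (allL N21763 (tt N21500 F51834) (tt N21499 F51835) (tt N17165 F51831) (tt N17098 F51832) (tt N32844 (iv4 F83649)) (tt N10648 (iv5 D32747)) (tt N42754 D70595) (tt N17163 F51833))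
theorem Q21765 : ∀ i, i < 21765 → P i := stepQ 21764 Q21764 (allL N21764 (tt N22285 (iv1 F232348)) (tt N22399 (iv0 F232345)) (tt N22232 (iv2 F52819)) (tt N17100 F51836) (tt N21596 F51837) (tt N41621 (iv5 F104581)) (tt N10649 (iv6 D32748)) (tt N22398 F232291))
theorem Q21766 : ∀ i, i < 21766 → P i := stepQ 21765 Q21765 (allL N21765 (tt N34784 (iv1 F89621)) (tt N34783 F89618) (tt N12077 F51838) (tt N10650 (iv3 D32749)) (tt N27681 (iv4 F70915)) (tt N25620 (iv5 F61721)) (tt N34483 (iv6 F300134)) (tt N33867 (iv7 F85977)))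
theorem Q21767 : ∀ i, i < 21767 → P i := stepQ 21766 Q21766 (allL N21766 (tt N10663 (iv1 F51843)) (tt N10651 (iv0 D32751)) (tt N10661 F155311) (tt N36420 (iv3 F191020)) (tt N42755 D70606) (tt N42756 D70607) (tt N42757 D70608) (tt N10662 F155312))
theorem Q21768 : ∀ i, i < 21768 → P i := stepQ 21767 Q21767 (allL N21767 (tt N10651 (iv1 D32752)) (tt N10663 F51841) (tt N10662 (iv2 F155304)) (tt N42758 D70610) (tt N26177 F286791) (tt N42759 D70612) (tt N30665 F310492) (tt N10661 (iv7 F155310)))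
theorem Q21769 : ∀ i, i < 21769 → P i := stepQ 21768 Q21768 (allL N21768 (tt N10662 (iv1 F51844)) (tt N10661 F51845) (tt N10663 F51842) (tt N33864 (iv3 F85962)) (tt N34488 (iv4 F305304)) (tt N37572 (iv5 F96286)) (tt N33872 (iv6 F85988)) (tt N10651 (iv7 D32753)))
theorem Q21770 : ∀ i, i < 21770 → P i := stepQ 21769 Q21769 (allL N21769 (tt N21559 (iv1 F51851)) (tt N21542 F51850) (tt N10652 (iv2 D32754)) (tt N21566 F51846) (tt N17076 F51847) (tt N11769 F51848) (tt N42760 D70614) (tt N21558 F51849))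
theorem Q21771 : ∀ i, i < 21771 → P i := stepQ 21770 Q21770 (allL N21770 (tt N42761 D70615) (tt N42762 D70616) (tt N42760 (iv2 F107080)) (tt N10654 F51852) (tt N22115 (iv4 F52495)) (tt N37585 (iv5 F96308)) (tt N10652 (iv6 D32755)) (tt N42763 D70617))
theorem Q21772 : ∀ i, i < 21772 → P i := stepQ 21771 Q21771 (allL N21771 (tt N10653 (iv1 D32756)) (tt N10656 F51853) (tt N14292 (iv2 F51856)) (tt N25789 (iv3 F62310)) (tt N10867 F51855) (tt N24482 (iv5 F58824)) (tt N42764 D70618) (tt N14293 F51854))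
theorem Q21773 : ∀ i, i < 21773 → P i := stepQ 21772 Q21772 (allL N21772 (tt N42765 D70619) (tt N42766 D70620) (tt N21577 F51857) (tt N14093 F51858) (tt N10654 F51859) (tt N42767 D70621) (tt N10653 (iv6 D32757)) (tt N42768 D70622))
theorem Q21774 : ∀ i, i < 21774 → P i := stepQ 21773 Q21773 (allL N21773 (tt N21580 (iv1 F51863)) (tt N10654 (iv0 D32758)) (tt N21551 (iv2 F155473)) (tt N15255 F309488) (tt N42769 D70625) (tt N42770 D70626) (tt N15254 F309489) (tt N21578 (iv7 F155475)))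
theorem Q21775 : ∀ i, i < 21775 → P i := stepQ 21774 Q21774 (allL N21774 (tt N10654 (iv1 D32759)) (tt N21580 F51860) (tt N21578 F155476) (tt N10667 (iv3 F155478)) (tt N42771 D70630) (tt N42772 D70631) (tt N42773 D70632) (tt N21551 F155477))
theorem Q21776 : ∀ i, i < 21776 → P i := stepQ 21775 Q21775 (allL N21775 (tt N21578 (iv1 F51864)) (tt N21551 (iv0 F155097)) (tt N21580 F51861) (tt N42763 (iv3 F107083)) (tt N42768 (iv4 F107093)) (tt N37589 (iv5 F96310)) (tt N21564 F51862) (tt N10654 (iv7 D32760)))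
theorem Q21777 : ∀ i, i < 21777 → P i := stepQ 21776 Q21776 (allL N21776 (tt N17151 F51868) (tt N17187 F51869) (tt N17183 F51866) (tt N42774 D70633) (tt N10655 (iv4 D32761)) (tt N24115 (iv5 F57444)) (tt N36960 F315084) (tt N17182 F51867))
theorem Q21778 : ∀ i, i < 21778 → P i := stepQ 21777 Q21777 (allL N21777 (tt N42775 D70635) (tt N42776 D70636) (tt N36419 (iv2 F94554)) (tt N10657 F51870) (tt N36960 F315083) (tt N41628 (iv5 F104601)) (tt N10655 (iv6 D32762)) (tt N42777 D70637))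
theorem Q21779 : ∀ i, i < 21779 → P i := stepQ 21778 Q21778 (allL N21778 (tt N14264 (iv1 F51875)) (tt N13963 (iv0 F51874)) (tt N14099 F51871) (tt N10656 (iv3 D32763)) (tt N42774 (iv4 F107102)) (tt N14098 F51872) (tt N42778 D70638) (tt N14260 F51873))
theorem Q21780 : ∀ i, i < 21780 → P i := stepQ 21779 Q21779 (allL N21779 (tt N42779 D70639) (tt N42780 D70640) (tt N14294 F51876) (tt N42778 (iv3 F107111)) (tt N10657 F51877) (tt N42781 D70641) (tt N10656 (iv6 D32764)) (tt N42782 D70642))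
theorem Q21781 : ∀ i, i < 21781 → P i := stepQ 21780 Q21780 (allL N21780 (tt N10657 (iv1 D32766)) (tt N21564 F51878) (tt N11344 F155247) (tt N21708 (iv3 F155249)) (tt N42783 D70650) (tt N42784 D70651) (tt N42785 D70652) (tt N21563 F155354))
theorem Q21782 : ∀ i, i < 21782 → P i := stepQ 21781 Q21781 (allL N21781 (tt N11344 (iv1 F155356)) (tt N21563 F51883) (tt N21564 F51879) (tt N42777 (iv3 F107108)) (tt N42782 (iv4 F107116)) (tt N41634 (iv5 F104613)) (tt N21580 F51880) (tt N10657 (iv7 D32767)))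
theorem Q21783 : ∀ i, i < 21783 → P i := stepQ 21782 Q21782 (allL N21782 (tt N13997 F51886) (tt N25663 F61854) (tt N12821 F51884) (tt N10658 (iv3 D32768)) (tt N27937 F72246) (tt N12820 F51885) (tt N42786 D70653) (tt N28388 (iv7 F73776)))
theorem Q21784 : ∀ i, i < 21784 → P i := stepQ 21783 Q21783 (allL N21783 (tt N42769 (iv1 F232741)) (tt N42771 (iv0 F232730)) (tt N28648 (iv2 F74331)) (tt N42786 (iv3 F107125)) (tt N33837 (iv4 F85852)) (tt N42787 D70656) (tt N10658 (iv6 D32769)) (tt N42788 D70657))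
theorem Q21785 : ∀ i, i < 21785 → P i := stepQ 21784 Q21784 (allL N21784 (tt N34567 (iv1 F232531)) (tt N42783 (iv0 F232532)) (tt N33874 (iv2 F85994)) (tt N12804 F51887) (tt N23285 (iv4 F55387)) (tt N42789 D70660) (tt N10659 (iv6 D32770)) (tt N42790 D70661))
theorem Q21786 : ∀ i, i < 21786 → P i := stepQ 21785 Q21785 (allL N21785 (tt N12682 F51891) (tt N12751 F51892) (tt N12749 F51888) (tt N28051 (iv3 F72607)) (tt N10660 (iv4 D32771)) (tt N17037 F51890) (tt N42791 D70662) (tt N12750 F51889))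
theorem Q21787 : ∀ i, i < 21787 → P i := stepQ 21786 Q21786 (allL N21786 (tt N42792 D70663) (tt N42793 D70664) (tt N25621 (iv2 F61722)) (tt N12094 F51893) (tt N42791 (iv4 F107130)) (tt N34884 (iv5 F304452)) (tt N10660 (iv6 D32772)) (tt N42794 D70666))
theorem Q21788 : ∀ i, i < 21788 → P i := stepQ 21787 Q21787 (allL N21787 (tt N42795 D70687) (tt N26159 F303950) (tt N42796 D70689) (tt N10661 (iv3 D32778)) (tt N24068 F303951) (tt N25395 (iv5 F306047)) (tt N42797 D70692) (tt N42758 (iv7 F155305)))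
theorem Q21789 : ∀ i, i < 21789 → P i := stepQ 21788 Q21788 (allL N21788 (tt N42798 D70694) (tt N42764 (iv0 F190484)) (tt N42755 (iv2 F155314)) (tt N26033 F286798) (tt N10661 (iv4 D32779)) (tt N33726 F314532) (tt N42799 D70698) (tt N26177 F286799))
theorem Q21790 : ∀ i, i < 21790 → P i := stepQ 21789 Q21789 (allL N21789 (tt N42800 D70700) (tt N42801 D70701) (tt N42756 (iv2 F155316)) (tt N25395 (iv3 F306046)) (tt N23568 (iv4 F306049)) (tt N10661 (iv5 D32780)) (tt N42802 D70703) (tt N42759 (iv7 F155309)))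
theorem Q21791 : ∀ i, i < 21791 → P i := stepQ 21790 Q21790 (allL N21790 (tt N42785 (iv1 F155263)) (tt N42803 D70706) (tt N42757 (iv2 F155318)) (tt N42797 (iv3 F107152)) (tt N42799 (iv4 F107156)) (tt N17022 F51898) (tt N10661 (iv6 D32781)) (tt N42804 D70707))
theorem Q21792 : ∀ i, i < 21792 → P i := stepQ 21791 Q21791 (allL N21791 (tt N32799 (iv1 F190985)) (tt N36423 (iv0 F190986)) (tt N36421 (iv2 F191016)) (tt N10662 (iv3 D32783)) (tt N42805 D70712) (tt N42806 D70713) (tt N42807 D70714) (tt N36420 (iv7 F191022)))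
theorem Q21793 : ∀ i, i < 21793 → P i := stepQ 21792 Q21792 (allL N21792 (tt N42764 (iv1 F190485)) (tt N42798 F107159) (tt N26177 F286790) (tt N34498 F303367) (tt N10662 (iv4 D32784)) (tt N42808 D70716) (tt N42809 D70717) (tt N42755 (iv7 F155315)))
theorem Q21794 : ∀ i, i < 21794 → P i := stepQ 21793 Q21793 (allL N21793 (tt N42801 (iv1 F107161)) (tt N42800 F107168) (tt N42759 (iv2 F155308)) (tt N42806 (iv3 F107177)) (tt N23567 (iv4 F306050)) (tt N10662 (iv5 D32785)) (tt N41447 (iv6 F104239)) (tt N42756 (iv7 F155317)))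
theorem Q21795 : ∀ i, i < 21795 → P i := stepQ 21794 Q21794 (allL N21794 (tt N30663 F310483) (tt N15254 F310484) (tt N30665 F310485) (tt N42807 (iv3 F107178)) (tt N42809 (iv4 F107179)) (tt N25255 F155150) (tt N10662 (iv6 D32786)) (tt N30664 F310486))
theorem Q21796 : ∀ i, i < 21796 → P i := stepQ 21795 Q21795 (allL N21795 (tt N21514 (iv1 F51902)) (tt N10664 (iv0 D32787)) (tt N10901 (iv2 F51901)) (tt N42810 D70723) (tt N10872 F51900) (tt N35098 (iv5 F90854)) (tt N42811 D70724) (tt N10870 F51903))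
theorem Q21797 : ∀ i, i < 21797 → P i := stepQ 21796 Q21796 (allL N21796 (tt N18578 F51906) (tt N18581 F51907) (tt N34506 (iv2 F87738)) (tt N11560 F51904) (tt N22353 (iv4 F52933)) (tt N10664 (iv5 D32788)) (tt N42812 D70725) (tt N21517 F51905))
theorem Q21798 : ∀ i, i < 21798 → P i := stepQ 21797 Q21797 (allL N21797 (tt N42813 D70726) (tt N42814 D70727) (tt N36436 (iv2 F94599)) (tt N11561 F51908) (tt N10665 F51909) (tt N42815 D70728) (tt N10664 (iv6 D32789)) (tt N42816 D70729))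
theorem Q21799 : ∀ i, i < 21799 → P i := stepQ 21798 Q21798 (allL N21798 (tt N36438 (iv1 F94605)) (tt N10665 (iv0 D32790)) (tt N23678 F310559) (tt N42817 D70731) (tt N37212 F309722) (tt N23673 F310560) (tt N37211 F309723) (tt N36437 F234215))
theorem Q21800 : ∀ i, i < 21800 → P i := stepQ 21799 Q21799 (allL N21799 (tt N10665 (iv1 D32791)) (tt N36438 F94604) (tt N36437 (iv2 F234212)) (tt N42712 F309469) (tt N42818 D70737) (tt N17484 F309470) (tt N42819 D70739) (tt N23678 F309471))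
theorem Q21801 : ∀ i, i < 21801 → P i := stepQ 21800 Q21800 (allL N21800 (tt N36437 (iv1 F94601)) (tt N23678 F311345) (tt N36438 (iv2 F94602)) (tt N10668 F51910) (tt N42816 (iv4 F107191)) (tt N23423 F311346) (tt N21522 F51911) (tt N10665 (iv7 D32792)))
theorem Q21802 : ∀ i, i < 21802 → P i := stepQ 21801 Q21801 (allL N21801 (tt N23690 (iv1 F56396)) (tt N36634 (iv0 F305356)) (tt N21552 F51913) (tt N30685 F311349) (tt N34327 (iv4 F307148)) (tt N10666 (iv5 D32794)) (tt N33859 (iv6 F307149)) (tt N21554 F51914))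
theorem Q21803 : ∀ i, i < 21803 → P i := stepQ 21802 Q21802 (allL N21802 (tt N36634 (iv1 F305357)) (tt N23690 (iv0 F56395)) (tt N21554 F51916) (tt N42772 (iv3 F155483)) (tt N42820 D70753) (tt N10667 (iv5 D32796)) (tt N38343 (iv6 F98048)) (tt N21552 F51917))
theorem Q21804 : ∀ i, i < 21804 → P i := stepQ 21803 Q21803 (allL N21803 (tt N21637 (iv1 F51922)) (tt N10702 F52074) (tt N21555 F51920) (tt N42773 (iv3 F155486)) (tt N11356 F51921) (tt N23968 (iv5 F57051)) (tt N10667 (iv6 D32797)) (tt N24185 (iv7 F57634)))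
theorem Q21805 : ∀ i, i < 21805 → P i := stepQ 21804 Q21804 (allL N21804 (tt N17159 F51925) (tt N21545 F51926) (tt N10670 F51923) (tt N42821 D70754) (tt N10669 (iv4 D32798)) (tt N21544 F302901) (tt N19463 (iv6 F305239)) (tt N21534 F51924))
theorem Q21806 : ∀ i, i < 21806 → P i := stepQ 21805 Q21805 (allL N21805 (tt N42822 D70756) (tt N23323 (iv0 F308063)) (tt N10671 F51927) (tt N21515 F51928) (tt N19463 F307176) (tt N42823 D70758) (tt N10669 (iv6 D32799)) (tt N37511 (iv7 F309062)))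
theorem Q21807 : ∀ i, i < 21807 → P i := stepQ 21806 Q21806 (allL N21806 (tt N21534 (iv1 F51930)) (tt N10670 (iv0 D32800)) (tt N17159 (iv2 F51931)) (tt N36453 F303811) (tt N17154 F51929) (tt N23921 (iv5 F56837)) (tt N27737 F298523) (tt N21545 (iv7 F51932)))
theorem Q21808 : ∀ i, i < 21808 → P i := stepQ 21807 Q21807 (allL N21807 (tt N37511 (iv1 F309059)) (tt N10671 (iv0 D32804)) (tt N42822 (iv2 F233794)) (tt N42824 D70769) (tt N23324 F307953) (tt N42825 D70771) (tt N42826 D70772) (tt N23323 (iv7 F308066)))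
theorem Q21809 : ∀ i, i < 21809 → P i := stepQ 21808 Q21808 (allL N21808 (tt N10671 (iv1 D32805)) (tt N37511 (iv0 F309058)) (tt N23323 (iv2 F308065)) (tt N42827 D70774) (tt N17534 F307954) (tt N42828 D70776) (tt N42829 D70777) (tt N42822 (iv7 F233795)))
theorem Q21810 : ∀ i, i < 21810 → P i := stepQ 21809 Q21809 (allL N21809 (tt N42830 D70778) (tt N42831 D70779) (tt N42823 (iv2 F107229)) (tt N10672 F51944) (tt N42832 D70780) (tt N10671 (iv5 D32806)) (tt N11457 F51945) (tt N42833 D70781))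
theorem Q21811 : ∀ i, i < 21811 → P i := stepQ 21810 Q21810 (allL N21810 (tt N23323 (iv1 F308064)) (tt N42822 F107236) (tt N37511 (iv2 F309060)) (tt N10673 F51946) (tt N19460 F307955) (tt N42833 (iv5 F107258)) (tt N21550 F51947) (tt N10671 (iv7 D32807)))
theorem Q21812 : ∀ i, i < 21812 → P i := stepQ 21811 Q21811 (allL N21811 (tt N23073 (iv1 F54945)) (tt N23076 (iv0 F54948)) (tt N21526 F51948) (tt N42834 D70782) (tt N10672 (iv4 D32808)) (tt N25166 (iv5 F60385)) (tt N11459 F51949) (tt N36649 (iv7 F94948)))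
theorem Q21813 : ∀ i, i < 21813 → P i := stepQ 21812 Q21812 (allL N21812 (tt N12519 (iv1 F51952)) (tt N12499 F51953) (tt N21527 F51950) (tt N42833 (iv3 F107257)) (tt N36649 (iv4 F94947)) (tt N10673 F51951) (tt N41689 (iv6 F104737)) (tt N10672 (iv7 D32809)))
theorem Q21814 : ∀ i, i < 21814 → P i := stepQ 21813 Q21813 (allL N21813 (tt N42835 D70800) (tt N42836 D70801) (tt N25443 (iv2 F303540)) (tt N10675 F51955) (tt N24250 (iv4 F303551)) (tt N10674 (iv5 D32814)) (tt N42837 D70803) (tt N24219 F300748))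
theorem Q21815 : ∀ i, i < 21815 → P i := stepQ 21814 Q21814 (allL N21814 (tt N42838 D70804) (tt N42839 D70805) (tt N36452 (iv2 F189879)) (tt N10676 F51956) (tt N27990 F300749) (tt N21724 (iv5 F51957)) (tt N10674 (iv6 D32815)) (tt N42840 D70806))
theorem Q21816 : ∀ i, i < 21816 → P i := stepQ 21815 Q21815 (allL N21815 (tt N10678 (iv1 F51959)) (tt N10675 (iv0 D32816)) (tt N17730 (iv2 F298474)) (tt N25434 (iv3 F299955)) (tt N12250 (iv4 F299957)) (tt N11822 F297731) (tt N41335 (iv6 F103951)) (tt N24214 (iv7 F298476)))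
theorem Q21817 : ∀ i, i < 21817 → P i := stepQ 21816 Q21816 (allL N21816 (tt N10675 (iv1 D32817)) (tt N10678 F51961) (tt N24214 F298515) (tt N42801 (iv3 F184644)) (tt N12217 (iv4 F301197)) (tt N11821 F298516) (tt N19487 F51964) (tt N17730 F298517))
theorem Q21818 : ∀ i, i < 21818 → P i := stepQ 21817 Q21817 (allL N21817 (tt N37508 F96166) (tt N30556 (iv0 F309490)) (tt N24215 F300751) (tt N42837 (iv3 F107269)) (tt N24112 (iv4 F303553)) (tt N21726 F51965) (tt N10675 (iv6 D32819)) (tt N42841 D70815))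
theorem Q21819 : ∀ i, i < 21819 → P i := stepQ 21818 Q21818 (allL N21818 (tt N10676 (iv1 D32821)) (tt N21722 F51966) (tt N24216 (iv2 F300283)) (tt N42803 (iv3 F155259)) (tt N11350 F51967) (tt N23663 (iv5 F56338)) (tt N24204 (iv6 F57685)) (tt N11346 (iv7 F51968)))
theorem Q21820 : ∀ i, i < 21820 → P i := stepQ 21819 Q21819 (allL N21819 (tt N24216 F300752) (tt N11346 (iv0 F51973)) (tt N21722 F51970) (tt N42840 (iv3 F107271)) (tt N11706 F51971) (tt N17024 F51972) (tt N23996 (iv6 F57130)) (tt N10676 (iv7 D32822)))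
theorem Q21821 : ∀ i, i < 21821 → P i := stepQ 21820 Q21820 (allL N21820 (tt N10677 (iv1 D32824)) (tt N24212 (iv0 F300279)) (tt N21546 (iv2 F300277)) (tt N42795 (iv3 F189083)) (tt N42684 (iv4 F300233)) (tt N21534 (iv5 F301137)) (tt N24200 F189466) (tt N21544 (iv7 F190030)))
theorem Q21822 : ∀ i, i < 21822 → P i := stepQ 21821 Q21821 (allL N21821 (tt N21544 (iv1 F191245)) (tt N21546 (iv0 F300276)) (tt N10677 (iv2 D32825)) (tt N24218 (iv3 F299515)) (tt N27739 F298511) (tt N14865 (iv5 F301191)) (tt N42842 D70829) (tt N24212 (iv7 F300281)))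
theorem Q21823 : ∀ i, i < 21823 → P i := stepQ 21822 Q21822 (allL N21822 (tt N42843 D70838) (tt N42844 D70839) (tt N42842 (iv2 F107300)) (tt N10679 F51976) (tt N27740 F298514) (tt N25207 (iv5 F60475)) (tt N10677 (iv6 D32828)) (tt N42845 D70840))
theorem Q21824 : ∀ i, i < 21824 → P i := stepQ 21823 Q21823 (allL N21823 (tt N37506 (iv1 F96162)) (tt N18961 (iv0 F51977)) (tt N24221 (iv2 F301186)) (tt N25445 (iv3 F301193)) (tt N24118 (iv4 F301198)) (tt N25209 (iv5 F60480)) (tt N10678 (iv6 D32830)) (tt N37505 (iv7 F96156)))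
theorem Q21825 : ∀ i, i < 21825 → P i := stepQ 21824 Q21824 (allL N21824 (tt N11347 (iv1 F51981)) (tt N11336 F51982) (tt N23996 (iv2 F57129)) (tt N42845 (iv3 F107308)) (tt N11814 F298519) (tt N17970 F51979) (tt N21722 F51980) (tt N10679 (iv7 D32831)))
theorem Q21826 : ∀ i, i < 21826 → P i := stepQ 21825 Q21825 (allL N21825 (tt N27680 (iv1 F70919)) (tt N27679 F70913) (tt N12014 F51983) (tt N10682 (iv3 D32832)) (tt N33867 (iv4 F85975)) (tt N21094 (iv5 F307267)) (tt N42846 D70844) (tt N27681 (iv7 F70917)))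
theorem Q21827 : ∀ i, i < 21827 → P i := stepQ 21826 Q21826 (allL N21826 (tt N42641 (iv1 F305296)) (tt N40246 F315893) (tt N10693 F51985) (tt N42846 (iv3 F107317)) (tt N10683 F51986) (tt N42847 D70847) (tt N10682 (iv6 D32833)) (tt N42848 D70848))
theorem Q21828 : ∀ i, i < 21828 → P i := stepQ 21827 Q21827 (allL N21827 (tt N10697 (iv1 F51989)) (tt N10683 (iv0 D32834)) (tt N10694 (iv2 F110553)) (tt N36477 (iv3 F205761)) (tt N42849 D70851) (tt N18372 F319594) (tt N30669 (iv6 F308390)) (tt N10695 (iv7 F110563)))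
theorem Q21829 : ∀ i, i < 21829 → P i := stepQ 21828 Q21828 (allL N21828 (tt N10683 (iv1 D32835)) (tt N10697 F51987) (tt N10695 (iv2 F110562)) (tt N36472 (iv3 F188370)) (tt N40209 F311563) (tt N40758 F323255) (tt N40213 (iv6 F314003)) (tt N10694 (iv7 F110554)))
theorem Q21830 : ∀ i, i < 21830 → P i := stepQ 21829 Q21829 (allL N21829 (tt N10695 (iv1 F51990)) (tt N10694 F51991) (tt N10697 F51988) (tt N33872 (iv3 F85987)) (tt N42848 (iv4 F107322)) (tt N34394 (iv5 F87455)) (tt N33864 (iv6 F85964)) (tt N10683 (iv7 D32836)))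
theorem Q21831 : ∀ i, i < 21831 → P i := stepQ 21830 Q21830 (allL N21830 (tt N42850 D70859) (tt N42851 D70860) (tt N36468 (iv2 F94677)) (tt N10686 F51992) (tt N21993 (iv4 F52317)) (tt N20940 F51993) (tt N10684 (iv6 D32837)) (tt N42852 D70861))
theorem Q21832 : ∀ i, i < 21832 → P i := stepQ 21831 Q21831 (allL N21831 (tt N42457 (iv1 F106219)) (tt N42466 (iv0 F106254)) (tt N42853 D70862) (tt N10685 (iv3 D32838)) (tt N21991 (iv4 F52312)) (tt N21662 F51994) (tt N40029 (iv6 F310065)) (tt N21701 F51995))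
theorem Q21833 : ∀ i, i < 21833 → P i := stepQ 21832 Q21832 (allL N21832 (tt N42740 (iv1 F131044)) (tt N42304 (iv0 F107358)) (tt N21707 F51996) (tt N40029 (iv3 F310064)) (tt N10686 F51997) (tt N19032 F313228) (tt N10685 (iv6 D32839)) (tt N22843 (iv7 F311396)))
theorem Q21834 : ∀ i, i < 21834 → P i := stepQ 21833 Q21833 (allL N21833 (tt N21709 (iv1 F52003)) (tt N10686 (iv0 D32840)) (tt N11332 F130799) (tt N21563 F155353) (tt N42854 D70869) (tt N42855 D70870) (tt N42856 D70871) (tt N21708 F57953))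
theorem Q21835 : ∀ i, i < 21835 → P i := stepQ 21834 Q21834 (allL N21834 (tt N21708 (iv1 F52004)) (tt N11332 F130800) (tt N21709 F52000) (tt N42852 (iv3 F107331)) (tt N22843 (iv4 F311395)) (tt N20943 F52001) (tt N21702 F52002) (tt N10686 (iv7 D32842)))
theorem Q21836 : ∀ i, i < 21836 → P i := stepQ 21835 Q21835 (allL N21835 (tt N42857 D70874) (tt N42858 D70875) (tt N36433 (iv2 F94591)) (tt N10689 F52006) (tt N22209 (iv4 F52727)) (tt N19507 F52007) (tt N10687 (iv6 D32843)) (tt N42859 D70876))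
theorem Q21837 : ∀ i, i < 21837 → P i := stepQ 21836 Q21836 (allL N21836 (tt N42250 F306198) (tt N25386 F296539) (tt N42860 D70878) (tt N10688 (iv3 D32844)) (tt N22207 (iv4 F52724)) (tt N21668 F52008) (tt N22844 (iv6 F308195)) (tt N21706 F52009))
theorem Q21838 : ∀ i, i < 21838 → P i := stepQ 21837 Q21837 (allL N21837 (tt N10689 (iv1 D32847)) (tt N21702 F52012) (tt N21553 F109853) (tt N21578 (iv3 F155094)) (tt N15258 F309492) (tt N38329 (iv5 F97974)) (tt N30671 F309493) (tt N15255 F309494))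
theorem Q21839 : ∀ i, i < 21839 → P i := stepQ 21838 Q21838 (allL N21838 (tt N21553 (iv1 F109884)) (tt N15255 F309487) (tt N21702 F52013) (tt N42859 (iv3 F107375)) (tt N17351 (iv4 F311323)) (tt N19510 F52014) (tt N21709 F52015) (tt N10689 (iv7 D32848)))
theorem Q21840 : ∀ i, i < 21840 → P i := stepQ 21839 Q21839 (allL N21839 (tt N19516 F303821) (tt N37646 F303822) (tt N37645 F303823) (tt N10690 (iv3 D32849)) (tt N28141 F296778) (tt N21671 F52019) (tt N42861 D70896) (tt N21745 F52020))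
theorem Q21841 : ∀ i, i < 21841 → P i := stepQ 21840 Q21840 (allL N21840 (tt N42854 (iv1 F107373)) (tt N34575 (iv0 F130795)) (tt N21754 F52021) (tt N42861 (iv3 F107414)) (tt N17030 F52022) (tt N19486 (iv5 F309093)) (tt N10690 (iv6 D32850)) (tt N30686 (iv7 F309096)))
theorem Q21842 : ∀ i, i < 21842 → P i := stepQ 21841 Q21841 (allL N21841 (tt N42862 D70899) (tt N37612 F307189) (tt N32853 (iv2 F83661)) (tt N10691 (iv3 D32851)) (tt N12260 F52023) (tt N21672 F52024) (tt N30687 (iv6 F309090)) (tt N21753 F52025))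
theorem Q21843 : ∀ i, i < 21843 → P i := stepQ 21842 Q21842 (allL N21842 (tt N41709 (iv1 F317439)) (tt N41713 F315626) (tt N21095 F310982) (tt N12040 F52029) (tt N16869 F52030) (tt N21155 F310983) (tt N10692 (iv6 D32853)) (tt N42863 D70909))
theorem Q21844 : ∀ i, i < 21844 → P i := stepQ 21843 Q21843 (allL N21843 (tt N42848 (iv1 F107326)) (tt N10693 (iv0 D32854)) (tt N42641 (iv2 F305297)) (tt N37622 (iv3 F303597)) (tt N34124 (iv4 F185136)) (tt N33833 (iv5 F305299)) (tt N30689 (iv6 F305300)) (tt N40246 F315895))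
theorem Q21845 : ∀ i, i < 21845 → P i := stepQ 21844 Q21844 (allL N21844 (tt N10693 (iv1 D32855)) (tt N42848 F107324) (tt N40246 F315890) (tt N42864 D70916) (tt N34125 (iv4 F108329)) (tt N20571 F315891) (tt N20874 F315892) (tt N42641 (iv7 F305298)))
theorem Q21846 : ∀ i, i < 21846 → P i := stepQ 21845 Q21845 (allL N21845 (tt N42296 F316535) (tt N40482 F314932) (tt N42847 (iv2 F107319)) (tt N12043 F52031) (tt N38159 F314933) (tt N10693 (iv5 D32856)) (tt N21155 (iv6 F309245)) (tt N42326 F314934))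
theorem Q21847 : ∀ i, i < 21847 → P i := stepQ 21846 Q21846 (allL N21846 (tt N40246 F314930) (tt N42641 (iv0 F305295)) (tt N42848 (iv2 F107321)) (tt N12044 F52032) (tt N10697 F52033) (tt N42326 F314931) (tt N12743 F297836) (tt N10693 (iv7 D32857)))
theorem Q21848 : ∀ i, i < 21848 → P i := stepQ 21847 Q21847 (allL N21847 (tt N36474 (iv1 F188311)) (tt N36464 (iv0 F188317)) (tt N36471 (iv2 F188368)) (tt N10694 (iv3 D32859)) (tt N17131 F305696) (tt N39779 F322435) (tt N42865 D70935) (tt N36472 (iv7 F188372)))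
theorem Q21849 : ∀ i, i < 21849 → P i := stepQ 21848 Q21848 (allL N21848 (tt N41036 F307320) (tt N41943 (iv0 F110803)) (tt N42849 (iv2 F110556)) (tt N42866 D70939) (tt N10694 (iv4 D32860)) (tt N23358 (iv5 F309343)) (tt N22846 (iv6 F309348)) (tt N40209 (iv7 F309341)))
theorem Q21850 : ∀ i, i < 21850 → P i := stepQ 21849 Q21849 (allL N21849 (tt N40489 F311457) (tt N33365 (iv0 F321631)) (tt N18372 F318525) (tt N39779 (iv3 F320645)) (tt N38096 (iv4 F320265)) (tt N10694 (iv5 D32861)) (tt N18368 F318526) (tt N40758 F323256))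
theorem Q21851 : ∀ i, i < 21851 → P i := stepQ 21850 Q21850 (allL N21850 (tt N30671 F310469) (tt N15223 F310470) (tt N30669 F310471) (tt N42865 (iv3 F107483)) (tt N22846 F310472) (tt N21675 F52035) (tt N10694 (iv6 D32862)) (tt N30670 F310473))
theorem Q21852 : ∀ i, i < 21852 → P i := stepQ 21851 Q21851 (allL N21851 (tt N36434 (iv1 F191286)) (tt N24157 F304634) (tt N36478 (iv2 F205764)) (tt N10695 (iv3 D32864)) (tt N22260 F190163) (tt N42867 D70956) (tt N42868 D70957) (tt N36477 (iv7 F205763)))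
theorem Q21853 : ∀ i, i < 21853 → P i := stepQ 21852 Q21852 (allL N21852 (tt N41943 (iv1 F110804)) (tt N41036 F307319) (tt N40209 (iv2 F309340)) (tt N42869 D70958) (tt N10695 (iv4 D32865)) (tt N20661 (iv5 F309241)) (tt N33242 (iv6 F309342)) (tt N42849 (iv7 F110557)))
theorem Q21854 : ∀ i, i < 21854 → P i := stepQ 21853 Q21853 (allL N21853 (tt N33365 (iv1 F321632)) (tt N40489 (iv0 F309242)) (tt N40758 F323253) (tt N42867 (iv3 F107504)) (tt N42870 D70961) (tt N10695 (iv5 D32866)) (tt N36655 (iv6 F94955)) (tt N18372 F319596))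
theorem Q21855 : ∀ i, i < 21855 → P i := stepQ 21854 Q21854 (allL N21854 (tt N36370 (iv1 F130817)) (tt N42856 (iv0 F114112)) (tt N40213 (iv2 F314002)) (tt N42868 (iv3 F107505)) (tt N33242 F311566) (tt N42871 D70964) (tt N10695 (iv6 D32867)) (tt N42872 D70965))
theorem Q21856 : ∀ i, i < 21856 → P i := stepQ 21855 Q21855 (allL N21855 (tt N34394 (iv1 F87462)) (tt N10696 (iv0 D32868)) (tt N34392 (iv2 F87460)) (tt N42873 D70966) (tt N42874 D70967) (tt N35498 (iv5 F199768)) (tt N42875 D70968) (tt N34393 F87461))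
theorem Q21857 : ∀ i, i < 21857 → P i := stepQ 21856 Q21856 (allL N21856 (tt N10696 (iv1 D32869)) (tt N34394 F87458) (tt N34393 (iv2 F87453)) (tt N42876 D70969) (tt N42877 D70970) (tt N33856 (iv5 F85901)) (tt N12490 (iv6 F57135)) (tt N34392 (iv7 F87459)))
theorem Q21858 : ∀ i, i < 21858 → P i := stepQ 21857 Q21857 (allL N21857 (tt N42878 D70971) (tt N42879 D70972) (tt N34391 (iv2 F87448)) (tt N41288 (iv3 F319576)) (tt N10696 (iv4 D32870)) (tt N37028 F318538) (tt N10700 F52037) (tt N42880 D70975))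
theorem Q21859 : ∀ i, i < 21859 → P i := stepQ 21858 Q21858 (allL N21858 (tt N34393 (iv1 F87450)) (tt N34392 F87457) (tt N34394 (iv2 F87454)) (tt N10707 F52038) (tt N42880 (iv4 F107520)) (tt N10697 F52039) (tt N34389 (iv6 F87442)) (tt N10696 (iv7 D32871)))
theorem Q21860 : ∀ i, i < 21860 → P i := stepQ 21859 Q21859 (allL N21859 (tt N23147 F78811) (tt N23150 (iv0 F77019)) (tt N36475 F94684) (tt N10698 (iv3 D32872)) (tt N42881 D70976) (tt N20994 F52040) (tt N42882 D70977) (tt N21657 F52041))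
theorem Q21861 : ∀ i, i < 21861 → P i := stepQ 21860 Q21860 (allL N21860 (tt N17312 F52043) (tt N17316 F52044) (tt N22536 F53321) (tt N42883 D70978) (tt N10698 (iv4 D32873)) (tt N22536 (iv5 F53319)) (tt N42884 D70979) (tt N21658 F52042))
theorem Q21862 : ∀ i, i < 21862 → P i := stepQ 21861 Q21861 (allL N21861 (tt N12515 F52046) (tt N20500 F318497) (tt N20506 F316483) (tt N42882 (iv3 F107526)) (tt N42884 (iv4 F107529)) (tt N10715 F52045) (tt N10698 (iv6 D32874)) (tt N16699 F316484))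
theorem Q21863 : ∀ i, i < 21863 → P i := stepQ 21862 Q21862 (allL N21862 (tt N36353 (iv1 F94423)) (tt N36354 (iv0 F94427)) (tt N36480 F94688) (tt N10699 (iv3 D32875)) (tt N22274 F86016) (tt N11515 F52047) (tt N41222 F322548) (tt N34388 (iv7 F87430)))
theorem Q21864 : ∀ i, i < 21864 → P i := stepQ 21863 Q21863 (allL N21863 (tt N17316 F52050) (tt N17312 F52051) (tt N21658 F52048) (tt N42885 D70981) (tt N10699 (iv4 D32876)) (tt N21658 F52049) (tt N40652 F322549) (tt N22536 (iv7 F53318)))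
theorem Q21865 : ∀ i, i < 21865 → P i := stepQ 21864 Q21864 (allL N21864 (tt N11043 (iv1 F52055)) (tt N10700 (iv0 D32878)) (tt N34355 (iv2 F87354)) (tt N42886 D70986) (tt N11027 F52054) (tt N34355 (iv5 F87355)) (tt N41566 F318471) (tt N21696 (iv7 F52056)))
theorem Q21866 : ∀ i, i < 21866 → P i := stepQ 21865 Q21865 (allL N21865 (tt N10700 (iv1 D32879)) (tt N11043 F52057) (tt N21696 (iv2 F52060)) (tt N42887 D70988) (tt N11026 F52059) (tt N21696 F52058) (tt N40662 F321277) (tt N34355 (iv7 F87356)))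
theorem Q21867 : ∀ i, i < 21867 → P i := stepQ 21866 Q21866 (allL N21866 (tt N24201 (iv1 F57671)) (tt N10701 (iv0 D32881)) (tt N24200 (iv2 F191183)) (tt N24157 F302896) (tt N42888 D70995) (tt N42889 D70996) (tt N21546 F302897) (tt N21541 (iv7 F191189)))
theorem Q21868 : ∀ i, i < 21868 → P i := stepQ 21867 Q21867 (allL N21867 (tt N24200 (iv1 F57672)) (tt N21541 (iv0 F190058)) (tt N10701 (iv2 D32883)) (tt N24183 (iv3 F57616)) (tt N42890 D71003) (tt N33361 F319298) (tt N42891 D71005) (tt N24201 (iv7 F57670)))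
theorem Q21869 : ∀ i, i < 21869 → P i := stepQ 21868 Q21868 (allL N21868 (tt N42892 D71006) (tt N37647 F303933) (tt N42890 (iv2 F107553)) (tt N12042 F297928) (tt N10701 (iv4 D32884)) (tt N42644 (iv5 F306014)) (tt N42893 D71009) (tt N24190 (iv7 F57661)))
theorem Q21870 : ∀ i, i < 21870 → P i := stepQ 21869 Q21869 (allL N21869 (tt N42894 D71014) (tt N42895 D71015) (tt N42891 (iv2 F107555)) (tt N10702 F52064) (tt N42893 (iv4 F107559)) (tt N21638 (iv5 F52065)) (tt N10701 (iv6 D32886)) (tt N42896 D71016))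
theorem Q21871 : ∀ i, i < 21871 → P i := stepQ 21870 Q21870 (allL N21870 (tt N10702 (iv1 D32891)) (tt N21637 F52070) (tt N24185 (iv2 F57637)) (tt N15223 F310468) (tt N11337 F52071) (tt N18374 (iv5 F312645)) (tt N11336 (iv6 F52072)) (tt N21555 F52073))
theorem Q21872 : ∀ i, i < 21872 → P i := stepQ 21871 Q21871 (allL N21871 (tt N24185 (iv1 F57633)) (tt N21555 (iv0 F52078)) (tt N21637 F52075) (tt N42896 (iv3 F107562)) (tt N11869 F52076) (tt N16994 F52077) (tt N24205 (iv6 F57691)) (tt N10702 (iv7 D32892)))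
theorem Q21873 : ∀ i, i < 21873 → P i := stepQ 21872 Q21872 (allL N21872 (tt N42811 (iv1 F190179)) (tt N42897 D71037) (tt N36490 (iv2 F188334)) (tt N12129 F298880) (tt N10703 (iv4 D32896)) (tt N42898 D71038) (tt N42899 D71039) (tt N24172 (iv7 F57605)))
theorem Q21874 : ∀ i, i < 21874 → P i := stepQ 21873 Q21873 (allL N21873 (tt N36344 (iv1 F188385)) (tt N36347 (iv0 F205204)) (tt N36492 (iv2 F188341)) (tt N10704 F52081) (tt N42899 (iv4 F107582)) (tt N42900 D71045) (tt N10703 (iv6 D32898)) (tt N42901 D71046))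
theorem Q21875 : ∀ i, i < 21875 → P i := stepQ 21874 Q21874 (allL N21874 (tt N14875 F52083) (tt N14872 F52084) (tt N18613 F52082) (tt N42900 (iv3 F107583)) (tt N21669 (iv4 F313546)) (tt N10704 (iv5 D32900)) (tt N33331 F313847) (tt N18614 (iv7 F52085)))
theorem Q21876 : ∀ i, i < 21876 → P i := stepQ 21875 Q21875 (allL N21875 (tt N11334 (iv1 F52089)) (tt N24204 F57688) (tt N24205 (iv2 F57689)) (tt N42901 (iv3 F107585)) (tt N17599 F52086) (tt N18614 F52087) (tt N21637 F52088) (tt N10704 (iv7 D32901)))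
theorem Q21877 : ∀ i, i < 21877 → P i := stepQ 21876 Q21876 (allL N21876 (tt N42889 (iv1 F191248)) (tt N29777 F189965) (tt N42902 D71050) (tt N10705 (iv3 D32902)) (tt N42903 D71051) (tt N34760 (iv5 F89222)) (tt N41260 F313394) (tt N20216 F313395))
theorem Q21878 : ∀ i, i < 21878 → P i := stepQ 21877 Q21877 (allL N21877 (tt N36456 (iv1 F190973)) (tt N36495 (iv0 F190970)) (tt N36493 (iv2 F190677)) (tt N10706 (iv3 D32905)) (tt N42904 D71061) (tt N23661 F56331) (tt N11090 F310580) (tt N33904 (iv7 F86021)))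
theorem Q21879 : ∀ i, i < 21879 → P i := stepQ 21878 Q21878 (allL N21878 (tt N33474 F316501) (tt N33470 F316502) (tt N33905 (iv2 F86041)) (tt N34389 (iv3 F87440)) (tt N22763 F316503) (tt N19519 F52106) (tt N10707 (iv6 D32913)) (tt N10717 F52107))
theorem Q21880 : ∀ i, i < 21880 → P i := stepQ 21879 Q21879 (allL N21879 (tt N29771 (iv1 F77250)) (tt N10732 (iv0 F52108)) (tt N29773 (iv2 F77255)) (tt N23146 (iv3 F55074)) (tt N10708 (iv4 D32914)) (tt N42905 D71078) (tt N19459 (iv6 F54259)) (tt N23141 (iv7 F55050)))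
theorem Q21881 : ∀ i, i < 21881 → P i := stepQ 21880 Q21880 (allL N21880 (tt N20409 F320857) (tt N10714 F77274) (tt N20414 (iv2 F323737)) (tt N36354 (iv3 F94425)) (tt N42906 D71079) (tt N10708 (iv5 D32915)) (tt N42907 D71080) (tt N20413 (iv7 F323733)))
theorem Q21882 : ∀ i, i < 21882 → P i := stepQ 21881 Q21881 (allL N21881 (tt N30537 F78832) (tt N33911 F86081) (tt N10711 F52109) (tt N33907 (iv3 F86051)) (tt N42908 D71081) (tt N10709 (iv5 D32916)) (tt N22718 F314693) (tt N29778 (iv7 F77266)))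
theorem Q21883 : ∀ i, i < 21883 → P i := stepQ 21882 Q21882 (allL N21882 (tt N32965 F94965) (tt N42909 D71083) (tt N21954 (iv2 F52278)) (tt N18487 F52110) (tt N42910 D71084) (tt N10710 (iv5 D32917)) (tt N42911 D71085) (tt N32721 (iv7 F83392)))
theorem Q21884 : ∀ i, i < 21884 → P i := stepQ 21883 Q21883 (allL N21883 (tt N29778 F77268) (tt N10711 (iv0 D32918)) (tt N30537 (iv2 F78829)) (tt N36356 F94436) (tt N42912 D71086) (tt N23379 F77108) (tt N42913 D71087) (tt N33911 (iv7 F86082)))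
theorem Q21885 : ∀ i, i < 21885 → P i := stepQ 21884 Q21884 (allL N21884 (tt N10711 (iv1 D32919)) (tt N29778 (iv0 F77267)) (tt N33911 F86080) (tt N42914 D71088) (tt N42915 D71089) (tt N23380 (iv5 F77101)) (tt N40609 F320399) (tt N30537 (iv7 F78830)))
theorem Q21886 : ∀ i, i < 21886 → P i := stepQ 21885 Q21885 (allL N21885 (tt N22547 F53324) (tt N42916 D71091) (tt N42908 (iv2 F107616)) (tt N22712 (iv3 F317407)) (tt N10711 (iv4 D32920)) (tt N42917 D71093) (tt N22710 F315180) (tt N33912 (iv7 F86084)))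
theorem Q21887 : ∀ i, i < 21887 → P i := stepQ 21886 Q21886 (allL N21886 (tt N33907 F86054) (tt N10712 (iv0 D32928)) (tt N33909 F86063) (tt N42745 F107048) (tt N42198 (iv4 F105570)) (tt N33489 F84940) (tt N33322 F319288) (tt N33908 F86058))
theorem Q21888 : ∀ i, i < 21888 → P i := stepQ 21887 Q21887 (allL N21887 (tt N10712 (iv1 D32929)) (tt N33907 (iv0 F86053)) (tt N33908 F86057) (tt N23151 F56719) (tt N42199 (iv4 F105576)) (tt N15328 (iv5 F56718)) (tt N34737 F312232) (tt N33909 (iv7 F86061)))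
theorem Q21889 : ∀ i, i < 21889 → P i := stepQ 21888 Q21888 (allL N21888 (tt N22416 (iv1 F79148)) (tt N22413 (iv0 F52989)) (tt N36496 (iv2 F94703)) (tt N39970 (iv3 F320533)) (tt N10712 (iv4 D32930)) (tt N42918 D71118) (tt N42919 D71119) (tt N33910 (iv7 F86065)))
theorem Q21890 : ∀ i, i < 21890 → P i := stepQ 21889 Q21889 (allL N21889 (tt N42920 D71120) (tt N40757 F322975) (tt N36497 (iv2 F94704)) (tt N10713 F52115) (tt N42919 (iv4 F107639)) (tt N41600 (iv5 F104530)) (tt N10712 (iv6 D32931)) (tt N22700 F314691))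
theorem Q21891 : ∀ i, i < 21891 → P i := stepQ 21890 Q21890 (allL N21890 (tt N20414 F320853) (tt N20413 F320854) (tt N10714 (iv2 D32939)) (tt N33914 (iv3 F86102)) (tt N28204 F328487) (tt N20992 F52117) (tt N42921 D71138) (tt N20409 F320855))
theorem Q21892 : ∀ i, i < 21892 → P i := stepQ 21891 Q21891 (allL N21891 (tt N22533 F53310) (tt N42922 D71139) (tt N28204 (iv2 F328060)) (tt N20339 (iv3 F322220)) (tt N10714 (iv4 D32940)) (tt N28199 (iv5 F328065)) (tt N42923 D71142) (tt N20334 F320856))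
theorem Q21893 : ∀ i, i < 21893 → P i := stepQ 21892 Q21892 (allL N21892 (tt N42924 D71143) (tt N42925 D71144) (tt N42921 (iv2 F107648)) (tt N10715 F52118) (tt N42923 (iv4 F107652)) (tt N42882 (iv5 F107527)) (tt N10714 (iv6 D32941)) (tt N16697 F316482))
theorem Q21894 : ∀ i, i < 21894 → P i := stepQ 21893 Q21893 (allL N21893 (tt N22411 (iv1 F54117)) (tt N22409 (iv0 F54116)) (tt N36498 (iv2 F94705)) (tt N16667 F320899) (tt N10716 (iv4 D32950)) (tt N42926 D71164) (tt N16665 F320900) (tt N33915 (iv7 F86107)))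
theorem Q21895 : ∀ i, i < 21895 → P i := stepQ 21894 Q21894 (allL N21894 (tt N10911 (iv1 F52140)) (tt N10849 F54106) (tt N10913 F52137) (tt N10966 F52138) (tt N42927 D71236) (tt N10718 (iv5 D32970)) (tt N42928 D71237) (tt N10892 F52139))
theorem Q21896 : ∀ i, i < 21896 → P i := stepQ 21895 Q21895 (allL N21895 (tt N22812 (iv1 F54465)) (tt N33919 F86168) (tt N10720 F52142) (tt N10802 F52143) (tt N42929 D71238) (tt N10719 (iv5 D32971)) (tt N20274 F314319) (tt N10910 F52144))
theorem Q21897 : ∀ i, i < 21897 → P i := stepQ 21896 Q21896 (allL N21896 (tt N10910 (iv1 F52145)) (tt N10720 (iv0 D32972)) (tt N22812 (iv2 F54464)) (tt N10968 F52990) (tt N42930 D71240) (tt N22807 (iv5 F54457)) (tt N42931 D71241) (tt N33919 (iv7 F86169)))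
theorem Q21898 : ∀ i, i < 21898 → P i := stepQ 21897 Q21897 (allL N21897 (tt N10720 (iv1 D32973)) (tt N10910 F52146) (tt N33919 F86167) (tt N42932 D71242) (tt N42933 D71243) (tt N22813 (iv5 F54469)) (tt N42034 (iv6 F105310)) (tt N22812 F54467))
theorem Q21899 : ∀ i, i < 21899 → P i := stepQ 21898 Q21898 (allL N21898 (tt N36624 (iv1 F94878)) (tt N36626 (iv0 F94879)) (tt N42929 (iv2 F107725)) (tt N20835 (iv3 F317410)) (tt N10720 (iv4 D32974)) (tt N42934 D71245) (tt N20275 F316140) (tt N33920 (iv7 F86173)))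
theorem Q21900 : ∀ i, i < 21900 → P i := stepQ 21899 Q21899 (allL N21899 (tt N33995 F86461) (tt N20287 F312295) (tt N34029 F86518) (tt N10721 (iv3 D32976)) (tt N42935 D71250) (tt N15235 F52148) (tt N42936 D71251) (tt N18396 F52149))
theorem Q21901 : ∀ i, i < 21901 → P i := stepQ 21900 Q21900 (allL N21900 (tt N20761 (iv1 F312473)) (tt N37085 (iv0 F312204)) (tt N22802 (iv2 F54437)) (tt N42936 (iv3 F107750)) (tt N20265 (iv4 F312475)) (tt N15236 F52155) (tt N10721 (iv6 D32978)) (tt N20588 (iv7 F311020)))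
theorem Q21902 : ∀ i, i < 21902 → P i := stepQ 21901 Q21901 (allL N21901 (tt N42937 D71274) (tt N42938 D71275) (tt N32828 (iv2 F83614)) (tt N10724 F52163) (tt N28524 F325484) (tt N10723 (iv5 D32985)) (tt N42939 D71277) (tt N32718 (iv7 F83388)))
theorem Q21903 : ∀ i, i < 21903 → P i := stepQ 21902 Q21902 (allL N21902 (tt N10724 (iv1 D32986)) (tt N18487 F52164) (tt N29979 (iv2 F77715)) (tt N42940 D71278) (tt N42941 D71279) (tt N15015 F52165) (tt N42942 D71280) (tt N29824 (iv7 F77415)))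
theorem Q21904 : ∀ i, i < 21904 → P i := stepQ 21903 Q21903 (allL N21903 (tt N32433 (iv1 F82837)) (tt N42943 D71281) (tt N32722 (iv2 F83393)) (tt N28525 F327160) (tt N10724 (iv4 D32987)) (tt N36406 F94508) (tt N42944 D71283) (tt N32719 (iv7 F83389)))
theorem Q21905 : ∀ i, i < 21905 → P i := stepQ 21904 Q21904 (allL N21904 (tt N42945 D71284) (tt N42946 D71285) (tt N32723 (iv2 F83395)) (tt N42939 (iv3 F107770)) (tt N42944 (iv4 F107779)) (tt N41698 (iv5 F104748)) (tt N10724 (iv6 D32988)) (tt N42947 D71286))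
theorem Q21906 : ∀ i, i < 21906 → P i := stepQ 21905 Q21905 (allL N21905 (tt N10802 (iv1 F52167)) (tt N10725 (iv0 D32989)) (tt N11035 (iv2 F52166)) (tt N33984 (iv3 F86412)) (tt N42948 D71287) (tt N33487 (iv5 F84926)) (tt N20656 F320555) (tt N33917 (iv7 F86148)))
theorem Q21907 : ∀ i, i < 21907 → P i := stepQ 21906 Q21906 (allL N21906 (tt N42949 D71288) (tt N42950 D71289) (tt N34150 (iv2 F86821)) (tt N42951 D71290) (tt N10725 (iv4 D32990)) (tt N42952 D71291) (tt N42953 D71292) (tt N33918 (iv7 F86151)))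
theorem Q21908 : ∀ i, i < 21908 → P i := stepQ 21907 Q21907 (allL N21907 (tt N42954 D71293) (tt N42337 (iv0 F200085)) (tt N34151 (iv2 F86823)) (tt N10727 F52168) (tt N42953 (iv4 F107785)) (tt N33601 (iv5 F85247)) (tt N10725 (iv6 D32991)) (tt N20269 F316159))
theorem Q21909 : ∀ i, i < 21909 → P i := stepQ 21908 Q21908 (allL N21908 (tt N31480 (iv1 F321407)) (tt N31479 (iv0 F321408)) (tt N31482 (iv2 F321409)) (tt N10726 (iv3 D32992)) (tt N42951 (iv4 F107784)) (tt N15158 F319408) (tt N30652 F319409) (tt N15157 F319410))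
theorem Q21910 : ∀ i, i < 21910 → P i := stepQ 21909 Q21909 (allL N21909 (tt N11122 F316086) (tt N10727 (iv0 D32994)) (tt N20253 F316087) (tt N42955 D71304) (tt N11111 F316088) (tt N42956 D71306) (tt N42957 D71307) (tt N20251 F316089))
theorem Q21911 : ∀ i, i < 21911 → P i := stepQ 21910 Q21910 (allL N21910 (tt N10727 (iv1 D32995)) (tt N11122 F316081) (tt N20251 F316082) (tt N42958 D71308) (tt N11110 F316083) (tt N34561 (iv5 F87849)) (tt N16743 F316084) (tt N20253 F316085))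
theorem Q21912 : ∀ i, i < 21912 → P i := stepQ 21911 Q21911 (allL N21911 (tt N35365 (iv1 F232422)) (tt N35391 (iv0 F232419)) (tt N21760 F52171) (tt N10734 F52172) (tt N25623 (iv4 F61727)) (tt N42959 D71312) (tt N10728 (iv6 D32997)) (tt N35390 F232359))
theorem Q21913 : ∀ i, i < 21913 → P i := stepQ 21912 Q21912 (allL N21912 (tt N42195 F105563) (tt N42932 F107738) (tt N21761 F52173) (tt N10736 F52174) (tt N41426 (iv4 F104148)) (tt N10729 (iv5 D32998)) (tt N42959 (iv6 F107798)) (tt N41717 (iv7 F104816)))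
theorem Q21914 : ∀ i, i < 21914 → P i := stepQ 21913 Q21913 (allL N21913 (tt N17532 F52175) (tt N17536 F52176) (tt N23289 F55410) (tt N23198 (iv3 F55178)) (tt N42960 D71314) (tt N10730 (iv5 D32999)) (tt N42961 D71315) (tt N23290 (iv7 F55414)))
theorem Q21915 : ∀ i, i < 21915 → P i := stepQ 21914 Q21914 (allL N21914 (tt N10772 F54285) (tt N10776 F54286) (tt N29754 (iv2 F77189)) (tt N29894 (iv3 F77559)) (tt N19490 F54287) (tt N42962 D71316) (tt N10730 (iv6 D33000)) (tt N37524 (iv7 F96199)))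
theorem Q21916 : ∀ i, i < 21916 → P i := stepQ 21915 Q21915 (allL N21915 (tt N10739 (iv1 F52178)) (tt N10731 (iv0 D33001)) (tt N29909 (iv2 F77590)) (tt N23267 (iv3 F55332)) (tt N42963 D71317) (tt N11462 F52177) (tt N42964 D71318) (tt N33973 (iv7 F86358)))
theorem Q21917 : ∀ i, i < 21917 → P i := stepQ 21916 Q21916 (allL N21916 (tt N10731 (iv1 D33002)) (tt N10739 F52179) (tt N33973 F86356) (tt N29906 F77586) (tt N42965 D71319) (tt N11463 F52180) (tt N42966 D71320) (tt N29909 (iv7 F77592)))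
theorem Q21918 : ∀ i, i < 21918 → P i := stepQ 21917 Q21917 (allL N21917 (tt N34684 (iv1 F88579)) (tt N11422 F52182) (tt N17657 F52181) (tt N42967 D71321) (tt N10731 (iv4 D33003)) (tt N17656 (iv5 F52183)) (tt N42968 D71322) (tt N33974 (iv7 F86360)))
theorem Q21919 : ∀ i, i < 21919 → P i := stepQ 21918 Q21918 (allL N21918 (tt N42969 D71323) (tt N42970 D71324) (tt N33979 (iv2 F86388)) (tt N34071 (iv3 F86671)) (tt N42968 (iv4 F107830)) (tt N42971 D71325) (tt N10731 (iv6 D33004)) (tt N42972 D71326))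
theorem Q21920 : ∀ i, i < 21920 → P i := stepQ 21919 Q21919 (allL N21919 (tt N42973 D71327) (tt N42974 D71328) (tt N33980 (iv2 F86389)) (tt N34072 (iv3 F86673)) (tt N42975 D71329) (tt N10732 (iv5 D33005)) (tt N42971 (iv6 F107831)) (tt N41722 (iv7 F104823)))
theorem Q21921 : ∀ i, i < 21921 → P i := stepQ 21920 Q21920 (allL N21920 (tt N10733 (iv1 D33006)) (tt N10740 F52184) (tt N33976 F86366) (tt N18599 F303510) (tt N23906 (iv4 F56748)) (tt N25439 (iv5 F61022)) (tt N18596 (iv6 F305564)) (tt N33977 (iv7 F86369)))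
theorem Q21922 : ∀ i, i < 21922 → P i := stepQ 21921 Q21921 (allL N21921 (tt N42976 D71331) (tt N42977 D71332) (tt N33982 (iv2 F86393)) (tt N25456 (iv3 F61052)) (tt N10734 F52185) (tt N27499 F300081) (tt N10733 (iv6 D33007)) (tt N35413 F232387))
theorem Q21923 : ∀ i, i < 21923 → P i := stepQ 21922 Q21922 (allL N21922 (tt N35443 (iv1 F232409)) (tt N12466 (iv0 F232408)) (tt N20284 F312286) (tt N42959 (iv3 F107797)) (tt N42978 D71347) (tt N10734 (iv5 D33010)) (tt N10736 F52186) (tt N35414 F232389))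
theorem Q21924 : ∀ i, i < 21924 → P i := stepQ 21923 Q21923 (allL N21923 (tt N16435 F52190) (tt N10752 (iv0 F52191)) (tt N11024 F52187) (tt N27233 (iv3 F69411)) (tt N10735 (iv4 D33012)) (tt N42979 D71349) (tt N19052 F52188) (tt N14750 F52189))
theorem Q21925 : ∀ i, i < 21925 → P i := stepQ 21924 Q21924 (allL N21924 (tt N23343 F55654) (tt N34359 F87375) (tt N11025 F52192) (tt N33916 (iv3 F86141)) (tt N40127 F322247) (tt N10735 (iv5 D33013)) (tt N42980 D71351) (tt N33983 (iv7 F86405)))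
theorem Q21926 : ∀ i, i < 21926 → P i := stepQ 21925 Q21925 (allL N21925 (tt N33634 (iv1 F85317)) (tt N10736 (iv0 D33014)) (tt N11032 F54573) (tt N33917 (iv3 F86149)) (tt N42981 D71352) (tt N36664 (iv5 F94973)) (tt N42982 D71353) (tt N33984 (iv7 F86409)))
theorem Q21927 : ∀ i, i < 21927 → P i := stepQ 21926 Q21926 (allL N21926 (tt N42912 F107622) (tt N42915 (iv0 F107623)) (tt N33985 (iv2 F86413)) (tt N42983 D71354) (tt N10736 (iv4 D33016)) (tt N42984 D71355) (tt N42978 (iv6 F107835)) (tt N41729 (iv7 F104827)))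
theorem Q21928 : ∀ i, i < 21928 → P i := stepQ 21927 Q21927 (allL N21927 (tt N23269 (iv1 F55346)) (tt N23267 (iv0 F55334)) (tt N29753 (iv2 F77184)) (tt N32637 (iv3 F83267)) (tt N42985 D71356) (tt N10737 (iv5 D33017)) (tt N42986 D71357) (tt N29751 (iv7 F77174)))
theorem Q21929 : ∀ i, i < 21929 → P i := stepQ 21928 Q21928 (allL N21928 (tt N12649 F52193) (tt N12646 F52194) (tt N29787 F77307) (tt N42987 D71358) (tt N10738 (iv4 D33018)) (tt N42988 D71359) (tt N42989 D71360) (tt N29786 F77302))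
theorem Q21930 : ∀ i, i < 21930 → P i := stepQ 21929 Q21929 (allL N21929 (tt N34237 (iv1 F232301)) (tt N34167 (iv0 F232302)) (tt N34061 (iv2 F86639)) (tt N10741 F52195) (tt N42989 (iv4 F107858)) (tt N41732 (iv5 F104829)) (tt N10738 (iv6 D33019)) (tt N34236 (iv7 F232277)))
theorem Q21931 : ∀ i, i < 21931 → P i := stepQ 21930 Q21930 (allL N21930 (tt N11422 F52198) (tt N34684 (iv0 F88578)) (tt N33974 (iv2 F86359)) (tt N17385 (iv3 F52201)) (tt N10739 (iv4 D33020)) (tt N17384 F52197) (tt N42990 D71364) (tt N17657 F52196))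
theorem Q21932 : ∀ i, i < 21932 → P i := stepQ 21931 Q21931 (allL N21931 (tt N42991 D71365) (tt N42992 D71366) (tt N33975 (iv2 F86363)) (tt N32627 (iv3 F83251)) (tt N42990 (iv4 F107861)) (tt N41734 (iv5 F104831)) (tt N10739 (iv6 D33021)) (tt N42993 D71367))
theorem Q21933 : ∀ i, i < 21933 → P i := stepQ 21932 Q21932 (allL N21932 (tt N42994 D71368) (tt N25437 (iv0 F61013)) (tt N25454 (iv2 F61048)) (tt N10740 (iv3 D33022)) (tt N42987 (iv4 F107854)) (tt N22764 (iv5 F300121)) (tt N16989 (iv6 F302672)) (tt N33981 (iv7 F86391)))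
theorem Q21934 : ∀ i, i < 21934 → P i := stepQ 21933 Q21933 (allL N21933 (tt N25661 F61835) (tt N25660 F61833) (tt N17640 F52202) (tt N22764 F302928) (tt N17656 F52203) (tt N10740 (iv5 D33023)) (tt N42995 D71370) (tt N25662 (iv7 F61837)))
theorem Q21935 : ∀ i, i < 21935 → P i := stepQ 21934 Q21934 (allL N21934 (tt N42996 D71371) (tt N36607 (iv0 F232292)) (tt N33978 (iv2 F86373)) (tt N16989 F305019) (tt N10741 F52204) (tt N36231 (iv5 F311618)) (tt N10740 (iv6 D33024)) (tt N34348 (iv7 F232279)))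
theorem Q21936 : ∀ i, i < 21936 → P i := stepQ 21935 Q21935 (allL N21935 (tt N16453 (iv1 F52208)) (tt N16452 F52209) (tt N14742 F52205) (tt N10743 F52206) (tt N42997 D71385) (tt N10742 (iv5 D33028)) (tt N42998 D71386) (tt N16450 F52207))
theorem Q21937 : ∀ i, i < 21937 → P i := stepQ 21936 Q21936 (allL N21936 (tt N13531 (iv1 F65519)) (tt N13553 F65520) (tt N13551 (iv2 F65511)) (tt N10744 F52211) (tt N16158 F52212) (tt N42999 D71387) (tt N10742 (iv6 D33029)) (tt N13550 F65517))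
theorem Q21938 : ∀ i, i < 21938 → P i := stepQ 21937 Q21937 (allL N21937 (tt N23309 (iv1 F55469)) (tt N23291 (iv0 F55421)) (tt N10757 F52213) (tt N43000 D71388) (tt N10743 (iv4 D33030)) (tt N17655 F52214) (tt N43001 D71389) (tt N33986 (iv7 F86415)))
theorem Q21939 : ∀ i, i < 21939 → P i := stepQ 21938 Q21938 (allL N21938 (tt N43002 D71390) (tt N43003 D71391) (tt N10758 F52215) (tt N42998 (iv3 F107876)) (tt N43001 (iv4 F107882)) (tt N43004 D71392) (tt N10743 (iv6 D33031)) (tt N43005 D71393))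
theorem Q21940 : ∀ i, i < 21940 → P i := stepQ 21939 Q21939 (allL N21939 (tt N10744 (iv1 D33032)) (tt N10762 F52216) (tt N10760 (iv2 F52218)) (tt N17085 F52220) (tt N19051 (iv4 F52219)) (tt N43006 D71394) (tt N19049 F52221) (tt N10759 F52217))
theorem Q21941 : ∀ i, i < 21941 → P i := stepQ 21940 Q21940 (allL N21940 (tt N30419 (iv1 F78520)) (tt N30415 (iv0 F78505)) (tt N10761 F52223) (tt N42999 (iv3 F107878)) (tt N43007 D71395) (tt N10744 (iv5 D33033)) (tt N43004 (iv6 F107885)) (tt N30416 (iv7 F78507)))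
theorem Q21942 : ∀ i, i < 21942 → P i := stepQ 21941 Q21941 (allL N21941 (tt N10760 (iv1 F52226)) (tt N10759 F52227) (tt N10762 F52224) (tt N13550 (iv3 F65518)) (tt N10749 F52225) (tt N30416 (iv5 F78508)) (tt N33989 (iv6 F86426)) (tt N10744 (iv7 D33034)))
theorem Q21943 : ∀ i, i < 21943 → P i := stepQ 21942 Q21942 (allL N21942 (tt N29761 (iv1 F77217)) (tt N34017 F86504) (tt N10770 F52229) (tt N33932 F303774) (tt N17654 F52230) (tt N10745 (iv5 D33036)) (tt N10748 (iv6 F305818)) (tt N33990 (iv7 F86438)))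
theorem Q21944 : ∀ i, i < 21944 → P i := stepQ 21943 Q21943 (allL N21943 (tt N37524 F96201) (tt N29754 (iv0 F77193)) (tt N10772 F52240) (tt N14036 (iv3 F55476)) (tt N10746 (iv4 D33042)) (tt N43008 D71416) (tt N14034 F55478) (tt N10776 F52241))
theorem Q21945 : ∀ i, i < 21945 → P i := stepQ 21944 Q21944 (allL N21944 (tt N18965 F52245) (tt N37478 F96073) (tt N10773 F52243) (tt N22791 (iv3 F54410)) (tt N43009 D71417) (tt N10746 (iv5 D33043)) (tt N43010 D71418) (tt N10777 F52244))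
theorem Q21946 : ∀ i, i < 21946 → P i := stepQ 21945 Q21945 (allL N21945 (tt N29754 (iv1 F77194)) (tt N37524 (iv0 F96200)) (tt N10776 F52248) (tt N19078 F52249) (tt N10747 (iv4 D33045)) (tt N43011 D71419) (tt N29758 (iv6 F77206)) (tt N10772 F52250))
theorem Q21947 : ∀ i, i < 21947 → P i := stepQ 21946 Q21946 (allL N21946 (tt N37478 (iv1 F96072)) (tt N18965 (iv0 F52254)) (tt N10777 F52251) (tt N19080 F52252) (tt N43012 D71420) (tt N10747 (iv5 D33046)) (tt N43013 D71421) (tt N10773 F52253))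
theorem Q21948 : ∀ i, i < 21948 → P i := stepQ 21947 Q21947 (allL N21947 (tt N10781 (iv1 F52262)) (tt N10748 (iv0 D33047)) (tt N10778 (iv2 F52256)) (tt N23324 (iv3 F55584)) (tt N43014 D71422) (tt N19369 F52255) (tt N41781 (iv6 F104894)) (tt N10779 (iv7 F52257)))
theorem Q21949 : ∀ i, i < 21949 → P i := stepQ 21948 Q21948 (allL N21948 (tt N10748 (iv1 D33048)) (tt N10781 F52258) (tt N10779 F52261) (tt N33838 (iv3 F85854)) (tt N43015 D71423) (tt N17542 (iv5 F52260)) (tt N43016 D71424) (tt N10778 F52259))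
theorem Q21950 : ∀ i, i < 21950 → P i := stepQ 21949 Q21949 (allL N21949 (tt N30550 (iv1 F78857)) (tt N30540 (iv0 F78844)) (tt N10780 F52263) (tt N43017 D71425) (tt N10748 (iv4 D33049)) (tt N43018 D71426) (tt N17654 F307264) (tt N30546 (iv7 F78849)))
theorem Q21951 : ∀ i, i < 21951 → P i := stepQ 21950 Q21950 (allL N21950 (tt N10779 (iv1 F52266)) (tt N10778 F52267) (tt N10781 F52264) (tt N33937 (iv3 F86249)) (tt N30546 (iv4 F78850)) (tt N10749 F52265) (tt N43019 D71427) (tt N10748 (iv7 D33050)))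
theorem Q21952 : ∀ i, i < 21952 → P i := stepQ 21951 Q21951 (allL N21951 (tt N18568 F52273) (tt N18548 F52271) (tt N16984 F52268) (tt N18504 F52269) (tt N10973 F52272) (tt N10750 (iv5 D33051)) (tt N43020 D71428) (tt N18528 F52270))
theorem Q21953 : ∀ i, i < 21953 → P i := stepQ 21952 Q21952 (allL N21952 (tt N43021 D71429) (tt N43022 D71430) (tt N34001 (iv2 F86481)) (tt N10951 F52277) (tt N10751 (iv4 D33052)) (tt N34503 (iv5 F87732)) (tt N43023 D71431) (tt N33999 (iv7 F86476)))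
theorem Q21954 : ∀ i, i < 21954 → P i := stepQ 21953 Q21953 (allL N21953 (tt N43024 D71432) (tt N32914 (iv0 F335504)) (tt N34002 (iv2 F86483)) (tt N22050 (iv3 F52417)) (tt N43023 (iv4 F107964)) (tt N43025 D71434) (tt N10751 (iv6 D33053)) (tt N43026 D71435))
theorem Q21955 : ∀ i, i < 21955 → P i := stepQ 21954 Q21954 (allL N21954 (tt N43027 D71436) (tt N43028 D71437) (tt N21882 F52278) (tt N22051 (iv3 F52418)) (tt N43029 D71438) (tt N10752 (iv5 D33054)) (tt N43025 (iv6 F107966)) (tt N41751 (iv7 F104862)))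
theorem Q21956 : ∀ i, i < 21956 → P i := stepQ 21955 Q21955 (allL N21955 (tt N43022 (iv1 F107958)) (tt N43021 F107955) (tt N33999 (iv2 F86475)) (tt N26035 (iv3 F303260)) (tt N10754 (iv4 D33055)) (tt N26028 F302952) (tt N26031 (iv6 F305325)) (tt N34001 (iv7 F86482)))
theorem Q21957 : ∀ i, i < 21957 → P i := stepQ 21956 Q21956 (allL N21956 (tt N16535 (iv1 F259135)) (tt N43030 D71443) (tt N34000 (iv2 F86479)) (tt N34699 (iv3 F88596)) (tt N26031 F307282) (tt N41754 (iv5 F104869)) (tt N10754 (iv6 D33056)) (tt N43031 D71444))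
theorem Q21958 : ∀ i, i < 21958 → P i := stepQ 21957 Q21957 (allL N21957 (tt N43032 D71445) (tt N43033 D71446) (tt N23221 (iv2 F55244)) (tt N17770 F52279) (tt N10755 (iv4 D33057)) (tt N17769 (iv5 F52280)) (tt N43034 D71447) (tt N22361 (iv7 F52946)))
theorem Q21959 : ∀ i, i < 21959 → P i := stepQ 21958 Q21958 (allL N21958 (tt N43035 D71448) (tt N43036 D71449) (tt N23222 (iv2 F55246)) (tt N34579 (iv3 F87971)) (tt N43034 (iv4 F107992)) (tt N43037 D71450) (tt N10755 (iv6 D33058)) (tt N43038 D71451))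
theorem Q21960 : ∀ i, i < 21960 → P i := stepQ 21959 Q21959 (allL N21959 (tt N43033 (iv1 F107986)) (tt N43032 F107983) (tt N22361 (iv2 F52944)) (tt N43039 D71452) (tt N10756 (iv4 D33059)) (tt N22359 F52938) (tt N43040 D71453) (tt N23221 (iv7 F55245)))
theorem Q21961 : ∀ i, i < 21961 → P i := stepQ 21960 Q21960 (allL N21960 (tt N42360 (iv1 F332640)) (tt N43041 D71455) (tt N23217 (iv2 F55231)) (tt N23905 (iv3 F56742)) (tt N43040 (iv4 F107996)) (tt N41344 (iv5 F103982)) (tt N10756 (iv6 D33060)) (tt N43042 D71456))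
theorem Q21962 : ∀ i, i < 21962 → P i := stepQ 21961 Q21961 (allL N21961 (tt N33986 (iv1 F86418)) (tt N10757 (iv0 D33061)) (tt N23309 (iv2 F55465)) (tt N35005 (iv3 F90650)) (tt N17532 F52281) (tt N34898 (iv5 F90293)) (tt N43043 D71457) (tt N23291 (iv7 F55419)))
theorem Q21963 : ∀ i, i < 21963 → P i := stepQ 21962 Q21962 (allL N21962 (tt N17656 F52284) (tt N17384 (iv0 F52285)) (tt N17655 F52282) (tt N22212 F52731) (tt N33990 (iv4 F86437)) (tt N10757 (iv5 D33062)) (tt N43044 D71458) (tt N17654 F52283))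
theorem Q21964 : ∀ i, i < 21964 → P i := stepQ 21963 Q21963 (allL N21963 (tt N43045 D71459) (tt N43046 D71460) (tt N43001 (iv2 F107881)) (tt N32679 (iv3 F83338)) (tt N10758 F52286) (tt N43047 D71461) (tt N10757 (iv6 D33063)) (tt N43048 D71462))
theorem Q21965 : ∀ i, i < 21965 → P i := stepQ 21964 Q21964 (allL N21964 (tt N43005 (iv1 F107889)) (tt N10758 (iv0 D33064)) (tt N43002 (iv2 F335455)) (tt N43049 D71464) (tt N43050 D71465) (tt N43051 D71466) (tt N43052 D71467) (tt N43003 F335454))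
theorem Q21966 : ∀ i, i < 21966 → P i := stepQ 21965 Q21965 (allL N21965 (tt N10758 (iv1 D33065)) (tt N43005 F107888) (tt N43003 F335449) (tt N43053 D71469) (tt N43054 D71470) (tt N43055 D71471) (tt N43056 D71472) (tt N43002 (iv7 F335456)))
theorem Q21967 : ∀ i, i < 21967 → P i := stepQ 21966 Q21966 (allL N21966 (tt N43057 D71473) (tt N43058 D71474) (tt N43004 (iv2 F107884)) (tt N16439 F52287) (tt N43059 D71475) (tt N10758 (iv5 D33066)) (tt N10761 F52288) (tt N43060 D71476))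
theorem Q21968 : ∀ i, i < 21968 → P i := stepQ 21967 Q21967 (allL N21967 (tt N43003 (iv1 F107883)) (tt N43002 F107887) (tt N43005 (iv2 F107886)) (tt N16440 F52289) (tt N43048 (iv4 F107999)) (tt N43060 (iv5 F108004)) (tt N34007 (iv6 F86488)) (tt N10758 (iv7 D33067)))
theorem Q21969 : ∀ i, i < 21969 → P i := stepQ 21968 Q21968 (allL N21968 (tt N38282 F97846) (tt N22040 (iv0 F54251)) (tt N17083 F52290) (tt N10759 (iv3 D33068)) (tt N17073 F52292) (tt N43061 D71477) (tt N21265 (iv6 F52293)) (tt N17085 F52291))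
theorem Q21970 : ∀ i, i < 21970 → P i := stepQ 21969 Q21969 (allL N21969 (tt N43062 D71478) (tt N37282 (iv0 F95751)) (tt N38340 (iv2 F98036)) (tt N43061 (iv3 F108006)) (tt N43063 D71479) (tt N10759 (iv5 D33069)) (tt N43064 D71480) (tt N43006 (iv7 F107892)))
theorem Q21971 : ∀ i, i < 21971 → P i := stepQ 21970 Q21970 (allL N21970 (tt N13236 F52298) (tt N26913 F68226) (tt N21158 F52294) (tt N21265 F52295) (tt N21157 F52296) (tt N13541 F52297) (tt N10759 (iv6 D33070)) (tt N26915 (iv7 F68230)))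
theorem Q21972 : ∀ i, i < 21972 → P i := stepQ 21971 Q21971 (allL N21971 (tt N37282 (iv1 F95750)) (tt N43062 F108011) (tt N43006 (iv2 F107890)) (tt N29962 (iv3 F77690)) (tt N43065 D71481) (tt N10760 (iv5 D33071)) (tt N43066 D71482) (tt N38340 (iv7 F98038)))
theorem Q21973 : ∀ i, i < 21973 → P i := stepQ 21972 Q21972 (allL N21972 (tt N30416 (iv1 F78511)) (tt N10761 (iv0 D33072)) (tt N30419 (iv2 F78516)) (tt N43067 D71483) (tt N43068 D71484) (tt N30411 F78513) (tt N43069 D71485) (tt N30415 F78512))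
theorem Q21974 : ∀ i, i < 21974 → P i := stepQ 21973 Q21973 (allL N21973 (tt N43070 D71486) (tt N43071 D71487) (tt N43007 (iv2 F107895)) (tt N43072 D71488) (tt N10761 (iv4 D33073)) (tt N43073 D71489) (tt N43059 (iv6 F108002)) (tt N43074 D71490))
theorem Q21975 : ∀ i, i < 21975 → P i := stepQ 21974 Q21974 (allL N21974 (tt N30415 F78506) (tt N30419 F78519) (tt N30416 F78509) (tt N16442 F52299) (tt N43074 (iv4 F108022)) (tt N10762 F52300) (tt N43075 D71491) (tt N10761 (iv7 D33074)))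
theorem Q21976 : ∀ i, i < 21976 → P i := stepQ 21975 Q21975 (allL N21975 (tt N10763 (iv1 D33075)) (tt N10766 F52301) (tt N23295 F55429) (tt N18495 F303537) (tt N21698 F52302) (tt N25661 (iv5 F61834)) (tt N18492 F303538) (tt N23296 (iv7 F55432)))
theorem Q21977 : ∀ i, i < 21977 → P i := stepQ 21976 Q21976 (allL N21976 (tt N42714 F305182) (tt N42713 (iv0 F305652)) (tt N23316 (iv2 F55554)) (tt N29332 (iv3 F75725)) (tt N10764 F52303) (tt N23686 (iv5 F307093)) (tt N10763 (iv6 D33076)) (tt N42709 (iv7 F305725)))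
theorem Q21978 : ∀ i, i < 21978 → P i := stepQ 21977 Q21977 (allL N21977 (tt N23319 (iv1 F55564)) (tt N10764 (iv0 D33077)) (tt N11206 F232577) (tt N23880 (iv3 F232522)) (tt N43076 D71499) (tt N43077 D71500) (tt N43078 D71501) (tt N23317 F232578))
theorem Q21979 : ∀ i, i < 21979 → P i := stepQ 21978 Q21978 (allL N21978 (tt N43079 D71507) (tt N22503 F232428) (tt N23318 (iv2 F55557)) (tt N42505 (iv3 F106309)) (tt N42829 (iv4 F309677)) (tt N10764 (iv5 D33079)) (tt N17534 F52304) (tt N43080 D71510))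
theorem Q21980 : ∀ i, i < 21980 → P i := stepQ 21979 Q21979 (allL N21979 (tt N23317 (iv1 F55556)) (tt N11206 (iv0 F232520)) (tt N23319 (iv2 F55560)) (tt N42506 (iv3 F106311)) (tt N42709 (iv4 F305724)) (tt N43080 (iv5 F108030)) (tt N23300 (iv6 F55441)) (tt N10764 (iv7 D33080)))
theorem Q21981 : ∀ i, i < 21981 → P i := stepQ 21980 Q21980 (allL N21980 (tt N21543 F52305) (tt N21540 F52306) (tt N29760 F77210) (tt N11180 (iv3 F302962)) (tt N10765 (iv4 D33081)) (tt N34062 F301204) (tt N11179 (iv6 F303998)) (tt N23307 (iv7 F55460)))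
theorem Q21982 : ∀ i, i < 21982 → P i := stepQ 21981 Q21981 (allL N21981 (tt N38350 (iv1 F307956)) (tt N19108 (iv0 F307957)) (tt N34067 (iv2 F86654)) (tt N10767 F52307) (tt N11179 F306013) (tt N33646 (iv5 F85356)) (tt N10765 (iv6 D33082)) (tt N30510 (iv7 F307964)))
theorem Q21983 : ∀ i, i < 21983 → P i := stepQ 21982 Q21982 (allL N21982 (tt N17031 F300125) (tt N17034 F300126) (tt N17033 F300127) (tt N10766 (iv3 D33083)) (tt N11180 F305256) (tt N43081 D71518) (tt N11101 (iv6 F305334)) (tt N17032 F300128))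
theorem Q21984 : ∀ i, i < 21984 → P i := stepQ 21983 Q21983 (allL N21983 (tt N34949 (iv1 F90505)) (tt N34948 F90501) (tt N12617 F52308) (tt N43081 (iv3 F108041)) (tt N34898 (iv4 F90292)) (tt N10766 (iv5 D33084)) (tt N43082 D71520) (tt N23315 (iv7 F55553)))
theorem Q21985 : ∀ i, i < 21985 → P i := stepQ 21984 Q21984 (allL N21984 (tt N43083 D71521) (tt N43084 D71522) (tt N23297 (iv2 F55435)) (tt N11101 F307094) (tt N10767 F52309) (tt N11100 (iv5 F308943)) (tt N10766 (iv6 D33085)) (tt N20215 (iv7 F308944)))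
theorem Q21986 : ∀ i, i < 21986 → P i := stepQ 21985 Q21985 (allL N21985 (tt N10767 (iv1 D33087)) (tt N23300 F55443) (tt N11320 F232463) (tt N23888 (iv3 F232535)) (tt N43078 F304552) (tt N43085 D71533) (tt N43076 (iv6 F305660)) (tt N23298 F232464))
theorem Q21987 : ∀ i, i < 21987 → P i := stepQ 21986 Q21986 (allL N21986 (tt N25154 F305183) (tt N43086 D71536) (tt N23299 (iv2 F55438)) (tt N33646 (iv3 F85355)) (tt N43087 D71537) (tt N10767 (iv5 D33088)) (tt N17539 F52310) (tt N43088 D71538))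
theorem Q21988 : ∀ i, i < 21988 → P i := stepQ 21987 Q21987 (allL N21987 (tt N11320 (iv1 F232391)) (tt N23298 F55442) (tt N23300 (iv2 F55440)) (tt N30510 F309946) (tt N20215 F309947) (tt N43088 (iv5 F108053)) (tt N23319 (iv6 F55561)) (tt N10767 (iv7 D33089)))
theorem Q21989 : ∀ i, i < 21989 → P i := stepQ 21988 Q21988 (allL N21988 (tt N43089 D71539) (tt N22187 F303773) (tt N34875 (iv2 F90153)) (tt N10768 (iv3 D33090)) (tt N34487 F87694) (tt N43090 D71541) (tt N43091 D71542) (tt N34014 (iv7 F86498)))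
theorem Q21990 : ∀ i, i < 21990 → P i := stepQ 21989 Q21989 (allL N21989 (tt N22423 (iv1 F52998)) (tt N17283 F52311) (tt N22360 (iv2 F52939)) (tt N43090 (iv3 F108057)) (tt N22359 (iv4 F52937)) (tt N10768 (iv5 D33091)) (tt N43092 D71543) (tt N22431 (iv7 F53014)))
theorem Q21991 : ∀ i, i < 21991 → P i := stepQ 21990 Q21990 (allL N21990 (tt N43076 (iv1 F232524)) (tt N34450 (iv0 F186854)) (tt N34016 (iv2 F86500)) (tt N43091 (iv3 F108059)) (tt N42680 (iv4 F106826)) (tt N25065 (iv5 F305817)) (tt N10768 (iv6 D33092)) (tt N43093 D71547))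
theorem Q21992 : ∀ i, i < 21992 → P i := stepQ 21991 Q21991 (allL N21991 (tt N34062 F301202) (tt N34068 F301203) (tt N25484 (iv2 F61209)) (tt N10769 (iv3 D33093)) (tt N21831 F52312) (tt N14860 (iv5 F52313)) (tt N20290 (iv6 F308055)) (tt N25480 (iv7 F61204)))
theorem Q21993 : ∀ i, i < 21993 → P i := stepQ 21992 Q21992 (allL N21992 (tt N17283 F52316) (tt N22423 F52999) (tt N22431 F53013) (tt N14860 F52314) (tt N17769 F52315) (tt N10769 (iv5 D33094)) (tt N43094 D71550) (tt N22360 (iv7 F52941)))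
theorem Q21994 : ∀ i, i < 21994 → P i := stepQ 21993 Q21993 (allL N21993 (tt N34552 (iv1 F131155)) (tt N43078 (iv0 F303991)) (tt N34015 (iv2 F86499)) (tt N20290 F310063) (tt N21830 F52317) (tt N25157 (iv5 F305193)) (tt N10769 (iv6 D33095)) (tt N43095 D71554))
theorem Q21995 : ∀ i, i < 21995 → P i := stepQ 21994 Q21994 (allL N21994 (tt N33990 (iv1 F86440)) (tt N10770 (iv0 D33096)) (tt N29761 (iv2 F77216)) (tt N43096 D71555) (tt N26028 (iv4 F300208)) (tt N10973 F52318) (tt N26027 (iv6 F300209)) (tt N34017 (iv7 F86505)))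
theorem Q21996 : ∀ i, i < 21996 → P i := stepQ 21995 Q21995 (allL N21995 (tt N10770 (iv1 D33097)) (tt N33990 (iv0 F86439)) (tt N34017 F86503) (tt N21540 (iv3 F52320)) (tt N34503 (iv4 F87731)) (tt N10974 F52319) (tt N43097 D71557) (tt N29761 (iv7 F77213)))
theorem Q21997 : ∀ i, i < 21997 → P i := stepQ 21996 Q21996 (allL N21996 (tt N17384 F52323) (tt N17656 F52324) (tt N17654 F52321) (tt N43098 D71558) (tt N10770 (iv4 D33098)) (tt N33986 (iv5 F86416)) (tt N10780 (iv6 F305819)) (tt N17655 F52322))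
theorem Q21998 : ∀ i, i < 21998 → P i := stepQ 21997 Q21997 (allL N21997 (tt N27697 F312912) (tt N22808 (iv0 F54461)) (tt N19071 F52337) (tt N10773 F52338) (tt N41443 (iv4 F104228)) (tt N10771 (iv5 D33119)) (tt N43099 D71636) (tt N19080 F52339))
theorem Q21999 : ∀ i, i < 21999 → P i := stepQ 21998 Q21998 (allL N21998 (tt N10776 (iv1 F52350)) (tt N10772 (iv0 D33121)) (tt N37524 (iv2 F96197)) (tt N19459 F52349) (tt N19478 F52348) (tt N43100 D71637) (tt N23146 (iv6 F55075)) (tt N29754 (iv7 F77192)))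
theorem Q22000 : ∀ i, i < 22000 → P i := stepQ 21999 Q21999 (allL N21999 (tt N30525 (iv1 F78797)) (tt N30533 (iv0 F78823)) (tt N43008 (iv2 F107922)) (tt N34089 (iv3 F86717)) (tt N43101 D71638) (tt N10772 (iv5 D33123)) (tt N43102 D71639) (tt N43011 (iv7 F107932)))
theorem Q22001 : ∀ i, i < 22001 → P i := stepQ 22000 Q22000 (allL N22000 (tt N36304 (iv1 F94339)) (tt N29724 F77091) (tt N14034 (iv2 F55479)) (tt N26509 (iv3 F65400)) (tt N10774 F52353) (tt N14033 F55483) (tt N10772 (iv6 D33124)) (tt N33654 (iv7 F85369)))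
theorem Q22002 : ∀ i, i < 22002 → P i := stepQ 22001 Q22001 (allL N22001 (tt N10777 (iv1 F52357)) (tt N10773 (iv0 D33125)) (tt N18965 (iv2 F52356)) (tt N17342 F52358) (tt N43103 D71640) (tt N17340 F52354) (tt N43104 D71641) (tt N37478 (iv7 F96071)))
theorem Q22003 : ∀ i, i < 22003 → P i := stepQ 22002 Q22002 (allL N22002 (tt N30528 (iv1 F78813)) (tt N30535 (iv0 F78827)) (tt N43009 (iv2 F107926)) (tt N14346 (iv3 F315050)) (tt N10773 (iv4 D33126)) (tt N43105 D71643) (tt N43106 D71644) (tt N43012 (iv7 F107934)))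
theorem Q22004 : ∀ i, i < 22004 → P i := stepQ 22003 Q22003 (allL N22003 (tt N43107 D71645) (tt N33782 F316795) (tt N43010 (iv2 F107928)) (tt N43099 (iv3 F108126)) (tt N43106 (iv4 F108134)) (tt N43108 D71647) (tt N10773 (iv6 D33127)) (tt N43109 D71648))
theorem Q22005 : ∀ i, i < 22005 → P i := stepQ 22004 Q22004 (allL N22004 (tt N11484 F52360) (tt N11496 (iv0 F52361)) (tt N11494 F52359) (tt N42001 (iv3 F105244)) (tt N43110 D71649) (tt N10774 (iv5 D33128)) (tt N43108 (iv6 F108136)) (tt N11493 F55582))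
theorem Q22006 : ∀ i, i < 22006 → P i := stepQ 22005 Q22005 (allL N22005 (tt N19462 (iv1 F54258)) (tt N19459 (iv0 F52363)) (tt N29758 (iv2 F77204)) (tt N31361 (iv3 F80507)) (tt N10775 (iv4 D33129)) (tt N43111 D71650) (tt N10776 F52362) (tt N29757 F77201))
theorem Q22007 : ∀ i, i < 22007 → P i := stepQ 22006 Q22006 (allL N22006 (tt N15234 (iv1 F55569)) (tt N22787 (iv0 F54400)) (tt N22790 F54407) (tt N10777 F52364) (tt N25491 F309851) (tt N10775 (iv5 D33130)) (tt N25489 F309852) (tt N22791 (iv7 F54408)))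
theorem Q22008 : ∀ i, i < 22008 → P i := stepQ 22007 Q22007 (allL N22007 (tt N16158 F52366) (tt N16160 (iv0 F52367)) (tt N16157 (iv2 F65042)) (tt N10776 (iv3 D33131)) (tt N31361 (iv4 F80506)) (tt N43112 D71653) (tt N31361 F80511) (tt N14036 (iv7 F55477)))
theorem Q22009 : ∀ i, i < 22009 → P i := stepQ 22008 Q22008 (allL N22008 (tt N30533 (iv1 F78824)) (tt N30525 (iv0 F78796)) (tt N43011 (iv2 F107930)) (tt N43112 (iv3 F108146)) (tt N43113 D71654) (tt N10776 (iv5 D33132)) (tt N43114 D71655) (tt N43008 (iv7 F107925)))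
theorem Q22010 : ∀ i, i < 22010 → P i := stepQ 22009 Q22009 (allL N22009 (tt N30535 (iv1 F78828)) (tt N30528 (iv0 F78812)) (tt N43012 (iv2 F107933)) (tt N25823 (iv3 F314408)) (tt N10777 (iv4 D33133)) (tt N43115 D71657) (tt N43116 D71658) (tt N43009 (iv7 F107927)))
theorem Q22011 : ∀ i, i < 22011 → P i := stepQ 22010 Q22010 (allL N22010 (tt N37485 F232824) (tt N43117 D71660) (tt N43013 (iv2 F107935)) (tt N25489 F310185) (tt N43116 (iv4 F108149)) (tt N25489 (iv5 F312446)) (tt N10777 (iv6 D33134)) (tt N43118 D71661))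
theorem Q22012 : ∀ i, i < 22012 → P i := stepQ 22011 Q22011 (allL N22011 (tt N37441 (iv1 F96002)) (tt N22188 (iv0 F53949)) (tt N37591 (iv2 F96311)) (tt N10778 (iv3 D33135)) (tt N37565 (iv4 F96270)) (tt N22781 F53948) (tt N43119 D71662) (tt N33838 (iv7 F85855)))
theorem Q22013 : ∀ i, i < 22013 → P i := stepQ 22012 Q22012 (allL N22012 (tt N43120 D71663) (tt N43121 D71664) (tt N43014 (iv2 F107937)) (tt N43122 D71665) (tt N10778 (iv4 D33136)) (tt N43123 D71666) (tt N43124 D71667) (tt N43015 (iv7 F107942)))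
theorem Q22014 : ∀ i, i < 22014 → P i := stepQ 22013 Q22013 (allL N22013 (tt N43125 D71668) (tt N37389 F247740) (tt N41781 (iv2 F104893)) (tt N43119 (iv3 F108150)) (tt N43124 (iv4 F108159)) (tt N33644 (iv5 F85351)) (tt N10778 (iv6 D33137)) (tt N43126 D71670))
theorem Q22015 : ∀ i, i < 22015 → P i := stepQ 22014 Q22014 (allL N22014 (tt N43121 (iv1 F108155)) (tt N43120 F108152) (tt N43015 (iv2 F107941)) (tt N34509 F314765) (tt N10779 (iv4 D33138)) (tt N43127 D71672) (tt N43128 D71673) (tt N43014 (iv7 F107938)))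
theorem Q22016 : ∀ i, i < 22016 → P i := stepQ 22015 Q22015 (allL N22015 (tt N37443 F232707) (tt N43129 D71675) (tt N43016 (iv2 F107945)) (tt N23318 (iv3 F55558)) (tt N43128 (iv4 F108160)) (tt N23308 (iv5 F55464)) (tt N10779 (iv6 D33139)) (tt N43130 D71676))
theorem Q22017 : ∀ i, i < 22017 → P i := stepQ 22016 Q22016 (allL N22016 (tt N30546 (iv1 F78848)) (tt N10780 (iv0 D33140)) (tt N30550 (iv2 F78854)) (tt N17406 (iv3 F312864)) (tt N30519 (iv4 F78768)) (tt N43131 D71678) (tt N43132 D71679) (tt N30540 (iv7 F78843)))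
theorem Q22018 : ∀ i, i < 22018 → P i := stepQ 22017 Q22017 (allL N22017 (tt N43133 D71680) (tt N43134 D71681) (tt N43135 D71682) (tt N10780 (iv3 D33141)) (tt N10791 F52368) (tt N43136 D71683) (tt N43098 F306774) (tt N19768 (iv7 F52369)))
theorem Q22019 : ∀ i, i < 22019 → P i := stepQ 22018 Q22018 (allL N22018 (tt N43137 D71684) (tt N43138 D71685) (tt N43018 (iv2 F107947)) (tt N43136 (iv3 F108168)) (tt N43139 D71686) (tt N10780 (iv5 D33142)) (tt N43140 D71687) (tt N43141 D71688))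
theorem Q22020 : ∀ i, i < 22020 → P i := stepQ 22019 Q22019 (allL N22019 (tt N30540 (iv1 F78845)) (tt N30550 F78856) (tt N30546 F78851) (tt N19768 F52370) (tt N10781 F52371) (tt N43141 (iv5 F108172)) (tt N43142 D71689) (tt N10780 (iv7 D33143)))
theorem Q22021 : ∀ i, i < 22021 → P i := stepQ 22020 Q22020 (allL N22020 (tt N43143 D71690) (tt N43144 D71691) (tt N43019 (iv2 F107948)) (tt N10792 F52372) (tt N43142 (iv4 F108174)) (tt N34042 (iv5 F86530)) (tt N10781 (iv6 D33144)) (tt N34018 F305894))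
theorem Q22022 : ∀ i, i < 22022 → P i := stepQ 22021 Q22021 (allL N22021 (tt N18538 (iv1 F296753)) (tt N34435 F189864) (tt N34111 (iv2 F86764)) (tt N12095 F52373) (tt N10782 (iv4 D33148)) (tt N43145 D71694) (tt N43146 D71695) (tt N33967 (iv7 F86313)))
theorem Q22023 : ∀ i, i < 22023 → P i := stepQ 22022 Q22022 (allL N22022 (tt N25423 (iv1 F300991)) (tt N25422 (iv0 F300993)) (tt N25390 (iv2 F300978)) (tt N10783 F52374) (tt N28572 (iv4 F300995)) (tt N10782 (iv5 D33149)) (tt N43147 D71699) (tt N23931 (iv7 F300655)))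
theorem Q22024 : ∀ i, i < 22024 → P i := stepQ 22023 Q22023 (allL N22023 (tt N43148 D71700) (tt N43149 D71701) (tt N22475 (iv2 F85918)) (tt N10784 F52375) (tt N43146 (iv4 F108177)) (tt N22459 F53173) (tt N10782 (iv6 D33150)) (tt N22472 (iv7 F85915)))
theorem Q22025 : ∀ i, i < 22025 → P i := stepQ 22024 Q22024 (allL N22024 (tt N37484 F96089) (tt N22840 (iv0 F310275)) (tt N23933 (iv2 F301435)) (tt N43147 (iv3 F108179)) (tt N23527 (iv4 F301439)) (tt N22487 (iv5 F53218)) (tt N10783 (iv6 D33153)) (tt N43150 D71706))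
theorem Q22026 : ∀ i, i < 22026 → P i := stepQ 22025 Q22025 (allL N22025 (tt N23914 (iv1 F300757)) (tt N11322 (iv0 F52379)) (tt N22485 (iv2 F53211)) (tt N22472 (iv3 F85912)) (tt N11348 F52377) (tt N17293 F52378) (tt N25139 F60351) (tt N10784 (iv7 D33154)))
theorem Q22027 : ∀ i, i < 22027 → P i := stepQ 22026 Q22026 (allL N22026 (tt N10785 (iv1 D33156)) (tt N10884 F190524) (tt N10886 F190525) (tt N43089 (iv3 F302077)) (tt N12803 F299256) (tt N12578 (iv5 F302079)) (tt N10909 (iv6 F190580)) (tt N10855 F190526))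
theorem Q22028 : ∀ i, i < 22028 → P i := stepQ 22027 Q22027 (allL N22027 (tt N35403 (iv1 F190592)) (tt N35406 (iv0 F199674)) (tt N25426 (iv2 F302076)) (tt N10787 F52382) (tt N14150 F299258) (tt N25135 (iv5 F60340)) (tt N10785 (iv6 D33160)) (tt N43151 D71730))
theorem Q22029 : ∀ i, i < 22029 → P i := stepQ 22028 Q22028 (allL N22028 (tt N37482 (iv1 F96085)) (tt N18964 (iv0 F52383)) (tt N23932 F303483) (tt N25392 F303484) (tt N12251 (iv4 F304353)) (tt N25137 (iv5 F60343)) (tt N10786 (iv6 D33162)) (tt N37481 (iv7 F96078)))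
theorem Q22030 : ∀ i, i < 22030 → P i := stepQ 22029 Q22029 (allL N22029 (tt N11208 (iv1 F52386)) (tt N12464 F52387) (tt N25139 (iv2 F60346)) (tt N43151 (iv3 F108201)) (tt N11335 F52384) (tt N17936 F52385) (tt N22485 (iv6 F53216)) (tt N10787 (iv7 D33163)))
theorem Q22031 : ∀ i, i < 22031 → P i := stepQ 22030 Q22030 (allL N22030 (tt N27937 (iv1 F300987)) (tt N27936 (iv0 F300989)) (tt N12583 (iv2 F301357)) (tt N10788 (iv3 D33164)) (tt N28590 (iv4 F301358)) (tt N11826 F298699) (tt N42692 (iv6 F301360)) (tt N27938 (iv7 F300684)))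
theorem Q22032 : ∀ i, i < 22032 → P i := stepQ 22031 Q22031 (allL N22031 (tt N37449 F96016) (tt N43152 D71738) (tt N24261 (iv2 F301339)) (tt N42692 (iv3 F301359)) (tt N28139 (iv4 F299179)) (tt N43153 D71739) (tt N10788 (iv6 D33165)) (tt N43154 D71740))
theorem Q22033 : ∀ i, i < 22033 → P i := stepQ 22032 Q22032 (allL N22032 (tt N43155 D71746) (tt N37388 (iv0 F105920)) (tt N21437 F315607) (tt N12579 (iv3 F304929)) (tt N22987 F302500) (tt N16967 F315608) (tt N10789 (iv6 D33167)) (tt N21434 F315609))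
theorem Q22034 : ∀ i, i < 22034 → P i := stepQ 22033 Q22033 (allL N22033 (tt N43156 D71748) (tt N43157 D71749) (tt N43158 D71750) (tt N10790 (iv3 D33168)) (tt N43098 (iv4 F304775)) (tt N11907 F302366) (tt N10791 F52388) (tt N33943 (iv7 F302751)))
theorem Q22035 : ∀ i, i < 22035 → P i := stepQ 22034 Q22034 (allL N22034 (tt N19765 (iv1 F52396)) (tt N10791 (iv0 D33172)) (tt N19767 F214123) (tt N43159 D71756) (tt N43160 D71757) (tt N37336 (iv5 F211937)) (tt N43161 D71759) (tt N19766 F214124))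
theorem Q22036 : ∀ i, i < 22036 → P i := stepQ 22035 Q22035 (allL N22035 (tt N10791 (iv1 D33173)) (tt N19765 F52400) (tt N19766 (iv2 F214119)) (tt N43162 D71761) (tt N43163 D71762) (tt N37337 (iv5 F211940)) (tt N43164 D71764) (tt N19767 (iv7 F214122)))
theorem Q22037 : ∀ i, i < 22037 → P i := stepQ 22036 Q22036 (allL N22036 (tt N19767 (iv1 F52401)) (tt N19766 F52399) (tt N10791 (iv2 D33174)) (tt N33972 (iv3 F86346)) (tt N43135 (iv4 F108163)) (tt N19754 F52397) (tt N43158 (iv6 F108214)) (tt N19765 F52398))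
theorem Q22038 : ∀ i, i < 22038 → P i := stepQ 22037 Q22037 (allL N22037 (tt N33969 (iv1 F86344)) (tt N10792 (iv0 D33175)) (tt N20763 F316094) (tt N43165 D71766) (tt N19331 F208983) (tt N16783 F316095) (tt N43166 D71769) (tt N20760 F316096))
theorem Q22039 : ∀ i, i < 22039 → P i := stepQ 22038 Q22038 (allL N22038 (tt N10792 (iv1 D33176)) (tt N33969 F86343) (tt N20760 F316097) (tt N24162 F308511) (tt N19332 (iv4 F208980)) (tt N16782 F316098) (tt N43167 D71774) (tt N20763 F316099))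
theorem Q22040 : ∀ i, i < 22040 → P i := stepQ 22039 Q22039 (allL N22039 (tt N17443 F52402) (tt N17442 F52403) (tt N23874 F56648) (tt N29896 (iv3 F77566)) (tt N43168 D71775) (tt N10793 (iv5 D33177)) (tt N43169 D71776) (tt N23873 F56644))
theorem Q22041 : ∀ i, i < 22041 → P i := stepQ 22040 Q22040 (allL N22040 (tt N21968 F54251) (tt N19447 (iv0 F54250)) (tt N32789 (iv2 F83531)) (tt N29897 (iv3 F77569)) (tt N19461 F54249) (tt N31369 (iv5 F80527)) (tt N10793 (iv6 D33178)) (tt N32881 (iv7 F83698)))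
theorem Q22042 : ∀ i, i < 22042 → P i := stepQ 22041 Q22041 (allL N22041 (tt N10798 (iv1 F52405)) (tt N10794 (iv0 D33179)) (tt N32832 (iv2 F83619)) (tt N32841 (iv3 F83641)) (tt N43170 D71777) (tt N11790 F52404) (tt N43171 D71778) (tt N32849 (iv7 F83654)))
theorem Q22043 : ∀ i, i < 22043 → P i := stepQ 22042 Q22042 (allL N22042 (tt N32590 (iv1 F83171)) (tt N11776 F52406) (tt N32597 (iv2 F83191)) (tt N43172 D71779) (tt N10794 (iv4 D33180)) (tt N43173 D71780) (tt N43174 D71781) (tt N32596 F83187))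
theorem Q22044 : ∀ i, i < 22044 → P i := stepQ 22043 Q22043 (allL N22043 (tt N43175 D71782) (tt N32873 F259172) (tt N33925 (iv2 F86207)) (tt N42658 (iv3 F106723)) (tt N43174 (iv4 F108250)) (tt N39005 F329785) (tt N10794 (iv6 D33181)) (tt N43176 D71784))
theorem Q22045 : ∀ i, i < 22045 → P i := stepQ 22044 Q22044 (allL N22044 (tt N10800 (iv1 F52408)) (tt N10795 (iv0 D33182)) (tt N33923 F86196) (tt N43177 D71785) (tt N12648 F52407) (tt N24738 (iv5 F59381)) (tt N43178 D71786) (tt N29791 (iv7 F77325)))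
theorem Q22046 : ∀ i, i < 22046 → P i := stepQ 22045 Q22045 (allL N22045 (tt N10795 (iv1 D33183)) (tt N10800 F52409) (tt N29791 (iv2 F77324)) (tt N24691 F71638) (tt N29790 F77323) (tt N24689 (iv5 F71637)) (tt N43179 D71787) (tt N33923 (iv7 F86194)))
theorem Q22047 : ∀ i, i < 22047 → P i := stepQ 22046 Q22046 (allL N22046 (tt N43180 D71788) (tt N27998 F72498) (tt N33927 (iv2 F86210)) (tt N17357 F52410) (tt N18515 (iv4 F52411)) (tt N10795 (iv5 D33184)) (tt N36444 F299489) (tt N22993 (iv7 F54848)))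
theorem Q22048 : ∀ i, i < 22048 → P i := stepQ 22047 Q22047 (allL N22047 (tt N43181 D71790) (tt N24544 F310855) (tt N33928 (iv2 F86212)) (tt N24753 (iv3 F59400)) (tt N10796 F52412) (tt N43182 D71792) (tt N10795 (iv6 D33185)) (tt N34331 (iv7 F130746)))
theorem Q22049 : ∀ i, i < 22049 → P i := stepQ 22048 Q22048 (allL N22048 (tt N35378 F199871) (tt N35369 F199872) (tt N20276 F312958) (tt N10801 F52413) (tt N36526 (iv4 F94751)) (tt N20274 F312959) (tt N10797 (iv6 D33189)) (tt N35377 F199873))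
theorem Q22050 : ∀ i, i < 22050 → P i := stepQ 22049 Q22049 (allL N22049 (tt N11776 F52416) (tt N32590 (iv0 F83170)) (tt N32596 F83186) (tt N18516 F52414) (tt N10798 (iv4 D33190)) (tt N18515 F52415) (tt N43183 D71807) (tt N32597 (iv7 F83189)))
theorem Q22051 : ∀ i, i < 22051 → P i := stepQ 22050 Q22050 (allL N22050 (tt N43184 D71808) (tt N43185 D71809) (tt N33922 (iv2 F86192)) (tt N21953 F52417) (tt N43183 (iv4 F108262)) (tt N43186 D71810) (tt N10798 (iv6 D33191)) (tt N43187 D71811))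
theorem Q22052 : ∀ i, i < 22052 → P i := stepQ 22051 Q22051 (allL N22051 (tt N42938 (iv1 F107768)) (tt N42937 F107767) (tt N32718 (iv2 F83386)) (tt N21954 F52418) (tt N43188 D71812) (tt N10799 (iv5 D33192)) (tt N43186 (iv6 F108264)) (tt N32828 (iv7 F83615)))
theorem Q22053 : ∀ i, i < 22053 → P i := stepQ 22052 Q22052 (allL N22052 (tt N43189 D71813) (tt N24637 (iv0 F59233)) (tt N24749 (iv2 F59395)) (tt N10800 (iv3 D33193)) (tt N36525 (iv4 F94750)) (tt N36450 F304856) (tt N43190 D71815) (tt N33926 (iv7 F86208)))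
theorem Q22054 : ∀ i, i < 22054 → P i := stepQ 22053 Q22053 (allL N22053 (tt N27998 F72497) (tt N43180 F108254) (tt N22993 F54849) (tt N36450 (iv3 F302418)) (tt N43173 (iv4 F108246)) (tt N10800 (iv5 D33194)) (tt N43191 D71816) (tt N33927 (iv7 F86211)))
theorem Q22055 : ∀ i, i < 22055 → P i := stepQ 22054 Q22054 (allL N22054 (tt N43192 D71817) (tt N43193 D71818) (tt N33924 (iv2 F86198)) (tt N43190 (iv3 F108272)) (tt N10801 F52419) (tt N43194 D71819) (tt N10800 (iv6 D33195)) (tt N35431 (iv7 F199886)))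
theorem Q22056 : ∀ i, i < 22056 → P i := stepQ 22055 Q22055 (allL N22055 (tt N12462 (iv1 F131007)) (tt N20266 F314304) (tt N11123 F314305) (tt N20274 F314306) (tt N43195 D71833) (tt N10801 (iv5 D33198)) (tt N10802 F52420) (tt N20267 F314307))
theorem Q22057 : ∀ i, i < 22057 → P i := stepQ 22056 Q22056 (allL N22056 (tt N42950 (iv1 F107783)) (tt N42949 F107782) (tt N33918 (iv2 F86150)) (tt N14584 (iv3 F321142)) (tt N10802 (iv4 D33200)) (tt N14583 (iv5 F321143)) (tt N43195 (iv6 F108277)) (tt N34150 (iv7 F86822)))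
theorem Q22058 : ∀ i, i < 22058 → P i := stepQ 22057 Q22057 (allL N22057 (tt N23882 (iv1 F56675)) (tt N23875 (iv0 F56652)) (tt N10816 F52421) (tt N43196 D71837) (tt N10803 (iv4 D33201)) (tt N33939 (iv5 F86255)) (tt N43197 D71838) (tt N32654 (iv7 F83298)))
theorem Q22059 : ∀ i, i < 22059 → P i := stepQ 22058 Q22058 (allL N22058 (tt N43198 D71839) (tt N43199 D71840) (tt N10817 F52422) (tt N32670 (iv3 F83319)) (tt N43197 (iv4 F108280)) (tt N43200 D71841) (tt N10803 (iv6 D33202)) (tt N43201 D71842))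
theorem Q22060 : ∀ i, i < 22060 → P i := stepQ 22059 Q22059 (allL N22059 (tt N10804 (iv1 D33203)) (tt N10821 F52423) (tt N10819 (iv2 F52425)) (tt N32479 (iv3 F82920)) (tt N43202 D71843) (tt N43203 D71844) (tt N32466 F82898) (tt N10818 F52424))
theorem Q22061 : ∀ i, i < 22061 → P i := stepQ 22060 Q22060 (allL N22060 (tt N43204 D71845) (tt N43205 D71846) (tt N10820 F52426) (tt N32672 (iv3 F83326)) (tt N43206 D71847) (tt N10804 (iv5 D33204)) (tt N43200 (iv6 F108283)) (tt N34261 (iv7 F87031)))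
theorem Q22062 : ∀ i, i < 22062 → P i := stepQ 22061 Q22061 (allL N22061 (tt N33942 F302363) (tt N33941 F302364) (tt N11907 F52427) (tt N10805 (iv3 D33205)) (tt N33933 F302365) (tt N43158 (iv5 F304774)) (tt N43207 D71849) (tt N33929 (iv7 F86223)))
theorem Q22063 : ∀ i, i < 22063 → P i := stepQ 22062 Q22062 (allL N22062 (tt N11271 F52430) (tt N12124 F52431) (tt N10829 F52428) (tt N43158 F305111) (tt N32656 (iv4 F83304)) (tt N10805 (iv5 D33206)) (tt N33972 (iv6 F307025)) (tt N12123 F52429))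
theorem Q22064 : ∀ i, i < 22064 → P i := stepQ 22063 Q22063 (allL N22063 (tt N43208 D71851) (tt N43209 D71852) (tt N10830 F52432) (tt N43207 (iv3 F108309)) (tt N10806 F52433) (tt N38599 (iv5 F307852)) (tt N10805 (iv6 D33207)) (tt N43207 (iv7 F304773)))
theorem Q22065 : ∀ i, i < 22065 → P i := stepQ 22064 Q22064 (allL N22064 (tt N10834 (iv1 F52438)) (tt N10806 (iv0 D33208)) (tt N10831 F185112) (tt N22249 F190171) (tt N43210 D71857) (tt N16769 F320464) (tt N43211 D71859) (tt N10832 F185113))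
theorem Q22066 : ∀ i, i < 22066 → P i := stepQ 22065 Q22065 (allL N22065 (tt N10806 (iv1 D33209)) (tt N10834 F52434) (tt N10832 (iv2 F185104)) (tt N34125 (iv3 F108328)) (tt N43212 D71861) (tt N43213 D71862) (tt N42313 (iv6 F188614)) (tt N10831 (iv7 F185111)))
theorem Q22067 : ∀ i, i < 22067 → P i := stepQ 22066 Q22066 (allL N22066 (tt N43214 D71864) (tt N43215 D71865) (tt N10833 F52435) (tt N33993 (iv3 F86445)) (tt N43216 D71866) (tt N10806 (iv5 D33210)) (tt N10807 F52436) (tt N43217 D71867))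
theorem Q22068 : ∀ i, i < 22068 → P i := stepQ 22067 Q22067 (allL N22067 (tt N10832 (iv1 F52439)) (tt N10831 F52440) (tt N10834 F52437) (tt N33991 F304245) (tt N43207 (iv4 F304772)) (tt N43217 (iv5 F108333)) (tt N33933 (iv6 F86234)) (tt N10806 (iv7 D33211)))
theorem Q22069 : ∀ i, i < 22069 → P i := stepQ 22068 Q22068 (allL N22068 (tt N10840 (iv1 F52441)) (tt N10807 (iv0 D33212)) (tt N10837 F52526) (tt N22253 F54210) (tt N43218 D71868) (tt N29704 F77005) (tt N40501 F318330) (tt N10838 F52527))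
theorem Q22070 : ∀ i, i < 22070 → P i := stepQ 22069 Q22069 (allL N22069 (tt N10807 (iv1 D33213)) (tt N10840 F52442) (tt N10838 (iv2 F52524)) (tt N11026 F52444) (tt N43219 D71870) (tt N17005 (iv5 F52443)) (tt N33238 F318387) (tt N10837 F52523))
theorem Q22071 : ∀ i, i < 22071 → P i := stepQ 22070 Q22070 (allL N22070 (tt N43220 D71872) (tt N43221 D71873) (tt N10839 F52445) (tt N43222 D71874) (tt N10807 (iv4 D33214)) (tt N43223 D71875) (tt N43216 (iv6 F108331)) (tt N34262 (iv7 F87035)))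
theorem Q22072 : ∀ i, i < 22072 → P i := stepQ 22071 Q22071 (allL N22071 (tt N26795 F67758) (tt N32625 (iv0 F83246)) (tt N32637 F83265) (tt N10810 F52446) (tt N43224 D71876) (tt N10808 (iv5 D33215)) (tt N43225 D71877) (tt N32591 (iv7 F83173)))
theorem Q22073 : ∀ i, i < 22073 → P i := stepQ 22072 Q22072 (allL N22072 (tt N21556 (iv1 F52452)) (tt N14862 F52450) (tt N17015 F52447) (tt N18497 F52448) (tt N10988 F52451) (tt N10809 (iv5 D33216)) (tt N43226 D71878) (tt N21590 F52449))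
theorem Q22074 : ∀ i, i < 22074 → P i := stepQ 22073 Q22073 (allL N22073 (tt N43227 D71879) (tt N43228 D71880) (tt N32594 (iv2 F83180)) (tt N12107 F52456) (tt N10810 (iv4 D33217)) (tt N12106 F52455) (tt N43229 D71881) (tt N32592 (iv7 F83176)))
theorem Q22075 : ∀ i, i < 22075 → P i := stepQ 22074 Q22074 (allL N22074 (tt N43230 D71882) (tt N29921 (iv0 F334809)) (tt N32595 (iv2 F83183)) (tt N43225 (iv3 F108360)) (tt N43229 (iv4 F108375)) (tt N41881 (iv5 F105037)) (tt N10810 (iv6 D33218)) (tt N43231 D71884))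
theorem Q22076 : ∀ i, i < 22076 → P i := stepQ 22075 Q22075 (allL N22075 (tt N23267 (iv1 F55335)) (tt N23269 (iv0 F55345)) (tt N29751 (iv2 F77173)) (tt N10812 F52457) (tt N43232 D71885) (tt N10811 (iv5 D33219)) (tt N41793 F338205) (tt N29753 (iv7 F77186)))
theorem Q22077 : ∀ i, i < 22077 → P i := stepQ 22076 Q22076 (allL N22076 (tt N43228 (iv1 F108369)) (tt N43227 F108365) (tt N32592 (iv2 F83175)) (tt N43233 D71887) (tt N10812 (iv4 D33220)) (tt N43234 D71888) (tt N43235 D71889) (tt N32594 (iv7 F83182)))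
theorem Q22078 : ∀ i, i < 22078 → P i := stepQ 22077 Q22077 (allL N22077 (tt N43236 D71890) (tt N43237 D71891) (tt N32593 (iv2 F83179)) (tt N41793 F338203) (tt N43235 (iv4 F108385)) (tt N43238 D71892) (tt N10812 (iv6 D33221)) (tt N43239 D71893))
theorem Q22079 : ∀ i, i < 22079 → P i := stepQ 22078 Q22078 (allL N22078 (tt N43240 D71894) (tt N43241 D71895) (tt N32653 (iv2 F83295)) (tt N34028 (iv3 F86516)) (tt N43242 D71896) (tt N10813 (iv5 D33222)) (tt N43238 (iv6 F108386)) (tt N34133 (iv7 F86801)))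
theorem Q22080 : ∀ i, i < 22080 → P i := stepQ 22079 Q22079 (allL N22079 (tt N34075 F86683) (tt N34079 F86693) (tt N34076 F86687) (tt N10814 (iv3 D33223)) (tt N43243 D71897) (tt N16360 F52458) (tt N38233 (iv6 F322824)) (tt N23832 (iv7 F56571)))
theorem Q22081 : ∀ i, i < 22081 → P i := stepQ 22080 Q22080 (allL N22080 (tt N43244 D71899) (tt N43245 D71900) (tt N23841 (iv2 F56598)) (tt N24140 F57524) (tt N10814 (iv4 D33224)) (tt N24516 (iv5 F59001)) (tt N38236 (iv6 F325429)) (tt N23835 (iv7 F56580)))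
theorem Q22082 : ∀ i, i < 22082 → P i := stepQ 22081 Q22081 (allL N22081 (tt N23140 (iv1 F55046)) (tt N23142 (iv0 F55061)) (tt N23305 (iv2 F55456)) (tt N10815 (iv3 D33226)) (tt N43246 D71906) (tt N16362 F52459) (tt N43247 D71907) (tt N23839 (iv7 F56589)))
theorem Q22083 : ∀ i, i < 22083 → P i := stepQ 22082 Q22082 (allL N22082 (tt N43245 (iv1 F108401)) (tt N43244 F108398) (tt N23835 (iv2 F56579)) (tt N43248 D71908) (tt N10815 (iv4 D33227)) (tt N24576 (iv5 F59135)) (tt N43249 D71909) (tt N23841 (iv7 F56599)))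
theorem Q22084 : ∀ i, i < 22084 → P i := stepQ 22083 Q22083 (allL N22083 (tt N43250 D71910) (tt N43251 D71911) (tt N23836 (iv2 F56583)) (tt N43247 (iv3 F108417)) (tt N43249 (iv4 F108418)) (tt N43252 D71912) (tt N10815 (iv6 D33228)) (tt N43253 D71913))
theorem Q22085 : ∀ i, i < 22085 → P i := stepQ 22084 Q22084 (allL N22084 (tt N32654 (iv1 F83300)) (tt N10816 (iv0 D33229)) (tt N23882 (iv2 F56670)) (tt N43254 D71914) (tt N17442 F52460) (tt N36529 (iv5 F94756)) (tt N30454 F328858) (tt N23875 (iv7 F56651)))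
theorem Q22086 : ∀ i, i < 22086 → P i := stepQ 22085 Q22085 (allL N22085 (tt N10816 (iv1 D33230)) (tt N32654 (iv0 F83299)) (tt N23875 (iv2 F56650)) (tt N35087 (iv3 F90818)) (tt N17443 F52461) (tt N34211 (iv5 F86967)) (tt N43255 D71916) (tt N23882 (iv7 F56672)))
theorem Q22087 : ∀ i, i < 22087 → P i := stepQ 22086 Q22086 (allL N22086 (tt N43256 D71917) (tt N43243 (iv0 F108393)) (tt N42997 (iv2 F107871)) (tt N10816 (iv3 D33231)) (tt N14742 F52462) (tt N43257 D71918) (tt N43258 D71919) (tt N16454 F52463))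
theorem Q22088 : ∀ i, i < 22088 → P i := stepQ 22087 Q22087 (allL N22087 (tt N43173 (iv1 F108249)) (tt N18515 (iv0 F52465)) (tt N33939 (iv2 F86254)) (tt N43257 (iv3 F108428)) (tt N12123 F52464) (tt N10816 (iv5 D33232)) (tt N43259 D71920) (tt N32656 (iv7 F83303)))
theorem Q22089 : ∀ i, i < 22089 → P i := stepQ 22088 Q22088 (allL N22088 (tt N43260 D71921) (tt N43261 D71922) (tt N43197 (iv2 F108279)) (tt N43258 (iv3 F108431)) (tt N10817 F52466) (tt N43262 D71923) (tt N10816 (iv6 D33233)) (tt N43263 D71924))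
theorem Q22090 : ∀ i, i < 22090 → P i := stepQ 22089 Q22089 (allL N22089 (tt N43201 (iv1 F108287)) (tt N10817 (iv0 D33234)) (tt N43198 (iv2 F239335)) (tt N43264 D71926) (tt N43265 D71927) (tt N43266 D71928) (tt N43267 D71929) (tt N43199 (iv7 F239338)))
theorem Q22091 : ∀ i, i < 22091 → P i := stepQ 22090 Q22090 (allL N22090 (tt N10817 (iv1 D33235)) (tt N43201 F108286) (tt N43199 (iv2 F239337)) (tt N21399 F316574) (tt N43268 D71932) (tt N43269 D71933) (tt N43270 D71934) (tt N43198 (iv7 F239336)))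
theorem Q22092 : ∀ i, i < 22092 → P i := stepQ 22091 Q22091 (allL N22091 (tt N43271 D71935) (tt N43272 D71936) (tt N43200 (iv2 F108282)) (tt N18478 F52467) (tt N43273 D71937) (tt N10817 (iv5 D33236)) (tt N10820 F52468) (tt N43274 D71938))
theorem Q22093 : ∀ i, i < 22093 → P i := stepQ 22092 Q22092 (allL N22092 (tt N43199 (iv1 F108281)) (tt N43198 F108285) (tt N43201 (iv2 F108284)) (tt N18479 F52469) (tt N43263 (iv4 F108434)) (tt N43274 (iv5 F108442)) (tt N32660 (iv6 F83307)) (tt N10817 (iv7 D33237)))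
theorem Q22094 : ∀ i, i < 22094 → P i := stepQ 22093 Q22093 (allL N22093 (tt N18603 F52473) (tt N14848 F52479) (tt N17035 F52470) (tt N21757 (iv3 F52472)) (tt N10818 (iv4 D33238)) (tt N43275 D71939) (tt N16476 F52471) (tt N43202 (iv7 F108291)))
theorem Q22095 : ∀ i, i < 22095 → P i := stepQ 22094 Q22094 (allL N22094 (tt N43276 D71940) (tt N32426 (iv0 F82826)) (tt N34072 (iv2 F86672)) (tt N32668 (iv3 F83315)) (tt N43277 D71941) (tt N10818 (iv5 D33239)) (tt N43278 D71942) (tt N43203 (iv7 F108295)))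
theorem Q22096 : ∀ i, i < 22096 → P i := stepQ 22095 Q22095 (allL N22095 (tt N14848 F52478) (tt N18603 (iv0 F52477)) (tt N43202 (iv2 F108288)) (tt N16860 F52474) (tt N10819 (iv4 D33240)) (tt N43279 D71943) (tt N16859 F52475) (tt N17035 F52476))
theorem Q22097 : ∀ i, i < 22097 → P i := stepQ 22096 Q22096 (allL N22096 (tt N32426 (iv1 F82825)) (tt N43276 F108446) (tt N43203 (iv2 F108294)) (tt N41722 (iv3 F104822)) (tt N43280 D71944) (tt N10819 (iv5 D33241)) (tt N43281 D71945) (tt N34072 (iv7 F86674)))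
theorem Q22098 : ∀ i, i < 22098 → P i := stepQ 22097 Q22097 (allL N22097 (tt N34261 (iv1 F87033)) (tt N10820 (iv0 D33242)) (tt N43204 (iv2 F108299)) (tt N43282 D71946) (tt N43283 D71947) (tt N43284 D71948) (tt N43285 D71949) (tt N43205 (iv7 F108301)))
theorem Q22099 : ∀ i, i < 22099 → P i := stepQ 22098 Q22098 (allL N22098 (tt N10820 (iv1 D33243)) (tt N34261 F87032) (tt N43205 F108303) (tt N43286 D71950) (tt N43287 D71951) (tt N41417 (iv5 F104117)) (tt N43288 D71952) (tt N43204 F108298))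
theorem Q22100 : ∀ i, i < 22100 → P i := stepQ 22099 Q22099 (allL N22099 (tt N43289 D71953) (tt N43290 D71954) (tt N43206 (iv2 F108304)) (tt N43291 D71955) (tt N10820 (iv4 D33244)) (tt N43292 D71956) (tt N43273 (iv6 F108440)) (tt N43293 D71957))
theorem Q22101 : ∀ i, i < 22101 → P i := stepQ 22100 Q22100 (allL N22100 (tt N43205 (iv1 F108300)) (tt N43204 F108296) (tt N34261 (iv2 F87030)) (tt N18486 F52480) (tt N43293 (iv4 F108455)) (tt N10821 F52481) (tt N43294 D71958) (tt N10820 (iv7 D33245)))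
theorem Q22102 : ∀ i, i < 22102 → P i := stepQ 22101 Q22101 (allL N22101 (tt N10825 (iv1 F52483)) (tt N10822 (iv0 D33246)) (tt N23878 F56661) (tt N37606 F307222) (tt N21542 F52482) (tt N43180 (iv5 F108253)) (tt N26172 (iv6 F301224)) (tt N23877 F56657))
theorem Q22103 : ∀ i, i < 22103 → P i := stepQ 22102 Q22102 (allL N22102 (tt N10822 (iv1 D33247)) (tt N10825 F52484) (tt N23877 F56656) (tt N23525 F56067) (tt N21559 F52485) (tt N27998 (iv5 F72496)) (tt N43295 D71961) (tt N23878 (iv7 F56659)))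
theorem Q22104 : ∀ i, i < 22104 → P i := stepQ 22103 Q22103 (allL N22103 (tt N37590 F314756) (tt N43296 D71963) (tt N23887 (iv2 F56684)) (tt N34214 (iv3 F86974)) (tt N10823 F52486) (tt N43297 D71964) (tt N10822 (iv6 D33248)) (tt N43298 D71965))
theorem Q22105 : ∀ i, i < 22105 → P i := stepQ 22104 Q22104 (allL N22104 (tt N23890 (iv1 F56694)) (tt N10823 (iv0 D33249)) (tt N11318 F130869) (tt N23298 F232312) (tt N43299 D71968) (tt N43300 D71969) (tt N42307 F130870) (tt N23888 (iv7 F113758)))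
theorem Q22106 : ∀ i, i < 22106 → P i := stepQ 22105 Q22105 (allL N22105 (tt N23888 (iv1 F56686)) (tt N11318 F130871) (tt N23890 (iv2 F56690)) (tt N21756 F52487) (tt N43298 (iv4 F108460)) (tt N41813 (iv5 F104921)) (tt N23881 (iv6 F56666)) (tt N10823 (iv7 D33251)))
theorem Q22107 : ∀ i, i < 22107 → P i := stepQ 22106 Q22106 (allL N22106 (tt N43301 D71976) (tt N43302 D71977) (tt N21741 F52488) (tt N10826 F52489) (tt N36441 (iv4 F94610)) (tt N24279 F310265) (tt N10824 (iv6 D33252)) (tt N43303 D71978))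
theorem Q22108 : ∀ i, i < 22108 → P i := stepQ 22107 Q22107 (allL N22107 (tt N43304 D71979) (tt N23516 (iv0 F56041)) (tt N34204 (iv2 F86938)) (tt N10825 (iv3 D33253)) (tt N36439 (iv4 F94606)) (tt N34203 F86931) (tt N43305 D71980) (tt N23885 (iv7 F56681)))
theorem Q22109 : ∀ i, i < 22109 → P i := stepQ 22108 Q22108 (allL N22108 (tt N34210 (iv1 F86959)) (tt N34209 F86955) (tt N12259 F52490) (tt N34203 (iv3 F86923)) (tt N36529 (iv4 F94755)) (tt N10825 (iv5 D33254)) (tt N43306 D71981) (tt N23886 (iv7 F56683)))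
theorem Q22110 : ∀ i, i < 22110 → P i := stepQ 22109 Q22109 (allL N22109 (tt N43307 D71982) (tt N43308 D71983) (tt N23879 (iv2 F56662)) (tt N43305 (iv3 F108472)) (tt N10826 F52491) (tt N43309 D71984) (tt N10825 (iv6 D33255)) (tt N43310 D71985))
theorem Q22111 : ∀ i, i < 22111 → P i := stepQ 22110 Q22110 (allL N22110 (tt N10826 (iv1 D33257)) (tt N23881 F56668) (tt N11209 (iv2 F130958)) (tt N23317 F232566) (tt N43311 D71993) (tt N43312 D71994) (tt N43313 D71995) (tt N23880 F130991))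
theorem Q22112 : ∀ i, i < 22112 → P i := stepQ 22111 Q22111 (allL N22111 (tt N34427 (iv1 F130754)) (tt N43314 D71997) (tt N19435 F52492) (tt N24279 (iv3 F309769)) (tt N43315 D71998) (tt N10826 (iv5 D33258)) (tt N17445 F52493) (tt N43316 D71999))
theorem Q22113 : ∀ i, i < 22113 → P i := stepQ 22112 Q22112 (allL N22112 (tt N11209 F130988) (tt N23880 F56667) (tt N23881 (iv2 F56665)) (tt N43303 (iv3 F108466)) (tt N43310 (iv4 F108474)) (tt N43316 (iv5 F108484)) (tt N23890 (iv6 F56691)) (tt N10826 (iv7 D33259)))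
theorem Q22114 : ∀ i, i < 22114 → P i := stepQ 22113 Q22113 (allL N22113 (tt N24655 (iv1 F59267)) (tt N24654 F59264) (tt N24505 (iv2 F58961)) (tt N10827 (iv3 D33260)) (tt N12141 F52494) (tt N24504 F58960) (tt N43317 D72000) (tt N24652 (iv7 F59257)))
theorem Q22115 : ∀ i, i < 22115 → P i := stepQ 22114 Q22114 (allL N22114 (tt N43299 (iv1 F155402)) (tt N34555 (iv0 F155403)) (tt N24599 (iv2 F59153)) (tt N43317 (iv3 F108488)) (tt N42483 (iv4 F106278)) (tt N43318 D72003) (tt N10827 (iv6 D33261)) (tt N43319 D72004))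
theorem Q22116 : ∀ i, i < 22116 → P i := stepQ 22115 Q22115 (allL N22115 (tt N34447 (iv1 F155522)) (tt N43311 (iv0 F155524)) (tt N33938 (iv2 F86253)) (tt N24518 (iv3 F59011)) (tt N21770 F52495) (tt N43320 D72007) (tt N10828 (iv6 D33262)) (tt N43321 D72008))
theorem Q22117 : ∀ i, i < 22117 → P i := stepQ 22116 Q22116 (allL N22116 (tt N12123 (iv1 F52498)) (tt N10829 (iv0 D33263)) (tt N11271 (iv2 F52497)) (tt N12142 F52500) (tt N43234 (iv4 F108381)) (tt N10988 F52496) (tt N43234 F297057) (tt N12124 F52499))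
theorem Q22118 : ∀ i, i < 22118 → P i := stepQ 22117 Q22117 (allL N22117 (tt N18515 F52501) (tt N43173 (iv0 F108248)) (tt N32656 (iv2 F83302)) (tt N33949 F305112) (tt N10829 (iv4 D33264)) (tt N32654 (iv5 F83297)) (tt N33962 (iv6 F307026)) (tt N33939 (iv7 F86256)))
theorem Q22119 : ∀ i, i < 22119 → P i := stepQ 22118 Q22118 (allL N22118 (tt N43207 (iv1 F304770)) (tt N10830 (iv0 D33266)) (tt N43208 (iv2 F187620)) (tt N43322 D72017) (tt N43323 D72018) (tt N43324 D72019) (tt N43325 D72020) (tt N43209 (iv7 F187642)))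
theorem Q22120 : ∀ i, i < 22120 → P i := stepQ 22119 Q22119 (allL N22119 (tt N10830 (iv1 D33267)) (tt N43207 (iv0 F304769)) (tt N43209 (iv2 F187641)) (tt N43326 D72022) (tt N43327 D72023) (tt N43328 D72024) (tt N43329 D72025) (tt N43208 (iv7 F187621)))
theorem Q22121 : ∀ i, i < 22121 → P i := stepQ 22120 Q22120 (allL N22120 (tt N43209 (iv1 F108313)) (tt N43208 (iv0 F108312)) (tt N43207 (iv2 F304771)) (tt N11908 F302367) (tt N10834 F52505) (tt N19770 (iv5 F304776)) (tt N11907 F302368) (tt N10830 (iv7 D33269)))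
theorem Q22122 : ∀ i, i < 22122 → P i := stepQ 22121 Q22121 (allL N22121 (tt N34126 (iv1 F185042)) (tt N21743 (iv0 F185043)) (tt N34124 (iv2 F185100)) (tt N10831 (iv3 D33271)) (tt N42641 F307199) (tt N43330 D72039) (tt N20295 (iv6 F309112)) (tt N34125 (iv7 F185103)))
theorem Q22123 : ∀ i, i < 22123 → P i := stepQ 22122 Q22122 (allL N22122 (tt N43331 D72042) (tt N43295 (iv0 F191282)) (tt N43210 (iv2 F185117)) (tt N43332 D72044) (tt N10831 (iv4 D33272)) (tt N43333 D72045) (tt N43334 D72046) (tt N43212 (iv7 F185106)))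
theorem Q22124 : ∀ i, i < 22124 → P i := stepQ 22123 Q22123 (allL N22123 (tt N43335 D72048) (tt N20638 (iv0 F322303)) (tt N16769 F320431) (tt N43330 (iv3 F108511)) (tt N43336 D72050) (tt N10831 (iv5 D33273)) (tt N16765 F320432) (tt N43213 (iv7 F185108)))
theorem Q22125 : ∀ i, i < 22125 → P i := stepQ 22124 Q22124 (allL N22124 (tt N43313 (iv1 F131027)) (tt N43337 D72054) (tt N43211 (iv2 F185121)) (tt N20295 F311272) (tt N43334 (iv4 F108515)) (tt N43338 D72055) (tt N10831 (iv6 D33274)) (tt N43339 D72056))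
theorem Q22126 : ∀ i, i < 22126 → P i := stepQ 22125 Q22125 (allL N22125 (tt N22197 (iv1 F190160)) (tt N22252 F190137) (tt N22250 F190172) (tt N10832 (iv3 D33276)) (tt N36487 (iv4 F188367)) (tt N43340 D72062) (tt N43341 D72063) (tt N22249 F190173))
theorem Q22127 : ∀ i, i < 22127 → P i := stepQ 22126 Q22126 (allL N22126 (tt N43295 (iv1 F191283)) (tt N43331 F108518) (tt N43212 (iv2 F185105)) (tt N43342 D72064) (tt N10832 (iv4 D33277)) (tt N43343 D72065) (tt N43344 D72066) (tt N43210 (iv7 F185118)))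
theorem Q22128 : ∀ i, i < 22128 → P i := stepQ 22127 Q22127 (allL N22127 (tt N20638 (iv1 F322304)) (tt N43335 F108523) (tt N43213 (iv2 F185107)) (tt N43340 (iv3 F108527)) (tt N43345 D72067) (tt N10832 (iv5 D33278)) (tt N43346 D72068) (tt N16769 F320466))
theorem Q22129 : ∀ i, i < 22129 → P i := stepQ 22128 Q22128 (allL N22128 (tt N33791 (iv1 F130936)) (tt N42307 (iv0 F131188)) (tt N42313 (iv2 F188611)) (tt N43341 (iv3 F108528)) (tt N43344 (iv4 F108529)) (tt N22520 F130784) (tt N10832 (iv6 D33279)) (tt N42314 (iv7 F188610)))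
theorem Q22130 : ∀ i, i < 22130 → P i := stepQ 22129 Q22129 (allL N22129 (tt N43217 (iv1 F108336)) (tt N10833 (iv0 D33280)) (tt N43214 (iv2 F108539)) (tt N34364 (iv3 F108537)) (tt N43347 D72075) (tt N35438 (iv5 F199918)) (tt N43348 D72077) (tt N43215 (iv7 F108536)))
theorem Q22131 : ∀ i, i < 22131 → P i := stepQ 22130 Q22130 (allL N22130 (tt N10833 (iv1 D33281)) (tt N43217 F108335) (tt N43215 (iv2 F108535)) (tt N43349 D72079) (tt N43350 D72080) (tt N35439 (iv5 F199923)) (tt N37438 F313700) (tt N43214 (iv7 F108540)))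
theorem Q22132 : ∀ i, i < 22132 → P i := stepQ 22131 Q22131 (allL N22131 (tt N43351 D72083) (tt N43352 D72084) (tt N43216 (iv2 F108330)) (tt N39691 (iv3 F320512)) (tt N10833 (iv4 D33282)) (tt N43353 D72086) (tt N10839 F52508) (tt N43354 D72087))
theorem Q22133 : ∀ i, i < 22133 → P i := stepQ 22132 Q22132 (allL N22132 (tt N43215 (iv1 F108322)) (tt N43214 F108334) (tt N43217 (iv2 F108332)) (tt N10848 F52509) (tt N43354 (iv4 F108544)) (tt N10834 F52510) (tt N43355 D72088) (tt N10833 (iv7 D33283)))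
theorem Q22134 : ∀ i, i < 22134 → P i := stepQ 22133 Q22133 (allL N22133 (tt N17111 (iv1 F52515)) (tt N17125 (iv0 F52514)) (tt N17123 F52511) (tt N10835 (iv3 D33284)) (tt N23145 (iv4 F55070)) (tt N43356 D72089) (tt N21186 F52512) (tt N17122 F52513))
theorem Q22135 : ∀ i, i < 22135 → P i := stepQ 22134 Q22134 (allL N22134 (tt N32883 (iv1 F83702)) (tt N32882 F83701) (tt N32539 (iv2 F83097)) (tt N43356 (iv3 F108548)) (tt N43357 D72090) (tt N10835 (iv5 D33285)) (tt N43358 D72091) (tt N32788 (iv7 F83530)))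
theorem Q22136 : ∀ i, i < 22136 → P i := stepQ 22135 Q22135 (allL N22135 (tt N34268 (iv1 F87040)) (tt N34267 F87039) (tt N33752 (iv2 F85536)) (tt N43359 D72092) (tt N10836 (iv4 D33286)) (tt N43360 D72093) (tt N43361 D72094) (tt N34056 (iv7 F86622)))
theorem Q22137 : ∀ i, i < 22137 → P i := stepQ 22136 Q22136 (allL N22136 (tt N42955 (iv1 F200303)) (tt N43362 D72096) (tt N33750 (iv2 F85528)) (tt N41948 (iv3 F105126)) (tt N43361 (iv4 F108550)) (tt N33663 (iv5 F85405)) (tt N10836 (iv6 D33287)) (tt N43363 D72097))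
theorem Q22138 : ∀ i, i < 22138 → P i := stepQ 22137 Q22137 (allL N22137 (tt N43364 D72098) (tt N43365 D72099) (tt N43218 (iv2 F108337)) (tt N43366 D72100) (tt N10837 (iv4 D33290)) (tt N43367 D72101) (tt N43368 D72102) (tt N43219 (iv7 F108342)))
theorem Q22139 : ∀ i, i < 22139 → P i := stepQ 22138 Q22138 (allL N22138 (tt N21501 (iv1 F52519)) (tt N11162 (iv0 F52517)) (tt N29704 F77004) (tt N11046 F52518) (tt N43369 D72103) (tt N10837 (iv5 D33291)) (tt N16817 (iv6 F52520)) (tt N17005 F52521))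
theorem Q22140 : ∀ i, i < 22140 → P i := stepQ 22139 Q22139 (allL N22139 (tt N40502 F316903) (tt N33290 F316904) (tt N40501 F316905) (tt N33554 F318323) (tt N43368 (iv4 F108557)) (tt N33551 F318324) (tt N10837 (iv6 D33292)) (tt N33550 F318325))
theorem Q22141 : ∀ i, i < 22141 → P i := stepQ 22140 Q22140 (allL N22140 (tt N10967 F54093) (tt N10966 F54094) (tt N21691 F52528) (tt N10838 (iv3 D33293)) (tt N36500 (iv4 F94709)) (tt N21687 (iv5 F52529)) (tt N40175 F322218) (tt N22253 (iv7 F54208)))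
theorem Q22142 : ∀ i, i < 22142 → P i := stepQ 22141 Q22141 (allL N22141 (tt N43365 (iv1 F108556)) (tt N43364 F108555) (tt N43219 (iv2 F108341)) (tt N43370 D72108) (tt N10838 (iv4 D33294)) (tt N43371 D72109) (tt N40176 F322219) (tt N43218 (iv7 F108338)))
theorem Q22143 : ∀ i, i < 22143 → P i := stepQ 22142 Q22142 (allL N22142 (tt N11162 (iv1 F52534)) (tt N21501 (iv0 F52533)) (tt N17005 F52530) (tt N21687 F52531) (tt N43372 D72111) (tt N10838 (iv5 D33295)) (tt N17003 F52532) (tt N29704 (iv7 F77003)))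
theorem Q22144 : ∀ i, i < 22144 → P i := stepQ 22143 Q22143 (allL N22143 (tt N34262 (iv1 F87037)) (tt N10839 (iv0 D33297)) (tt N43220 (iv2 F108349)) (tt N43373 D72115) (tt N43374 D72116) (tt N43375 D72117) (tt N43376 D72118) (tt N43221 (iv7 F108351)))
theorem Q22145 : ∀ i, i < 22145 → P i := stepQ 22144 Q22144 (allL N22144 (tt N10839 (iv1 D33298)) (tt N34262 F87036) (tt N43221 F108352) (tt N43377 D72119) (tt N41418 (iv4 F104121)) (tt N43378 D72120) (tt N40159 F322286) (tt N43220 F108348))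
theorem Q22146 : ∀ i, i < 22146 → P i := stepQ 22145 Q22145 (allL N22145 (tt N43379 D72127) (tt N43380 D72128) (tt N43223 (iv2 F108353)) (tt N40292 (iv3 F323814)) (tt N43381 D72129) (tt N10839 (iv5 D33300)) (tt N43382 D72130) (tt N43383 D72131))
theorem Q22147 : ∀ i, i < 22147 → P i := stepQ 22146 Q22146 (allL N22146 (tt N43221 (iv1 F108350)) (tt N43220 F108347) (tt N34262 (iv2 F87034)) (tt N33095 (iv3 F321635)) (tt N10840 F52536) (tt N43383 (iv5 F108579)) (tt N43384 D72132) (tt N10839 (iv7 D33301)))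
theorem Q22148 : ∀ i, i < 22148 → P i := stepQ 22147 Q22147 (allL N22147 (tt N43385 D72133) (tt N43386 D72134) (tt N34263 (iv2 F87038)) (tt N10850 F52537) (tt N43384 (iv4 F108580)) (tt N33965 (iv5 F86288)) (tt N10840 (iv6 D33302)) (tt N43355 (iv7 F108546)))
theorem Q22149 : ∀ i, i < 22149 → P i := stepQ 22148 Q22148 (allL N22148 (tt N10907 F190095) (tt N10841 (iv0 D33303)) (tt N10909 F190135) (tt N22252 (iv3 F190108)) (tt N25615 (iv4 F304607)) (tt N43387 D72138) (tt N10886 (iv6 F190118)) (tt N10887 F190136))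
theorem Q22150 : ∀ i, i < 22150 → P i := stepQ 22149 Q22149 (allL N22149 (tt N10909 (iv1 F190100)) (tt N10887 (iv0 F190102)) (tt N10841 (iv2 D33305)) (tt N34044 (iv3 F86532)) (tt N43388 D72145) (tt N20680 F320562) (tt N43389 D72147) (tt N10907 F190094))
theorem Q22151 : ∀ i, i < 22151 → P i := stepQ 22150 Q22150 (allL N22150 (tt N12692 F304410) (tt N34504 F190085) (tt N43388 (iv2 F108585)) (tt N12052 F52538) (tt N10841 (iv4 D33306)) (tt N43390 D72150) (tt N43391 D72151) (tt N34048 (iv7 F86560)))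
theorem Q22152 : ∀ i, i < 22152 → P i := stepQ 22151 Q22151 (allL N22151 (tt N43392 D72156) (tt N43393 D72157) (tt N43389 (iv2 F108587)) (tt N10842 F52540) (tt N43391 (iv4 F108590)) (tt N20687 F318071) (tt N10841 (iv6 D33308)) (tt N43394 D72158))
theorem Q22153 : ∀ i, i < 22153 → P i := stepQ 22152 Q22152 (allL N22152 (tt N10842 (iv1 D33313)) (tt N22453 F53150) (tt N34047 (iv2 F86550)) (tt N43337 (iv3 F131013)) (tt N11971 F52545) (tt N34295 (iv5 F87108)) (tt N12464 (iv6 F52546)) (tt N11211 F52547))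
theorem Q22154 : ∀ i, i < 22154 → P i := stepQ 22153 Q22153 (allL N22153 (tt N34047 (iv1 F86546)) (tt N11211 (iv0 F52551)) (tt N22453 (iv2 F53144)) (tt N43394 (iv3 F108592)) (tt N12057 F52549) (tt N17277 F52550) (tt N22509 F53267) (tt N10842 (iv7 D33314)))
theorem Q22155 : ∀ i, i < 22155 → P i := stepQ 22154 Q22154 (allL N22154 (tt N34434 (iv1 F188321)) (tt N43395 D72178) (tt N34144 (iv2 F113943)) (tt N12058 F52552) (tt N10843 (iv4 D33318)) (tt N43396 D72179) (tt N43397 D72180) (tt N34045 (iv7 F86538)))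
theorem Q22156 : ∀ i, i < 22156 → P i := stepQ 22155 Q22155 (allL N22155 (tt N43398 D72181) (tt N25116 F130474) (tt N34145 (iv2 F113944)) (tt N10844 F52553) (tt N43399 D72183) (tt N10843 (iv5 D33319)) (tt N20659 F319194) (tt N16757 F319195))
theorem Q22157 : ∀ i, i < 22157 → P i := stepQ 22156 Q22156 (allL N22156 (tt N33741 (iv1 F130475)) (tt N33745 (iv0 F131625)) (tt N34146 (iv2 F113945)) (tt N10845 F52554) (tt N43397 (iv4 F108625)) (tt N22506 (iv5 F53258)) (tt N10843 (iv6 D33320)) (tt N42303 (iv7 F105880)))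
theorem Q22158 : ∀ i, i < 22158 → P i := stepQ 22157 Q22157 (allL N22157 (tt N43387 F190541) (tt N10908 (iv0 F190600)) (tt N43400 D72189) (tt N10846 (iv3 D33322)) (tt N43401 D72190) (tt N24339 (iv5 F58326)) (tt N40210 F313626) (tt N22760 F313627))
theorem Q22159 : ∀ i, i < 22159 → P i := stepQ 22158 Q22158 (allL N22158 (tt N34112 F86777) (tt N34149 F86820) (tt N34147 (iv2 F86816)) (tt N10847 (iv3 D33324)) (tt N43402 D72195) (tt N24344 (iv5 F58347)) (tt N15298 F313579) (tt N34050 (iv7 F86568)))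
theorem Q22160 : ∀ i, i < 22160 → P i := stepQ 22159 Q22159 (allL N22159 (tt N34055 (iv1 F86619)) (tt N34054 F86618) (tt N34051 (iv2 F86580)) (tt N43355 (iv3 F108545)) (tt N20773 (iv4 F316225)) (tt N33969 (iv5 F86341)) (tt N10848 (iv6 D33331)) (tt N10850 F52572))
theorem Q22161 : ∀ i, i < 22161 → P i := stepQ 22160 Q22160 (allL N22160 (tt N10913 F54204) (tt N10892 F54205) (tt N10849 (iv2 D33334)) (tt N34052 (iv3 F86585)) (tt N43403 D72211) (tt N21000 F52573) (tt N41553 F318463) (tt N10911 F54108))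
theorem Q22162 : ∀ i, i < 22162 → P i := stepQ 22161 Q22161 (allL N22161 (tt N36622 (iv1 F94876)) (tt N36481 (iv0 F94689)) (tt N43403 (iv2 F108654)) (tt N30368 (iv3 F320598)) (tt N10849 (iv4 D33335)) (tt N43404 D72213) (tt N41494 F318464) (tt N30366 (iv7 F320384)))
theorem Q22163 : ∀ i, i < 22163 → P i := stepQ 22162 Q22162 (allL N22162 (tt N34051 F86583) (tt N10850 (iv0 D33357)) (tt N34054 (iv2 F183560)) (tt N43405 D72287) (tt N18381 (iv4 F316213)) (tt N33462 F313729) (tt N21410 F52593) (tt N34055 (iv7 F183615)))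
theorem Q22164 : ∀ i, i < 22164 → P i := stepQ 22163 Q22163 (allL N22163 (tt N10850 (iv1 D33358)) (tt N34051 F86584) (tt N34055 (iv2 F183614)) (tt N43406 D72291) (tt N18384 (iv4 F314883)) (tt N33463 F312430) (tt N31109 (iv6 F314884)) (tt N34054 (iv7 F183561)))
theorem Q22165 : ∀ i, i < 22165 → P i := stepQ 22164 Q22164 (allL N22164 (tt N42199 (iv1 F105574)) (tt N42198 F105571) (tt N10970 F52594) (tt N43407 D72295) (tt N10851 (iv4 D33359)) (tt N43408 D72296) (tt N35375 (iv6 F92184)) (tt N41950 (iv7 F105134)))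
theorem Q22166 : ∀ i, i < 22166 → P i := stepQ 22165 Q22165 (allL N22165 (tt N34875 F304228) (tt N34014 F304229) (tt N22187 (iv2 F52666)) (tt N10855 F52595) (tt N28652 (iv4 F74338)) (tt N24109 (iv5 F306145)) (tt N10852 (iv6 D33360)) (tt N43089 F304230))
theorem Q22167 : ∀ i, i < 22167 → P i := stepQ 22166 Q22166 (allL N22166 (tt N37591 (iv1 F96314)) (tt N33838 (iv0 F85856)) (tt N22188 (iv2 F52669)) (tt N10856 F52596) (tt N24111 (iv4 F310148)) (tt N10853 (iv5 D33363)) (tt N24109 F308115) (tt N37441 (iv7 F96000)))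
theorem Q22168 : ∀ i, i < 22168 → P i := stepQ 22167 Q22167 (allL N22167 (tt N10883 (iv1 F52601)) (tt N10854 (iv0 D33365)) (tt N10878 (iv2 F52600)) (tt N34487 F87693) (tt N18507 F52599) (tt N22310 (iv5 F52898)) (tt N43409 D72301) (tt N10879 F52602))
theorem Q22169 : ∀ i, i < 22169 → P i := stepQ 22168 Q22168 (allL N22168 (tt N28200 F73274) (tt N28487 F74052) (tt N28494 F300548) (tt N10854 (iv3 D33366)) (tt N28651 (iv4 F74335)) (tt N42625 (iv5 F106628)) (tt N14047 F300549) (tt N10904 F52603))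
theorem Q22170 : ∀ i, i < 22170 → P i := stepQ 22169 Q22169 (allL N22169 (tt N35337 (iv1 F92109)) (tt N35335 (iv0 F92102)) (tt N10881 F52604) (tt N42625 (iv3 F106631)) (tt N35098 F90856) (tt N10854 (iv5 D33367)) (tt N25617 (iv6 F307547)) (tt N10905 F52605))
theorem Q22171 : ∀ i, i < 22171 → P i := stepQ 22170 Q22170 (allL N22170 (tt N10958 F130785) (tt N43410 D72326) (tt N22186 (iv2 F52664)) (tt N11800 F52622) (tt N36528 (iv4 F94754)) (tt N41699 (iv5 F104751)) (tt N10857 (iv6 D33381)) (tt N43411 D72327))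
theorem Q22172 : ∀ i, i < 22172 → P i := stepQ 22171 Q22171 (allL N22171 (tt N34542 (iv1 F192089)) (tt N43412 D72329) (tt N22190 (iv2 F52683)) (tt N17030 F52623) (tt N36443 (iv4 F94623)) (tt N20916 F52624) (tt N10858 (iv6 D33382)) (tt N43413 D72330))
theorem Q22173 : ∀ i, i < 22173 → P i := stepQ 22172 Q22172 (allL N22172 (tt N43414 D72331) (tt N43415 D72332) (tt N43416 D72333) (tt N10859 (iv3 D33383)) (tt N10880 F52625) (tt N32738 F83444) (tt N43417 D72334) (tt N22247 (iv7 F52839)))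
theorem Q22174 : ∀ i, i < 22174 → P i := stepQ 22173 Q22173 (allL N22173 (tt N18586 F52628) (tt N17776 F52629) (tt N18583 F52626) (tt N32738 (iv3 F83443)) (tt N22221 (iv4 F52741)) (tt N10859 (iv5 D33384)) (tt N43418 D72335) (tt N18584 F52627))
theorem Q22175 : ∀ i, i < 22175 → P i := stepQ 22174 Q22174 (allL N22174 (tt N13973 F298268) (tt N24441 F298269) (tt N22192 (iv2 F52686)) (tt N43417 (iv3 F108791)) (tt N10860 F52630) (tt N43419 D72338) (tt N10859 (iv6 D33385)) (tt N24440 F298270))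
theorem Q22176 : ∀ i, i < 22176 → P i := stepQ 22175 Q22175 (allL N22175 (tt N22196 (iv1 F52694)) (tt N10860 (iv0 D33386)) (tt N22193 F109767) (tt N33930 (iv3 F190474)) (tt N36449 (iv4 F191027)) (tt N43420 D72343) (tt N22341 F52924) (tt N22194 (iv7 F109770)))
theorem Q22177 : ∀ i, i < 22177 → P i := stepQ 22176 Q22176 (allL N22176 (tt N10860 (iv1 D33387)) (tt N22196 F52693) (tt N22194 (iv2 F109769)) (tt N19496 F302916) (tt N19514 F302917) (tt N43421 D72347) (tt N19495 (iv6 F305264)) (tt N22193 F109768))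
theorem Q22178 : ∀ i, i < 22178 → P i := stepQ 22177 Q22177 (allL N22177 (tt N43422 D72349) (tt N43423 D72350) (tt N22195 (iv2 F52689)) (tt N10885 F52631) (tt N13842 (iv4 F305610)) (tt N10860 (iv5 D33388)) (tt N10862 F52632) (tt N24272 F303565))
theorem Q22179 : ∀ i, i < 22179 → P i := stepQ 22178 Q22178 (allL N22178 (tt N22194 (iv1 F52688)) (tt N22193 F52692) (tt N22196 (iv2 F52691)) (tt N10886 F52633) (tt N24440 F299513) (tt N24272 (iv5 F302467)) (tt N22252 (iv6 F52844)) (tt N10860 (iv7 D33389)))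
theorem Q22180 : ∀ i, i < 22180 → P i := stepQ 22179 Q22179 (allL N22179 (tt N22804 (iv1 F54443)) (tt N22806 F54451) (tt N19011 (iv2 F53973)) (tt N33934 (iv3 F86239)) (tt N25194 F311168) (tt N10861 (iv5 D33393)) (tt N43424 D72354) (tt N22198 (iv7 F52775)))
theorem Q22181 : ∀ i, i < 22181 → P i := stepQ 22180 Q22180 (allL N22180 (tt N11174 (iv1 F52639)) (tt N10862 (iv0 D33400)) (tt N11177 (iv2 F52636)) (tt N33935 (iv3 F86244)) (tt N34576 F311172) (tt N11165 F52637) (tt N43425 D72355) (tt N11173 F52638))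
theorem Q22182 : ∀ i, i < 22182 → P i := stepQ 22181 Q22181 (allL N22181 (tt N19102 F52640) (tt N38361 (iv0 F98080)) (tt N22199 (iv2 F52709)) (tt N13844 (iv3 F309608)) (tt N10862 (iv4 D33401)) (tt N25192 (iv5 F310631)) (tt N13842 F307631) (tt N38363 (iv7 F98086)))
theorem Q22183 : ∀ i, i < 22183 → P i := stepQ 22182 Q22182 (allL N22182 (tt N11173 (iv1 F52644)) (tt N11177 F52645) (tt N11174 F52641) (tt N10891 F52642) (tt N38363 (iv4 F98087)) (tt N10863 F52643) (tt N43426 D72358) (tt N10862 (iv7 D33402)))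
theorem Q22184 : ∀ i, i < 22184 → P i := stepQ 22183 Q22183 (allL N22183 (tt N18551 F52648) (tt N18549 F52649) (tt N18560 F52646) (tt N37145 F308411) (tt N10864 (iv4 D33403)) (tt N43427 D72360) (tt N37144 (iv6 F308616)) (tt N18561 F52647))
theorem Q22185 : ∀ i, i < 22185 → P i := stepQ 22184 Q22184 (allL N22184 (tt N14859 F52656) (tt N17766 F52657) (tt N16985 F52653) (tt N18528 F52654) (tt N10924 F52658) (tt N10865 (iv5 D33405)) (tt N25832 F308375) (tt N18504 F52655))
theorem Q22186 : ∀ i, i < 22186 → P i := stepQ 22185 Q22185 (allL N22185 (tt N18549 F52662) (tt N18551 F52663) (tt N18561 F52660) (tt N43428 D72366) (tt N10866 (iv4 D33406)) (tt N43429 D72367) (tt N43430 D72368) (tt N18560 F52661))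
theorem Q22187 : ∀ i, i < 22187 → P i := stepQ 22186 Q22186 (allL N22186 (tt N22383 F162951) (tt N22289 (iv0 F162952)) (tt N22170 F52664) (tt N17070 F52665) (tt N43430 (iv4 F108846)) (tt N41959 (iv5 F105175)) (tt N10866 (iv6 D33407)) (tt N22382 F130775))
theorem Q22188 : ∀ i, i < 22188 → P i := stepQ 22187 Q22187 (allL N22187 (tt N21988 (iv1 F303773)) (tt N43431 D72373) (tt N22165 F52666) (tt N10871 F52667) (tt N42764 (iv4 F107086)) (tt N43432 D72374) (tt N10867 (iv6 D33408)) (tt N43433 D72375))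
theorem Q22189 : ∀ i, i < 22189 → P i := stepQ 22188 Q22188 (allL N22188 (tt N22011 F53949) (tt N21576 (iv0 F52671)) (tt N22166 F52669) (tt N10874 F52670) (tt N37577 (iv4 F96300)) (tt N10868 (iv5 D33411)) (tt N43432 (iv6 F108857)) (tt N22815 (iv7 F54475)))
theorem Q22190 : ∀ i, i < 22190 → P i := stepQ 22189 Q22189 (allL N22189 (tt N18494 F52681) (tt N18518 F52682) (tt N18514 F52679) (tt N43434 D72376) (tt N10869 (iv4 D33413)) (tt N36531 (iv5 F94761)) (tt N43435 D72377) (tt N18513 F52680))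
theorem Q22191 : ∀ i, i < 22191 → P i := stepQ 22190 Q22190 (allL N22190 (tt N43436 D72378) (tt N42166 (iv0 F105535)) (tt N22171 F52683) (tt N11798 F52684) (tt N43435 (iv4 F108866)) (tt N21293 F52685) (tt N10869 (iv6 D33414)) (tt N43437 D72379))
theorem Q22192 : ∀ i, i < 22192 → P i := stepQ 22191 Q22191 (allL N22191 (tt N43438 D72380) (tt N42664 F106744) (tt N43439 D72381) (tt N10870 (iv3 D33415)) (tt N25789 F62313) (tt N36574 (iv5 F94822)) (tt N43156 F306804) (tt N42810 (iv7 F107185)))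
theorem Q22193 : ∀ i, i < 22193 → P i := stepQ 22192 Q22192 (allL N22192 (tt N27989 (iv1 F298271)) (tt N12117 F297361) (tt N22174 F52686) (tt N43156 F306802) (tt N10871 F52687) (tt N43440 D72385) (tt N10870 (iv6 D33416)) (tt N27988 (iv7 F298267)))
theorem Q22194 : ∀ i, i < 22194 → P i := stepQ 22193 Q22193 (allL N22193 (tt N22178 (iv1 F52692)) (tt N10871 (iv0 D33417)) (tt N22175 (iv2 F109767)) (tt N34323 (iv3 F190475)) (tt N38377 F303587) (tt N43441 D72390) (tt N34322 (iv6 F190478)) (tt N22176 (iv7 F109768)))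
theorem Q22195 : ∀ i, i < 22195 → P i := stepQ 22194 Q22194 (allL N22194 (tt N10871 (iv1 D33418)) (tt N22178 F52688) (tt N22176 F109769) (tt N17080 (iv3 F190465)) (tt N38376 F303593) (tt N43442 D72394) (tt N38347 (iv6 F305685)) (tt N22175 F109770))
theorem Q22196 : ∀ i, i < 22196 → P i := stepQ 22195 Q22195 (allL N22195 (tt N43443 D72396) (tt N43444 D72397) (tt N22177 F52689) (tt N43432 (iv3 F108856)) (tt N27724 (iv4 F304562)) (tt N10871 (iv5 D33419)) (tt N10874 F52690) (tt N43445 D72399))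
theorem Q22197 : ∀ i, i < 22197 → P i := stepQ 22196 Q22196 (allL N22196 (tt N22176 (iv1 F52693)) (tt N22175 F52694) (tt N22178 F52691) (tt N43433 (iv3 F108859)) (tt N27988 F300763) (tt N43445 (iv5 F108894)) (tt N43446 D72400) (tt N10871 (iv7 D33420)))
theorem Q22198 : ∀ i, i < 22198 → P i := stepQ 22197 Q22197 (allL N22197 (tt N43447 D72401) (tt N22125 F190160) (tt N10902 F52695) (tt N22233 (iv3 F52821)) (tt N42811 (iv4 F107187)) (tt N22412 (iv5 F52988)) (tt N10872 (iv6 D33421)) (tt N43446 (iv7 F108899)))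
theorem Q22199 : ∀ i, i < 22199 → P i := stepQ 22198 Q22198 (allL N22198 (tt N11171 F52765) (tt N11167 F52781) (tt N19031 (iv2 F53996)) (tt N17086 F54366) (tt N19485 F185223) (tt N10873 (iv5 D33428)) (tt N19484 (iv6 F185224)) (tt N22179 F52775))
theorem Q22200 : ∀ i, i < 22200 → P i := stepQ 22199 Q22199 (allL N22199 (tt N36459 (iv1 F94661)) (tt N19506 F52710) (tt N22181 F52709) (tt N43448 D72405) (tt N10874 (iv4 D33429)) (tt N25196 F310264) (tt N27724 F306560) (tt N22816 (iv7 F54476)))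
theorem Q22201 : ∀ i, i < 22201 → P i := stepQ 22200 Q22200 (allL N22200 (tt N34470 (iv1 F87623)) (tt N34469 F87619) (tt N23394 (iv2 F55798)) (tt N10876 (iv3 D33430)) (tt N34095 (iv4 F86729)) (tt N43449 D72407) (tt N43450 D72408) (tt N34471 (iv7 F87622)))
theorem Q22202 : ∀ i, i < 22202 → P i := stepQ 22201 Q22201 (allL N22201 (tt N17770 F52713) (tt N17767 F52714) (tt N11198 F52711) (tt N43449 (iv3 F108914)) (tt N21517 F52712) (tt N10876 (iv5 D33431)) (tt N43451 D72409) (tt N22353 (iv7 F52936)))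
theorem Q22203 : ∀ i, i < 22203 → P i := stepQ 22202 Q22202 (allL N22202 (tt N43452 D72410) (tt N43453 D72411) (tt N11199 F52715) (tt N43450 (iv3 F108919)) (tt N10877 F52716) (tt N43454 D72412) (tt N10876 (iv6 D33432)) (tt N43455 D72413))
theorem Q22204 : ∀ i, i < 22204 → P i := stepQ 22203 Q22203 (allL N22203 (tt N11202 (iv1 F52721)) (tt N10877 (iv0 D33433)) (tt N11200 (iv2 F155536)) (tt N42503 (iv3 F232757)) (tt N43456 D72416) (tt N43457 D72417) (tt N35406 (iv6 F92219)) (tt N11201 (iv7 F155542)))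
theorem Q22205 : ∀ i, i < 22205 → P i := stepQ 22204 Q22204 (allL N22204 (tt N10877 (iv1 D33434)) (tt N11202 F52717) (tt N11201 F155543) (tt N43302 (iv3 F131032)) (tt N43458 D72420) (tt N43459 D72421) (tt N43392 (iv6 F190817)) (tt N11200 F155544))
theorem Q22206 : ∀ i, i < 22206 → P i := stepQ 22205 Q22205 (allL N22205 (tt N43460 D72423) (tt N22396 (iv0 F52977)) (tt N11176 F52718) (tt N33959 (iv3 F86280)) (tt N38386 (iv4 F209856)) (tt N10877 (iv5 D33435)) (tt N11173 F52719) (tt N43461 D72425))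
theorem Q22207 : ∀ i, i < 22207 → P i := stepQ 22206 Q22206 (allL N22206 (tt N11201 (iv1 F52722)) (tt N11200 F52723) (tt N11202 F52720) (tt N34099 (iv3 F86740)) (tt N43455 (iv4 F108925)) (tt N43461 (iv5 F108936)) (tt N34541 (iv6 F87805)) (tt N10877 (iv7 D33436)))
theorem Q22208 : ∀ i, i < 22208 → P i := stepQ 22207 Q22207 (allL N22207 (tt N43462 D72426) (tt N28419 (iv0 F300230)) (tt N34874 (iv2 F90152)) (tt N10878 (iv3 D33437)) (tt N21836 F52724) (tt N43463 D72428) (tt N43464 D72429) (tt N42687 (iv7 F106859)))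
theorem Q22209 : ∀ i, i < 22209 → P i := stepQ 22208 Q22208 (allL N22208 (tt N17910 F52725) (tt N17902 F52726) (tt N22310 F52899) (tt N43463 (iv3 F108940)) (tt N36531 (iv4 F94762)) (tt N10878 (iv5 D33438)) (tt N43465 D72430) (tt N22309 F52895))
theorem Q22210 : ∀ i, i < 22210 → P i := stepQ 22209 Q22209 (allL N22209 (tt N43456 (iv1 F155552)) (tt N43458 (iv0 F109846)) (tt N43409 (iv2 F108750)) (tt N43464 (iv3 F108941)) (tt N21835 F52727) (tt N43466 D72433) (tt N10878 (iv6 D33439)) (tt N43467 D72434))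
theorem Q22211 : ∀ i, i < 22211 → P i := stepQ 22210 Q22210 (allL N22210 (tt N17902 F52728) (tt N17910 F52729) (tt N22309 F52894) (tt N34878 (iv3 F90156)) (tt N36532 (iv4 F94769)) (tt N10879 (iv5 D33440)) (tt N43468 D72435) (tt N22310 (iv7 F52897)))
theorem Q22212 : ∀ i, i < 22212 → P i := stepQ 22211 Q22211 (allL N22211 (tt N34543 (iv1 F192132)) (tt N34546 (iv0 F192131)) (tt N42688 (iv2 F106860)) (tt N34879 (iv3 F90157)) (tt N42686 (iv4 F106856)) (tt N43469 D72438) (tt N10879 (iv6 D33441)) (tt N43470 D72439))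
theorem Q22213 : ∀ i, i < 22213 → P i := stepQ 22212 Q22212 (allL N22212 (tt N43471 D72440) (tt N10880 (iv0 D33442)) (tt N43472 D72441) (tt N21962 (iv3 F52731)) (tt N43473 D72442) (tt N16416 F52730) (tt N43474 D72443) (tt N34855 (iv7 F90058)))
theorem Q22214 : ∀ i, i < 22214 → P i := stepQ 22213 Q22213 (allL N22213 (tt N10880 (iv1 D33443)) (tt N43471 F108945) (tt N34855 (iv2 F90061)) (tt N43475 D72444) (tt N32756 (iv4 F83483)) (tt N43476 D72445) (tt N43477 D72446) (tt N43472 (iv7 F108950)))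
theorem Q22215 : ∀ i, i < 22215 → P i := stepQ 22214 Q22214 (allL N22214 (tt N43472 (iv1 F108951)) (tt N34855 F90060) (tt N10880 (iv2 D33444)) (tt N28494 F300658) (tt N43416 (iv4 F108790)) (tt N43478 D72447) (tt N28492 F300659) (tt N43471 (iv7 F108946)))
theorem Q22216 : ∀ i, i < 22216 → P i := stepQ 22215 Q22215 (allL N22215 (tt N16389 F52733) (tt N43479 D72449) (tt N43478 (iv2 F108966)) (tt N10881 F52732) (tt N32742 (iv4 F83451)) (tt N10880 (iv5 D33445)) (tt N43480 D72450) (tt N43481 D72451))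
theorem Q22217 : ∀ i, i < 22217 → P i := stepQ 22216 Q22216 (allL N22216 (tt N28002 F302021) (tt N27999 (iv0 F302142)) (tt N28492 F302022) (tt N10882 F52734) (tt N43417 (iv4 F108792)) (tt N13697 (iv5 F304610)) (tt N10880 (iv6 D33446)) (tt N25613 (iv7 F302141)))
theorem Q22218 : ∀ i, i < 22218 → P i := stepQ 22217 Q22217 (allL N22217 (tt N34855 F90059) (tt N43472 F108953) (tt N43471 F108944) (tt N10883 F52735) (tt N22247 (iv4 F52838)) (tt N43481 (iv5 F108981)) (tt N43482 D72456) (tt N10880 (iv7 D33447)))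
theorem Q22219 : ∀ i, i < 22219 → P i := stepQ 22218 Q22218 (allL N22218 (tt N10905 (iv1 F52737)) (tt N10881 (iv0 D33448)) (tt N35337 (iv2 F92106)) (tt N43483 D72457) (tt N43429 (iv4 F108841)) (tt N10923 F52736) (tt N43484 D72458) (tt N35335 (iv7 F92101)))
theorem Q22220 : ∀ i, i < 22220 → P i := stepQ 22219 Q22219 (allL N22219 (tt N10881 (iv1 D33449)) (tt N10905 F52738) (tt N35335 (iv2 F92100)) (tt N34882 (iv3 F107825)) (tt N43427 (iv4 F108822)) (tt N10924 F52739) (tt N43485 D72459) (tt N35337 (iv7 F92107)))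
theorem Q22221 : ∀ i, i < 22221 → P i := stepQ 22220 Q22220 (allL N22220 (tt N27664 (iv1 F309397)) (tt N29364 (iv0 F309398)) (tt N25617 (iv2 F307546)) (tt N43480 (iv3 F108977)) (tt N36577 (iv4 F94829)) (tt N13698 F307355) (tt N10881 (iv6 D33450)) (tt N43486 D72463))
theorem Q22222 : ∀ i, i < 22222 → P i := stepQ 22221 Q22221 (allL N22221 (tt N35335 (iv1 F92103)) (tt N35337 (iv0 F92108)) (tt N10905 F52740) (tt N43481 (iv3 F108979)) (tt N22173 F52741) (tt N10883 F52742) (tt N43487 D72464) (tt N10881 (iv7 D33451)))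
theorem Q22223 : ∀ i, i < 22223 → P i := stepQ 22222 Q22222 (allL N22222 (tt N43488 D72480) (tt N43489 D72481) (tt N10906 F52744) (tt N43482 (iv3 F108986)) (tt N10887 F52745) (tt N43490 D72482) (tt N10883 (iv6 D33456)) (tt N25615 F305580))
theorem Q22224 : ∀ i, i < 22224 → P i := stepQ 22223 Q22223 (allL N22223 (tt N34547 (iv1 F190712)) (tt N42164 (iv0 F105531)) (tt N25407 F303693) (tt N22475 (iv3 F190597)) (tt N14311 F303694) (tt N22344 F52925) (tt N10884 (iv6 D33461)) (tt N43491 D72507))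
theorem Q22225 : ∀ i, i < 22225 → P i := stepQ 22224 Q22224 (allL N22224 (tt N43400 F190651) (tt N22760 F313654) (tt N10908 F52756) (tt N22251 (iv3 F52841)) (tt N43492 D72551) (tt N10887 (iv5 D33474)) (tt N10892 F52757) (tt N43387 (iv7 F190117)))
theorem Q22226 : ∀ i, i < 22226 → P i := stepQ 22225 Q22225 (allL N22225 (tt N24324 F311950) (tt N24331 F311951) (tt N19440 F54364) (tt N34114 (iv3 F86780)) (tt N24194 (iv4 F312892)) (tt N42025 (iv5 F105282)) (tt N10888 (iv6 D33485)) (tt N25471 F311952))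
theorem Q22227 : ∀ i, i < 22227 → P i := stepQ 22226 Q22226 (allL N22226 (tt N11590 (iv1 F309134)) (tt N11585 F308481) (tt N11588 (iv2 F309922)) (tt N24073 (iv3 F310584)) (tt N10889 (iv4 D33493)) (tt N25588 (iv5 F310585)) (tt N24197 (iv6 F310587)) (tt N11589 (iv7 F309767)))
theorem Q22228 : ∀ i, i < 22228 → P i := stepQ 22227 Q22227 (allL N22227 (tt N24322 (iv1 F308718)) (tt N43493 D72562) (tt N19374 F52810) (tt N34116 (iv3 F86783)) (tt N24197 (iv4 F310586)) (tt N41818 (iv5 F104934)) (tt N10889 (iv6 D33494)) (tt N43494 D72563))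
theorem Q22229 : ∀ i, i < 22229 → P i := stepQ 22228 Q22228 (allL N22228 (tt N10890 (iv1 D33496)) (tt N23087 (iv0 F310149)) (tt N15332 (iv2 F79164)) (tt N17381 (iv3 F310617)) (tt N15329 F79163) (tt N13845 (iv5 F310614)) (tt N13839 (iv6 F310618)) (tt N17405 F308509))
theorem Q22230 : ∀ i, i < 22230 → P i := stepQ 22229 Q22229 (allL N22229 (tt N15332 (iv1 F52814)) (tt N17405 F308510) (tt N23087 (iv2 F310150)) (tt N13846 (iv3 F310615)) (tt N10891 F52813) (tt N12481 (iv5 F308526)) (tt N24275 (iv6 F310137)) (tt N10890 (iv7 D33499)))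
theorem Q22231 : ∀ i, i < 22231 → P i := stepQ 22230 Q22230 (allL N22230 (tt N24165 F308112) (tt N24162 F308113) (tt N37442 (iv2 F96007)) (tt N43426 (iv3 F108815)) (tt N24275 (iv4 F310136)) (tt N42928 (iv5 F107724)) (tt N10891 (iv6 D33500)) (tt N24273 F308114))
theorem Q22232 : ∀ i, i < 22232 → P i := stepQ 22231 Q22231 (allL N22231 (tt N43495 D72579) (tt N43496 D72580) (tt N10912 F52818) (tt N43497 D72581) (tt N10892 (iv4 D33503)) (tt N43498 D72582) (tt N43492 (iv6 F109048)) (tt N42927 (iv7 F107719)))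
theorem Q22233 : ∀ i, i < 22233 → P i := stepQ 22232 Q22232 (allL N22232 (tt N43499 D72583) (tt N10962 F232344) (tt N21764 F52819) (tt N34061 (iv3 F86640)) (tt N33845 (iv4 F85892)) (tt N41991 (iv5 F105228)) (tt N10893 (iv6 D33504)) (tt N43500 D72585))
theorem Q22234 : ∀ i, i < 22234 → P i := stepQ 22233 Q22233 (allL N22233 (tt N34020 F190168) (tt N43501 D72587) (tt N10897 F52820) (tt N22197 F52821) (tt N28653 (iv4 F74340)) (tt N43502 D72588) (tt N10894 (iv6 D33505)) (tt N43503 D72589))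
theorem Q22235 : ∀ i, i < 22235 → P i := stepQ 22234 Q22234 (allL N22234 (tt N34034 F86525) (tt N41419 (iv0 F104127)) (tt N10899 F52822) (tt N10967 F52823) (tt N43504 D72590) (tt N10895 (iv5 D33506)) (tt N43502 (iv6 F109111)) (tt N42191 (iv7 F105547)))
theorem Q22236 : ∀ i, i < 22236 → P i := stepQ 22235 Q22235 (allL N22235 (tt N28270 F73529) (tt N43505 D72591) (tt N43506 D72592) (tt N10896 (iv3 D33507)) (tt N10904 F52824) (tt N43507 D72593) (tt N43508 D72594) (tt N28651 (iv7 F74337)))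
theorem Q22237 : ∀ i, i < 22237 → P i := stepQ 22236 Q22236 (allL N22236 (tt N13017 F52829) (tt N12138 F52830) (tt N13016 F52826) (tt N43507 (iv3 F109126)) (tt N13015 F52828) (tt N10896 (iv5 D33508)) (tt N43509 D72595) (tt N13015 F52827))
theorem Q22238 : ∀ i, i < 22238 → P i := stepQ 22237 Q22237 (allL N22237 (tt N43510 D72596) (tt N43511 D72597) (tt N28653 (iv2 F74339)) (tt N43508 (iv3 F109131)) (tt N10897 F52831) (tt N43512 D72598) (tt N10896 (iv6 D33509)) (tt N43513 D72599))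
theorem Q22239 : ∀ i, i < 22239 → P i := stepQ 22238 Q22238 (allL N22238 (tt N43503 (iv1 F109117)) (tt N10897 (iv0 D33510)) (tt N34020 F190226) (tt N43514 D72601) (tt N33875 (iv4 F190221)) (tt N43515 D72603) (tt N43516 D72604) (tt N43501 (iv7 F190266)))
theorem Q22240 : ∀ i, i < 22240 → P i := stepQ 22239 Q22239 (allL N22239 (tt N10897 (iv1 D33511)) (tt N43503 F109116) (tt N43501 (iv2 F190263)) (tt N33992 F190216) (tt N33876 (iv4 F190217)) (tt N43517 D72608) (tt N43518 D72609) (tt N34020 F190229))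
theorem Q22241 : ∀ i, i < 22241 → P i := stepQ 22240 Q22240 (allL N22240 (tt N43519 D72610) (tt N43520 D72611) (tt N43502 (iv2 F109109)) (tt N10908 F52832) (tt N43521 D72612) (tt N10897 (iv5 D33512)) (tt N10899 F52833) (tt N43522 D72613))
theorem Q22242 : ∀ i, i < 22242 → P i := stepQ 22241 Q22241 (allL N22241 (tt N43501 (iv1 F109108)) (tt N34020 (iv0 F190156)) (tt N43503 (iv2 F109112)) (tt N10909 F52834) (tt N43513 (iv4 F109135)) (tt N43522 (iv5 F109140)) (tt N43089 F304659) (tt N10897 (iv7 D33513)))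
theorem Q22243 : ∀ i, i < 22243 → P i := stepQ 22242 Q22242 (allL N22242 (tt N42932 (iv1 F107739)) (tt N42195 F105562) (tt N41717 (iv2 F104814)) (tt N33995 (iv3 F86459)) (tt N41427 F104149) (tt N10898 (iv5 D33514)) (tt N43523 D72614) (tt N21761 F52835))
theorem Q22244 : ∀ i, i < 22244 → P i := stepQ 22243 Q22243 (allL N22243 (tt N42191 (iv1 F105549)) (tt N10899 (iv0 D33515)) (tt N34034 (iv2 F86524)) (tt N34359 (iv3 F87373)) (tt N33899 (iv4 F86015)) (tt N41384 (iv5 F104074)) (tt N43524 D72615) (tt N41419 (iv7 F104125)))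
theorem Q22245 : ∀ i, i < 22245 → P i := stepQ 22244 Q22244 (allL N22244 (tt N10899 (iv1 D33516)) (tt N42191 (iv0 F105548)) (tt N41419 (iv2 F104123)) (tt N23338 (iv3 F55641)) (tt N33900 F86010) (tt N23334 (iv5 F55629)) (tt N40198 (iv6 F319247)) (tt N34034 (iv7 F86523)))
theorem Q22246 : ∀ i, i < 22246 → P i := stepQ 22245 Q22245 (allL N22245 (tt N41425 (iv1 F104145)) (tt N41420 (iv0 F104130)) (tt N43504 (iv2 F109118)) (tt N43525 D72617) (tt N10899 (iv4 D33517)) (tt N43526 D72618) (tt N43521 (iv6 F109138)) (tt N43527 D72619))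
theorem Q22247 : ∀ i, i < 22247 → P i := stepQ 22246 Q22246 (allL N22246 (tt N41419 (iv1 F104126)) (tt N34034 (iv0 F95992)) (tt N42191 (iv2 F105545)) (tt N10913 F52836) (tt N43527 (iv4 F109144)) (tt N10900 F52837) (tt N43528 D72620) (tt N10899 (iv7 D33518)))
theorem Q22248 : ∀ i, i < 22248 → P i := stepQ 22247 Q22247 (allL N22247 (tt N43529 D72621) (tt N43530 D72622) (tt N43531 D72623) (tt N10901 (iv3 D33519)) (tt N22217 F52838) (tt N36576 (iv5 F94825)) (tt N43532 D72624) (tt N22172 F52839))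
theorem Q22249 : ∀ i, i < 22249 → P i := stepQ 22248 Q22248 (allL N22248 (tt N24172 (iv1 F190175)) (tt N36490 (iv0 F190176)) (tt N42811 (iv2 F107186)) (tt N43532 (iv3 F109159)) (tt N10902 F52840) (tt N43533 D72627) (tt N10901 (iv6 D33520)) (tt N42897 (iv7 F190142)))
theorem Q22250 : ∀ i, i < 22250 → P i := stepQ 22249 Q22249 (allL N22249 (tt N43446 (iv1 F108901)) (tt N10902 (iv0 D33521)) (tt N43447 (iv2 F190161)) (tt N22064 (iv3 F190171)) (tt N43534 D72631) (tt N33430 F322147) (tt N43535 D72633) (tt N22125 (iv7 F190173)))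
theorem Q22251 : ∀ i, i < 22251 → P i := stepQ 22250 Q22250 (allL N22250 (tt N10902 (iv1 D33522)) (tt N43446 F108900) (tt N22125 (iv2 F190172)) (tt N42728 (iv3 F190174)) (tt N43536 D72636) (tt N43537 D72637) (tt N43538 D72638) (tt N43447 (iv7 F190162)))
theorem Q22252 : ∀ i, i < 22252 → P i := stepQ 22251 Q22251 (allL N22251 (tt N43539 D72639) (tt N43540 D72640) (tt N22412 (iv2 F52987)) (tt N22224 F52841) (tt N43541 D72641) (tt N10902 (iv5 D33523)) (tt N10903 F52842) (tt N43542 D72642))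
theorem Q22253 : ∀ i, i < 22253 → P i := stepQ 22252 Q22252 (allL N22252 (tt N22125 (iv1 F190137)) (tt N43447 F108902) (tt N43446 (iv2 F108898)) (tt N22148 F190108) (tt N42897 (iv4 F190140)) (tt N43542 (iv5 F109167)) (tt N22178 F52844) (tt N10902 (iv7 D33524)))
theorem Q22254 : ∀ i, i < 22254 → P i := stepQ 22253 Q22253 (allL N22253 (tt N21393 (iv1 F52845)) (tt N10903 (iv0 D33525)) (tt N22408 (iv2 F54209)) (tt N22068 (iv3 F54210)) (tt N43543 D72643) (tt N38154 (iv5 F97540)) (tt N43544 D72644) (tt N22140 F54208))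
theorem Q22255 : ∀ i, i < 22255 → P i := stepQ 22254 Q22254 (allL N22254 (tt N33915 (iv1 F86108)) (tt N36498 (iv0 F94706)) (tt N22411 (iv2 F52986)) (tt N43545 D72645) (tt N10903 (iv4 D33527)) (tt N43546 D72646) (tt N43541 (iv6 F109165)) (tt N22409 (iv7 F52985)))
theorem Q22256 : ∀ i, i < 22256 → P i := stepQ 22255 Q22255 (allL N22255 (tt N28487 (iv1 F74053)) (tt N28200 F73275) (tt N10904 (iv2 D33528)) (tt N43471 F108947) (tt N43506 (iv4 F109123)) (tt N42449 (iv5 F106195)) (tt N43547 D72647) (tt N28494 F300550))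
theorem Q22257 : ∀ i, i < 22257 → P i := stepQ 22256 Q22256 (allL N22256 (tt N43110 (iv1 F108140)) (tt N34865 (iv0 F90073)) (tt N42449 (iv2 F106193)) (tt N10905 F52847) (tt N23271 (iv4 F56749)) (tt N10904 (iv5 D33529)) (tt N43548 D72648) (tt N42625 (iv7 F106627)))
theorem Q22258 : ∀ i, i < 22258 → P i := stepQ 22257 Q22257 (allL N22257 (tt N43549 D72649) (tt N34805 (iv0 F304677)) (tt N43547 (iv2 F109177)) (tt N10906 F52848) (tt N43508 (iv4 F109132)) (tt N43550 D72651) (tt N10904 (iv6 D33530)) (tt N28496 F301776))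
theorem Q22259 : ∀ i, i < 22259 → P i := stepQ 22258 Q22258 (allL N22258 (tt N43551 D72653) (tt N43552 D72654) (tt N43487 (iv2 F108989)) (tt N43548 (iv3 F109178)) (tt N36575 (iv4 F94823)) (tt N43553 D72655) (tt N10905 (iv6 D33531)) (tt N43554 D72656))
theorem Q22260 : ∀ i, i < 22260 → P i := stepQ 22259 Q22259 (allL N22259 (tt N25615 F306516) (tt N10906 (iv0 D33532)) (tt N43488 (iv2 F190273)) (tt N33876 F306356) (tt N43555 D72659) (tt N43556 D72660) (tt N43557 D72661) (tt N43489 (iv7 F190286)))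
theorem Q22261 : ∀ i, i < 22261 → P i := stepQ 22260 Q22260 (allL N22260 (tt N10906 (iv1 D33533)) (tt N25615 F306517) (tt N43489 (iv2 F190284)) (tt N43558 D72663) (tt N21851 (iv4 F190163)) (tt N43559 D72665) (tt N43560 D72666) (tt N43488 (iv7 F190274)))
theorem Q22262 : ∀ i, i < 22262 → P i := stepQ 22261 Q22261 (allL N22261 (tt N43561 D72667) (tt N43562 D72668) (tt N43490 (iv2 F109001)) (tt N43550 (iv3 F109180)) (tt N43563 D72669) (tt N10906 (iv5 D33534)) (tt N43553 (iv6 F109182)) (tt N43564 D72670))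
theorem Q22263 : ∀ i, i < 22263 → P i := stepQ 22262 Q22262 (allL N22262 (tt N43489 (iv1 F109000)) (tt N43488 F108999) (tt N25615 (iv2 F304606)) (tt N28496 F302013) (tt N10909 F52849) (tt N43564 (iv5 F109185)) (tt N12803 F302014) (tt N10906 (iv7 D33535)))
theorem Q22264 : ∀ i, i < 22264 → P i := stepQ 22263 Q22263 (allL N22263 (tt N34504 (iv1 F109642)) (tt N12692 F304409) (tt N34048 (iv2 F190093)) (tt N43565 D72705) (tt N10907 (iv4 D33543)) (tt N43566 D72706) (tt N43567 D72707) (tt N43388 (iv7 F190091)))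
theorem Q22265 : ∀ i, i < 22265 → P i := stepQ 22264 Q22264 (allL N22264 (tt N20689 F320563) (tt N20688 F320564) (tt N20690 F320565) (tt N34145 (iv3 F190129)) (tt N43568 D72708) (tt N10907 (iv5 D33544)) (tt N42083 (iv6 F105429)) (tt N20680 F320566))
theorem Q22266 : ∀ i, i < 22266 → P i := stepQ 22265 Q22265 (allL N22265 (tt N42057 F109207) (tt N34544 (iv0 F109735)) (tt N34049 (iv2 F190128)) (tt N34146 (iv3 F190130)) (tt N43567 (iv4 F109211)) (tt N22391 (iv5 F52972)) (tt N10907 (iv6 D33545)) (tt N42162 (iv7 F109400)))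
theorem Q22267 : ∀ i, i < 22267 → P i := stepQ 22266 Q22266 (allL N22266 (tt N10908 (iv1 D33547)) (tt N43387 (iv0 F190113)) (tt N22760 F311942) (tt N34147 (iv3 F190603)) (tt N43569 D72717) (tt N35348 (iv5 F92134)) (tt N22759 F311943) (tt N43400 (iv7 F190604)))
theorem Q22268 : ∀ i, i < 22268 → P i := stepQ 22267 Q22267 (allL N22267 (tt N43570 D72719) (tt N43571 D72720) (tt N43492 (iv2 F109047)) (tt N43572 D72721) (tt N10908 (iv4 D33548)) (tt N43573 D72722) (tt N10912 F52852) (tt N43574 D72723))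
theorem Q22269 : ∀ i, i < 22269 → P i := stepQ 22268 Q22268 (allL N22268 (tt N22760 F313655) (tt N43400 F190638) (tt N43387 (iv2 F190115)) (tt N43522 (iv3 F109139)) (tt N43574 (iv4 F109215)) (tt N10909 F52853) (tt N43575 D72724) (tt N10908 (iv7 D33549)))
theorem Q22270 : ∀ i, i < 22270 → P i := stepQ 22269 Q22269 (allL N22269 (tt N36626 (iv1 F94880)) (tt N36624 (iv0 F94877)) (tt N33920 (iv2 F86172)) (tt N43576 D72725) (tt N10910 (iv4 D33550)) (tt N43577 D72726) (tt N43578 D72727) (tt N42929 (iv7 F107726)))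
theorem Q22271 : ∀ i, i < 22271 → P i := stepQ 22270 Q22270 (allL N22270 (tt N43579 D72728) (tt N43580 D72729) (tt N33921 (iv2 F86174)) (tt N34151 (iv3 F86824)) (tt N43578 (iv4 F109217)) (tt N41862 (iv5 F105013)) (tt N10910 (iv6 D33551)) (tt N43581 D72730))
theorem Q22272 : ∀ i, i < 22272 → P i := stepQ 22271 Q22271 (allL N22271 (tt N36481 (iv1 F94690)) (tt N36622 (iv0 F94875)) (tt N30366 F322053) (tt N43582 D72731) (tt N10911 (iv4 D33559)) (tt N43583 D72732) (tt N30365 F322054) (tt N43403 (iv7 F108655)))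
theorem Q22273 : ∀ i, i < 22273 → P i := stepQ 22272 Q22272 (allL N22272 (tt N11172 F52859) (tt N20913 (iv0 F52858)) (tt N16816 F54111) (tt N17449 (iv3 F54112)) (tt N20991 (iv4 F54113)) (tt N10911 (iv5 D33560)) (tt N11193 F52857) (tt N21000 (iv7 F54114)))
theorem Q22274 : ∀ i, i < 22274 → P i := stepQ 22273 Q22273 (allL N22273 (tt N42927 (iv1 F107721)) (tt N10912 (iv0 D33562)) (tt N43495 (iv2 F109092)) (tt N43584 D72737) (tt N43585 D72738) (tt N43586 D72739) (tt N43587 D72740) (tt N43496 (iv7 F109094)))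
theorem Q22275 : ∀ i, i < 22275 → P i := stepQ 22274 Q22274 (allL N22274 (tt N10912 (iv1 D33563)) (tt N42927 (iv0 F107720)) (tt N43496 F109096) (tt N43588 D72741) (tt N21862 (iv4 F86016)) (tt N43589 D72742) (tt N41528 F324033) (tt N43495 F109091))
theorem Q22276 : ∀ i, i < 22276 → P i := stepQ 22275 Q22275 (allL N22275 (tt N43590 D72744) (tt N35809 F326607) (tt N43591 D72746) (tt N10912 (iv3 D33564)) (tt N43525 (iv4 F109142)) (tt N43592 D72747) (tt N43572 (iv6 F109214)) (tt N43593 D72748))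
theorem Q22277 : ∀ i, i < 22277 → P i := stepQ 22276 Q22276 (allL N22276 (tt N43594 D72749) (tt N43595 D72750) (tt N43498 (iv2 F109097)) (tt N43592 (iv3 F109226)) (tt N43596 D72751) (tt N10912 (iv5 D33565)) (tt N43597 D72752) (tt N43598 D72753))
theorem Q22278 : ∀ i, i < 22278 → P i := stepQ 22277 Q22277 (allL N22277 (tt N43496 (iv1 F109093)) (tt N43495 F109090) (tt N42927 (iv2 F107718)) (tt N43593 (iv3 F109227)) (tt N10913 F52860) (tt N43598 (iv5 F109236)) (tt N43599 D72754) (tt N10912 (iv7 D33566)))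
theorem Q22279 : ∀ i, i < 22279 → P i := stepQ 22278 Q22278 (allL N22278 (tt N43405 F242943) (tt N43600 D72756) (tt N42928 (iv2 F107722)) (tt N43528 (iv3 F109147)) (tt N43599 (iv4 F109238)) (tt N37442 (iv5 F96008)) (tt N10913 (iv6 D33567)) (tt N43575 (iv7 F109216)))
theorem Q22280 : ∀ i, i < 22280 → P i := stepQ 22279 Q22279 (allL N22279 (tt N34928 (iv1 F90370)) (tt N34927 F90369) (tt N17786 F52861) (tt N10915 F52862) (tt N43601 D72757) (tt N10914 (iv5 D33568)) (tt N43602 D72758) (tt N34925 (iv7 F90365)))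
theorem Q22281 : ∀ i, i < 22281 → P i := stepQ 22280 Q22280 (allL N22280 (tt N43603 D72759) (tt N43604 D72760) (tt N34826 (iv2 F89927)) (tt N10916 F52863) (tt N34157 (iv4 F86836)) (tt N43605 D72761) (tt N10914 (iv6 D33569)) (tt N43606 D72762))
theorem Q22282 : ∀ i, i < 22282 → P i := stepQ 22281 Q22281 (allL N22281 (tt N43607 D72763) (tt N43608 D72764) (tt N10953 F52864) (tt N43602 (iv3 F109244)) (tt N36582 (iv4 F94833)) (tt N43609 D72765) (tt N10915 (iv6 D33570)) (tt N43610 D72766))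
theorem Q22283 : ∀ i, i < 22283 → P i := stepQ 22282 Q22282 (allL N22282 (tt N10957 (iv1 F52869)) (tt N10916 (iv0 D33571)) (tt N10954 (iv2 F162980)) (tt N43611 D72768) (tt N29804 (iv4 F77359)) (tt N43612 D72769) (tt N28700 F306349) (tt N10955 (iv7 F162979)))
theorem Q22284 : ∀ i, i < 22284 → P i := stepQ 22283 Q22283 (allL N22283 (tt N43613 D72776) (tt N43614 D72777) (tt N10956 F52866) (tt N43605 (iv3 F109245)) (tt N43615 D72778) (tt N10916 (iv5 D33573)) (tt N43609 (iv6 F109249)) (tt N43616 D72779))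
theorem Q22285 : ∀ i, i < 22285 → P i := stepQ 22284 Q22284 (allL N22284 (tt N10955 (iv1 F52870)) (tt N10954 F52871) (tt N10957 F52867) (tt N43606 (iv3 F109246)) (tt N10919 F52868) (tt N43616 (iv5 F109259)) (tt N35094 (iv6 F90835)) (tt N10916 (iv7 D33574)))
theorem Q22286 : ∀ i, i < 22286 → P i := stepQ 22285 Q22285 (allL N22285 (tt N43500 F232347) (tt N21764 F232348) (tt N43499 (iv2 F232287)) (tt N10917 (iv3 D33576)) (tt N43617 D72789) (tt N43618 D72790) (tt N43619 D72791) (tt N10962 F109984))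
theorem Q22287 : ∀ i, i < 22287 → P i := stepQ 22286 Q22286 (allL N22286 (tt N42544 (iv1 F308456)) (tt N35336 (iv0 F110510)) (tt N10959 F109985) (tt N43620 D72795) (tt N10917 (iv4 D33577)) (tt N43621 D72796) (tt N43622 D72797) (tt N10963 F109986))
theorem Q22288 : ∀ i, i < 22288 → P i := stepQ 22287 Q22287 (allL N22287 (tt N34344 F190167) (tt N42020 (iv0 F109428)) (tt N10960 F109987) (tt N43618 (iv3 F109276)) (tt N43623 D72801) (tt N10917 (iv5 D33578)) (tt N34596 F309607) (tt N10964 F109988))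
theorem Q22289 : ∀ i, i < 22289 → P i := stepQ 22288 Q22288 (allL N22288 (tt N28728 (iv1 F308266)) (tt N28724 F308106) (tt N10961 F109989) (tt N43619 (iv3 F109277)) (tt N43622 (iv4 F109281)) (tt N22824 F54484) (tt N10917 (iv6 D33579)) (tt N43624 D72806))
theorem Q22290 : ∀ i, i < 22290 → P i := stepQ 22289 Q22289 (allL N22289 (tt N22186 F162952) (tt N43411 F162953) (tt N43410 (iv2 F130769)) (tt N10918 (iv3 D33581)) (tt N18588 F52874) (tt N43625 D72811) (tt N43626 D72812) (tt N10958 (iv7 F109975)))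
theorem Q22291 : ∀ i, i < 22291 → P i := stepQ 22290 Q22290 (allL N22290 (tt N35336 (iv1 F110511)) (tt N42544 (iv0 F308455)) (tt N10963 (iv2 F109967)) (tt N43627 D72813) (tt N10918 (iv4 D33582)) (tt N43628 D72814) (tt N13665 F306380) (tt N10959 (iv7 F109979)))
theorem Q22292 : ∀ i, i < 22292 → P i := stepQ 22291 Q22291 (allL N22291 (tt N42020 (iv1 F109429)) (tt N34344 F190166) (tt N10964 (iv2 F109968)) (tt N43625 (iv3 F109296)) (tt N43629 D72816) (tt N10918 (iv5 D33583)) (tt N41821 (iv6 F104938)) (tt N10960 (iv7 F109983)))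
theorem Q22293 : ∀ i, i < 22293 → P i := stepQ 22292 Q22292 (allL N22292 (tt N12584 F302503) (tt N11828 F302504) (tt N10965 (iv2 F109958)) (tt N43626 (iv3 F109297)) (tt N13665 (iv4 F304367)) (tt N12598 (iv5 F304231)) (tt N10918 (iv6 D33584)) (tt N24248 F302505))
theorem Q22294 : ∀ i, i < 22294 → P i := stepQ 22293 Q22293 (allL N22293 (tt N43630 D72820) (tt N34286 (iv0 F190368)) (tt N10922 F52875) (tt N35349 (iv3 F92138)) (tt N18579 F52876) (tt N42669 (iv5 F106783)) (tt N10920 (iv6 D33585)) (tt N43631 D72822))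
theorem Q22295 : ∀ i, i < 22295 → P i := stepQ 22294 Q22294 (allL N22294 (tt N35056 (iv1 F94813)) (tt N35059 (iv0 F90747)) (tt N43632 D72823) (tt N10921 (iv3 D33586)) (tt N10925 F52877) (tt N43633 D72824) (tt N43634 D72825) (tt N18580 F52878))
theorem Q22296 : ∀ i, i < 22296 → P i := stepQ 22295 Q22295 (allL N22295 (tt N21517 F52882) (tt N34506 (iv0 F87741)) (tt N18578 F52879) (tt N43633 (iv3 F109323)) (tt N17902 F52881) (tt N10921 (iv5 D33587)) (tt N43635 D72826) (tt N18581 F52880))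
theorem Q22297 : ∀ i, i < 22297 → P i := stepQ 22296 Q22296 (allL N22296 (tt N21625 (iv1 F190726)) (tt N43636 D72828) (tt N18579 F52883) (tt N43634 (iv3 F109327)) (tt N10922 F52884) (tt N43637 D72829) (tt N10921 (iv6 D33588)) (tt N43638 D72830))
theorem Q22298 : ∀ i, i < 22298 → P i := stepQ 22297 Q22297 (allL N22297 (tt N43631 (iv1 F109308)) (tt N10922 (iv0 D33589)) (tt N43630 F190721) (tt N34273 (iv3 F190723)) (tt N36534 (iv4 F190724)) (tt N43639 D72834) (tt N43640 D72835) (tt N34286 F190722))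
theorem Q22299 : ∀ i, i < 22299 → P i := stepQ 22298 Q22298 (allL N22298 (tt N10922 (iv1 D33590)) (tt N43631 F109307) (tt N34286 (iv2 F190718)) (tt N20757 F308899) (tt N36535 (iv4 F190719)) (tt N20756 (iv5 F311050)) (tt N43641 D72840) (tt N43630 (iv7 F190720)))
theorem Q22300 : ∀ i, i < 22300 → P i := stepQ 22299 Q22299 (allL N22299 (tt N43642 D72841) (tt N43643 D72842) (tt N42669 (iv2 F106782)) (tt N10930 F52885) (tt N29914 (iv4 F77598)) (tt N10922 (iv5 D33591)) (tt N22849 (iv6 F54528)) (tt N43644 D72843))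
theorem Q22301 : ∀ i, i < 22301 → P i := stepQ 22300 Q22300 (allL N22300 (tt N34286 F190371) (tt N43630 F109306) (tt N43631 (iv2 F109303)) (tt N10931 F52886) (tt N43638 (iv4 F109334)) (tt N43644 (iv5 F109344)) (tt N35333 (iv6 F92094)) (tt N10922 (iv7 D33592)))
theorem Q22302 : ∀ i, i < 22302 → P i := stepQ 22301 Q22301 (allL N22301 (tt N43645 D72844) (tt N43646 D72845) (tt N35001 (iv2 F90644)) (tt N10923 (iv3 D33593)) (tt N21420 F311640) (tt N43483 (iv5 F108987)) (tt N30514 F311641) (tt N35334 (iv7 F92099)))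
theorem Q22303 : ∀ i, i < 22303 → P i := stepQ 22302 Q22302 (allL N22302 (tt N35366 (iv1 F199699)) (tt N35370 (iv0 F199700)) (tt N35338 (iv2 F92110)) (tt N30514 F313362) (tt N20264 F313363) (tt N43647 D72849) (tt N10923 (iv6 D33594)) (tt N35381 (iv7 F199702)))
theorem Q22304 : ∀ i, i < 22304 → P i := stepQ 22303 Q22303 (allL N22303 (tt N10959 (iv1 F109821)) (tt N10963 (iv0 F109822)) (tt N35336 (iv2 F92104)) (tt N35004 (iv3 F90648)) (tt N25832 (iv4 F306891)) (tt N43648 D72853) (tt N10924 (iv6 D33595)) (tt N42544 (iv7 F308334)))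
theorem Q22305 : ∀ i, i < 22305 → P i := stepQ 22304 Q22304 (allL N22304 (tt N35340 (iv1 F92121)) (tt N10925 (iv0 D33596)) (tt N35339 F92114) (tt N23228 (iv3 F55265)) (tt N43649 D72855) (tt N16389 F52889) (tt N43650 D72856) (tt N34962 (iv7 F90543)))
theorem Q22306 : ∀ i, i < 22306 → P i := stepQ 22305 Q22305 (allL N22305 (tt N10925 (iv1 D33597)) (tt N35340 F92122) (tt N34962 (iv2 F90546)) (tt N43651 D72857) (tt N32889 (iv4 F83711)) (tt N43479 (iv5 F108974)) (tt N43652 D72858) (tt N35339 (iv7 F92111)))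
theorem Q22307 : ∀ i, i < 22307 → P i := stepQ 22306 Q22306 (allL N22306 (tt N35339 (iv1 F92118)) (tt N34962 F90545) (tt N10925 (iv2 D33598)) (tt N34959 (iv3 F90538)) (tt N43632 (iv4 F109310)) (tt N32677 (iv5 F87746)) (tt N43653 D72859) (tt N35340 (iv7 F92120)))
theorem Q22308 : ∀ i, i < 22308 → P i := stepQ 22307 Q22307 (allL N22307 (tt N29563 F76714) (tt N32669 (iv0 F83317)) (tt N32677 F87745) (tt N10926 F52890) (tt N32750 (iv4 F83470)) (tt N10925 (iv5 D33599)) (tt N43654 D72860) (tt N32678 (iv7 F87744)))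
theorem Q22309 : ∀ i, i < 22309 → P i := stepQ 22308 Q22308 (allL N22308 (tt N43655 D72861) (tt N43656 D72862) (tt N43653 (iv2 F109355)) (tt N10927 F52891) (tt N43634 (iv4 F109328)) (tt N43657 D72863) (tt N10925 (iv6 D33600)) (tt N43658 D72864))
theorem Q22310 : ∀ i, i < 22310 → P i := stepQ 22309 Q22309 (allL N22309 (tt N10936 (iv1 F52893)) (tt N10926 (iv0 D33601)) (tt N22210 (iv2 F52894)) (tt N43659 D72865) (tt N36440 (iv4 F94607)) (tt N21704 F52892) (tt N43660 D72866) (tt N22208 (iv7 F52895)))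
theorem Q22311 : ∀ i, i < 22311 → P i := stepQ 22310 Q22310 (allL N22310 (tt N10926 (iv1 D33602)) (tt N10936 F52896) (tt N22208 (iv2 F52899)) (tt N33716 F310228) (tt N36442 (iv4 F94613)) (tt N22167 F52898) (tt N33714 (iv6 F312499)) (tt N22210 F52897))
theorem Q22312 : ∀ i, i < 22312 → P i := stepQ 22311 Q22311 (allL N22311 (tt N43661 D72868) (tt N43662 D72869) (tt N35359 (iv2 F92160)) (tt N43654 (iv3 F109356)) (tt N36571 (iv4 F94820)) (tt N43663 D72870) (tt N10926 (iv6 D33603)) (tt N43664 D72871))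
theorem Q22313 : ∀ i, i < 22313 → P i := stepQ 22312 Q22312 (allL N22312 (tt N10927 (iv1 D33605)) (tt N25672 F306393) (tt N25674 F306394) (tt N35010 (iv3 F191337)) (tt N43665 D72879) (tt N43666 D72880) (tt N25633 F306395) (tt N25525 F306396))
theorem Q22314 : ∀ i, i < 22314 → P i := stepQ 22313 Q22313 (allL N22313 (tt N43667 D72882) (tt N43668 D72883) (tt N35360 (iv2 F92162)) (tt N43657 (iv3 F109357)) (tt N43669 D72884) (tt N10927 (iv5 D33606)) (tt N43663 (iv6 F109363)) (tt N43670 D72885))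
theorem Q22315 : ∀ i, i < 22315 → P i := stepQ 22314 Q22314 (allL N22314 (tt N25674 F306397) (tt N25525 F306398) (tt N25672 F306399) (tt N43658 (iv3 F109358)) (tt N10931 F52900) (tt N43670 (iv5 F109367)) (tt N35346 (iv6 F92129)) (tt N10927 (iv7 D33607)))
theorem Q22316 : ∀ i, i < 22316 → P i := stepQ 22315 Q22315 (allL N22315 (tt N43671 D72905) (tt N43672 D72906) (tt N34293 (iv2 F190745)) (tt N34184 (iv3 F190748)) (tt N43673 D72907) (tt N10928 (iv5 D33611)) (tt N27941 (iv6 F308717)) (tt N35361 (iv7 F190757)))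
theorem Q22317 : ∀ i, i < 22317 → P i := stepQ 22316 Q22316 (allL N22316 (tt N10945 (iv1 F190753)) (tt N28711 (iv0 F304948)) (tt N28713 (iv2 F304956)) (tt N12402 (iv3 F190763)) (tt N10929 (iv4 D33615)) (tt N38769 F328265) (tt N27953 (iv6 F302878)) (tt N12852 F302514))
theorem Q22318 : ∀ i, i < 22318 → P i := stepQ 22317 Q22317 (allL N22317 (tt N43672 (iv1 F109385)) (tt N43671 F109388) (tt N35361 (iv2 F190756)) (tt N10982 (iv3 F190761)) (tt N43674 D72923) (tt N10929 (iv5 D33616)) (tt N43675 D72924) (tt N34293 (iv7 F190746)))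
theorem Q22319 : ∀ i, i < 22319 → P i := stepQ 22318 Q22318 (allL N22318 (tt N35389 (iv1 F190859)) (tt N35368 (iv0 F190861)) (tt N35362 (iv2 F190760)) (tt N10983 (iv3 F190762)) (tt N27953 F304047) (tt N43676 D72927) (tt N10929 (iv6 D33617)) (tt N25219 (iv7 F190774)))
theorem Q22320 : ∀ i, i < 22320 → P i := stepQ 22319 Q22319 (allL N22319 (tt N35364 (iv1 F92177)) (tt N10930 (iv0 D33618)) (tt N34298 F190159) (tt N34187 (iv3 F190177)) (tt N43677 D72931) (tt N43678 D72932) (tt N42019 F105270) (tt N35363 F109431))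
theorem Q22321 : ∀ i, i < 22321 → P i := stepQ 22320 Q22320 (allL N22320 (tt N35363 (iv1 F92172)) (tt N34298 F190158) (tt N35364 (iv2 F92173)) (tt N43644 (iv3 F109343)) (tt N29913 (iv4 F77596)) (tt N10931 F52904) (tt N43644 (iv6 F109345)) (tt N10930 (iv7 D33621)))
theorem Q22322 : ∀ i, i < 22322 → P i := stepQ 22321 Q22321 (allL N22321 (tt N13018 F52908) (tt N14343 F52909) (tt N10933 F52905) (tt N24358 F58368) (tt N10932 (iv4 D33622)) (tt N14090 F52906) (tt N43679 D72936) (tt N14285 F52907))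
theorem Q22323 : ∀ i, i < 22323 → P i := stepQ 22322 Q22322 (allL N22322 (tt N34311 F190669) (tt N43680 D72938) (tt N10934 F52910) (tt N10940 F52911) (tt N43679 (iv4 F109439)) (tt N10934 F52912) (tt N10932 (iv6 D33623)) (tt N43681 D72939))
theorem Q22324 : ∀ i, i < 22324 → P i := stepQ 22323 Q22323 (allL N22323 (tt N43682 D72940) (tt N43683 D72941) (tt N43684 D72942) (tt N10933 (iv3 D33624)) (tt N10935 F52913) (tt N14282 F52914) (tt N43685 D72943) (tt N35350 (iv7 F92142)))
theorem Q22325 : ∀ i, i < 22325 → P i := stepQ 22324 Q22324 (allL N22324 (tt N39849 F326325) (tt N14361 F318961) (tt N43679 (iv2 F109438)) (tt N43685 (iv3 F109456)) (tt N10934 F52915) (tt N43686 D72946) (tt N10933 (iv6 D33625)) (tt N43687 D72947))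
theorem Q22326 : ∀ i, i < 22326 → P i := stepQ 22325 Q22325 (allL N22325 (tt N43681 (iv1 F109446)) (tt N10934 (iv0 D33626)) (tt N34311 (iv2 F190920)) (tt N34318 (iv3 F190921)) (tt N33846 (iv4 F190922)) (tt N43688 D72951) (tt N43689 D72952) (tt N43680 (iv7 F190923)))
theorem Q22327 : ∀ i, i < 22327 → P i := stepQ 22326 Q22326 (allL N22326 (tt N10934 (iv1 D33627)) (tt N43681 F109445) (tt N43680 F190924) (tt N34304 (iv3 F190926)) (tt N33847 (iv4 F190927)) (tt N43690 D72956) (tt N43691 D72957) (tt N34311 F190925))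
theorem Q22328 : ∀ i, i < 22328 → P i := stepQ 22327 Q22327 (allL N22327 (tt N43680 (iv1 F109440)) (tt N34311 (iv0 F190616)) (tt N43681 (iv2 F109441)) (tt N10941 F52916) (tt N43687 (iv4 F109459)) (tt N43681 (iv5 F109443)) (tt N35355 (iv6 F92148)) (tt N10934 (iv7 D33628)))
theorem Q22329 : ∀ i, i < 22329 → P i := stepQ 22328 Q22328 (allL N22328 (tt N34959 (iv1 F90535)) (tt N10935 (iv0 D33629)) (tt N34837 F89999) (tt N34956 (iv3 F90528)) (tt N12998 F52917) (tt N43110 (iv5 F108138)) (tt N43692 D72958) (tt N14052 (iv7 F52918)))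
theorem Q22330 : ∀ i, i < 22330 → P i := stepQ 22329 Q22329 (allL N22329 (tt N34837 (iv1 F90000)) (tt N14052 F59414) (tt N10935 (iv2 D33630)) (tt N35340 (iv3 F92119)) (tt N43684 (iv4 F109453)) (tt N43693 D72959) (tt N43694 D72960) (tt N34959 (iv7 F90536)))
theorem Q22331 : ∀ i, i < 22331 → P i := stepQ 22330 Q22330 (allL N22330 (tt N23337 F55716) (tt N23341 (iv0 F55650)) (tt N43693 (iv2 F109464)) (tt N10936 F52919) (tt N21652 (iv4 F55711)) (tt N10935 (iv5 D33631)) (tt N43695 D72961) (tt N35356 (iv7 F92150)))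
theorem Q22332 : ∀ i, i < 22332 → P i := stepQ 22331 Q22331 (allL N22331 (tt N43696 D72962) (tt N34979 (iv0 F191057)) (tt N43694 (iv2 F109469)) (tt N10937 F52920) (tt N43685 (iv4 F109457)) (tt N43697 D72964) (tt N10935 (iv6 D33632)) (tt N43698 D72965))
theorem Q22333 : ∀ i, i < 22333 → P i := stepQ 22332 Q22332 (allL N22332 (tt N43699 D72966) (tt N43700 D72967) (tt N35342 (iv2 F92124)) (tt N43695 (iv3 F109470)) (tt N36564 (iv4 F94806)) (tt N43701 D72968) (tt N10936 (iv6 D33633)) (tt N43702 D72969))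
theorem Q22334 : ∀ i, i < 22334 → P i := stepQ 22333 Q22333 (allL N22333 (tt N35346 (iv1 F92132)) (tt N10937 (iv0 D33634)) (tt N35343 (iv2 F190663)) (tt N43703 D72971) (tt N43704 D72972) (tt N43705 D72973) (tt N43706 D72974) (tt N35344 (iv7 F190957)))
theorem Q22335 : ∀ i, i < 22335 → P i := stepQ 22334 Q22334 (allL N22334 (tt N10937 (iv1 D33635)) (tt N35346 F92131) (tt N35344 (iv2 F190956)) (tt N43707 D72976) (tt N21724 (iv4 F190662)) (tt N43708 D72978) (tt N43709 D72979) (tt N35343 (iv7 F190664)))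
theorem Q22336 : ∀ i, i < 22336 → P i := stepQ 22335 Q22335 (allL N22335 (tt N43710 D72980) (tt N25761 F304611) (tt N35345 (iv2 F92126)) (tt N43697 (iv3 F109472)) (tt N43711 D72982) (tt N10937 (iv5 D33636)) (tt N43701 (iv6 F109474)) (tt N43712 D72983))
theorem Q22337 : ∀ i, i < 22337 → P i := stepQ 22336 Q22336 (allL N22336 (tt N35344 (iv1 F92125)) (tt N35343 F92130) (tt N35346 (iv2 F92127)) (tt N43698 (iv3 F109473)) (tt N10941 F52921) (tt N43712 (iv5 F109478)) (tt N25672 F306400) (tt N10937 (iv7 D33637)))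
theorem Q22338 : ∀ i, i < 22338 → P i := stepQ 22337 Q22337 (allL N22337 (tt N35083 F190565) (tt N10949 F190566) (tt N35081 F190567) (tt N12361 (iv3 F190620)) (tt N10938 (iv4 D33640)) (tt N43713 D73000) (tt N43714 D73001) (tt N28730 F310332))
theorem Q22339 : ∀ i, i < 22339 → P i := stepQ 22338 Q22338 (allL N22338 (tt N43715 D73003) (tt N43716 D73004) (tt N35347 (iv2 F109755)) (tt N10995 (iv3 F190520)) (tt N18884 F307696) (tt N10938 (iv5 D33641)) (tt N18883 F307697) (tt N34322 F190497))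
theorem Q22340 : ∀ i, i < 22340 → P i := stepQ 22339 Q22339 (allL N22339 (tt N35372 (iv1 F190866)) (tt N35401 (iv0 F190867)) (tt N35348 (iv2 F109750)) (tt N10996 (iv3 F190619)) (tt N43714 (iv4 F109491)) (tt N22760 F311891) (tt N10938 (iv6 D33642)) (tt N24339 (iv7 F190606)))
theorem Q22341 : ∀ i, i < 22341 → P i := stepQ 22340 Q22340 (allL N22340 (tt N10949 (iv1 F190550)) (tt N35083 (iv0 F190551)) (tt N28730 F308450) (tt N43717 D73018) (tt N10939 (iv4 D33645)) (tt N43718 D73019) (tt N28698 F306905) (tt N35081 (iv7 F190553)))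
theorem Q22342 : ∀ i, i < 22342 → P i := stepQ 22341 Q22341 (allL N22341 (tt N43716 (iv1 F109495)) (tt N43715 F109498) (tt N34322 (iv2 F190477)) (tt N34199 (iv3 F190492)) (tt N43719 D73021) (tt N10939 (iv5 D33646)) (tt N22175 (iv6 F52924)) (tt N35347 (iv7 F109756)))
theorem Q22343 : ∀ i, i < 22343 → P i := stepQ 22342 Q22342 (allL N22342 (tt N43624 (iv1 F110015)) (tt N10961 (iv0 F109742)) (tt N28728 F308440) (tt N34200 (iv3 F190548)) (tt N28698 F306902) (tt N43720 D73024) (tt N10939 (iv6 D33647)) (tt N28724 F308441))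
theorem Q22344 : ∀ i, i < 22344 → P i := stepQ 22343 Q22343 (allL N22343 (tt N35333 (iv1 F92097)) (tt N10940 (iv0 D33648)) (tt N35332 (iv2 F109541)) (tt N11000 (iv3 F190648)) (tt N36552 (iv4 F190649)) (tt N43721 D73029) (tt N43722 D73030) (tt N34326 F190599))
theorem Q22345 : ∀ i, i < 22345 → P i := stepQ 22344 Q22344 (allL N22344 (tt N10940 (iv1 D33649)) (tt N35333 F92096) (tt N34326 F190598) (tt N10993 (iv3 F190643)) (tt N36553 (iv4 F190644)) (tt N22223 (iv5 F52925)) (tt N43723 D73033) (tt N35332 (iv7 F109543)))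
theorem Q22346 : ∀ i, i < 22346 → P i := stepQ 22345 Q22345 (allL N22345 (tt N43724 D73034) (tt N21734 F190673) (tt N18582 F52926) (tt N43725 D73036) (tt N10940 (iv4 D33650)) (tt N43726 D73037) (tt N18553 F52927) (tt N43727 D73038))
theorem Q22347 : ∀ i, i < 22347 → P i := stepQ 22346 Q22346 (allL N22346 (tt N34326 F190563) (tt N35332 F92095) (tt N35333 (iv2 F92091)) (tt N43681 (iv3 F109442)) (tt N43727 (iv4 F109555)) (tt N10941 F52928) (tt N43631 (iv6 F109305)) (tt N10940 (iv7 D33651)))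
theorem Q22348 : ∀ i, i < 22348 → P i := stepQ 22347 Q22347 (allL N22347 (tt N35076 (iv1 F90778)) (tt N10942 (iv0 D33652)) (tt N35075 (iv2 F90812)) (tt N34906 (iv3 F109319)) (tt N43728 D73039) (tt N26181 F307516) (tt N43729 D73041) (tt N28852 F307517))
theorem Q22349 : ∀ i, i < 22349 → P i := stepQ 22348 Q22348 (allL N22348 (tt N10942 (iv1 D33653)) (tt N35076 F90780) (tt N28852 F307513) (tt N42556 (iv3 F305582)) (tt N43730 D73043) (tt N26182 F307514) (tt N24785 F307515) (tt N35075 F90811))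
theorem Q22350 : ∀ i, i < 22350 → P i := stepQ 22349 Q22349 (allL N22349 (tt N35075 (iv1 F90779)) (tt N28852 F307521) (tt N10942 (iv2 D33654)) (tt N35085 (iv3 F90804)) (tt N24695 F59342) (tt N43731 D73045) (tt N26144 F307522) (tt N35076 (iv7 F90777)))
theorem Q22351 : ∀ i, i < 22351 → P i := stepQ 22350 Q22350 (allL N22350 (tt N11628 F56135) (tt N22983 F56136) (tt N24695 (iv2 F59338)) (tt N33923 F86197) (tt N10942 (iv4 D33655)) (tt N24527 (iv5 F59040)) (tt N24779 F303265) (tt N24691 F59328))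
theorem Q22352 : ∀ i, i < 22352 → P i := stepQ 22351 Q22351 (allL N22351 (tt N43732 D73048) (tt N27643 (iv0 F109563)) (tt N43731 (iv2 F109567)) (tt N10944 F52929) (tt N43733 D73049) (tt N10942 (iv5 D33656)) (tt N43734 D73050) (tt N35077 (iv7 F90784)))
theorem Q22353 : ∀ i, i < 22353 → P i := stepQ 22352 Q22352 (allL N22352 (tt N28714 (iv1 F305994)) (tt N33824 (iv0 F190083)) (tt N29785 (iv2 F77296)) (tt N42480 (iv3 F106268)) (tt N10945 F52931) (tt N42620 (iv5 F106549)) (tt N10943 (iv6 D33658)) (tt N43735 D73057))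
theorem Q22354 : ∀ i, i < 22354 → P i := stepQ 22353 Q22353 (allL N22353 (tt N10948 (iv1 F52935)) (tt N10944 (iv0 D33659)) (tt N17397 (iv2 F52934)) (tt N43736 D73058) (tt N21796 F52933) (tt N17396 F52932) (tt N43737 D73059) (tt N22201 F52936))
theorem Q22355 : ∀ i, i < 22355 → P i := stepQ 22354 Q22354 (allL N22354 (tt N43738 D73060) (tt N43739 D73061) (tt N35088 (iv2 F90821)) (tt N43734 (iv3 F109580)) (tt N36551 (iv4 F94793)) (tt N38448 F336393) (tt N10944 (iv6 D33660)) (tt N43740 D73063))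
theorem Q22356 : ∀ i, i < 22356 → P i := stepQ 22355 Q22355 (allL N22355 (tt N43741 D73074) (tt N43742 D73075) (tt N35089 (iv2 F90823)) (tt N28772 F306913) (tt N43743 D73076) (tt N10945 (iv5 D33663)) (tt N38448 F336394) (tt N43744 D73077))
theorem Q22357 : ∀ i, i < 22357 → P i := stepQ 22356 Q22356 (allL N22356 (tt N28713 (iv1 F304955)) (tt N12852 F302512) (tt N28711 (iv2 F304949)) (tt N26143 (iv3 F304957)) (tt N43735 (iv4 F109583)) (tt N43744 (iv5 F109592)) (tt N35083 (iv6 F90796)) (tt N10945 (iv7 D33664)))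
theorem Q22358 : ∀ i, i < 22358 → P i := stepQ 22357 Q22357 (allL N22357 (tt N35085 (iv1 F90808)) (tt N10946 (iv0 D33665)) (tt N35032 F90708) (tt N43745 D73078) (tt N34948 F90502) (tt N43021 (iv5 F107953)) (tt N43746 D73079) (tt N35084 (iv7 F90803)))
theorem Q22359 : ∀ i, i < 22359 → P i := stepQ 22358 Q22358 (allL N22358 (tt N10946 (iv1 D33666)) (tt N35085 F90809) (tt N35084 F90801) (tt N34911 (iv3 F90510)) (tt N34949 F90509) (tt N43022 (iv5 F107960)) (tt N43747 D73080) (tt N35032 F90709))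
theorem Q22360 : ∀ i, i < 22360 → P i := stepQ 22359 Q22359 (allL N22359 (tt N35032 F90710) (tt N35084 F90802) (tt N10946 (iv2 D33667)) (tt N35076 (iv3 F90775)) (tt N21989 F52937) (tt N21959 (iv5 F52938)) (tt N43748 D73081) (tt N35085 (iv7 F90807)))
theorem Q22361 : ∀ i, i < 22361 → P i := stepQ 22360 Q22360 (allL N22360 (tt N10975 F52943) (tt N34301 (iv0 F87157)) (tt N21989 F52939) (tt N12646 F52940) (tt N10946 (iv4 D33668)) (tt N17127 (iv5 F52942)) (tt N43749 D73082) (tt N21992 F52941))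
theorem Q22362 : ∀ i, i < 22362 → P i := stepQ 22361 Q22361 (allL N22361 (tt N42960 (iv1 F107807)) (tt N36465 (iv0 F94675)) (tt N21959 F52944) (tt N10948 F52945) (tt N11416 F52947) (tt N10946 (iv5 D33669)) (tt N43750 D73083) (tt N21957 F52946))
theorem Q22363 : ∀ i, i < 22363 → P i := stepQ 22362 Q22362 (allL N22362 (tt N43751 D73084) (tt N43752 D73085) (tt N43748 (iv2 F109593)) (tt N10949 F52948) (tt N43749 (iv4 F109597)) (tt N43753 D73086) (tt N10946 (iv6 D33670)) (tt N43754 D73087))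
theorem Q22364 : ∀ i, i < 22364 → P i := stepQ 22363 Q22363 (allL N22363 (tt N43755 D73088) (tt N43756 D73089) (tt N35080 (iv2 F90792)) (tt N43750 (iv3 F109599)) (tt N36533 (iv4 F94775)) (tt N43757 D73090) (tt N10948 (iv6 D33671)) (tt N43758 D73091))
theorem Q22365 : ∀ i, i < 22365 → P i := stepQ 22364 Q22364 (allL N22364 (tt N43759 D73102) (tt N28693 F306424) (tt N35082 (iv2 F90794)) (tt N43753 (iv3 F109601)) (tt N43760 D73104) (tt N10949 (iv5 D33674)) (tt N43757 (iv6 F109603)) (tt N43761 D73105))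
theorem Q22366 : ∀ i, i < 22366 → P i := stepQ 22365 Q22365 (allL N22365 (tt N28730 F310328) (tt N35081 F90797) (tt N35083 (iv2 F90795)) (tt N43754 (iv3 F109602)) (tt N36558 (iv4 F94800)) (tt N43761 (iv5 F109606)) (tt N28711 F306452) (tt N10949 (iv7 D33675)))
theorem Q22367 : ∀ i, i < 22367 → P i := stepQ 22366 Q22366 (allL N22366 (tt N43762 D73112) (tt N43763 D73113) (tt N35096 (iv2 F90846)) (tt N43023 (iv3 F107963)) (tt N36448 (iv4 F94640)) (tt N43764 D73114) (tt N10951 (iv6 D33678)) (tt N43765 D73115))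
theorem Q22368 : ∀ i, i < 22368 → P i := stepQ 22367 Q22367 (allL N22367 (tt N43766 D73116) (tt N43767 D73117) (tt N43768 D73118) (tt N10952 (iv3 D33679)) (tt N17689 F52949) (tt N36412 (iv5 F94524)) (tt N43769 D73119) (tt N35099 (iv7 F90859)))
theorem Q22369 : ∀ i, i < 22369 → P i := stepQ 22368 Q22368 (allL N22368 (tt N43770 D73120) (tt N43771 D73121) (tt N36582 (iv2 F94831)) (tt N43769 (iv3 F109617)) (tt N10953 F52950) (tt N43772 D73122) (tt N10952 (iv6 D33680)) (tt N43773 D73123))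
theorem Q22370 : ∀ i, i < 22370 → P i := stepQ 22369 Q22369 (allL N22369 (tt N43610 (iv1 F109253)) (tt N10953 (iv0 D33681)) (tt N43607 F354975) (tt N43774 D73125) (tt N43775 D73126) (tt N43776 D73127) (tt N43777 D73128) (tt N43608 (iv7 F354982)))
theorem Q22371 : ∀ i, i < 22371 → P i := stepQ 22370 Q22370 (allL N22370 (tt N10953 (iv1 D33682)) (tt N43610 F109252) (tt N43608 (iv2 F354981)) (tt N43778 D73130) (tt N38054 F339661) (tt N43779 D73132) (tt N43780 D73133) (tt N43607 F354980))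
theorem Q22372 : ∀ i, i < 22372 → P i := stepQ 22371 Q22371 (allL N22371 (tt N43781 D73134) (tt N43782 D73135) (tt N43609 (iv2 F109248)) (tt N35147 (iv3 F90905)) (tt N43783 D73136) (tt N10953 (iv5 D33683)) (tt N10956 F52951) (tt N43784 D73137))
theorem Q22373 : ∀ i, i < 22373 → P i := stepQ 22372 Q22372 (allL N22372 (tt N43608 (iv1 F109247)) (tt N43607 F109251) (tt N43610 (iv2 F109250)) (tt N35144 (iv3 F90897)) (tt N43773 (iv4 F109619)) (tt N43784 (iv5 F109623)) (tt N35104 (iv6 F90865)) (tt N10953 (iv7 D33684)))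
theorem Q22374 : ∀ i, i < 22374 → P i := stepQ 22373 Q22373 (allL N22373 (tt N43785 D73151) (tt N33818 (iv0 F110491)) (tt N29804 F162976) (tt N43786 D73153) (tt N10954 (iv4 D33687)) (tt N43787 D73154) (tt N28722 (iv6 F308268)) (tt N12854 F306896))
theorem Q22375 : ∀ i, i < 22375 → P i := stepQ 22374 Q22374 (allL N22374 (tt N43788 D73157) (tt N43789 D73158) (tt N43612 (iv2 F162982)) (tt N28848 (iv3 F308719)) (tt N43790 D73159) (tt N10954 (iv5 D33688)) (tt N43791 D73160) (tt N12855 F306897))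
theorem Q22376 : ∀ i, i < 22376 → P i := stepQ 22375 Q22375 (allL N22375 (tt N43746 F311505) (tt N43792 D73168) (tt N24784 (iv2 F308269)) (tt N10955 (iv3 D33691)) (tt N43793 D73170) (tt N43794 D73171) (tt N12784 F306346) (tt N43611 (iv7 F162981)))
theorem Q22377 : ∀ i, i < 22377 → P i := stepQ 22376 Q22376 (allL N22376 (tt N33818 (iv1 F110492)) (tt N43785 F109639) (tt N12854 (iv2 F304944)) (tt N29783 (iv3 F77288)) (tt N10955 (iv4 D33692)) (tt N43795 D73173) (tt N12628 F303925) (tt N29804 F162970))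
theorem Q22378 : ∀ i, i < 22378 → P i := stepQ 22377 Q22377 (allL N22377 (tt N43789 (iv1 F109645)) (tt N43788 F109648) (tt N12855 F306347) (tt N43794 (iv3 F109652)) (tt N43796 D73175) (tt N10955 (iv5 D33693)) (tt N12787 F306348) (tt N43612 (iv7 F162983)))
theorem Q22379 : ∀ i, i < 22379 → P i := stepQ 22378 Q22378 (allL N22378 (tt N43616 (iv1 F109262)) (tt N10956 (iv0 D33695)) (tt N43613 (iv2 F233824)) (tt N43797 D73182) (tt N43798 D73183) (tt N43799 D73184) (tt N43800 D73185) (tt N43614 (iv7 F233822)))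
theorem Q22380 : ∀ i, i < 22380 → P i := stepQ 22379 Q22379 (allL N22379 (tt N10956 (iv1 D33696)) (tt N43616 F109261) (tt N43614 (iv2 F233821)) (tt N43801 D73187) (tt N43802 D73188) (tt N43803 D73189) (tt N43804 D73190) (tt N43613 (iv7 F233825)))
theorem Q22381 : ∀ i, i < 22381 → P i := stepQ 22380 Q22380 (allL N22380 (tt N43805 D73191) (tt N43806 D73192) (tt N43615 (iv2 F109257)) (tt N43807 D73193) (tt N10956 (iv4 D33697)) (tt N43808 D73194) (tt N43783 (iv6 F109622)) (tt N43809 D73195))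
theorem Q22382 : ∀ i, i < 22382 → P i := stepQ 22381 Q22381 (allL N22381 (tt N43614 (iv1 F109256)) (tt N43613 F109260) (tt N43616 (iv2 F109258)) (tt N35178 (iv3 F90942)) (tt N43809 (iv4 F109657)) (tt N10957 F52954) (tt N43810 D73196) (tt N10956 (iv7 D33698)))
theorem Q22383 : ∀ i, i < 22383 → P i := stepQ 22382 Q22382 (allL N22382 (tt N43410 (iv1 F130768)) (tt N10958 (iv0 D33705)) (tt N43411 (iv2 F130773)) (tt N11015 (iv3 F110590)) (tt N36598 F110589) (tt N42153 (iv5 F229478)) (tt N35377 (iv6 F199855)) (tt N22186 (iv7 F130775)))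
theorem Q22384 : ∀ i, i < 22384 → P i := stepQ 22383 Q22383 (allL N22383 (tt N43411 (iv1 F162950)) (tt N22186 (iv0 F162951)) (tt N10958 (iv2 D33707)) (tt N43499 (iv3 F232288)) (tt N18587 (iv4 F110020)) (tt N27714 (iv5 F312370)) (tt N27716 F310100) (tt N43410 (iv7 F130772)))
theorem Q22385 : ∀ i, i < 22385 → P i := stepQ 22384 Q22384 (allL N22384 (tt N18590 F52963) (tt N18555 (iv0 F77289)) (tt N18587 (iv2 F110019)) (tt N43811 D73241) (tt N10958 (iv4 D33708)) (tt N43812 D73242) (tt N43813 D73243) (tt N18588 F109995))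
theorem Q22386 : ∀ i, i < 22386 → P i := stepQ 22385 Q22385 (allL N22385 (tt N43814 D73245) (tt N43815 D73246) (tt N27714 (iv2 F312369)) (tt N10960 F52964) (tt N13717 (iv4 F312407)) (tt N10958 (iv5 D33709)) (tt N12027 F310152) (tt N43625 (iv7 F109974)))
theorem Q22387 : ∀ i, i < 22387 → P i := stepQ 22386 Q22386 (allL N22386 (tt N43723 (iv1 F131035)) (tt N43816 D73251) (tt N27716 (iv2 F308077)) (tt N10961 F52965) (tt N43813 (iv4 F109707)) (tt N12028 (iv5 F308121)) (tt N10958 (iv6 D33710)) (tt N43817 D73253))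
theorem Q22388 : ∀ i, i < 22388 → P i := stepQ 22387 Q22387 (allL N22387 (tt N10963 (iv1 F52971)) (tt N10959 (iv0 D33712)) (tt N42544 (iv2 F308333)) (tt N43818 D73256) (tt N25833 (iv4 F306893)) (tt N43819 D73258) (tt N35381 (iv6 F199701)) (tt N35336 (iv7 F109823)))
theorem Q22389 : ∀ i, i < 22389 → P i := stepQ 22388 Q22388 (allL N22388 (tt N43820 D73265) (tt N43652 F324403) (tt N43821 D73267) (tt N10959 (iv3 D33714)) (tt N43811 (iv4 F109706)) (tt N43822 D73268) (tt N43823 D73269) (tt N43627 (iv7 F109976)))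
theorem Q22390 : ∀ i, i < 22390 → P i := stepQ 22389 Q22389 (allL N22389 (tt N43824 D73271) (tt N43825 D73272) (tt N43621 (iv2 F110004)) (tt N43822 (iv3 F109719)) (tt N43826 D73273) (tt N10959 (iv5 D33715)) (tt N43827 D73274) (tt N43628 (iv7 F109978)))
theorem Q22391 : ∀ i, i < 22391 → P i := stepQ 22390 Q22390 (allL N22390 (tt N43709 (iv1 F190978)) (tt N43828 D73277) (tt N43622 (iv2 F110006)) (tt N43823 (iv3 F109720)) (tt N10961 F52968) (tt N43829 D73278) (tt N10959 (iv6 D33716)) (tt N25629 F308105))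
theorem Q22392 : ∀ i, i < 22392 → P i := stepQ 22391 Q22391 (allL N22391 (tt N10964 (iv1 F52976)) (tt N10960 (iv0 D33718)) (tt N34344 (iv2 F190153)) (tt N34245 (iv3 F190154)) (tt N43830 D73282) (tt N22265 F52972) (tt N43831 D73283) (tt N42020 F109402))
theorem Q22393 : ∀ i, i < 22393 → P i := stepQ 22392 Q22392 (allL N22392 (tt N10960 (iv1 D33719)) (tt N10964 F52973) (tt N42020 F109427) (tt N11010 (iv3 F190180)) (tt N43832 D73285) (tt N43833 D73286) (tt N33657 (iv6 F190184)) (tt N34344 F190165))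
theorem Q22394 : ∀ i, i < 22394 → P i := stepQ 22393 Q22393 (allL N22393 (tt N43834 D73287) (tt N43835 D73288) (tt N43623 (iv2 F110007)) (tt N43836 D73289) (tt N10960 (iv4 D33720)) (tt N43837 D73290) (tt N43838 D73291) (tt N43629 (iv7 F109981)))
theorem Q22395 : ∀ i, i < 22395 → P i := stepQ 22394 Q22394 (allL N22394 (tt N34597 F306556) (tt N34598 F306557) (tt N34596 (iv2 F307627)) (tt N12027 (iv3 F308119)) (tt N43838 (iv4 F109789)) (tt N12026 F306558) (tt N10960 (iv6 D33721)) (tt N27725 (iv7 F307629)))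
theorem Q22396 : ∀ i, i < 22396 → P i := stepQ 22395 Q22395 (allL N22395 (tt N10961 (iv1 D33724)) (tt N43624 (iv0 F110014)) (tt N28724 F308425) (tt N11013 (iv3 F190625)) (tt N28697 F308422) (tt N43839 D73298) (tt N24339 (iv6 F190605)) (tt N28728 F308426))
theorem Q22397 : ∀ i, i < 22397 → P i := stepQ 22396 Q22396 (allL N22396 (tt N22205 F52977) (tt N22825 F54487) (tt N22824 (iv2 F110012)) (tt N12028 (iv3 F308120)) (tt N43840 D73299) (tt N10961 (iv5 D33725)) (tt N12026 F306559) (tt N22823 (iv7 F110035)))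
theorem Q22398 : ∀ i, i < 22398 → P i := stepQ 22397 Q22397 (allL N22397 (tt N28724 F308423) (tt N28728 F308424) (tt N43624 (iv2 F110016)) (tt N43817 (iv3 F109714)) (tt N25629 (iv4 F306139)) (tt N22823 (iv5 F110034)) (tt N24248 F304037) (tt N10961 (iv7 D33726)))
theorem Q22399 : ∀ i, i < 22399 → P i := stepQ 22398 Q22398 (allL N22398 (tt N10962 (iv1 D33729)) (tt N43499 (iv0 F232286)) (tt N43500 (iv2 F232285)) (tt N11004 (iv3 F110023)) (tt N35010 F306409) (tt N42168 (iv5 F184634)) (tt N35390 (iv6 F210890)) (tt N21764 (iv7 F232291)))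
theorem Q22400 : ∀ i, i < 22400 → P i := stepQ 22399 Q22399 (allL N22399 (tt N21764 F232345) (tt N43500 F232346) (tt N10962 (iv2 D33730)) (tt N43410 (iv3 F130770)) (tt N43841 D73314) (tt N43842 D73315) (tt N43843 D73316) (tt N43499 (iv7 F232290)))
theorem Q22401 : ∀ i, i < 22401 → P i := stepQ 22400 Q22400 (allL N22400 (tt N21593 (iv1 F184622)) (tt N43844 D73318) (tt N43841 (iv2 F109809)) (tt N43845 D73319) (tt N10962 (iv4 D33731)) (tt N43846 D73320) (tt N43847 D73321) (tt N43617 (iv7 F110001)))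
theorem Q22402 : ∀ i, i < 22402 → P i := stepQ 22401 Q22401 (allL N22401 (tt N43848 D73322) (tt N43849 D73323) (tt N43842 (iv2 F109810)) (tt N10964 F52979) (tt N43850 D73324) (tt N10962 (iv5 D33732)) (tt N43851 D73325) (tt N43618 (iv7 F110002)))
theorem Q22403 : ∀ i, i < 22403 → P i := stepQ 22402 Q22402 (allL N22402 (tt N35002 (iv1 F304444)) (tt N34306 F304038) (tt N43843 (iv2 F109811)) (tt N10965 F52980) (tt N43847 (iv4 F109814)) (tt N23570 (iv5 F304661)) (tt N10962 (iv6 D33733)) (tt N43852 D73329))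
theorem Q22404 : ∀ i, i < 22404 → P i := stepQ 22403 Q22403 (allL N22403 (tt N43692 (iv1 F184765)) (tt N43853 D73331) (tt N43854 D73332) (tt N10963 (iv3 D33734)) (tt N43845 (iv4 F109813)) (tt N43855 D73333) (tt N14051 F301611) (tt N43620 (iv7 F110003)))
theorem Q22405 : ∀ i, i < 22405 → P i := stepQ 22404 Q22404 (allL N22404 (tt N43825 (iv1 F109722)) (tt N43824 F109725) (tt N43628 (iv2 F109977)) (tt N43855 (iv3 F109818)) (tt N43856 D73335) (tt N10963 (iv5 D33735)) (tt N25712 (iv6 F306632)) (tt N43621 (iv7 F110005)))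
theorem Q22406 : ∀ i, i < 22406 → P i := stepQ 22405 Q22405 (allL N22405 (tt N43835 (iv1 F109788)) (tt N43834 F109792) (tt N43629 (iv2 F109980)) (tt N43857 D73341) (tt N10964 (iv4 D33737)) (tt N43858 D73342) (tt N43859 D73343) (tt N43623 (iv7 F110008)))
theorem Q22407 : ∀ i, i < 22407 → P i := stepQ 22406 Q22406 (allL N22406 (tt N41823 F108788) (tt N41818 (iv0 F104935)) (tt N41821 (iv2 F109982)) (tt N43851 (iv3 F109815)) (tt N43859 (iv4 F109947)) (tt N17877 F306682) (tt N10964 (iv6 D33738)) (tt N41822 (iv7 F110045)))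
theorem Q22408 : ∀ i, i < 22408 → P i := stepQ 22407 Q22407 (allL N22407 (tt N11828 F302506) (tt N12584 F302507) (tt N24248 F302508) (tt N43852 (iv3 F109817)) (tt N14609 (iv4 F304369)) (tt N12599 (iv5 F304232)) (tt N43624 (iv6 F110018)) (tt N10965 (iv7 D33742)))
theorem Q22409 : ∀ i, i < 22409 → P i := stepQ 22408 Q22408 (allL N22408 (tt N10966 (iv1 D33744)) (tt N10967 F52984) (tt N22253 F54209) (tt N11027 F54095) (tt N36499 (iv4 F94708)) (tt N21001 F54096) (tt N41562 F318469) (tt N21691 F54097))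
theorem Q22410 : ∀ i, i < 22410 → P i := stepQ 22409 Q22409 (allL N22409 (tt N21893 F54116) (tt N43860 D73356) (tt N42192 (iv2 F105550)) (tt N43861 D73357) (tt N10966 (iv4 D33745)) (tt N43862 D73358) (tt N43863 D73359) (tt N22254 F52985))
theorem Q22411 : ∀ i, i < 22411 → P i := stepQ 22410 Q22410 (allL N22410 (tt N43864 D73360) (tt N43865 D73361) (tt N42193 (iv2 F105554)) (tt N42928 (iv3 F107723)) (tt N43863 (iv4 F110059)) (tt N43426 (iv5 F108816)) (tt N10966 (iv6 D33746)) (tt N43866 D73362))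
theorem Q22412 : ∀ i, i < 22412 → P i := stepQ 22411 Q22411 (allL N22411 (tt N43860 (iv1 F110047)) (tt N21893 F54117) (tt N22254 F52986) (tt N43867 D73363) (tt N10967 (iv4 D33747)) (tt N43868 D73364) (tt N43869 D73365) (tt N42192 (iv7 F105551)))
theorem Q22413 : ∀ i, i < 22413 → P i := stepQ 22412 Q22412 (allL N22412 (tt N43870 D73366) (tt N43349 (iv0 F199423)) (tt N22251 F52987) (tt N43502 (iv3 F109110)) (tt N43869 (iv4 F110066)) (tt N22197 F52988) (tt N10967 (iv6 D33748)) (tt N43871 D73368))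
theorem Q22414 : ∀ i, i < 22414 → P i := stepQ 22413 Q22413 (allL N22413 (tt N21888 F52989) (tt N43872 D73369) (tt N42196 (iv2 F105564)) (tt N43873 D73370) (tt N10968 (iv4 D33750)) (tt N43874 D73371) (tt N43875 D73372) (tt N42194 (iv7 F105557)))
theorem Q22415 : ∀ i, i < 22415 → P i := stepQ 22414 Q22414 (allL N22414 (tt N43876 D73373) (tt N43877 D73374) (tt N42197 (iv2 F105568)) (tt N42931 (iv3 F107734)) (tt N43875 (iv4 F110077)) (tt N25427 F308493) (tt N10968 (iv6 D33751)) (tt N27705 F308494))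
theorem Q22416 : ∀ i, i < 22416 → P i := stepQ 22415 Q22415 (allL N22415 (tt N21761 (iv1 F106804)) (tt N41717 F106805) (tt N42932 (iv2 F107735)) (tt N10969 (iv3 D33752)) (tt N43878 D73376) (tt N42675 (iv5 F106799)) (tt N43879 D73377) (tt N42195 (iv7 F105561)))
theorem Q22417 : ∀ i, i < 22417 → P i := stepQ 22416 Q22416 (allL N22416 (tt N43872 (iv1 F110073)) (tt N21888 F79148) (tt N42194 (iv2 F105556)) (tt N43880 D73378) (tt N10969 (iv4 D33753)) (tt N43881 D73379) (tt N43882 D73380) (tt N42196 (iv7 F105565)))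
theorem Q22418 : ∀ i, i < 22418 → P i := stepQ 22417 Q22417 (allL N22417 (tt N43883 D73381) (tt N43884 D73382) (tt N42065 (iv2 F105409)) (tt N43879 (iv3 F110082)) (tt N43882 (iv4 F110083)) (tt N42062 (iv5 F105406)) (tt N10969 (iv6 D33755)) (tt N43885 D73383))
theorem Q22419 : ∀ i, i < 22419 → P i := stepQ 22418 Q22418 (allL N22418 (tt N41950 (iv1 F105135)) (tt N10970 (iv0 D33756)) (tt N42199 F105577) (tt N43886 D73384) (tt N33908 F86059) (tt N43887 D73385) (tt N43888 D73386) (tt N42198 F105573))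
theorem Q22420 : ∀ i, i < 22420 → P i := stepQ 22419 Q22419 (allL N22419 (tt N10970 (iv1 D33757)) (tt N41950 F105136) (tt N42198 F105572) (tt N43889 D73387) (tt N33909 F86064) (tt N43890 D73388) (tt N43891 D73389) (tt N42199 (iv7 F105575)))
theorem Q22421 : ∀ i, i < 22421 → P i := stepQ 22420 Q22420 (allL N22420 (tt N43892 D73390) (tt N43893 D73391) (tt N43894 D73392) (tt N10970 (iv3 D33758)) (tt N11040 F52994) (tt N43895 D73393) (tt N30764 F319269) (tt N42200 (iv7 F105579)))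
theorem Q22422 : ∀ i, i < 22422 → P i := stepQ 22421 Q22421 (allL N22421 (tt N43896 D73394) (tt N36502 (iv0 F94710)) (tt N43408 (iv2 F108745)) (tt N43895 (iv3 F110086)) (tt N43897 D73395) (tt N10970 (iv5 D33759)) (tt N43898 D73396) (tt N42201 (iv7 F105580)))
theorem Q22423 : ∀ i, i < 22423 → P i := stepQ 22422 Q22422 (allL N22422 (tt N28792 F74513) (tt N28790 F74509) (tt N11019 F301121) (tt N10971 (iv3 D33760)) (tt N34271 (iv4 F87044)) (tt N43899 D73397) (tt N11016 (iv6 F303894)) (tt N34300 (iv7 F87151)))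
theorem Q22424 : ∀ i, i < 22424 → P i := stepQ 22423 Q22423 (allL N22423 (tt N21992 (iv1 F52999)) (tt N21989 F52998) (tt N10975 F52996) (tt N43899 (iv3 F110092)) (tt N17708 F52997) (tt N10971 (iv5 D33761)) (tt N43900 D73399) (tt N34301 (iv7 F87155)))
theorem Q22425 : ∀ i, i < 22425 → P i := stepQ 22424 Q22424 (allL N22424 (tt N10979 (iv1 F53006)) (tt N10972 (iv0 D33763)) (tt N10976 F187854) (tt N34172 F187887) (tt N21710 (iv4 F305141)) (tt N43901 D73407) (tt N10974 F304079) (tt N10977 F187855))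
theorem Q22426 : ∀ i, i < 22426 → P i := stepQ 22425 Q22425 (allL N22425 (tt N10972 (iv1 D33764)) (tt N10979 F53002) (tt N10977 (iv2 F187847)) (tt N35353 (iv3 F191118)) (tt N43902 D73409) (tt N43903 D73410) (tt N35417 (iv6 F305196)) (tt N10976 (iv7 F187853)))
theorem Q22427 : ∀ i, i < 22427 → P i := stepQ 22426 Q22426 (allL N22426 (tt N40970 F316929) (tt N40941 F316930) (tt N10978 F53003) (tt N34275 (iv3 F87053)) (tt N43904 D73414) (tt N10972 (iv5 D33765)) (tt N11484 F53004) (tt N40968 F312311))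
theorem Q22428 : ∀ i, i < 22428 → P i := stepQ 22427 Q22427 (allL N22427 (tt N10977 (iv1 F53007)) (tt N10976 F53008) (tt N10979 F53005) (tt N34276 (iv3 F87056)) (tt N11005 (iv4 F305565)) (tt N40968 F312310) (tt N34305 (iv6 F87165)) (tt N10972 (iv7 D33766)))
theorem Q22429 : ∀ i, i < 22429 → P i := stepQ 22428 Q22428 (allL N22428 (tt N43852 (iv1 F304941)) (tt N43843 (iv0 F304695)) (tt N35002 (iv2 F90645)) (tt N10973 (iv3 D33767)) (tt N34888 F90251) (tt N43096 (iv5 F108071)) (tt N43905 D73418) (tt N34306 (iv7 F87170)))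
theorem Q22430 : ∀ i, i < 22430 → P i := stepQ 22429 Q22429 (allL N22429 (tt N35415 (iv1 F199745)) (tt N12455 (iv0 F199746)) (tt N34307 (iv2 F87172)) (tt N43905 (iv3 F110119)) (tt N43020 (iv4 F107951)) (tt N43906 D73421) (tt N10973 (iv6 D33768)) (tt N35417 (iv7 F199749)))
theorem Q22431 : ∀ i, i < 22431 → P i := stepQ 22430 Q22430 (allL N22430 (tt N42988 (iv1 F107856)) (tt N43907 D73423) (tt N29775 (iv2 F77261)) (tt N10974 (iv3 D33769)) (tt N21711 F53009) (tt N21540 F53010) (tt N34172 F308167) (tt N29762 (iv7 F77219)))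
theorem Q22432 : ∀ i, i < 22432 → P i := stepQ 22431 Q22431 (allL N22431 (tt N34301 (iv1 F87158)) (tt N10975 (iv0 D33771)) (tt N21992 (iv2 F53013)) (tt N43908 D73427) (tt N35085 (iv4 F90805)) (tt N17126 F53012) (tt N43909 D73428) (tt N21989 F53014))
theorem Q22433 : ∀ i, i < 22433 → P i := stepQ 22432 Q22432 (allL N22432 (tt N17676 F53017) (tt N17710 F55269) (tt N17708 F53015) (tt N43910 D73429) (tt N10975 (iv4 D33772)) (tt N34684 (iv5 F88576)) (tt N43911 D73430) (tt N17709 F53016))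
theorem Q22434 : ∀ i, i < 22434 → P i := stepQ 22433 Q22433 (allL N22433 (tt N43912 D73431) (tt N43793 (iv0 F312385)) (tt N43900 (iv2 F110095)) (tt N11831 F53018) (tt N43911 (iv4 F110140)) (tt N34353 (iv5 F306174)) (tt N10975 (iv6 D33773)) (tt N43913 D73434))
theorem Q22435 : ∀ i, i < 22435 → P i := stepQ 22434 Q22434 (allL N22434 (tt N35355 (iv1 F190741)) (tt N35349 (iv0 F190369)) (tt N35352 (iv2 F191107)) (tt N10976 (iv3 D33779)) (tt N35004 F305184) (tt N43914 D73458) (tt N34306 F305185) (tt N35353 (iv7 F191120)))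
theorem Q22436 : ∀ i, i < 22436 → P i := stepQ 22435 Q22435 (allL N22435 (tt N43915 D73461) (tt N18596 (iv0 F305562)) (tt N21710 F305186) (tt N25832 F308383) (tt N10976 (iv4 D33780)) (tt N43916 D73464) (tt N18528 F305187) (tt N43902 (iv7 F187849)))
theorem Q22437 : ∀ i, i < 22437 → P i := stepQ 22436 Q22436 (allL N22436 (tt N43917 D73467) (tt N43918 D73468) (tt N43901 (iv2 F187860)) (tt N43914 (iv3 F110157)) (tt N43919 D73469) (tt N10976 (iv5 D33781)) (tt N43920 D73470) (tt N43903 (iv7 F187851)))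
theorem Q22438 : ∀ i, i < 22438 → P i := stepQ 22437 Q22437 (allL N22437 (tt N34171 (iv1 F130347)) (tt N34175 (iv0 F130348)) (tt N34173 F187883) (tt N10977 (iv3 D33784)) (tt N30517 F307998) (tt N20740 (iv5 F309988)) (tt N30516 (iv6 F309853)) (tt N34172 (iv7 F187886)))
theorem Q22439 : ∀ i, i < 22439 → P i := stepQ 22438 Q22438 (allL N22438 (tt N18596 (iv1 F305563)) (tt N43915 F110164) (tt N43902 (iv2 F187848)) (tt N18608 F305188) (tt N10977 (iv4 D33785)) (tt N43921 D73483) (tt N20245 (iv6 F312536)) (tt N21710 F305189))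
theorem Q22440 : ∀ i, i < 22440 → P i := stepQ 22439 Q22439 (allL N22439 (tt N43918 (iv1 F110165)) (tt N43917 F110168) (tt N43903 (iv2 F187850)) (tt N20740 F312228) (tt N43922 D73485) (tt N10977 (iv5 D33786)) (tt N43923 D73486) (tt N43901 (iv7 F187861)))
theorem Q22441 : ∀ i, i < 22441 → P i := stepQ 22440 Q22440 (allL N22440 (tt N12455 F304126) (tt N35415 (iv0 F305197)) (tt N35417 (iv2 F305195)) (tt N30516 F312045) (tt N20245 (iv4 F312535)) (tt N43924 D73489) (tt N10977 (iv6 D33787)) (tt N34307 F304127))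
theorem Q22442 : ∀ i, i < 22442 → P i := stepQ 22441 Q22441 (allL N22441 (tt N40968 F312302) (tt N10978 (iv0 D33788)) (tt N40970 (iv2 F314682)) (tt N43925 D73492) (tt N43926 D73493) (tt N43927 D73494) (tt N40940 (iv6 F314683)) (tt N40941 (iv7 F314681)))
theorem Q22443 : ∀ i, i < 22443 → P i := stepQ 22442 Q22442 (allL N22442 (tt N43928 D73501) (tt N43929 D73502) (tt N43904 (iv2 F110109)) (tt N41825 F314945) (tt N10978 (iv4 D33790)) (tt N43930 D73504) (tt N11495 F53024) (tt N43931 D73505))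
theorem Q22444 : ∀ i, i < 22444 → P i := stepQ 22443 Q22443 (allL N22443 (tt N40941 F316931) (tt N40970 F316932) (tt N40968 F312303) (tt N10985 F53025) (tt N43931 (iv4 F110179)) (tt N10979 F53026) (tt N43932 D73506) (tt N10978 (iv7 D33791)))
theorem Q22445 : ∀ i, i < 22445 → P i := stepQ 22444 Q22444 (allL N22444 (tt N34208 (iv1 F188449)) (tt N12261 F188448) (tt N34183 (iv2 F131617)) (tt N12232 F118003) (tt N10980 (iv4 D33795)) (tt N43933 D73522) (tt N34608 F298203) (tt N34185 (iv7 F131606)))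
theorem Q22446 : ∀ i, i < 22446 → P i := stepQ 22445 Q22445 (allL N22445 (tt N43934 D73524) (tt N16774 F313307) (tt N34184 (iv2 F131619)) (tt N10981 F53028) (tt N43935 D73526) (tt N10980 (iv5 D33796)) (tt N21436 F315589) (tt N34186 (iv7 F131609)))
theorem Q22447 : ∀ i, i < 22447 → P i := stepQ 22446 Q22446 (allL N22446 (tt N10982 (iv1 F53031)) (tt N10981 (iv0 D33798)) (tt N34294 F87104) (tt N43936 D73530) (tt N21459 F313159) (tt N11211 F53030) (tt N43937 D73532) (tt N34295 (iv7 F87107)))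
theorem Q22448 : ∀ i, i < 22448 → P i := stepQ 22447 Q22447 (allL N22447 (tt N10981 (iv1 D33799)) (tt N10982 F53034) (tt N34295 F87109) (tt N43918 (iv3 F232640)) (tt N21409 F313158) (tt N34047 (iv5 F86551)) (tt N20750 (iv6 F313565)) (tt N34294 F87105))
theorem Q22449 : ∀ i, i < 22449 → P i := stepQ 22448 Q22448 (allL N22448 (tt N42601 (iv1 F106477)) (tt N20987 F310958) (tt N18470 F310959) (tt N43938 D73535) (tt N10981 (iv4 D33800)) (tt N23096 (iv5 F311067)) (tt N14832 F310960) (tt N34296 (iv7 F87126)))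
theorem Q22450 : ∀ i, i < 22450 → P i := stepQ 22449 Q22449 (allL N22449 (tt N20987 (iv1 F310932)) (tt N42601 (iv0 F106476)) (tt N34296 (iv2 F87125)) (tt N43939 D73562) (tt N10982 (iv4 D33809)) (tt N41669 (iv5 F310933)) (tt N42855 F308774) (tt N18470 (iv7 F310934)))
theorem Q22451 : ∀ i, i < 22451 → P i := stepQ 22450 Q22450 (allL N22450 (tt N42667 (iv1 F106764)) (tt N21275 (iv0 F53141)) (tt N34297 (iv2 F87127)) (tt N43675 (iv3 F190769)) (tt N42855 F308773) (tt N43940 D73564) (tt N10982 (iv6 D33810)) (tt N21435 (iv7 F308784)))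
theorem Q22452 : ∀ i, i < 22452 → P i := stepQ 22451 Q22451 (allL N22451 (tt N11321 F53142) (tt N11319 F53143) (tt N25222 (iv2 F60517)) (tt N43676 (iv3 F190772)) (tt N43941 D73565) (tt N10983 (iv5 D33811)) (tt N43940 (iv6 F110220)) (tt N25220 (iv7 F60506)))
theorem Q22453 : ∀ i, i < 22453 → P i := stepQ 22452 Q22452 (allL N22452 (tt N34189 (iv1 F130247)) (tt N12428 (iv0 F130248)) (tt N34187 (iv2 F113952)) (tt N10984 (iv3 D33812)) (tt N43942 D73569) (tt N43943 D73570) (tt N40814 (iv6 F316384)) (tt N33405 F315904))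
theorem Q22454 : ∀ i, i < 22454 → P i := stepQ 22453 Q22453 (allL N22453 (tt N22152 (iv1 F53150)) (tt N17368 F53148) (tt N22153 F53144) (tt N43943 (iv3 F110224)) (tt N12405 F53147) (tt N10984 (iv5 D33814)) (tt N21448 F53145) (tt N17142 F53146))
theorem Q22455 : ∀ i, i < 22455 → P i := stepQ 22454 Q22454 (allL N22454 (tt N34602 (iv1 F88031)) (tt N34601 F88030) (tt N34299 (iv2 F87143)) (tt N43932 (iv3 F110180)) (tt N33622 (iv4 F311047)) (tt N34330 (iv5 F87237)) (tt N10985 (iv6 D33822)) (tt N11505 F53163))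
theorem Q22456 : ∀ i, i < 22456 → P i := stepQ 22455 Q22455 (allL N22455 (tt N34712 (iv1 F88662)) (tt N34711 F88661) (tt N11611 F53164) (tt N10986 (iv3 D33823)) (tt N34300 (iv4 F87150)) (tt N43944 D73593) (tt N43945 D73594) (tt N34271 (iv7 F87046)))
theorem Q22457 : ∀ i, i < 22457 → P i := stepQ 22456 Q22456 (allL N22456 (tt N12156 (iv1 F53168)) (tt N12195 F53167) (tt N10990 F53165) (tt N43944 (iv3 F110263)) (tt N32598 (iv4 F83194)) (tt N10986 (iv5 D33824)) (tt N43946 D73595) (tt N12194 F53166))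
theorem Q22458 : ∀ i, i < 22458 → P i := stepQ 22457 Q22457 (allL N22457 (tt N39533 F324782) (tt N43947 D73597) (tt N10991 F53169) (tt N43945 (iv3 F110267)) (tt N10987 F53170) (tt N43948 D73598) (tt N10986 (iv6 D33825)) (tt N43949 D73599))
theorem Q22459 : ∀ i, i < 22459 → P i := stepQ 22458 Q22458 (allL N22458 (tt N10994 (iv1 F53177)) (tt N10987 (iv0 D33826)) (tt N10992 F85916) (tt N35332 (iv3 F190609)) (tt N36083 F331976) (tt N43950 D73602) (tt N35439 (iv6 F199924)) (tt N10993 F85917))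
theorem Q22460 : ∀ i, i < 22460 → P i := stepQ 22459 Q22459 (allL N22459 (tt N10987 (iv1 D33827)) (tt N10994 F53171) (tt N10993 F85913) (tt N11001 F53172) (tt N43951 D73603) (tt N22023 (iv5 F53173)) (tt N34341 (iv6 F188620)) (tt N10992 F85914))
theorem Q22461 : ∀ i, i < 22461 → P i := stepQ 22460 Q22460 (allL N22460 (tt N10993 (iv1 F53178)) (tt N10992 F53179) (tt N10994 F53175) (tt N34305 (iv3 F87163)) (tt N43949 (iv4 F110274)) (tt N12423 F53176) (tt N34276 (iv6 F87057)) (tt N10987 (iv7 D33828)))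
theorem Q22462 : ∀ i, i < 22462 → P i := stepQ 22461 Q22461 (allL N22461 (tt N43952 D73605) (tt N43953 D73606) (tt N12143 F53180) (tt N10988 (iv3 D33829)) (tt N12223 F53181) (tt N12142 F53182) (tt N43954 D73607) (tt N34277 (iv7 F87064)))
theorem Q22463 : ∀ i, i < 22463 → P i := stepQ 22462 Q22462 (allL N22462 (tt N34332 (iv1 F184592)) (tt N11017 (iv0 F184593)) (tt N34279 (iv2 F87070)) (tt N43954 (iv3 F110303)) (tt N43226 (iv4 F108363)) (tt N43235 F303499) (tt N10988 (iv6 D33830)) (tt N34335 (iv7 F184599)))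
theorem Q22464 : ∀ i, i < 22464 → P i := stepQ 22463 Q22463 (allL N22463 (tt N12444 (iv1 F155141)) (tt N35432 (iv0 F155142)) (tt N34278 (iv2 F87069)) (tt N12128 F53183) (tt N21591 F53184) (tt N43955 D73614) (tt N10989 (iv6 D33831)) (tt N35434 (iv7 F155144)))
theorem Q22465 : ∀ i, i < 22465 → P i := stepQ 22464 Q22464 (allL N22464 (tt N12194 (iv1 F53187)) (tt N10990 (iv0 D33832)) (tt N12156 (iv2 F53186)) (tt N12224 F53189) (tt N43956 D73616) (tt N17076 F53185) (tt N43957 D73617) (tt N12195 F53188))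
theorem Q22466 : ∀ i, i < 22466 → P i := stepQ 22465 Q22465 (allL N22465 (tt N18562 F53190) (tt N43958 D73618) (tt N32598 (iv2 F83192)) (tt N43959 D73619) (tt N10990 (iv4 D33833)) (tt N32590 (iv5 F83168)) (tt N43960 D73620) (tt N34280 (iv7 F87075)))
theorem Q22467 : ∀ i, i < 22467 → P i := stepQ 22466 Q22466 (allL N22466 (tt N43961 D73621) (tt N43962 D73622) (tt N43946 (iv2 F110268)) (tt N11641 F53191) (tt N43960 (iv4 F110323)) (tt N36124 F324258) (tt N10990 (iv6 D33834)) (tt N43963 D73624))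
theorem Q22468 : ∀ i, i < 22468 → P i := stepQ 22467 Q22467 (allL N22467 (tt N43949 (iv1 F110276)) (tt N10991 (iv0 D33835)) (tt N39533 (iv2 F323462)) (tt N43964 D73626) (tt N43965 D73627) (tt N39134 F321764) (tt N43966 D73629) (tt N43947 (iv7 F155342)))
theorem Q22469 : ∀ i, i < 22469 → P i := stepQ 22468 Q22468 (allL N22468 (tt N10991 (iv1 D33836)) (tt N43949 F110275) (tt N43947 (iv2 F155341)) (tt N14362 F317266) (tt N43967 D73632) (tt N39534 F321767) (tt N43968 D73634) (tt N39533 (iv7 F323463)))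
theorem Q22470 : ∀ i, i < 22470 → P i := stepQ 22469 Q22469 (allL N22469 (tt N43969 D73635) (tt N43970 D73636) (tt N43948 (iv2 F110272)) (tt N11644 F53192) (tt N36125 F321022) (tt N10991 (iv5 D33837)) (tt N36124 (iv6 F322781)) (tt N43971 D73638))
theorem Q22471 : ∀ i, i < 22471 → P i := stepQ 22470 Q22470 (allL N22470 (tt N43947 (iv1 F110271)) (tt N39533 F324781) (tt N43949 (iv2 F110273)) (tt N11645 F53193) (tt N10994 F53194) (tt N43971 (iv5 F110331)) (tt N34285 (iv6 F87082)) (tt N10991 (iv7 D33838)))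
theorem Q22472 : ∀ i, i < 22472 → P i := stepQ 22471 Q22471 (allL N22471 (tt N43972 D73639) (tt N43179 (iv0 F190064)) (tt N36083 (iv2 F331945)) (tt N43973 D73641) (tt N10992 (iv4 D33841)) (tt N36001 F331937) (tt N43974 D73643) (tt N43951 (iv7 F110287)))
theorem Q22473 : ∀ i, i < 22473 → P i := stepQ 22472 Q22472 (allL N22472 (tt N43975 D73644) (tt N23060 (iv0 F113746)) (tt N43950 (iv2 F110281)) (tt N22025 F85912) (tt N43976 D73646) (tt N10992 (iv5 D33842)) (tt N22738 F313584) (tt N22023 F85915))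
theorem Q22474 : ∀ i, i < 22474 → P i := stepQ 22473 Q22473 (allL N22473 (tt N35433 (iv1 F199880)) (tt N35440 (iv0 F199952)) (tt N35439 (iv2 F199921)) (tt N34325 (iv3 F87220)) (tt N43974 (iv4 F110334)) (tt N43215 F108323) (tt N10992 (iv6 D33843)) (tt N35438 (iv7 F199920)))
theorem Q22475 : ∀ i, i < 22475 → P i := stepQ 22474 Q22474 (allL N22474 (tt N43179 (iv1 F190065)) (tt N43972 F110332) (tt N43951 (iv2 F110286)) (tt N43977 D73655) (tt N10993 (iv4 D33846)) (tt N36084 F331946) (tt N28796 F316747) (tt N36083 F331947))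
theorem Q22476 : ∀ i, i < 22476 → P i := stepQ 22475 Q22475 (allL N22475 (tt N23060 (iv1 F113747)) (tt N43975 F110335) (tt N22023 F85918) (tt N22223 F190597) (tt N43978 D73658) (tt N10993 (iv5 D33847)) (tt N17188 (iv6 F53197)) (tt N43950 (iv7 F110282)))
theorem Q22477 : ∀ i, i < 22477 → P i := stepQ 22476 Q22476 (allL N22476 (tt N34343 (iv1 F130752)) (tt N34334 (iv0 F131182)) (tt N34341 (iv2 F188617)) (tt N43723 (iv3 F190646)) (tt N28796 F316744) (tt N43979 D73661) (tt N10993 (iv6 D33848)) (tt N34342 (iv7 F188621)))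
theorem Q22478 : ∀ i, i < 22478 → P i := stepQ 22477 Q22477 (allL N22477 (tt N10998 (iv1 F53202)) (tt N10995 (iv0 D33855)) (tt N34320 F87192) (tt N43980 D73685) (tt N22833 (iv4 F307228)) (tt N11322 F53201) (tt N43981 D73687) (tt N34321 (iv7 F87195)))
theorem Q22479 : ∀ i, i < 22479 → P i := stepQ 22478 Q22478 (allL N22478 (tt N10995 (iv1 D33856)) (tt N10998 F53205) (tt N34321 F87197) (tt N23060 F130850) (tt N22834 (iv4 F307226)) (tt N23914 F303559) (tt N23057 (iv6 F130851)) (tt N34320 F87193))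
theorem Q22480 : ∀ i, i < 22480 → P i := stepQ 22479 Q22479 (allL N22479 (tt N12258 (iv1 F189968)) (tt N34216 F189967) (tt N34198 (iv2 F86909)) (tt N12208 F117679) (tt N10997 (iv4 D33862)) (tt N35889 F326692) (tt N43982 D73697) (tt N34196 (iv7 F86901)))
theorem Q22481 : ∀ i, i < 22481 → P i := stepQ 22480 Q22480 (allL N22480 (tt N43983 D73698) (tt N43984 D73699) (tt N34199 (iv2 F86911)) (tt N10998 F53207) (tt N43985 D73700) (tt N10997 (iv5 D33863)) (tt N17079 (iv6 F53237)) (tt N34197 (iv7 F86904)))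
theorem Q22482 : ∀ i, i < 22482 → P i := stepQ 22481 Q22481 (allL N22481 (tt N34251 (iv1 F186471)) (tt N34166 (iv0 F184256)) (tt N34200 (iv2 F86918)) (tt N10999 F53208) (tt N43982 (iv4 F110393)) (tt N43986 D73703) (tt N10997 (iv6 D33864)) (tt N34249 (iv7 F113930)))
theorem Q22483 : ∀ i, i < 22483 → P i := stepQ 22482 Q22482 (allL N22482 (tt N22778 (iv1 F302924)) (tt N22777 (iv0 F302925)) (tt N22779 (iv2 F302920)) (tt N43987 D73704) (tt N10998 (iv4 D33865)) (tt N22576 (iv5 F302926)) (tt N22765 F300120) (tt N15336 (iv7 F302927)))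
theorem Q22484 : ∀ i, i < 22484 → P i := stepQ 22483 Q22483 (allL N22483 (tt N38348 (iv1 F302915)) (tt N22829 (iv0 F54494)) (tt N34323 (iv2 F87213)) (tt N17079 F53238) (tt N22765 F300119) (tt N43988 D73706) (tt N10998 (iv6 D33866)) (tt N22744 (iv7 F302914)))
theorem Q22485 : ∀ i, i < 22485 → P i := stepQ 22484 Q22484 (allL N22484 (tt N11210 F53209) (tt N11207 F53210) (tt N34324 (iv2 F87215)) (tt N43986 (iv3 F110398)) (tt N38271 F308896) (tt N10999 (iv5 D33867)) (tt N43988 (iv6 F110408)) (tt N34347 (iv7 F87310)))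
theorem Q22486 : ∀ i, i < 22486 → P i := stepQ 22485 Q22485 (allL N22485 (tt N21449 F53217) (tt N17419 F53214) (tt N22025 F53211) (tt N43721 (iv3 F190539)) (tt N12373 F53213) (tt N11000 (iv5 D33870)) (tt N22029 F53216) (tt N17091 F53212))
theorem Q22487 : ∀ i, i < 22487 → P i := stepQ 22486 Q22486 (allL N22486 (tt N37452 (iv1 F311185)) (tt N43989 D73712) (tt N34325 (iv2 F87219)) (tt N43722 (iv3 F190650)) (tt N38330 F311150) (tt N34365 F87385) (tt N11000 (iv6 D33871)) (tt N43990 D73713))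
theorem Q22488 : ∀ i, i < 22488 → P i := stepQ 22487 Q22487 (allL N22487 (tt N38271 F97814) (tt N38274 (iv0 F97817)) (tt N34327 (iv2 F87225)) (tt N34341 (iv3 F188618)) (tt N21552 F307351) (tt N22024 F53218) (tt N11001 (iv6 D33872)) (tt N42820 F307352))
theorem Q22489 : ∀ i, i < 22489 → P i := stepQ 22488 Q22488 (allL N22488 (tt N34329 (iv1 F87235)) (tt N11002 (iv0 D33873)) (tt N21721 (iv2 F53220)) (tt N43991 D73715) (tt N17024 F53219) (tt N35454 F312480) (tt N37453 F312481) (tt N21725 (iv7 F53221)))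
theorem Q22490 : ∀ i, i < 22490 → P i := stepQ 22489 Q22489 (allL N22489 (tt N11002 (iv1 D33874)) (tt N34329 F87234) (tt N21725 (iv2 F53227)) (tt N43992 D73718) (tt N17025 F53223) (tt N12468 (iv5 F311427)) (tt N11207 F311139) (tt N21721 F53222))
theorem Q22491 : ∀ i, i < 22491 → P i := stepQ 22490 Q22490 (allL N22490 (tt N43993 D73721) (tt N43994 D73722) (tt N43995 D73723) (tt N11002 (iv3 D33875)) (tt N34190 (iv4 F86888)) (tt N43996 D73724) (tt N11802 F53228) (tt N43997 D73725))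
theorem Q22492 : ∀ i, i < 22492 → P i := stepQ 22491 Q22491 (allL N22491 (tt N17313 (iv1 F309337)) (tt N22541 F309231) (tt N22540 (iv2 F309330)) (tt N43996 (iv3 F110434)) (tt N34647 (iv4 F88398)) (tt N11002 (iv5 D33876)) (tt N43998 D73728) (tt N22539 (iv7 F309335)))
theorem Q22493 : ∀ i, i < 22493 → P i := stepQ 22492 Q22492 (allL N22492 (tt N21725 (iv1 F53230)) (tt N21721 F53231) (tt N34329 (iv2 F87231)) (tt N43997 (iv3 F110435)) (tt N11003 F53229) (tt N22539 F311117) (tt N43999 D73729) (tt N11002 (iv7 D33877)))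
theorem Q22494 : ∀ i, i < 22494 → P i := stepQ 22493 Q22493 (allL N22493 (tt N20757 F307115) (tt N20754 F307116) (tt N34330 (iv2 F87236)) (tt N12429 F53239) (tt N43999 (iv4 F110451)) (tt N34299 (iv5 F87145)) (tt N11003 (iv6 D33878)) (tt N11803 F53240))
theorem Q22495 : ∀ i, i < 22495 → P i := stepQ 22494 Q22494 (allL N22494 (tt N36607 F94865) (tt N42996 (iv0 F232293)) (tt N34348 (iv2 F162853)) (tt N43665 F307013) (tt N11004 (iv4 D33881)) (tt N44000 D73738) (tt N35413 (iv6 F210891)) (tt N33978 (iv7 F232299)))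
theorem Q22496 : ∀ i, i < 22496 → P i := stepQ 22495 Q22495 (allL N22495 (tt N34351 (iv1 F87332)) (tt N34350 F87331) (tt N11006 F53244) (tt N34333 (iv3 F87248)) (tt N42448 (iv4 F312492)) (tt N11005 (iv5 D33890)) (tt N29593 F310203) (tt N34349 (iv7 F87322)))
theorem Q22497 : ∀ i, i < 22497 → P i := stepQ 22496 Q22496 (allL N22496 (tt N34310 F305963) (tt N34309 F305964) (tt N11007 F53245) (tt N34334 (iv3 F87253)) (tt N34305 F305965) (tt N44001 D73772) (tt N11005 (iv6 D33891)) (tt N34302 F305966))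
theorem Q22498 : ∀ i, i < 22498 → P i := stepQ 22497 Q22497 (allL N22497 (tt N34349 (iv1 F87324)) (tt N11006 (iv0 D33897)) (tt N34351 (iv2 F232910)) (tt N43849 (iv3 F240733)) (tt N23237 F322021) (tt N44002 D73793) (tt N40944 F318109) (tt N34350 (iv7 F232911)))
theorem Q22499 : ∀ i, i < 22499 → P i := stepQ 22498 Q22498 (allL N22498 (tt N11006 (iv1 D33898)) (tt N34349 F87323) (tt N34350 F232912) (tt N44003 D73796) (tt N44004 D73797) (tt N44005 D73798) (tt N33651 F232918) (tt N34351 F232913))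
theorem Q22500 : ∀ i, i < 22500 → P i := stepQ 22499 Q22499 (allL N22499 (tt N44006 D73800) (tt N44007 D73801) (tt N42448 F312980) (tt N29908 (iv3 F315371)) (tt N11006 (iv4 D33899)) (tt N44008 D73803) (tt N23269 F312981) (tt N34352 (iv7 F87333)))
theorem Q22501 : ∀ i, i < 22501 → P i := stepQ 22500 Q22500 (allL N22500 (tt N16510 (iv1 F310737)) (tt N29587 (iv0 F310738)) (tt N29593 F308635) (tt N11012 F53248) (tt N23269 (iv4 F310739)) (tt N21701 F308636) (tt N11006 (iv6 D33900)) (tt N21662 (iv7 F310071)))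
theorem Q22502 : ∀ i, i < 22502 → P i := stepQ 22501 Q22501 (allL N22501 (tt N34302 F305959) (tt N11007 (iv0 D33901)) (tt N34310 F305960) (tt N43691 (iv3 F232897)) (tt N44009 D73811) (tt N29795 F308049) (tt N34304 (iv6 F232898)) (tt N34309 F305961))
theorem Q22503 : ∀ i, i < 22503 → P i := stepQ 22502 Q22502 (allL N22502 (tt N11007 (iv1 D33902)) (tt N34302 F305956) (tt N34309 F305957) (tt N44010 D73815) (tt N21720 (iv4 F307897)) (tt N42707 F309783) (tt N44011 D73818) (tt N34310 F305958))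
theorem Q22504 : ∀ i, i < 22504 → P i := stepQ 22503 Q22503 (allL N22503 (tt N21978 (iv1 F232428)) (tt N44012 D73820) (tt N44001 (iv2 F110480)) (tt N11014 F53249) (tt N34317 F309358) (tt N11007 (iv5 D33903)) (tt N21701 F309359) (tt N22842 (iv7 F54508)))
theorem Q22505 : ∀ i, i < 22505 → P i := stepQ 22504 Q22504 (allL N22504 (tt N11008 (iv1 D33910)) (tt N11020 F53253) (tt N11832 (iv2 F298410)) (tt N26004 F297257) (tt N25277 (iv4 F60635)) (tt N17599 (iv5 F53255)) (tt N11899 F53256) (tt N11691 F53254))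
theorem Q22506 : ∀ i, i < 22506 → P i := stepQ 22505 Q22505 (allL N22505 (tt N24345 (iv1 F58351)) (tt N35501 (iv0 F92634)) (tt N25504 (iv2 F61310)) (tt N44013 D73841) (tt N11008 (iv4 D33911)) (tt N35522 (iv5 F92744)) (tt N31342 F323151) (tt N11833 F302161))
theorem Q22507 : ∀ i, i < 22507 → P i := stepQ 22506 Q22506 (allL N22506 (tt N34169 (iv1 F110801)) (tt N34165 (iv0 F110799)) (tt N34245 (iv2 F113946)) (tt N11009 (iv3 D33913)) (tt N44014 D73846) (tt N22156 F53258) (tt N40823 F318115) (tt N34246 (iv7 F113951)))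
theorem Q22508 : ∀ i, i < 22508 → P i := stepQ 22507 Q22507 (allL N22507 (tt N29819 (iv1 F77402)) (tt N11500 F312986) (tt N34345 (iv2 F87266)) (tt N44015 D73848) (tt N11009 (iv4 D33914)) (tt N43155 (iv5 F315392)) (tt N40841 F317635) (tt N34346 (iv7 F87280)))
theorem Q22509 : ∀ i, i < 22509 → P i := stepQ 22508 Q22508 (allL N22508 (tt N11500 F312987) (tt N29819 (iv0 F77401)) (tt N34346 (iv2 F87278)) (tt N44016 D73856) (tt N11010 (iv4 D33917)) (tt N37388 (iv5 F315395)) (tt N33385 (iv6 F110653)) (tt N34345 (iv7 F87267)))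
theorem Q22510 : ∀ i, i < 22510 → P i := stepQ 22509 Q22509 (allL N22509 (tt N16976 F53268) (tt N16972 F53263) (tt N21448 F53260) (tt N43833 (iv3 F190148)) (tt N17431 F53262) (tt N11010 (iv5 D33918)) (tt N22153 (iv6 F53267)) (tt N17144 F53261))
theorem Q22511 : ∀ i, i < 22511 → P i := stepQ 22510 Q22510 (allL N22510 (tt N11021 (iv1 F53272)) (tt N11011 (iv0 D33919)) (tt N21669 (iv2 F313545)) (tt N20398 F317614) (tt N18613 F53271) (tt N38383 (iv5 F315377)) (tt N20396 F317615) (tt N21670 (iv7 F313551)))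
theorem Q22512 : ∀ i, i < 22512 → P i := stepQ 22511 Q22511 (allL N22511 (tt N11011 (iv1 D33920)) (tt N11021 F53273) (tt N21670 (iv2 F313549)) (tt N44017 D73861) (tt N18614 F53274) (tt N38359 (iv5 F315379)) (tt N21152 (iv6 F53275)) (tt N21669 (iv7 F313547)))
theorem Q22513 : ∀ i, i < 22513 → P i := stepQ 22512 Q22512 (allL N22512 (tt N44018 D73863) (tt N44019 D73864) (tt N44020 D73865) (tt N11011 (iv3 D33921)) (tt N29908 (iv4 F315372)) (tt N19040 (iv5 F315375)) (tt N16998 F312983) (tt N34354 (iv7 F87338)))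
theorem Q22514 : ∀ i, i < 22514 → P i := stepQ 22513 Q22513 (allL N22513 (tt N11207 F53281) (tt N11210 F53282) (tt N34347 (iv2 F87308)) (tt N43839 (iv3 F190629)) (tt N38274 F310928) (tt N11013 (iv5 D33928)) (tt N30518 F78758) (tt N34324 (iv7 F87216)))
theorem Q22515 : ∀ i, i < 22515 → P i := stepQ 22514 Q22514 (allL N22514 (tt N24544 F310856) (tt N43181 (iv0 F130780)) (tt N34331 (iv2 F130766)) (tt N44021 D73909) (tt N11015 (iv4 D33937)) (tt N44022 D73910) (tt N35431 (iv6 F199885)) (tt N33928 (iv7 F130777)))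
theorem Q22516 : ∀ i, i < 22516 → P i := stepQ 22515 Q22515 (allL N22515 (tt N34279 (iv1 F184570)) (tt N34335 F87254) (tt N11017 F53286) (tt N34272 F303102) (tt N11016 (iv4 D33940)) (tt N44023 D73919) (tt N34271 F303103) (tt N34332 (iv7 F87244)))
theorem Q22517 : ∀ i, i < 22517 → P i := stepQ 22516 Q22516 (allL N22516 (tt N34339 (iv1 F87259)) (tt N34338 F87258) (tt N11018 F53287) (tt N34349 (iv3 F87321)) (tt N44024 D73921) (tt N11016 (iv5 D33941)) (tt N41903 (iv6 F130734)) (tt N34333 (iv7 F87249)))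
theorem Q22518 : ∀ i, i < 22518 → P i := stepQ 22517 Q22517 (allL N22517 (tt N11017 (iv1 D33944)) (tt N34332 F87245) (tt N34335 (iv2 F184597)) (tt N44025 D73933) (tt N44026 D73934) (tt N44027 D73935) (tt N35434 (iv6 F184596)) (tt N34279 (iv7 F184594)))
theorem Q22519 : ∀ i, i < 22519 → P i := stepQ 22518 Q22518 (allL N22518 (tt N44028 D73942) (tt N44029 D73943) (tt N44023 (iv2 F110713)) (tt N34714 F303105) (tt N44030 D73944) (tt N11017 (iv5 D33946)) (tt N44031 D73945) (tt N34336 (iv7 F87256)))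
theorem Q22520 : ∀ i, i < 22520 → P i := stepQ 22519 Q22519 (allL N22519 (tt N34333 (iv1 F87251)) (tt N11018 (iv0 D33948)) (tt N34339 (iv2 F185123)) (tt N37079 F313656) (tt N44032 D73952) (tt N44033 D73953) (tt N41874 (iv6 F131181)) (tt N34338 (iv7 F185115)))
theorem Q22521 : ∀ i, i < 22521 → P i := stepQ 22520 Q22520 (allL N22520 (tt N11018 (iv1 D33949)) (tt N34333 F87250) (tt N34338 (iv2 F185114)) (tt N43814 (iv3 F190354)) (tt N44034 D73957) (tt N22128 (iv5 F130784)) (tt N44035 D73959) (tt N34339 (iv7 F185125)))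
theorem Q22522 : ∀ i, i < 22522 → P i := stepQ 22521 Q22521 (allL N22521 (tt N44036 D73960) (tt N44037 D73961) (tt N44024 (iv2 F110716)) (tt N44038 D73962) (tt N11018 (iv4 D33950)) (tt N44039 D73963) (tt N44040 D73964) (tt N34340 (iv7 F87260)))
theorem Q22523 : ∀ i, i < 22523 → P i := stepQ 22522 Q22522 (allL N22522 (tt N41904 (iv1 F131041)) (tt N33608 (iv0 F131205)) (tt N41903 (iv2 F130733)) (tt N11022 F53291) (tt N44040 (iv4 F110738)) (tt N44041 D73967) (tt N11018 (iv6 D33951)) (tt N41824 (iv7 F104942)))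
theorem Q22524 : ∀ i, i < 22524 → P i := stepQ 22523 Q22523 (allL N22523 (tt N34300 (iv1 F301346)) (tt N11019 (iv0 D33952)) (tt N28792 (iv2 F301343)) (tt N44042 D73969) (tt N24542 (iv4 F303885)) (tt N33947 (iv5 F131191)) (tt N44043 D73972) (tt N28790 (iv7 F301342)))
theorem Q22525 : ∀ i, i < 22525 → P i := stepQ 22524 Q22524 (allL N22524 (tt N11019 (iv1 D33953)) (tt N34300 (iv0 F301345)) (tt N28790 (iv2 F301341)) (tt N43640 (iv3 F190725)) (tt N24543 (iv4 F303890)) (tt N33948 (iv5 F184964)) (tt N34273 (iv6 F184961)) (tt N28792 (iv7 F301344)))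
theorem Q22526 : ∀ i, i < 22526 → P i := stepQ 22525 Q22525 (allL N22525 (tt N44044 D73978) (tt N44045 D73979) (tt N43899 (iv2 F303893)) (tt N11023 F53292) (tt N43959 (iv4 F303895)) (tt N11019 (iv5 D33954)) (tt N44041 (iv6 F110740)) (tt N34603 (iv7 F301347)))
theorem Q22527 : ∀ i, i < 22527 → P i := stepQ 22526 Q22526 (allL N22526 (tt N35501 (iv1 F92635)) (tt N24345 (iv0 F58350)) (tt N11833 (iv2 F299299)) (tt N31349 (iv3 F326090)) (tt N11020 (iv4 D33961)) (tt N18842 F317622) (tt N11820 F298421) (tt N25504 (iv7 F61311)))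
theorem Q22528 : ∀ i, i < 22528 → P i := stepQ 22527 Q22527 (allL N22527 (tt N44046 D74000) (tt N44047 D74001) (tt N44048 D74002) (tt N11021 (iv3 D33962)) (tt N44038 (iv4 F110737)) (tt N38326 F317592) (tt N44049 D74004) (tt N21667 F317593))
theorem Q22529 : ∀ i, i < 22529 → P i := stepQ 22528 Q22528 (allL N22528 (tt N21663 F314040) (tt N20398 (iv0 F53298)) (tt N21664 (iv2 F315388)) (tt N44049 (iv3 F110753)) (tt N11022 F53297) (tt N38344 (iv5 F316516)) (tt N11021 (iv6 D33964)) (tt N16997 F314041))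
theorem Q22530 : ∀ i, i < 22530 → P i := stepQ 22529 Q22529 (allL N22529 (tt N42231 F105636) (tt N44050 D74007) (tt N11831 (iv2 F301354)) (tt N44041 (iv3 F110739)) (tt N11641 (iv4 F303883)) (tt N11022 (iv5 D33965)) (tt N11023 F53299) (tt N38304 (iv7 F97891)))
theorem Q22531 : ∀ i, i < 22531 → P i := stepQ 22530 Q22530 (allL N22530 (tt N44051 D74015) (tt N41438 (iv0 F104210)) (tt N42979 (iv2 F107837)) (tt N16547 F53309) (tt N44052 D74016) (tt N11024 (iv5 D33969)) (tt N44053 D74017) (tt N34358 (iv7 F87371)))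
theorem Q22532 : ∀ i, i < 22532 → P i := stepQ 22531 Q22531 (allL N22531 (tt N33983 F86407) (tt N11025 (iv0 D33970)) (tt N23343 (iv2 F55651)) (tt N41419 (iv3 F104124)) (tt N44054 D74018) (tt N23329 F55608) (tt N41265 F323201) (tt N34359 (iv7 F87376)))
theorem Q22533 : ∀ i, i < 22533 → P i := stepQ 22532 Q22532 (allL N22532 (tt N11025 (iv1 D33971)) (tt N33983 (iv0 F86406)) (tt N34359 F87374) (tt N33996 F86463) (tt N44055 D74020) (tt N23344 (iv5 F55657)) (tt N44056 D74021) (tt N23343 F55655))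
theorem Q22534 : ∀ i, i < 22534 → P i := stepQ 22533 Q22533 (allL N22533 (tt N40122 F322623) (tt N21891 (iv0 F53310)) (tt N40127 F323761) (tt N25768 (iv3 F328504)) (tt N11025 (iv4 D33972)) (tt N44057 D74024) (tt N44058 D74025) (tt N34360 (iv7 F87377)))
theorem Q22535 : ∀ i, i < 22535 → P i := stepQ 22534 Q22534 (allL N22534 (tt N44059 D74026) (tt N44060 D74027) (tt N42980 (iv2 F107844)) (tt N11029 F53312) (tt N44058 (iv4 F110768)) (tt N30511 (iv5 F78740)) (tt N11025 (iv6 D33973)) (tt N44061 D74028))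
theorem Q22536 : ∀ i, i < 22536 → P i := stepQ 22535 Q22535 (allL N22535 (tt N33544 (iv1 F320097)) (tt N41028 (iv0 F316022)) (tt N21695 F53313) (tt N33238 F318385) (tt N40662 (iv4 F319227)) (tt N17006 F53314) (tt N11026 (iv6 D33974)) (tt N33453 (iv7 F316023)))
theorem Q22537 : ∀ i, i < 22537 → P i := stepQ 22536 Q22536 (allL N22536 (tt N11028 (iv1 D33976)) (tt N11030 F53317) (tt N21860 (iv2 F53321)) (tt N44062 D74031) (tt N17327 F53320) (tt N21860 F53319) (tt N23609 F323867) (tt N21863 F53318))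
theorem Q22538 : ∀ i, i < 22538 → P i := stepQ 22537 Q22537 (allL N22537 (tt N44063 D74033) (tt N28696 (iv0 F328606)) (tt N44064 D74035) (tt N11028 (iv3 D33977)) (tt N25768 (iv4 F328505)) (tt N22556 (iv5 F53329)) (tt N44065 D74036) (tt N34362 (iv7 F87380)))
theorem Q22539 : ∀ i, i < 22539 → P i := stepQ 22538 Q22538 (allL N22538 (tt N12377 F309216) (tt N35287 F309217) (tt N23692 (iv2 F311373)) (tt N44065 (iv3 F110784)) (tt N11029 F53322) (tt N17493 (iv5 F311430)) (tt N11028 (iv6 D33978)) (tt N23669 (iv7 F309326)))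
theorem Q22540 : ∀ i, i < 22540 → P i := stepQ 22539 Q22539 (allL N22539 (tt N34357 (iv1 F87368)) (tt N11029 (iv0 D33979)) (tt N23713 F309333) (tt N43385 (iv3 F200716)) (tt N17498 F309334) (tt N22492 (iv5 F311117)) (tt N35428 F106121) (tt N22491 F309335))
theorem Q22541 : ∀ i, i < 22541 → P i := stepQ 22540 Q22540 (allL N22540 (tt N11029 (iv1 D33980)) (tt N34357 F87367) (tt N22491 F309330) (tt N43865 F243064) (tt N23715 F309331) (tt N17295 (iv5 F309633)) (tt N42328 F105968) (tt N23713 F309332))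
theorem Q22542 : ∀ i, i < 22542 → P i := stepQ 22541 Q22541 (allL N22541 (tt N22491 (iv1 F309231)) (tt N23713 (iv0 F309232)) (tt N34357 (iv2 F87363)) (tt N44061 (iv3 F110769)) (tt N23669 (iv4 F309325)) (tt N23688 F307312) (tt N34366 (iv6 F87389)) (tt N11029 (iv7 D33981)))
theorem Q22543 : ∀ i, i < 22543 → P i := stepQ 22542 Q22542 (allL N22542 (tt N29169 (iv1 F329904)) (tt N29172 (iv0 F329905)) (tt N44066 D74050) (tt N11030 (iv3 D33982)) (tt N27593 (iv4 F329906)) (tt N22549 (iv5 F53326)) (tt N44067 D74051) (tt N34356 (iv7 F87359)))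
theorem Q22544 : ∀ i, i < 22544 → P i := stepQ 22543 Q22543 (allL N22543 (tt N44068 D74052) (tt N44069 D74053) (tt N34363 (iv2 F87381)) (tt N44067 (iv3 F110790)) (tt N11031 F53323) (tt N37229 F320266) (tt N11030 (iv6 D33983)) (tt N44070 D74055))
theorem Q22545 : ∀ i, i < 22545 → P i := stepQ 22544 Q22544 (allL N22544 (tt N34366 (iv1 F87395)) (tt N11031 (iv0 D33984)) (tt N34364 (iv2 F87393)) (tt N43870 (iv3 F199427)) (tt N42878 (iv4 F189475)) (tt N43990 (iv5 F110417)) (tt N44071 D74058) (tt N34365 F87394))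
theorem Q22546 : ∀ i, i < 22546 → P i := stepQ 22545 Q22545 (allL N22545 (tt N11031 (iv1 D33985)) (tt N34366 F87391) (tt N34365 (iv2 F87386)) (tt N43215 (iv3 F108324)) (tt N42879 F108326) (tt N34325 (iv5 F87221)) (tt N12448 (iv6 F60350)) (tt N34364 (iv7 F87392)))
theorem Q22547 : ∀ i, i < 22547 → P i := stepQ 22546 Q22546 (allL N22546 (tt N34365 (iv1 F87383)) (tt N34364 F87390) (tt N34366 (iv2 F87388)) (tt N34149 (iv3 F86818)) (tt N44070 (iv4 F110791)) (tt N34126 (iv5 F86794)) (tt N34357 (iv6 F87365)) (tt N11031 (iv7 D33986)))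
theorem Q22548 : ∀ i, i < 22548 → P i := stepQ 22547 Q22547 (allL N22547 (tt N44072 D74059) (tt N21885 (iv0 F53324)) (tt N42981 (iv2 F107845)) (tt N29339 (iv3 F329482)) (tt N11032 (iv4 D33988)) (tt N28203 F329203) (tt N44073 D74062) (tt N34374 (iv7 F87408)))
theorem Q22549 : ∀ i, i < 22549 → P i := stepQ 22548 Q22548 (allL N22548 (tt N44074 D74063) (tt N44075 D74064) (tt N42982 (iv2 F107849)) (tt N11034 F53325) (tt N44073 (iv4 F110814)) (tt N37480 (iv5 F96076)) (tt N11032 (iv6 D33989)) (tt N44076 D74065))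
theorem Q22550 : ∀ i, i < 22550 → P i := stepQ 22549 Q22549 (allL N22549 (tt N44077 D74066) (tt N44078 D74067) (tt N44079 D74068) (tt N11033 (iv3 D33990)) (tt N29339 F329672) (tt N22542 F53326) (tt N44080 D74069) (tt N34376 (iv7 F87412)))
theorem Q22551 : ∀ i, i < 22551 → P i := stepQ 22550 Q22550 (allL N22550 (tt N44081 D74070) (tt N24717 (iv0 F320134)) (tt N34370 (iv2 F87400)) (tt N44080 (iv3 F110817)) (tt N11034 F53327) (tt N44082 D74072) (tt N11033 (iv6 D33991)) (tt N44083 D74073))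
theorem Q22552 : ∀ i, i < 22552 → P i := stepQ 22551 Q22551 (allL N22551 (tt N34373 (iv1 F87407)) (tt N11034 (iv0 D33992)) (tt N34371 (iv2 F189532)) (tt N44084 D74075) (tt N44085 D74076) (tt N44086 D74077) (tt N35453 F92353) (tt N34372 F189531))
theorem Q22553 : ∀ i, i < 22553 → P i := stepQ 22552 Q22552 (allL N22552 (tt N11034 (iv1 D33993)) (tt N34373 F87406) (tt N34372 F189530) (tt N43877 (iv3 F209904)) (tt N44087 D74080) (tt N41053 F316193) (tt N41054 F316194) (tt N34371 (iv7 F189533)))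
theorem Q22554 : ∀ i, i < 22554 → P i := stepQ 22553 Q22553 (allL N22553 (tt N34372 (iv1 F87402)) (tt N34371 F87405) (tt N34373 (iv2 F87403)) (tt N44076 (iv3 F110815)) (tt N44083 (iv4 F110819)) (tt N37482 (iv5 F96082)) (tt N34380 (iv6 F87417)) (tt N11034 (iv7 D33994)))
theorem Q22555 : ∀ i, i < 22555 → P i := stepQ 22554 Q22554 (allL N22554 (tt N44088 D74083) (tt N44089 D74084) (tt N42948 (iv2 F107780)) (tt N44090 D74085) (tt N11035 (iv4 D33995)) (tt N44091 D74086) (tt N44092 D74087) (tt N34367 (iv7 F87396)))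
theorem Q22556 : ∀ i, i < 22556 → P i := stepQ 22555 Q22555 (allL N22555 (tt N20659 F319189) (tt N20647 F319190) (tt N20656 (iv2 F322312)) (tt N11037 F53328) (tt N44092 (iv4 F110830)) (tt N33693 (iv5 F85455)) (tt N11035 (iv6 D33996)) (tt N20657 (iv7 F322318)))
theorem Q22557 : ∀ i, i < 22557 → P i := stepQ 22556 Q22556 (allL N22556 (tt N29159 (iv1 F328220)) (tt N29165 (iv0 F328221)) (tt N44093 D74092) (tt N11036 (iv3 D33997)) (tt N44090 (iv4 F110829)) (tt N22537 F53329) (tt N44094 D74093) (tt N34369 (iv7 F87399)))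
theorem Q22558 : ∀ i, i < 22558 → P i := stepQ 22557 Q22557 (allL N22557 (tt N44095 D74094) (tt N36215 F321559) (tt N34377 (iv2 F87413)) (tt N44094 (iv3 F110833)) (tt N11037 F53330) (tt N25322 F316313) (tt N11036 (iv6 D33998)) (tt N44096 D74097))
theorem Q22559 : ∀ i, i < 22559 → P i := stepQ 22558 Q22558 (allL N22558 (tt N34380 (iv1 F87420)) (tt N11037 (iv0 D33999)) (tt N34378 (iv2 F185089)) (tt N43883 (iv3 F190310)) (tt N44097 D74100) (tt N44098 D74101) (tt N44099 D74102) (tt N34379 (iv7 F185087)))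
theorem Q22560 : ∀ i, i < 22560 → P i := stepQ 22559 Q22559 (allL N22559 (tt N11037 (iv1 D34000)) (tt N34380 F87419) (tt N34379 (iv2 F185086)) (tt N16764 F320459) (tt N31961 F325378) (tt N44100 D74106) (tt N16761 F320460) (tt N34378 (iv7 F185090)))
theorem Q22561 : ∀ i, i < 22561 → P i := stepQ 22560 Q22560 (allL N22560 (tt N34379 (iv1 F87415)) (tt N34378 F87418) (tt N34380 (iv2 F87416)) (tt N20657 F320556) (tt N44096 (iv4 F110835)) (tt N42399 (iv5 F106122)) (tt N34373 (iv6 F87404)) (tt N11037 (iv7 D34001)))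
theorem Q22562 : ∀ i, i < 22562 → P i := stepQ 22561 Q22561 (allL N22561 (tt N44101 D74107) (tt N44102 D74108) (tt N44103 D74109) (tt N11038 (iv3 D34002)) (tt N44104 D74110) (tt N20885 F323252) (tt N44105 D74111) (tt N34383 (iv7 F87424)))
theorem Q22563 : ∀ i, i < 22563 → P i := stepQ 22562 Q22562 (allL N22562 (tt N44085 (iv1 F208513)) (tt N44087 (iv0 F208510)) (tt N34382 (iv2 F87422)) (tt N44105 (iv3 F110843)) (tt N22580 (iv4 F53352)) (tt N44106 D74114) (tt N11038 (iv6 D34003)) (tt N44107 D74115))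
theorem Q22564 : ∀ i, i < 22564 → P i := stepQ 22563 Q22563 (allL N22563 (tt N44108 D74116) (tt N44109 D74117) (tt N44110 D74118) (tt N11039 (iv3 D34004)) (tt N20895 F319662) (tt N22572 (iv5 F53337)) (tt N39605 F319663) (tt N34381 (iv7 F87421)))
theorem Q22565 : ∀ i, i < 22565 → P i := stepQ 22564 Q22564 (allL N22564 (tt N44097 (iv1 F189619)) (tt N31961 (iv0 F324193)) (tt N34384 (iv2 F87425)) (tt N39605 (iv3 F319213)) (tt N22581 (iv4 F53356)) (tt N31277 F323138) (tt N11039 (iv6 D34005)) (tt N40642 F316874))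
theorem Q22566 : ∀ i, i < 22566 → P i := stepQ 22565 Q22565 (allL N22565 (tt N42345 (iv1 F106022)) (tt N11040 (iv0 D34006)) (tt N42344 (iv2 F353035)) (tt N44111 D74125) (tt N44112 D74126) (tt N44113 D74127) (tt N44114 D74128) (tt N42343 F353034))
theorem Q22567 : ∀ i, i < 22567 → P i := stepQ 22566 Q22566 (allL N22566 (tt N11040 (iv1 D34007)) (tt N42345 F106024) (tt N42343 F353026) (tt N27059 (iv3 F329961)) (tt N44115 D74131) (tt N44116 D74132) (tt N44117 D74133) (tt N42344 (iv7 F353036)))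
theorem Q22568 : ∀ i, i < 22568 → P i := stepQ 22567 Q22567 (allL N22567 (tt N42344 (iv1 F106023)) (tt N42343 F106019) (tt N11040 (iv2 D34008)) (tt N34387 (iv3 F87427)) (tt N43894 (iv4 F110085)) (tt N44118 D74134) (tt N35458 (iv6 F92368)) (tt N42345 (iv7 F106021)))
theorem Q22569 : ∀ i, i < 22569 → P i := stepQ 22568 Q22568 (allL N22568 (tt N44119 D74135) (tt N44120 D74136) (tt N44118 (iv2 F110848)) (tt N11041 F53332) (tt N44121 D74137) (tt N11040 (iv5 D34009)) (tt N44122 D74138) (tt N17326 F53333))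
theorem Q22570 : ∀ i, i < 22570 → P i := stepQ 22569 Q22569 (allL N22569 (tt N44123 D74139) (tt N44124 D74140) (tt N21472 F53334) (tt N44122 (iv3 F110857)) (tt N16981 F53335) (tt N35461 (iv5 F92375)) (tt N11041 (iv6 D34010)) (tt N25186 (iv7 F60396)))
theorem Q22571 : ∀ i, i < 22571 → P i := stepQ 22570 Q22570 (allL N22570 (tt N33900 (iv1 F86009)) (tt N33899 F86014) (tt N33902 (iv2 F86012)) (tt N44125 D74141) (tt N11042 (iv4 D34011)) (tt N44126 D74142) (tt N44127 D74143) (tt N33873 (iv7 F85993)))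
theorem Q22572 : ∀ i, i < 22572 → P i := stepQ 22571 Q22571 (allL N22571 (tt N44128 D74144) (tt N44129 D74145) (tt N33903 (iv2 F86017)) (tt N11044 F53336) (tt N44127 (iv4 F110864)) (tt N30682 (iv5 F79187)) (tt N11042 (iv6 D34012)) (tt N44130 D74146))
theorem Q22573 : ∀ i, i < 22573 → P i := stepQ 22572 Q22572 (allL N22572 (tt N39405 (iv1 F323330)) (tt N44131 D74148) (tt N44132 D74149) (tt N11043 (iv3 D34013)) (tt N44125 (iv4 F110862)) (tt N22563 F53337) (tt N44133 D74150) (tt N34390 (iv7 F87447)))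
theorem Q22574 : ∀ i, i < 22574 → P i := stepQ 22573 Q22573 (allL N22573 (tt N17498 (iv1 F309183)) (tt N23715 (iv0 F309182)) (tt N23712 (iv2 F309162)) (tt N44133 (iv3 F110868)) (tt N11044 F53338) (tt N17861 (iv5 F309234)) (tt N11043 (iv6 D34014)) (tt N23711 F307246))
theorem Q22575 : ∀ i, i < 22575 → P i := stepQ 22574 Q22574 (allL N22574 (tt N34389 (iv1 F87445)) (tt N11044 (iv0 D34015)) (tt N24992 F307217) (tt N24950 (iv3 F309180)) (tt N17866 (iv4 F309181)) (tt N21719 (iv5 F308863)) (tt N35487 F92490) (tt N21718 F307218))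
theorem Q22576 : ∀ i, i < 22576 → P i := stepQ 22575 Q22575 (allL N22575 (tt N11044 (iv1 D34016)) (tt N34389 F87444) (tt N21718 F307215) (tt N44134 D74160) (tt N24994 (iv4 F309178)) (tt N17026 (iv5 F308901)) (tt N41223 F322417) (tt N24992 F307216))
theorem Q22577 : ∀ i, i < 22577 → P i := stepQ 22576 Q22576 (allL N22576 (tt N21718 (iv1 F305285)) (tt N24992 (iv0 F305286)) (tt N34389 (iv2 F87439)) (tt N44130 (iv3 F110866)) (tt N23711 (iv4 F305287)) (tt N22482 F302926) (tt N34394 (iv6 F87456)) (tt N11044 (iv7 D34017)))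
theorem Q22578 : ∀ i, i < 22578 → P i := stepQ 22577 Q22577 (allL N22577 (tt N21489 F53341) (tt N19401 (iv0 F53342)) (tt N32977 (iv2 F83803)) (tt N43369 (iv3 F108558)) (tt N11045 (iv4 D34018)) (tt N32959 (iv5 F83782)) (tt N16282 F53339) (tt N11436 F53340))
theorem Q22579 : ∀ i, i < 22579 → P i := stepQ 22578 Q22578 (allL N22578 (tt N21523 (iv1 F79147)) (tt N30677 (iv0 F79149)) (tt N44135 D74163) (tt N11047 (iv3 D34019)) (tt N21001 F53343) (tt N34388 (iv5 F87429)) (tt N16815 F53344) (tt N11515 F53345))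
theorem Q22580 : ∀ i, i < 22580 → P i := stepQ 22579 Q22579 (allL N22579 (tt N17047 F53349) (tt N17036 (iv0 F53350)) (tt N20984 F53346) (tt N11049 F53347) (tt N44136 D74164) (tt N11048 (iv5 D34020)) (tt N44137 D74165) (tt N18625 F53348))
theorem Q22581 : ∀ i, i < 22581 → P i := stepQ 22580 Q22580 (allL N22580 (tt N44138 D74166) (tt N44139 D74167) (tt N18624 F53351) (tt N44137 (iv3 F110889)) (tt N22562 F53352) (tt N19043 F53353) (tt N11049 (iv6 D34021)) (tt N44140 D74168))
theorem Q22582 : ∀ i, i < 22582 → P i := stepQ 22581 Q22581 (allL N22581 (tt N36220 F320651) (tt N36209 F320652) (tt N18626 F53354) (tt N16717 F314549) (tt N22564 F53356) (tt N16811 F53357) (tt N11050 (iv6 D34022)) (tt N20578 F314550))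
theorem Q22583 : ∀ i, i < 22583 → P i := stepQ 22582 Q22582 (allL N22582 (tt N21588 F54164) (tt N21614 (iv0 F55301)) (tt N21565 F53358) (tt N11053 F53359) (tt N21475 F53360) (tt N44141 D74172) (tt N11051 (iv6 D34023)) (tt N21557 F53361))
theorem Q22584 : ∀ i, i < 22584 → P i := stepQ 22583 Q22583 (allL N22583 (tt N21659 (iv1 F54176)) (tt N16998 (iv0 F54172)) (tt N21513 F53370) (tt N44141 (iv3 F110916)) (tt N32740 (iv4 F83446)) (tt N11053 (iv5 D34027)) (tt N18566 F53371) (tt N21640 (iv7 F54163)))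
theorem Q22585 : ∀ i, i < 22585 → P i := stepQ 22584 Q22584 (allL N22584 (tt N15537 (iv1 F53373)) (tt N11057 (iv0 D34028)) (tt N22588 F53382) (tt N44142 D74173) (tt N14894 F53372) (tt N44143 D74174) (tt N44144 D74175) (tt N18164 (iv7 F53374)))
theorem Q22586 : ∀ i, i < 22586 → P i := stepQ 22585 Q22585 (allL N22585 (tt N11057 (iv1 D34029)) (tt N15537 F53375) (tt N18164 (iv2 F53377)) (tt N44145 D74176) (tt N18163 F53376) (tt N44146 D74177) (tt N44147 D74178) (tt N22588 (iv7 F53384)))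
theorem Q22587 : ∀ i, i < 22587 → P i := stepQ 22586 Q22586 (allL N22586 (tt N36337 F94412) (tt N36317 (iv0 F94368)) (tt N36334 F94401) (tt N11057 (iv3 D34030)) (tt N35753 (iv4 F93189)) (tt N21282 F53381) (tt N19915 F53378) (tt N31785 (iv7 F81303)))
theorem Q22588 : ∀ i, i < 22588 → P i := stepQ 22587 Q22587 (allL N22587 (tt N39590 (iv1 F100454)) (tt N39587 (iv0 F100443)) (tt N22590 (iv2 F53386)) (tt N21282 (iv3 F53380)) (tt N21296 F53379) (tt N11057 (iv5 D34031)) (tt N44148 D74179) (tt N31786 (iv7 F81316)))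
theorem Q22589 : ∀ i, i < 22589 → P i := stepQ 22588 Q22588 (allL N22588 (tt N15914 (iv1 F53383)) (tt N11058 (iv0 D34032)) (tt N22584 (iv2 F53382)) (tt N30961 (iv3 F79726)) (tt N29849 (iv4 F77443)) (tt N39596 (iv5 F100460)) (tt N44149 D74180) (tt N22585 F53384))
theorem Q22590 : ∀ i, i < 22590 → P i := stepQ 22589 Q22589 (allL N22589 (tt N44150 D74181) (tt N44151 D74182) (tt N44152 D74183) (tt N11058 (iv3 D34033)) (tt N29477 (iv4 F76483)) (tt N44153 D74184) (tt N19918 F53385) (tt N31074 (iv7 F79898)))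
theorem Q22591 : ∀ i, i < 22591 → P i := stepQ 22590 Q22590 (allL N22590 (tt N44154 D74185) (tt N32437 (iv0 F82845)) (tt N22587 F53386) (tt N44153 (iv3 F110945)) (tt N32012 (iv4 F82045)) (tt N11058 (iv5 D34034)) (tt N44155 D74186) (tt N31075 (iv7 F79899)))
theorem Q22592 : ∀ i, i < 22592 → P i := stepQ 22591 Q22591 (allL N22591 (tt N44156 D74187) (tt N44157 D74188) (tt N11067 F53387) (tt N44158 D74189) (tt N11059 (iv4 D34035)) (tt N44159 D74190) (tt N20137 F53388) (tt N11073 F53389))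
theorem Q22593 : ∀ i, i < 22593 → P i := stepQ 22592 Q22592 (allL N22592 (tt N44157 (iv1 F110962)) (tt N44156 F110955) (tt N11073 F53390) (tt N44160 D74191) (tt N11060 (iv4 D34036)) (tt N44160 F110977) (tt N44161 D74192) (tt N11067 F53391))
theorem Q22594 : ∀ i, i < 22594 → P i := stepQ 22593 Q22593 (allL N22593 (tt N44162 D74193) (tt N16603 (iv0 F53394)) (tt N11074 F53392) (tt N22617 (iv3 F53460)) (tt N44161 (iv4 F110981)) (tt N19342 F53393) (tt N11060 (iv6 D34037)) (tt N44163 D74194))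
theorem Q22595 : ∀ i, i < 22595 → P i := stepQ 22594 Q22594 (allL N22594 (tt N20046 (iv1 F53398)) (tt N16141 F53397) (tt N11076 F53395) (tt N44164 D74195) (tt N11061 (iv4 D34038)) (tt N39509 (iv5 F100344)) (tt N44165 D74196) (tt N11079 F53396))
theorem Q22596 : ∀ i, i < 22596 → P i := stepQ 22595 Q22595 (allL N22595 (tt N20250 F161261) (tt N44166 D74198) (tt N11077 F53399) (tt N15076 F53400) (tt N44165 (iv4 F110999)) (tt N15922 F53401) (tt N11061 (iv6 D34039)) (tt N44167 D74199))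
theorem Q22597 : ∀ i, i < 22597 → P i := stepQ 22596 Q22596 (allL N22596 (tt N11085 (iv1 F53405)) (tt N11062 (iv0 D34040)) (tt N11081 (iv2 F53403)) (tt N44168 D74200) (tt N15207 F53402) (tt N44169 D74201) (tt N44170 D74202) (tt N11082 (iv7 F53404)))
theorem Q22598 : ∀ i, i < 22598 → P i := stepQ 22597 Q22597 (allL N22597 (tt N11062 (iv1 D34041)) (tt N11085 F53406) (tt N11082 (iv2 F53409)) (tt N44171 D74203) (tt N18280 F53408) (tt N44172 D74204) (tt N44173 D74205) (tt N11081 F53407))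
theorem Q22599 : ∀ i, i < 22599 → P i := stepQ 22598 Q22598 (allL N22598 (tt N44174 D74206) (tt N44175 D74207) (tt N44176 D74208) (tt N11062 (iv3 D34042)) (tt N19861 F53410) (tt N44177 D74209) (tt N16592 F53411) (tt N44178 D74210))
theorem Q22600 : ∀ i, i < 22600 → P i := stepQ 22599 Q22599 (allL N22599 (tt N44179 D74211) (tt N44180 D74212) (tt N11084 F53412) (tt N44177 (iv3 F111033)) (tt N30630 (iv4 F79003)) (tt N11062 (iv5 D34043)) (tt N44181 D74213) (tt N30628 (iv7 F79000)))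
theorem Q22601 : ∀ i, i < 22601 → P i := stepQ 22600 Q22600 (allL N22600 (tt N11082 (iv1 F53415)) (tt N11081 F53416) (tt N11085 F53413) (tt N44178 (iv3 F111034)) (tt N11063 F53414) (tt N30628 (iv5 F78997)) (tt N44182 D74214) (tt N11062 (iv7 D34044)))
theorem Q22602 : ∀ i, i < 22602 → P i := stepQ 22601 Q22601 (allL N22601 (tt N16658 (iv1 F53421)) (tt N16657 F53422) (tt N11086 F53417) (tt N19864 F53418) (tt N44182 (iv4 F111047)) (tt N22601 F53419) (tt N11063 (iv6 D34045)) (tt N16595 F53420))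
theorem Q22603 : ∀ i, i < 22603 → P i := stepQ 22602 Q22602 (allL N22602 (tt N19235 F53423) (tt N44183 D74215) (tt N22604 (iv2 F53426)) (tt N30627 F78993) (tt N11064 (iv4 D34046)) (tt N44184 D74216) (tt N44185 D74217) (tt N22616 (iv7 F53459)))
theorem Q22604 : ∀ i, i < 22604 → P i := stepQ 22603 Q22603 (allL N22603 (tt N44186 D74218) (tt N37275 (iv0 F111325)) (tt N22605 (iv2 F53427)) (tt N11068 F53424) (tt N44185 (iv4 F111061)) (tt N19889 F53425) (tt N11064 (iv6 D34047)) (tt N44187 D74220))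
theorem Q22605 : ∀ i, i < 22605 → P i := stepQ 22604 Q22604 (allL N22604 (tt N30583 (iv1 F78937)) (tt N30585 (iv0 F78942)) (tt N22602 F53426) (tt N44188 D74221) (tt N11065 (iv4 D34048)) (tt N30626 (iv5 F78988)) (tt N44189 D74222) (tt N30172 (iv7 F78145)))
theorem Q22606 : ∀ i, i < 22606 → P i := stepQ 22605 Q22605 (allL N22605 (tt N44190 D74223) (tt N39876 (iv0 F111316)) (tt N22603 F53427) (tt N29931 (iv3 F77631)) (tt N44189 (iv4 F111069)) (tt N29927 (iv5 F77622)) (tt N11065 (iv6 D34049)) (tt N44191 D74225))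
theorem Q22607 : ∀ i, i < 22607 → P i := stepQ 22606 Q22606 (allL N22606 (tt N11073 (iv1 F53429)) (tt N11067 (iv0 D34050)) (tt N44156 F110956) (tt N44192 D74226) (tt N19143 F53428) (tt N39510 (iv5 F100347)) (tt N44193 D74227) (tt N44157 (iv7 F110963)))
theorem Q22608 : ∀ i, i < 22608 → P i := stepQ 22607 Q22607 (allL N22607 (tt N11067 (iv1 D34051)) (tt N11073 F53430) (tt N44157 F110965) (tt N44194 D74228) (tt N30442 (iv4 F78566)) (tt N39511 (iv5 F100350)) (tt N44195 D74229) (tt N44156 F110957))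
theorem Q22609 : ∀ i, i < 22609 → P i := stepQ 22608 Q22608 (allL N22608 (tt N44196 D74230) (tt N44197 D74231) (tt N44159 (iv2 F110971)) (tt N11067 (iv3 D34052)) (tt N30627 (iv4 F78994)) (tt N11067 F78995) (tt N44198 D74232) (tt N44160 (iv7 F110975)))
theorem Q22610 : ∀ i, i < 22610 → P i := stepQ 22609 Q22609 (allL N22609 (tt N44199 D74233) (tt N44200 D74234) (tt N20137 F53431) (tt N44198 (iv3 F111094)) (tt N11068 F53432) (tt N44201 D74235) (tt N11067 (iv6 D34054)) (tt N44202 D74236))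
theorem Q22611 : ∀ i, i < 22611 → P i := stepQ 22610 Q22610 (allL N22610 (tt N20138 (iv1 F53437)) (tt N11068 (iv0 D34055)) (tt N20135 F99844) (tt N19938 F111222) (tt N44203 D74238) (tt N33156 F84139) (tt N16609 F53433) (tt N20136 (iv7 F99843)))
theorem Q22612 : ∀ i, i < 22612 → P i := stepQ 22611 Q22611 (allL N22611 (tt N11068 (iv1 D34056)) (tt N20138 F53434) (tt N20136 (iv2 F99845)) (tt N11093 (iv3 F111228)) (tt N44204 D74240) (tt N22671 F111210) (tt N41065 (iv6 F111226)) (tt N20135 (iv7 F99840)))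
theorem Q22613 : ∀ i, i < 22613 → P i := stepQ 22612 Q22612 (allL N22612 (tt N20136 (iv1 F53438)) (tt N20135 F53439) (tt N20138 F53435) (tt N44187 (iv3 F111065)) (tt N44202 (iv4 F111098)) (tt N19894 F53436) (tt N44163 (iv6 F110992)) (tt N11068 (iv7 D34057)))
theorem Q22614 : ∀ i, i < 22614 → P i := stepQ 22613 Q22613 (allL N22613 (tt N14941 (iv1 F53442)) (tt N11069 (iv0 D34058)) (tt N15062 (iv2 F53441)) (tt N19378 (iv3 F53444)) (tt N30639 (iv4 F79035)) (tt N19994 F53440) (tt N15115 F53445) (tt N15061 F53443))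
theorem Q22615 : ∀ i, i < 22615 → P i := stepQ 22614 Q22614 (allL N22614 (tt N20842 F53454) (tt N20838 F53455) (tt N15069 F53452) (tt N44205 D74242) (tt N11069 (iv4 D34059)) (tt N35566 (iv5 F92860)) (tt N41459 (iv6 F104280)) (tt N15063 F53453))
theorem Q22616 : ∀ i, i < 22616 → P i := stepQ 22615 Q22615 (allL N22615 (tt N32035 (iv1 F82124)) (tt N15093 (iv0 F53458)) (tt N15070 F53456) (tt N11074 F53457) (tt N41459 (iv4 F104279)) (tt N37393 (iv5 F95914)) (tt N11069 (iv6 D34060)) (tt N32034 (iv7 F82115)))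
theorem Q22617 : ∀ i, i < 22617 → P i := stepQ 22616 Q22616 (allL N22616 (tt N30585 (iv1 F78943)) (tt N30583 (iv0 F78936)) (tt N30172 (iv2 F78144)) (tt N44184 (iv3 F111056)) (tt N11071 (iv4 D34061)) (tt N30627 (iv5 F78992)) (tt N44206 D74243) (tt N22602 F53459))
theorem Q22618 : ∀ i, i < 22618 → P i := stepQ 22617 Q22617 (allL N22617 (tt N40087 (iv1 F164862)) (tt N30241 (iv0 F78236)) (tt N30173 (iv2 F78147)) (tt N22593 F53460) (tt N44206 (iv4 F111116)) (tt N38110 (iv5 F97394)) (tt N11071 (iv6 D34062)) (tt N40086 (iv7 F101149)))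
theorem Q22619 : ∀ i, i < 22619 → P i := stepQ 22618 Q22618 (allL N22618 (tt N44207 D74245) (tt N44208 D74246) (tt N44209 D74247) (tt N11073 (iv3 D34063)) (tt N44205 (iv4 F111114)) (tt N44209 F111124) (tt N44210 D74248) (tt N44158 (iv7 F110970)))
theorem Q22620 : ∀ i, i < 22620 → P i := stepQ 22619 Q22619 (allL N22619 (tt N44197 (iv1 F111089)) (tt N44196 F111086) (tt N44160 (iv2 F110978)) (tt N44209 (iv3 F111123)) (tt N30626 F78989) (tt N11073 (iv5 D34064)) (tt N44211 D74249) (tt N44159 (iv7 F110972)))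
theorem Q22621 : ∀ i, i < 22621 → P i := stepQ 22620 Q22620 (allL N22620 (tt N44212 D74250) (tt N41118 (iv0 F111093)) (tt N44161 (iv2 F110980)) (tt N44210 (iv3 F111125)) (tt N11074 F53461) (tt N44213 D74251) (tt N11073 (iv6 D34065)) (tt N44214 D74252))
theorem Q22622 : ∀ i, i < 22622 → P i := stepQ 22621 Q22621 (allL N22621 (tt N44163 (iv1 F110994)) (tt N11074 (iv0 D34066)) (tt N44162 F110985) (tt N11103 (iv3 F53463)) (tt N44215 D74253) (tt N19614 (iv5 F53464)) (tt N20361 F53462) (tt N16603 (iv7 F53465)))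
theorem Q22623 : ∀ i, i < 22623 → P i := stepQ 22622 Q22622 (allL N22622 (tt N11074 (iv1 D34067)) (tt N44163 F110993) (tt N16603 F53468) (tt N19804 F53469) (tt N44216 D74254) (tt N16569 (iv5 F53467)) (tt N15085 (iv6 F53466)) (tt N44162 (iv7 F110987)))
theorem Q22624 : ∀ i, i < 22624 → P i := stepQ 22623 Q22623 (allL N22623 (tt N16603 (iv1 F53471)) (tt N44162 F110988) (tt N44163 (iv2 F110989)) (tt N32034 F82117) (tt N44214 (iv4 F111126)) (tt N37398 (iv5 F95921)) (tt N20138 F53470) (tt N11074 (iv7 D34068)))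
theorem Q22625 : ∀ i, i < 22625 → P i := stepQ 22624 Q22624 (allL N22624 (tt N15294 F53474) (tt N15267 F53475) (tt N15290 F53472) (tt N39512 (iv3 F100352)) (tt N11075 (iv4 D34069)) (tt N39512 (iv5 F100353)) (tt N44217 D74255) (tt N15291 F53473))
theorem Q22626 : ∀ i, i < 22626 → P i := stepQ 22625 Q22625 (allL N22625 (tt N44218 D74256) (tt N44219 D74257) (tt N31565 (iv2 F80903)) (tt N11077 F53476) (tt N44217 (iv4 F111135)) (tt N30879 F79631) (tt N11075 (iv6 D34070)) (tt N44220 D74258))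
theorem Q22627 : ∀ i, i < 22627 → P i := stepQ 22626 Q22626 (allL N22626 (tt N11079 (iv1 F53478)) (tt N11076 (iv0 D34071)) (tt N20046 F53480) (tt N44221 D74259) (tt N16142 F53477) (tt N44196 (iv5 F111084)) (tt N44222 D74260) (tt N16141 (iv7 F53479)))
theorem Q22628 : ∀ i, i < 22628 → P i := stepQ 22627 Q22627 (allL N22627 (tt N11076 (iv1 D34072)) (tt N11079 F53481) (tt N16141 (iv2 F53484)) (tt N44223 D74261) (tt N15813 F53483) (tt N44197 (iv5 F111091)) (tt N16623 (iv6 F53485)) (tt N20046 F53482))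
theorem Q22629 : ∀ i, i < 22629 → P i := stepQ 22628 Q22628 (allL N22628 (tt N44224 D74262) (tt N44225 D74263) (tt N44165 (iv2 F110998)) (tt N39513 (iv3 F100355)) (tt N11077 F53488) (tt N44226 D74264) (tt N11076 (iv6 D34075)) (tt N44227 D74265))
theorem Q22630 : ∀ i, i < 22630 → P i := stepQ 22629 Q22629 (allL N22629 (tt N44167 (iv1 F111012)) (tt N11077 (iv0 D34076)) (tt N20250 F161260) (tt N19953 F161298) (tt N44228 D74267) (tt N44229 D74268) (tt N16635 (iv6 F83878)) (tt N44166 (iv7 F111005)))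
theorem Q22631 : ∀ i, i < 22631 → P i := stepQ 22630 Q22630 (allL N22630 (tt N11077 (iv1 D34077)) (tt N44167 F111011) (tt N44166 F111006) (tt N11111 (iv3 F161256)) (tt N44230 D74270) (tt N31981 F161254) (tt N44231 D74272) (tt N20250 (iv7 F161259)))
theorem Q22632 : ∀ i, i < 22632 → P i := stepQ 22631 Q22631 (allL N22631 (tt N44166 (iv1 F111004)) (tt N20250 F161262) (tt N44167 (iv2 F111007)) (tt N44220 (iv3 F111136)) (tt N44227 (iv4 F111151)) (tt N15961 (iv5 F81358)) (tt N20044 F53490) (tt N11077 (iv7 D34078)))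
theorem Q22633 : ∀ i, i < 22633 → P i := stepQ 22632 Q22632 (allL N22632 (tt N44232 D74273) (tt N44233 D74274) (tt N15078 F53491) (tt N11080 F53492) (tt N35559 (iv4 F92848)) (tt N19866 F53493) (tt N11078 (iv6 D34079)) (tt N44234 D74275))
theorem Q22634 : ∀ i, i < 22634 → P i := stepQ 22633 Q22633 (allL N22633 (tt N44235 D74276) (tt N44236 D74277) (tt N44237 D74278) (tt N11079 (iv3 D34080)) (tt N35557 (iv4 F92842)) (tt N44238 D74279) (tt N44239 D74280) (tt N44164 (iv7 F110997)))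
theorem Q22635 : ∀ i, i < 22635 → P i := stepQ 22634 Q22634 (allL N22634 (tt N39508 (iv1 F100346)) (tt N39507 F100342) (tt N20048 F53494) (tt N44238 (iv3 F111473)) (tt N30617 (iv4 F78979)) (tt N11079 (iv5 D34081)) (tt N44240 D74281) (tt N39509 (iv7 F100345)))
theorem Q22636 : ∀ i, i < 22636 → P i := stepQ 22635 Q22635 (allL N22635 (tt N44241 D74282) (tt N44242 D74283) (tt N20043 F53495) (tt N44239 (iv3 F111477)) (tt N11080 F53496) (tt N44243 D74284) (tt N11079 (iv6 D34082)) (tt N44244 D74285))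
theorem Q22637 : ∀ i, i < 22637 → P i := stepQ 22636 Q22636 (allL N22636 (tt N20044 (iv1 F53501)) (tt N11080 (iv0 D34083)) (tt N20041 (iv2 F99943)) (tt N11117 F101989) (tt N44245 D74286) (tt N19959 (iv5 F53503)) (tt N44246 D74287) (tt N20042 F99939))
theorem Q22638 : ∀ i, i < 22638 → P i := stepQ 22637 Q22637 (allL N22637 (tt N11080 (iv1 D34084)) (tt N20044 F53497) (tt N20042 F99944) (tt N19960 F101985) (tt N44247 D74288) (tt N19960 (iv5 F81361)) (tt N16627 (iv6 F81363)) (tt N20041 F99942))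
theorem Q22639 : ∀ i, i < 22639 → P i := stepQ 22638 Q22638 (allL N22638 (tt N20042 (iv1 F53502)) (tt N20041 F53504) (tt N20044 F53499) (tt N44234 (iv3 F111465)) (tt N44244 (iv4 F111482)) (tt N19874 F53500) (tt N44167 (iv6 F111010)) (tt N11080 (iv7 D34085)))
theorem Q22640 : ∀ i, i < 22640 → P i := stepQ 22639 Q22639 (allL N22639 (tt N44248 D74289) (tt N44249 D74290) (tt N44250 D74291) (tt N11081 (iv3 D34086)) (tt N31577 (iv4 F80935)) (tt N22646 F167137) (tt N44251 D74293) (tt N44171 (iv7 F111023)))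
theorem Q22641 : ∀ i, i < 22641 → P i := stepQ 22640 Q22640 (allL N22640 (tt N44252 D74294) (tt N37420 (iv0 F95945)) (tt N44169 (iv2 F111015)) (tt N22646 F167136) (tt N30612 (iv4 F78977)) (tt N11081 (iv5 D34087)) (tt N44253 D74295) (tt N44172 (iv7 F111025)))
theorem Q22642 : ∀ i, i < 22642 → P i := stepQ 22641 Q22641 (allL N22641 (tt N44228 (iv1 F161389)) (tt N44230 (iv0 F111158)) (tt N44170 (iv2 F111020)) (tt N44251 (iv3 F111500)) (tt N32147 (iv4 F82417)) (tt N44254 D74297) (tt N11081 (iv6 D34088)) (tt N44255 D74298))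
theorem Q22643 : ∀ i, i < 22643 → P i := stepQ 22642 Q22642 (allL N22642 (tt N44256 D74299) (tt N44257 D74300) (tt N44258 D74301) (tt N11082 (iv3 D34089)) (tt N44259 D74302) (tt N44260 D74303) (tt N44261 D74304) (tt N44168 (iv7 F111014)))
theorem Q22644 : ∀ i, i < 22644 → P i := stepQ 22643 Q22643 (allL N22643 (tt N37420 (iv1 F95946)) (tt N44252 F111504) (tt N44172 (iv2 F111024)) (tt N44260 (iv3 F111508)) (tt N30605 (iv4 F78972)) (tt N11082 (iv5 D34090)) (tt N44262 D74305) (tt N44169 (iv7 F111016)))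
theorem Q22645 : ∀ i, i < 22645 → P i := stepQ 22644 Q22644 (allL N22644 (tt N44245 (iv1 F162015)) (tt N44247 (iv0 F162013)) (tt N44173 (iv2 F111028)) (tt N44261 (iv3 F111509)) (tt N32148 (iv4 F82419)) (tt N44263 D74308) (tt N11082 (iv6 D34091)) (tt N44264 D74309))
theorem Q22646 : ∀ i, i < 22646 → P i := stepQ 22645 Q22645 (allL N22645 (tt N44265 D74310) (tt N11083 (iv0 D34092)) (tt N44266 D74311) (tt N44267 D74312) (tt N44268 D74313) (tt N44269 D74314) (tt N44270 D74315) (tt N44271 D74316))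
theorem Q22647 : ∀ i, i < 22647 → P i := stepQ 22646 Q22646 (allL N22646 (tt N11083 (iv1 D34093)) (tt N44265 F111515) (tt N44271 (iv2 F111517)) (tt N22640 (iv3 F167136)) (tt N44272 D74318) (tt N22639 (iv5 F167137)) (tt N44273 D74320) (tt N44266 F111516))
theorem Q22648 : ∀ i, i < 22648 → P i := stepQ 22647 Q22647 (allL N22647 (tt N44266 (iv1 F167139)) (tt N44271 (iv0 F167133)) (tt N11083 (iv2 D34094)) (tt N44176 (iv3 F111030)) (tt N11127 F53505) (tt N44274 D74323) (tt N16648 F53506) (tt N44265 (iv7 F111514)))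
theorem Q22649 : ∀ i, i < 22649 → P i := stepQ 22648 Q22648 (allL N22648 (tt N44275 D74324) (tt N44276 D74325) (tt N44274 (iv2 F111522)) (tt N11084 F53507) (tt N44277 D74326) (tt N11083 (iv5 D34095)) (tt N44278 D74327) (tt N44279 D74328))
theorem Q22650 : ∀ i, i < 22650 → P i := stepQ 22649 Q22649 (allL N22649 (tt N44271 (iv1 F167134)) (tt N44266 (iv0 F167138)) (tt N44265 F111512) (tt N11085 F53508) (tt N11129 F53509) (tt N44279 (iv5 F111528)) (tt N44280 D74329) (tt N11083 (iv7 D34096)))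
theorem Q22651 : ∀ i, i < 22651 → P i := stepQ 22650 Q22650 (allL N22650 (tt N30628 (iv1 F78999)) (tt N11084 (iv0 D34097)) (tt N44179 F111038) (tt N44281 D74330) (tt N30600 (iv4 F78966)) (tt N30581 (iv5 F78931)) (tt N44282 D74331) (tt N44180 (iv7 F111041)))
theorem Q22652 : ∀ i, i < 22652 → P i := stepQ 22651 Q22651 (allL N22651 (tt N11084 (iv1 D34098)) (tt N30628 (iv0 F78998)) (tt N44180 F111043) (tt N44283 D74332) (tt N30589 (iv4 F78964)) (tt N30597 F78963) (tt N44284 D74333) (tt N44179 F111039))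
theorem Q22653 : ∀ i, i < 22653 → P i := stepQ 22652 Q22652 (allL N22652 (tt N30627 (iv1 F78991)) (tt N30626 F78990) (tt N30630 (iv2 F79002)) (tt N44285 D74334) (tt N11084 (iv4 D34099)) (tt N30574 (iv5 F78903)) (tt N44286 D74335) (tt N30573 F78900))
theorem Q22654 : ∀ i, i < 22654 → P i := stepQ 22653 Q22653 (allL N22653 (tt N44287 D74336) (tt N44288 D74337) (tt N44181 (iv2 F111044)) (tt N44278 (iv3 F111525)) (tt N44286 (iv4 F111532)) (tt N16654 F53510) (tt N11084 (iv6 D34100)) (tt N44289 D74338))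
theorem Q22655 : ∀ i, i < 22655 → P i := stepQ 22654 Q22654 (allL N22654 (tt N44180 (iv1 F111040)) (tt N44179 F111037) (tt N30628 (iv2 F78996)) (tt N44279 (iv3 F111527)) (tt N30573 (iv4 F78899)) (tt N11085 F53511) (tt N44290 D74339) (tt N11084 (iv7 D34101)))
theorem Q22656 : ∀ i, i < 22656 → P i := stepQ 22655 Q22655 (allL N22655 (tt N44291 D74340) (tt N44292 D74341) (tt N44182 (iv2 F111046)) (tt N44280 (iv3 F111529)) (tt N11086 F53512) (tt N44293 D74342) (tt N11085 (iv6 D34102)) (tt N16656 F53513))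
theorem Q22657 : ∀ i, i < 22657 → P i := stepQ 22656 Q22656 (allL N22656 (tt N16595 (iv1 F53514)) (tt N11086 (iv0 D34103)) (tt N16658 F99275) (tt N44294 D74343) (tt N44295 D74344) (tt N40171 (iv5 F101278)) (tt N44296 D74345) (tt N16657 F99276))
theorem Q22658 : ∀ i, i < 22658 → P i := stepQ 22657 Q22657 (allL N22657 (tt N11086 (iv1 D34104)) (tt N16595 F53515) (tt N16657 F99273) (tt N15146 (iv3 F165538)) (tt N44297 D74347) (tt N44298 D74348) (tt N38583 F98436) (tt N16658 F99274))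
theorem Q22659 : ∀ i, i < 22659 → P i := stepQ 22658 Q22658 (allL N22658 (tt N15372 (iv1 F53517)) (tt N11087 (iv0 D34105)) (tt N20220 (iv2 F53573)) (tt N44299 D74349) (tt N19667 F53516) (tt N39964 (iv5 F100931)) (tt N44300 D74350) (tt N20219 F53576))
theorem Q22660 : ∀ i, i < 22660 → P i := stepQ 22659 Q22659 (allL N22659 (tt N11087 (iv1 D34106)) (tt N15372 F53518) (tt N20219 F53575) (tt N44301 D74351) (tt N19668 F53519) (tt N39965 (iv5 F100938)) (tt N20467 (iv6 F93315)) (tt N20220 (iv7 F53574)))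
theorem Q22661 : ∀ i, i < 22661 → P i := stepQ 22660 Q22660 (allL N22660 (tt N44302 D74352) (tt N44303 D74353) (tt N44304 D74354) (tt N11087 (iv3 D34107)) (tt N11090 F53520) (tt N44305 D74355) (tt N42904 (iv6 F312833)) (tt N20221 F53521))
theorem Q22662 : ∀ i, i < 22662 → P i := stepQ 22661 Q22661 (allL N22661 (tt N19730 F53631) (tt N19680 F53524) (tt N30702 (iv2 F79257)) (tt N44305 (iv3 F111571)) (tt N19697 F53523) (tt N11087 (iv5 D34108)) (tt N44306 D74357) (tt N20222 F53522))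
theorem Q22663 : ∀ i, i < 22663 → P i := stepQ 22662 Q22662 (allL N22662 (tt N44307 D74358) (tt N44308 D74359) (tt N30703 (iv2 F79258)) (tt N42904 F315251) (tt N11088 F53525) (tt N44309 D74360) (tt N11087 (iv6 D34109)) (tt N44310 D74361))
theorem Q22664 : ∀ i, i < 22664 → P i := stepQ 22663 Q22663 (allL N22663 (tt N30706 (iv1 F79267)) (tt N11088 (iv0 D34110)) (tt N30704 F101225) (tt N35813 F111338) (tt N44311 D74362) (tt N31540 F80857) (tt N16668 F53526) (tt N30705 (iv7 F101224)))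
theorem Q22665 : ∀ i, i < 22665 → P i := stepQ 22664 Q22664 (allL N22664 (tt N11088 (iv1 D34111)) (tt N30706 F79266) (tt N30705 (iv2 F101226)) (tt N37247 (iv3 F111315)) (tt N44312 D74363) (tt N31539 (iv5 F80855)) (tt N41070 (iv6 F163968)) (tt N30704 (iv7 F101221)))
theorem Q22666 : ∀ i, i < 22666 → P i := stepQ 22665 Q22665 (allL N22665 (tt N30705 (iv1 F79262)) (tt N30704 F79265) (tt N30706 (iv2 F79264)) (tt N11094 F53527) (tt N44310 (iv4 F111578)) (tt N16733 F53528) (tt N20225 F53529) (tt N11088 (iv7 D34112)))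
theorem Q22667 : ∀ i, i < 22667 → P i := stepQ 22666 Q22666 (allL N22666 (tt N35479 F311548) (tt N35478 F311549) (tt N12512 (iv2 F313976)) (tt N11089 (iv3 D34113)) (tt N44313 D74368) (tt N12511 F311550) (tt N20503 F53530) (tt N19247 F53531))
theorem Q22668 : ∀ i, i < 22668 → P i := stepQ 22667 Q22667 (allL N22667 (tt N20228 (iv1 F53532)) (tt N11090 (iv0 D34114)) (tt N20227 F245746) (tt N44314 D74370) (tt N44315 D74371) (tt N35105 (iv5 F312250)) (tt N44316 D74373) (tt N20226 F245747))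
theorem Q22669 : ∀ i, i < 22669 → P i := stepQ 22668 Q22668 (allL N22668 (tt N11090 (iv1 D34115)) (tt N20228 F53536) (tt N20226 (iv2 F245743)) (tt N44317 D74375) (tt N44318 D74376) (tt N35108 F310575) (tt N20496 (iv6 F326383)) (tt N20227 (iv7 F245745)))
theorem Q22670 : ∀ i, i < 22670 → P i := stepQ 22669 Q22669 (allL N22669 (tt N20227 (iv1 F53537)) (tt N20226 F53535) (tt N11090 (iv2 D34116)) (tt N20214 F53533) (tt N44304 (iv4 F111566)) (tt N44319 D74379) (tt N36493 (iv6 F310666)) (tt N20228 F53534))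
theorem Q22671 : ∀ i, i < 22671 → P i := stepQ 22670 Q22670 (allL N22670 (tt N44320 D74381) (tt N44321 D74382) (tt N44319 (iv2 F111599)) (tt N11091 F53538) (tt N29348 (iv4 F307268)) (tt N11090 (iv5 D34117)) (tt N23660 (iv6 F307269)) (tt N20229 F53539))
theorem Q22672 : ∀ i, i < 22672 → P i := stepQ 22671 Q22671 (allL N22671 (tt N19940 F111199) (tt N16636 F111200) (tt N19938 F111201) (tt N11092 (iv3 D34124)) (tt N44322 D74396) (tt N22611 (iv5 F111210)) (tt N16677 F53553) (tt N19939 (iv7 F111211)))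
theorem Q22673 : ∀ i, i < 22673 → P i := stepQ 22672 Q22672 (allL N22672 (tt N18948 F53563) (tt N19551 F53564) (tt N31388 (iv2 F80570)) (tt N44323 D74399) (tt N11095 (iv4 D34128)) (tt N19602 (iv5 F53565)) (tt N44324 D74400) (tt N19126 F53562))
theorem Q22674 : ∀ i, i < 22674 → P i := stepQ 22673 Q22673 (allL N22673 (tt N44325 D74401) (tt N36723 (iv0 F95119)) (tt N31389 (iv2 F80573)) (tt N14986 F53566) (tt N44324 (iv4 F111644)) (tt N44326 D74402) (tt N11095 (iv6 D34129)) (tt N44327 D74403))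
theorem Q22675 : ∀ i, i < 22675 → P i := stepQ 22674 Q22674 (allL N22674 (tt N15278 F53570) (tt N18657 F53571) (tt N19667 F53567) (tt N14987 F53568) (tt N20220 F53572) (tt N11096 (iv5 D34130)) (tt N44326 (iv6 F111649)) (tt N19668 F53569))
theorem Q22676 : ∀ i, i < 22676 → P i := stepQ 22675 Q22675 (allL N22675 (tt N19548 F53579) (tt N19564 (iv0 F53580)) (tt N20202 F53577) (tt N44328 D74404) (tt N11097 (iv4 D34131)) (tt N34909 F329104) (tt N31711 (iv6 F81228)) (tt N20200 F53578))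
theorem Q22677 : ∀ i, i < 22677 → P i := stepQ 22676 Q22676 (allL N22676 (tt N15803 (iv1 F53581)) (tt N11098 (iv0 D34132)) (tt N20204 (iv2 F53586)) (tt N44329 D74406) (tt N30458 (iv4 F78594)) (tt N17715 (iv5 F328885)) (tt N17718 F328494) (tt N20203 F53587))
theorem Q22678 : ∀ i, i < 22678 → P i := stepQ 22677 Q22677 (allL N22677 (tt N11098 (iv1 D34133)) (tt N15803 F53582) (tt N20203 (iv2 F53584)) (tt N44330 D74408) (tt N20837 F53583) (tt N39929 (iv5 F100883)) (tt N40577 F329407) (tt N20204 (iv7 F53585)))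
theorem Q22679 : ∀ i, i < 22679 → P i := stepQ 22678 Q22678 (allL N22678 (tt N25158 (iv1 F311114)) (tt N44331 D74411) (tt N44332 D74412) (tt N11098 (iv3 D34134)) (tt N11100 F53588) (tt N44333 D74413) (tt N44334 D74414) (tt N20205 F53589))
theorem Q22680 : ∀ i, i < 22680 → P i := stepQ 22679 Q22679 (allL N22679 (tt N44335 D74415) (tt N44336 D74416) (tt N31570 (iv2 F80912)) (tt N44333 (iv3 F111679)) (tt N19601 F80555) (tt N11098 (iv5 D34135)) (tt N44337 D74417) (tt N20206 F53590))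
theorem Q22681 : ∀ i, i < 22681 → P i := stepQ 22680 Q22680 (allL N22680 (tt N44338 D74418) (tt N20329 (iv0 F53625)) (tt N31571 (iv2 F80915)) (tt N44334 (iv3 F111681)) (tt N11099 F53591) (tt N44339 D74419) (tt N11098 (iv6 D34136)) (tt N44340 D74420))
theorem Q22682 : ∀ i, i < 22682 → P i := stepQ 22681 Q22681 (allL N22681 (tt N20322 (iv1 F53597)) (tt N11099 (iv0 D34137)) (tt N20323 (iv2 F53592)) (tt N19391 F82466) (tt N44341 D74421) (tt N19581 (iv5 F53595)) (tt N20316 (iv6 F53596)) (tt N16684 F53593))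
theorem Q22683 : ∀ i, i < 22683 → P i := stepQ 22682 Q22682 (allL N22682 (tt N16684 (iv1 F53601)) (tt N20323 F53602) (tt N20322 F53598) (tt N11104 F53599) (tt N44340 (iv4 F111698)) (tt N37335 (iv5 F95815)) (tt N20210 F53600) (tt N11099 (iv7 D34138)))
theorem Q22684 : ∀ i, i < 22684 → P i := stepQ 22683 Q22683 (allL N22683 (tt N20214 (iv1 F53603)) (tt N11100 (iv0 D34139)) (tt N20213 (iv2 F212170)) (tt N36616 (iv3 F311110)) (tt N44342 D74424) (tt N36615 (iv5 F311111)) (tt N42924 (iv6 F311112)) (tt N20212 (iv7 F212171)))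
theorem Q22685 : ∀ i, i < 22685 → P i := stepQ 22684 Q22684 (allL N22684 (tt N11100 (iv1 D34140)) (tt N20214 F53607) (tt N20212 F212172) (tt N44343 D74428) (tt N44344 D74429) (tt N39946 (iv5 F212188)) (tt N44345 D74431) (tt N20213 F212173))
theorem Q22686 : ∀ i, i < 22686 → P i := stepQ 22685 Q22685 (allL N22685 (tt N20213 (iv1 F53608)) (tt N20212 F53606) (tt N11100 (iv2 D34141)) (tt N20228 F53604) (tt N44332 (iv4 F111674)) (tt N23297 F310667) (tt N44346 D74433) (tt N20214 F53605))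
theorem Q22687 : ∀ i, i < 22687 → P i := stepQ 22686 Q22686 (allL N22686 (tt N44347 D74438) (tt N20407 (iv0 F341101)) (tt N44346 (iv2 F111715)) (tt N11102 F53611) (tt N44334 (iv4 F111682)) (tt N43082 (iv5 F311028)) (tt N11100 (iv6 D34143)) (tt N41260 (iv7 F103735)))
theorem Q22688 : ∀ i, i < 22688 → P i := stepQ 22687 Q22687 (allL N22687 (tt N21006 (iv1 F309979)) (tt N11153 (iv0 F309981)) (tt N20232 F53614) (tt N43082 (iv3 F311027)) (tt N29817 (iv4 F310920)) (tt N11102 (iv5 D34145)) (tt N43081 F309088) (tt N21005 (iv7 F309978)))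
theorem Q22689 : ∀ i, i < 22689 → P i := stepQ 22688 Q22688 (allL N22688 (tt N20381 (iv1 F53619)) (tt N11147 F53618) (tt N20234 F53615) (tt N44348 D74447) (tt N11103 (iv4 D34146)) (tt N44349 D74448) (tt N20371 F53616) (tt N16672 F53617))
theorem Q22690 : ∀ i, i < 22690 → P i := stepQ 22689 Q22689 (allL N22689 (tt N15376 (iv1 F53628)) (tt N11105 (iv0 D34147)) (tt N19681 (iv2 F53627)) (tt N44350 D74449) (tt N19654 F53626) (tt N19730 (iv5 F53630)) (tt N44351 D74450) (tt N19653 F53629))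
theorem Q22691 : ∀ i, i < 22691 → P i := stepQ 22690 Q22690 (allL N22690 (tt N35405 (iv1 F314688)) (tt N35402 (iv0 F313631)) (tt N44352 D74453) (tt N11105 (iv3 D34148)) (tt N11107 F53632) (tt N44353 D74454) (tt N44354 D74455) (tt N20255 F53633))
theorem Q22692 : ∀ i, i < 22692 → P i := stepQ 22691 Q22691 (allL N22691 (tt N39898 (iv1 F100836)) (tt N39901 (iv0 F100844)) (tt N30708 (iv2 F79268)) (tt N44353 (iv3 F111762)) (tt N19712 F53635) (tt N11105 (iv5 D34149)) (tt N44355 D74456) (tt N20256 F53634))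
theorem Q22693 : ∀ i, i < 22693 → P i := stepQ 22692 Q22692 (allL N22692 (tt N44356 D74457) (tt N44357 D74458) (tt N30709 (iv2 F79269)) (tt N44354 (iv3 F111764)) (tt N11106 F53636) (tt N44358 D74459) (tt N11105 (iv6 D34150)) (tt N44359 D74460))
theorem Q22694 : ∀ i, i < 22694 → P i := stepQ 22693 Q22693 (allL N22693 (tt N30711 (iv1 F79275)) (tt N11106 (iv0 D34151)) (tt N20617 F102449) (tt N44360 D74461) (tt N44361 D74462) (tt N44362 D74463) (tt N20596 F95820) (tt N30710 F102450))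
theorem Q22695 : ∀ i, i < 22695 → P i := stepQ 22694 Q22694 (allL N22694 (tt N11106 (iv1 D34152)) (tt N30711 F79274) (tt N30710 (iv2 F102451)) (tt N44363 D74464) (tt N44364 D74465) (tt N31783 (iv5 F81297)) (tt N44365 D74466) (tt N20617 (iv7 F102452)))
theorem Q22696 : ∀ i, i < 22696 → P i := stepQ 22695 Q22695 (allL N22695 (tt N30710 (iv1 F79271)) (tt N20617 (iv0 F84550)) (tt N30711 (iv2 F79272)) (tt N11112 F53637) (tt N44359 (iv4 F111767)) (tt N15872 (iv5 F79382)) (tt N20260 F53639) (tt N11106 (iv7 D34153)))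
theorem Q22697 : ∀ i, i < 22697 → P i := stepQ 22696 Q22696 (allL N22696 (tt N20263 (iv1 F53640)) (tt N11107 (iv0 D34154)) (tt N20262 (iv2 F221950)) (tt N44366 D74468) (tt N44367 D74469) (tt N44320 (iv5 F245845)) (tt N44368 D74471) (tt N20261 (iv7 F221953)))
theorem Q22698 : ∀ i, i < 22698 → P i := stepQ 22697 Q22697 (allL N22697 (tt N11107 (iv1 D34155)) (tt N20263 F53644) (tt N20261 F221954) (tt N25496 (iv3 F310000)) (tt N44369 D74474) (tt N44321 F245850) (tt N16712 F317414) (tt N20262 F221955))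
theorem Q22699 : ∀ i, i < 22699 → P i := stepQ 22698 Q22698 (allL N22698 (tt N20262 (iv1 F53645)) (tt N20261 F53643) (tt N11107 (iv2 D34156)) (tt N20244 F53641) (tt N44352 (iv4 F111757)) (tt N44370 D74477) (tt N44371 D74478) (tt N20263 F53642))
theorem Q22700 : ∀ i, i < 22700 → P i := stepQ 22699 Q22699 (allL N22699 (tt N39912 (iv1 F232820)) (tt N25488 F312241) (tt N44370 (iv2 F111791)) (tt N11108 F53646) (tt N35381 F312242) (tt N11107 (iv5 D34157)) (tt N25833 F312243) (tt N20264 F53647))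
theorem Q22701 : ∀ i, i < 22701 → P i := stepQ 22700 Q22700 (allL N22700 (tt N44372 D74483) (tt N44373 D74484) (tt N44371 (iv2 F111796)) (tt N11109 F53648) (tt N44354 (iv4 F111765)) (tt N44374 D74485) (tt N11107 (iv6 D34158)) (tt N21889 (iv7 F314691)))
theorem Q22702 : ∀ i, i < 22702 → P i := stepQ 22701 Q22701 (allL N22701 (tt N14874 (iv1 F310919)) (tt N18609 (iv0 F308883)) (tt N18608 (iv2 F308881)) (tt N25833 (iv3 F310862)) (tt N11163 F53650) (tt N44375 D74489) (tt N11108 (iv6 D34159)) (tt N16986 (iv7 F308880)))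
theorem Q22703 : ∀ i, i < 22703 → P i := stepQ 22702 Q22702 (allL N22702 (tt N17058 (iv1 F315110)) (tt N11109 (iv0 D34160)) (tt N20247 (iv2 F78678)) (tt N44376 D74491) (tt N15308 F53660) (tt N25227 (iv5 F315176)) (tt N16739 F53669) (tt N20248 F78679))
theorem Q22704 : ∀ i, i < 22704 → P i := stepQ 22703 Q22703 (allL N22703 (tt N11109 (iv1 D34161)) (tt N17058 (iv0 F315109)) (tt N20248 F78677) (tt N44377 D74493) (tt N15309 F53652) (tt N44378 D74494) (tt N41585 (iv6 F104477)) (tt N20247 (iv7 F78665)))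
theorem Q22705 : ∀ i, i < 22705 → P i := stepQ 22704 Q22704 (allL N22704 (tt N20856 F53654) (tt N40235 F101387) (tt N20249 F53653) (tt N44374 (iv3 F111803)) (tt N44379 D74495) (tt N11109 (iv5 D34162)) (tt N44375 (iv6 F111808)) (tt N21086 (iv7 F315179)))
theorem Q22706 : ∀ i, i < 22706 → P i := stepQ 22705 Q22705 (allL N22705 (tt N19955 (iv1 F161295)) (tt N19858 (iv0 F161296)) (tt N19953 (iv2 F161291)) (tt N11110 (iv3 D34164)) (tt N44380 D74499) (tt N44381 D74500) (tt N16742 F53700) (tt N19954 (iv7 F161297)))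
theorem Q22707 : ∀ i, i < 22707 → P i := stepQ 22706 Q22706 (allL N22706 (tt N15602 F53710) (tt N15584 (iv0 F53711)) (tt N20252 F53707) (tt N44381 (iv3 F111836)) (tt N44382 D74503) (tt N11110 (iv5 D34166)) (tt N20252 F53708) (tt N15630 F53709))
theorem Q22708 : ∀ i, i < 22708 → P i := stepQ 22707 Q22707 (allL N22707 (tt N15990 F53721) (tt N15992 (iv0 F53722)) (tt N20254 F53718) (tt N44231 (iv3 F161258)) (tt N42957 F317388) (tt N15936 F53719) (tt N11111 (iv6 D34169)) (tt N16741 F53720))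
theorem Q22709 : ∀ i, i < 22709 → P i := stepQ 22708 Q22708 (allL N22708 (tt N15805 (iv1 F53724)) (tt N11113 (iv0 D34170)) (tt N15742 (iv2 F53725)) (tt N44383 D74512) (tt N15722 F53723) (tt N44335 (iv5 F111683)) (tt N15738 (iv6 F53726)) (tt N20235 (iv7 F53727)))
theorem Q22710 : ∀ i, i < 22710 → P i := stepQ 22709 Q22709 (allL N22709 (tt N11113 (iv1 D34171)) (tt N15805 F53728) (tt N20235 F53731) (tt N44384 D74513) (tt N15743 (iv4 F53730)) (tt N44336 (iv5 F111689)) (tt N44385 D74514) (tt N15742 F53729))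
theorem Q22711 : ∀ i, i < 22711 → P i := stepQ 22710 Q22710 (allL N22710 (tt N35444 (iv1 F314653)) (tt N44386 D74516) (tt N44387 D74517) (tt N11113 (iv3 D34172)) (tt N11115 F53732) (tt N44388 D74518) (tt N21885 (iv6 F315180)) (tt N20236 F53733))
theorem Q22712 : ∀ i, i < 22712 → P i := stepQ 22711 Q22711 (allL N22711 (tt N34975 F329488) (tt N34892 F329489) (tt N31573 (iv2 F80919)) (tt N44388 (iv3 F111904)) (tt N19591 F53735) (tt N11113 (iv5 D34173)) (tt N44389 D74520) (tt N20237 F53734))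
theorem Q22713 : ∀ i, i < 22713 → P i := stepQ 22712 Q22712 (allL N22712 (tt N28409 F329528) (tt N28405 F329529) (tt N31574 (iv2 F80921)) (tt N21885 F317407) (tt N11114 F53736) (tt N44390 D74523) (tt N11113 (iv6 D34174)) (tt N44391 D74524))
theorem Q22714 : ∀ i, i < 22714 → P i := stepQ 22713 Q22713 (allL N22713 (tt N31576 (iv1 F80933)) (tt N11114 (iv0 D34175)) (tt N31575 (iv2 F102165)) (tt N32193 (iv3 F111460)) (tt N44392 D74525) (tt N20258 (iv5 F80934)) (tt N44393 D74526) (tt N20543 F102104))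
theorem Q22715 : ∀ i, i < 22715 → P i := stepQ 22714 Q22714 (allL N22714 (tt N11114 (iv1 D34176)) (tt N31576 F80929) (tt N20543 F102107) (tt N39411 F102190) (tt N44394 D74527) (tt N20259 F80930) (tt N20523 (iv6 F80932)) (tt N31575 F102108))
theorem Q22716 : ∀ i, i < 22716 → P i := stepQ 22715 Q22715 (allL N22715 (tt N20543 F79379) (tt N31575 (iv0 F80924)) (tt N31576 (iv2 F80925)) (tt N11119 F53737) (tt N44391 (iv4 F111909)) (tt N16670 F53738) (tt N20241 F53739) (tt N11114 (iv7 D34177)))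
theorem Q22717 : ∀ i, i < 22717 → P i := stepQ 22716 Q22716 (allL N22716 (tt N20244 (iv1 F53740)) (tt N11115 (iv0 D34178)) (tt N20243 (iv2 F212019)) (tt N44395 D74529) (tt N44396 D74530) (tt N43083 F311104) (tt N16734 F317420) (tt N20242 F212018))
theorem Q22718 : ∀ i, i < 22718 → P i := stepQ 22717 Q22717 (allL N22717 (tt N11115 (iv1 D34179)) (tt N20244 F53744) (tt N20242 F212017) (tt N44397 D74534) (tt N44398 D74535) (tt N43084 F311109) (tt N44399 D74537) (tt N20243 (iv7 F212020)))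
theorem Q22719 : ∀ i, i < 22719 → P i := stepQ 22718 Q22718 (allL N22718 (tt N20243 (iv1 F53745)) (tt N20242 F53743) (tt N11115 (iv2 D34180)) (tt N20263 F53741) (tt N44387 (iv4 F111899)) (tt N43020 (iv5 F312538)) (tt N21881 (iv6 F314693)) (tt N20244 F53742))
theorem Q22720 : ∀ i, i < 22720 → P i := stepQ 22719 Q22719 (allL N22719 (tt N39884 (iv1 F212193)) (tt N39888 (iv0 F212194)) (tt N43020 F312700) (tt N11116 F53746) (tt N34307 (iv4 F313142)) (tt N11115 (iv5 D34181)) (tt N16984 (iv6 F312990)) (tt N20245 F53747))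
theorem Q22721 : ∀ i, i < 22721 → P i := stepQ 22720 Q22720 (allL N22720 (tt N16788 F53768) (tt N19743 (iv0 F53769)) (tt N20265 F53765) (tt N44246 (iv3 F111490)) (tt N22802 F311301) (tt N19356 F53766) (tt N11117 (iv6 D34189)) (tt N16725 F53767))
theorem Q22722 : ∀ i, i < 22722 → P i := stepQ 22721 Q22721 (allL N22721 (tt N16611 F101965) (tt N19961 F101966) (tt N19960 F101967) (tt N11118 (iv3 D34190)) (tt N44400 D74555) (tt N20042 (iv5 F101972)) (tt N16721 F53771) (tt N19959 (iv7 F101973)))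
theorem Q22723 : ∀ i, i < 22723 → P i := stepQ 22722 Q22722 (allL N22722 (tt N20274 (iv1 F53808)) (tt N11120 (iv0 D34192)) (tt N20273 F214135) (tt N35374 F314329) (tt N44401 D74559) (tt N37215 (iv5 F208886)) (tt N24961 (iv6 F316709)) (tt N20272 (iv7 F214138)))
theorem Q22724 : ∀ i, i < 22724 → P i := stepQ 22723 Q22723 (allL N22723 (tt N11120 (iv1 D34193)) (tt N20274 F53812) (tt N20272 (iv2 F214137)) (tt N44402 D74563) (tt N44403 D74564) (tt N37216 (iv5 F208892)) (tt N16745 F320516) (tt N20273 F214136))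
theorem Q22725 : ∀ i, i < 22725 → P i := stepQ 22724 Q22724 (allL N22724 (tt N20273 (iv1 F53813)) (tt N20272 F53811) (tt N11120 (iv2 D34194)) (tt N20267 F53809) (tt N44404 D74567) (tt N35377 F311280) (tt N43581 (iv6 F313641)) (tt N20274 F53810))
theorem Q22726 : ∀ i, i < 22726 → P i := stepQ 22725 Q22725 (allL N22725 (tt N44405 D74570) (tt N44406 D74571) (tt N44404 (iv2 F111964)) (tt N15079 F53814) (tt N11120 (iv4 D34195)) (tt N44407 D74572) (tt N44408 D74573) (tt N20275 F53815))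
theorem Q22727 : ∀ i, i < 22727 → P i := stepQ 22726 Q22726 (allL N22726 (tt N35369 (iv1 F310700)) (tt N35378 (iv0 F310702)) (tt N35377 (iv2 F310698)) (tt N11121 F53816) (tt N36933 F95345) (tt N11120 (iv5 D34196)) (tt N43411 F308615) (tt N20276 F53817))
theorem Q22728 : ∀ i, i < 22728 → P i := stepQ 22727 Q22727 (allL N22727 (tt N43580 (iv1 F315360)) (tt N43579 (iv0 F315361)) (tt N43581 (iv2 F313640)) (tt N11122 F53818) (tt N44408 (iv4 F111981)) (tt N44409 D74579) (tt N11120 (iv6 D34197)) (tt N33921 (iv7 F315362)))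
theorem Q22729 : ∀ i, i < 22729 → P i := stepQ 22728 Q22728 (allL N22728 (tt N34252 F307979) (tt N34163 (iv0 F308964)) (tt N20270 F53819) (tt N43411 (iv3 F308042)) (tt N11153 F53820) (tt N41700 (iv5 F309969)) (tt N11121 (iv6 D34198)) (tt N11800 (iv7 F307989)))
theorem Q22730 : ∀ i, i < 22730 → P i := stepQ 22729 Q22729 (allL N22729 (tt N31112 (iv1 F79956)) (tt N40192 F101340) (tt N20271 F53821) (tt N44409 (iv3 F111985)) (tt N44410 D74585) (tt N11122 (iv5 D34199)) (tt N41700 F312203) (tt N33580 (iv7 F314517)))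
theorem Q22731 : ∀ i, i < 22731 → P i := stepQ 22730 Q22730 (allL N22730 (tt N20267 (iv1 F53827)) (tt N11123 (iv0 D34201)) (tt N12462 (iv2 F311893)) (tt N35443 (iv3 F313574)) (tt N44411 D74588) (tt N44412 D74589) (tt N16752 F319052) (tt N20266 F222084))
theorem Q22732 : ∀ i, i < 22732 → P i := stepQ 22731 Q22731 (allL N22731 (tt N44413 D74599) (tt N44414 D74600) (tt N43195 (iv2 F316684)) (tt N15161 F53833) (tt N11123 (iv4 D34204)) (tt N44415 D74601) (tt N33918 (iv6 F317441)) (tt N20268 F53834))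
theorem Q22733 : ∀ i, i < 22733 → P i := stepQ 22732 Q22732 (allL N22732 (tt N11126 (iv1 F53849)) (tt N11125 (iv0 D34210)) (tt N11129 (iv2 F53846)) (tt N20277 F53847) (tt N44265 (iv4 F111513)) (tt N34425 (iv5 F87507)) (tt N44416 D74616) (tt N11127 F53848))
theorem Q22734 : ∀ i, i < 22734 → P i := stepQ 22733 Q22733 (allL N22733 (tt N11129 F246633) (tt N11127 F246634) (tt N11125 (iv2 D34211)) (tt N35376 (iv3 F313630)) (tt N44417 D74620) (tt N12432 (iv5 F312166)) (tt N43363 (iv6 F313702)) (tt N11126 (iv7 F53850)))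
theorem Q22735 : ∀ i, i < 22735 → P i := stepQ 22734 Q22734 (allL N22734 (tt N44418 D74630) (tt N44419 D74631) (tt N44417 (iv2 F112050)) (tt N44420 D74632) (tt N11125 (iv4 D34213)) (tt N44421 D74633) (tt N44422 D74634) (tt N12441 F316077))
theorem Q22736 : ∀ i, i < 22736 → P i := stepQ 22735 Q22735 (allL N22735 (tt N43362 (iv1 F318287)) (tt N42955 (iv0 F318290)) (tt N43363 F316078) (tt N12474 (iv3 F318263)) (tt N44422 (iv4 F112063)) (tt N33747 (iv5 F318292)) (tt N11125 (iv6 D34215)) (tt N33750 (iv7 F318293)))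
theorem Q22737 : ∀ i, i < 22737 → P i := stepQ 22736 Q22736 (allL N22736 (tt N44419 (iv1 F112062)) (tt N44418 F112066) (tt N12441 F316079) (tt N44423 D74652) (tt N11126 (iv4 D34218)) (tt N44424 D74653) (tt N34056 (iv6 F318296)) (tt N44417 (iv7 F112051)))
theorem Q22738 : ∀ i, i < 22738 → P i := stepQ 22737 Q22737 (allL N22737 (tt N34424 (iv1 F87510)) (tt N33968 F311244) (tt N11128 F53854) (tt N20288 F53855) (tt N44425 D74671) (tt N11127 (iv5 D34223)) (tt N44426 D74672) (tt N34425 (iv7 F87508)))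
theorem Q22739 : ∀ i, i < 22739 → P i := stepQ 22738 Q22738 (allL N22738 (tt N34425 (iv1 F87509)) (tt N11128 (iv0 D34224)) (tt N34424 (iv2 F313686)) (tt N25139 (iv3 F313580)) (tt N44427 D74675) (tt N25105 (iv5 F313583)) (tt N22472 (iv6 F313584)) (tt N33968 (iv7 F313586)))
theorem Q22740 : ∀ i, i < 22740 → P i := stepQ 22739 Q22739 (allL N22739 (tt N11128 (iv1 D34225)) (tt N34425 F87511) (tt N33968 (iv2 F313585)) (tt N25426 (iv3 F311927)) (tt N44428 D74680) (tt N25104 (iv5 F313588)) (tt N25424 (iv6 F313590)) (tt N34424 (iv7 F313687)))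
theorem Q22741 : ∀ i, i < 22741 → P i := stepQ 22740 Q22740 (allL N22740 (tt N44429 D74683) (tt N44430 D74684) (tt N44425 (iv2 F112082)) (tt N33956 (iv3 F86274)) (tt N11128 (iv4 D34226)) (tt N44431 D74685) (tt N44432 D74686) (tt N34418 (iv7 F87499)))
theorem Q22742 : ∀ i, i < 22742 → P i := stepQ 22741 Q22741 (allL N22741 (tt N34046 (iv1 F313500)) (tt N44433 D74688) (tt N44426 (iv2 F112083)) (tt N11132 F53856) (tt N44432 (iv4 F112088)) (tt N16774 F53857) (tt N11128 (iv6 D34227)) (tt N34446 (iv7 F313439)))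
theorem Q22743 : ∀ i, i < 22743 → P i := stepQ 22742 Q22742 (allL N22742 (tt N44434 D74690) (tt N44435 D74691) (tt N44416 (iv2 F112042)) (tt N11133 F53858) (tt N44280 (iv4 F111530)) (tt N43994 F312563) (tt N11129 (iv6 D34228)) (tt N16775 F53859))
theorem Q22744 : ∀ i, i < 22744 → P i := stepQ 22743 Q22743 (allL N22743 (tt N44412 (iv1 F245870)) (tt N34449 (iv0 F309104)) (tt N33946 (iv2 F307702)) (tt N11131 (iv3 D34230)) (tt N37567 (iv4 F96278)) (tt N11146 F53862) (tt N33931 F307194) (tt N20294 F53863))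
theorem Q22745 : ∀ i, i < 22745 → P i := stepQ 22744 Q22744 (allL N22744 (tt N21744 (iv1 F304559)) (tt N44436 D74702) (tt N19496 F53864) (tt N33931 (iv3 F305258)) (tt N11142 F53865) (tt N44437 D74703) (tt N11131 (iv6 D34231)) (tt N22483 F302914))
theorem Q22746 : ∀ i, i < 22746 → P i := stepQ 22745 Q22745 (allL N22745 (tt N20297 (iv1 F53869)) (tt N11132 (iv0 D34232)) (tt N20295 (iv2 F200020)) (tt N44438 D74706) (tt N30689 (iv4 F114320)) (tt N23371 (iv5 F309252)) (tt N34124 F307255) (tt N20296 (iv7 F200021)))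
theorem Q22747 : ∀ i, i < 22747 → P i := stepQ 22746 Q22746 (allL N22746 (tt N11132 (iv1 D34233)) (tt N20297 F53866) (tt N20296 F200023) (tt N43339 (iv3 F313601)) (tt N30690 (iv4 F114324)) (tt N23370 F311245) (tt N44439 D74714) (tt N20295 F200024))
theorem Q22748 : ∀ i, i < 22748 → P i := stepQ 22747 Q22747 (allL N22747 (tt N20296 (iv1 F53870)) (tt N20295 F53871) (tt N20297 F53867) (tt N34446 (iv3 F313437)) (tt N34429 (iv4 F87525)) (tt N16781 F53868) (tt N21746 F311121) (tt N11132 (iv7 D34234)))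
theorem Q22749 : ∀ i, i < 22749 → P i := stepQ 22748 Q22748 (allL N22748 (tt N20766 (iv1 F53874)) (tt N20765 F53875) (tt N20298 F53872) (tt N43994 F314270) (tt N41057 (iv4 F103246)) (tt N11133 (iv5 D34235)) (tt N34426 (iv6 F87514)) (tt N16784 F53873))
theorem Q22750 : ∀ i, i < 22750 → P i := stepQ 22749 Q22749 (allL N22749 (tt N18018 (iv1 F53877)) (tt N11134 (iv0 D34236)) (tt N30640 F79043) (tt N44440 D74715) (tt N15061 F53876) (tt N41205 (iv5 F103637)) (tt N44441 D74716) (tt N30639 F79039))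
theorem Q22751 : ∀ i, i < 22751 → P i := stepQ 22750 Q22750 (allL N22750 (tt N11134 (iv1 D34237)) (tt N18018 F53878) (tt N30639 F79037) (tt N44442 D74717) (tt N15062 F53879) (tt N41206 (iv5 F103641)) (tt N21027 (iv6 F53880)) (tt N30640 (iv7 F79041)))
theorem Q22752 : ∀ i, i < 22752 → P i := stepQ 22751 Q22751 (allL N22751 (tt N44443 D74718) (tt N44444 D74719) (tt N44445 D74720) (tt N11134 (iv3 D34238)) (tt N11136 F53881) (tt N44446 D74721) (tt N44447 D74722) (tt N30641 (iv7 F79045)))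
theorem Q22753 : ∀ i, i < 22753 → P i := stepQ 22752 Q22752 (allL N22752 (tt N35567 (iv1 F92866)) (tt N15082 F53882) (tt N31452 (iv2 F80679)) (tt N44446 (iv3 F112140)) (tt N30203 F78171) (tt N11134 (iv5 D34239)) (tt N44448 D74723) (tt N30642 (iv7 F79047)))
theorem Q22754 : ∀ i, i < 22754 → P i := stepQ 22753 Q22753 (allL N22753 (tt N44449 D74724) (tt N44450 D74725) (tt N31453 (iv2 F80684)) (tt N44447 (iv3 F112141)) (tt N11135 F53883) (tt N44451 D74726) (tt N11134 (iv6 D34240)) (tt N44452 D74727))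
theorem Q22755 : ∀ i, i < 22755 → P i := stepQ 22754 Q22754 (allL N22754 (tt N31456 (iv1 F80694)) (tt N11135 (iv0 D34241)) (tt N31454 F103507) (tt N44453 D74728) (tt N44454 D74729) (tt N32100 F82332) (tt N15155 F53884) (tt N31455 (iv7 F103506)))
theorem Q22756 : ∀ i, i < 22756 → P i := stepQ 22755 Q22755 (allL N22755 (tt N11135 (iv1 D34242)) (tt N31456 F80693) (tt N31455 (iv2 F103508)) (tt N44455 D74730) (tt N44456 D74731) (tt N32099 (iv5 F82330)) (tt N44457 D74732) (tt N31454 (iv7 F103503)))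
theorem Q22757 : ∀ i, i < 22757 → P i := stepQ 22756 Q22756 (allL N22756 (tt N31455 (iv1 F80688)) (tt N31454 F80692) (tt N31456 (iv2 F80690)) (tt N11140 F53885) (tt N44452 (iv4 F112144)) (tt N18359 F53886) (tt N20876 F53887) (tt N11135 (iv7 D34243)))
theorem Q22758 : ∀ i, i < 22758 → P i := stepQ 22757 Q22757 (allL N22757 (tt N30646 (iv1 F79055)) (tt N11136 (iv0 D34244)) (tt N30645 (iv2 F212152)) (tt N17921 (iv3 F311939)) (tt N44458 D74735) (tt N17919 (iv5 F311941)) (tt N44459 D74737) (tt N30644 (iv7 F212153)))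
theorem Q22759 : ∀ i, i < 22759 → P i := stepQ 22758 Q22758 (allL N22758 (tt N11136 (iv1 D34245)) (tt N30646 F79057) (tt N30644 F212154) (tt N44460 D74739) (tt N44461 D74740) (tt N39999 (iv5 F208780)) (tt N21051 F319070) (tt N30645 F212155))
theorem Q22760 : ∀ i, i < 22760 → P i := stepQ 22759 Q22759 (allL N22759 (tt N30645 (iv1 F79056)) (tt N30644 F79052) (tt N11136 (iv2 D34246)) (tt N25128 (iv3 F311913)) (tt N44445 (iv4 F112139)) (tt N37208 F95664) (tt N22266 (iv6 F311943)) (tt N30646 (iv7 F79054)))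
theorem Q22761 : ∀ i, i < 22761 → P i := stepQ 22760 Q22760 (allL N22760 (tt N22224 (iv1 F313654)) (tt N22268 (iv0 F313655)) (tt N22266 (iv2 F311942)) (tt N11137 F53888) (tt N44447 (iv4 F112142)) (tt N22339 (iv5 F311891)) (tt N11136 (iv6 D34247)) (tt N22157 (iv7 F313627)))
theorem Q22762 : ∀ i, i < 22762 → P i := stepQ 22761 Q22761 (allL N22761 (tt N30593 F101926) (tt N18322 F101927) (tt N30591 F111404) (tt N11138 (iv3 D34250)) (tt N44462 D74750) (tt N22762 (iv5 F53896)) (tt N16799 F53895) (tt N30592 (iv7 F111403)))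
theorem Q22763 : ∀ i, i < 22763 → P i := stepQ 22762 Q22762 (allL N22762 (tt N15203 F101936) (tt N44463 D74751) (tt N44464 D74752) (tt N11139 (iv3 D34251)) (tt N44465 D74753) (tt N22761 F53896) (tt N44466 D74754) (tt N20886 F53897))
theorem Q22764 : ∀ i, i < 22764 → P i := stepQ 22763 Q22763 (allL N22763 (tt N20859 F53901) (tt N20891 (iv0 F53902)) (tt N20892 F53898) (tt N44466 (iv3 F112192)) (tt N21878 (iv4 F316503)) (tt N16801 F53899) (tt N11139 (iv6 D34252)) (tt N16801 F53900))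
theorem Q22765 : ∀ i, i < 22765 → P i := stepQ 22764 Q22764 (allL N22764 (tt N11142 (iv1 D34255)) (tt N19498 F53909) (tt N12743 (iv2 F302712)) (tt N21933 (iv3 F302928)) (tt N33864 (iv4 F300122)) (tt N21932 F300121) (tt N42848 (iv6 F300124)) (tt N19497 (iv7 F131094)))
theorem Q22766 : ∀ i, i < 22766 → P i := stepQ 22765 Q22765 (allL N22765 (tt N12743 (iv1 F302711)) (tt N19497 F53913) (tt N19498 F53910) (tt N37572 (iv3 F96285)) (tt N22483 (iv4 F300119)) (tt N33864 (iv5 F85963)) (tt N22482 (iv6 F300120)) (tt N11142 (iv7 D34256)))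
theorem Q22767 : ∀ i, i < 22767 → P i := stepQ 22766 Q22766 (allL N22766 (tt N44467 D74763) (tt N44468 D74764) (tt N44469 D74765) (tt N11144 (iv3 D34257)) (tt N11146 F53914) (tt N44470 D74766) (tt N44471 D74767) (tt N30634 (iv7 F79010)))
theorem Q22768 : ∀ i, i < 22768 → P i := stepQ 22767 Q22767 (allL N22767 (tt N16179 F53916) (tt N29578 (iv0 F76749)) (tt N32153 (iv2 F82426)) (tt N44470 (iv3 F112207)) (tt N16135 F53915) (tt N11144 (iv5 D34258)) (tt N44472 D74768) (tt N30635 (iv7 F79012)))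
theorem Q22769 : ∀ i, i < 22769 → P i := stepQ 22768 Q22768 (allL N22768 (tt N44473 D74769) (tt N20813 (iv0 F80755)) (tt N32154 (iv2 F82431)) (tt N44471 (iv3 F112208)) (tt N11145 F53917) (tt N44474 D74770) (tt N11144 (iv6 D34259)) (tt N44475 D74771))
theorem Q22770 : ∀ i, i < 22770 → P i := stepQ 22769 Q22769 (allL N22769 (tt N20806 (iv1 F53923)) (tt N11145 (iv0 D34260)) (tt N20807 (iv2 F53918)) (tt N38700 F103350) (tt N38186 F103407) (tt N18701 (iv5 F53921)) (tt N20800 (iv6 F53922)) (tt N16821 F53919))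
theorem Q22771 : ∀ i, i < 22771 → P i := stepQ 22770 Q22770 (allL N22770 (tt N16821 (iv1 F53926)) (tt N20807 F53927) (tt N20806 F53924) (tt N11149 F53925) (tt N44475 (iv4 F112217)) (tt N36778 (iv5 F95188)) (tt N30638 (iv6 F79019)) (tt N11145 (iv7 D34261)))
theorem Q22772 : ∀ i, i < 22772 → P i := stepQ 22771 Q22771 (allL N22771 (tt N25128 (iv1 F311911)) (tt N11146 (iv0 D34262)) (tt N17942 F316049) (tt N25152 (iv3 F312285)) (tt N44476 D74774) (tt N17940 (iv5 F312284)) (tt N44477 D74776) (tt N25124 F316050))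
theorem Q22773 : ∀ i, i < 22773 → P i := stepQ 22772 Q22772 (allL N22772 (tt N17942 (iv1 F311905)) (tt N25124 (iv0 F311907)) (tt N11146 (iv2 D34264)) (tt N30646 (iv3 F79053)) (tt N44469 (iv4 F112206)) (tt N33946 F309708) (tt N44478 D74782) (tt N25128 (iv7 F311915)))
theorem Q22774 : ∀ i, i < 22774 → P i := stepQ 22773 Q22773 (allL N22773 (tt N44479 D74783) (tt N20884 F320414) (tt N44478 (iv2 F112225)) (tt N11147 F53928) (tt N44471 (iv4 F112209)) (tt N44480 D74785) (tt N11146 (iv6 D34265)) (tt N44481 D74786))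
theorem Q22775 : ∀ i, i < 22775 → P i := stepQ 22774 Q22774 (allL N22774 (tt N22803 (iv1 F308189)) (tt N15236 (iv0 F308190)) (tt N22800 F307195) (tt N44480 (iv3 F112226)) (tt N17255 (iv4 F308188)) (tt N11147 (iv5 D34266)) (tt N44437 (iv6 F112114)) (tt N22801 (iv7 F308191)))
theorem Q22776 : ∀ i, i < 22776 → P i := stepQ 22775 Q22775 (allL N22775 (tt N16672 (iv1 F53931)) (tt N20234 F53932) (tt N20381 F53929) (tt N44481 (iv3 F112227)) (tt N11149 F53930) (tt N22801 F310195) (tt N17145 (iv6 F312477)) (tt N11147 (iv7 D34267)))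
theorem Q22777 : ∀ i, i < 22777 → P i := stepQ 22776 Q22776 (allL N22776 (tt N44482 D74791) (tt N15206 (iv0 F53936)) (tt N44483 D74792) (tt N11148 (iv3 D34268)) (tt N44484 D74793) (tt N18809 F53933) (tt N20849 F53934) (tt N16794 F53935))
theorem Q22778 : ∀ i, i < 22778 → P i := stepQ 22777 Q22777 (allL N22777 (tt N22482 F302925) (tt N11150 (iv0 D34269)) (tt N30683 (iv2 F208047)) (tt N44485 D74795) (tt N21732 F306298) (tt N44486 D74797) (tt N40247 F314537) (tt N30684 F208046))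
theorem Q22779 : ∀ i, i < 22779 → P i := stepQ 22778 Q22778 (allL N22778 (tt N11150 (iv1 D34270)) (tt N22482 F302924) (tt N30684 F208045) (tt N24158 (iv3 F305283)) (tt N21733 F306299) (tt N44487 D74802) (tt N34575 (iv6 F305284)) (tt N30683 (iv7 F208048)))
theorem Q22780 : ∀ i, i < 22780 → P i := stepQ 22779 Q22779 (allL N22779 (tt N30684 (iv1 F79188)) (tt N30683 F79192) (tt N22482 F302920) (tt N19519 F53937) (tt N17291 (iv4 F305270)) (tt N34389 (iv5 F87441)) (tt N19498 F53938) (tt N11150 (iv7 D34271)))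
theorem Q22781 : ∀ i, i < 22781 → P i := stepQ 22780 Q22780 (allL N22780 (tt N15244 F53947) (tt N30676 (iv0 F79131)) (tt N44488 D74804) (tt N11151 (iv3 D34272)) (tt N22794 F54423) (tt N36427 (iv5 F94568)) (tt N16843 F53939) (tt N17008 F53940))
theorem Q22782 : ∀ i, i < 22782 → P i := stepQ 22781 Q22781 (allL N22781 (tt N19002 F53944) (tt N21575 (iv0 F53946)) (tt N20951 F53941) (tt N18392 F53945) (tt N11151 (iv4 D34273)) (tt N22011 (iv5 F53948)) (tt N16844 F53942) (tt N17010 F53943))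
theorem Q22783 : ∀ i, i < 22783 → P i := stepQ 22782 Q22782 (allL N22782 (tt N37557 (iv1 F96264)) (tt N37541 (iv0 F96236)) (tt N24751 F313249) (tt N33924 (iv3 F314558)) (tt N11152 (iv4 D34274)) (tt N44489 D74805) (tt N17244 F313250) (tt N21002 F54368))
theorem Q22784 : ∀ i, i < 22784 → P i := stepQ 22783 Q22783 (allL N22783 (tt N20772 (iv1 F312222)) (tt N38587 (iv0 F312219)) (tt N20996 F54379) (tt N18624 F54380) (tt N30501 (iv4 F312225)) (tt N11153 (iv5 D34281)) (tt N11154 F54381) (tt N20579 F309984))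
theorem Q22785 : ∀ i, i < 22785 → P i := stepQ 22784 Q22784 (allL N22784 (tt N23312 (iv1 F55484)) (tt N23311 F55488) (tt N23314 (iv2 F55486)) (tt N34406 (iv3 F87473)) (tt N11155 (iv4 D34284)) (tt N44490 D74828) (tt N23294 (iv6 F55426)) (tt N17533 F54392))
theorem Q22786 : ∀ i, i < 22786 → P i := stepQ 22785 Q22785 (allL N22785 (tt N23322 (iv1 F55576)) (tt N11179 (iv0 F54394)) (tt N23324 (iv2 F55583)) (tt N37591 (iv3 F96315)) (tt N42822 (iv4 F308062)) (tt N11155 (iv5 D34285)) (tt N44491 D74830) (tt N17534 F54393))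
theorem Q22787 : ∀ i, i < 22787 → P i := stepQ 22786 Q22786 (allL N22786 (tt N16124 F54396) (tt N17519 (iv0 F54397)) (tt N11157 F54395) (tt N29972 (iv3 F77697)) (tt N11156 (iv4 D34286)) (tt N37516 (iv5 F96183)) (tt N23207 (iv6 F55200)) (tt N23223 (iv7 F55248)))
theorem Q22788 : ∀ i, i < 22788 → P i := stepQ 22787 Q22787 (allL N22787 (tt N22006 F54400) (tt N30515 F78751) (tt N11158 F54398) (tt N19020 F54399) (tt N37521 (iv4 F96191)) (tt N11156 (iv5 D34287)) (tt N44492 D74831) (tt N23320 (iv7 F55567)))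
theorem Q22789 : ∀ i, i < 22789 → P i := stepQ 22788 Q22788 (allL N22788 (tt N23223 (iv1 F55247)) (tt N11157 (iv0 D34288)) (tt N16124 (iv2 F54403)) (tt N18923 F54401) (tt N18215 F54402) (tt N44493 D74832) (tt N23220 (iv6 F55241)) (tt N17519 F54404))
theorem Q22790 : ∀ i, i < 22790 → P i := stepQ 22789 Q22789 (allL N22789 (tt N37513 (iv1 F96175)) (tt N19467 F54411) (tt N37516 F96184) (tt N15012 F54405) (tt N44494 D74833) (tt N11157 (iv5 D34289)) (tt N44495 D74834) (tt N29976 (iv7 F77706)))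
theorem Q22791 : ∀ i, i < 22791 → P i := stepQ 22790 Q22790 (allL N22790 (tt N23320 (iv1 F55570)) (tt N11158 (iv0 D34290)) (tt N22006 (iv2 F54407)) (tt N37543 (iv3 F96239)) (tt N42611 F312031) (tt N15228 F54406) (tt N44496 D74836) (tt N30515 (iv7 F78752)))
theorem Q22792 : ∀ i, i < 22792 → P i := stepQ 22791 Q22791 (allL N22791 (tt N11158 (iv1 D34291)) (tt N23320 F55568) (tt N30515 F78750) (tt N21944 F54410) (tt N42610 F312032) (tt N15229 (iv5 F54409)) (tt N44497 D74838) (tt N22006 F54408))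
theorem Q22793 : ∀ i, i < 22793 → P i := stepQ 22792 Q22792 (allL N22792 (tt N37514 (iv1 F96177)) (tt N19471 F54412) (tt N37521 F96192) (tt N34307 (iv3 F313141)) (tt N11158 (iv4 D34292)) (tt N44498 D74839) (tt N29762 F310927) (tt N30516 (iv7 F78754)))
theorem Q22794 : ∀ i, i < 22794 → P i := stepQ 22793 Q22793 (allL N22793 (tt N29594 (iv1 F311657)) (tt N29799 (iv0 F311656)) (tt N44492 (iv2 F112306)) (tt N11159 F54413) (tt N29762 F310755) (tt N16960 F54414) (tt N11158 (iv6 D34293)) (tt N21711 F310756))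
theorem Q22795 : ∀ i, i < 22795 → P i := stepQ 22794 Q22794 (allL N22794 (tt N11160 (iv1 D34298)) (tt N19433 F54422) (tt N23838 (iv2 F56585)) (tt N36251 (iv3 F94198)) (tt N22780 (iv4 F54423)) (tt N34091 (iv5 F86726)) (tt N23844 (iv6 F56605)) (tt N16363 F54424))
theorem Q22796 : ∀ i, i < 22796 → P i := stepQ 22795 Q22795 (allL N22795 (tt N44499 D74850) (tt N37554 (iv0 F96259)) (tt N37375 (iv2 F95884)) (tt N15018 F54427) (tt N44500 D74851) (tt N11160 (iv5 D34299)) (tt N44501 D74852) (tt N29980 (iv7 F77720)))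
theorem Q22797 : ∀ i, i < 22797 → P i := stepQ 22796 Q22796 (allL N22796 (tt N43284 (iv1 F108451)) (tt N41417 (iv0 F104115)) (tt N37376 (iv2 F95887)) (tt N15019 F54428) (tt N11162 F54429) (tt N44502 D74853) (tt N11160 (iv6 D34300)) (tt N16277 F54430))
theorem Q22798 : ∀ i, i < 22798 → P i := stepQ 22797 Q22797 (allL N22797 (tt N44503 D74854) (tt N37555 (iv0 F96260)) (tt N37377 (iv2 F95893)) (tt N35381 (iv3 F311085)) (tt N11161 (iv4 D34301)) (tt N44504 D74855) (tt N43818 F308932) (tt N30514 (iv7 F78748)))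
theorem Q22799 : ∀ i, i < 22799 → P i := stepQ 22798 Q22798 (allL N22798 (tt N44505 D74857) (tt N44506 D74858) (tt N37378 (iv2 F95894)) (tt N11163 F54431) (tt N43818 (iv4 F307078)) (tt N44507 D74859) (tt N11161 (iv6 D34302)) (tt N44508 D74860))
theorem Q22800 : ∀ i, i < 22800 → P i := stepQ 22799 Q22799 (allL N22799 (tt N16951 F54435) (tt N17149 (iv0 F54436)) (tt N17261 F54432) (tt N11164 F54433) (tt N44509 D74861) (tt N11162 (iv5 D34303)) (tt N44507 (iv6 F112361)) (tt N17262 F54434))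
theorem Q22801 : ∀ i, i < 22801 → P i := stepQ 22800 Q22800 (allL N22800 (tt N21712 (iv1 F308856)) (tt N11163 (iv0 D34304)) (tt N22774 (iv2 F307195)) (tt N44510 D74862) (tt N34252 (iv4 F307053)) (tt N15305 (iv5 F307200)) (tt N38349 F305268) (tt N30518 F86573))
theorem Q22802 : ∀ i, i < 22802 → P i := stepQ 22801 Q22801 (allL N22801 (tt N11163 (iv1 D34305)) (tt N21712 F308931) (tt N30518 F86571) (tt N44511 D74865) (tt N34163 (iv4 F308965)) (tt N22775 (iv5 F310195)) (tt N34347 (iv6 F87309)) (tt N22774 F308191))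
theorem Q22803 : ∀ i, i < 22803 → P i := stepQ 22802 Q22802 (allL N22802 (tt N33459 (iv1 F311300)) (tt N37960 (iv0 F311299)) (tt N21900 F54437) (tt N44507 (iv3 F112360)) (tt N22720 (iv4 F311301)) (tt N11163 (iv5 D34306)) (tt N11164 F54438) (tt N33336 (iv7 F310193)))
theorem Q22804 : ∀ i, i < 22804 → P i := stepQ 22803 Q22803 (allL N22803 (tt N30518 (iv1 F78757)) (tt N22774 F308189) (tt N21712 (iv2 F308857)) (tt N44508 (iv3 F112362)) (tt N16986 (iv4 F308879)) (tt N33336 (iv5 F310192)) (tt N11801 (iv6 F308648)) (tt N11163 (iv7 D34307)))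
theorem Q22805 : ∀ i, i < 22805 → P i := stepQ 22804 Q22804 (allL N22804 (tt N19031 F54444) (tt N22179 F54443) (tt N11167 F54440) (tt N37540 (iv3 F96233)) (tt N37496 (iv4 F96135)) (tt N11166 (iv5 D34308)) (tt N21355 F54441) (tt N11171 F54442))
theorem Q22806 : ∀ i, i < 22806 → P i := stepQ 22805 Q22805 (allL N22805 (tt N19484 F54445) (tt N36457 (iv0 F94657)) (tt N37496 F96136) (tt N24249 F306676) (tt N11167 (iv4 D34309)) (tt N27730 (iv5 F311833)) (tt N24247 F306677) (tt N27729 (iv7 F311831)))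
theorem Q22807 : ∀ i, i < 22807 → P i := stepQ 22806 Q22806 (allL N22806 (tt N22179 (iv1 F54451)) (tt N19031 F54452) (tt N11171 F54448) (tt N17975 F309655) (tt N27729 F312923) (tt N11169 F54450) (tt N44512 D74875) (tt N11167 (iv7 D34311)))
theorem Q22808 : ∀ i, i < 22808 → P i := stepQ 22807 Q22807 (allL N22807 (tt N21000 F54458) (tt N16816 (iv0 F54459)) (tt N11172 F54453) (tt N19372 F54454) (tt N19003 F54455) (tt N21896 F54457) (tt N11169 (iv6 D34312)) (tt N20913 F54456))
theorem Q22809 : ∀ i, i < 22809 → P i := stepQ 22808 Q22808 (allL N22808 (tt N21997 F54461) (tt N37543 F96241) (tt N25187 F310646) (tt N11171 F54460) (tt N37544 (iv4 F96246)) (tt N11170 (iv5 D34313)) (tt N44513 D74876) (tt N37540 (iv7 F96234)))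
theorem Q22810 : ∀ i, i < 22810 → P i := stepQ 22809 Q22809 (allL N22809 (tt N41384 F104075) (tt N23334 (iv0 F55628)) (tt N37440 (iv2 F95987)) (tt N11172 F54462) (tt N37440 (iv4 F95989)) (tt N42748 (iv5 F107052)) (tt N11170 (iv6 D34314)) (tt N41361 (iv7 F104027)))
theorem Q22811 : ∀ i, i < 22811 → P i := stepQ 22810 Q22810 (allL N22810 (tt N36457 (iv1 F94658)) (tt N19484 F54463) (tt N27729 (iv2 F311829)) (tt N44514 D74877) (tt N11171 (iv4 D34315)) (tt N12023 F310156) (tt N44515 D74879) (tt N37496 F96137))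
theorem Q22812 : ∀ i, i < 22812 → P i := stepQ 22811 Q22811 (allL N22811 (tt N44510 (iv1 F190823)) (tt N44516 D74881) (tt N44512 (iv2 F112386)) (tt N44513 (iv3 F112389)) (tt N44515 (iv4 F112393)) (tt N44517 D74882) (tt N11171 (iv6 D34316)) (tt N44518 D74883))
theorem Q22813 : ∀ i, i < 22813 → P i := stepQ 22812 Q22812 (allL N22812 (tt N17063 F54466) (tt N21895 F54465) (tt N21896 F54464) (tt N42748 (iv3 F107055)) (tt N36628 (iv4 F94881)) (tt N11172 (iv5 D34317)) (tt N44517 (iv6 F112396)) (tt N21897 (iv7 F54467)))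
theorem Q22814 : ∀ i, i < 22814 → P i := stepQ 22813 Q22813 (allL N22813 (tt N16816 (iv1 F54471)) (tt N21000 F54472) (tt N20913 F54468) (tt N41361 (iv3 F104026)) (tt N22867 (iv4 F54547)) (tt N21897 F54469) (tt N16802 F54470) (tt N11172 (iv7 D34318)))
theorem Q22815 : ∀ i, i < 22815 → P i := stepQ 22814 Q22814 (allL N22814 (tt N36417 (iv1 F94551)) (tt N12630 F309074) (tt N11175 F54473) (tt N38387 (iv3 F209859)) (tt N11173 (iv4 D34319)) (tt N11329 (iv5 F309204)) (tt N38386 (iv6 F209857)) (tt N34576 F309075))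
theorem Q22816 : ∀ i, i < 22816 → P i := stepQ 22815 Q22815 (allL N22815 (tt N33838 (iv1 F85857)) (tt N37591 F96316) (tt N37441 (iv2 F95998)) (tt N11174 (iv3 D34320)) (tt N42516 (iv4 F106330)) (tt N19070 F54474) (tt N44519 D74886) (tt N22188 F54475))
theorem Q22817 : ∀ i, i < 22817 → P i := stepQ 22816 Q22816 (allL N22816 (tt N38361 (iv1 F98081)) (tt N19102 F54477) (tt N38363 F98088) (tt N44520 D74887) (tt N11174 (iv4 D34321)) (tt N25191 F308245) (tt N43460 (iv6 F185280)) (tt N22199 F54476))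
theorem Q22818 : ∀ i, i < 22818 → P i := stepQ 22817 Q22817 (allL N22817 (tt N44521 D74890) (tt N38364 (iv0 F185294)) (tt N43426 (iv2 F108814)) (tt N44519 (iv3 F112400)) (tt N43460 (iv4 F185279)) (tt N42193 (iv5 F105555)) (tt N11174 (iv6 D34322)) (tt N44522 D74892))
theorem Q22819 : ∀ i, i < 22819 → P i := stepQ 22818 Q22818 (allL N22818 (tt N11175 (iv1 D34323)) (tt N34576 F309069) (tt N12630 F309070) (tt N44523 D74893) (tt N19479 F54478) (tt N12593 F309071) (tt N28721 F309072) (tt N36417 (iv7 F94549)))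
theorem Q22820 : ∀ i, i < 22820 → P i := stepQ 22819 Q22819 (allL N22819 (tt N44524 D74896) (tt N44525 D74897) (tt N44526 D74898) (tt N11175 (iv3 D34324)) (tt N11183 F54479) (tt N44527 D74899) (tt N42467 F309458) (tt N20291 (iv7 F54480)))
theorem Q22821 : ∀ i, i < 22821 → P i := stepQ 22820 Q22820 (allL N22820 (tt N27742 F311410) (tt N12034 F311411) (tt N11329 F311412) (tt N44527 (iv3 F112415)) (tt N11328 F311413) (tt N11175 (iv5 D34325)) (tt N44528 D74904) (tt N27731 F311414))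
theorem Q22822 : ∀ i, i < 22822 → P i := stepQ 22821 Q22821 (allL N22821 (tt N38331 (iv1 F185327)) (tt N44529 D74907) (tt N38386 (iv2 F209855)) (tt N42467 F309454) (tt N11176 F54481) (tt N44530 D74908) (tt N11175 (iv6 D34326)) (tt N44531 D74909))
theorem Q22823 : ∀ i, i < 22823 → P i := stepQ 22822 Q22822 (allL N22822 (tt N12630 F309076) (tt N36417 (iv0 F94550)) (tt N34576 F309077) (tt N20291 F54482) (tt N11177 F54483) (tt N27731 (iv5 F309202)) (tt N44532 D74910) (tt N11175 (iv7 D34327)))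
theorem Q22824 : ∀ i, i < 22824 → P i := stepQ 22823 Q22823 (allL N22823 (tt N43461 (iv1 F108939)) (tt N11176 (iv0 D34328)) (tt N43460 F110033) (tt N24281 (iv3 F310102)) (tt N43426 (iv4 F185289)) (tt N22397 F110034) (tt N38363 (iv6 F185281)) (tt N22396 F110035))
theorem Q22825 : ∀ i, i < 22825 → P i := stepQ 22824 Q22824 (allL N22824 (tt N11176 (iv1 D34329)) (tt N43461 F108938) (tt N22396 F110012) (tt N44533 D74914) (tt N44522 (iv4 F185287)) (tt N22288 (iv5 F54484)) (tt N24278 F307628) (tt N43460 F110013))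
theorem Q22826 : ∀ i, i < 22826 → P i := stepQ 22825 Q22825 (allL N22825 (tt N22396 (iv1 F54487)) (tt N43460 F108937) (tt N43461 (iv2 F108935)) (tt N11187 F54485) (tt N44531 (iv4 F112430)) (tt N11202 F54486) (tt N44534 D74917) (tt N11176 (iv7 D34330)))
theorem Q22827 : ∀ i, i < 22827 → P i := stepQ 22826 Q22826 (allL N22826 (tt N44535 D74918) (tt N44536 D74919) (tt N43425 (iv2 F108805)) (tt N11188 F54488) (tt N44532 (iv4 F112432)) (tt N41843 (iv5 F104996)) (tt N11177 (iv6 D34331)) (tt N44534 (iv7 F112441)))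
theorem Q22828 : ∀ i, i < 22828 → P i := stepQ 22827 Q22827 (allL N22827 (tt N30508 (iv1 F78728)) (tt N11180 (iv0 D34334)) (tt N30506 F105744) (tt N33947 (iv3 F112121)) (tt N21744 (iv4 F304560)) (tt N44042 (iv5 F131192)) (tt N21423 F54491) (tt N30507 (iv7 F105745)))
theorem Q22829 : ∀ i, i < 22829 → P i := stepQ 22828 Q22828 (allL N22828 (tt N11180 (iv1 D34335)) (tt N30508 F78727) (tt N30507 (iv2 F105747)) (tt N43423 (iv3 F190423)) (tt N44436 (iv4 F112466)) (tt N44537 D74928) (tt N44538 D74929) (tt N30506 F105746))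
theorem Q22830 : ∀ i, i < 22830 → P i := stepQ 22829 Q22829 (allL N22829 (tt N22483 F54494) (tt N19496 F301916) (tt N21744 F54492) (tt N34062 (iv3 F86642)) (tt N30506 F301917) (tt N11180 (iv5 D34336)) (tt N15319 F54493) (tt N44436 (iv7 F302968)))
theorem Q22831 : ∀ i, i < 22831 → P i := stepQ 22830 Q22830 (allL N22830 (tt N30507 (iv1 F78723)) (tt N30506 F78726) (tt N30508 (iv2 F78724)) (tt N23307 (iv3 F302970)) (tt N17032 F302965) (tt N44436 F302972) (tt N23688 (iv6 F305335)) (tt N11180 (iv7 D34337)))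
theorem Q22832 : ∀ i, i < 22832 → P i := stepQ 22831 Q22831 (allL N22831 (tt N34117 (iv1 F86784)) (tt N28511 (iv0 F309594)) (tt N34119 (iv2 F86785)) (tt N29348 F307760) (tt N11181 (iv4 D34338)) (tt N44539 D74932) (tt N44540 D74933) (tt N29343 F307761))
theorem Q22833 : ∀ i, i < 22833 → P i := stepQ 22832 Q22832 (allL N22832 (tt N43165 (iv1 F209040)) (tt N44541 D74935) (tt N34120 (iv2 F86788)) (tt N11182 F54495) (tt N44540 (iv4 F112469)) (tt N34156 (iv5 F86833)) (tt N11181 (iv6 D34339)) (tt N42722 F307611))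
theorem Q22834 : ∀ i, i < 22834 → P i := stepQ 22833 Q22833 (allL N22833 (tt N23688 F307227) (tt N11182 (iv0 D34340)) (tt N30512 F189538) (tt N44521 (iv3 F209890)) (tt N22477 F307228) (tt N35452 (iv5 F92350)) (tt N44542 D74940) (tt N30513 F189539))
theorem Q22835 : ∀ i, i < 22835 → P i := stepQ 22834 Q22834 (allL N22834 (tt N11182 (iv1 D34341)) (tt N23688 F307225) (tt N30513 (iv2 F189536)) (tt N44543 D74942) (tt N22478 F307226) (tt N35453 (iv5 F92352)) (tt N42696 (iv6 F309189)) (tt N30512 (iv7 F189537)))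
theorem Q22836 : ∀ i, i < 22836 → P i := stepQ 22835 Q22835 (allL N22835 (tt N20288 (iv1 F54496)) (tt N11183 (iv0 D34343)) (tt N20290 F209824) (tt N44544 D74946) (tt N44545 D74947) (tt N38261 (iv5 F210313)) (tt N25484 F307454) (tt N20289 (iv7 F209827)))
theorem Q22837 : ∀ i, i < 22837 → P i := stepQ 22836 Q22836 (allL N22836 (tt N11183 (iv1 D34344)) (tt N20288 F54500) (tt N20289 (iv2 F209826)) (tt N43095 (iv3 F312352)) (tt N44546 D74952) (tt N38262 (iv5 F210307)) (tt N44547 D74954) (tt N20290 F209825))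
theorem Q22838 : ∀ i, i < 22838 → P i := stepQ 22837 Q22837 (allL N22837 (tt N20290 (iv1 F54501)) (tt N20289 F54499) (tt N11183 (iv2 D34345)) (tt N34425 (iv3 F87506)) (tt N44526 (iv4 F112410)) (tt N20277 F54497) (tt N34441 F308056) (tt N20288 F54498))
theorem Q22839 : ∀ i, i < 22839 → P i := stepQ 22838 Q22838 (allL N22838 (tt N44548 D74956) (tt N23308 F309376) (tt N34441 F309377) (tt N11184 F54502) (tt N42467 F309378) (tt N44549 D74958) (tt N11183 (iv6 D34346)) (tt N44550 D74959))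
theorem Q22840 : ∀ i, i < 22840 → P i := stepQ 22839 Q22839 (allL N22839 (tt N21746 F310520) (tt N11184 (iv0 D34347)) (tt N21747 F310521) (tt N23881 (iv3 F312716)) (tt N15256 F56393) (tt N19438 (iv5 F310929)) (tt N21756 F310522) (tt N17029 F310523))
theorem Q22841 : ∀ i, i < 22841 → P i := stepQ 22840 Q22840 (allL N22840 (tt N22024 F310275) (tt N44551 D74967) (tt N34426 (iv2 F87513)) (tt N44549 (iv3 F112479)) (tt N44552 D74968) (tt N11184 (iv5 D34349)) (tt N20298 F54504) (tt N38281 (iv7 F311181)))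
theorem Q22842 : ∀ i, i < 22842 → P i := stepQ 22841 Q22841 (allL N22841 (tt N17029 F309942) (tt N21747 F309943) (tt N21746 F309944) (tt N44550 (iv3 F112481)) (tt N11187 F54505) (tt N38281 (iv5 F311180)) (tt N20297 F54506) (tt N11184 (iv7 D34350)))
theorem Q22843 : ∀ i, i < 22843 → P i := stepQ 22842 Q22842 (allL N22842 (tt N43080 F232456) (tt N23318 F232457) (tt N43079 (iv2 F232497)) (tt N11185 (iv3 D34351)) (tt N44547 (iv4 F209818)) (tt N17284 F303897) (tt N44546 (iv6 F209816)) (tt N22503 F54508))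
theorem Q22844 : ∀ i, i < 22844 → P i := stepQ 22843 Q22843 (allL N22843 (tt N42696 F311393) (tt N42695 F311394) (tt N34428 (iv2 F87522)) (tt N44546 (iv3 F209814)) (tt N21834 F311395) (tt N17471 F303902) (tt N11185 (iv6 D34353)) (tt N21832 F311396))
theorem Q22845 : ∀ i, i < 22845 → P i := stepQ 22844 Q22844 (allL N22844 (tt N19435 (iv1 F130937)) (tt N43316 (iv0 F130938)) (tt N43314 (iv2 F130758)) (tt N11186 (iv3 D34354)) (tt N43464 (iv4 F310201)) (tt N17301 F54512) (tt N21836 F308195) (tt N34427 (iv7 F87521)))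
theorem Q22846 : ∀ i, i < 22846 → P i := stepQ 22845 Q22845 (allL N22845 (tt N34431 (iv1 F87531)) (tt N34430 F87530) (tt N34429 (iv2 F87524)) (tt N44534 (iv3 F112440)) (tt N20297 F54517) (tt N34564 (iv5 F87860)) (tt N11187 (iv6 D34357)) (tt N11188 F54518))
theorem Q22847 : ∀ i, i < 22847 → P i := stepQ 22846 Q22846 (allL N22846 (tt N34429 (iv1 F87529)) (tt N11188 (iv0 D34358)) (tt N34430 (iv2 F200116)) (tt N44553 D74989) (tt N21850 (iv4 F310472)) (tt N44554 D74991) (tt N21848 F309348) (tt N34431 F200115))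
theorem Q22848 : ∀ i, i < 22848 → P i := stepQ 22847 Q22847 (allL N22847 (tt N11188 (iv1 D34359)) (tt N34429 F87528) (tt N34431 F200112) (tt N37383 F237545) (tt N30502 (iv4 F166586)) (tt N44555 D74996) (tt N44349 F313920) (tt N34430 (iv7 F200117)))
theorem Q22849 : ∀ i, i < 22849 → P i := stepQ 22848 Q22848 (allL N22848 (tt N17454 F54524) (tt N21320 (iv0 F54525)) (tt N11194 F54519) (tt N42488 (iv3 F106282)) (tt N14928 F54522) (tt N11190 (iv5 D34360)) (tt N17913 F54520) (tt N21685 F54521))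
theorem Q22850 : ∀ i, i < 22850 → P i := stepQ 22849 Q22849 (allL N22849 (tt N21320 F54532) (tt N17454 F54531) (tt N21685 F54526) (tt N11194 F54527) (tt N14932 F54530) (tt N11191 (iv5 D34361)) (tt N22299 F54528) (tt N11194 F54529))
theorem Q22851 : ∀ i, i < 22851 → P i := stepQ 22850 Q22850 (allL N22850 (tt N21685 (iv1 F54535)) (tt N11194 (iv0 D34362)) (tt N17454 (iv2 F54534)) (tt N17451 F54537) (tt N32841 (iv4 F83642)) (tt N21159 F54533) (tt N44556 D74998) (tt N21320 F54536))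
theorem Q22852 : ∀ i, i < 22852 → P i := stepQ 22851 Q22851 (allL N22851 (tt N43388 (iv1 F191287)) (tt N34048 (iv0 F191288)) (tt N34504 (iv2 F87734)) (tt N26185 F303361) (tt N36434 (iv4 F94593)) (tt N44557 D75005) (tt N11196 (iv6 D34364)) (tt N12692 F303362))
theorem Q22853 : ∀ i, i < 22853 → P i := stepQ 22852 Q22852 (allL N22852 (tt N44558 D75006) (tt N44559 D75007) (tt N26028 F302939) (tt N11197 (iv3 D34365)) (tt N29761 (iv4 F77212)) (tt N33999 (iv5 F86477)) (tt N25797 F302940) (tt N34503 (iv7 F87733)))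
theorem Q22854 : ∀ i, i < 22854 → P i := stepQ 22853 Q22853 (allL N22853 (tt N18581 F54540) (tt N18578 F54541) (tt N21517 F54538) (tt N44560 D75013) (tt N11198 (iv4 D34367)) (tt N21514 F54539) (tt N44561 D75014) (tt N34506 (iv7 F87740)))
theorem Q22855 : ∀ i, i < 22855 → P i := stepQ 22854 Q22854 (allL N22854 (tt N44562 D75015) (tt N44563 D75016) (tt N43451 (iv2 F108920)) (tt N23399 (iv3 F55818)) (tt N44561 (iv4 F112549)) (tt N44564 D75017) (tt N11198 (iv6 D34368)) (tt N44565 D75018))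
theorem Q22856 : ∀ i, i < 22856 → P i := stepQ 22855 Q22855 (allL N22855 (tt N43455 (iv1 F108929)) (tt N11199 (iv0 D34369)) (tt N43452 (iv2 F234052)) (tt N44566 D75020) (tt N42857 (iv4 F109931)) (tt N44567 D75021) (tt N25799 F303363) (tt N43453 (iv7 F234057)))
theorem Q22857 : ∀ i, i < 22857 → P i := stepQ 22856 Q22856 (allL N22856 (tt N11199 (iv1 D34370)) (tt N43455 F108927) (tt N43453 (iv2 F234056)) (tt N44568 D75024) (tt N42858 (iv4 F215532)) (tt N44569 D75026) (tt N44570 D75027) (tt N43452 (iv7 F234053)))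
theorem Q22858 : ∀ i, i < 22858 → P i := stepQ 22857 Q22857 (allL N22857 (tt N14325 (iv1 F305552)) (tt N44571 D75029) (tt N43454 (iv2 F108923)) (tt N23402 (iv3 F55819)) (tt N44572 D75030) (tt N11199 (iv5 D34371)) (tt N44564 (iv6 F112550)) (tt N44573 D75031))
theorem Q22859 : ∀ i, i < 22859 → P i := stepQ 22858 Q22858 (allL N22858 (tt N43453 (iv1 F108922)) (tt N43452 F108926) (tt N43455 (iv2 F108924)) (tt N23403 (iv3 F55820)) (tt N11202 F54542) (tt N44573 (iv5 F112555)) (tt N34511 (iv6 F87751)) (tt N11199 (iv7 D34372)))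
theorem Q22860 : ∀ i, i < 22860 → P i := stepQ 22859 Q22859 (allL N22859 (tt N43303 (iv1 F130975)) (tt N21741 (iv0 F130976)) (tt N43301 (iv2 F155554)) (tt N11200 (iv3 D34374)) (tt N44574 D75041) (tt N24958 F309753) (tt N37215 F309715) (tt N43302 (iv7 F155546)))
theorem Q22861 : ∀ i, i < 22861 → P i := stepQ 22860 Q22860 (allL N22860 (tt N43467 F109926) (tt N43409 (iv0 F112576)) (tt N43456 (iv2 F155537)) (tt N44575 D75046) (tt N11200 (iv4 D34375)) (tt N44576 D75047) (tt N29346 F307399) (tt N43458 (iv7 F155548)))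
theorem Q22862 : ∀ i, i < 22862 → P i := stepQ 22861 Q22861 (allL N22861 (tt N43720 F109508) (tt N43839 (iv0 F109796)) (tt N43457 (iv2 F155539)) (tt N24958 F309670) (tt N24960 F309671) (tt N11200 (iv5 D34376)) (tt N24960 F309672) (tt N43459 (iv7 F155550)))
theorem Q22863 : ∀ i, i < 22863 → P i := stepQ 22862 Q22862 (allL N22862 (tt N25426 F304643) (tt N43151 (iv0 F190594)) (tt N35406 (iv2 F155541)) (tt N37215 F309712) (tt N29346 (iv4 F305364)) (tt N35374 F92182) (tt N11200 (iv6 D34377)) (tt N35403 (iv7 F155560)))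
theorem Q22864 : ∀ i, i < 22864 → P i := stepQ 22863 Q22863 (allL N22863 (tt N33837 (iv1 F232765)) (tt N42506 (iv0 F232766)) (tt N42504 (iv2 F232761)) (tt N11201 (iv3 D34379)) (tt N42508 (iv4 F155455)) (tt N44577 D75059) (tt N44578 D75060) (tt N42503 (iv7 F232760)))
theorem Q22865 : ∀ i, i < 22865 → P i := stepQ 22864 Q22864 (allL N22864 (tt N43409 (iv1 F112577)) (tt N43467 F112575) (tt N43458 (iv2 F155547)) (tt N44579 D75061) (tt N11201 (iv4 D34380)) (tt N44580 D75062) (tt N44581 D75063) (tt N43456 (iv7 F155538)))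
theorem Q22866 : ∀ i, i < 22866 → P i := stepQ 22865 Q22865 (allL N22865 (tt N43839 (iv1 F112564)) (tt N43720 (iv0 F109509)) (tt N43459 (iv2 F155549)) (tt N44577 (iv3 F112581)) (tt N44582 D75064) (tt N11201 (iv5 D34381)) (tt N44583 D75065) (tt N43457 (iv7 F155540)))
theorem Q22867 : ∀ i, i < 22867 → P i := stepQ 22866 Q22866 (allL N22866 (tt N43394 (iv1 F190126)) (tt N43389 (iv0 F190106)) (tt N43392 (iv2 F190816)) (tt N44578 (iv3 F112582)) (tt N44581 (iv4 F112583)) (tt N43671 (iv5 F109384)) (tt N11201 (iv6 D34382)) (tt N43393 (iv7 F190829)))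
theorem Q22868 : ∀ i, i < 22868 → P i := stepQ 22867 Q22867 (allL N22867 (tt N21687 F54549) (tt N21001 (iv0 F54551)) (tt N21690 F54545) (tt N20913 F54546) (tt N22813 F54547) (tt N21394 F54550) (tt N11203 (iv6 D34383)) (tt N19372 F54548))
theorem Q22869 : ∀ i, i < 22869 → P i := stepQ 22868 Q22868 (allL N22868 (tt N21142 F54556) (tt N21234 F54555) (tt N21327 F54552) (tt N21350 F54553) (tt N13897 (iv4 F314106)) (tt N11204 (iv5 D34384)) (tt N13825 F311632) (tt N21338 F54554))
theorem Q22870 : ∀ i, i < 22870 → P i := stepQ 22869 Q22869 (allL N22869 (tt N36299 F94324) (tt N36283 (iv0 F94288)) (tt N36294 F94312) (tt N44584 D75068) (tt N11205 (iv4 D34385)) (tt N44585 D75069) (tt N34550 (iv6 F87811)) (tt N36295 (iv7 F94315)))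
theorem Q22871 : ∀ i, i < 22871 → P i := stepQ 22870 Q22870 (allL N22870 (tt N43093 (iv1 F186848)) (tt N34016 (iv0 F109927)) (tt N43076 (iv2 F232525)) (tt N11322 F303557) (tt N11206 (iv4 D34389)) (tt N43980 (iv5 F305661)) (tt N11320 F303558) (tt N34450 (iv7 F87572)))
theorem Q22872 : ∀ i, i < 22872 → P i := stepQ 22871 Q22871 (allL N22871 (tt N29795 F308047) (tt N42707 F308048) (tt N43077 (iv2 F232528)) (tt N11207 F54557) (tt N34315 (iv4 F309461)) (tt N11206 (iv5 D34390)) (tt N43992 (iv6 F311960)) (tt N34451 (iv7 F87574)))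
theorem Q22873 : ∀ i, i < 22873 → P i := stepQ 22872 Q22872 (allL N22872 (tt N34015 (iv1 F303863)) (tt N43095 (iv0 F303990)) (tt N43078 (iv2 F232447)) (tt N11208 F54558) (tt N11320 (iv4 F301903)) (tt N12466 (iv5 F54559)) (tt N11206 (iv6 D34391)) (tt N34552 (iv7 F303949)))
theorem Q22874 : ∀ i, i < 22874 → P i := stepQ 22873 Q22873 (allL N22873 (tt N37633 F307131) (tt N18612 (iv0 F307349)) (tt N21726 (iv2 F307347)) (tt N34316 (iv3 F307443)) (tt N11207 (iv4 D34392)) (tt N24215 (iv5 F308993)) (tt N17025 (iv6 F308994)) (tt N34453 (iv7 F87577)))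
theorem Q22875 : ∀ i, i < 22875 → P i := stepQ 22874 Q22874 (allL N22874 (tt N33938 (iv1 F155569)) (tt N43321 (iv0 F155091)) (tt N43311 (iv2 F130960)) (tt N23486 (iv3 F55984)) (tt N11209 (iv4 D34397)) (tt N44586 D75114) (tt N44587 D75115) (tt N34447 (iv7 F87555)))
theorem Q22876 : ∀ i, i < 22876 → P i := stepQ 22875 Q22875 (allL N22875 (tt N44588 D75116) (tt N43979 (iv0 F130992)) (tt N43312 (iv2 F130961)) (tt N11210 F54561) (tt N44589 D75118) (tt N11209 (iv5 D34398)) (tt N44590 D75119) (tt N34448 (iv7 F87557)))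
theorem Q22877 : ∀ i, i < 22877 → P i := stepQ 22876 Q22876 (allL N22876 (tt N43339 (iv1 F131184)) (tt N43211 (iv0 F233304)) (tt N43313 (iv2 F130962)) (tt N11211 F54562) (tt N44587 (iv4 F112622)) (tt N43936 (iv5 F110193)) (tt N11209 (iv6 D34399)) (tt N43337 (iv7 F131015)))
theorem Q22878 : ∀ i, i < 22878 → P i := stepQ 22877 Q22877 (allL N22877 (tt N18612 (iv1 F307350)) (tt N37633 F307130) (tt N34453 (iv2 F87576)) (tt N25457 (iv3 F310906)) (tt N11210 (iv4 D34400)) (tt N42841 (iv5 F308992)) (tt N44591 D75124) (tt N21726 (iv7 F307348)))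
theorem Q22879 : ∀ i, i < 22879 → P i := stepQ 22878 Q22878 (allL N22878 (tt N37454 F96128) (tt N19439 (iv0 F54563)) (tt N34454 (iv2 F87578)) (tt N44590 (iv3 F112623)) (tt N44591 (iv4 F112625)) (tt N43937 (iv5 F110198)) (tt N11210 (iv6 D34401)) (tt N37453 (iv7 F96021)))
theorem Q22880 : ∀ i, i < 22880 → P i := stepQ 22879 Q22879 (allL N22879 (tt N21203 F54567) (tt N21169 F85305) (tt N16936 F54564) (tt N11213 F54565) (tt N29733 F316397) (tt N11212 (iv5 D34402)) (tt N29732 F316398) (tt N21505 F54566))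
theorem Q22881 : ∀ i, i < 22881 → P i := stepQ 22880 Q22880 (allL N22880 (tt N23329 F55609) (tt N23344 F55659) (tt N23301 (iv2 F55445)) (tt N11214 F54568) (tt N41340 (iv4 F103970)) (tt N17321 (iv5 F54572)) (tt N11212 (iv6 D34403)) (tt N18631 F54569))
theorem Q22882 : ∀ i, i < 22882 → P i := stepQ 22881 Q22881 (allL N22881 (tt N33491 (iv1 F84949)) (tt N33494 (iv0 F84959)) (tt N21228 F54574) (tt N42039 (iv3 F314302)) (tt N11213 (iv4 D34404)) (tt N16885 F54576) (tt N42037 F312523) (tt N21506 F54575))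
theorem Q22883 : ∀ i, i < 22883 → P i := stepQ 22882 Q22882 (allL N22882 (tt N44592 D75128) (tt N44593 D75129) (tt N21503 F54577) (tt N29732 (iv3 F314981)) (tt N42037 F312520) (tt N17323 F54578) (tt N11213 (iv6 D34405)) (tt N42109 F312521))
theorem Q22884 : ∀ i, i < 22884 → P i := stepQ 22883 Q22883 (allL N22883 (tt N16361 (iv1 F56607)) (tt N23844 (iv0 F56606)) (tt N20905 F54579) (tt N11449 F54580) (tt N11215 (iv4 D34406)) (tt N44594 D75131) (tt N19371 F54581) (tt N20906 F54582))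
theorem Q22885 : ∀ i, i < 22885 → P i := stepQ 22884 Q22884 (allL N22884 (tt N33494 (iv1 F84960)) (tt N33491 (iv0 F84948)) (tt N21506 F54583) (tt N44595 D75132) (tt N11216 (iv4 D34407)) (tt N21229 F54584) (tt N44596 D75133) (tt N21228 F54585))
theorem Q22886 : ∀ i, i < 22886 → P i := stepQ 22885 Q22885 (allL N22885 (tt N44597 D75134) (tt N43153 (iv0 F108208)) (tt N21507 F54586) (tt N16940 F54587) (tt N44596 (iv4 F112660)) (tt N19024 F54588) (tt N11216 (iv6 D34408)) (tt N44598 D75135))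
theorem Q22887 : ∀ i, i < 22887 → P i := stepQ 22886 Q22886 (allL N22886 (tt N44599 D75136) (tt N44600 D75137) (tt N44601 D75138) (tt N11217 (iv3 D34409)) (tt N44584 (iv4 F112588)) (tt N42415 (iv5 F106153)) (tt N34563 (iv6 F87856)) (tt N41690 (iv7 F104742)))
theorem Q22888 : ∀ i, i < 22888 → P i := stepQ 22887 Q22887 (allL N22887 (tt N21088 F54592) (tt N21087 F54593) (tt N16810 F54589) (tt N44602 D75139) (tt N11218 (iv4 D34410)) (tt N16851 F54590) (tt N44603 D75140) (tt N21079 F54591))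
theorem Q22889 : ∀ i, i < 22889 → P i := stepQ 22888 Q22888 (allL N22888 (tt N44604 D75141) (tt N44605 D75142) (tt N16811 F54594) (tt N20961 F54595) (tt N44603 (iv4 F112677)) (tt N18626 F54596) (tt N11218 (iv6 D34411)) (tt N44606 D75143))
theorem Q22890 : ∀ i, i < 22890 → P i := stepQ 22889 Q22889 (allL N22889 (tt N16463 (iv1 F54602)) (tt N11219 (iv0 D34412)) (tt N16460 F145369) (tt N33628 F316818) (tt N29574 (iv4 F136453)) (tt N44607 D75147) (tt N44608 D75148) (tt N16461 (iv7 F145374)))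
theorem Q22891 : ∀ i, i < 22891 → P i := stepQ 22890 Q22890 (allL N22890 (tt N11219 (iv1 D34413)) (tt N16463 F54597) (tt N16461 (iv2 F145373)) (tt N44609 D75150) (tt N29575 (iv4 F145381)) (tt N44610 D75152) (tt N44611 D75153) (tt N16460 F145370))
theorem Q22892 : ∀ i, i < 22892 → P i := stepQ 22891 Q22891 (allL N22891 (tt N44612 D75154) (tt N44613 D75155) (tt N16462 F54598) (tt N34006 (iv3 F86485)) (tt N44614 D75156) (tt N11219 (iv5 D34414)) (tt N11220 F54599) (tt N44615 D75157))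
theorem Q22893 : ∀ i, i < 22893 → P i := stepQ 22892 Q22892 (allL N22892 (tt N16461 (iv1 F54603)) (tt N16460 F54604) (tt N16463 F54600) (tt N34007 (iv3 F86487)) (tt N29567 (iv4 F76718)) (tt N44615 (iv5 F112698)) (tt N16440 F54601) (tt N11219 (iv7 D34415)))
theorem Q22894 : ∀ i, i < 22894 → P i := stepQ 22893 Q22893 (allL N22893 (tt N16467 (iv1 F54608)) (tt N11220 (iv0 D34416)) (tt N16464 (iv2 F54606)) (tt N41438 (iv3 F104208)) (tt N36406 (iv4 F94506)) (tt N18488 F54605) (tt N44616 D75158) (tt N16465 F54607))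
theorem Q22895 : ∀ i, i < 22895 → P i := stepQ 22894 Q22894 (allL N22894 (tt N32706 (iv1 F83364)) (tt N32709 (iv0 F83367)) (tt N16466 F54609) (tt N44617 D75159) (tt N11220 (iv4 D34417)) (tt N32784 (iv5 F83519)) (tt N44614 (iv6 F112696)) (tt N32783 (iv7 F83514)))
theorem Q22896 : ∀ i, i < 22896 → P i := stepQ 22895 Q22895 (allL N22895 (tt N16465 (iv1 F54612)) (tt N16464 F54613) (tt N16467 F54610) (tt N34013 (iv3 F86495)) (tt N32783 (iv4 F83513)) (tt N11221 F54611) (tt N44618 D75160) (tt N11220 (iv7 D34418)))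
theorem Q22897 : ∀ i, i < 22897 → P i := stepQ 22896 Q22896 (allL N22896 (tt N27291 (iv1 F70025)) (tt N27289 (iv0 F70018)) (tt N25373 (iv2 F60835)) (tt N35902 F326751) (tt N11224 (iv4 D34419)) (tt N44619 D75162) (tt N27720 (iv6 F71197)) (tt N12008 F54614))
theorem Q22898 : ∀ i, i < 22898 → P i := stepQ 22897 Q22897 (allL N22897 (tt N23942 (iv1 F56943)) (tt N13642 F54616) (tt N11232 F54615) (tt N44620 D75163) (tt N11226 (iv4 D34420)) (tt N29470 (iv5 F76413)) (tt N24925 (iv6 F59944)) (tt N27636 (iv7 F70733)))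
theorem Q22899 : ∀ i, i < 22899 → P i := stepQ 22898 Q22898 (allL N22898 (tt N27632 (iv1 F70724)) (tt N27633 (iv0 F70727)) (tt N25301 (iv2 F60662)) (tt N32029 F326753) (tt N11229 (iv4 D34422)) (tt N37757 (iv5 F328125)) (tt N44621 D75167) (tt N25298 (iv7 F60655)))
theorem Q22900 : ∀ i, i < 22900 → P i := stepQ 22899 Q22899 (allL N22899 (tt N12673 (iv1 F296046)) (tt N13136 (iv0 F296047)) (tt N25300 F295937) (tt N15673 F326234) (tt N44621 (iv4 F112714)) (tt N12668 F295938) (tt N11229 (iv6 D34423)) (tt N25576 (iv7 F296049)))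
theorem Q22901 : ∀ i, i < 22901 → P i := stepQ 22900 Q22900 (allL N22900 (tt N13136 F54625) (tt N12673 F54626) (tt N25576 (iv2 F61556)) (tt N11231 F54624) (tt N44622 D75171) (tt N11230 (iv5 D34424)) (tt N44623 D75172) (tt N25300 (iv7 F60659)))
theorem Q22902 : ∀ i, i < 22902 → P i := stepQ 22901 Q22901 (allL N22901 (tt N27633 (iv1 F70728)) (tt N27632 (iv0 F70723)) (tt N25298 (iv2 F60654)) (tt N44624 D75173) (tt N11231 (iv4 D34425)) (tt N44625 D75174) (tt N44626 D75175) (tt N25301 (iv7 F60663)))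
theorem Q22903 : ∀ i, i < 22903 → P i := stepQ 22902 Q22902 (allL N22902 (tt N23825 (iv1 F116818)) (tt N44627 D75177) (tt N25299 (iv2 F60656)) (tt N44623 (iv3 F112719)) (tt N44626 (iv4 F112722)) (tt N22902 F54627) (tt N11231 (iv6 D34426)) (tt N44623 (iv7 F296076)))
theorem Q22904 : ∀ i, i < 22904 → P i := stepQ 22903 Q22903 (allL N22903 (tt N27636 (iv1 F70732)) (tt N11232 (iv0 D34427)) (tt N23942 (iv2 F56940)) (tt N44628 D75179) (tt N12711 F54628) (tt N27677 (iv5 F70908)) (tt N44629 D75180) (tt N13642 (iv7 F54629)))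
theorem Q22905 : ∀ i, i < 22905 → P i := stepQ 22904 Q22904 (allL N22904 (tt N44630 D75181) (tt N44631 D75182) (tt N44632 D75183) (tt N11232 (iv3 D34428)) (tt N11233 F54630) (tt N44633 D75184) (tt N24969 (iv6 F60010)) (tt N35527 (iv7 F92777)))
theorem Q22906 : ∀ i, i < 22906 → P i := stepQ 22905 Q22905 (allL N22905 (tt N44634 D75185) (tt N44635 D75186) (tt N29470 (iv2 F76411)) (tt N44633 (iv3 F112728)) (tt N27668 (iv4 F70866)) (tt N11232 (iv5 D34429)) (tt N44636 D75187) (tt N35528 (iv7 F92780)))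
theorem Q22907 : ∀ i, i < 22907 → P i := stepQ 22906 Q22906 (allL N22906 (tt N35531 (iv1 F92786)) (tt N11233 (iv0 D34430)) (tt N35530 F256542) (tt N44637 D75189) (tt N44638 D75190) (tt N25331 F248725) (tt N44639 D75192) (tt N35529 (iv7 F256551)))
theorem Q22908 : ∀ i, i < 22908 → P i := stepQ 22907 Q22907 (allL N22907 (tt N11233 (iv1 D34431)) (tt N35531 F92788) (tt N35529 (iv2 F256550)) (tt N44640 D75194) (tt N44641 D75195) (tt N25332 (iv5 F248721)) (tt N44642 D75197) (tt N35530 F256549))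
theorem Q22909 : ∀ i, i < 22909 → P i := stepQ 22908 Q22908 (allL N22908 (tt N35530 (iv1 F92787)) (tt N35529 F92782) (tt N11233 (iv2 D34432)) (tt N25372 (iv3 F60824)) (tt N44632 (iv4 F112727)) (tt N25320 (iv5 F60689)) (tt N24988 (iv6 F60071)) (tt N35531 (iv7 F92785)))
theorem Q22910 : ∀ i, i < 22910 → P i := stepQ 22909 Q22909 (allL N22909 (tt N44643 D75198) (tt N23502 (iv0 F114048)) (tt N11910 F54631) (tt N17645 F54632) (tt N17623 F54633) (tt N12063 F54634) (tt N11234 (iv6 D34433)) (tt N44644 D75200))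
theorem Q22911 : ∀ i, i < 22911 → P i := stepQ 22910 Q22910 (allL N22910 (tt N15599 F326195) (tt N11252 (iv0 F54637)) (tt N23514 (iv2 F56027)) (tt N11236 F54635) (tt N44645 D75201) (tt N11235 (iv5 D34434)) (tt N24514 (iv6 F296684)) (tt N12069 F54636))
theorem Q22912 : ∀ i, i < 22912 → P i := stepQ 22911 Q22911 (allL N22911 (tt N31217 F327002) (tt N34775 F89575) (tt N22914 (iv2 F54642)) (tt N44646 D75202) (tt N11236 (iv4 D34435)) (tt N44647 D75203) (tt N34799 (iv6 F89692)) (tt N12076 F54638))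
theorem Q22913 : ∀ i, i < 22913 → P i := stepQ 22912 Q22912 (allL N22912 (tt N25312 (iv1 F60680)) (tt N25311 F60677) (tt N11242 F54639) (tt N44648 D75204) (tt N11237 (iv4 D34436)) (tt N44649 D75205) (tt N25004 (iv6 F60106)) (tt N24365 (iv7 F58380)))
theorem Q22914 : ∀ i, i < 22914 → P i := stepQ 22913 Q22913 (allL N22913 (tt N15618 F326997) (tt N24027 F57175) (tt N11596 F54640) (tt N31978 (iv3 F327743)) (tt N25367 (iv4 F60816)) (tt N11238 (iv5 D34437)) (tt N27973 (iv6 F72408)) (tt N17605 F54641))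
theorem Q22915 : ∀ i, i < 22915 → P i := stepQ 22914 Q22914 (allL N22914 (tt N24370 (iv1 F58390)) (tt N24369 F58389) (tt N22911 F54642) (tt N44650 D75206) (tt N11239 (iv4 D34438)) (tt N44651 D75207) (tt N24384 (iv6 F58443)) (tt N17609 F54643))
theorem Q22916 : ∀ i, i < 22916 → P i := stepQ 22915 Q22915 (allL N22915 (tt N44652 D75208) (tt N29061 (iv0 F74940)) (tt N25309 (iv2 F60672)) (tt N44653 D75209) (tt N11240 (iv4 D34439)) (tt N44654 D75210) (tt N44655 D75211) (tt N23804 (iv7 F296927)))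
theorem Q22917 : ∀ i, i < 22917 → P i := stepQ 22916 Q22916 (allL N22916 (tt N44656 D75212) (tt N23827 (iv0 F117434)) (tt N25310 (iv2 F60674)) (tt N17518 (iv3 F297517)) (tt N44655 (iv4 F112761)) (tt N22916 F54644) (tt N11240 (iv6 D34440)) (tt N17513 (iv7 F297516)))
theorem Q22918 : ∀ i, i < 22918 → P i := stepQ 22917 Q22917 (allL N22917 (tt N23438 (iv1 F55921)) (tt N23046 (iv0 F54906)) (tt N13350 F295901) (tt N11241 (iv3 D34441)) (tt N44657 D75215) (tt N11250 F54645) (tt N11257 (iv6 F295966)) (tt N24891 (iv7 F59866)))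
theorem Q22919 : ∀ i, i < 22919 → P i := stepQ 22918 Q22918 (allL N22918 (tt N29061 (iv1 F74941)) (tt N44652 F112760) (tt N23804 (iv2 F296926)) (tt N44658 D75217) (tt N11241 (iv4 D34442)) (tt N44659 D75218) (tt N23799 (iv6 F296589)) (tt N25309 (iv7 F60673)))
theorem Q22920 : ∀ i, i < 22920 → P i := stepQ 22919 Q22919 (allL N22919 (tt N24365 (iv1 F58382)) (tt N11242 (iv0 D34444)) (tt N25312 F60683) (tt N44660 D75223) (tt N25982 (iv4 F63819)) (tt N44661 D75224) (tt N44662 D75225) (tt N25311 F60679))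
theorem Q22921 : ∀ i, i < 22921 → P i := stepQ 22920 Q22920 (allL N22920 (tt N11242 (iv1 D34445)) (tt N24365 (iv0 F58381)) (tt N25311 F60678) (tt N31072 F326831) (tt N11656 (iv4 F54647)) (tt N44663 D75227) (tt N34466 F296317) (tt N25312 (iv7 F60681)))
theorem Q22922 : ∀ i, i < 22922 → P i := stepQ 22921 Q22921 (allL N22921 (tt N44664 D75229) (tt N44665 D75230) (tt N44666 D75231) (tt N11242 (iv3 D34446)) (tt N11243 F54648) (tt N44667 D75232) (tt N25034 (iv6 F60164)) (tt N25313 (iv7 F60685)))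
theorem Q22923 : ∀ i, i < 22923 → P i := stepQ 22922 Q22922 (allL N22922 (tt N44668 D75233) (tt N40365 (iv0 F341310)) (tt N44649 (iv2 F112754)) (tt N44667 (iv3 F112778)) (tt N44669 D75235) (tt N11242 (iv5 D34447)) (tt N44670 D75236) (tt N25314 (iv7 F60686)))
theorem Q22924 : ∀ i, i < 22924 → P i := stepQ 22923 Q22923 (allL N22923 (tt N25320 (iv1 F60691)) (tt N11243 (iv0 D34448)) (tt N25319 F261311) (tt N31290 F327254) (tt N44671 D75239) (tt N25306 (iv5 F256335)) (tt N44672 D75241) (tt N25318 F261312))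
theorem Q22925 : ∀ i, i < 22925 → P i := stepQ 22924 Q22924 (allL N22924 (tt N11243 (iv1 D34449)) (tt N25320 F60693) (tt N25318 (iv2 F261303)) (tt N44673 D75243) (tt N44674 D75244) (tt N25307 F256340) (tt N44675 D75246) (tt N25319 (iv7 F261306)))
theorem Q22926 : ∀ i, i < 22926 → P i := stepQ 22925 Q22925 (allL N22925 (tt N25319 (iv1 F60692)) (tt N25318 F60688) (tt N11243 (iv2 D34450)) (tt N25308 (iv3 F60671)) (tt N44666 (iv4 F112777)) (tt N35531 (iv5 F92784)) (tt N25053 (iv6 F60224)) (tt N25320 (iv7 F60690)))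
theorem Q22927 : ∀ i, i < 22927 → P i := stepQ 22926 Q22926 (allL N22926 (tt N44676 D75247) (tt N44677 D75248) (tt N34095 (iv2 F86728)) (tt N11244 (iv3 D34451)) (tt N23394 (iv4 F55799)) (tt N13032 F54649) (tt N44678 D75249) (tt N11264 F54650))
theorem Q22928 : ∀ i, i < 22928 → P i := stepQ 22927 Q22927 (allL N22927 (tt N38101 F312788) (tt N44679 D75251) (tt N11298 F54651) (tt N44678 (iv3 F112792)) (tt N11245 F54652) (tt N44680 D75252) (tt N11244 (iv6 D34452)) (tt N44681 D75253))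
theorem Q22929 : ∀ i, i < 22929 → P i := stepQ 22928 Q22928 (allL N22928 (tt N11306 F54654) (tt N11245 (iv0 D34453)) (tt N11307 F113013) (tt N23911 (iv3 F117066)) (tt N27991 (iv4 F113033)) (tt N40507 (iv5 F325860)) (tt N11304 F54653) (tt N11308 (iv7 F113019)))
theorem Q22930 : ∀ i, i < 22930 → P i := stepQ 22929 Q22929 (allL N22929 (tt N11245 (iv1 D34454)) (tt N11306 F54655) (tt N11308 (iv2 F113018)) (tt N34793 (iv3 F117562)) (tt N27992 F72481) (tt N44682 D75260) (tt N34820 (iv6 F117779)) (tt N11307 F113014))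
theorem Q22931 : ∀ i, i < 22931 → P i := stepQ 22930 Q22930 (allL N22930 (tt N24571 F296941) (tt N24588 (iv0 F296957)) (tt N11309 F54656) (tt N17854 (iv3 F297542)) (tt N44683 D75263) (tt N11245 (iv5 D34455)) (tt N11246 F54657) (tt N24586 (iv7 F296956)))
theorem Q22932 : ∀ i, i < 22932 → P i := stepQ 22931 Q22931 (allL N22931 (tt N11308 (iv1 F54660)) (tt N11307 F54661) (tt N11306 F54658) (tt N23397 (iv3 F55810)) (tt N44681 (iv4 F112803)) (tt N24586 F297055) (tt N11269 F54659) (tt N11245 (iv7 D34456)))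
theorem Q22933 : ∀ i, i < 22933 → P i := stepQ 22932 Q22932 (allL N22932 (tt N12330 F54665) (tt N12329 F54666) (tt N11312 F54662) (tt N44684 D75265) (tt N11246 (iv4 D34457)) (tt N14498 F54664) (tt N44683 (iv6 F112831)) (tt N12103 F54663))
theorem Q22934 : ∀ i, i < 22934 → P i := stepQ 22933 Q22933 (allL N22933 (tt N25977 (iv1 F63807)) (tt N23947 (iv0 F56992)) (tt N11258 F54671) (tt N31936 F326181) (tt N11248 (iv4 D34459)) (tt N27252 F293609) (tt N24515 (iv6 F58993)) (tt N12328 F54672))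
theorem Q22935 : ∀ i, i < 22935 → P i := stepQ 22934 Q22934 (allL N22934 (tt N23514 (iv1 F56031)) (tt N12069 F54681) (tt N11252 F54680) (tt N15601 F324982) (tt N24049 (iv4 F57228)) (tt N11249 (iv5 D34462)) (tt N24571 (iv6 F59124)) (tt N15599 (iv7 F325276)))
theorem Q22936 : ∀ i, i < 22936 → P i := stepQ 22935 Q22935 (allL N22935 (tt N23046 (iv1 F54905)) (tt N23438 (iv0 F55922)) (tt N24891 F59864) (tt N13355 (iv3 F296200)) (tt N44685 D75273) (tt N11251 (iv5 D34463)) (tt N23819 (iv6 F296209)) (tt N13350 F296005))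
theorem Q22937 : ∀ i, i < 22937 → P i := stepQ 22936 Q22936 (allL N22936 (tt N11252 (iv1 D34464)) (tt N15599 F326194) (tt N12069 (iv2 F54683)) (tt N11906 (iv3 F54684)) (tt N44686 D75275) (tt N11905 F54682) (tt N12233 (iv6 F296676)) (tt N23514 (iv7 F56029)))
theorem Q22938 : ∀ i, i < 22938 → P i := stepQ 22937 Q22937 (allL N22937 (tt N11570 F54685) (tt N24044 (iv0 F57218)) (tt N24049 F57230) (tt N44687 D75277) (tt N11252 (iv4 D34465)) (tt N44688 D75278) (tt N24587 (iv6 F59142)) (tt N24050 (iv7 F57233)))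
theorem Q22939 : ∀ i, i < 22939 → P i := stepQ 22938 Q22938 (allL N22938 (tt N12069 (iv1 F54688)) (tt N23514 (iv0 F56030)) (tt N15599 (iv2 F325274)) (tt N11259 F54686) (tt N24050 (iv4 F57234)) (tt N11253 F54687) (tt N15598 F325268) (tt N11252 (iv7 D34466)))
theorem Q22940 : ∀ i, i < 22940 → P i := stepQ 22939 Q22939 (allL N22939 (tt N12954 F54690) (tt N23813 F56550) (tt N13349 F54689) (tt N44689 D75280) (tt N11257 (iv4 D34467)) (tt N26774 (iv5 F67637)) (tt N44657 F296122) (tt N23811 (iv7 F56543)))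
theorem Q22941 : ∀ i, i < 22941 → P i := stepQ 22940 Q22940 (allL N22940 (tt N12328 (iv1 F54694)) (tt N11258 (iv0 D34469)) (tt N25977 (iv2 F63804)) (tt N44690 D75284) (tt N11815 F54693) (tt N44691 D75285) (tt N27997 (iv6 F72493)) (tt N23947 (iv7 F56991)))
theorem Q22942 : ∀ i, i < 22942 → P i := stepQ 22941 Q22941 (allL N22941 (tt N44692 D75286) (tt N44693 D75287) (tt N44694 D75288) (tt N11258 (iv3 D34470)) (tt N44687 (iv4 F112868)) (tt N44695 D75289) (tt N24634 (iv6 F59228)) (tt N44696 D75290))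
theorem Q22943 : ∀ i, i < 22943 → P i := stepQ 22942 Q22942 (allL N22942 (tt N44697 D75291) (tt N44698 D75292) (tt N27252 F292778) (tt N44695 (iv3 F112883)) (tt N14493 F54695) (tt N11258 (iv5 D34471)) (tt N44699 D75293) (tt N27255 F292779))
theorem Q22944 : ∀ i, i < 22944 → P i := stepQ 22943 Q22943 (allL N22943 (tt N23947 (iv1 F56993)) (tt N25977 (iv0 F63806)) (tt N12328 F54696) (tt N44696 (iv3 F112884)) (tt N11259 F54697) (tt N27255 F293606) (tt N31929 F325595) (tt N11258 (iv7 D34472)))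
theorem Q22945 : ∀ i, i < 22945 → P i := stepQ 22944 Q22944 (allL N22944 (tt N23047 (iv1 F54910)) (tt N11263 (iv0 D34478)) (tt N24893 F59876) (tt N44700 D75301) (tt N13292 F54712) (tt N44698 (iv5 F112889)) (tt N44701 D75302) (tt N24894 (iv7 F59879)))
theorem Q22946 : ∀ i, i < 22946 → P i := stepQ 22945 Q22945 (allL N22945 (tt N11263 (iv1 D34479)) (tt N23047 (iv0 F54909)) (tt N24894 F59881) (tt N44702 D75303) (tt N11718 F296037) (tt N44697 (iv5 F112885)) (tt N11717 F296038) (tt N24893 F59877))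
theorem Q22947 : ∀ i, i < 22947 → P i := stepQ 22946 Q22946 (allL N22946 (tt N44703 D75305) (tt N44704 D75306) (tt N44705 D75307) (tt N11263 (iv3 D34480)) (tt N15930 F326042) (tt N44706 D75308) (tt N24686 (iv6 F59322)) (tt N15927 (iv7 F326393)))
theorem Q22948 : ∀ i, i < 22948 → P i := stepQ 22947 Q22947 (allL N22947 (tt N44707 D75309) (tt N44708 D75310) (tt N24896 (iv2 F59882)) (tt N44706 (iv3 F112908)) (tt N26297 (iv4 F64581)) (tt N11263 (iv5 D34481)) (tt N44709 D75311) (tt N24897 (iv7 F59892)))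
theorem Q22949 : ∀ i, i < 22949 → P i := stepQ 22948 Q22948 (allL N22948 (tt N34095 (iv1 F86733)) (tt N11264 (iv0 D34482)) (tt N44677 (iv2 F125572)) (tt N44710 D75313) (tt N44711 D75314) (tt N14349 F90886) (tt N44712 D75315) (tt N44676 (iv7 F125565)))
theorem Q22950 : ∀ i, i < 22950 → P i := stepQ 22949 Q22949 (allL N22949 (tt N11264 (iv1 D34483)) (tt N34095 F86732) (tt N44676 (iv2 F125564)) (tt N44713 D75317) (tt N44714 D75318) (tt N14350 F112919) (tt N44715 D75319) (tt N44677 (iv7 F125573)))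
theorem Q22951 : ∀ i, i < 22951 → P i := stepQ 22950 Q22950 (allL N22950 (tt N44677 (iv1 F112791)) (tt N44676 F112790) (tt N11264 (iv2 D34484)) (tt N11289 F54714) (tt N34471 (iv4 F87621)) (tt N44716 D75320) (tt N44717 D75321) (tt N34095 (iv7 F86731)))
theorem Q22952 : ∀ i, i < 22952 → P i := stepQ 22951 Q22951 (allL N22951 (tt N24534 (iv1 F108917)) (tt N24538 (iv0 F113262)) (tt N44716 (iv2 F112930)) (tt N11265 F54715) (tt N25537 (iv4 F61455)) (tt N11264 (iv5 D34485)) (tt N44718 D75323) (tt N13032 F54716))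
theorem Q22953 : ∀ i, i < 22953 → P i := stepQ 22952 Q22952 (allL N22952 (tt N44719 D75324) (tt N38072 (iv0 F317688)) (tt N44717 (iv2 F112935)) (tt N11266 F54717) (tt N34473 (iv4 F87626)) (tt N38018 F315463) (tt N11264 (iv6 D34486)) (tt N44720 D75327))
theorem Q22954 : ∀ i, i < 22954 → P i := stepQ 22953 Q22953 (allL N22953 (tt N24128 (iv1 F304688)) (tt N44721 D75329) (tt N11292 F54718) (tt N44718 (iv3 F112940)) (tt N13038 F54719) (tt N38020 F317551) (tt N11265 (iv6 D34487)) (tt N44722 D75331))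
theorem Q22955 : ∀ i, i < 22955 → P i := stepQ 22954 Q22954 (allL N22954 (tt N11266 (iv1 D34489)) (tt N11297 F54720) (tt N11295 F113991) (tt N38087 (iv3 F314208)) (tt N13971 (iv4 F59780)) (tt N18952 (iv5 F314214)) (tt N23468 F297360) (tt N11294 (iv7 F114000)))
theorem Q22956 : ∀ i, i < 22956 → P i := stepQ 22955 Q22955 (allL N22955 (tt N11295 (iv1 F54725)) (tt N11294 F54726) (tt N11297 F54722) (tt N44720 (iv3 F112942)) (tt N11269 F54723) (tt N18850 (iv5 F314220)) (tt N44681 (iv6 F112804)) (tt N11266 (iv7 D34491)))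
theorem Q22957 : ∀ i, i < 22957 → P i := stepQ 22956 Q22956 (allL N22956 (tt N23910 (iv1 F116622)) (tt N12018 F116617) (tt N23909 (iv2 F116625)) (tt N11267 (iv3 D34493)) (tt N24081 F91435) (tt N23909 F297346) (tt N44723 D75352) (tt N11302 (iv7 F113015)))
theorem Q22958 : ∀ i, i < 22958 → P i := stepQ 22957 Q22957 (allL N22957 (tt N27987 F72462) (tt N12119 F72463) (tt N11300 F113002) (tt N44724 D75354) (tt N11267 (iv4 D34494)) (tt N44725 D75355) (tt N44726 D75356) (tt N11303 (iv7 F113017)))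
theorem Q22959 : ∀ i, i < 22959 → P i := stepQ 22958 Q22958 (allL N22958 (tt N24855 (iv1 F59546)) (tt N12086 F296227) (tt N11299 (iv2 F296690)) (tt N23909 (iv3 F296583)) (tt N24142 (iv4 F297013)) (tt N11267 (iv5 D34495)) (tt N34821 (iv6 F117784)) (tt N11304 F112997))
theorem Q22960 : ∀ i, i < 22960 → P i := stepQ 22959 Q22959 (allL N22959 (tt N12060 F117793) (tt N44727 D75360) (tt N11301 F113003) (tt N44723 (iv3 F112984)) (tt N44726 (iv4 F112987)) (tt N12323 F54728) (tt N11267 (iv6 D34496)) (tt N44728 D75361))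
theorem Q22961 : ∀ i, i < 22961 → P i := stepQ 22960 Q22960 (allL N22960 (tt N12086 F117258) (tt N24855 (iv0 F296693)) (tt N11304 (iv2 F296692)) (tt N11268 (iv3 D34498)) (tt N24143 F57526) (tt N11268 (iv5 F296297)) (tt N11307 (iv6 F296295)) (tt N11299 F113006))
theorem Q22962 : ∀ i, i < 22962 → P i := stepQ 22961 Q22961 (allL N22961 (tt N12119 F59725) (tt N27987 F72461) (tt N11303 (iv2 F113016)) (tt N33971 (iv3 F319331)) (tt N11268 (iv4 D34499)) (tt N44729 D75368) (tt N44730 D75369) (tt N11300 F113007))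
theorem Q22963 : ∀ i, i < 22963 → P i := stepQ 22962 Q22962 (allL N22962 (tt N24630 F59601) (tt N12096 F117875) (tt N11305 F113012) (tt N11307 (iv3 F296294)) (tt N44730 (iv4 F113103)) (tt N35273 (iv5 F117715)) (tt N11268 (iv6 D34501)) (tt N34793 (iv7 F296681)))
theorem Q22964 : ∀ i, i < 22964 → P i := stepQ 22963 Q22963 (allL N22963 (tt N44731 D75377) (tt N44732 D75378) (tt N43234 (iv2 F108380)) (tt N11270 (iv3 D34503)) (tt N11271 F54733) (tt N32592 (iv5 F83177)) (tt N11271 (iv6 F296237)) (tt N12106 F54734))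
theorem Q22965 : ∀ i, i < 22965 → P i := stepQ 22964 Q22964 (allL N22964 (tt N12564 F54736) (tt N23627 (iv0 F56274)) (tt N12146 F296145) (tt N32592 (iv3 F83178)) (tt N23458 (iv4 F55945)) (tt N11270 (iv5 D34504)) (tt N44733 D75380) (tt N12107 F54735))
theorem Q22966 : ∀ i, i < 22966 → P i := stepQ 22965 Q22965 (allL N22965 (tt N28082 F184673) (tt N28086 F184674) (tt N12145 F54743) (tt N34279 (iv3 F87071)) (tt N13020 F54744) (tt N44733 F297058) (tt N11272 (iv6 D34511)) (tt N44025 (iv7 F184605)))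
theorem Q22967 : ∀ i, i < 22967 → P i := stepQ 22966 Q22966 (allL N22966 (tt N12045 (iv1 F117824)) (tt N12045 (iv0 F296586)) (tt N11275 F54768) (tt N11280 F296119) (tt N18893 (iv4 F301591)) (tt N22966 F54770) (tt N11273 (iv6 D34530)) (tt N11275 (iv7 F296293)))
theorem Q22968 : ∀ i, i < 22968 → P i := stepQ 22967 Q22967 (allL N22967 (tt N44734 D75458) (tt N44735 D75459) (tt N44736 D75460) (tt N11274 (iv3 D34531)) (tt N11276 F54771) (tt N19116 (iv5 F301923)) (tt N38086 (iv6 F303882)) (tt N12136 F54772))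
theorem Q22969 : ∀ i, i < 22969 → P i := stepQ 22968 Q22968 (allL N22968 (tt N11275 F297353) (tt N11275 (iv0 D34534)) (tt N12045 F117862) (tt N12017 F297354) (tt N11934 (iv4 F117863)) (tt N24863 (iv5 F123055)) (tt N31106 F324838) (tt N12045 F297355))
theorem Q22970 : ∀ i, i < 22970 → P i := stepQ 22969 Q22969 (allL N22969 (tt N12142 (iv1 F54782)) (tt N11276 (iv0 D34537)) (tt N12141 F58965) (tt N28250 (iv3 F73485)) (tt N24505 F58966) (tt N24654 (iv5 F59263)) (tt N44737 D75478) (tt N12140 F58967))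
theorem Q22971 : ∀ i, i < 22971 → P i := stepQ 22970 Q22970 (allL N22970 (tt N11276 (iv1 D34538)) (tt N12142 F54786) (tt N12140 F58968) (tt N34058 F86630) (tt N24652 F59260) (tt N24655 F59270) (tt N44738 D75479) (tt N12141 F58969))
theorem Q22972 : ∀ i, i < 22972 → P i := stepQ 22971 Q22971 (allL N22971 (tt N12141 (iv1 F54787)) (tt N12140 F54785) (tt N11276 (iv2 D34539)) (tt N12124 F54783) (tt N44736 (iv4 F113250)) (tt N34277 (iv5 F87063)) (tt N44739 D75480) (tt N12142 F54784))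
theorem Q22973 : ∀ i, i < 22973 → P i := stepQ 22972 Q22972 (allL N22972 (tt N43953 (iv1 F110297)) (tt N43952 F110294) (tt N34277 (iv2 F87061)) (tt N11277 F54788) (tt N12222 (iv4 F54790)) (tt N11276 (iv5 D34540)) (tt N44740 D75481) (tt N12143 F54789))
theorem Q22974 : ∀ i, i < 22974 → P i := stepQ 22973 Q22973 (allL N22973 (tt N44741 D75482) (tt N44742 D75483) (tt N44739 (iv2 F113288)) (tt N11278 F54791) (tt N38086 F305917) (tt N44743 D75484) (tt N11276 (iv6 D34541)) (tt N44744 D75485))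
theorem Q22975 : ∀ i, i < 22975 → P i := stepQ 22974 Q22974 (allL N22974 (tt N28170 (iv1 F155165)) (tt N28174 (iv0 F155166)) (tt N12128 F54792) (tt N44740 (iv3 F113290)) (tt N13013 F54793) (tt N44745 D75488) (tt N11277 (iv6 D34542)) (tt N44746 D75489))
theorem Q22976 : ∀ i, i < 22976 → P i := stepQ 22975 Q22975 (allL N22975 (tt N44747 D75500) (tt N44748 D75501) (tt N12131 F54795) (tt N44743 (iv3 F113292)) (tt N44749 D75502) (tt N11278 (iv5 D34545)) (tt N44745 (iv6 F113297)) (tt N44750 D75503))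
theorem Q22977 : ∀ i, i < 22977 → P i := stepQ 22976 Q22976 (allL N22976 (tt N12130 (iv1 F54800)) (tt N12129 F54801) (tt N12108 (iv2 F296697)) (tt N44744 (iv3 F113293)) (tt N11280 F54797) (tt N44750 (iv5 F113313)) (tt N11559 F296231) (tt N11278 (iv7 D34546)))
theorem Q22978 : ∀ i, i < 22978 → P i := stepQ 22977 Q22977 (allL N22977 (tt N11286 F118883) (tt N13984 (iv0 F118889)) (tt N12058 (iv2 F117766)) (tt N44751 D75519) (tt N11279 (iv4 D34553)) (tt N44752 D75520) (tt N44753 D75521) (tt N12132 F59619))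
theorem Q22979 : ∀ i, i < 22979 → P i := stepQ 22978 Q22978 (allL N22978 (tt N44728 (iv1 F113079)) (tt N11301 F59620) (tt N12060 (iv2 F117759)) (tt N25031 (iv3 F299524)) (tt N44753 (iv4 F113345)) (tt N24626 (iv5 F59194)) (tt N11279 (iv6 D34554)) (tt N44727 (iv7 F113072)))
theorem Q22980 : ∀ i, i < 22980 → P i := stepQ 22979 Q22979 (allL N22979 (tt N13981 (iv1 F54804)) (tt N11281 (iv0 D34555)) (tt N13980 (iv2 F64252)) (tt N44754 D75522) (tt N44755 D75523) (tt N13033 F302401) (tt N44680 (iv6 F304812)) (tt N13979 (iv7 F64253)))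
theorem Q22981 : ∀ i, i < 22981 → P i := stepQ 22980 Q22980 (allL N22980 (tt N11281 (iv1 D34556)) (tt N13981 F54808) (tt N13979 (iv2 F64254)) (tt N44756 D75525) (tt N44757 D75526) (tt N24094 F64255) (tt N37997 F321678) (tt N13980 F64256))
theorem Q22982 : ∀ i, i < 22982 → P i := stepQ 22981 Q22981 (allL N22981 (tt N13980 (iv1 F54810)) (tt N13979 F54807) (tt N11281 (iv2 D34557)) (tt N14041 F54805) (tt N14264 (iv4 F54814)) (tt N17554 (iv5 F54809)) (tt N44758 D75528) (tt N13981 F54806))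
theorem Q22983 : ∀ i, i < 22983 → P i := stepQ 22982 Q22982 (allL N22982 (tt N14260 F54816) (tt N14099 (iv0 F54815)) (tt N14264 F54813) (tt N12080 F54811) (tt N11281 (iv4 D34558)) (tt N24433 (iv5 F58703)) (tt N17663 (iv6 F296617)) (tt N13963 F54812))
theorem Q22984 : ∀ i, i < 22984 → P i := stepQ 22983 Q22983 (allL N22983 (tt N22350 (iv1 F56136)) (tt N23559 F56146) (tt N17554 F54817) (tt N11282 F54818) (tt N34956 (iv4 F90529)) (tt N11281 (iv5 D34559)) (tt N12277 (iv6 F307511)) (tt N12272 F54819))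
theorem Q22985 : ∀ i, i < 22985 → P i := stepQ 22984 Q22984 (allL N22984 (tt N43257 (iv1 F296644)) (tt N44759 D75532) (tt N44758 (iv2 F113368)) (tt N11283 F54820) (tt N17663 (iv4 F296616)) (tt N43224 (iv5 F296646)) (tt N11281 (iv6 D34560)) (tt N23457 (iv7 F296647)))
theorem Q22986 : ∀ i, i < 22986 → P i := stepQ 22985 Q22985 (allL N22985 (tt N44760 D75535) (tt N44761 D75536) (tt N12274 F54821) (tt N12277 F309553) (tt N13000 F54822) (tt N44762 D75537) (tt N11282 (iv6 D34561)) (tt N44763 D75538))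
theorem Q22987 : ∀ i, i < 22987 → P i := stepQ 22986 Q22986 (allL N22986 (tt N34779 (iv1 F296648)) (tt N44764 D75550) (tt N14043 F54824) (tt N43224 (iv3 F296645)) (tt N12107 (iv4 F296654)) (tt N11283 (iv5 D34564)) (tt N44762 (iv6 F113381)) (tt N23458 (iv7 F296655)))
theorem Q22988 : ∀ i, i < 22988 → P i := stepQ 22987 Q22987 (allL N22987 (tt N44765 D75555) (tt N44766 D75556) (tt N23561 (iv2 F56148)) (tt N11286 F54835) (tt N22032 (iv4 F302500)) (tt N12529 (iv5 F318518)) (tt N11284 (iv6 D34567)) (tt N35514 F317914))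
theorem Q22989 : ∀ i, i < 22989 → P i := stepQ 22988 Q22988 (allL N22988 (tt N44767 D75559) (tt N44768 D75560) (tt N12273 F54836) (tt N17552 F54837) (tt N12985 F54838) (tt N44769 D75561) (tt N11285 (iv6 D34568)) (tt N44770 D75562))
theorem Q22990 : ∀ i, i < 22990 → P i := stepQ 22989 Q22989 (allL N22989 (tt N44771 D75573) (tt N44642 F329438) (tt N13983 F54840) (tt N12529 F320639) (tt N44772 D75575) (tt N11286 (iv5 D34571)) (tt N44769 (iv6 F113410)) (tt N35513 F320640))
theorem Q22991 : ∀ i, i < 22991 → P i := stepQ 22990 Q22990 (allL N22990 (tt N12058 (iv1 F118892)) (tt N12132 (iv0 F118893)) (tt N13984 F54841) (tt N35514 F317913) (tt N11901 F296162) (tt N35513 (iv5 F320079)) (tt N11900 F296163) (tt N11286 (iv7 D34572)))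
theorem Q22992 : ∀ i, i < 22992 → P i := stepQ 22991 Q22991 (allL N22991 (tt N38377 F303584) (tt N38376 F303585) (tt N18517 F301563) (tt N11287 (iv3 D34573)) (tt N18495 F301564) (tt N34217 (iv5 F86983)) (tt N18494 F301565) (tt N34433 (iv7 F87535)))
theorem Q22993 : ∀ i, i < 22993 → P i := stepQ 22992 Q22992 (allL N22992 (tt N34111 (iv1 F190988)) (tt N33967 (iv0 F190989)) (tt N34435 (iv2 F87538)) (tt N18494 (iv3 F300636)) (tt N32799 (iv4 F83556)) (tt N44773 D75582) (tt N11287 (iv6 D34574)) (tt N18538 F298152))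
theorem Q22994 : ∀ i, i < 22994 → P i := stepQ 22993 Q22993 (allL N22993 (tt N44774 D75584) (tt N44754 F113350) (tt N22053 (iv2 F54849)) (tt N11288 (iv3 D34575)) (tt N36445 (iv4 F94630)) (tt N17066 F54847) (tt N44775 D75585) (tt N22046 F54848))
theorem Q22995 : ∀ i, i < 22995 → P i := stepQ 22994 Q22994 (allL N22994 (tt N34045 (iv1 F188305)) (tt N34144 (iv0 F188306)) (tt N34434 (iv2 F87537)) (tt N44775 (iv3 F113444)) (tt N32818 (iv4 F83596)) (tt N44776 D75588) (tt N11288 (iv6 D34576)) (tt N43395 (iv7 F188322)))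
theorem Q22996 : ∀ i, i < 22996 → P i := stepQ 22995 Q22995 (allL N22995 (tt N17241 F54851) (tt N17237 F54852) (tt N11290 F54850) (tt N44716 (iv3 F112931)) (tt N27711 (iv4 F71167)) (tt N11289 (iv5 D34577)) (tt N44777 D75590) (tt N24732 (iv7 F59378)))
theorem Q22997 : ∀ i, i < 22997 → P i := stepQ 22996 Q22996 (allL N22996 (tt N44778 D75591) (tt N38373 F310800) (tt N11291 F54853) (tt N44717 (iv3 F112936)) (tt N11313 F54854) (tt N44779 D75593) (tt N11289 (iv6 D34578)) (tt N44780 D75594))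
theorem Q22998 : ∀ i, i < 22998 → P i := stepQ 22997 Q22997 (allL N22997 (tt N12021 F54855) (tt N25082 (iv0 F60280)) (tt N27711 (iv2 F71171)) (tt N28610 (iv3 F74278)) (tt N11290 (iv4 D34579)) (tt N32803 (iv5 F83574)) (tt N44781 D75595) (tt N27712 (iv7 F71173)))
theorem Q22999 : ∀ i, i < 22999 → P i := stepQ 22998 Q22998 (allL N22998 (tt N44782 D75596) (tt N44783 D75597) (tt N44777 (iv2 F113445)) (tt N11292 F54856) (tt N44781 (iv4 F113454)) (tt N44784 D75598) (tt N11290 (iv6 D34580)) (tt N44785 D75599))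
theorem Q23000 : ∀ i, i < 23000 → P i := stepQ 22999 Q22999 (allL N22999 (tt N44780 (iv1 F113453)) (tt N11291 (iv0 D34581)) (tt N44778 (iv2 F233746)) (tt N18882 F310784) (tt N42775 (iv4 F155411)) (tt N44786 D75603) (tt N44787 D75604) (tt N38373 F310785))
theorem Q23001 : ∀ i, i < 23001 → P i := stepQ 23000 Q23000 (allL N23000 (tt N11291 (iv1 D34582)) (tt N44780 F113451) (tt N38373 F310802) (tt N44788 D75606) (tt N42776 (iv4 F233757)) (tt N44789 D75608) (tt N44790 D75609) (tt N44778 (iv7 F233747)))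
theorem Q23002 : ∀ i, i < 23002 → P i := stepQ 23001 Q23001 (allL N23001 (tt N18876 F315440) (tt N44791 D75611) (tt N44779 (iv2 F113447)) (tt N11296 F54857) (tt N37966 (iv4 F317690)) (tt N11291 (iv5 D34583)) (tt N44784 (iv6 F113456)) (tt N38016 F315441))
theorem Q23003 : ∀ i, i < 23003 → P i := stepQ 23002 Q23002 (allL N23002 (tt N38373 F310801) (tt N44778 F113450) (tt N44780 (iv2 F113448)) (tt N11297 F54858) (tt N11317 F54859) (tt N38016 (iv5 F313036)) (tt N34440 (iv6 F87544)) (tt N11291 (iv7 D34584)))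
theorem Q23004 : ∀ i, i < 23004 → P i := stepQ 23003 Q23003 (allL N23003 (tt N44722 (iv1 F112951)) (tt N11292 (iv0 D34585)) (tt N24128 (iv2 F304689)) (tt N44721 F307485) (tt N28414 F249125) (tt N44792 D75617) (tt N44793 D75618) (tt N44721 (iv7 F273739)))
theorem Q23005 : ∀ i, i < 23005 → P i := stepQ 23004 Q23004 (allL N23004 (tt N11292 (iv1 D34586)) (tt N44722 F112950) (tt N44721 (iv2 F273738)) (tt N24071 (iv3 F305468)) (tt N28415 F249129) (tt N44794 D75622) (tt N44795 D75623) (tt N24128 (iv7 F304690)))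
theorem Q23006 : ∀ i, i < 23006 → P i := stepQ 23005 Q23005 (allL N23005 (tt N44796 D75624) (tt N38104 F310732) (tt N38020 F316612) (tt N44784 (iv3 F113455)) (tt N44797 D75626) (tt N11292 (iv5 D34587)) (tt N11296 F54860) (tt N37998 F321684))
theorem Q23007 : ∀ i, i < 23007 → P i := stepQ 23006 Q23006 (allL N23006 (tt N44721 (iv1 F112943)) (tt N24128 (iv0 F304687)) (tt N44722 (iv2 F112946)) (tt N44785 (iv3 F113457)) (tt N28615 (iv4 F74285)) (tt N37998 F321683) (tt N24094 F302398) (tt N11292 (iv7 D34588)))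
theorem Q23008 : ∀ i, i < 23008 → P i := stepQ 23007 Q23007 (allL N23007 (tt N24095 (iv1 F299477)) (tt N11606 F297982) (tt N13033 F54861) (tt N34436 (iv3 F87540)) (tt N12963 F54862) (tt N13980 (iv5 F300405)) (tt N11293 (iv6 D34589)) (tt N24094 (iv7 F299473)))
theorem Q23009 : ∀ i, i < 23009 → P i := stepQ 23008 Q23008 (allL N23008 (tt N38001 (iv1 F314207)) (tt N37997 (iv0 F314206)) (tt N18887 F312641) (tt N11294 (iv3 D34591)) (tt N44798 D75641) (tt N18991 (iv5 F315091)) (tt N44799 D75643) (tt N38087 (iv7 F314210)))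
theorem Q23010 : ∀ i, i < 23010 → P i := stepQ 23009 Q23009 (allL N23009 (tt N13972 F59746) (tt N11991 F59747) (tt N13970 F113992) (tt N44643 (iv3 F112737)) (tt N11294 (iv4 D34592)) (tt N11943 F297185) (tt N44800 D75646) (tt N13971 F113993))
theorem Q23011 : ∀ i, i < 23011 → P i := stepQ 23010 Q23010 (allL N23010 (tt N44753 (iv1 F113520)) (tt N44801 D75654) (tt N38093 F316609) (tt N44799 (iv3 F113486)) (tt N44800 (iv4 F113490)) (tt N44802 D75655) (tt N11294 (iv6 D34594)) (tt N44803 D75656))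
theorem Q23012 : ∀ i, i < 23012 → P i := stepQ 23011 Q23011 (allL N23011 (tt N11991 F59758) (tt N13972 F59759) (tt N13971 (iv2 F113989)) (tt N19006 F310588) (tt N11295 (iv4 D34597)) (tt N11944 (iv5 F296639)) (tt N23452 (iv6 F296637)) (tt N13970 (iv7 F113990)))
theorem Q23013 : ∀ i, i < 23013 → P i := stepQ 23012 Q23012 (allL N23012 (tt N44804 D75668) (tt N34792 F298132) (tt N23468 F298133) (tt N18886 F307594) (tt N23452 F298134) (tt N44805 D75670) (tt N11295 (iv6 D34599)) (tt N23471 F298135))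
theorem Q23014 : ∀ i, i < 23014 → P i := stepQ 23013 Q23013 (allL N23013 (tt N38619 (iv1 F318971)) (tt N44806 D75679) (tt N38019 F316610) (tt N42364 (iv3 F327302)) (tt N11296 (iv4 D34602)) (tt N42363 F326552) (tt N44797 (iv6 F113466)) (tt N38017 F316611))
theorem Q23015 : ∀ i, i < 23015 → P i := stepQ 23014 Q23014 (allL N23014 (tt N44679 (iv1 F112799)) (tt N38101 F312787) (tt N44681 (iv2 F112802)) (tt N34440 (iv3 F87542)) (tt N11306 F54866) (tt N44807 D75684) (tt N11297 (iv6 D34604)) (tt N11298 F54867))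
theorem Q23016 : ∀ i, i < 23016 → P i := stepQ 23015 Q23015 (allL N23015 (tt N44681 F112807) (tt N11298 (iv0 D34605)) (tt N38101 F312789) (tt N44808 D75686) (tt N13975 F112808) (tt N44809 D75687) (tt N44810 D75688) (tt N44679 (iv7 F114022)))
theorem Q23017 : ∀ i, i < 23017 → P i := stepQ 23016 Q23016 (allL N23016 (tt N11298 (iv1 D34606)) (tt N44681 F112805) (tt N44679 (iv2 F114020)) (tt N18889 F312794) (tt N13976 (iv4 F71266)) (tt N44811 D75691) (tt N44812 D75692) (tt N38101 F312795))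
theorem Q23018 : ∀ i, i < 23018 → P i := stepQ 23017 Q23017 (allL N23017 (tt N44808 F314372) (tt N38098 F314803) (tt N44680 (iv2 F112800)) (tt N34439 (iv3 F87541)) (tt N44813 D75695) (tt N11298 (iv5 D34607)) (tt N13980 F303261) (tt N44807 (iv7 F113546)))
theorem Q23019 : ∀ i, i < 23019 → P i := stepQ 23018 Q23018 (allL N23018 (tt N11304 (iv1 F296691)) (tt N11299 (iv0 D34614)) (tt N24855 (iv2 F296694)) (tt N11340 F113085) (tt N44814 D75696) (tt N12236 (iv5 F296668)) (tt N24630 (iv6 F296685)) (tt N12086 F117230))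
theorem Q23020 : ∀ i, i < 23020 → P i := stepQ 23019 Q23019 (allL N23019 (tt N24145 F57529) (tt N24135 (iv0 F57504)) (tt N24142 F113062) (tt N38633 F321354) (tt N11299 (iv4 D34617)) (tt N44815 D75703) (tt N44816 D75704) (tt N24143 F113061))
theorem Q23021 : ∀ i, i < 23021 → P i := stepQ 23020 Q23020 (allL N23020 (tt N12134 F298214) (tt N24682 (iv0 F299499)) (tt N34821 F298215) (tt N11301 F54877) (tt N44816 (iv4 F113563)) (tt N35319 F298216) (tt N11299 (iv6 D34619)) (tt N34820 (iv7 F298935)))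
theorem Q23022 : ∀ i, i < 23022 → P i := stepQ 23021 Q23021 (allL N23021 (tt N11303 (iv1 F54883)) (tt N11300 (iv0 D34621)) (tt N27987 (iv2 F72458)) (tt N44817 D75713) (tt N23986 F297362) (tt N38617 (iv5 F316137)) (tt N27994 (iv6 F72485)) (tt N12119 F59785))
theorem Q23023 : ∀ i, i < 23023 → P i := stepQ 23022 Q23022 (allL N23022 (tt N44818 D75720) (tt N37853 F315270) (tt N44725 F113065) (tt N36145 (iv3 F325737)) (tt N44819 D75722) (tt N11300 (iv5 D34624)) (tt N36143 (iv6 F325738)) (tt N44729 (iv7 F113101)))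
theorem Q23024 : ∀ i, i < 23024 → P i := stepQ 23023 Q23023 (allL N23023 (tt N24174 F300793) (tt N44820 D75725) (tt N44726 F113064) (tt N36146 F327815) (tt N11301 F54880) (tt N36144 F327816) (tt N11300 (iv6 D34625)) (tt N44821 D75727))
theorem Q23025 : ∀ i, i < 23025 → P i := stepQ 23024 Q23024 (allL N23024 (tt N11301 (iv1 D34633)) (tt N44728 F113078) (tt N44727 (iv2 F113074)) (tt N11338 (iv3 F117801)) (tt N44801 (iv4 F113517)) (tt N24878 F59847) (tt N24682 (iv6 F59311)) (tt N12060 F117791))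
theorem Q23026 : ∀ i, i < 23026 → P i := stepQ 23025 Q23025 (allL N23025 (tt N12101 F54890) (tt N12317 (iv0 F54891)) (tt N12323 F113008) (tt N35319 F297339) (tt N28864 F327386) (tt N11301 (iv5 D34634)) (tt N35319 (iv6 F117896)) (tt N12322 F113009))
theorem Q23027 : ∀ i, i < 23027 → P i := stepQ 23026 Q23026 (allL N23026 (tt N44727 (iv1 F113071)) (tt N12060 F117792) (tt N44728 (iv2 F113075)) (tt N34820 (iv3 F298934)) (tt N44821 (iv4 F113583)) (tt N12322 F113011) (tt N34793 F298210) (tt N11301 (iv7 D34635)))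
theorem Q23028 : ∀ i, i < 23028 → P i := stepQ 23027 Q23027 (allL N23027 (tt N11302 (iv1 D34638)) (tt N23909 (iv0 F116624)) (tt N23910 (iv2 F116623)) (tt N11327 F91401) (tt N34767 F116619) (tt N12306 F91402) (tt N23913 (iv6 F116636)) (tt N12018 F116620))
theorem Q23029 : ∀ i, i < 23029 → P i := stepQ 23028 Q23028 (allL N23028 (tt N12018 F116618) (tt N23910 (iv0 F116621)) (tt N11302 (iv2 D34639)) (tt N11304 F297347) (tt N24082 (iv4 F113048)) (tt N11302 F297348) (tt N23911 F297349) (tt N23909 (iv7 F116628)))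
theorem Q23030 : ∀ i, i < 23030 → P i := stepQ 23029 Q23029 (allL N23029 (tt N11608 F91399) (tt N24083 F91400) (tt N24082 F113049) (tt N38078 F312343) (tt N11302 (iv4 D34640)) (tt N44822 D75744) (tt N24099 (iv6 F299465)) (tt N24081 (iv7 F113043)))
theorem Q23031 : ∀ i, i < 23031 → P i := stepQ 23030 Q23030 (allL N23030 (tt N23913 F297342) (tt N12135 F297343) (tt N23911 F297344) (tt N11305 F54894) (tt N24099 (iv4 F299464)) (tt N31303 F325043) (tt N11302 (iv6 D34642)) (tt N23912 F297345))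
theorem Q23032 : ∀ i, i < 23032 → P i := stepQ 23031 Q23031 (allL N23031 (tt N44737 (iv1 F205694)) (tt N44823 D75754) (tt N38630 (iv2 F314734)) (tt N11303 (iv3 D34643)) (tt N38078 F312344) (tt N44824 D75756) (tt N44825 D75757) (tt N44724 (iv7 F113040)))
theorem Q23033 : ∀ i, i < 23033 → P i := stepQ 23032 Q23032 (allL N23032 (tt N37853 F315271) (tt N44818 F113576) (tt N44729 (iv2 F113100)) (tt N44824 (iv3 F113615)) (tt N44826 D75758) (tt N11303 (iv5 D34644)) (tt N44827 D75759) (tt N44725 (iv7 F113041)))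
theorem Q23034 : ∀ i, i < 23034 → P i := stepQ 23033 Q23033 (allL N23033 (tt N44828 D75760) (tt N11561 F296736) (tt N44730 (iv2 F113102)) (tt N44825 (iv3 F113616)) (tt N11305 F54895) (tt N44829 D75762) (tt N11303 (iv6 D34645)) (tt N44830 D75763))
theorem Q23035 : ∀ i, i < 23035 → P i := stepQ 23034 Q23034 (allL N23034 (tt N24135 F296748) (tt N24145 (iv0 F297023)) (tt N24143 (iv2 F297015)) (tt N44831 D75764) (tt N11304 (iv4 D34646)) (tt N44832 D75765) (tt N27991 (iv6 F113034)) (tt N24142 (iv7 F297014)))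
theorem Q23036 : ∀ i, i < 23036 → P i := stepQ 23035 Q23035 (allL N23035 (tt N34793 (iv1 F296679)) (tt N11305 (iv0 D34647)) (tt N24630 F59568) (tt N11348 F117868) (tt N44804 (iv4 F122408)) (tt N17864 (iv5 F117870)) (tt N24855 F59569) (tt N12096 (iv7 F117872)))
theorem Q23037 : ∀ i, i < 23037 → P i := stepQ 23036 Q23036 (allL N23036 (tt N12209 (iv1 F59200)) (tt N12206 (iv0 F54896)) (tt N35273 (iv2 F117714)) (tt N31303 F325926) (tt N44833 D75768) (tt N11305 (iv5 D34649)) (tt N40507 F325927) (tt N35274 (iv7 F117712)))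
theorem Q23038 : ∀ i, i < 23038 → P i := stepQ 23037 Q23037 (allL N23037 (tt N12096 F117874) (tt N24630 F113058) (tt N34793 (iv2 F296680)) (tt N23912 (iv3 F296581)) (tt N44830 (iv4 F113619)) (tt N35274 (iv5 F117710)) (tt N44728 (iv6 F113077)) (tt N11305 (iv7 D34650)))
theorem Q23039 : ∀ i, i < 23039 → P i := stepQ 23038 Q23038 (allL N23038 (tt N24588 (iv1 F296958)) (tt N24571 F296940) (tt N24586 (iv2 F296955)) (tt N11351 F54897) (tt N44834 D75770) (tt N11306 (iv5 D34651)) (tt N12317 F54898) (tt N11309 F54899))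
theorem Q23040 : ∀ i, i < 23040 → P i := stepQ 23039 Q23039 (allL N23039 (tt N27994 F72488) (tt N12122 F72489) (tt N27991 F113036) (tt N38639 F330182) (tt N11307 (iv4 D34654)) (tt N44835 D75776) (tt N24143 F297356) (tt N27992 (iv7 F113037)))
theorem Q23041 : ∀ i, i < 23041 → P i := stepQ 23040 Q23040 (allL N23040 (tt N31878 F326444) (tt N35324 (iv0 F117726)) (tt N40507 F326667) (tt N35273 F297357) (tt N44836 D75779) (tt N11307 (iv5 D34655)) (tt N35273 (iv6 F117716)) (tt N44682 F113055))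
theorem Q23042 : ∀ i, i < 23042 → P i := stepQ 23041 Q23041 (allL N23041 (tt N12135 F116781) (tt N23913 (iv0 F116812)) (tt N23912 (iv2 F117070)) (tt N11308 (iv3 D34657)) (tt N24100 (iv4 F91499)) (tt N31302 F325042) (tt N44837 D75784) (tt N23911 (iv7 F117069)))
theorem Q23043 : ∀ i, i < 23043 → P i := stepQ 23042 Q23042 (allL N23042 (tt N12122 F113038) (tt N27994 F113039) (tt N27992 (iv2 F113032)) (tt N44838 D75785) (tt N11308 (iv4 D34658)) (tt N44839 D75786) (tt N44840 D75787) (tt N27991 (iv7 F113035)))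
theorem Q23044 : ∀ i, i < 23044 → P i := stepQ 23043 Q23043 (allL N23043 (tt N35324 (iv1 F117727)) (tt N31878 F326443) (tt N44682 F113027) (tt N31302 F325928) (tt N44841 D75788) (tt N11308 (iv5 D34659)) (tt N44842 D75789) (tt N40507 F325929))
theorem Q23045 : ∀ i, i < 23045 → P i := stepQ 23044 Q23044 (allL N23044 (tt N24682 F113020) (tt N12134 F113021) (tt N34820 (iv2 F117777)) (tt N44837 (iv3 F113652)) (tt N44840 (iv4 F113653)) (tt N35320 (iv5 F117899)) (tt N11308 (iv6 D34660)) (tt N34821 (iv7 F117785)))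
theorem Q23046 : ∀ i, i < 23046 → P i := stepQ 23045 Q23045 (allL N23045 (tt N44843 D75799) (tt N44844 D75800) (tt N44683 (iv2 F112830)) (tt N44845 D75801) (tt N11309 (iv4 D34663)) (tt N44846 D75802) (tt N11312 F54902) (tt N44834 (iv7 F113634)))
theorem Q23047 : ∀ i, i < 23047 → P i := stepQ 23046 Q23046 (allL N23046 (tt N22917 F54906) (tt N22935 F54905) (tt N15530 (iv2 F326092)) (tt N11311 F54903) (tt N23720 (iv4 F56436)) (tt N11310 (iv5 D34664)) (tt N15529 F325714) (tt N12325 F54904))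
theorem Q23048 : ∀ i, i < 23048 → P i := stepQ 23047 Q23047 (allL N23047 (tt N22945 F54909) (tt N22944 F54910) (tt N12327 F54907) (tt N44847 D75804) (tt N11311 (iv4 D34665)) (tt N44848 D75805) (tt N31813 F325204) (tt N12326 F54908))
theorem Q23049 : ∀ i, i < 23049 → P i := stepQ 23048 Q23048 (allL N23048 (tt N12103 (iv1 F54914)) (tt N11312 (iv0 D34667)) (tt N12330 (iv2 F54915)) (tt N44849 D75810) (tt N12942 F54913) (tt N27258 F292434) (tt N31214 F325606) (tt N12329 (iv7 F54916)))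
theorem Q23050 : ∀ i, i < 23050 → P i := stepQ 23049 Q23049 (allL N23049 (tt N11312 (iv1 D34668)) (tt N12103 F54917) (tt N12329 (iv2 F54920)) (tt N44850 D75813) (tt N12918 F54919) (tt N27257 F292457) (tt N44851 D75815) (tt N12330 F54918))
theorem Q23051 : ∀ i, i < 23051 → P i := stepQ 23050 Q23050 (allL N23050 (tt N44852 D75816) (tt N44853 D75817) (tt N44854 D75818) (tt N11312 (iv3 D34669)) (tt N11360 F54921) (tt N44855 D75819) (tt N44845 (iv6 F113668)) (tt N12331 F54922))
theorem Q23052 : ∀ i, i < 23052 → P i := stepQ 23051 Q23051 (allL N23051 (tt N26018 (iv1 F63902)) (tt N26009 (iv0 F63886)) (tt N14498 F54923) (tt N44855 (iv3 F113715)) (tt N13931 F54925) (tt N11312 (iv5 D34670)) (tt N44856 D75820) (tt N12332 F54924))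
theorem Q23053 : ∀ i, i < 23053 → P i := stepQ 23052 Q23052 (allL N23052 (tt N11317 (iv1 F54928)) (tt N11313 (iv0 D34671)) (tt N11314 (iv2 F113763)) (tt N21755 F130858) (tt N37903 (iv4 F313828)) (tt N44857 D75824) (tt N33745 (iv6 F85524)) (tt N11315 (iv7 F113769)))
theorem Q23054 : ∀ i, i < 23054 → P i := stepQ 23053 Q23053 (allL N23053 (tt N11313 (iv1 D34672)) (tt N11317 F54926) (tt N11315 F113770) (tt N19108 F309935) (tt N18760 (iv4 F310463)) (tt N44858 D75828) (tt N43148 (iv6 F120245)) (tt N11314 F113771))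
theorem Q23055 : ∀ i, i < 23055 → P i := stepQ 23054 Q23054 (allL N23054 (tt N11315 (iv1 F54929)) (tt N11314 F54930) (tt N11317 F54927) (tt N34541 (iv3 F87804)) (tt N44780 (iv4 F113449)) (tt N41908 (iv5 F105061)) (tt N34099 (iv6 F86741)) (tt N11313 (iv7 D34673)))
theorem Q23056 : ∀ i, i < 23056 → P i := stepQ 23055 Q23055 (allL N23055 (tt N44859 D75849) (tt N44860 D75850) (tt N44857 (iv2 F113767)) (tt N38352 F313517) (tt N44861 D75851) (tt N11314 (iv5 D34677)) (tt N44862 D75852) (tt N44858 (iv7 F113776)))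
theorem Q23057 : ∀ i, i < 23057 → P i := stepQ 23056 Q23056 (allL N23056 (tt N34146 (iv1 F130251)) (tt N42303 (iv0 F130250)) (tt N33745 (iv2 F113762)) (tt N38353 F313518) (tt N37906 (iv4 F315086)) (tt N33702 F85473) (tt N11314 (iv6 D34678)) (tt N33741 (iv7 F113751)))
theorem Q23058 : ∀ i, i < 23058 → P i := stepQ 23057 Q23057 (allL N23057 (tt N17030 (iv1 F130852)) (tt N21756 (iv0 F130853)) (tt N21451 (iv2 F130854)) (tt N11315 (iv3 D34680)) (tt N42696 (iv4 F130822)) (tt N16973 (iv5 F130855)) (tt N22478 F130851) (tt N21755 (iv7 F130856)))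
theorem Q23059 : ∀ i, i < 23059 → P i := stepQ 23058 Q23058 (allL N23058 (tt N34101 (iv1 F155376)) (tt N37905 (iv0 F313825)) (tt N18760 F311388) (tt N37859 (iv3 F313821)) (tt N11315 (iv4 D34681)) (tt N18759 (iv5 F313827)) (tt N44863 D75866) (tt N37903 (iv7 F313829)))
theorem Q23060 : ∀ i, i < 23060 → P i := stepQ 23059 Q23059 (allL N23059 (tt N44860 (iv1 F113742)) (tt N44859 F113745) (tt N44858 (iv2 F113775)) (tt N16973 F130857) (tt N44864 D75867) (tt N11315 (iv5 D34682)) (tt N16970 (iv6 F130859)) (tt N44857 (iv7 F113768)))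
theorem Q23061 : ∀ i, i < 23061 → P i := stepQ 23060 Q23060 (allL N23060 (tt N22472 F113746) (tt N22475 F113747) (tt N43148 (iv2 F120244)) (tt N22478 (iv3 F130850)) (tt N44863 (iv4 F113784)) (tt N43984 (iv5 F110396)) (tt N11315 (iv6 D34683)) (tt N43149 (iv7 F120242)))
theorem Q23062 : ∀ i, i < 23062 → P i := stepQ 23061 Q23061 (allL N23061 (tt N41908 (iv1 F105064)) (tt N11316 (iv0 D34684)) (tt N41814 (iv2 F200224)) (tt N38322 F313465) (tt N44865 D75872) (tt N25109 (iv5 F130138)) (tt N44866 D75874) (tt N25108 (iv7 F130141)))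
theorem Q23063 : ∀ i, i < 23063 → P i := stepQ 23062 Q23062 (allL N23062 (tt N11316 (iv1 D34685)) (tt N41908 F105063) (tt N25108 (iv2 F130140)) (tt N20918 F199882) (tt N44867 D75877) (tt N25094 (iv5 F60289)) (tt N40835 (iv6 F313724)) (tt N41814 (iv7 F200226)))
theorem Q23064 : ∀ i, i < 23064 → P i := stepQ 23063 Q23063 (allL N23063 (tt N44868 D75879) (tt N44869 D75880) (tt N41907 (iv2 F105058)) (tt N44870 D75881) (tt N11316 (iv4 D34686)) (tt N44871 D75882) (tt N21502 F54933) (tt N44872 D75883))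
theorem Q23065 : ∀ i, i < 23065 → P i := stepQ 23064 Q23064 (allL N23064 (tt N25108 (iv1 F60319)) (tt N41814 (iv0 F200222)) (tt N41908 (iv2 F105060)) (tt N11326 F54934) (tt N44872 (iv4 F113793)) (tt N11317 F54935) (tt N41904 (iv6 F105057)) (tt N11316 (iv7 D34687)))
theorem Q23066 : ∀ i, i < 23066 → P i := stepQ 23065 Q23065 (allL N23065 (tt N43319 (iv1 F155361)) (tt N24599 F155358) (tt N43299 (iv2 F130876)) (tt N23505 (iv3 F56013)) (tt N11318 (iv4 D34691)) (tt N44873 D75898) (tt N42315 (iv6 F105890)) (tt N34555 (iv7 F87834)))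
theorem Q23067 : ∀ i, i < 23067 → P i := stepQ 23066 Q23066 (allL N23066 (tt N44874 D75899) (tt N44875 D75900) (tt N43300 (iv2 F130877)) (tt N11319 F54936) (tt N44876 D75901) (tt N11318 (iv5 D34692)) (tt N42317 (iv6 F105892)) (tt N34556 (iv7 F87836)))
theorem Q23068 : ∀ i, i < 23068 → P i := stepQ 23067 Q23067 (allL N23067 (tt N11319 (iv1 D34693)) (tt N11321 F54937) (tt N25220 (iv2 F60505)) (tt N44860 (iv3 F130333)) (tt N44877 D75903) (tt N11827 F298702) (tt N43153 (iv6 F108207)) (tt N25222 (iv7 F60518)))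
theorem Q23069 : ∀ i, i < 23069 → P i := stepQ 23068 Q23068 (allL N23068 (tt N44878 D75904) (tt N44879 D75905) (tt N34554 (iv2 F87824)) (tt N44880 D75906) (tt N11319 (iv4 D34694)) (tt N12467 F54939) (tt N23995 (iv6 F315669)) (tt N34558 (iv7 F87840)))
theorem Q23070 : ∀ i, i < 23070 → P i := stepQ 23069 Q23069 (allL N23069 (tt N43906 (iv1 F306172)) (tt N43924 (iv0 F232397)) (tt N43085 (iv2 F232542)) (tt N11321 F54940) (tt N44881 D75926) (tt N11320 (iv5 D34699)) (tt N44882 D75927) (tt N34553 (iv7 F87823)))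
theorem Q23071 : ∀ i, i < 23071 → P i := stepQ 23070 Q23070 (allL N23070 (tt N44879 (iv1 F113808)) (tt N44878 F113806) (tt N34558 (iv2 F87838)) (tt N44883 D75930) (tt N11321 (iv4 D34701)) (tt N12463 F54942) (tt N37087 F320785) (tt N34554 (iv7 F87825)))
theorem Q23072 : ∀ i, i < 23072 → P i := stepQ 23071 Q23071 (allL N23071 (tt N39989 (iv1 F310922)) (tt N21143 (iv0 F54943)) (tt N34559 (iv2 F87841)) (tt N44882 (iv3 F113819)) (tt N37087 (iv4 F318631)) (tt N43981 (iv5 F110381)) (tt N11321 (iv6 D34702)) (tt N44884 D75933))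
theorem Q23073 : ∀ i, i < 23073 → P i := stepQ 23072 Q23072 (allL N23072 (tt N41813 F199950) (tt N23889 F199951) (tt N41812 (iv2 F199956)) (tt N11323 (iv3 D34703)) (tt N44885 D75937) (tt N25134 (iv5 F60339)) (tt N44886 D75938) (tt N25133 F60337))
theorem Q23074 : ∀ i, i < 23074 → P i := stepQ 23073 Q23073 (allL N23073 (tt N25500 (iv1 F61222)) (tt N21811 F54945) (tt N34560 (iv2 F87844)) (tt N44887 D75939) (tt N11323 (iv4 D34704)) (tt N12458 F54944) (tt N44888 D75940) (tt N25148 (iv7 F60361)))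
theorem Q23075 : ∀ i, i < 23075 → P i := stepQ 23074 Q23074 (allL N23074 (tt N41838 F104991) (tt N44889 D75941) (tt N34561 (iv2 F87848)) (tt N44886 (iv3 F113833)) (tt N44888 (iv4 F113835)) (tt N20251 F316160) (tt N11323 (iv6 D34705)) (tt N42956 (iv7 F107791)))
theorem Q23076 : ∀ i, i < 23076 → P i := stepQ 23075 Q23075 (allL N23075 (tt N23299 (iv1 F232511)) (tt N43088 F232444) (tt N43086 (iv2 F232480)) (tt N11324 (iv3 D34706)) (tt N41346 F323167) (tt N17933 F305200) (tt N41345 F323168) (tt N25154 F305201))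
theorem Q23077 : ∀ i, i < 23077 → P i := stepQ 23076 Q23076 (allL N23076 (tt N21811 F54948) (tt N25500 (iv0 F61221)) (tt N25148 (iv2 F60360)) (tt N44890 D75947) (tt N11324 (iv4 D34707)) (tt N12449 F54947) (tt N44891 D75948) (tt N34560 (iv7 F87846)))
theorem Q23078 : ∀ i, i < 23078 → P i := stepQ 23077 Q23077 (allL N23077 (tt N44892 D75949) (tt N44893 D75950) (tt N25146 (iv2 F60358)) (tt N41345 (iv3 F321486)) (tt N44891 (iv4 F113841)) (tt N17938 F54949) (tt N11324 (iv6 D34708)) (tt N44894 D75951))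
theorem Q23079 : ∀ i, i < 23079 → P i := stepQ 23078 Q23078 (allL N23078 (tt N12472 (iv1 F54952)) (tt N11325 (iv0 D34709)) (tt N34562 F87852) (tt N44895 D75952) (tt N12499 F54951) (tt N12514 F54950) (tt N44896 D75953) (tt N25218 (iv7 F60489)))
theorem Q23080 : ∀ i, i < 23080 → P i := stepQ 23079 Q23079 (allL N23079 (tt N11325 (iv1 D34710)) (tt N12472 F54953) (tt N25218 (iv2 F60488)) (tt N37009 F316486) (tt N12519 F54954) (tt N12491 (iv5 F54955)) (tt N44897 D75955) (tt N34562 (iv7 F87854)))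
theorem Q23081 : ∀ i, i < 23081 → P i := stepQ 23080 Q23080 (allL N23080 (tt N44898 D75956) (tt N44899 D75957) (tt N44900 D75958) (tt N11325 (iv3 D34711)) (tt N44870 (iv4 F113791)) (tt N35460 (iv5 F92372)) (tt N21510 F54956) (tt N35459 F92370))
theorem Q23082 : ∀ i, i < 23082 → P i := stepQ 23081 Q23081 (allL N23081 (tt N41845 (iv1 F104998)) (tt N41844 F104997) (tt N34564 (iv2 F87858)) (tt N41904 (iv3 F105056)) (tt N35461 (iv4 F92374)) (tt N34429 (iv5 F87526)) (tt N11326 (iv6 D34712)) (tt N21512 F54957))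
theorem Q23083 : ∀ i, i < 23083 → P i := stepQ 23082 Q23082 (allL N23082 (tt N27728 (iv1 F116719)) (tt N27727 (iv0 F116717)) (tt N27730 (iv2 F116695)) (tt N44901 D75961) (tt N11327 (iv4 D34715)) (tt N37496 (iv5 F311983)) (tt N27717 (iv6 F116723)) (tt N12023 F116657))
theorem Q23084 : ∀ i, i < 23084 → P i := stepQ 23083 Q23083 (allL N23083 (tt N12051 F116834) (tt N44902 D75982) (tt N11331 F54962) (tt N34533 (iv3 F301280)) (tt N44528 F312865) (tt N27706 (iv5 F116701)) (tt N11328 (iv6 D34725)) (tt N44903 D75983))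
theorem Q23085 : ∀ i, i < 23085 → P i := stepQ 23084 Q23084 (allL N23084 (tt N27731 (iv1 F116708)) (tt N11329 (iv0 D34726)) (tt N27742 (iv2 F71283)) (tt N44904 D75984) (tt N25589 F61589) (tt N38334 F311344) (tt N27736 (iv6 F71263)) (tt N12034 F61590))
theorem Q23086 : ∀ i, i < 23086 → P i := stepQ 23085 Q23085 (allL N23085 (tt N30686 (iv1 F309095)) (tt N21754 (iv0 F130793)) (tt N42854 (iv2 F130794)) (tt N11329 (iv3 D34728)) (tt N11332 F54963) (tt N38387 (iv5 F308986)) (tt N40248 F316261) (tt N34575 (iv7 F87938)))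
theorem Q23087 : ∀ i, i < 23087 → P i := stepQ 23086 Q23086 (allL N23086 (tt N40442 F324365) (tt N44905 D75996) (tt N44528 (iv2 F312314)) (tt N40248 F314570) (tt N11331 F54964) (tt N44906 D75997) (tt N11329 (iv6 D34730)) (tt N44907 D75998))
theorem Q23088 : ∀ i, i < 23088 → P i := stepQ 23087 Q23087 (allL N23087 (tt N22228 F310149) (tt N11330 (iv0 D34731)) (tt N22229 F310150) (tt N23910 (iv3 F296584)) (tt N19005 F310151) (tt N12484 (iv5 F113903)) (tt N24964 (iv6 F116991)) (tt N12742 F296478))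
theorem Q23089 : ∀ i, i < 23089 → P i := stepQ 23088 Q23088 (allL N23088 (tt N12048 (iv1 F116803)) (tt N44908 D76015) (tt N34528 F299675) (tt N11337 F54965) (tt N30680 F310616) (tt N35305 (iv5 F116999)) (tt N11330 (iv6 D34734)) (tt N23425 (iv7 F55876)))
theorem Q23090 : ∀ i, i < 23090 → P i := stepQ 23089 Q23089 (allL N23089 (tt N44903 (iv1 F113880)) (tt N11331 (iv0 D34735)) (tt N12051 (iv2 F116879)) (tt N31106 F324837) (tt N44909 D76018) (tt N24957 (iv5 F116804)) (tt N12017 (iv6 F116805)) (tt N44902 (iv7 F116880)))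
theorem Q23091 : ∀ i, i < 23091 → P i := stepQ 23090 Q23090 (allL N23090 (tt N11331 (iv1 D34736)) (tt N44903 F113876) (tt N44902 F116889) (tt N44908 F299547) (tt N44910 D76023) (tt N25274 (iv5 F126016)) (tt N44908 (iv6 F116920)) (tt N12051 F116890))
theorem Q23092 : ∀ i, i < 23092 → P i := stepQ 23091 Q23091 (allL N23091 (tt N44902 (iv1 F113872)) (tt N12051 (iv0 F116830)) (tt N44903 (iv2 F113873)) (tt N11339 F54966) (tt N44907 (iv4 F113888)) (tt N12528 F54967) (tt N27748 (iv6 F116832)) (tt N11331 (iv7 D34737)))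
theorem Q23093 : ∀ i, i < 23093 → P i := stepQ 23092 Q23092 (allL N23092 (tt N44911 D76038) (tt N21096 (iv0 F130808)) (tt N42855 (iv2 F130805)) (tt N11333 F54968) (tt N34297 (iv4 F308780)) (tt N11332 (iv5 D34741)) (tt N34296 (iv6 F308782)) (tt N18468 (iv7 F130810)))
theorem Q23094 : ∀ i, i < 23094 → P i := stepQ 23093 Q23093 (allL N23093 (tt N40213 F316259) (tt N42872 (iv0 F130812)) (tt N42856 (iv2 F130806)) (tt N11334 F54969) (tt N40248 F316260) (tt N29747 (iv5 F77151)) (tt N11332 (iv6 D34742)) (tt N36370 (iv7 F94456)))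
theorem Q23095 : ∀ i, i < 23095 → P i := stepQ 23094 Q23094 (allL N23094 (tt N11333 (iv1 D34743)) (tt N11345 F54970) (tt N23923 (iv2 F301066)) (tt N44912 D76044) (tt N44913 D76045) (tt N12493 F54971) (tt N21092 (iv6 F54972)) (tt N23993 (iv7 F57122)))
theorem Q23096 : ∀ i, i < 23096 → P i := stepQ 23095 Q23095 (allL N23095 (tt N43941 (iv1 F110223)) (tt N44877 (iv0 F113800)) (tt N34573 (iv2 F87901)) (tt N44914 D76046) (tt N11333 (iv4 D34744)) (tt N12470 F54973) (tt N24020 F315770) (tt N34578 (iv7 F87962)))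
theorem Q23097 : ∀ i, i < 23097 → P i := stepQ 23096 Q23096 (allL N23096 (tt N21128 F54974) (tt N21126 (iv0 F77156)) (tt N34574 (iv2 F87904)) (tt N34296 F310957) (tt N24020 (iv4 F313340)) (tt N22448 F311067) (tt N11333 (iv6 D34745)) (tt N43938 (iv7 F313201)))
theorem Q23098 : ∀ i, i < 23098 → P i := stepQ 23097 Q23097 (allL N23097 (tt N34788 (iv1 F117281)) (tt N34787 (iv0 F117283)) (tt N34565 F91475) (tt N44915 D76069) (tt N11340 (iv4 D34756)) (tt N44916 D76070) (tt N34797 (iv6 F117285)) (tt N12089 F117241))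
theorem Q23099 : ∀ i, i < 23099 → P i := stepQ 23098 Q23098 (allL N23098 (tt N12092 F91444) (tt N34566 F87876) (tt N11342 F54980) (tt N44917 D76073) (tt N11341 (iv4 D34759)) (tt N44918 D76074) (tt N23405 (iv6 F299037)) (tt N34532 (iv7 F298996)))
theorem Q23100 : ∀ i, i < 23100 → P i := stepQ 23099 Q23099 (allL N23099 (tt N11342 (iv1 D34763)) (tt N34532 (iv0 F298993)) (tt N34566 (iv2 F91440)) (tt N28223 F91394) (tt N24075 F91395) (tt N44919 D76081) (tt N28402 F91396) (tt N12092 F91397))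
theorem Q23101 : ∀ i, i < 23101 → P i := stepQ 23100 Q23100 (allL N23100 (tt N33874 F232454) (tt N42790 (iv0 F232518)) (tt N42783 (iv2 F155250)) (tt N11342 (iv3 D34764)) (tt N11344 F54983) (tt N44920 D76085) (tt N44921 D76086) (tt N34567 (iv7 F87879)))
theorem Q23102 : ∀ i, i < 23102 → P i := stepQ 23101 Q23101 (allL N23101 (tt N34961 F301670) (tt N35189 (iv0 F302818)) (tt N44918 (iv2 F114057)) (tt N44920 (iv3 F114074)) (tt N35173 (iv4 F304405)) (tt N11342 (iv5 D34765)) (tt N44922 D76090) (tt N34568 (iv7 F87880)))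
theorem Q23103 : ∀ i, i < 23103 → P i := stepQ 23102 Q23102 (allL N23102 (tt N34854 F300539) (tt N24089 F300540) (tt N23405 F300541) (tt N44921 (iv3 F114075)) (tt N11343 F54984) (tt N44923 D76093) (tt N11342 (iv6 D34766)) (tt N23407 F300542))
theorem Q23104 : ∀ i, i < 23104 → P i := stepQ 23103 Q23103 (allL N23103 (tt N34989 F301550) (tt N35025 F301551) (tt N23406 F301552) (tt N11349 F54985) (tt N44924 D76121) (tt N11343 (iv5 D34772)) (tt N23421 (iv6 F55861)) (tt N23408 F301553))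
theorem Q23105 : ∀ i, i < 23105 → P i := stepQ 23104 Q23104 (allL N23104 (tt N44925 D76134) (tt N42568 (iv0 F155385)) (tt N42784 (iv2 F155251)) (tt N11345 F54987) (tt N42352 F315072) (tt N11344 (iv5 D34777)) (tt N44926 D76137) (tt N34571 (iv7 F87898)))
theorem Q23106 : ∀ i, i < 23106 → P i := stepQ 23105 Q23105 (allL N23105 (tt N42804 (iv1 F155378)) (tt N42757 (iv0 F155383)) (tt N42785 (iv2 F155253)) (tt N11346 F54988) (tt N44921 (iv4 F114076)) (tt N39844 (iv5 F321123)) (tt N11344 (iv6 D34778)) (tt N42803 (iv7 F155261)))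
theorem Q23107 : ∀ i, i < 23107 → P i := stepQ 23106 Q23106 (allL N23106 (tt N44877 (iv1 F113801)) (tt N43941 (iv0 F110222)) (tt N34578 (iv2 F87960)) (tt N15215 (iv3 F317308)) (tt N11345 (iv4 D34779)) (tt N12469 F54989) (tt N37077 F321252) (tt N34573 (iv7 F87902)))
theorem Q23108 : ∀ i, i < 23108 → P i := stepQ 23107 Q23107 (allL N23107 (tt N44375 (iv1 F310863)) (tt N21083 (iv0 F54990)) (tt N18466 F130836) (tt N44926 (iv3 F114097)) (tt N37077 (iv4 F319211)) (tt N42717 (iv5 F106946)) (tt N11345 (iv6 D34780)) (tt N44927 D76143))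
theorem Q23109 : ∀ i, i < 23109 → P i := stepQ 23108 Q23108 (allL N23108 (tt N30665 F310475) (tt N30664 F310476) (tt N15254 F310477) (tt N11347 (iv3 D34781)) (tt N34536 (iv4 F303355)) (tt N30655 (iv5 F312658)) (tt N21551 F54991) (tt N30663 F310478))
theorem Q23110 : ∀ i, i < 23110 → P i := stepQ 23109 Q23109 (allL N23109 (tt N17493 F54994) (tt N17488 F54995) (tt N23666 F56354) (tt N44928 D76151) (tt N11349 (iv4 D34783)) (tt N44929 D76152) (tt N23422 (iv6 F55864)) (tt N23667 (iv7 F56357)))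
theorem Q23111 : ∀ i, i < 23111 → P i := stepQ 23110 Q23110 (allL N23110 (tt N23431 (iv1 F55898)) (tt N17476 F299690) (tt N23434 (iv2 F55905)) (tt N44930 D76153) (tt N11351 (iv4 D34784)) (tt N44552 (iv5 F112489)) (tt N12520 F54996) (tt N11359 F54997))
theorem Q23112 : ∀ i, i < 23112 → P i := stepQ 23111 Q23111 (allL N23111 (tt N31301 F325931) (tt N34952 F297653) (tt N27719 (iv2 F116791)) (tt N11353 F54998) (tt N44931 D76161) (tt N11352 (iv5 D34789)) (tt N34577 (iv6 F87946)) (tt N23424 (iv7 F55874)))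
theorem Q23113 : ∀ i, i < 23113 → P i := stepQ 23112 Q23112 (allL N23112 (tt N23694 (iv1 F56408)) (tt N24008 F57143) (tt N23422 (iv2 F55863)) (tt N44932 D76162) (tt N11353 (iv4 D34790)) (tt N44933 D76163) (tt N23666 F56355) (tt N23426 (iv7 F55878)))
theorem Q23114 : ∀ i, i < 23114 → P i := stepQ 23113 Q23113 (allL N23113 (tt N12091 F91497) (tt N28402 F91498) (tt N28400 F91298) (tt N42771 (iv3 F155480)) (tt N11354 (iv4 D34794)) (tt N44934 D76169) (tt N44935 D76170) (tt N23420 (iv7 F55859)))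
theorem Q23115 : ∀ i, i < 23115 → P i := stepQ 23114 Q23114 (allL N23114 (tt N12362 F301322) (tt N34896 F301323) (tt N34798 (iv2 F117315)) (tt N11355 F54999) (tt N44936 D76173) (tt N11354 (iv5 D34795)) (tt N34677 F301324) (tt N23421 (iv7 F55862)))
theorem Q23116 : ∀ i, i < 23116 → P i := stepQ 23115 Q23115 (allL N23115 (tt N25028 (iv1 F117599)) (tt N25031 (iv0 F117558)) (tt N34535 F302029) (tt N11356 F55000) (tt N44935 (iv4 F114137)) (tt N34829 F302030) (tt N11354 (iv6 D34796)) (tt N34480 F302031))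
theorem Q23117 : ∀ i, i < 23117 → P i := stepQ 23116 Q23116 (allL N23116 (tt N24008 F57142) (tt N23694 (iv0 F56407)) (tt N23426 (iv2 F55877)) (tt N24525 (iv3 F315948)) (tt N11355 (iv4 D34797)) (tt N24080 F313483) (tt N23747 (iv6 F114142)) (tt N23422 (iv7 F55865)))
theorem Q23118 : ∀ i, i < 23118 → P i := stepQ 23117 Q23117 (allL N23117 (tt N27721 F126092) (tt N12030 F126093) (tt N17702 F296305) (tt N11357 (iv3 D34798)) (tt N44937 D76181) (tt N12667 (iv5 F296443)) (tt N12669 F296306) (tt N23428 (iv7 F55887)))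
theorem Q23119 : ∀ i, i < 23119 → P i := stepQ 23118 Q23118 (allL N23118 (tt N24043 (iv1 F57208)) (tt N11578 F55001) (tt N23427 (iv2 F55880)) (tt N44938 D76183) (tt N11357 (iv4 D34799)) (tt N19328 F314098) (tt N19364 (iv6 F316545)) (tt N23429 (iv7 F55889)))
theorem Q23120 : ∀ i, i < 23120 → P i := stepQ 23119 Q23119 (allL N23119 (tt N17547 (iv1 F297378)) (tt N11906 (iv0 F296672)) (tt N23390 F296302) (tt N12669 F296303) (tt N19364 F318823) (tt N11996 F55002) (tt N11357 (iv6 D34800)) (tt N23515 F296304))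
theorem Q23121 : ∀ i, i < 23121 → P i := stepQ 23120 Q23120 (allL N23120 (tt N12083 (iv1 F124345)) (tt N17726 F299636) (tt N17728 F299637) (tt N11358 (iv3 D34801)) (tt N31743 F343728) (tt N17675 F299638) (tt N31756 F323976) (tt N17674 F299639))
theorem Q23122 : ∀ i, i < 23122 → P i := stepQ 23121 Q23121 (allL N23121 (tt N11578 F55006) (tt N24043 F57207) (tt N23429 (iv2 F55888)) (tt N44939 D76191) (tt N11358 (iv4 D34802)) (tt N37225 F314097) (tt N44940 D76193) (tt N23427 (iv7 F55881)))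
theorem Q23123 : ∀ i, i < 23123 → P i := stepQ 23122 Q23122 (allL N23122 (tt N25338 F60723) (tt N25342 (iv0 F60727)) (tt N23430 (iv2 F55892)) (tt N31756 F322516) (tt N44940 (iv4 F114156)) (tt N17986 F55007) (tt N11358 (iv6 D34803)) (tt N35227 F299689))
theorem Q23124 : ∀ i, i < 23124 → P i := stepQ 23123 Q23123 (allL N23123 (tt N23434 (iv1 F55909)) (tt N11359 (iv0 D34804)) (tt N17476 F299297) (tt N35884 F320696) (tt N11888 F55008) (tt N18762 F313453) (tt N17465 F299298) (tt N23431 (iv7 F55899)))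
theorem Q23125 : ∀ i, i < 23125 → P i := stepQ 23124 Q23124 (allL N23124 (tt N11359 (iv1 D34805)) (tt N23434 F55908) (tt N23431 F55901) (tt N44941 D76198) (tt N11889 F55009) (tt N37867 F313452) (tt N31188 (iv6 F322718)) (tt N17476 F299620))
theorem Q23126 : ∀ i, i < 23126 → P i := stepQ 23125 Q23125 (allL N23125 (tt N44942 D76201) (tt N44943 D76202) (tt N44944 D76203) (tt N11359 (iv3 D34806)) (tt N44845 (iv4 F113667)) (tt N44945 D76204) (tt N11360 F55010) (tt N44930 (iv7 F114132)))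
theorem Q23127 : ∀ i, i < 23127 → P i := stepQ 23126 Q23126 (allL N23126 (tt N44946 D76205) (tt N24112 F311679) (tt N23433 (iv2 F55903)) (tt N44945 (iv3 F114167)) (tt N38281 F311680) (tt N11359 (iv5 D34807)) (tt N17998 F55011) (tt N44552 F112491))
theorem Q23128 : ∀ i, i < 23128 → P i := stepQ 23127 Q23127 (allL N23127 (tt N12558 (iv1 F55012)) (tt N11360 (iv0 D34808)) (tt N12557 F254274) (tt N44947 D76208) (tt N44948 D76209) (tt N23805 F250799) (tt N44949 D76211) (tt N12556 (iv7 F254277)))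
theorem Q23129 : ∀ i, i < 23129 → P i := stepQ 23128 Q23128 (allL N23128 (tt N11360 (iv1 D34809)) (tt N12558 F55016) (tt N12556 (iv2 F254276)) (tt N44950 D76213) (tt N44951 D76214) (tt N23806 (iv5 F250795)) (tt N44952 D76216) (tt N12557 F254275))
theorem Q23130 : ∀ i, i < 23130 → P i := stepQ 23129 Q23129 (allL N23129 (tt N12557 (iv1 F55017)) (tt N12556 F55015) (tt N11360 (iv2 D34810)) (tt N23437 (iv3 F55911)) (tt N44854 (iv4 F113710)) (tt N18009 F55013) (tt N44944 (iv6 F114166)) (tt N12558 F55014))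
theorem Q23131 : ∀ i, i < 23131 → P i := stepQ 23130 Q23130 (allL N23130 (tt N44953 D76217) (tt N44954 D76218) (tt N34008 (iv2 F86489)) (tt N11366 F55018) (tt N44955 D76219) (tt N11363 (iv5 D34811)) (tt N32909 (iv6 F83733)) (tt N34009 (iv7 F86492)))
theorem Q23132 : ∀ i, i < 23132 → P i := stepQ 23131 Q23131 (allL N23131 (tt N32764 F83494) (tt N16449 (iv0 F76683)) (tt N27233 (iv2 F69410)) (tt N11364 (iv3 D34812)) (tt N23138 (iv4 F55038)) (tt N26944 F68290) (tt N15010 F55019) (tt N16548 F55020))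
theorem Q23133 : ∀ i, i < 23133 → P i := stepQ 23132 Q23132 (allL N23132 (tt N23252 (iv1 F55307)) (tt N44956 D76220) (tt N16547 F55021) (tt N26944 (iv3 F68291)) (tt N44957 D76221) (tt N11364 (iv5 D34813)) (tt N44958 D76222) (tt N16549 F55022))
theorem Q23134 : ∀ i, i < 23134 → P i := stepQ 23133 Q23133 (allL N23133 (tt N44956 (iv1 F114184)) (tt N23252 (iv0 F55306)) (tt N16549 F55023) (tt N34358 (iv3 F87370)) (tt N44959 D76223) (tt N11365 (iv5 D34814)) (tt N44960 D76224) (tt N16547 F55024))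
theorem Q23135 : ∀ i, i < 23135 → P i := stepQ 23134 Q23134 (allL N23134 (tt N16350 (iv1 F55027)) (tt N11366 (iv0 D34815)) (tt N16551 (iv2 F55026)) (tt N44961 D76225) (tt N44962 D76226) (tt N19401 F55025) (tt N44963 D76227) (tt N16552 (iv7 F55028)))
theorem Q23136 : ∀ i, i < 23136 → P i := stepQ 23135 Q23135 (allL N23135 (tt N11366 (iv1 D34816)) (tt N16350 F55029) (tt N16552 (iv2 F55032)) (tt N43028 F107975) (tt N44964 D76228) (tt N21489 F55031) (tt N44965 D76229) (tt N16551 F55030))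
theorem Q23137 : ∀ i, i < 23137 → P i := stepQ 23136 Q23136 (allL N23136 (tt N44966 D76230) (tt N44967 D76231) (tt N16553 F55033) (tt N44968 D76232) (tt N11366 (iv4 D34817)) (tt N32573 (iv5 F83113)) (tt N32919 (iv6 F83738)) (tt N32973 (iv7 F83795)))
theorem Q23138 : ∀ i, i < 23138 → P i := stepQ 23137 Q23137 (allL N23137 (tt N16552 (iv1 F55036)) (tt N16551 F55037) (tt N16350 F55034) (tt N34009 (iv3 F86491)) (tt N32973 (iv4 F83796)) (tt N11367 F55035) (tt N44969 D76233) (tt N11366 (iv7 D34818)))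
theorem Q23139 : ∀ i, i < 23139 → P i := stepQ 23138 Q23138 (allL N23138 (tt N44970 D76234) (tt N16411 (iv0 F77237)) (tt N44971 D76235) (tt N11368 (iv3 D34819)) (tt N23131 F55038) (tt N44972 D76236) (tt N15713 F55039) (tt N16558 F55040))
theorem Q23140 : ∀ i, i < 23140 → P i := stepQ 23139 Q23139 (allL N23139 (tt N32613 (iv1 F83221)) (tt N36665 F94982) (tt N16555 F55041) (tt N44972 (iv3 F114233)) (tt N44973 D76237) (tt N11368 (iv5 D34820)) (tt N44974 D76238) (tt N16559 F55042))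
theorem Q23141 : ∀ i, i < 23141 → P i := stepQ 23140 Q23140 (allL N23140 (tt N34704 (iv1 F88614)) (tt N22081 F55046) (tt N14850 F55043) (tt N18530 F55044) (tt N33768 F309433) (tt N11369 (iv5 D34821)) (tt N33767 (iv6 F311643)) (tt N14840 F55045))
theorem Q23142 : ∀ i, i < 23142 → P i := stepQ 23141 Q23141 (allL N23141 (tt N17105 F55052) (tt N21164 (iv0 F55051)) (tt N14851 F55047) (tt N18531 F55048) (tt N11370 F55049) (tt N44975 D76240) (tt N11369 (iv6 D34822)) (tt N21879 F55050))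
theorem Q23143 : ∀ i, i < 23143 → P i := stepQ 23142 Q23142 (allL N23142 (tt N22081 F55061) (tt N34704 (iv0 F88613)) (tt N14840 F55058) (tt N14922 F55059) (tt N23388 (iv4 F55770)) (tt N11372 (iv5 D34824)) (tt N42218 (iv6 F312201)) (tt N14850 F55060))
theorem Q23144 : ∀ i, i < 23144 → P i := stepQ 23143 Q23143 (allL N23143 (tt N11377 (iv1 F55065)) (tt N11373 (iv0 D34825)) (tt N11374 (iv2 F55063)) (tt N21758 F83383) (tt N44976 D76243) (tt N42636 (iv5 F106666)) (tt N19058 F55062) (tt N11375 F55064))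
theorem Q23145 : ∀ i, i < 23145 → P i := stepQ 23144 Q23144 (allL N23144 (tt N44977 D76244) (tt N44978 D76245) (tt N11376 F55066) (tt N18491 F55067) (tt N44979 D76246) (tt N11373 (iv5 D34826)) (tt N25487 (iv6 F61213)) (tt N44980 D76247))
theorem Q23146 : ∀ i, i < 23146 → P i := stepQ 23145 Q23145 (allL N23145 (tt N11375 (iv1 F55072)) (tt N11374 F55073) (tt N11377 F55068) (tt N18416 F55069) (tt N22133 F55070) (tt N44980 (iv5 F114270)) (tt N14812 F55071) (tt N11373 (iv7 D34827)))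
theorem Q23147 : ∀ i, i < 23147 → P i := stepQ 23146 Q23146 (allL N23146 (tt N17135 F55077) (tt N17133 (iv0 F55078)) (tt N44976 (iv2 F114251)) (tt N21879 F55074) (tt N11374 (iv4 D34828)) (tt N44981 D76248) (tt N21998 F55075) (tt N18531 F55076))
theorem Q23148 : ∀ i, i < 23148 → P i := stepQ 23147 Q23147 (allL N23147 (tt N42627 F106638) (tt N21859 (iv0 F78811)) (tt N42636 F106667) (tt N18547 F55079) (tt N44982 D76249) (tt N11374 (iv5 D34829)) (tt N44983 D76250) (tt N18535 F55080))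
theorem Q23149 : ∀ i, i < 23149 → P i := stepQ 23148 Q23148 (allL N23148 (tt N21757 (iv1 F55085)) (tt N17046 (iv0 F55084)) (tt N16492 F55081) (tt N11375 (iv3 D34830)) (tt N16488 F55083) (tt N44984 D76251) (tt N16480 F55082) (tt N21758 (iv7 F83384)))
theorem Q23150 : ∀ i, i < 23150 → P i := stepQ 23149 Q23149 (allL N23149 (tt N17133 F55088) (tt N17135 (iv0 F55089)) (tt N18531 F55086) (tt N14927 (iv3 F55090)) (tt N11375 (iv4 D34831)) (tt N44985 D76252) (tt N14924 F55087) (tt N44976 (iv7 F114253)))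
theorem Q23151 : ∀ i, i < 23151 → P i := stepQ 23150 Q23150 (allL N23150 (tt N21859 F77019) (tt N42627 (iv0 F106637)) (tt N18535 F55092) (tt N44984 (iv3 F114280)) (tt N44986 D76253) (tt N11375 (iv5 D34832)) (tt N44987 D76254) (tt N42636 (iv7 F106665)))
theorem Q23152 : ∀ i, i < 23152 → P i := stepQ 23151 Q23151 (allL N23151 (tt N44980 (iv1 F114272)) (tt N11376 (iv0 D34833)) (tt N44977 F114258) (tt N21887 (iv3 F56719)) (tt N44988 D76255) (tt N21655 F55715) (tt N42606 F309993) (tt N44978 (iv7 F114262)))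
theorem Q23153 : ∀ i, i < 23153 → P i := stepQ 23152 Q23152 (allL N23152 (tt N11376 (iv1 D34834)) (tt N44980 F114271) (tt N44978 F114265) (tt N44989 D76257) (tt N44990 D76258) (tt N21656 (iv5 F93556)) (tt N44991 D76259) (tt N44977 F114259))
theorem Q23154 : ∀ i, i < 23154 → P i := stepQ 23153 Q23153 (allL N23153 (tt N42935 (iv1 F107749)) (tt N44992 D76260) (tt N44979 (iv2 F114266)) (tt N44993 D76261) (tt N11376 (iv4 D34835)) (tt N44994 D76262) (tt N19969 F312266) (tt N44995 D76263))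
theorem Q23155 : ∀ i, i < 23155 → P i := stepQ 23154 Q23154 (allL N23154 (tt N44978 (iv1 F114261)) (tt N44977 (iv0 F114260)) (tt N44980 (iv2 F114268)) (tt N11379 F55093) (tt N44995 (iv4 F114305)) (tt N11377 F55094) (tt N44996 D76264) (tt N11376 (iv7 D34836)))
theorem Q23156 : ∀ i, i < 23156 → P i := stepQ 23155 Q23155 (allL N23155 (tt N44997 D76265) (tt N44998 D76266) (tt N44999 D76267) (tt N11378 (iv3 D34837)) (tt N44993 (iv4 F114304)) (tt N36386 (iv5 F94468)) (tt N25499 (iv6 F61218)) (tt N36660 (iv7 F94957)))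
theorem Q23157 : ∀ i, i < 23157 → P i := stepQ 23156 Q23156 (allL N23156 (tt N41581 (iv1 F316359)) (tt N44376 F317389) (tt N18474 F55095) (tt N44996 (iv3 F114307)) (tt N36661 (iv4 F94959)) (tt N14834 F55096) (tt N11379 (iv6 D34838)) (tt N25203 (iv7 F60466)))
theorem Q23158 : ∀ i, i < 23158 → P i := stepQ 23157 Q23157 (allL N23157 (tt N16358 F55099) (tt N16396 F55100) (tt N14886 F55097) (tt N34075 (iv3 F86680)) (tt N27847 (iv4 F71677)) (tt N11381 (iv5 D34839)) (tt N45000 D76270) (tt N14888 F55098))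
theorem Q23159 : ∀ i, i < 23159 → P i := stepQ 23158 Q23158 (allL N23158 (tt N27758 (iv1 F71426)) (tt N13689 F55104) (tt N27300 (iv2 F70034)) (tt N14889 F55101) (tt N11383 (iv4 D34840)) (tt N13777 F55103) (tt N45001 D76271) (tt N14889 F55102))
theorem Q23160 : ∀ i, i < 23160 → P i := stepQ 23159 Q23159 (allL N23159 (tt N45002 D76272) (tt N45003 D76273) (tt N32649 (iv2 F83280)) (tt N11384 F55105) (tt N45001 (iv4 F114328)) (tt N32701 (iv5 F83357)) (tt N11383 (iv6 D34841)) (tt N45004 D76274))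
theorem Q23161 : ∀ i, i < 23161 → P i := stepQ 23160 Q23160 (allL N23160 (tt N29917 (iv1 F77608)) (tt N11384 (iv0 D34842)) (tt N16536 (iv2 F177786)) (tt N43236 F333220) (tt N14756 (iv4 F177788)) (tt N45005 D76278) (tt N45006 D76279) (tt N16540 (iv7 F177791)))
theorem Q23162 : ∀ i, i < 23162 → P i := stepQ 23161 Q23161 (allL N23161 (tt N11384 (iv1 D34843)) (tt N29917 F77607) (tt N16540 F177792) (tt N45007 D76281) (tt N14757 (iv4 F177795)) (tt N45008 D76283) (tt N45009 D76284) (tt N16536 F177793))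
theorem Q23163 : ∀ i, i < 23163 → P i := stepQ 23162 Q23162 (allL N23162 (tt N45010 D76285) (tt N45011 D76286) (tt N29916 (iv2 F77601)) (tt N32701 (iv3 F83356)) (tt N45012 D76287) (tt N11384 (iv5 D34844)) (tt N11385 F55106) (tt N45013 D76288))
theorem Q23164 : ∀ i, i < 23164 → P i := stepQ 23163 Q23163 (allL N23163 (tt N16540 (iv1 F177628)) (tt N16536 F177625) (tt N29917 (iv2 F77603)) (tt N45004 (iv3 F114329)) (tt N14893 F55107) (tt N45013 (iv5 F114334)) (tt N14893 F55108) (tt N11384 (iv7 D34845)))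
theorem Q23165 : ∀ i, i < 23165 → P i := stepQ 23164 Q23164 (allL N23164 (tt N29887 (iv1 F77539)) (tt N11385 (iv0 D34846)) (tt N29924 F77613) (tt N43240 F108388) (tt N32970 (iv4 F83792)) (tt N16557 F55109) (tt N45014 D76289) (tt N29925 (iv7 F77616)))
theorem Q23166 : ∀ i, i < 23166 → P i := stepQ 23165 Q23165 (allL N23165 (tt N11385 (iv1 D34847)) (tt N29887 (iv0 F77538)) (tt N29925 (iv2 F77618)) (tt N45015 D76290) (tt N32971 (iv4 F83793)) (tt N16560 (iv5 F55110)) (tt N45016 D76291) (tt N29924 F77614))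
theorem Q23167 : ∀ i, i < 23167 → P i := stepQ 23166 Q23166 (allL N23166 (tt N44962 (iv1 F114201)) (tt N44964 (iv0 F114207)) (tt N29926 (iv2 F77619)) (tt N45017 D76292) (tt N11385 (iv4 D34848)) (tt N45018 D76293) (tt N45012 (iv6 F114333)) (tt N45019 D76294))
theorem Q23168 : ∀ i, i < 23168 → P i := stepQ 23167 Q23167 (allL N23167 (tt N29925 (iv1 F77615)) (tt N29924 F77612) (tt N29887 (iv2 F77536)) (tt N18482 F55111) (tt N45019 (iv4 F114342)) (tt N11386 F55112) (tt N45020 D76295) (tt N11385 (iv7 D34849)))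
theorem Q23169 : ∀ i, i < 23169 → P i := stepQ 23168 Q23168 (allL N23168 (tt N21536 F55116) (tt N13457 (iv0 F55115)) (tt N23169 (iv2 F106571)) (tt N11388 (iv3 D34851)) (tt N14915 F55114) (tt N32750 (iv5 F83469)) (tt N29863 (iv6 F82961)) (tt N23172 F106567))
theorem Q23170 : ∀ i, i < 23170 → P i := stepQ 23169 Q23169 (allL N23169 (tt N14917 F55117) (tt N13248 (iv0 F55118)) (tt N23168 F106571) (tt N42346 F106028) (tt N11388 (iv4 D34852)) (tt N45021 D76296) (tt N29822 F82957) (tt N26935 F106568))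
theorem Q23171 : ∀ i, i < 23171 → P i := stepQ 23170 Q23170 (allL N23170 (tt N45022 D76297) (tt N21490 (iv0 F82960)) (tt N29890 F106574) (tt N29863 F82959) (tt N29822 (iv4 F82958)) (tt N45023 D76298) (tt N11388 (iv6 D34854)) (tt N45024 D76299))
theorem Q23172 : ∀ i, i < 23172 → P i := stepQ 23171 Q23171 (allL N23171 (tt N23196 F55174) (tt N21474 (iv0 F55122)) (tt N34395 F106605) (tt N11389 (iv3 D34856)) (tt N34395 F87465) (tt N32752 (iv5 F83475)) (tt N45025 D76300) (tt N29889 F106604))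
theorem Q23173 : ∀ i, i < 23173 → P i := stepQ 23172 Q23172 (allL N23172 (tt N13248 F55120) (tt N14917 (iv0 F55123)) (tt N26935 (iv2 F106570)) (tt N14914 F55121) (tt N11389 (iv4 D34857)) (tt N45026 D76301) (tt N38202 (iv6 F114357)) (tt N23168 (iv7 F106567)))
theorem Q23174 : ∀ i, i < 23174 → P i := stepQ 23173 Q23173 (allL N23173 (tt N14965 F114354) (tt N26560 F114355) (tt N29888 F106606) (tt N45025 (iv3 F114391)) (tt N38202 F114356) (tt N45027 D76302) (tt N11389 (iv6 D34858)) (tt N30060 F114368))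
theorem Q23175 : ∀ i, i < 23175 → P i := stepQ 23174 Q23174 (allL N23174 (tt N16448 (iv1 F76682)) (tt N16445 F55129) (tt N11391 F55124) (tt N11420 F55125) (tt N45028 D76303) (tt N11390 (iv5 D34859)) (tt N13543 F55126) (tt N16520 F55127))
theorem Q23176 : ∀ i, i < 23176 → P i := stepQ 23175 Q23175 (allL N23175 (tt N16520 (iv1 F55131)) (tt N11391 (iv0 D34860)) (tt N16448 (iv2 F83428)) (tt N32742 (iv3 F83449)) (tt N36576 (iv4 F94824)) (tt N14740 (iv5 F76680)) (tt N45029 D76304) (tt N16445 (iv7 F83430)))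
theorem Q23177 : ∀ i, i < 23177 → P i := stepQ 23176 Q23176 (allL N23176 (tt N11391 (iv1 D34861)) (tt N16520 F55132) (tt N16445 F83429) (tt N42619 (iv3 F106548)) (tt N45030 D76305) (tt N14741 (iv5 F65468)) (tt N45031 D76306) (tt N16448 F83427))
theorem Q23178 : ∀ i, i < 23178 → P i := stepQ 23177 Q23177 (allL N23177 (tt N45032 D76307) (tt N43224 (iv0 F108358)) (tt N45028 (iv2 F114401)) (tt N11776 F55133) (tt N11391 (iv4 D34862)) (tt N35062 (iv5 F90753)) (tt N27229 (iv6 F69399)) (tt N16521 F55134))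
theorem Q23179 : ∀ i, i < 23179 → P i := stepQ 23178 Q23178 (allL N23178 (tt N11431 (iv1 F55139)) (tt N11392 (iv0 D34863)) (tt N11428 F153445) (tt N41647 F319716) (tt N17523 (iv4 F136679)) (tt N45033 D76311) (tt N41645 (iv6 F321659)) (tt N11429 F153446))
theorem Q23180 : ∀ i, i < 23180 → P i := stepQ 23179 Q23179 (allL N23179 (tt N11392 (iv1 D34864)) (tt N11431 F55135) (tt N11429 (iv2 F153440)) (tt N45034 D76314) (tt N17524 (iv4 F136674)) (tt N45035 D76316) (tt N45036 D76317) (tt N11428 (iv7 F153444)))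
theorem Q23181 : ∀ i, i < 23181 → P i := stepQ 23180 Q23180 (allL N23180 (tt N11429 (iv1 F55140)) (tt N11428 F55141) (tt N11431 F55136) (tt N27230 (iv3 F69401)) (tt N11783 F55137) (tt N27227 (iv5 F69388)) (tt N16526 F55138) (tt N11392 (iv7 D34865)))
theorem Q23182 : ∀ i, i < 23182 → P i := stepQ 23181 Q23181 (allL N23181 (tt N27600 (iv1 F70612)) (tt N13648 F55143) (tt N27603 F70626) (tt N27602 (iv3 F70618)) (tt N11395 (iv4 D34866)) (tt N13687 F55142) (tt N45037 D76318) (tt N27602 F70621))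
theorem Q23183 : ∀ i, i < 23183 → P i := stepQ 23182 Q23182 (allL N23182 (tt N45038 D76319) (tt N45039 D76320) (tt N32648 (iv2 F83278)) (tt N11396 F55144) (tt N45037 (iv4 F114419)) (tt N32415 (iv5 F82802)) (tt N11395 (iv6 D34867)) (tt N45040 D76321))
theorem Q23184 : ∀ i, i < 23184 → P i := stepQ 23183 Q23183 (allL N23183 (tt N32582 (iv1 F83145)) (tt N11396 (iv0 D34868)) (tt N32579 (iv2 F177776)) (tt N35925 (iv3 F332572)) (tt N23829 (iv4 F177616)) (tt N35924 (iv5 F332573)) (tt N45041 D76326) (tt N32580 F177775))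
theorem Q23185 : ∀ i, i < 23185 → P i := stepQ 23184 Q23184 (allL N23184 (tt N11396 (iv1 D34869)) (tt N32582 F83144) (tt N32580 F177774) (tt N45042 D76328) (tt N23830 F177611) (tt N45043 D76330) (tt N45044 D76331) (tt N32579 (iv7 F177777)))
theorem Q23186 : ∀ i, i < 23186 → P i := stepQ 23185 Q23185 (allL N23185 (tt N37313 F333210) (tt N45045 D76333) (tt N32581 (iv2 F83138)) (tt N32415 (iv3 F82801)) (tt N45046 D76334) (tt N11396 (iv5 D34870)) (tt N11397 F55145) (tt N45047 D76335))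
theorem Q23187 : ∀ i, i < 23187 → P i := stepQ 23186 Q23186 (allL N23186 (tt N32580 (iv1 F83137)) (tt N32579 F83143) (tt N32582 (iv2 F83140)) (tt N45040 (iv3 F114420)) (tt N32587 (iv4 F83152)) (tt N45047 (iv5 F114425)) (tt N32587 (iv6 F83154)) (tt N11396 (iv7 D34871)))
theorem Q23188 : ∀ i, i < 23188 → P i := stepQ 23187 Q23187 (allL N23187 (tt N30095 (iv1 F78012)) (tt N11397 (iv0 D34872)) (tt N29825 (iv2 F77418)) (tt N16926 (iv3 F55147)) (tt N42381 (iv4 F106086)) (tt N16305 F55146) (tt N45048 D76336) (tt N16304 (iv7 F55148)))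
theorem Q23189 : ∀ i, i < 23189 → P i := stepQ 23188 Q23188 (allL N23188 (tt N11397 (iv1 D34873)) (tt N30095 (iv0 F78011)) (tt N16304 (iv2 F55150)) (tt N45049 D76337) (tt N42382 (iv4 F106088)) (tt N14716 F55149) (tt N45050 D76338) (tt N29825 (iv7 F77421)))
theorem Q23190 : ∀ i, i < 23190 → P i := stepQ 23189 Q23189 (allL N23189 (tt N45051 D76339) (tt N32492 (iv0 F82948)) (tt N32583 (iv2 F83146)) (tt N45052 D76340) (tt N11397 (iv4 D34874)) (tt N45053 D76341) (tt N45046 (iv6 F114424)) (tt N45054 D76342))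
theorem Q23191 : ∀ i, i < 23191 → P i := stepQ 23190 Q23190 (allL N23190 (tt N16304 (iv1 F55153)) (tt N29825 (iv0 F77422)) (tt N30095 (iv2 F78009)) (tt N16301 F55151) (tt N45054 (iv4 F114444)) (tt N11398 F55152) (tt N45055 D76343) (tt N11397 (iv7 D34875)))
theorem Q23192 : ∀ i, i < 23192 → P i := stepQ 23191 Q23191 (allL N23191 (tt N45024 (iv1 F114390)) (tt N29890 (iv0 F82963)) (tt N45022 F114375) (tt N11399 (iv3 D34876)) (tt N23264 (iv4 F55325)) (tt N45056 D76344) (tt N13459 F83004) (tt N21490 F55154))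
theorem Q23193 : ∀ i, i < 23193 → P i := stepQ 23192 Q23192 (allL N23192 (tt N21140 F55157) (tt N41752 (iv0 F104867)) (tt N21488 F55155) (tt N45056 (iv3 F114450)) (tt N45057 D76345) (tt N11399 (iv5 D34877)) (tt N45058 D76346) (tt N21491 F55156))
theorem Q23194 : ∀ i, i < 23194 → P i := stepQ 23193 Q23193 (allL N23193 (tt N11436 (iv1 F55162)) (tt N32977 (iv0 F83806)) (tt N21489 F55158) (tt N13459 F82974) (tt N11401 F55159) (tt N16552 F55161) (tt N11399 (iv6 D34878)) (tt N19401 F55160))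
theorem Q23195 : ∀ i, i < 23195 → P i := stepQ 23194 Q23194 (allL N23194 (tt N16307 F55167) (tt N16306 F55168) (tt N16317 F55163) (tt N13245 F55164) (tt N11400 (iv4 D34879)) (tt N23214 (iv5 F55221)) (tt N13243 F55165) (tt N14719 F55166))
theorem Q23196 : ∀ i, i < 23196 → P i := stepQ 23195 Q23195 (allL N23195 (tt N41752 (iv1 F104868)) (tt N21140 F55171) (tt N21491 F55169) (tt N42400 (iv3 F106124)) (tt N45059 D76347) (tt N11402 (iv5 D34880)) (tt N45060 D76348) (tt N21488 F55170))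
theorem Q23197 : ∀ i, i < 23197 → P i := stepQ 23196 Q23196 (allL N23196 (tt N42346 (iv1 F106025)) (tt N23171 (iv0 F55174)) (tt N17332 F55172) (tt N11790 F55173) (tt N11403 (iv4 D34881)) (tt N32841 (iv5 F83643)) (tt N26551 F65486) (tt N32574 (iv7 F83117)))
theorem Q23198 : ∀ i, i < 23198 → P i := stepQ 23197 Q23197 (allL N23197 (tt N11443 F55352) (tt N11443 F55353) (tt N32575 (iv2 F83119)) (tt N23270 (iv3 F55348)) (tt N26551 (iv4 F65482)) (tt N27204 (iv5 F69250)) (tt N11403 (iv6 D34882)) (tt N32575 (iv7 F83122)))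
theorem Q23199 : ∀ i, i < 23199 → P i := stepQ 23198 Q23198 (allL N23198 (tt N11406 (iv1 D34883)) (tt N32576 (iv0 F83131)) (tt N14922 (iv2 F55176)) (tt N21913 F55178) (tt N23382 (iv4 F55756)) (tt N14920 (iv5 F55177)) (tt N45061 D76349) (tt N14926 F55175))
theorem Q23200 : ∀ i, i < 23200 → P i := stepQ 23199 Q23199 (allL N23199 (tt N45062 D76350) (tt N45063 D76351) (tt N42022 (iv2 F105271)) (tt N11407 F55179) (tt N41990 F105226) (tt N30082 (iv5 F77982)) (tt N11406 (iv6 D34884)) (tt N45064 D76352))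
theorem Q23201 : ∀ i, i < 23201 → P i := stepQ 23200 Q23200 (allL N23200 (tt N32587 (iv1 F83157)) (tt N11407 (iv0 D34885)) (tt N32585 F193477) (tt N45065 D76354) (tt N21484 (iv4 F177812)) (tt N45066 D76356) (tt N45067 D76357) (tt N32586 F193478))
theorem Q23202 : ∀ i, i < 23202 → P i := stepQ 23201 Q23201 (allL N23201 (tt N11407 (iv1 D34886)) (tt N32587 F83156) (tt N32586 (iv2 F193473)) (tt N45068 D76359) (tt N21485 F177837) (tt N45069 D76361) (tt N45070 D76362) (tt N32585 (iv7 F193474)))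
theorem Q23203 : ∀ i, i < 23203 → P i := stepQ 23202 Q23202 (allL N23202 (tt N32586 (iv1 F83150)) (tt N32585 F83155) (tt N32587 (iv2 F83151)) (tt N45064 (iv3 F114466)) (tt N32582 (iv4 F83141)) (tt N30093 (iv5 F78003)) (tt N32582 (iv6 F83142)) (tt N11407 (iv7 D34887)))
theorem Q23204 : ∀ i, i < 23204 → P i := stepQ 23203 Q23203 (allL N23203 (tt N17156 F55183) (tt N21537 F55184) (tt N11410 F55180) (tt N21476 F55181) (tt N45071 D76363) (tt N11409 (iv5 D34888)) (tt N45072 D76364) (tt N21533 F55182))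
theorem Q23205 : ∀ i, i < 23205 → P i := stepQ 23204 Q23204 (allL N23204 (tt N18387 (iv1 F55190)) (tt N14808 (iv0 F55189)) (tt N11411 F55185) (tt N21477 F55186) (tt N11454 F55187) (tt N21182 (iv5 F55188)) (tt N11409 (iv6 D34889)) (tt N18386 (iv7 F55191)))
theorem Q23206 : ∀ i, i < 23206 → P i := stepQ 23205 Q23205 (allL N23205 (tt N29755 (iv1 F77196)) (tt N16960 F310073) (tt N45071 (iv2 F114470)) (tt N17334 F55192) (tt N11410 (iv4 D34890)) (tt N42684 (iv5 F106833)) (tt N45073 D76365) (tt N21538 F55193))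
theorem Q23207 : ∀ i, i < 23207 → P i := stepQ 23206 Q23206 (allL N23206 (tt N45074 D76366) (tt N45075 D76367) (tt N45072 (iv2 F114475)) (tt N11412 F55195) (tt N45073 (iv4 F114479)) (tt N45076 D76368) (tt N11410 (iv6 D34891)) (tt N45077 D76369))
theorem Q23208 : ∀ i, i < 23208 → P i := stepQ 23207 Q23207 (allL N23207 (tt N11411 (iv1 D34892)) (tt N18386 F55196) (tt N14808 F55199) (tt N29865 (iv3 F77475)) (tt N14811 (iv4 F55198)) (tt N41748 (iv5 F104855)) (tt N22786 F55200) (tt N18387 F55197))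
theorem Q23209 : ∀ i, i < 23209 → P i := stepQ 23208 Q23208 (allL N23208 (tt N16897 F55203) (tt N21174 (iv0 F55204)) (tt N21182 F55201) (tt N11413 F55202) (tt N45078 D76370) (tt N11411 (iv5 D34893)) (tt N45076 (iv6 F114482)) (tt N21183 (iv7 F55205)))
theorem Q23210 : ∀ i, i < 23210 → P i := stepQ 23209 Q23209 (allL N23209 (tt N14808 (iv1 F55211)) (tt N18387 F55212) (tt N18386 F55206) (tt N11414 F55207) (tt N11458 F55208) (tt N21183 F55209) (tt N15184 F55210) (tt N11411 (iv7 D34894)))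
theorem Q23211 : ∀ i, i < 23211 → P i := stepQ 23210 Q23210 (allL N23210 (tt N21487 (iv1 F55218)) (tt N11412 (iv0 D34895)) (tt N21484 (iv2 F193475)) (tt N24559 F325727) (tt N32585 F177636) (tt N45079 D76374) (tt N32567 (iv6 F83109)) (tt N21485 F193472))
theorem Q23212 : ∀ i, i < 23212 → P i := stepQ 23211 Q23211 (allL N23211 (tt N11412 (iv1 D34896)) (tt N21487 F55213) (tt N21485 F193471) (tt N45080 D76376) (tt N32586 F177659) (tt N45081 D76378) (tt N45082 D76379) (tt N21484 (iv7 F193476)))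
theorem Q23213 : ∀ i, i < 23213 → P i := stepQ 23212 Q23212 (allL N23212 (tt N45083 D76380) (tt N45084 D76381) (tt N21486 F55214) (tt N45076 (iv3 F114481)) (tt N45085 D76382) (tt N11412 (iv5 D34897)) (tt N11413 F55215) (tt N45086 D76383))
theorem Q23214 : ∀ i, i < 23214 → P i := stepQ 23213 Q23213 (allL N23213 (tt N21485 (iv1 F55219)) (tt N21484 F55220) (tt N21487 F55216) (tt N45077 (iv3 F114483)) (tt N17338 F55217) (tt N45086 (iv5 F114494)) (tt N23831 (iv6 F56566)) (tt N11412 (iv7 D34898)))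
theorem Q23215 : ∀ i, i < 23215 → P i := stepQ 23214 Q23214 (allL N23214 (tt N21495 (iv1 F55224)) (tt N11413 (iv0 D34899)) (tt N21492 (iv2 F55222)) (tt N26545 (iv3 F65470)) (tt N45051 (iv4 F114436)) (tt N23194 F55221) (tt N26542 (iv6 F65463)) (tt N21493 F55223))
theorem Q23216 : ∀ i, i < 23216 → P i := stepQ 23215 Q23215 (allL N23215 (tt N45087 D76384) (tt N32476 (iv0 F82912)) (tt N21494 F55225) (tt N45088 D76385) (tt N11413 (iv4 D34900)) (tt N42385 (iv5 F106096)) (tt N45085 (iv6 F114492)) (tt N42384 (iv7 F106091)))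
theorem Q23217 : ∀ i, i < 23217 → P i := stepQ 23216 Q23216 (allL N23216 (tt N21493 (iv1 F55229)) (tt N21492 F55230) (tt N21495 F55226) (tt N21183 F55227) (tt N42384 (iv4 F106090)) (tt N11414 F55228) (tt N45089 D76386) (tt N11413 (iv7 D34901)))
theorem Q23218 : ∀ i, i < 23218 → P i := stepQ 23217 Q23217 (allL N23217 (tt N24831 F336795) (tt N45080 (iv0 F336796)) (tt N21960 F55231) (tt N23883 (iv3 F56676)) (tt N43750 (iv4 F109600)) (tt N45090 D76389) (tt N11416 (iv6 D34902)) (tt N45091 D76390))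
theorem Q23219 : ∀ i, i < 23219 → P i := stepQ 23218 Q23218 (allL N23218 (tt N16077 (iv1 F55235)) (tt N11417 (iv0 D34903)) (tt N20935 (iv2 F55233)) (tt N45022 (iv3 F114376)) (tt N11469 F55232) (tt N45092 D76391) (tt N45093 D76392) (tt N20936 F55234))
theorem Q23220 : ∀ i, i < 23220 → P i := stepQ 23219 Q23219 (allL N23219 (tt N29535 (iv1 F76630)) (tt N21187 F55237) (tt N20937 F55236) (tt N23884 (iv3 F56677)) (tt N45094 D76393) (tt N11417 (iv5 D34904)) (tt N45090 (iv6 F114507)) (tt N45095 D76394))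
theorem Q23221 : ∀ i, i < 23221 → P i := stepQ 23220 Q23220 (allL N23220 (tt N20936 (iv1 F55242)) (tt N20935 F55243) (tt N16077 F55238) (tt N20901 F55239) (tt N16111 F55240) (tt N45095 (iv5 F114527)) (tt N22788 F55241) (tt N11417 (iv7 D34905)))
theorem Q23222 : ∀ i, i < 23222 → P i := stepQ 23221 Q23221 (allL N23221 (tt N36465 (iv1 F94676)) (tt N42960 (iv0 F107806)) (tt N21957 F55244) (tt N43731 (iv3 F109568)) (tt N11418 (iv4 D34906)) (tt N35085 (iv5 F90806)) (tt N45096 D76395) (tt N21959 F55245))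
theorem Q23223 : ∀ i, i < 23223 → P i := stepQ 23222 Q23222 (allL N23222 (tt N34400 (iv1 F177473)) (tt N45097 D76397) (tt N21958 F55246) (tt N23872 (iv3 F56640)) (tt N45096 (iv4 F114531)) (tt N45098 D76398) (tt N11418 (iv6 D34907)) (tt N45099 D76399))
theorem Q23224 : ∀ i, i < 23224 → P i := stepQ 23223 Q23223 (allL N23223 (tt N11419 (iv1 D34908)) (tt N22788 F55247) (tt N14967 F55250) (tt N26560 (iv3 F82991)) (tt N11479 (iv4 F55249)) (tt N38315 (iv5 F97940)) (tt N26557 F82994) (tt N22786 F55248))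
theorem Q23225 : ∀ i, i < 23225 → P i := stepQ 23224 Q23224 (allL N23224 (tt N29580 (iv1 F76751)) (tt N37515 (iv0 F96182)) (tt N34683 (iv2 F88571)) (tt N16152 F55251) (tt N45100 D76400) (tt N11419 (iv5 D34909)) (tt N45098 (iv6 F114535)) (tt N32123 (iv7 F82379)))
theorem Q23226 : ∀ i, i < 23226 → P i := stepQ 23225 Q23225 (allL N23225 (tt N17657 F55254) (tt N33974 (iv0 F86361)) (tt N11422 F55252) (tt N45101 D76401) (tt N11420 (iv4 D34910)) (tt N17709 F55253) (tt N45102 D76402) (tt N34684 (iv7 F88577)))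
theorem Q23227 : ∀ i, i < 23227 → P i := stepQ 23226 Q23226 (allL N23226 (tt N45103 D76403) (tt N45104 D76404) (tt N11423 F55255) (tt N13543 F55256) (tt N45102 (iv4 F114543)) (tt N13542 F55257) (tt N11420 (iv6 D34911)) (tt N45105 D76405))
theorem Q23228 : ∀ i, i < 23228 → P i := stepQ 23227 Q23227 (allL N23227 (tt N11421 (iv1 D34912)) (tt N11427 F55258) (tt N11425 F55263) (tt N17447 (iv3 F55262)) (tt N11509 F55261) (tt N13447 F55260) (tt N45106 D76406) (tt N11424 F55259))
theorem Q23229 : ∀ i, i < 23229 → P i := stepQ 23228 Q23228 (allL N23228 (tt N17710 (iv1 F55268)) (tt N17676 (iv0 F55267)) (tt N17709 F55264) (tt N22304 F55265) (tt N34301 (iv4 F87156)) (tt N11422 (iv5 D34913)) (tt N45107 D76407) (tt N17708 F55266))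
theorem Q23230 : ∀ i, i < 23230 → P i := stepQ 23229 Q23229 (allL N23229 (tt N45108 D76408) (tt N45109 D76409) (tt N45102 (iv2 F114542)) (tt N32632 (iv3 F83258)) (tt N11423 F55270) (tt N45110 D76410) (tt N11422 (iv6 D34914)) (tt N45111 D76411))
theorem Q23231 : ∀ i, i < 23231 → P i := stepQ 23230 Q23230 (allL N23230 (tt N45105 (iv1 F114550)) (tt N11423 (iv0 D34915)) (tt N45103 F251602) (tt N45112 D76413) (tt N45113 D76414) (tt N45114 D76415) (tt N45115 D76416) (tt N45104 F251603))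
theorem Q23232 : ∀ i, i < 23232 → P i := stepQ 23231 Q23231 (allL N23231 (tt N11423 (iv1 D34916)) (tt N45105 F114549) (tt N45104 (iv2 F251600)) (tt N45116 D76418) (tt N45117 D76419) (tt N45118 D76420) (tt N45119 D76421) (tt N45103 (iv7 F251601)))
theorem Q23233 : ∀ i, i < 23233 → P i := stepQ 23232 Q23232 (allL N23232 (tt N45120 D76422) (tt N45121 D76423) (tt N13542 F55271) (tt N11430 F55272) (tt N14046 (iv4 F55274)) (tt N11423 (iv5 D34917)) (tt N11426 F55273) (tt N45122 D76424))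
theorem Q23234 : ∀ i, i < 23234 → P i := stepQ 23233 Q23233 (allL N23233 (tt N45104 (iv1 F114544)) (tt N45103 F114548) (tt N45105 (iv2 F114545)) (tt N11431 F55275) (tt N45111 (iv4 F114560)) (tt N45122 (iv5 F114568)) (tt N34689 (iv6 F88586)) (tt N11423 (iv7 D34918)))
theorem Q23235 : ∀ i, i < 23235 → P i := stepQ 23234 Q23234 (allL N23234 (tt N21475 (iv1 F55279)) (tt N21676 F55280) (tt N11434 F55276) (tt N11424 (iv3 D34919)) (tt N17003 F55277) (tt N26523 (iv5 F65439)) (tt N43372 (iv6 F108570)) (tt N17447 F55278))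
theorem Q23236 : ∀ i, i < 23236 → P i := stepQ 23235 Q23235 (allL N23235 (tt N26557 (iv1 F82997)) (tt N18388 (iv0 F55285)) (tt N21650 F55283) (tt N43372 (iv3 F108569)) (tt N21649 F55284) (tt N45123 D76425) (tt N11424 (iv6 D34920)) (tt N45124 D76426))
theorem Q23237 : ∀ i, i < 23237 → P i := stepQ 23236 Q23236 (allL N23236 (tt N36662 F94964) (tt N45093 (iv0 F114521)) (tt N45106 (iv2 F114551)) (tt N11433 F55286) (tt N11511 F55287) (tt N32778 (iv5 F83505)) (tt N11425 (iv6 D34921)) (tt N20993 (iv7 F55288)))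
theorem Q23238 : ∀ i, i < 23238 → P i := stepQ 23237 Q23237 (allL N23237 (tt N45125 D76433) (tt N27216 (iv0 F142436)) (tt N45126 D76435) (tt N11428 (iv3 D34923)) (tt N22497 (iv4 F322021)) (tt N45127 D76437) (tt N45128 D76438) (tt N45034 (iv7 F153442)))
theorem Q23239 : ∀ i, i < 23239 → P i := stepQ 23238 Q23238 (allL N23238 (tt N29087 F293791) (tt N45129 D76447) (tt N45033 (iv2 F153452)) (tt N45127 (iv3 F114590)) (tt N45130 D76448) (tt N11428 (iv5 D34925)) (tt N45131 D76449) (tt N45035 (iv7 F153439)))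
theorem Q23240 : ∀ i, i < 23240 → P i := stepQ 23239 Q23239 (allL N23239 (tt N16542 (iv1 F161767)) (tt N45132 D76452) (tt N41645 F323343) (tt N45128 (iv3 F114591)) (tt N32896 (iv4 F136446)) (tt N45133 D76453) (tt N11428 (iv6 D34926)) (tt N45134 D76454))
theorem Q23241 : ∀ i, i < 23241 → P i := stepQ 23240 Q23240 (allL N23240 (tt N16504 F290299) (tt N45135 D76457) (tt N45136 D76458) (tt N11429 (iv3 D34928)) (tt N45137 D76459) (tt N45138 D76460) (tt N45139 D76461) (tt N41647 (iv7 F317461)))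
theorem Q23242 : ∀ i, i < 23242 → P i := stepQ 23241 Q23241 (allL N23241 (tt N45129 (iv1 F114599)) (tt N29087 F293790) (tt N45035 (iv2 F153438)) (tt N45138 (iv3 F114606)) (tt N45140 D76465) (tt N11429 (iv5 D34930)) (tt N26540 (iv6 F65461)) (tt N45033 (iv7 F153453)))
theorem Q23243 : ∀ i, i < 23243 → P i := stepQ 23242 Q23242 (allL N23242 (tt N45141 D76466) (tt N32913 (iv0 F178023)) (tt N45036 (iv2 F153443)) (tt N45139 (iv3 F114607)) (tt N32899 (iv4 F136443)) (tt N45142 D76468) (tt N11429 (iv6 D34931)) (tt N45143 D76469))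
theorem Q23244 : ∀ i, i < 23244 → P i := stepQ 23243 Q23243 (allL N23243 (tt N27227 (iv1 F69392)) (tt N11430 (iv0 D34932)) (tt N27225 F145352) (tt N27214 (iv3 F136452)) (tt N45144 D76472) (tt N45145 D76473) (tt N45146 D76474) (tt N27226 (iv7 F145354)))
theorem Q23245 : ∀ i, i < 23245 → P i := stepQ 23244 Q23244 (allL N23244 (tt N11430 (iv1 D34933)) (tt N27227 F69391) (tt N27226 (iv2 F145353)) (tt N45147 D76476) (tt N45148 D76477) (tt N32769 (iv5 F83499)) (tt N45149 D76478) (tt N27225 (iv7 F145351)))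
theorem Q23246 : ∀ i, i < 23246 → P i := stepQ 23245 Q23245 (allL N23245 (tt N45150 D76479) (tt N45151 D76480) (tt N13690 F55291) (tt N27787 (iv3 F71519)) (tt N11430 (iv4 D34934)) (tt N45152 D76481) (tt N11439 F55292) (tt N45153 D76482))
theorem Q23247 : ∀ i, i < 23247 → P i := stepQ 23246 Q23246 (allL N23246 (tt N27226 (iv1 F69384)) (tt N27225 F69390) (tt N27227 (iv2 F69385)) (tt N45122 (iv3 F114566)) (tt N45153 (iv4 F114622)) (tt N11431 F55293) (tt N45154 D76483) (tt N11430 (iv7 D34935)))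
theorem Q23248 : ∀ i, i < 23248 → P i := stepQ 23247 Q23247 (allL N23247 (tt N26446 (iv1 F157742)) (tt N26581 (iv0 F157739)) (tt N21678 F55294) (tt N26522 (iv3 F65436)) (tt N29131 (iv4 F75099)) (tt N32779 (iv5 F83506)) (tt N11432 (iv6 D34936)) (tt N26580 F157733))
theorem Q23249 : ∀ i, i < 23249 → P i := stepQ 23248 Q23248 (allL N23248 (tt N11434 (iv1 D34937)) (tt N17447 F55295) (tt N21676 (iv2 F55300)) (tt N21475 F55298) (tt N21557 (iv4 F55297)) (tt N45155 D76487) (tt N17441 F55299) (tt N21475 F55296))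
theorem Q23250 : ∀ i, i < 23250 → P i := stepQ 23249 Q23249 (allL N23249 (tt N26432 F65138) (tt N28635 (iv0 F74309)) (tt N26523 (iv2 F65437)) (tt N11435 F55302) (tt N26503 F65381) (tt N11434 (iv5 D34938)) (tt N45156 D76488) (tt N21677 F55303))
theorem Q23251 : ∀ i, i < 23251 → P i := stepQ 23250 Q23250 (allL N23250 (tt N37291 F95774) (tt N45157 D76489) (tt N43372 (iv2 F108568)) (tt N11436 F55304) (tt N17005 F55305) (tt N45158 D76490) (tt N11434 (iv6 D34939)) (tt N43369 (iv7 F108560)))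
theorem Q23252 : ∀ i, i < 23252 → P i := stepQ 23251 Q23251 (allL N23251 (tt N45159 D76491) (tt N13464 (iv0 F177333)) (tt N26538 (iv2 F65459)) (tt N45156 (iv3 F114650)) (tt N29130 (iv4 F75098)) (tt N45160 D76493) (tt N11435 (iv6 D34940)) (tt N45161 D76494))
theorem Q23253 : ∀ i, i < 23253 → P i := stepQ 23252 Q23252 (allL N23252 (tt N23133 F55306) (tt N23132 F55307) (tt N32958 F83779) (tt N45158 (iv3 F114658)) (tt N45162 D76495) (tt N11436 (iv5 D34941)) (tt N45160 (iv6 F114659)) (tt N32959 (iv7 F83781)))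
theorem Q23254 : ∀ i, i < 23254 → P i := stepQ 23253 Q23253 (allL N23253 (tt N26773 F294537) (tt N27246 (iv0 F157273)) (tt N27223 (iv2 F69381)) (tt N27210 (iv3 F69346)) (tt N27829 (iv4 F71643)) (tt N45163 D76498) (tt N11437 (iv6 D34942)) (tt N27245 (iv7 F157271)))
theorem Q23255 : ∀ i, i < 23255 → P i := stepQ 23254 Q23254 (allL N23254 (tt N27203 F69246) (tt N45155 (iv0 F114647)) (tt N27211 (iv2 F69347)) (tt N11438 (iv3 D34943)) (tt N13989 F55309) (tt N19015 F55308) (tt N45164 D76500) (tt N27222 (iv7 F69378)))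
theorem Q23256 : ∀ i, i < 23256 → P i := stepQ 23255 Q23255 (allL N23255 (tt N45165 D76501) (tt N13557 F157586) (tt N27224 (iv2 F69382)) (tt N45164 (iv3 F114665)) (tt N27828 (iv4 F71640)) (tt N19019 F55310) (tt N11438 (iv6 D34944)) (tt N45166 D76503))
theorem Q23257 : ∀ i, i < 23257 → P i := stepQ 23256 Q23256 (allL N23256 (tt N27300 (iv1 F70038)) (tt N14889 F55313) (tt N13689 F55311) (tt N27786 (iv3 F71514)) (tt N21748 F55312) (tt N11439 (iv5 D34945)) (tt N45167 D76504) (tt N27758 (iv7 F71424)))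
theorem Q23258 : ∀ i, i < 23258 → P i := stepQ 23257 Q23257 (allL N23257 (tt N45168 D76505) (tt N45169 D76506) (tt N13545 F55314) (tt N27213 (iv3 F69357)) (tt N27759 (iv4 F71429)) (tt N34701 (iv5 F88602)) (tt N11440 (iv6 D34946)) (tt N45154 (iv7 F114636)))
theorem Q23259 : ∀ i, i < 23259 → P i := stepQ 23258 Q23258 (allL N23258 (tt N26981 F176018) (tt N26857 (iv0 F176019)) (tt N26877 (iv2 F68104)) (tt N26875 (iv3 F68097)) (tt N27301 (iv4 F70039)) (tt N36405 (iv5 F94505)) (tt N11441 (iv6 D34947)) (tt N26980 (iv7 F205443)))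
theorem Q23260 : ∀ i, i < 23260 → P i := stepQ 23259 Q23259 (allL N23259 (tt N26433 F65141) (tt N26433 F67972) (tt N26876 (iv2 F68098)) (tt N11444 F55316) (tt N26876 (iv4 F68099)) (tt N11443 (iv5 D34949)) (tt N45170 D76510) (tt N26876 (iv7 F68101)))
theorem Q23261 : ∀ i, i < 23261 → P i := stepQ 23260 Q23260 (allL N23260 (tt N30077 (iv1 F139432)) (tt N45171 D76512) (tt N32431 (iv2 F82828)) (tt N11445 F55317) (tt N23260 F55318) (tt N45172 D76513) (tt N11443 (iv6 D34950)) (tt N45173 D76514))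
theorem Q23262 : ∀ i, i < 23262 → P i := stepQ 23261 Q23261 (allL N23261 (tt N13273 (iv1 F205428)) (tt N45174 D76516) (tt N26875 (iv2 F68096)) (tt N45170 (iv3 F114673)) (tt N27298 (iv4 F70033)) (tt N45175 D76517) (tt N11444 (iv6 D34951)) (tt N45176 D76518))
theorem Q23263 : ∀ i, i < 23263 → P i := stepQ 23262 Q23262 (allL N23262 (tt N16559 F55319) (tt N16555 F55320) (tt N32613 (iv2 F83218)) (tt N45172 (iv3 F114676)) (tt N45177 D76519) (tt N11445 (iv5 D34952)) (tt N45175 (iv6 F114683)) (tt N36665 (iv7 F94983)))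
theorem Q23264 : ∀ i, i < 23264 → P i := stepQ 23263 Q23263 (allL N23263 (tt N16560 (iv1 F55323)) (tt N16557 F55324) (tt N32432 F82836) (tt N45173 (iv3 F114679)) (tt N11446 F55321) (tt N36665 (iv5 F94980)) (tt N18390 F55322) (tt N11445 (iv7 D34953)))
theorem Q23265 : ∀ i, i < 23265 → P i := stepQ 23264 Q23264 (allL N23264 (tt N45178 D76520) (tt N16384 (iv0 F76603)) (tt N45179 D76521) (tt N11447 (iv3 D34954)) (tt N23191 F55325) (tt N45180 D76522) (tt N26941 F83003) (tt N21497 F55326))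
theorem Q23266 : ∀ i, i < 23266 → P i := stepQ 23265 Q23265 (allL N23265 (tt N29829 (iv1 F77432)) (tt N29826 (iv0 F77425)) (tt N21496 F55327) (tt N45180 (iv3 F114697)) (tt N45181 D76523) (tt N11447 (iv5 D34955)) (tt N45182 D76524) (tt N21498 F55328))
theorem Q23267 : ∀ i, i < 23267 → P i := stepQ 23266 Q23266 (allL N23266 (tt N29826 (iv1 F77426)) (tt N29829 F77431) (tt N21498 F55329) (tt N44594 (iv3 F112651)) (tt N45183 D76525) (tt N11449 (iv5 D34956)) (tt N45184 D76526) (tt N21496 F55330))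
theorem Q23268 : ∀ i, i < 23268 → P i := stepQ 23267 Q23267 (allL N23267 (tt N21927 F55334) (tt N22075 F55335) (tt N21532 F55331) (tt N21915 F55332) (tt N32861 (iv4 F83670)) (tt N11450 (iv5 D34957)) (tt N45185 D76527) (tt N21529 F55333))
theorem Q23269 : ∀ i, i < 23269 → P i := stepQ 23268 Q23268 (allL N23268 (tt N21614 (iv1 F55340)) (tt N21588 F55341) (tt N21557 F55336) (tt N11453 F55337) (tt N21676 F55338) (tt N45186 D76528) (tt N11451 (iv6 D34958)) (tt N21565 F55339))
theorem Q23270 : ∀ i, i < 23270 → P i := stepQ 23269 Q23269 (allL N23269 (tt N22075 F55345) (tt N21927 F55346) (tt N21529 F55342) (tt N14929 F55343) (tt N22500 F310739) (tt N11452 (iv5 D34959)) (tt N22499 (iv6 F312981)) (tt N21532 F55344))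
theorem Q23271 : ∀ i, i < 23271 → P i := stepQ 23270 Q23270 (allL N23270 (tt N23327 F55601) (tt N14205 (iv0 F55351)) (tt N21530 F55347) (tt N23197 F55348) (tt N11453 F55349) (tt N26080 (iv5 F64147)) (tt N11452 (iv6 D34960)) (tt N21646 F55350))
theorem Q23272 : ∀ i, i < 23272 → P i := stepQ 23271 Q23271 (allL N23271 (tt N16996 F55356) (tt N21665 (iv0 F55357)) (tt N21531 F55354) (tt N45186 (iv3 F114719)) (tt N22256 F56749) (tt N11453 (iv5 D34961)) (tt N25486 (iv6 F61211)) (tt N21647 F55355))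
theorem Q23273 : ∀ i, i < 23273 → P i := stepQ 23272 Q23272 (allL N23272 (tt N11458 (iv1 F55369)) (tt N11454 (iv0 D34962)) (tt N11455 F55521) (tt N20954 F82784) (tt N36249 F94194) (tt N45187 D76530) (tt N21656 F93555) (tt N11456 F55522))
theorem Q23274 : ∀ i, i < 23274 → P i := stepQ 23273 Q23273 (allL N23273 (tt N11454 (iv1 D34963)) (tt N11458 F55358) (tt N11456 F55515) (tt N16806 (iv3 F55359)) (tt N36248 (iv4 F94186)) (tt N18447 F55361) (tt N18219 (iv6 F55360)) (tt N11455 F55516))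
theorem Q23275 : ∀ i, i < 23275 → P i := stepQ 23274 Q23274 (allL N23274 (tt N36302 F94332) (tt N29717 (iv0 F77071)) (tt N11457 F55362) (tt N21516 F55363) (tt N21194 F55364) (tt N11454 (iv5 D34964)) (tt N42823 (iv6 F107231)) (tt N36305 (iv7 F94344)))
theorem Q23276 : ∀ i, i < 23276 → P i := stepQ 23275 Q23275 (allL N23275 (tt N11456 (iv1 F55370)) (tt N11455 (iv0 F55371)) (tt N11458 F55365) (tt N21075 F55366) (tt N18386 F55367) (tt N36305 (iv5 F94340)) (tt N15237 F55368) (tt N11454 (iv7 D34965)))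
theorem Q23277 : ∀ i, i < 23277 → P i := stepQ 23276 Q23276 (allL N23276 (tt N29705 F77009) (tt N23840 (iv0 F56597)) (tt N36249 (iv2 F94195)) (tt N20930 F55373) (tt N11455 (iv4 D34967)) (tt N45188 D76531) (tt N45189 D76532) (tt N36248 F94191))
theorem Q23278 : ∀ i, i < 23278 → P i := stepQ 23277 Q23277 (allL N23277 (tt N41747 (iv1 F104852)) (tt N21081 (iv0 F79158)) (tt N45187 (iv2 F114727)) (tt N18440 F55374) (tt N45190 D76533) (tt N11455 (iv5 D34968)) (tt N45191 D76534) (tt N18447 F55520))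
theorem Q23279 : ∀ i, i < 23279 → P i := stepQ 23278 Q23278 (allL N23278 (tt N21649 (iv1 F79157)) (tt N20994 (iv0 F79156)) (tt N21656 (iv2 F93554)) (tt N20923 F55375) (tt N45189 (iv4 F114740)) (tt N44978 (iv5 F114263)) (tt N11455 (iv6 D34969)) (tt N21655 F55714))
theorem Q23280 : ∀ i, i < 23280 → P i := stepQ 23279 Q23279 (allL N23279 (tt N20955 (iv1 F55396)) (tt N16843 (iv0 F55392)) (tt N20920 F55378) (tt N11456 (iv3 D34971)) (tt N20899 F55379) (tt N45192 D76535) (tt N21571 F55491) (tt N20954 (iv7 F82785)))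
theorem Q23281 : ∀ i, i < 23281 → P i := stepQ 23280 Q23280 (allL N23280 (tt N23840 F56596) (tt N29705 F77010) (tt N36248 F94189) (tt N36242 F94164) (tt N11456 (iv4 D34972)) (tt N45193 D76536) (tt N23311 (iv6 F55549)) (tt N36249 (iv7 F94193)))
theorem Q23282 : ∀ i, i < 23282 → P i := stepQ 23281 Q23281 (allL N23281 (tt N21081 F55380) (tt N41747 (iv0 F104854)) (tt N18447 F55540) (tt N45192 (iv3 F114749)) (tt N29585 (iv4 F312200)) (tt N11456 (iv5 D34973)) (tt N29584 F309968) (tt N45187 (iv7 F114729)))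
theorem Q23283 : ∀ i, i < 23283 → P i := stepQ 23282 Q23282 (allL N23282 (tt N11457 (iv1 D34974)) (tt N36305 F94343) (tt N29717 (iv2 F77068)) (tt N32508 (iv3 F83040)) (tt N41769 (iv4 F104886)) (tt N29709 (iv5 F77037)) (tt N45194 D76539) (tt N36302 (iv7 F94330)))
theorem Q23284 : ∀ i, i < 23284 → P i := stepQ 23283 Q23283 (allL N23283 (tt N16901 F55384) (tt N21175 F55383) (tt N21194 F55381) (tt N45195 D76540) (tt N11457 (iv4 D34975)) (tt N42212 (iv5 F105599)) (tt N42832 (iv6 F107256)) (tt N21195 F55382))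
theorem Q23285 : ∀ i, i < 23285 → P i := stepQ 23284 Q23284 (allL N23284 (tt N45196 D76541) (tt N45197 D76542) (tt N45198 D76543) (tt N11459 (iv3 D34976)) (tt N45195 (iv4 F114766)) (tt N41591 (iv5 F104507)) (tt N42834 (iv6 F107259)) (tt N41686 (iv7 F104731)))
theorem Q23286 : ∀ i, i < 23286 → P i := stepQ 23285 Q23285 (allL N23285 (tt N45199 D76544) (tt N45200 D76545) (tt N21562 F55385) (tt N11468 F55386) (tt N21784 F55387) (tt N45201 D76546) (tt N11460 (iv6 D34977)) (tt N45202 D76547))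
theorem Q23287 : ∀ i, i < 23287 → P i := stepQ 23286 Q23286 (allL N23286 (tt N16844 (iv1 F55390)) (tt N11461 (iv0 D34978)) (tt N20949 (iv2 F55389)) (tt N20912 (iv3 F55393)) (tt N20949 F55388) (tt N41715 (iv5 F104808)) (tt N42675 (iv6 F106800)) (tt N20948 F55391))
theorem Q23288 : ∀ i, i < 23288 → P i := stepQ 23287 Q23287 (allL N23287 (tt N21305 F55400) (tt N21279 F55401) (tt N20957 F55397) (tt N11470 F55398) (tt N21109 F55402) (tt N11461 (iv5 D34979)) (tt N45201 (iv6 F114772)) (tt N20950 F55399))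
theorem Q23289 : ∀ i, i < 23289 → P i := stepQ 23288 Q23288 (allL N23288 (tt N17150 F55406) (tt N17174 F55407) (tt N17171 F55403) (tt N11465 F55404) (tt N32806 (iv4 F83581)) (tt N11464 (iv5 D34980)) (tt N45203 D76548) (tt N17170 F55405))
theorem Q23290 : ∀ i, i < 23290 → P i := stepQ 23289 Q23289 (allL N23289 (tt N11475 (iv1 F55409)) (tt N11465 (iv0 D34981)) (tt N21913 (iv2 F55410)) (tt N14840 (iv3 F55411)) (tt N43033 (iv4 F107988)) (tt N14839 F55408) (tt N45204 D76549) (tt N18530 (iv7 F55412)))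
theorem Q23291 : ∀ i, i < 23291 → P i := stepQ 23290 Q23290 (allL N23290 (tt N11465 (iv1 D34982)) (tt N11475 F55413) (tt N18530 (iv2 F55416)) (tt N14926 (iv3 F55417)) (tt N43032 (iv4 F107982)) (tt N14924 F55415) (tt N45205 D76550) (tt N21913 F55414))
theorem Q23292 : ∀ i, i < 23292 → P i := stepQ 23291 Q23291 (allL N23291 (tt N21937 F55421) (tt N17120 F55422) (tt N17711 F55418) (tt N45206 D76551) (tt N11465 (iv4 D34983)) (tt N17710 F55420) (tt N45207 D76552) (tt N21961 F55419))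
theorem Q23293 : ∀ i, i < 23293 → P i := stepQ 23292 Q23292 (allL N23292 (tt N45208 D76553) (tt N45209 D76554) (tt N34705 (iv2 F88615)) (tt N45203 (iv3 F114782)) (tt N45207 (iv4 F114794)) (tt N45210 D76555) (tt N11465 (iv6 D34984)) (tt N45211 D76556))
theorem Q23294 : ∀ i, i < 23294 → P i := stepQ 23293 Q23293 (allL N23293 (tt N45212 D76557) (tt N45213 D76558) (tt N34706 (iv2 F88617)) (tt N21247 F55423) (tt N45214 D76559) (tt N11466 (iv5 D34985)) (tt N45210 (iv6 F114796)) (tt N45215 D76560))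
theorem Q23295 : ∀ i, i < 23295 → P i := stepQ 23294 Q23294 (allL N23294 (tt N30526 (iv1 F78801)) (tt N32096 (iv0 F82324)) (tt N34707 (iv2 F88620)) (tt N18404 F55424) (tt N11471 F55425) (tt N45215 (iv5 F114807)) (tt N22784 F55426) (tt N11466 (iv7 D34986)))
theorem Q23296 : ∀ i, i < 23296 → P i := stepQ 23295 Q23295 (allL N23295 (tt N11477 (iv1 F55428)) (tt N11467 (iv0 D34987)) (tt N21975 (iv2 F55429)) (tt N32799 F303423) (tt N18492 F55427) (tt N34833 (iv5 F89974)) (tt N21698 (iv6 F303667)) (tt N18533 (iv7 F55430)))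
theorem Q23297 : ∀ i, i < 23297 → P i := stepQ 23296 Q23296 (allL N23296 (tt N11467 (iv1 D34988)) (tt N11477 F55431) (tt N18533 (iv2 F55434)) (tt N24217 F57782) (tt N18529 F55433) (tt N34834 (iv5 F89980)) (tt N36474 (iv6 F304887)) (tt N21975 F55432))
theorem Q23298 : ∀ i, i < 23298 → P i := stepQ 23297 Q23297 (allL N23297 (tt N39892 (iv1 F310287)) (tt N39891 (iv0 F310804)) (tt N21984 F55435) (tt N25441 (iv3 F61024)) (tt N11468 F55436) (tt N22685 (iv5 F310667)) (tt N11467 (iv6 D34989)) (tt N39889 (iv7 F309284)))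
theorem Q23299 : ∀ i, i < 23299 → P i := stepQ 23298 Q23298 (allL N23298 (tt N21987 (iv1 F55442)) (tt N11468 (iv0 D34990)) (tt N17415 (iv2 F232311)) (tt N22104 (iv3 F232312)) (tt N45216 D76570) (tt N45217 D76571) (tt N45218 D76572) (tt N21985 (iv7 F232464)))
theorem Q23300 : ∀ i, i < 23300 → P i := stepQ 23299 Q23299 (allL N23299 (tt N45219 D76578) (tt N23075 F232511) (tt N21986 F55438) (tt N45201 (iv3 F114771)) (tt N45220 D76580) (tt N11468 (iv5 D34992)) (tt N11470 F55439) (tt N45221 D76581))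
theorem Q23301 : ∀ i, i < 23301 → P i := stepQ 23300 Q23300 (allL N23300 (tt N21985 (iv1 F55443)) (tt N17415 F232398) (tt N21987 F55440) (tt N45202 (iv3 F114775)) (tt N39889 F311501) (tt N45221 (iv5 F114832)) (tt N21979 F55441) (tt N11468 (iv7 D34993)))
theorem Q23302 : ∀ i, i < 23302 → P i := stepQ 23301 Q23301 (allL N23301 (tt N11492 F85411) (tt N36663 F94969) (tt N22880 F55445) (tt N33487 (iv3 F84923)) (tt N45093 (iv4 F114519)) (tt N33984 F86410) (tt N11469 (iv6 D34994)) (tt N36664 (iv7 F94975)))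
theorem Q23303 : ∀ i, i < 23303 → P i := stepQ 23302 Q23302 (allL N23302 (tt N21191 (iv1 F55450)) (tt N11470 (iv0 D34995)) (tt N21205 (iv2 F55446)) (tt N16924 F55447) (tt N41665 (iv4 F104674)) (tt N16916 F55448) (tt N45222 D76582) (tt N16915 F55449))
theorem Q23304 : ∀ i, i < 23304 → P i := stepQ 23303 Q23303 (allL N23303 (tt N41345 (iv1 F103985)) (tt N41348 (iv0 F103993)) (tt N34708 (iv2 F88625)) (tt N40895 F324989) (tt N11470 (iv4 D34996)) (tt N40889 (iv5 F325986)) (tt N45220 (iv6 F114830)) (tt N45223 D76585))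
theorem Q23305 : ∀ i, i < 23305 → P i := stepQ 23304 Q23304 (allL N23304 (tt N16915 (iv1 F55454)) (tt N21205 F55455) (tt N21191 F55451) (tt N20950 F55452) (tt N45223 (iv4 F114840)) (tt N11471 F55453) (tt N45224 D76586) (tt N11470 (iv7 D34997)))
theorem Q23306 : ∀ i, i < 23306 → P i := stepQ 23305 Q23305 (allL N23305 (tt N14850 F55457) (tt N14840 F55458) (tt N22081 F55456) (tt N32614 (iv3 F83223)) (tt N45225 D76587) (tt N11472 (iv5 D34998)) (tt N45226 D76588) (tt N34704 (iv7 F88612)))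
theorem Q23307 : ∀ i, i < 23307 → P i := stepQ 23306 Q23306 (allL N23306 (tt N30069 (iv1 F78807)) (tt N30527 (iv0 F78806)) (tt N30523 (iv2 F78787)) (tt N32615 (iv3 F83225)) (tt N11474 F55459) (tt N45227 D76589) (tt N11472 (iv6 D34999)) (tt N30522 F78783))
theorem Q23308 : ∀ i, i < 23308 → P i := stepQ 23307 Q23307 (allL N23307 (tt N14852 F55461) (tt N14842 F55462) (tt N34709 (iv2 F88628)) (tt N22830 F302970) (tt N11473 (iv4 D35000)) (tt N45228 D76591) (tt N45229 D76592) (tt N21980 F55460))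
theorem Q23309 : ∀ i, i < 23309 → P i := stepQ 23308 Q23308 (allL N23308 (tt N22838 (iv1 F309376)) (tt N45230 D76594) (tt N34710 (iv2 F88633)) (tt N11478 F55463) (tt N45229 (iv4 F114865)) (tt N22015 F55464) (tt N11473 (iv6 D35001)) (tt N45231 D76595))
theorem Q23310 : ∀ i, i < 23310 → P i := stepQ 23309 Q23309 (allL N23309 (tt N17120 F55468) (tt N21937 F55469) (tt N21961 F55465) (tt N17677 F55470) (tt N11475 (iv4 D35002)) (tt N17676 F55467) (tt N45232 D76596) (tt N17711 F55466))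
theorem Q23311 : ∀ i, i < 23311 → P i := stepQ 23310 Q23310 (allL N23310 (tt N45233 D76597) (tt N45234 D76598) (tt N34702 (iv2 F88603)) (tt N32617 (iv3 F83231)) (tt N45232 (iv4 F114871)) (tt N45235 D76599) (tt N11475 (iv6 D35003)) (tt N45236 D76600))
theorem Q23312 : ∀ i, i < 23312 → P i := stepQ 23311 Q23311 (allL N23311 (tt N22784 (iv1 F55488)) (tt N11476 (iv0 D35004)) (tt N30524 (iv2 F78790)) (tt N30068 (iv3 F77968)) (tt N18214 (iv4 F55489)) (tt N45237 D76601) (tt N23280 F55549) (tt N30074 (iv7 F77969)))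
theorem Q23313 : ∀ i, i < 23313 → P i := stepQ 23312 Q23312 (allL N23312 (tt N11476 (iv1 D35005)) (tt N22784 F55484) (tt N30074 F77971) (tt N30527 (iv3 F78804)) (tt N15325 (iv4 F55485)) (tt N45238 D76602) (tt N42634 (iv6 F106657)) (tt N30524 (iv7 F78794)))
theorem Q23314 : ∀ i, i < 23314 → P i := stepQ 23313 Q23313 (allL N23313 (tt N38311 (iv1 F97921)) (tt N38308 (iv0 F97906)) (tt N34703 (iv2 F88605)) (tt N32618 (iv3 F83232)) (tt N45239 D76603) (tt N11476 (iv5 D35006)) (tt N45235 (iv6 F114872)) (tt N45240 D76604))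
theorem Q23315 : ∀ i, i < 23315 → P i := stepQ 23314 Q23314 (allL N23314 (tt N30074 (iv1 F77973)) (tt N30524 (iv0 F78792)) (tt N22784 F55486) (tt N30062 (iv3 F77934)) (tt N11481 F55487) (tt N45240 (iv5 F114874)) (tt N34707 (iv6 F88622)) (tt N11476 (iv7 D35007)))
theorem Q23316 : ∀ i, i < 23316 → P i := stepQ 23315 Q23315 (allL N23315 (tt N25439 (iv1 F61021)) (tt N25438 F61020) (tt N17698 F55551) (tt N25436 (iv3 F61009)) (tt N17710 F55552) (tt N11477 (iv5 D35009)) (tt N45241 D76607) (tt N21983 F55553))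
theorem Q23317 : ∀ i, i < 23317 → P i := stepQ 23316 Q23316 (allL N23316 (tt N45242 D76608) (tt N45243 D76609) (tt N21976 F55554) (tt N11699 F305049) (tt N11478 F55555) (tt N11698 (iv5 F306994)) (tt N11477 (iv6 D35010)) (tt N21730 (iv7 F305254)))
theorem Q23318 : ∀ i, i < 23318 → P i := stepQ 23317 Q23317 (allL N23317 (tt N11478 (iv1 D35012)) (tt N21979 F55556) (tt N17366 (iv2 F232565)) (tt N22110 (iv3 F232566)) (tt N45244 D76619) (tt N45245 D76620) (tt N45246 D76621) (tt N21977 (iv7 F232578)))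
theorem Q23319 : ∀ i, i < 23319 → P i := stepQ 23318 Q23318 (allL N23318 (tt N22842 (iv1 F232457)) (tt N44001 F232395) (tt N21978 F55557) (tt N22015 F55558) (tt N45247 D76624) (tt N11478 (iv5 D35013)) (tt N11480 F55559) (tt N44012 (iv7 F232432)))
theorem Q23320 : ∀ i, i < 23320 → P i := stepQ 23319 Q23319 (allL N23319 (tt N17366 (iv1 F232462)) (tt N21977 F55564) (tt N21979 F55560) (tt N45231 (iv3 F114866)) (tt N21730 (iv4 F305253)) (tt N44012 (iv5 F232431)) (tt N21987 F55561) (tt N11478 (iv7 D35014)))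
theorem Q23321 : ∀ i, i < 23321 → P i := stepQ 23320 Q23320 (allL N23320 (tt N22791 (iv1 F55568)) (tt N22790 F55570) (tt N15234 F55565) (tt N18968 F55566) (tt N38321 (iv4 F97960)) (tt N11479 (iv5 D35015)) (tt N45248 D76626) (tt N22787 F55567))
theorem Q23322 : ∀ i, i < 23322 → P i := stepQ 23321 Q23321 (allL N23321 (tt N18395 (iv1 F55574)) (tt N11489 (iv0 F55631)) (tt N15235 F55571) (tt N18969 F55572) (tt N26557 (iv4 F82996)) (tt N34029 (iv5 F86517)) (tt N11479 (iv6 D35016)) (tt N18394 F55573))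
theorem Q23323 : ∀ i, i < 23323 → P i := stepQ 23322 Q23322 (allL N23322 (tt N11480 (iv1 D35017)) (tt N22785 F55576) (tt N15231 F55579) (tt N17195 F55580) (tt N37627 (iv4 F96353)) (tt N15230 (iv5 F55578)) (tt N45249 D76627) (tt N17162 F55577))
theorem Q23324 : ∀ i, i < 23324 → P i := stepQ 23323 Q23323 (allL N23323 (tt N21805 F308063) (tt N21810 F308064) (tt N21808 F308065) (tt N42690 (iv3 F310077)) (tt N11480 (iv4 D35018)) (tt N45250 D76629) (tt N45247 (iv6 F114899)) (tt N21807 F308066))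
theorem Q23325 : ∀ i, i < 23325 → P i := stepQ 23324 Q23324 (allL N23324 (tt N15231 (iv1 F55586)) (tt N17162 F55587) (tt N22785 F55583) (tt N21947 F55584) (tt N21807 (iv4 F307953)) (tt N11481 F55585) (tt N45251 D76631) (tt N11480 (iv7 D35019)))
theorem Q23326 : ∀ i, i < 23326 → P i := stepQ 23325 Q23325 (allL N23325 (tt N16905 F55591) (tt N42659 F106729) (tt N11488 F55588) (tt N11491 F55589) (tt N34850 (iv4 F90053)) (tt N11482 (iv5 D35020)) (tt N16963 F320239) (tt N11491 F55590))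
theorem Q23327 : ∀ i, i < 23327 → P i := stepQ 23326 Q23326 (allL N23326 (tt N15235 (iv1 F55597)) (tt N18394 (iv0 F55596)) (tt N11489 F55593) (tt N11492 F55594) (tt N28472 (iv4 F73969)) (tt N17138 F55595) (tt N11482 (iv6 D35021)) (tt N18395 (iv7 F55633)))
theorem Q23328 : ∀ i, i < 23328 → P i := stepQ 23327 Q23327 (allL N23327 (tt N23372 F55700) (tt N23270 (iv0 F55601)) (tt N11490 F55598) (tt N21615 F55599) (tt N11483 (iv4 D35022)) (tt N26870 (iv5 F68076)) (tt N45252 D76633) (tt N11487 F55600))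
theorem Q23329 : ∀ i, i < 23329 → P i := stepQ 23328 Q23328 (allL N23328 (tt N42659 F106730) (tt N16905 F55605) (tt N11491 F55602) (tt N21617 F55603) (tt N28497 (iv4 F74081)) (tt N11483 (iv5 D35023)) (tt N45253 D76634) (tt N11488 F55604))
theorem Q23330 : ∀ i, i < 23330 → P i := stepQ 23329 Q23329 (allL N23329 (tt N36664 (iv1 F94976)) (tt N22880 (iv0 F55609)) (tt N11492 F55606) (tt N20978 F55607) (tt N45252 (iv4 F114924)) (tt N22531 (iv5 F55608)) (tt N11483 (iv6 D35024)) (tt N36663 (iv7 F94970)))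
theorem Q23331 : ∀ i, i < 23331 → P i := stepQ 23330 Q23330 (allL N23330 (tt N11496 (iv1 F55612)) (tt N11484 (iv0 D35025)) (tt N11493 (iv2 F55610)) (tt N11494 F78736) (tt N34865 (iv4 F90070)) (tt N30509 (iv5 F78734)) (tt N45254 D76635) (tt N11494 F55611))
theorem Q23332 : ∀ i, i < 23332 → P i := stepQ 23331 Q23331 (allL N23331 (tt N21666 F55614) (tt N45255 D76636) (tt N11495 F55613) (tt N35126 (iv3 F90883)) (tt N11484 (iv4 D35026)) (tt N28493 (iv5 F74068)) (tt N43904 (iv6 F110110)) (tt N45256 D76637))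
theorem Q23333 : ∀ i, i < 23333 → P i := stepQ 23332 Q23332 (allL N23332 (tt N11494 (iv1 F55618)) (tt N11493 F55619) (tt N11496 F55615) (tt N17355 F55616) (tt N45256 (iv4 F114940)) (tt N11485 F55617) (tt N34174 (iv6 F86857)) (tt N11484 (iv7 D35027)))
theorem Q23334 : ∀ i, i < 23334 → P i := stepQ 23333 Q23333 (allL N23333 (tt N21310 F55624) (tt N21310 F55623) (tt N21617 F55620) (tt N11488 F55621) (tt N27685 (iv4 F70964)) (tt N11486 (iv5 D35028)) (tt N20731 F320241) (tt N21617 F55622))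
theorem Q23335 : ∀ i, i < 23335 → P i := stepQ 23334 Q23334 (allL N23334 (tt N22809 F55628) (tt N42675 (iv0 F106802)) (tt N20978 F55625) (tt N11489 F55626) (tt N20962 F55627) (tt N22244 F55629) (tt N11486 (iv6 D35029)) (tt N20981 (iv7 F55630)))
theorem Q23336 : ∀ i, i < 23336 → P i := stepQ 23335 Q23335 (allL N23335 (tt N42634 F106659) (tt N42635 (iv0 F106661)) (tt N28472 (iv2 F73967)) (tt N32603 (iv3 F83198)) (tt N11489 F55634) (tt N45257 D76639) (tt N11487 (iv6 D35030)) (tt N45258 D76640))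
theorem Q23337 : ∀ i, i < 23337 → P i := stepQ 23336 Q23336 (allL N23336 (tt N11491 (iv1 F55637)) (tt N11488 (iv0 D35031)) (tt N16905 (iv2 F55636)) (tt N21241 F55639) (tt N45259 D76641) (tt N16894 F55635) (tt N45260 D76642) (tt N42659 (iv7 F106726)))
theorem Q23338 : ∀ i, i < 23338 → P i := stepQ 23337 Q23337 (allL N23337 (tt N42628 (iv1 F106642)) (tt N22330 (iv0 F55716)) (tt N34850 (iv2 F90051)) (tt N45261 D76643) (tt N11488 (iv4 D35032)) (tt N28200 (iv5 F73273)) (tt N20732 F320242) (tt N28497 (iv7 F74080)))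
theorem Q23339 : ∀ i, i < 23339 → P i := stepQ 23338 Q23338 (allL N23338 (tt N17115 F55642) (tt N17140 (iv0 F55643)) (tt N17138 F55640) (tt N22244 F55641) (tt N45262 D76649) (tt N11489 (iv5 D35034)) (tt N20375 (iv6 F316927)) (tt N17137 F86467))
theorem Q23340 : ∀ i, i < 23340 → P i := stepQ 23339 Q23339 (allL N23339 (tt N18394 (iv1 F55646)) (tt N15235 F55647) (tt N18395 F55644) (tt N20981 F55645) (tt N45258 (iv4 F114956)) (tt N17137 (iv5 F86468)) (tt N36663 (iv6 F94966)) (tt N11489 (iv7 D35035)))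
theorem Q23341 : ∀ i, i < 23341 → P i := stepQ 23340 Q23340 (allL N23340 (tt N30534 F78826) (tt N41337 (iv0 F103963)) (tt N45252 (iv2 F114922)) (tt N26791 (iv3 F67739)) (tt N11492 F55648) (tt N45263 D76650) (tt N11490 (iv6 D35036)) (tt N45264 D76651))
theorem Q23342 : ∀ i, i < 23342 → P i := stepQ 23341 Q23341 (allL N23341 (tt N22330 F55650) (tt N42628 (iv0 F106641)) (tt N28497 (iv2 F74079)) (tt N17714 F55649) (tt N11491 (iv4 D35037)) (tt N28487 (iv5 F74050)) (tt N45265 D76652) (tt N34850 (iv7 F90054)))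
theorem Q23343 : ∀ i, i < 23343 → P i := stepQ 23342 Q23342 (allL N23342 (tt N42677 (iv1 F235333)) (tt N45266 D76654) (tt N45253 (iv2 F114927)) (tt N16963 F320237) (tt N45265 (iv4 F114980)) (tt N45267 D76655) (tt N11491 (iv6 D35038)) (tt N20733 F320238))
theorem Q23344 : ∀ i, i < 23344 → P i := stepQ 23343 Q23343 (allL N23343 (tt N17315 F55653) (tt N21924 (iv0 F55654)) (tt N22531 F55651) (tt N17138 F55652) (tt N45268 D76657) (tt N11492 (iv5 D35040)) (tt N45267 (iv6 F114983)) (tt N22532 (iv7 F55655)))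
theorem Q23345 : ∀ i, i < 23345 → P i := stepQ 23344 Q23344 (allL N23344 (tt N22880 (iv1 F55659)) (tt N36664 F94977) (tt N36663 F94968) (tt N18395 F55656) (tt N45264 (iv4 F114977)) (tt N22532 F55657) (tt N18395 F55658) (tt N11492 (iv7 D35041)))
theorem Q23346 : ∀ i, i < 23346 → P i := stepQ 23345 Q23345 (allL N23345 (tt N42668 (iv1 F106781)) (tt N42668 (iv0 F106779)) (tt N42001 (iv2 F105243)) (tt N11493 (iv3 D35042)) (tt N27366 (iv4 F70135)) (tt N19072 F55660) (tt N45269 D76658) (tt N42001 (iv7 F105245)))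
theorem Q23347 : ∀ i, i < 23347 → P i := stepQ 23346 Q23346 (allL N23346 (tt N42449 (iv1 F106197)) (tt N42625 (iv0 F106629)) (tt N34865 (iv2 F90074)) (tt N45270 D76659) (tt N11493 (iv4 D35043)) (tt N14052 F55661) (tt N45271 D76660) (tt N43110 (iv7 F108139)))
theorem Q23348 : ∀ i, i < 23348 → P i := stepQ 23347 Q23347 (allL N23347 (tt N40932 F314021) (tt N45272 D76662) (tt N45254 (iv2 F114930)) (tt N45269 (iv3 F114988)) (tt N45271 (iv4 F114991)) (tt N45273 D76663) (tt N11493 (iv6 D35044)) (tt N45274 D76664))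
theorem Q23349 : ∀ i, i < 23349 → P i := stepQ 23348 Q23348 (allL N23348 (tt N42625 (iv1 F106630)) (tt N42449 (iv0 F106196)) (tt N43110 (iv2 F108137)) (tt N34484 F87657) (tt N11494 (iv4 D35046)) (tt N34837 (iv5 F89996)) (tt N45275 D76665) (tt N34865 (iv7 F90072)))
theorem Q23350 : ∀ i, i < 23350 → P i := stepQ 23349 Q23349 (allL N23349 (tt N44015 F317624) (tt N45276 D76667) (tt N43108 (iv2 F108135)) (tt N45254 (iv3 F114931)) (tt N45275 (iv4 F114995)) (tt N43010 (iv5 F107929)) (tt N11494 (iv6 D35047)) (tt N45277 D76668))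
theorem Q23351 : ∀ i, i < 23351 → P i := stepQ 23350 Q23350 (allL N23350 (tt N45256 (iv1 F114943)) (tt N11495 (iv0 D35048)) (tt N21666 (iv2 F55664)) (tt N42965 (iv3 F107815)) (tt N21665 F55665) (tt N45278 D76669) (tt N45279 D76670) (tt N45255 (iv7 F114934)))
theorem Q23352 : ∀ i, i < 23352 → P i := stepQ 23351 Q23351 (allL N23351 (tt N11495 (iv1 D35049)) (tt N45256 F114942) (tt N45255 F114938) (tt N45280 D76671) (tt N16996 F55662) (tt N45281 D76672) (tt N45282 D76673) (tt N21666 (iv7 F55663)))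
theorem Q23353 : ∀ i, i < 23353 → P i := stepQ 23352 Q23352 (allL N23352 (tt N45283 D76674) (tt N45284 D76675) (tt N45285 D76676) (tt N11495 (iv3 D35050)) (tt N11502 F55666) (tt N28652 F305555) (tt N41825 (iv6 F312493)) (tt N45286 D76678))
theorem Q23354 : ∀ i, i < 23354 → P i := stepQ 23353 Q23353 (allL N23353 (tt N45287 D76679) (tt N45288 D76680) (tt N28493 (iv2 F74066)) (tt N28652 (iv3 F303366)) (tt N14047 F55667) (tt N11495 (iv5 D35051)) (tt N28651 F301661) (tt N28495 (iv7 F74072)))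
theorem Q23355 : ∀ i, i < 23355 → P i := stepQ 23354 Q23354 (allL N23354 (tt N45255 (iv1 F114933)) (tt N21666 (iv0 F55669)) (tt N45256 (iv2 F114939)) (tt N45286 (iv3 F115026)) (tt N11496 F55668) (tt N28495 (iv5 F74071)) (tt N45289 D76682) (tt N11495 (iv7 D35052)))
theorem Q23356 : ∀ i, i < 23356 → P i := stepQ 23355 Q23355 (allL N23355 (tt N45290 D76683) (tt N40953 F316939) (tt N34174 (iv2 F86855)) (tt N11505 F55670) (tt N45289 (iv4 F115040)) (tt N34171 (iv5 F86854)) (tt N11496 (iv6 D35053)) (tt N43932 (iv7 F110181)))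
theorem Q23357 : ∀ i, i < 23357 → P i := stepQ 23356 Q23356 (allL N23356 (tt N36574 F108875) (tt N45291 D76685) (tt N34587 (iv2 F87989)) (tt N42650 (iv3 F106709)) (tt N11497 (iv4 D35054)) (tt N36560 (iv5 F114724)) (tt N45292 D76686) (tt N34585 (iv7 F87986)))
theorem Q23358 : ∀ i, i < 23358 → P i := stepQ 23357 Q23357 (allL N23357 (tt N40805 F322307) (tt N44016 F317636) (tt N34588 (iv2 F87990)) (tt N11498 F55671) (tt N45292 (iv4 F115043)) (tt N33952 (iv5 F86272)) (tt N11497 (iv6 D35055)) (tt N45293 D76689))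
theorem Q23359 : ∀ i, i < 23359 → P i := stepQ 23358 Q23358 (allL N23358 (tt N11498 (iv1 D35057)) (tt N34595 F88005) (tt N34594 (iv2 F200140)) (tt N45272 (iv3 F252508)) (tt N20911 (iv4 F311588)) (tt N21848 F309343) (tt N40832 (iv6 F311589)) (tt N20380 F309347))
theorem Q23360 : ∀ i, i < 23360 → P i := stepQ 23359 Q23359 (allL N23359 (tt N34594 (iv1 F88001)) (tt N20380 F311582) (tt N34595 (iv2 F88002)) (tt N45293 (iv3 F115044)) (tt N20927 F311583) (tt N38277 (iv5 F97828)) (tt N29819 (iv6 F313950)) (tt N11498 (iv7 D35058)))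
theorem Q23361 : ∀ i, i < 23361 → P i := stepQ 23360 Q23360 (allL N23360 (tt N42619 (iv1 F106547)) (tt N42419 (iv0 F106163)) (tt N42024 (iv2 F105275)) (tt N16499 F55672) (tt N11499 (iv4 D35059)) (tt N21474 F55674) (tt N45294 D76698) (tt N16502 F55673))
theorem Q23362 : ∀ i, i < 23362 → P i := stepQ 23361 Q23361 (allL N23361 (tt N24329 F310841) (tt N24321 F310842) (tt N42025 (iv2 F105281)) (tt N11500 F55675) (tt N45294 (iv4 F115048)) (tt N19440 F55676) (tt N11499 (iv6 D35060)) (tt N36646 (iv7 F316003)))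
theorem Q23363 : ∀ i, i < 23363 → P i := stepQ 23362 Q23362 (allL N23362 (tt N45295 D76707) (tt N45296 D76708) (tt N45297 D76709) (tt N11501 (iv3 D35064)) (tt N45280 (iv4 F115005)) (tt N21706 F55678) (tt N41824 (iv6 F308203)) (tt N21668 F55679))
theorem Q23364 : ∀ i, i < 23364 → P i := stepQ 23363 Q23363 (allL N23363 (tt N45298 D76720) (tt N11502 (iv0 D35068)) (tt N45299 D76721) (tt N45300 D76722) (tt N34881 (iv4 F120319)) (tt N45301 D76724) (tt N45302 D76725) (tt N34248 F310166))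
theorem Q23365 : ∀ i, i < 23365 → P i := stepQ 23364 Q23364 (allL N23364 (tt N11502 (iv1 D35069)) (tt N45298 F115097) (tt N34248 (iv2 F308210)) (tt N45303 D76727) (tt N34882 (iv4 F107826)) (tt N45304 D76728) (tt N34165 (iv6 F308212)) (tt N45299 F115098))
theorem Q23366 : ∀ i, i < 23366 → P i := stepQ 23365 Q23365 (allL N23365 (tt N45299 (iv1 F151577)) (tt N34248 (iv0 F308209)) (tt N11502 (iv2 D35070)) (tt N34597 (iv3 F88018)) (tt N45285 (iv4 F115024)) (tt N45305 D76732) (tt N33680 (iv6 F308666)) (tt N45298 (iv7 F115096)))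
theorem Q23367 : ∀ i, i < 23367 → P i := stepQ 23366 Q23366 (allL N23366 (tt N34411 (iv1 F307651)) (tt N45306 D76734) (tt N45305 (iv2 F115106)) (tt N11503 F55688) (tt N12424 (iv4 F55689)) (tt N11502 (iv5 D35071)) (tt N45307 D76735) (tt N11802 (iv7 F55690)))
theorem Q23368 : ∀ i, i < 23368 → P i := stepQ 23367 Q23367 (allL N23367 (tt N34248 F309660) (tt N45299 (iv0 F151576)) (tt N45298 F115094) (tt N11504 F55691) (tt N45286 (iv4 F115027)) (tt N11802 F55692) (tt N45308 D76736) (tt N11502 (iv7 D35072)))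
theorem Q23369 : ∀ i, i < 23369 → P i := stepQ 23368 Q23368 (allL N23368 (tt N45309 D76737) (tt N45310 D76738) (tt N34599 (iv2 F88026)) (tt N45307 (iv3 F115115)) (tt N11803 F55693) (tt N41828 (iv5 F310198)) (tt N11503 (iv6 D35073)) (tt N43999 (iv7 F110452)))
theorem Q23370 : ∀ i, i < 23370 → P i := stepQ 23369 Q23369 (allL N23369 (tt N41816 (iv1 F312708)) (tt N40837 F318133) (tt N34600 (iv2 F88028)) (tt N45308 (iv3 F115117)) (tt N11505 F55694) (tt N43998 (iv5 F110450)) (tt N11504 (iv6 D35074)) (tt N33622 (iv7 F311048)))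
theorem Q23371 : ∀ i, i < 23371 → P i := stepQ 23370 Q23370 (allL N23370 (tt N34299 (iv1 F87148)) (tt N11505 (iv0 D35075)) (tt N34601 (iv2 F185071)) (tt N34290 (iv3 F185065)) (tt N41662 (iv4 F311437)) (tt N22746 (iv5 F311245)) (tt N40829 (iv6 F313405)) (tt N34602 (iv7 F185068)))
theorem Q23372 : ∀ i, i < 23372 → P i := stepQ 23371 Q23371 (allL N23371 (tt N11505 (iv1 D35076)) (tt N34299 F87147) (tt N34602 (iv2 F185067)) (tt N43643 (iv3 F191136)) (tt N41674 (iv4 F311439)) (tt N22745 F309252) (tt N40838 F318143) (tt N34601 (iv7 F185072)))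
theorem Q23373 : ∀ i, i < 23373 → P i := stepQ 23372 Q23372 (allL N23372 (tt N14205 F55699) (tt N23327 (iv0 F55700)) (tt N21646 F55695) (tt N21530 F55696) (tt N11508 (iv4 D35077)) (tt N26081 (iv5 F64151)) (tt N17530 F55697) (tt N21530 F55698))
theorem Q23374 : ∀ i, i < 23374 → P i := stepQ 23373 Q23373 (allL N23373 (tt N21665 F55704) (tt N16996 (iv0 F55705)) (tt N21647 F55701) (tt N21513 F55702) (tt N45311 D76751) (tt N11508 (iv5 D35078)) (tt N45312 D76752) (tt N21531 F55703))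
theorem Q23375 : ∀ i, i < 23375 → P i := stepQ 23374 Q23374 (allL N23374 (tt N21652 (iv1 F55709)) (tt N21651 F55717) (tt N11510 F55706) (tt N21641 F55707) (tt N45313 D76753) (tt N11509 (iv5 D35079)) (tt N20408 (iv6 F316025)) (tt N21648 F55708))
theorem Q23376 : ∀ i, i < 23376 → P i := stepQ 23375 Q23375 (allL N23375 (tt N15247 (iv1 F77105)) (tt N20931 (iv0 F77017)) (tt N11511 F55720) (tt N20991 F55721) (tt N45106 (iv4 F114553)) (tt N20409 (iv5 F320398)) (tt N11509 (iv6 D35080)) (tt N20992 (iv7 F55722)))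
theorem Q23377 : ∀ i, i < 23377 → P i := stepQ 23376 Q23376 (allL N23376 (tt N21648 (iv1 F55726)) (tt N11510 (iv0 D35081)) (tt N21652 (iv2 F55727)) (tt N21643 (iv3 F55728)) (tt N43693 (iv4 F109465)) (tt N19473 F55725) (tt N45314 D76755) (tt N21651 (iv7 F55729)))
theorem Q23378 : ∀ i, i < 23378 → P i := stepQ 23377 Q23377 (allL N23377 (tt N11510 (iv1 D35082)) (tt N21648 F55730) (tt N21651 (iv2 F55733)) (tt N45315 D76756) (tt N35356 (iv4 F92151)) (tt N19474 F55732) (tt N45316 D76757) (tt N21652 F55731))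
theorem Q23379 : ∀ i, i < 23379 → P i := stepQ 23378 Q23378 (allL N23378 (tt N42665 (iv1 F106750)) (tt N45259 (iv0 F114960)) (tt N45313 (iv2 F115132)) (tt N21417 F311638) (tt N11510 (iv4 D35083)) (tt N45288 (iv5 F115035)) (tt N20412 (iv6 F314110)) (tt N21653 F55734))
theorem Q23380 : ∀ i, i < 23380 → P i := stepQ 23379 Q23379 (allL N23379 (tt N20992 (iv1 F55736)) (tt N11511 (iv0 D35085)) (tt N15247 (iv2 F77102)) (tt N30677 (iv3 F79142)) (tt N45317 D76762) (tt N21883 (iv5 F77108)) (tt N15243 F77107) (tt N20931 (iv7 F77103)))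
theorem Q23381 : ∀ i, i < 23381 → P i := stepQ 23380 Q23380 (allL N23380 (tt N11511 (iv1 D35086)) (tt N20992 F55737) (tt N20931 F77099) (tt N45318 D76763) (tt N45319 D76764) (tt N21884 F77101) (tt N16110 (iv6 F77098)) (tt N15247 F77100))
theorem Q23382 : ∀ i, i < 23382 → P i := stepQ 23381 Q23381 (allL N23381 (tt N16998 F55751) (tt N21659 F55752) (tt N21640 F55748) (tt N21531 F55749) (tt N32793 (iv4 F83546)) (tt N11512 (iv5 D35092)) (tt N45320 D76780) (tt N21513 F55750))
theorem Q23383 : ∀ i, i < 23383 → P i := stepQ 23382 Q23382 (allL N23382 (tt N21643 F55757) (tt N21642 F55758) (tt N11514 F55753) (tt N21648 F55754) (tt N23198 F55756) (tt N11513 (iv5 D35093)) (tt N45321 D76781) (tt N21641 F55755))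
theorem Q23384 : ∀ i, i < 23384 → P i := stepQ 23383 Q23383 (allL N23383 (tt N30677 F79144) (tt N21523 F79146) (tt N11515 F55759) (tt N21649 F55760) (tt N21687 F55761) (tt N36480 (iv5 F94687)) (tt N11513 (iv6 D35094)) (tt N44135 (iv7 F110880)))
theorem Q23385 : ∀ i, i < 23385 → P i := stepQ 23384 Q23384 (allL N23384 (tt N21641 (iv1 F55763)) (tt N11514 (iv0 D35095)) (tt N21643 (iv2 F55762)) (tt N45322 D76782) (tt N32752 (iv4 F83476)) (tt N23900 (iv5 F56711)) (tt N45323 D76783) (tt N21642 F55764))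
theorem Q23386 : ∀ i, i < 23386 → P i := stepQ 23385 Q23385 (allL N23385 (tt N45324 D76784) (tt N45325 D76785) (tt N45321 (iv2 F115231)) (tt N11517 F55765) (tt N29898 (iv4 F77572)) (tt N41222 (iv5 F321030)) (tt N11514 (iv6 D35096)) (tt N20494 (iv7 F316030)))
theorem Q23387 : ∀ i, i < 23387 → P i := stepQ 23386 Q23386 (allL N23386 (tt N44135 (iv1 F110881)) (tt N11515 (iv0 D35097)) (tt N30677 (iv2 F79141)) (tt N45326 D76787) (tt N20990 (iv4 F55767)) (tt N18605 (iv5 F55769)) (tt N18217 F55766) (tt N21523 (iv7 F55768)))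
theorem Q23388 : ∀ i, i < 23388 → P i := stepQ 23387 Q23387 (allL N23387 (tt N11515 (iv1 D35098)) (tt N44135 F110882) (tt N21523 F79151) (tt N20931 F79153) (tt N20923 F79154) (tt N18606 F79155) (tt N20922 (iv6 F79152)) (tt N30677 F79150))
theorem Q23389 : ∀ i, i < 23389 → P i := stepQ 23388 Q23388 (allL N23388 (tt N21538 F55773) (tt N45071 (iv0 F114473)) (tt N29755 (iv2 F77195)) (tt N11516 (iv3 D35099)) (tt N23142 F55770) (tt N21711 F55771) (tt N21406 (iv6 F312360)) (tt N16960 F310072))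
theorem Q23390 : ∀ i, i < 23390 → P i := stepQ 23389 Q23389 (allL N23389 (tt N17604 F297072) (tt N17564 (iv0 F120796)) (tt N17374 F55782) (tt N12643 F297073) (tt N17685 F55784) (tt N35220 (iv5 F91640)) (tt N11518 (iv6 D35104)) (tt N23546 F297074))
theorem Q23391 : ∀ i, i < 23391 → P i := stepQ 23390 Q23390 (allL N23390 (tt N11599 F55787) (tt N17567 (iv0 F55788)) (tt N23119 (iv2 F296302)) (tt N11522 F55785) (tt N18954 F318102) (tt N11519 (iv5 D35105)) (tt N11541 (iv6 F296934)) (tt N17830 F55786))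
theorem Q23392 : ∀ i, i < 23392 → P i := stepQ 23391 Q23391 (allL N23391 (tt N23541 (iv1 F121216)) (tt N23605 (iv0 F121217)) (tt N17370 F55789) (tt N12561 F55790) (tt N17682 F55791) (tt N45327 D76803) (tt N11520 (iv6 D35106)) (tt N23604 F121164))
theorem Q23393 : ∀ i, i < 23393 → P i := stepQ 23392 Q23392 (allL N23392 (tt N17546 F55795) (tt N17644 F55794) (tt N17372 F55792) (tt N11892 F55793) (tt N23417 (iv4 F55843)) (tt N11521 (iv5 D35107)) (tt N45327 (iv6 F115292)) (tt N16026 F326401))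
theorem Q23394 : ∀ i, i < 23394 → P i := stepQ 23393 Q23393 (allL N23393 (tt N45328 D76805) (tt N23619 (iv0 F56251)) (tt N17373 F55796) (tt N45329 D76806) (tt N11522 (iv4 D35108)) (tt N45330 D76807) (tt N34897 (iv6 F90284)) (tt N17831 F55797))
theorem Q23395 : ∀ i, i < 23395 → P i := stepQ 23394 Q23394 (allL N23394 (tt N45331 D76808) (tt N45332 D76809) (tt N22200 F55798) (tt N11523 (iv3 D35109)) (tt N22926 F55799) (tt N34512 (iv5 F87752)) (tt N45333 D76810) (tt N17377 F55800))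
theorem Q23396 : ∀ i, i < 23396 → P i := stepQ 23395 Q23395 (allL N23395 (tt N45334 D76811) (tt N45335 D76812) (tt N11527 F55801) (tt N45333 (iv3 F115319)) (tt N11524 F55802) (tt N45336 D76813) (tt N11523 (iv6 D35110)) (tt N45337 D76814))
theorem Q23397 : ∀ i, i < 23397 → P i := stepQ 23396 Q23396 (allL N23396 (tt N11524 (iv1 D35112)) (tt N11531 F55805) (tt N11529 F115410) (tt N24274 (iv3 F117083)) (tt N45338 D76821) (tt N45339 D76822) (tt N24337 (iv6 F121208)) (tt N11528 (iv7 F115419)))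
theorem Q23398 : ∀ i, i < 23398 → P i := stepQ 23397 Q23397 (allL N23397 (tt N11529 (iv1 F55812)) (tt N11528 F55813) (tt N11531 F55809) (tt N22931 F55810) (tt N45337 (iv4 F115328)) (tt N25026 F297560) (tt N17382 F55811) (tt N11524 (iv7 D35114)))
theorem Q23399 : ∀ i, i < 23399 → P i := stepQ 23398 Q23398 (allL N23398 (tt N17834 (iv1 F55817)) (tt N17833 F55816) (tt N11535 F55814) (tt N45340 D76827) (tt N11525 (iv4 D35115)) (tt N35242 (iv5 F91672)) (tt N35267 (iv6 F299357)) (tt N17639 F55815))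
theorem Q23400 : ∀ i, i < 23400 → P i := stepQ 23399 Q23399 (allL N23399 (tt N45341 D76828) (tt N45342 D76829) (tt N34513 (iv2 F87754)) (tt N22854 F55818) (tt N34474 (iv4 F87628)) (tt N45343 D76830) (tt N11526 (iv6 D35116)) (tt N45344 D76831))
theorem Q23401 : ∀ i, i < 23401 → P i := stepQ 23400 Q23400 (allL N23400 (tt N45337 (iv1 F115331)) (tt N11527 (iv0 D35117)) (tt N45334 (iv2 F115870)) (tt N43315 F311975) (tt N24090 (iv4 F115332)) (tt N45345 D76834) (tt N24393 (iv6 F298795)) (tt N45335 (iv7 F115911)))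
theorem Q23402 : ∀ i, i < 23402 → P i := stepQ 23401 Q23401 (allL N23401 (tt N11527 (iv1 D35118)) (tt N45337 F115330) (tt N45335 (iv2 F115910)) (tt N45346 D76837) (tt N24091 (iv4 F115874)) (tt N45347 D76839) (tt N45348 D76840) (tt N45334 (iv7 F115871)))
theorem Q23403 : ∀ i, i < 23403 → P i := stepQ 23402 Q23402 (allL N23402 (tt N45349 D76841) (tt N45350 D76842) (tt N45336 (iv2 F115326)) (tt N22857 F55819) (tt N45351 D76843) (tt N11527 (iv5 D35119)) (tt N45343 (iv6 F115367)) (tt N45352 D76844))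
theorem Q23404 : ∀ i, i < 23404 → P i := stepQ 23403 Q23403 (allL N23403 (tt N45335 (iv1 F115325)) (tt N45334 (iv0 F115322)) (tt N45337 (iv2 F115327)) (tt N22858 F55820) (tt N11531 F55821) (tt N45352 (iv5 F115375)) (tt N17404 F55822) (tt N11527 (iv7 D35120)))
theorem Q23405 : ∀ i, i < 23405 → P i := stepQ 23404 Q23404 (allL N23404 (tt N24275 (iv1 F116829)) (tt N13855 F297586) (tt N17434 (iv2 F297842)) (tt N11528 (iv3 D35122)) (tt N45353 D76854) (tt N24954 (iv5 F297675)) (tt N13845 F297587) (tt N24274 (iv7 F117085)))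
theorem Q23406 : ∀ i, i < 23406 → P i := stepQ 23405 Q23405 (allL N23405 (tt N45354 D76858) (tt N17653 F115381) (tt N23102 (iv2 F300541)) (tt N45355 D76859) (tt N11528 (iv4 D35123)) (tt N45356 D76860) (tt N23098 F299037) (tt N45338 (iv7 F115417)))
theorem Q23407 : ∀ i, i < 23407 → P i := stepQ 23406 Q23406 (allL N23406 (tt N17852 F299838) (tt N17849 (iv0 F301575)) (tt N23103 (iv2 F301552)) (tt N24954 F299839) (tt N45357 D76865) (tt N11528 (iv5 D35124)) (tt N24383 (iv6 F301253)) (tt N45339 F115462))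
theorem Q23408 : ∀ i, i < 23408 → P i := stepQ 23407 Q23407 (allL N23407 (tt N17653 F112810) (tt N45354 F115397) (tt N45338 (iv2 F115416)) (tt N39209 F322831) (tt N11529 (iv4 D35128)) (tt N39200 (iv5 F324298)) (tt N45358 D76874) (tt N23102 (iv7 F300542)))
theorem Q23409 : ∀ i, i < 23409 → P i := stepQ 23408 Q23408 (allL N23408 (tt N17849 (iv1 F301576)) (tt N17852 F299723) (tt N45339 F115461) (tt N17859 F299724) (tt N45359 D76875) (tt N11529 (iv5 D35129)) (tt N23827 F299725) (tt N23103 (iv7 F301553)))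
theorem Q23410 : ∀ i, i < 23410 → P i := stepQ 23409 Q23409 (allL N23409 (tt N24338 (iv1 F121128)) (tt N17631 F301411) (tt N24337 (iv2 F121206)) (tt N17432 F301412) (tt N45358 (iv4 F115482)) (tt N17990 F301413) (tt N11529 (iv6 D35130)) (tt N17425 F301414))
theorem Q23411 : ∀ i, i < 23411 → P i := stepQ 23410 Q23410 (allL N23410 (tt N45360 D76887) (tt N45361 D76888) (tt N35267 (iv2 F299356)) (tt N45362 D76889) (tt N11530 (iv4 D35133)) (tt N45363 D76890) (tt N11535 F55826) (tt N35266 (iv7 F299355)))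
theorem Q23412 : ∀ i, i < 23412 → P i := stepQ 23411 Q23411 (allL N23411 (tt N34456 (iv1 F87593)) (tt N11661 F55833) (tt N17827 F55830) (tt N13796 F55831) (tt N34672 (iv4 F88527)) (tt N11532 (iv5 D35135)) (tt N31062 F325566) (tt N17825 F55832))
theorem Q23413 : ∀ i, i < 23413 → P i := stepQ 23412 Q23412 (allL N23412 (tt N34466 (iv1 F87615)) (tt N34465 F87613) (tt N17828 F55834) (tt N45364 D76893) (tt N11533 (iv4 D35136)) (tt N45365 D76894) (tt N45366 D76895) (tt N17826 F55835))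
theorem Q23414 : ∀ i, i < 23414 → P i := stepQ 23413 Q23413 (allL N23413 (tt N31104 (iv1 F324422)) (tt N25029 (iv0 F297627)) (tt N17829 F55836) (tt N25912 (iv3 F63591)) (tt N45366 (iv4 F115511)) (tt N23415 (iv5 F55840)) (tt N11533 (iv6 D35137)) (tt N35903 (iv7 F324426)))
theorem Q23415 : ∀ i, i < 23415 → P i := stepQ 23414 Q23414 (allL N23414 (tt N23619 (iv1 F56252)) (tt N45328 F115302) (tt N17831 F55837) (tt N45367 D76899) (tt N11534 (iv4 D35138)) (tt N45368 D76900) (tt N15902 F325242) (tt N17373 F55838))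
theorem Q23416 : ∀ i, i < 23416 → P i := stepQ 23415 Q23415 (allL N23415 (tt N31147 (iv1 F323088)) (tt N25340 F254948) (tt N17832 F55839) (tt N18142 (iv3 F323974)) (tt N15902 (iv4 F323975)) (tt N23413 F55840) (tt N11534 (iv6 D35139)) (tt N18203 (iv7 F323085)))
theorem Q23417 : ∀ i, i < 23417 → P i := stepQ 23416 Q23416 (allL N23416 (tt N17639 (iv1 F55841)) (tt N11535 (iv0 D35140)) (tt N17834 F55847) (tt N45369 D76904) (tt N23798 (iv4 F56520)) (tt N45370 D76905) (tt N31221 F325245) (tt N17833 F55845))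
theorem Q23418 : ∀ i, i < 23418 → P i := stepQ 23417 Q23417 (allL N23417 (tt N11535 (iv1 D35141)) (tt N17639 F55842) (tt N17833 (iv2 F55844)) (tt N45371 D76907) (tt N23392 F55843) (tt N45372 D76908) (tt N45373 D76909) (tt N17834 (iv7 F55846)))
theorem Q23419 : ∀ i, i < 23419 → P i := stepQ 23418 Q23418 (allL N23418 (tt N31722 F327522) (tt N45374 D76911) (tt N45375 D76912) (tt N11535 (iv3 D35142)) (tt N11545 F55848) (tt N45376 D76913) (tt N45362 (iv6 F115502)) (tt N17835 F55849))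
theorem Q23420 : ∀ i, i < 23420 → P i := stepQ 23419 Q23419 (allL N23419 (tt N45377 D76914) (tt N45378 D76915) (tt N35242 (iv2 F91670)) (tt N45376 (iv3 F115552)) (tt N34832 (iv4 F89954)) (tt N11535 (iv5 D35143)) (tt N45379 D76916) (tt N17836 F55850))
theorem Q23421 : ∀ i, i < 23421 → P i := stepQ 23420 Q23420 (allL N23420 (tt N24397 F91295) (tt N14169 F91296) (tt N24382 (iv2 F117328)) (tt N42477 (iv3 F106261)) (tt N11536 (iv4 D35147)) (tt N45380 D76925) (tt N17409 (iv6 F300554)) (tt N23113 F55859))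
theorem Q23422 : ∀ i, i < 23422 → P i := stepQ 23421 Q23421 (allL N23421 (tt N17724 F300692) (tt N17721 F300693) (tt N24383 (iv2 F117332)) (tt N11537 F55860) (tt N45381 D76928) (tt N11536 (iv5 D35148)) (tt N23103 F55861) (tt N23114 F55862))
theorem Q23423 : ∀ i, i < 23423 → P i := stepQ 23422 Q23422 (allL N23422 (tt N34614 F304009) (tt N25050 F60223) (tt N23112 F55863) (tt N45382 D76929) (tt N11537 (iv4 D35149)) (tt N45383 D76930) (tt N23109 F55864) (tt N23116 F55865))
theorem Q23424 : ∀ i, i < 23424 → P i := stepQ 23423 Q23423 (allL N23423 (tt N13848 (iv1 F59805)) (tt N24301 (iv0 F59803)) (tt N24282 (iv2 F116771)) (tt N15341 F309145) (tt N11538 (iv4 D35153)) (tt N21800 (iv5 F311346)) (tt N45384 D76941) (tt N15333 F309146))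
theorem Q23425 : ∀ i, i < 23425 → P i := stepQ 23424 Q23424 (allL N23424 (tt N45385 D76942) (tt N24959 (iv0 F297631)) (tt N24283 (iv2 F116774)) (tt N11539 F55873) (tt N45386 D76944) (tt N11538 (iv5 D35154)) (tt N23825 (iv6 F56558)) (tt N23111 F55874))
theorem Q23426 : ∀ i, i < 23426 → P i := stepQ 23425 Q23425 (allL N23425 (tt N24327 (iv1 F116850)) (tt N24259 (iv0 F116861)) (tt N24284 (iv2 F116778)) (tt N11540 F55875) (tt N45384 (iv4 F115629)) (tt N25038 (iv5 F60178)) (tt N11538 (iv6 D35155)) (tt N23088 F55876))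
theorem Q23427 : ∀ i, i < 23427 → P i := stepQ 23426 Q23426 (allL N23426 (tt N25050 F60222) (tt N34614 (iv0 F302667)) (tt N23116 F55877) (tt N45387 D76947) (tt N11539 (iv4 D35156)) (tt N23527 F314099) (tt N23529 (iv6 F316551)) (tt N23112 F55878))
theorem Q23428 : ∀ i, i < 23428 → P i := stepQ 23427 Q23427 (allL N23427 (tt N23491 (iv1 F55993)) (tt N11887 F55891) (tt N23118 F55880) (tt N44805 (iv3 F315915)) (tt N11541 (iv4 D35158)) (tt N18886 F313456) (tt N18954 (iv6 F315916)) (tt N23121 F55881))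
theorem Q23429 : ∀ i, i < 23429 → P i := stepQ 23428 Q23428 (allL N23428 (tt N13840 (iv1 F126090)) (tt N24286 (iv0 F126091)) (tt N18206 (iv2 F325280)) (tt N11542 (iv3 D35160)) (tt N45388 D76960) (tt N12523 F55886) (tt N18143 F325177) (tt N23117 F55887))
theorem Q23430 : ∀ i, i < 23430 → P i := stepQ 23429 Q23429 (allL N23429 (tt N11887 F55890) (tt N23491 F55992) (tt N23121 F55888) (tt N45389 D76962) (tt N11542 (iv4 D35161)) (tt N38092 F313455) (tt N45390 D76964) (tt N23118 F55889))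
theorem Q23431 : ∀ i, i < 23431 → P i := stepQ 23430 Q23430 (allL N23430 (tt N35533 F92792) (tt N25339 (iv0 F60725)) (tt N23122 F55892) (tt N18143 (iv3 F323901)) (tt N45390 (iv4 F115678)) (tt N12526 F55893) (tt N11542 (iv6 D35162)) (tt N18207 (iv7 F322521)))
theorem Q23432 : ∀ i, i < 23432 → P i := stepQ 23431 Q23431 (allL N23431 (tt N11543 (iv1 D35164)) (tt N23110 F55898) (tt N23124 (iv2 F55901)) (tt N18187 F318814) (tt N11577 F55900) (tt N36967 F314095) (tt N15607 (iv6 F320949)) (tt N23123 F55899))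
theorem Q23433 : ∀ i, i < 23433 → P i := stepQ 23432 Q23432 (allL N23432 (tt N45391 D76972) (tt N45392 D76973) (tt N45393 D76974) (tt N11543 (iv3 D35165)) (tt N45362 (iv4 F115501)) (tt N24600 F317228) (tt N11545 F55902) (tt N45394 D76976))
theorem Q23434 : ∀ i, i < 23434 → P i := stepQ 23433 Q23433 (allL N23433 (tt N45395 D76977) (tt N23583 F312558) (tt N23126 F55903) (tt N24600 (iv3 F315013)) (tt N37484 F312559) (tt N11543 (iv5 D35166)) (tt N12536 F55904) (tt N45396 D76979))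
theorem Q23435 : ∀ i, i < 23435 → P i := stepQ 23434 Q23434 (allL N23434 (tt N23124 (iv1 F55908)) (tt N23123 F55909) (tt N23110 F55905) (tt N45394 (iv3 F115702)) (tt N11544 F55906) (tt N45396 (iv5 F115720)) (tt N17983 F55907) (tt N11543 (iv7 D35167)))
theorem Q23436 : ∀ i, i < 23436 → P i := stepQ 23435 Q23435 (allL N23435 (tt N18009 (iv1 F55910)) (tt N11545 (iv0 D35168)) (tt N18008 F254322) (tt N45397 D76981) (tt N45398 D76982) (tt N26763 F250805) (tt N45399 D76984) (tt N18007 (iv7 F254325)))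
theorem Q23437 : ∀ i, i < 23437 → P i := stepQ 23436 Q23436 (allL N23436 (tt N11545 (iv1 D35169)) (tt N18009 F55915) (tt N18007 (iv2 F254324)) (tt N45400 D76986) (tt N45401 D76987) (tt N26764 F250815) (tt N45402 D76989) (tt N18008 F254323))
theorem Q23438 : ∀ i, i < 23438 → P i := stepQ 23437 Q23437 (allL N23437 (tt N18008 (iv1 F55916)) (tt N18007 F55914) (tt N11545 (iv2 D35170)) (tt N23129 F55911) (tt N45375 (iv4 F115547)) (tt N12558 F55912) (tt N45393 (iv6 F115699)) (tt N18009 F55913))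
theorem Q23439 : ∀ i, i < 23439 → P i := stepQ 23438 Q23438 (allL N23438 (tt N22935 F55922) (tt N22917 F55921) (tt N12325 F55919) (tt N15533 F325357) (tt N23719 (iv4 F56435)) (tt N11547 (iv5 D35172)) (tt N12321 (iv6 F296210)) (tt N15530 (iv7 F326094)))
theorem Q23440 : ∀ i, i < 23440 → P i := stepQ 23439 Q23439 (allL N23439 (tt N11548 (iv1 D35173)) (tt N11552 F55923) (tt N12067 (iv2 F55926)) (tt N34608 (iv3 F88128)) (tt N11904 F55925) (tt N44764 (iv5 F296652)) (tt N12232 (iv6 F296674)) (tt N12104 F55924))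
theorem Q23441 : ∀ i, i < 23441 → P i := stepQ 23440 Q23440 (allL N23440 (tt N24386 (iv1 F58447)) (tt N24403 F296754) (tt N25361 (iv2 F60775)) (tt N32755 F83479) (tt N12184 F55927) (tt N11548 (iv5 D35174)) (tt N45403 D76996) (tt N25358 (iv7 F60763)))
theorem Q23442 : ∀ i, i < 23442 → P i := stepQ 23441 Q23441 (allL N23441 (tt N12098 F297333) (tt N12294 (iv0 F298926)) (tt N12296 F297334) (tt N35064 (iv3 F90759)) (tt N11549 F55928) (tt N45404 D76999) (tt N11548 (iv6 D35175)) (tt N12295 (iv7 F298925)))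
theorem Q23443 : ∀ i, i < 23443 → P i := stepQ 23442 Q23442 (allL N23442 (tt N34740 (iv1 F121318)) (tt N11871 (iv0 F121315)) (tt N23480 (iv2 F55972)) (tt N34462 (iv3 F87604)) (tt N45405 D77013) (tt N11549 (iv5 D35178)) (tt N11550 F55929) (tt N34730 (iv7 F120789)))
theorem Q23444 : ∀ i, i < 23444 → P i := stepQ 23443 Q23443 (allL N23443 (tt N45406 D77015) (tt N26762 F296123) (tt N23479 (iv2 F55971)) (tt N45407 D77017) (tt N11550 (iv4 D35180)) (tt N45408 D77018) (tt N45405 (iv6 F115747)) (tt N23477 (iv7 F55970)))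
theorem Q23445 : ∀ i, i < 23445 → P i := stepQ 23444 Q23444 (allL N23444 (tt N45409 D77019) (tt N37145 F308037) (tt N45410 D77020) (tt N11552 (iv3 D35181)) (tt N27281 (iv4 F70000)) (tt N45411 D77021) (tt N37234 (iv6 F310053)) (tt N25360 (iv7 F60774)))
theorem Q23446 : ∀ i, i < 23446 → P i := stepQ 23445 Q23445 (allL N23445 (tt N24403 F296755) (tt N24386 (iv0 F58446)) (tt N25358 (iv2 F60762)) (tt N45411 (iv3 F115759)) (tt N23461 F55956) (tt N11552 (iv5 D35182)) (tt N45412 D77023) (tt N25361 (iv7 F60777)))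
theorem Q23447 : ∀ i, i < 23447 → P i := stepQ 23446 Q23446 (allL N23446 (tt N45413 D77024) (tt N35262 (iv0 F121311)) (tt N25359 (iv2 F60765)) (tt N37234 F312331) (tt N11553 F55930) (tt N37233 (iv5 F314374)) (tt N11552 (iv6 D35183)) (tt N34630 F121289))
theorem Q23448 : ∀ i, i < 23448 → P i := stepQ 23447 Q23447 (allL N23447 (tt N11704 F120816) (tt N25975 (iv0 F296270)) (tt N24046 (iv2 F57222)) (tt N24035 F296061) (tt N45414 D77040) (tt N11553 (iv5 D35186)) (tt N11554 F55931) (tt N27996 (iv7 F296352)))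
theorem Q23449 : ∀ i, i < 23449 → P i := stepQ 23448 Q23448 (allL N23448 (tt N45415 D77042) (tt N24356 (iv0 F58364)) (tt N24045 (iv2 F57220)) (tt N45416 D77043) (tt N11554 (iv4 D35188)) (tt N45417 D77044) (tt N45414 (iv6 F115766)) (tt N24047 (iv7 F57225)))
theorem Q23450 : ∀ i, i < 23450 → P i := stepQ 23449 Q23449 (allL N23449 (tt N45418 D77045) (tt N45419 D77046) (tt N36435 (iv2 F94598)) (tt N11555 (iv3 D35189)) (tt N24152 (iv4 F57555)) (tt N45420 D77047) (tt N45421 D77048) (tt N24134 (iv7 F57501)))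
theorem Q23451 : ∀ i, i < 23451 → P i := stepQ 23450 Q23450 (allL N23450 (tt N24140 (iv1 F57521)) (tt N24139 F57518) (tt N11560 F55932) (tt N45420 (iv3 F115774)) (tt N11941 F55933) (tt N11555 (iv5 D35190)) (tt N45422 D77049) (tt N23462 (iv7 F55958)))
theorem Q23452 : ∀ i, i < 23452 → P i := stepQ 23451 Q23451 (allL N23451 (tt N44730 (iv1 F297007)) (tt N44830 (iv0 F297009)) (tt N11561 F55934) (tt N45421 (iv3 F115776)) (tt N11556 F55935) (tt N24618 (iv5 F297017)) (tt N11555 (iv6 D35191)) (tt N44828 (iv7 F297022)))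
theorem Q23453 : ∀ i, i < 23453 → P i := stepQ 23452 Q23452 (allL N23452 (tt N11565 (iv1 F55940)) (tt N11556 (iv0 D35192)) (tt N11562 F115880) (tt N24209 (iv3 F117056)) (tt N23012 (iv4 F298134)) (tt N45423 D77056) (tt N23011 F296637) (tt N11563 F115881))
theorem Q23454 : ∀ i, i < 23454 → P i := stepQ 23453 Q23453 (allL N23453 (tt N11556 (iv1 D35193)) (tt N11565 F55936) (tt N11563 (iv2 F115876)) (tt N24091 F115875) (tt N45424 D77058) (tt N45425 D77059) (tt N24179 (iv6 F121404)) (tt N11562 (iv7 F115879)))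
theorem Q23455 : ∀ i, i < 23455 → P i := stepQ 23454 Q23454 (allL N23454 (tt N25402 F296593) (tt N25986 F296594) (tt N11564 F55937) (tt N24024 (iv3 F57165)) (tt N24633 (iv4 F298022)) (tt N11556 (iv5 D35194)) (tt N11557 F55938) (tt N25985 F296595))
theorem Q23456 : ∀ i, i < 23456 → P i := stepQ 23455 Q23455 (allL N23455 (tt N11563 (iv1 F55941)) (tt N11562 F55942) (tt N11565 F55939) (tt N24156 (iv3 F57563)) (tt N44828 (iv4 F297020)) (tt N25985 F296638) (tt N24138 (iv6 F57509)) (tt N11556 (iv7 D35195)))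
theorem Q23457 : ∀ i, i < 23457 → P i := stepQ 23456 Q23456 (allL N23456 (tt N24050 (iv1 F57232)) (tt N24049 F57229) (tt N11570 F55943) (tt N45426 D77065) (tt N11557 (iv4 D35196)) (tt N45427 D77066) (tt N24633 (iv6 F298023)) (tt N24044 (iv7 F57217)))
theorem Q23458 : ∀ i, i < 23458 → P i := stepQ 23457 Q23457 (allL N23457 (tt N32756 F83482) (tt N43473 (iv0 F108956)) (tt N45428 D77067) (tt N11558 (iv3 D35197)) (tt N17392 F55944) (tt N32888 (iv5 F83707)) (tt N28007 (iv6 F298181)) (tt N22984 F296647))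
theorem Q23459 : ∀ i, i < 23459 → P i := stepQ 23458 Q23458 (allL N23458 (tt N24353 (iv1 F58359)) (tt N24419 (iv0 F58659)) (tt N24064 (iv2 F57271)) (tt N32888 F83708) (tt N22964 F55945) (tt N11558 (iv5 D35198)) (tt N45429 D77069) (tt N22986 F296655))
theorem Q23460 : ∀ i, i < 23460 → P i := stepQ 23459 Q23459 (allL N23459 (tt N45430 D77106) (tt N45431 D77107) (tt N45432 D77108) (tt N11559 (iv3 D35210)) (tt N24076 (iv4 F57343)) (tt N45433 D77109) (tt N44744 (iv6 F297039)) (tt N12144 F296228))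
theorem Q23461 : ∀ i, i < 23461 → P i := stepQ 23460 Q23460 (allL N23460 (tt N23627 (iv1 F56275)) (tt N12564 F55952) (tt N12107 F55950) (tt N45433 (iv3 F115824)) (tt N14043 F296158) (tt N11559 (iv5 D35211)) (tt N45434 D77111) (tt N12146 F296159))
theorem Q23462 : ∀ i, i < 23462 → P i := stepQ 23461 Q23461 (allL N23461 (tt N23462 (iv1 F55961)) (tt N11560 (iv0 D35213)) (tt N24140 F57525) (tt N45435 D77116) (tt N23445 (iv4 F55956)) (tt N11670 F55955) (tt N45436 D77117) (tt N24139 F57520))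
theorem Q23463 : ∀ i, i < 23463 → P i := stepQ 23462 Q23462 (allL N23462 (tt N12184 F55960) (tt N23461 F55961) (tt N11941 F55957) (tt N45437 D77118) (tt N11560 (iv4 D35214)) (tt N11939 F55959) (tt N45438 D77119) (tt N23450 F55958))
theorem Q23464 : ∀ i, i < 23464 → P i := stepQ 23463 Q23463 (allL N23463 (tt N45439 D77120) (tt N45440 D77121) (tt N45422 (iv2 F115777)) (tt N42812 (iv3 F107188)) (tt N45438 (iv4 F115842)) (tt N45441 D77122) (tt N11560 (iv6 D35215)) (tt N45442 D77123))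
theorem Q23465 : ∀ i, i < 23465 → P i := stepQ 23464 Q23464 (allL N23464 (tt N11561 (iv1 D35217)) (tt N44828 (iv0 F297018)) (tt N44830 (iv2 F297011)) (tt N45443 D77127) (tt N34793 (iv4 F117563)) (tt N45444 D77128) (tt N44821 (iv6 F298316)) (tt N44730 (iv7 F297008)))
theorem Q23466 : ∀ i, i < 23466 → P i := stepQ 23465 Q23465 (allL N23465 (tt N24510 (iv1 F298317)) (tt N24620 (iv0 F298318)) (tt N24618 (iv2 F297016)) (tt N42815 (iv3 F107189)) (tt N45445 D77132) (tt N11561 (iv5 D35218)) (tt N45441 (iv6 F115843)) (tt N24617 (iv7 F298320)))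
theorem Q23467 : ∀ i, i < 23467 → P i := stepQ 23466 Q23466 (allL N23466 (tt N44830 (iv1 F297010)) (tt N44730 (iv0 F297006)) (tt N44828 (iv2 F297019)) (tt N42816 (iv3 F107190)) (tt N11565 F55962) (tt N24617 (iv5 F298319)) (tt N24145 (iv6 F57528)) (tt N11561 (iv7 D35219)))
theorem Q23468 : ∀ i, i < 23468 → P i := stepQ 23467 Q23467 (allL N23467 (tt N24093 (iv1 F115857)) (tt N24087 (iv0 F115324)) (tt N24090 (iv2 F115869)) (tt N11562 (iv3 D35221)) (tt N45334 F115323) (tt N40509 F325839) (tt N24074 F296737) (tt N24091 (iv7 F115873)))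
theorem Q23469 : ∀ i, i < 23469 → P i := stepQ 23468 Q23468 (allL N23468 (tt N45446 D77145) (tt N24404 F296738) (tt N23012 (iv2 F298133)) (tt N45447 D77147) (tt N11562 (iv4 D35222)) (tt N45448 D77148) (tt N22954 (iv6 F297360)) (tt N45424 (iv7 F115878)))
theorem Q23470 : ∀ i, i < 23470 → P i := stepQ 23469 Q23469 (allL N23469 (tt N45449 D77151) (tt N24005 (iv0 F121407)) (tt N45423 (iv2 F115886)) (tt N40509 F325833) (tt N45450 D77153) (tt N11562 (iv5 D35223)) (tt N23652 F121313) (tt N45425 (iv7 F115907)))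
theorem Q23471 : ∀ i, i < 23471 → P i := stepQ 23470 Q23470 (allL N23470 (tt N12710 F115866) (tt N24211 F115867) (tt N24210 (iv2 F117059)) (tt N11563 (iv3 D35226)) (tt N24280 (iv4 F116760)) (tt N23679 (iv5 F296896)) (tt N24196 (iv6 F296898)) (tt N24209 (iv7 F117057)))
theorem Q23472 : ∀ i, i < 23472 → P i := stepQ 23471 Q23471 (allL N23471 (tt N24404 F296739) (tt N45446 F115865) (tt N45424 (iv2 F115877)) (tt N37225 F309591) (tt N11563 (iv4 D35227)) (tt N44939 (iv5 F316542)) (tt N45451 D77163) (tt N23012 (iv7 F298135)))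
theorem Q23473 : ∀ i, i < 23473 → P i := stepQ 23472 Q23472 (allL N23472 (tt N24005 (iv1 F121408)) (tt N45449 F115919) (tt N45425 F115908) (tt N23679 (iv3 F296895)) (tt N45452 D77164) (tt N11563 (iv5 D35228)) (tt N45453 D77165) (tt N45423 (iv7 F115887)))
theorem Q23474 : ∀ i, i < 23474 → P i := stepQ 23473 Q23473 (allL N23473 (tt N24181 (iv1 F121321)) (tt N24171 (iv0 F121419)) (tt N24179 (iv2 F121402)) (tt N24196 (iv3 F296897)) (tt N45451 (iv4 F115927)) (tt N23983 (iv5 F120815)) (tt N11563 (iv6 D35229)) (tt N24180 (iv7 F121406)))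
theorem Q23475 : ∀ i, i < 23475 → P i := stepQ 23474 Q23474 (allL N23474 (tt N11564 (iv1 D35231)) (tt N25985 F296740) (tt N25986 F296741) (tt N25416 F296742) (tt N45454 D77177) (tt N25403 F296743) (tt N45455 D77179) (tt N25402 F296744))
theorem Q23476 : ∀ i, i < 23476 → P i := stepQ 23475 Q23475 (allL N23475 (tt N24515 (iv1 F297991)) (tt N24636 (iv0 F298328)) (tt N24633 (iv2 F298021)) (tt N45456 D77182) (tt N11564 (iv4 D35232)) (tt N45457 D77183) (tt N11570 F55965) (tt N24632 (iv7 F298330)))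
theorem Q23477 : ∀ i, i < 23477 → P i := stepQ 23476 Q23476 (allL N23476 (tt N25986 F296745) (tt N25402 F296746) (tt N25985 F296747) (tt N11579 F55966) (tt N24632 (iv4 F298329)) (tt N11565 F55967) (tt N23639 (iv6 F56303)) (tt N11564 (iv7 D35233)))
theorem Q23478 : ∀ i, i < 23478 → P i := stepQ 23477 Q23477 (allL N23477 (tt N44657 (iv1 F112765)) (tt N44685 (iv0 F112859)) (tt N23717 (iv2 F56432)) (tt N45458 D77186) (tt N11567 (iv4 D35235)) (tt N45459 D77187) (tt N45460 D77188) (tt N23443 F55970))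
theorem Q23479 : ∀ i, i < 23479 → P i := stepQ 23478 Q23478 (allL N23478 (tt N45461 D77189) (tt N24061 (iv0 F121379)) (tt N23718 (iv2 F56434)) (tt N16025 (iv3 F325560)) (tt N45460 (iv4 F115941)) (tt N16023 F324441) (tt N11567 (iv6 D35236)) (tt N45462 D77191))
theorem Q23480 : ∀ i, i < 23480 → P i := stepQ 23479 Q23479 (allL N23479 (tt N44685 (iv1 F112860)) (tt N44657 (iv0 F112764)) (tt N23443 F55971) (tt N45463 D77192) (tt N11568 (iv4 D35237)) (tt N45464 D77193) (tt N45465 D77194) (tt N23717 (iv7 F56433)))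
theorem Q23481 : ∀ i, i < 23481 → P i := stepQ 23480 Q23480 (allL N23480 (tt N17579 F121319) (tt N24003 F121320) (tt N23442 F55972) (tt N27583 (iv3 F70552)) (tt N45465 (iv4 F115946)) (tt N12563 F55973) (tt N11568 (iv6 D35238)) (tt N23976 (iv7 F120810)))
theorem Q23482 : ∀ i, i < 23482 → P i := stepQ 23481 Q23481 (allL N23481 (tt N24356 (iv1 F58365)) (tt N45415 F115770) (tt N24047 (iv2 F57224)) (tt N45466 D77199) (tt N11569 (iv4 D35240)) (tt N45467 D77200) (tt N31974 F325574) (tt N24045 (iv7 F57221)))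
theorem Q23483 : ∀ i, i < 23483 → P i := stepQ 23482 Q23482 (allL N23482 (tt N24044 (iv1 F57219)) (tt N11570 (iv0 D35242)) (tt N24050 F57235) (tt N15592 F325575) (tt N15599 F325576) (tt N45468 D77206) (tt N15590 F325577) (tt N24049 F57231))
theorem Q23484 : ∀ i, i < 23484 → P i := stepQ 23483 Q23483 (allL N23483 (tt N45469 D77208) (tt N45470 D77209) (tt N45471 D77210) (tt N11570 (iv3 D35243)) (tt N11580 F55979) (tt N45472 D77211) (tt N45456 (iv6 F115936)) (tt N24051 (iv7 F57237)))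
theorem Q23485 : ∀ i, i < 23485 → P i := stepQ 23484 Q23484 (allL N23484 (tt N45473 D77212) (tt N45474 D77213) (tt N45427 (iv2 F115799)) (tt N45472 (iv3 F115966)) (tt N45475 D77214) (tt N11570 (iv5 D35244)) (tt N45476 D77215) (tt N24052 (iv7 F57238)))
theorem Q23486 : ∀ i, i < 23486 → P i := stepQ 23485 Q23485 (allL N23485 (tt N24980 (iv1 F60056)) (tt N24013 F57147) (tt N24168 (iv2 F57581)) (tt N45477 D77223) (tt N11572 (iv4 D35251)) (tt N45395 (iv5 F115704)) (tt N23664 (iv6 F56347)) (tt N24169 (iv7 F57594)))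
theorem Q23487 : ∀ i, i < 23487 → P i := stepQ 23486 Q23486 (allL N23486 (tt N17601 (iv1 F116667)) (tt N24120 F116637) (tt N24104 F91303) (tt N22874 F55984) (tt N11574 (iv4 D35255)) (tt N25263 (iv5 F320832)) (tt N45478 D77227) (tt N24103 (iv7 F91236)))
theorem Q23488 : ∀ i, i < 23488 → P i := stepQ 23487 Q23487 (allL N23487 (tt N24133 (iv1 F91373)) (tt N24072 (iv0 F91557)) (tt N24105 F91245) (tt N11576 F55986) (tt N45478 (iv4 F115994)) (tt N23552 F300882) (tt N11574 (iv6 D35257)) (tt N24085 F300883))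
theorem Q23489 : ∀ i, i < 23489 → P i := stepQ 23488 Q23488 (allL N23488 (tt N24013 F57146) (tt N24980 (iv0 F60055)) (tt N24169 (iv2 F57593)) (tt N25076 (iv3 F315913)) (tt N11575 (iv4 D35258)) (tt N23583 F313450) (tt N23751 (iv6 F56462)) (tt N24168 (iv7 F57582)))
theorem Q23490 : ∀ i, i < 23490 → P i := stepQ 23489 Q23489 (allL N23489 (tt N45479 D77242) (tt N45480 D77243) (tt N45481 D77244) (tt N11578 (iv3 D35263)) (tt N45456 (iv4 F115935)) (tt N45482 D77245) (tt N11580 F55990) (tt N45483 D77246))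
theorem Q23491 : ∀ i, i < 23491 → P i := stepQ 23490 Q23490 (allL N23490 (tt N44933 (iv1 F114134)) (tt N24080 F313445) (tt N24042 (iv2 F57202)) (tt N45482 (iv3 F116007)) (tt N38329 F313446) (tt N11578 (iv5 D35264)) (tt N23768 (iv6 F56477)) (tt N45484 D77248))
theorem Q23492 : ∀ i, i < 23492 → P i := stepQ 23491 Q23491 (allL N23491 (tt N23429 (iv1 F55992)) (tt N23427 F55993) (tt N24043 (iv2 F57204)) (tt N45483 (iv3 F116008)) (tt N11579 F55991) (tt N45484 (iv5 F116015)) (tt N23643 (iv6 F56308)) (tt N11578 (iv7 D35265)))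
theorem Q23493 : ∀ i, i < 23493 → P i := stepQ 23492 Q23492 (allL N23492 (tt N24055 (iv1 F57243)) (tt N11580 (iv0 D35266)) (tt N24054 F254206) (tt N45485 D77250) (tt N45486 D77251) (tt N34648 (iv5 F254069)) (tt N21374 (iv6 F333995)) (tt N24053 (iv7 F254212)))
theorem Q23494 : ∀ i, i < 23494 → P i := stepQ 23493 Q23493 (allL N23493 (tt N11580 (iv1 D35267)) (tt N24055 F57245) (tt N24053 (iv2 F254211)) (tt N45487 D77255) (tt N45488 D77256) (tt N34649 (iv5 F254065)) (tt N45489 D77258) (tt N24054 F254210))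
theorem Q23495 : ∀ i, i < 23495 → P i := stepQ 23494 Q23494 (allL N23494 (tt N24054 (iv1 F57244)) (tt N24053 F57239) (tt N11580 (iv2 D35268)) (tt N24040 (iv3 F57196)) (tt N45471 (iv4 F115965)) (tt N23766 (iv5 F56474)) (tt N45481 (iv6 F116006)) (tt N24055 (iv7 F57242)))
theorem Q23496 : ∀ i, i < 23496 → P i := stepQ 23495 Q23495 (allL N23495 (tt N45490 D77259) (tt N25610 (iv0 F61686)) (tt N24028 (iv2 F57176)) (tt N45491 D77260) (tt N11581 (iv4 D35269)) (tt N45492 D77261) (tt N25415 (iv6 F60978)) (tt N24025 (iv7 F57168)))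
theorem Q23497 : ∀ i, i < 23497 → P i := stepQ 23496 Q23496 (allL N23496 (tt N25982 (iv1 F63818)) (tt N11656 (iv0 F55996)) (tt N14481 F55994) (tt N11583 F55995) (tt N45493 D77262) (tt N11582 (iv5 D35270)) (tt N25420 (iv6 F60988)) (tt N23511 (iv7 F56022)))
theorem Q23498 : ∀ i, i < 23498 → P i := stepQ 23497 Q23497 (allL N23497 (tt N45494 D77263) (tt N45495 D77264) (tt N25477 (iv2 F61197)) (tt N45496 D77265) (tt N11583 (iv4 D35271)) (tt N45497 D77266) (tt N25432 (iv6 F61005)) (tt N25478 (iv7 F61200)))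
theorem Q23499 : ∀ i, i < 23499 → P i := stepQ 23498 Q23498 (allL N23498 (tt N37611 (iv1 F305093)) (tt N45498 D77268) (tt N42821 (iv2 F107223)) (tt N11584 (iv3 D35272)) (tt N24134 (iv4 F57500)) (tt N26159 (iv5 F64334)) (tt N30679 (iv6 F306648)) (tt N24152 (iv7 F57556)))
theorem Q23500 : ∀ i, i < 23500 → P i := stepQ 23499 Q23499 (allL N23499 (tt N11589 (iv1 F56004)) (tt N11588 F56005) (tt N11590 F56001) (tt N24138 (iv3 F57508)) (tt N30678 F308483) (tt N12596 F56002) (tt N24156 (iv6 F57564)) (tt N11585 (iv7 D35276)))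
theorem Q23501 : ∀ i, i < 23501 → P i := stepQ 23500 Q23500 (allL N23500 (tt N25589 (iv1 F296559)) (tt N11810 F296186) (tt N25588 (iv2 F296528)) (tt N24136 F296187) (tt N24270 (iv4 F296906)) (tt N11588 (iv5 D35287)) (tt N45499 D77308) (tt N24149 (iv7 F296523)))
theorem Q23502 : ∀ i, i < 23502 → P i := stepQ 23501 Q23501 (allL N23501 (tt N24189 (iv1 F118872)) (tt N24199 (iv0 F119034)) (tt N24197 (iv2 F118865)) (tt N24180 (iv3 F298276)) (tt N19374 F312170) (tt N45500 D77311) (tt N11588 (iv6 D35288)) (tt N24196 (iv7 F119511)))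
theorem Q23503 : ∀ i, i < 23503 → P i := stepQ 23502 Q23502 (allL N23502 (tt N22909 F114048) (tt N24075 F114049) (tt N24074 (iv2 F91438)) (tt N11589 (iv3 D35290)) (tt N24393 (iv4 F117261)) (tt N34840 F297079) (tt N24090 F297080) (tt N24073 (iv7 F112747)))
theorem Q23504 : ∀ i, i < 23504 → P i := stepQ 23503 Q23503 (allL N23503 (tt N11810 F296188) (tt N25589 (iv0 F296558)) (tt N24149 (iv2 F296520)) (tt N34840 (iv3 F296908)) (tt N24271 (iv4 F296909)) (tt N11589 (iv5 D35292)) (tt N24154 (iv6 F57559)) (tt N25588 (iv7 F296530)))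
theorem Q23505 : ∀ i, i < 23505 → P i := stepQ 23504 Q23504 (allL N23504 (tt N24211 (iv1 F296557)) (tt N12710 F296184) (tt N24209 (iv2 F296531)) (tt N24090 (iv3 F296893)) (tt N24279 (iv4 F296894)) (tt N23680 (iv5 F118840)) (tt N11589 (iv6 D35293)) (tt N24210 (iv7 F296556)))
theorem Q23506 : ∀ i, i < 23506 → P i := stepQ 23505 Q23505 (allL N23505 (tt N24114 (iv1 F116612)) (tt N17602 F116609) (tt N24084 (iv2 F91390)) (tt N23065 F56013) (tt N11591 (iv4 D35297)) (tt N45501 D77326) (tt N45502 D77327) (tt N24086 (iv7 F91222)))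
theorem Q23507 : ∀ i, i < 23507 → P i := stepQ 23506 Q23506 (allL N23506 (tt N24072 F301793) (tt N24133 (iv0 F303668)) (tt N24085 (iv2 F91319)) (tt N11593 F56015) (tt N45502 (iv4 F116132)) (tt N23553 (iv5 F91263)) (tt N11591 (iv6 D35299)) (tt N24105 (iv7 F303213)))
theorem Q23508 : ∀ i, i < 23508 → P i := stepQ 23507 Q23507 (allL N23507 (tt N27974 (iv1 F72413)) (tt N11594 (iv0 D35305)) (tt N27972 (iv2 F114025)) (tt N24154 (iv3 F114036)) (tt N24378 (iv4 F117323)) (tt N45503 D77336) (tt N34840 F297077) (tt N24164 (iv7 F114032)))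
theorem Q23509 : ∀ i, i < 23509 → P i := stepQ 23508 Q23508 (allL N23508 (tt N11594 (iv1 D35306)) (tt N27974 F72412) (tt N24164 (iv2 F114031)) (tt N25974 (iv3 F114040)) (tt N24379 (iv4 F117322)) (tt N45504 D77338) (tt N45505 D77339) (tt N27972 F114024))
theorem Q23510 : ∀ i, i < 23510 → P i := stepQ 23509 Q23509 (allL N23509 (tt N31972 (iv1 F326968)) (tt N31224 (iv0 F326994)) (tt N27973 (iv2 F72407)) (tt N11603 F56018) (tt N45506 D77342) (tt N11594 (iv5 D35307)) (tt N11596 F56019) (tt N31917 F325377))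
theorem Q23511 : ∀ i, i < 23511 → P i := stepQ 23510 Q23510 (allL N23510 (tt N24164 (iv1 F114030)) (tt N27972 F72411) (tt N27974 (iv2 F72409)) (tt N11604 F56020) (tt N28402 (iv4 F73813)) (tt N31917 (iv5 F325054)) (tt N24075 (iv6 F57342)) (tt N11594 (iv7 D35308)))
theorem Q23512 : ∀ i, i < 23512 → P i := stepQ 23511 Q23511 (allL N23511 (tt N23612 (iv1 F56216)) (tt N17568 F56217) (tt N23613 F56220) (tt N12645 F56021) (tt N44652 (iv4 F112759)) (tt N11595 (iv5 D35309)) (tt N31210 F326388) (tt N23496 F56022))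
theorem Q23513 : ∀ i, i < 23513 → P i := stepQ 23512 Q23512 (allL N23512 (tt N17605 (iv1 F56024)) (tt N11596 (iv0 D35310)) (tt N15618 (iv2 F326165)) (tt N11722 (iv3 F56025)) (tt N24370 (iv4 F58391)) (tt N11654 F56023) (tt N15614 F325584) (tt N24027 (iv7 F57173)))
theorem Q23514 : ∀ i, i < 23514 → P i := stepQ 23513 Q23513 (allL N23513 (tt N12547 F56026) (tt N25366 (iv0 F60814)) (tt N25367 F60817) (tt N31946 F326830) (tt N11596 (iv4 D35311)) (tt N45507 D77347) (tt N45506 (iv6 F116152)) (tt N24065 (iv7 F57288)))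
theorem Q23515 : ∀ i, i < 23515 → P i := stepQ 23514 Q23514 (allL N23514 (tt N22938 F56030) (tt N22934 F56031) (tt N22910 F56027) (tt N11599 F56028) (tt N45415 (iv4 F115768)) (tt N11597 (iv5 D35312)) (tt N12211 (iv6 F296226)) (tt N22936 F56029))
theorem Q23516 : ∀ i, i < 23516 → P i := stepQ 23515 Q23515 (allL N23515 (tt N17567 (iv1 F56039)) (tt N11599 (iv0 D35318)) (tt N17830 (iv2 F56038)) (tt N13336 F56040) (tt N23915 (iv4 F56796)) (tt N11657 F56037) (tt N18207 F323988) (tt N23119 (iv7 F296304)))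
theorem Q23517 : ∀ i, i < 23517 → P i := stepQ 23516 Q23516 (allL N23516 (tt N22107 F56041) (tt N24729 F86942) (tt N45508 D77363) (tt N11600 (iv3 D35319)) (tt N12144 F296118) (tt N38377 F301046) (tt N12136 (iv6 F296292)) (tt N24076 (iv7 F57344)))
theorem Q23518 : ∀ i, i < 23518 → P i := stepQ 23517 Q23517 (allL N23517 (tt N24102 (iv1 F57415)) (tt N11601 (iv0 D35321)) (tt N24099 F113029) (tt N45509 D77369) (tt N23911 (iv4 F117067)) (tt N40490 (iv5 F323712)) (tt N24082 (iv6 F299240)) (tt N24100 (iv7 F113028)))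
theorem Q23519 : ∀ i, i < 23519 → P i := stepQ 23518 Q23518 (allL N23518 (tt N11601 (iv1 D35322)) (tt N24102 F57414) (tt N24100 (iv2 F113030)) (tt N45510 D77371) (tt N23912 (iv4 F117071)) (tt N35442 (iv5 F323713)) (tt N45511 D77373) (tt N24099 F113031))
theorem Q23520 : ∀ i, i < 23520 → P i := stepQ 23519 Q23519 (allL N23519 (tt N45512 D77374) (tt N45513 D77375) (tt N24101 (iv2 F57409)) (tt N24721 (iv3 F59362)) (tt N41073 (iv4 F322784)) (tt N11601 (iv5 D35323)) (tt N24717 (iv6 F59360)) (tt N45514 D77377))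
theorem Q23521 : ∀ i, i < 23521 → P i := stepQ 23520 Q23520 (allL N23520 (tt N24100 (iv1 F57408)) (tt N24099 F57413) (tt N24102 (iv2 F57410)) (tt N24722 (iv3 F59364)) (tt N11604 F56044) (tt N45514 (iv5 F116185)) (tt N24083 (iv6 F57368)) (tt N11601 (iv7 D35324)))
theorem Q23522 : ∀ i, i < 23522 → P i := stepQ 23521 Q23521 (allL N23521 (tt N24120 F116638) (tt N17601 (iv0 F116666)) (tt N24103 F91301) (tt N45515 D77378) (tt N11602 (iv4 D35327)) (tt N40483 (iv5 F324031)) (tt N24086 F299461) (tt N24104 F91300))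
theorem Q23523 : ∀ i, i < 23523 → P i := stepQ 23522 Q23522 (allL N23522 (tt N34841 (iv1 F90016)) (tt N11605 (iv0 D35347)) (tt N24146 (iv2 F115898)) (tt N25588 F91404) (tt N17401 F91405) (tt N24073 F297095) (tt N45516 D77419) (tt N34840 F115899))
theorem Q23524 : ∀ i, i < 23524 → P i := stepQ 23523 Q23523 (allL N23523 (tt N11605 (iv1 D35348)) (tt N34841 F90015) (tt N34840 F115897) (tt N24137 F91464) (tt N17402 F91465) (tt N24074 F296749) (tt N27972 F296750) (tt N24146 (iv7 F115891)))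
theorem Q23525 : ∀ i, i < 23525 → P i := stepQ 23524 Q23524 (allL N23524 (tt N34840 (iv1 F90012)) (tt N24146 (iv0 F91432)) (tt N34841 (iv2 F90013)) (tt N11610 F56064) (tt N34529 (iv4 F91213)) (tt N23558 (iv5 F56145)) (tt N24093 (iv6 F57386)) (tt N11605 (iv7 D35349)))
theorem Q23526 : ∀ i, i < 23526 → P i := stepQ 23525 Q23525 (allL N23525 (tt N11606 (iv1 D35354)) (tt N24095 F57397) (tt N24094 F57391) (tt N22102 (iv3 F56067)) (tt N13037 (iv4 F300406)) (tt N13979 F56066) (tt N44722 (iv6 F300407)) (tt N13033 (iv7 F299476)))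
theorem Q23527 : ∀ i, i < 23527 → P i := stepQ 23526 Q23526 (allL N23526 (tt N45517 D77434) (tt N45518 D77435) (tt N24700 (iv2 F59348)) (tt N11608 F56069) (tt N34848 (iv4 F90049)) (tt N45519 D77436) (tt N11606 (iv6 D35355)) (tt N45520 D77437))
theorem Q23528 : ∀ i, i < 23528 → P i := stepQ 23527 Q23527 (allL N23527 (tt N24042 (iv1 F311677)) (tt N45484 (iv0 F311675)) (tt N24080 (iv2 F57361)) (tt N24697 (iv3 F59344)) (tt N22024 F301439) (tt N23426 (iv5 F314099)) (tt N11607 (iv6 D35356)) (tt N44933 F311628))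
theorem Q23529 : ∀ i, i < 23529 → P i := stepQ 23528 Q23528 (allL N23528 (tt N24083 (iv1 F57371)) (tt N11608 (iv0 D35357)) (tt N24081 (iv2 F113051)) (tt N45521 D77442) (tt N23909 (iv4 F116627)) (tt N45522 D77443) (tt N45523 D77444) (tt N24082 F113050))
theorem Q23530 : ∀ i, i < 23530 → P i := stepQ 23529 Q23529 (allL N23529 (tt N23750 (iv1 F318845)) (tt N17505 (iv0 F318846)) (tt N23747 F316550) (tt N45519 (iv3 F116246)) (tt N11764 (iv4 F318844)) (tt N11608 (iv5 D35359)) (tt N23426 F316551) (tt N23748 (iv7 F318847)))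
theorem Q23531 : ∀ i, i < 23531 → P i := stepQ 23530 Q23530 (allL N23530 (tt N24082 (iv1 F57364)) (tt N24081 F57369) (tt N24083 (iv2 F57366)) (tt N45520 (iv3 F116247)) (tt N11610 F56070) (tt N23748 F320988) (tt N24102 (iv6 F57412)) (tt N11608 (iv7 D35360)))
theorem Q23532 : ∀ i, i < 23532 → P i := stepQ 23531 Q23531 (allL N23531 (tt N17602 F116610) (tt N24114 (iv0 F116611)) (tt N24086 (iv2 F91389)) (tt N45524 D77449) (tt N11609 (iv4 D35368)) (tt N45525 D77450) (tt N24103 F299470) (tt N24084 (iv7 F91378)))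
theorem Q23533 : ∀ i, i < 23533 → P i := stepQ 23532 Q23532 (allL N23532 (tt N34271 F87048) (tt N11611 (iv0 D35370)) (tt N34712 (iv2 F116273)) (tt N43440 F302462) (tt N25829 F62347) (tt N43156 F304866) (tt N34282 (iv6 F302741)) (tt N34711 (iv7 F116277)))
theorem Q23534 : ∀ i, i < 23534 → P i := stepQ 23533 Q23533 (allL N23533 (tt N11611 (iv1 D35371)) (tt N34271 (iv0 F87047)) (tt N34711 (iv2 F116276)) (tt N45526 D77459) (tt N25828 (iv4 F62346)) (tt N43157 F306769) (tt N45527 D77461) (tt N34712 (iv7 F116274)))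
theorem Q23535 : ∀ i, i < 23535 → P i := stepQ 23534 Q23534 (allL N23534 (tt N34922 (iv1 F90360)) (tt N34918 (iv0 F90358)) (tt N43944 (iv2 F110262)) (tt N11612 F56073) (tt N43910 (iv4 F110136)) (tt N11611 (iv5 D35372)) (tt N45528 D77462) (tt N34609 (iv7 F88151)))
theorem Q23536 : ∀ i, i < 23536 → P i := stepQ 23535 Q23535 (allL N23535 (tt N45529 D77463) (tt N43968 (iv0 F302744)) (tt N43945 (iv2 F110266)) (tt N11613 F56074) (tt N34343 (iv4 F301348)) (tt N45530 D77465) (tt N11611 (iv6 D35373)) (tt N34337 (iv7 F302746)))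
theorem Q23537 : ∀ i, i < 23537 → P i := stepQ 23536 Q23536 (allL N23536 (tt N34242 F310123) (tt N45531 D77468) (tt N11641 F56075) (tt N45528 (iv3 F116284)) (tt N11831 F56076) (tt N45532 D77469) (tt N11612 (iv6 D35374)) (tt N45533 D77470))
theorem Q23538 : ∀ i, i < 23538 → P i := stepQ 23537 Q23537 (allL N23537 (tt N11645 (iv1 F56081)) (tt N11613 (iv0 D35375)) (tt N11642 (iv2 F116891)) (tt N45534 D77472) (tt N12350 (iv4 F56083)) (tt N33553 F324094) (tt N38109 F305932) (tt N11643 (iv7 F116898)))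
theorem Q23539 : ∀ i, i < 23539 → P i := stepQ 23538 Q23538 (allL N23538 (tt N11613 (iv1 D35376)) (tt N11645 F56077) (tt N11643 F116899) (tt N45535 D77476) (tt N31149 (iv4 F324935)) (tt N41566 F324096) (tt N11643 F299913) (tt N11642 F116900))
theorem Q23540 : ∀ i, i < 23540 → P i := stepQ 23539 Q23539 (allL N23539 (tt N45536 D77480) (tt N24119 F299918) (tt N11644 F56078) (tt N45530 (iv3 F116285)) (tt N20504 (iv4 F322787)) (tt N11613 (iv5 D35377)) (tt N45532 (iv6 F116289)) (tt N41580 (iv7 F322791)))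
theorem Q23541 : ∀ i, i < 23541 → P i := stepQ 23540 Q23540 (allL N23540 (tt N11643 (iv1 F56082)) (tt N11642 F56084) (tt N11645 F56079) (tt N34337 (iv3 F302745)) (tt N11617 F56080) (tt N41580 F323521) (tt N25503 F299919) (tt N11613 (iv7 D35378)))
theorem Q23542 : ∀ i, i < 23542 → P i := stepQ 23541 Q23541 (allL N23541 (tt N31971 (iv1 F325822)) (tt N23391 F121216) (tt N34455 (iv2 F121161)) (tt N11614 (iv3 D35380)) (tt N17716 F121187) (tt N45537 D77488) (tt N24126 (iv6 F299007)) (tt N11650 F91337))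
theorem Q23543 : ∀ i, i < 23543 → P i := stepQ 23542 Q23542 (allL N23542 (tt N31913 (iv1 F324688)) (tt N24502 (iv0 F117747)) (tt N11647 F91338) (tt N45538 D77491) (tt N11614 (iv4 D35381)) (tt N20505 F323714) (tt N24132 (iv6 F303081)) (tt N11651 F91339))
theorem Q23544 : ∀ i, i < 23544 → P i := stepQ 23543 Q23543 (allL N23543 (tt N20517 (iv1 F323441)) (tt N20516 F321750) (tt N11648 F91340) (tt N45537 (iv3 F116329)) (tt N15938 (iv4 F322601)) (tt N11614 (iv5 D35382)) (tt N15970 (iv6 F322600)) (tt N11652 F91341))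
theorem Q23545 : ∀ i, i < 23545 → P i := stepQ 23544 Q23544 (allL N23544 (tt N25389 (iv1 F118767)) (tt N25981 (iv0 F118771)) (tt N25979 (iv2 F118762)) (tt N11615 (iv3 D35384)) (tt N17845 F56087) (tt N20518 F324759) (tt N11650 F298955) (tt N11646 F91349))
theorem Q23546 : ∀ i, i < 23546 → P i := stepQ 23545 Q23545 (allL N23545 (tt N24502 (iv1 F117748)) (tt N31913 F324760) (tt N11651 F91350) (tt N24800 F309518) (tt N11615 (iv4 D35385)) (tt N42884 F324761) (tt N11651 F300341) (tt N11647 F91351))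
theorem Q23547 : ∀ i, i < 23547 → P i := stepQ 23546 Q23546 (allL N23546 (tt N34461 (iv1 F297075)) (tt N11621 (iv0 D35398)) (tt N34463 (iv2 F297071)) (tt N25375 (iv3 F126131)) (tt N34769 (iv4 F126116)) (tt N31970 F326117) (tt N31971 F326118) (tt N23389 (iv7 F297074)))
theorem Q23548 : ∀ i, i < 23548 → P i := stepQ 23547 Q23547 (allL N23547 (tt N45539 D77538) (tt N45540 D77539) (tt N34768 (iv2 F89545)) (tt N11624 F56119) (tt N40366 F341358) (tt N11621 (iv5 D35400)) (tt N11903 F56120) (tt N34727 (iv7 F297167)))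
theorem Q23549 : ∀ i, i < 23549 → P i := stepQ 23548 Q23548 (allL N23548 (tt N33926 F86209) (tt N24749 F86986) (tt N43189 F108266) (tt N11622 (iv3 D35402)) (tt N24568 (iv4 F59117)) (tt N24713 (iv5 F59357)) (tt N45541 D77542) (tt N24637 (iv7 F59232)))
theorem Q23550 : ∀ i, i < 23550 → P i := stepQ 23549 Q23549 (allL N23549 (tt N11647 (iv1 F117657)) (tt N11651 (iv0 F117658)) (tt N24502 (iv2 F58946)) (tt N45541 (iv3 F116428)) (tt N23908 (iv4 F56755)) (tt N45512 (iv5 F299909)) (tt N11622 (iv6 D35403)) (tt N31913 F324871))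
theorem Q23551 : ∀ i, i < 23551 → P i := stepQ 23550 Q23550 (allL N23550 (tt N24645 (iv1 F299916)) (tt N11623 (iv0 D35404)) (tt N24647 F299203) (tt N45542 D77548) (tt N15968 F323319) (tt N45543 D77550) (tt N31913 (iv6 F324689)) (tt N24638 F299204))
theorem Q23552 : ∀ i, i < 23552 → P i := stepQ 23551 Q23551 (allL N23551 (tt N45544 D77557) (tt N45545 D77558) (tt N34715 (iv2 F88714)) (tt N24780 (iv3 F59419)) (tt N40195 F319654) (tt N11623 (iv5 D35406)) (tt N28142 (iv6 F72856)) (tt N34728 (iv7 F301951)))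
theorem Q23553 : ∀ i, i < 23553 → P i := stepQ 23552 Q23552 (allL N23552 (tt N23611 (iv1 F301742)) (tt N11624 (iv0 D35418)) (tt N23621 (iv2 F91314)) (tt N11854 F299206) (tt N18149 (iv4 F325084)) (tt N23487 (iv5 F300882)) (tt N15625 F323844) (tt N23622 F91316))
theorem Q23554 : ∀ i, i < 23554 → P i := stepQ 23553 Q23553 (allL N23553 (tt N11624 (iv1 D35419)) (tt N23611 (iv0 F301741)) (tt N23622 F91313) (tt N11677 F91262) (tt N30654 (iv4 F325083)) (tt N23506 F91263) (tt N23622 (iv6 F301740)) (tt N23621 (iv7 F91312)))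
theorem Q23555 : ∀ i, i < 23555 → P i := stepQ 23554 Q23554 (allL N23554 (tt N25364 F91149) (tt N27347 F91150) (tt N11627 F56129) (tt N12063 F56130) (tt N17707 F56131) (tt N17645 F56132) (tt N11625 (iv6 D35422)) (tt N35151 (iv7 F91408)))
theorem Q23556 : ∀ i, i < 23556 → P i := stepQ 23555 Q23555 (allL N23555 (tt N45546 D77602) (tt N28088 F306530) (tt N24772 (iv2 F59411)) (tt N11626 (iv3 D35423)) (tt N11628 F56133) (tt N45547 D77604) (tt N45548 D77605) (tt N17704 F56134))
theorem Q23557 : ∀ i, i < 23557 → P i := stepQ 23556 Q23556 (allL N23556 (tt N17387 F56140) (tt N17385 F56141) (tt N17660 F56137) (tt N45547 (iv3 F116500)) (tt N17659 F56139) (tt N11626 (iv5 D35424)) (tt N45549 D77606) (tt N17659 F56138))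
theorem Q23558 : ∀ i, i < 23558 → P i := stepQ 23557 Q23557 (allL N23557 (tt N12508 (iv1 F300012)) (tt N17696 F91190) (tt N17707 F56142) (tt N45548 (iv3 F116502)) (tt N11627 F56143) (tt N45550 D77607) (tt N11626 (iv6 D35425)) (tt N17810 F91148))
theorem Q23559 : ∀ i, i < 23559 → P i := stepQ 23558 Q23558 (allL N23558 (tt N27347 (iv1 F91416)) (tt N25364 F91415) (tt N35151 F91409) (tt N11632 F56144) (tt N17810 F91198) (tt N23524 F56145) (tt N25017 F298096) (tt N11627 (iv7 D35428)))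
theorem Q23560 : ∀ i, i < 23560 → P i := stepQ 23559 Q23559 (allL N23559 (tt N22983 (iv1 F56146)) (tt N11628 (iv0 D35429)) (tt N24691 (iv2 F59330)) (tt N45551 D77608) (tt N35076 (iv4 F90776)) (tt N24528 (iv5 F59334)) (tt N45552 D77609) (tt N24695 (iv7 F59339)))
theorem Q23561 : ∀ i, i < 23561 → P i := stepQ 23560 Q23560 (allL N23560 (tt N45553 D77610) (tt N45554 D77611) (tt N24773 (iv2 F59415)) (tt N11630 F56147) (tt N45548 (iv4 F116503)) (tt N45555 D77612) (tt N11628 (iv6 D35430)) (tt N24793 (iv7 F308853)))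
theorem Q23562 : ∀ i, i < 23562 → P i := stepQ 23561 Q23561 (allL N23561 (tt N45556 D77614) (tt N45557 D77615) (tt N22987 F56148) (tt N28003 (iv3 F72504)) (tt N21437 F317786) (tt N17991 (iv5 F318944)) (tt N11629 (iv6 D35431)) (tt N25287 F317787))
theorem Q23563 : ∀ i, i < 23563 → P i := stepQ 23562 Q23562 (allL N23562 (tt N24860 (iv1 F91167)) (tt N11630 (iv0 D35432)) (tt N23749 F320985) (tt N45558 D77618) (tt N12309 F297720) (tt N17505 F320986) (tt N23749 F320987) (tt N24858 F91570))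
theorem Q23564 : ∀ i, i < 23564 → P i := stepQ 23563 Q23563 (allL N23563 (tt N45559 D77621) (tt N45560 D77622) (tt N25282 F321014) (tt N45555 (iv3 F116510)) (tt N17992 (iv4 F322031)) (tt N11630 (iv5 D35434)) (tt N17991 F321015) (tt N45561 D77624))
theorem Q23565 : ∀ i, i < 23565 → P i := stepQ 23564 Q23564 (allL N23564 (tt N24858 (iv1 F91419)) (tt N23749 F321801) (tt N24860 (iv2 F91168)) (tt N24793 F311019) (tt N11632 F56149) (tt N45561 (iv5 F116523)) (tt N24645 F300363) (tt N11630 (iv7 D35435)))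
theorem Q23566 : ∀ i, i < 23566 → P i := stepQ 23565 Q23565 (allL N23565 (tt N11638 F116663) (tt N25502 F91582) (tt N25365 (iv2 F91580)) (tt N45562 D77625) (tt N11631 (iv4 D35443)) (tt N34680 F320255) (tt N45563 D77627) (tt N25501 F91579))
theorem Q23567 : ∀ i, i < 23567 → P i := stepQ 23566 Q23566 (allL N23566 (tt N11649 F302120) (tt N11649 F89353) (tt N24131 F302121) (tt N11692 F302122) (tt N45563 (iv4 F116524)) (tt N24131 (iv5 F57479)) (tt N11631 (iv6 D35445)) (tt N24131 F91208))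
theorem Q23568 : ∀ i, i < 23568 → P i := stepQ 23567 Q23567 (allL N23567 (tt N34137 F86806) (tt N11633 (iv0 D35446)) (tt N34716 F88731) (tt N12127 F56155) (tt N21793 F306050) (tt N12192 F56154) (tt N45564 D77630) (tt N27958 (iv7 F72368)))
theorem Q23569 : ∀ i, i < 23569 → P i := stepQ 23568 Q23568 (allL N23568 (tt N11633 (iv1 D35447)) (tt N34137 F86807) (tt N27958 (iv2 F86808)) (tt N45565 D77631) (tt N21789 F306049) (tt N27957 F86809) (tt N45566 D77633) (tt N34716 (iv7 F88730)))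
theorem Q23570 : ∀ i, i < 23570 → P i := stepQ 23569 Q23569 (allL N23569 (tt N34716 (iv1 F88729)) (tt N27958 F72370) (tt N11633 (iv2 D35448)) (tt N34059 (iv3 F86632)) (tt N45567 D77634) (tt N27982 (iv5 F72441)) (tt N45568 D77635) (tt N34137 (iv7 F86805)))
theorem Q23571 : ∀ i, i < 23571 → P i := stepQ 23570 Q23570 (allL N23570 (tt N25483 F61208) (tt N43090 (iv0 F108058)) (tt N45567 (iv2 F116531)) (tt N12739 F56156) (tt N11633 (iv4 D35449)) (tt N22402 F304661) (tt N35304 (iv6 F297746)) (tt N25406 (iv7 F60963)))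
theorem Q23572 : ∀ i, i < 23572 → P i := stepQ 23571 Q23571 (allL N23571 (tt N12120 F56158) (tt N27984 F72452) (tt N27982 F72439) (tt N11634 F56157) (tt N45569 D77638) (tt N11633 (iv5 D35450)) (tt N45419 F298811) (tt N27983 (iv7 F72442)))
theorem Q23573 : ∀ i, i < 23573 → P i := stepQ 23572 Q23572 (allL N23572 (tt N45570 D77640) (tt N45571 D77641) (tt N45568 (iv2 F116535)) (tt N11635 F56159) (tt N35304 F297964) (tt N45572 D77642) (tt N11633 (iv6 D35451)) (tt N34722 (iv7 F300374)))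
theorem Q23574 : ∀ i, i < 23574 → P i := stepQ 23573 Q23573 (allL N23573 (tt N45573 D77644) (tt N45574 D77645) (tt N34102 (iv2 F86746)) (tt N45419 F298563) (tt N19118 F301120) (tt N45575 D77646) (tt N11634 (iv6 D35452)) (tt N45576 D77647))
theorem Q23575 : ∀ i, i < 23575 → P i := stepQ 23574 Q23574 (allL N23574 (tt N44896 F316414) (tt N45577 D77659) (tt N34718 (iv2 F88745)) (tt N45572 (iv3 F116548)) (tt N44889 (iv4 F318676)) (tt N11635 (iv5 D35455)) (tt N45575 (iv6 F116550)) (tt N34723 (iv7 F300375)))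
theorem Q23576 : ∀ i, i < 23576 → P i := stepQ 23575 Q23575 (allL N23575 (tt N34059 (iv1 F86635)) (tt N11636 (iv0 D35457)) (tt N34104 F86756) (tt N45578 D77662) (tt N42700 (iv4 F106895)) (tt N12418 F56160) (tt N45579 D77663) (tt N34103 F86752))
theorem Q23577 : ∀ i, i < 23577 → P i := stepQ 23576 Q23576 (allL N23576 (tt N11636 (iv1 D35458)) (tt N34059 (iv0 F86634)) (tt N34103 F86751) (tt N43952 (iv3 F110293)) (tt N42701 (iv4 F106899)) (tt N12419 F56161) (tt N45571 F319559) (tt N34104 (iv7 F86754)))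
theorem Q23578 : ∀ i, i < 23578 → P i := stepQ 23577 Q23577 (allL N23577 (tt N19081 (iv1 F314519)) (tt N19074 (iv0 F314518)) (tt N34139 (iv2 F86811)) (tt N11638 F56162) (tt N27697 (iv4 F71094)) (tt N45580 D77667) (tt N11636 (iv6 D35459)) (tt N45581 D77668))
theorem Q23579 : ∀ i, i < 23579 → P i := stepQ 23578 Q23578 (allL N23578 (tt N45582 D77669) (tt N45583 D77670) (tt N25289 F317927) (tt N34110 (iv3 F86762)) (tt N19120 F301139) (tt N17995 (iv5 F318949)) (tt N11637 (iv6 D35460)) (tt N25292 F317928))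
theorem Q23580 : ∀ i, i < 23580 → P i := stepQ 23579 Q23579 (allL N23579 (tt N45584 D77683) (tt N45585 D77684) (tt N25290 F321019) (tt N45580 (iv3 F116563)) (tt N23640 (iv4 F322691)) (tt N11638 (iv5 D35463)) (tt N17995 F321020) (tt N45586 D77686))
theorem Q23581 : ∀ i, i < 23581 → P i := stepQ 23580 Q23580 (allL N23580 (tt N25365 (iv1 F116694)) (tt N25501 (iv0 F116691)) (tt N25502 (iv2 F116668)) (tt N45581 (iv3 F116564)) (tt N12306 F116664) (tt N45586 (iv5 F116568)) (tt N34713 (iv6 F299422)) (tt N11638 (iv7 D35464)))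
theorem Q23582 : ∀ i, i < 23582 → P i := stepQ 23581 Q23581 (allL N23581 (tt N12192 F57353) (tt N27957 F72366) (tt N12424 F56163) (tt N11639 (iv3 D35465)) (tt N45305 (iv4 F115110)) (tt N17600 F56164) (tt N45587 D77687) (tt N24110 (iv7 F57437)))
theorem Q23583 : ∀ i, i < 23583 → P i := stepQ 23582 Q23582 (allL N23582 (tt N45588 D77688) (tt N37071 (iv0 F306035)) (tt N24118 (iv2 F57448)) (tt N45587 (iv3 F116570)) (tt N24221 (iv4 F57796)) (tt N45589 D77690) (tt N11639 (iv6 D35466)) (tt N45590 D77691))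
theorem Q23584 : ∀ i, i < 23584 → P i := stepQ 23583 Q23583 (allL N23583 (tt N23433 (iv1 F312558)) (tt N44552 (iv0 F312556)) (tt N24112 (iv2 F57441)) (tt N12421 F56165) (tt N24215 (iv4 F57761)) (tt N23488 (iv5 F313450)) (tt N11640 (iv6 D35467)) (tt N44946 F311140))
theorem Q23585 : ∀ i, i < 23585 → P i := stepQ 23584 Q23584 (allL N23584 (tt N45533 (iv1 F116294)) (tt N11641 (iv0 D35470)) (tt N34242 F310819) (tt N45591 D77704) (tt N45592 D77705) (tt N42878 F320687) (tt N38916 F305930) (tt N45531 (iv7 F308714)))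
theorem Q23586 : ∀ i, i < 23586 → P i := stepQ 23585 Q23585 (allL N23585 (tt N11641 (iv1 D35471)) (tt N45533 F116293) (tt N45531 (iv2 F308713)) (tt N34168 F310117) (tt N45593 D77710) (tt N42879 F320680) (tt N45594 D77712) (tt N34242 F310118))
theorem Q23587 : ∀ i, i < 23587 → P i := stepQ 23586 Q23586 (allL N23586 (tt N45595 D77713) (tt N36152 (iv0 F323273)) (tt N45532 (iv2 F116288)) (tt N36124 F323259) (tt N20632 (iv4 F324663)) (tt N11641 (iv5 D35472)) (tt N11644 F56169) (tt N45596 D77716))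
theorem Q23588 : ∀ i, i < 23588 → P i := stepQ 23587 Q23587 (allL N23587 (tt N45531 (iv1 F116287)) (tt N34242 F310124) (tt N45533 (iv2 F116290)) (tt N43963 (iv3 F110326)) (tt N38304 F305931) (tt N45596 (iv5 F116588)) (tt N34721 (iv6 F88753)) (tt N11641 (iv7 D35473)))
theorem Q23589 : ∀ i, i < 23589 → P i := stepQ 23588 Q23588 (allL N23588 (tt N45597 D77723) (tt N45566 F311869) (tt N45598 D77725) (tt N11642 (iv3 D35475)) (tt N45599 D77726) (tt N41565 F325025) (tt N45600 D77728) (tt N45535 (iv7 F116901)))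
theorem Q23590 : ∀ i, i < 23590 → P i := stepQ 23589 Q23589 (allL N23589 (tt N15987 F324779) (tt N12148 (iv0 F118583)) (tt N12350 F116881) (tt N24325 F297955) (tt N11642 (iv4 D35476)) (tt N31304 F324780) (tt N24318 (iv6 F297990)) (tt N31149 (iv7 F324936)))
theorem Q23591 : ∀ i, i < 23591 → P i := stepQ 23590 Q23590 (allL N23590 (tt N45563 (iv1 F123485)) (tt N45563 F300418) (tt N38109 F305933) (tt N45600 (iv3 F116599)) (tt N24318 F300419) (tt N18895 F305934) (tt N11642 (iv6 D35478)) (tt N38109 F305935))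
theorem Q23592 : ∀ i, i < 23592 → P i := stepQ 23591 Q23591 (allL N23591 (tt N45579 F316557) (tt N45601 D77745) (tt N45602 D77746) (tt N11643 (iv3 D35480)) (tt N45603 D77747) (tt N45604 D77748) (tt N45535 (iv6 F302732)) (tt N45534 (iv7 F116894)))
theorem Q23593 : ∀ i, i < 23593 → P i := stepQ 23592 Q23592 (allL N23592 (tt N35499 F324085) (tt N41564 F324086) (tt N41566 F324087) (tt N45604 (iv3 F117125)) (tt N33554 (iv4 F324738)) (tt N11643 (iv5 D35482)) (tt N34355 (iv6 F325320)) (tt N33553 F324088))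
theorem Q23594 : ∀ i, i < 23594 → P i := stepQ 23593 Q23593 (allL N23593 (tt N41580 (iv1 F322789)) (tt N11644 (iv0 D35484)) (tt N45536 (iv2 F117140)) (tt N45605 D77759) (tt N40496 (iv4 F322785)) (tt N24120 F300393) (tt N45606 D77762) (tt N24119 F300394))
theorem Q23595 : ∀ i, i < 23595 → P i := stepQ 23594 Q23594 (allL N23594 (tt N11644 (iv1 D35485)) (tt N41580 (iv0 F322788)) (tt N24119 F299462) (tt N45607 D77764) (tt N40495 (iv4 F321955)) (tt N17601 F299463) (tt N45589 (iv6 F302370)) (tt N45536 (iv7 F117141)))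
theorem Q23596 : ∀ i, i < 23596 → P i := stepQ 23595 Q23595 (allL N23595 (tt N24119 F300392) (tt N45536 F116313) (tt N41580 (iv2 F322790)) (tt N43971 (iv3 F110330)) (tt N20501 (iv4 F322792)) (tt N11645 F56173) (tt N44123 (iv6 F322793)) (tt N11644 (iv7 D35487)))
theorem Q23597 : ∀ i, i < 23597 → P i := stepQ 23596 Q23596 (allL N23596 (tt N25979 (iv1 F118761)) (tt N11646 (iv0 D35494)) (tt N25981 (iv2 F118773)) (tt N11693 (iv3 F118685)) (tt N35181 (iv4 F301401)) (tt N15613 F326147) (tt N25421 (iv6 F118830)) (tt N25389 (iv7 F118768)))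
theorem Q23598 : ∀ i, i < 23598 → P i := stepQ 23597 Q23597 (allL N23597 (tt N25981 (iv1 F118772)) (tt N25389 (iv0 F118766)) (tt N11646 (iv2 D35496)) (tt N34455 (iv3 F121162)) (tt N17844 (iv4 F91361)) (tt N45608 D77783) (tt N27980 (iv6 F119030)) (tt N25979 (iv7 F118765)))
theorem Q23599 : ∀ i, i < 23599 → P i := stepQ 23598 Q23598 (allL N23598 (tt N17847 F56182) (tt N17838 (iv0 F56183)) (tt N17844 F91360) (tt N28077 F314155) (tt N11646 (iv4 D35497)) (tt N45609 D77786) (tt N25245 (iv6 F91577)) (tt N17845 F91359))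
theorem Q23600 : ∀ i, i < 23600 → P i := stepQ 23599 Q23599 (allL N23599 (tt N45610 D77787) (tt N45611 D77788) (tt N45608 (iv2 F117145)) (tt N11648 F56184) (tt N45612 D77789) (tt N11646 (iv5 D35498)) (tt N31107 (iv6 F325326)) (tt N20518 F324758))
theorem Q23601 : ∀ i, i < 23601 → P i := stepQ 23600 Q23600 (allL N23600 (tt N25469 (iv1 F123456)) (tt N35161 (iv0 F299274)) (tt N27980 (iv2 F119028)) (tt N11649 F56185) (tt N25245 F91576) (tt N24070 F297183) (tt N11646 (iv6 D35499)) (tt N24126 (iv7 F91366)))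
theorem Q23602 : ∀ i, i < 23602 → P i := stepQ 23601 Q23601 (allL N23601 (tt N11651 (iv1 F56191)) (tt N11647 (iv0 D35501)) (tt N31913 F324872) (tt N45613 D77794) (tt N15580 (iv4 F325330)) (tt N45513 (iv5 F300404)) (tt N24647 (iv6 F117829)) (tt N24502 (iv7 F117659)))
theorem Q23603 : ∀ i, i < 23603 → P i := stepQ 23602 Q23602 (allL N23602 (tt N45614 D77807) (tt N25163 (iv0 F322593)) (tt N20505 F322098) (tt N28799 F314154) (tt N16699 F322099) (tt N11647 (iv5 D35504)) (tt N40657 F308706) (tt N42884 (iv7 F323778)))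
theorem Q23604 : ∀ i, i < 23604 → P i := stepQ 23603 Q23603 (allL N23603 (tt N24862 (iv1 F118741)) (tt N24862 F302123) (tt N24132 (iv2 F303080)) (tt N28800 F309571) (tt N11649 F56188) (tt N19334 F304917) (tt N11647 (iv6 D35505)) (tt N24132 (iv7 F91377)))
theorem Q23605 : ∀ i, i < 23605 → P i := stepQ 23604 Q23604 (allL N23604 (tt N11650 (iv1 D35517)) (tt N34455 (iv0 F121160)) (tt N31971 F326161) (tt N11680 F116325) (tt N34910 F121120) (tt N31224 F326162) (tt N34463 (iv6 F121168)) (tt N23391 (iv7 F121164)))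
theorem Q23606 : ∀ i, i < 23606 → P i := stepQ 23605 Q23605 (allL N23605 (tt N23391 F121217) (tt N31971 F326641) (tt N11650 (iv2 D35518)) (tt N25979 (iv3 F118763)) (tt N17717 F121190) (tt N45615 D77828) (tt N25979 F298279) (tt N34455 (iv7 F121163)))
theorem Q23607 : ∀ i, i < 23607 → P i := stepQ 23606 Q23606 (allL N23606 (tt N17672 (iv1 F121093)) (tt N17719 F121074) (tt N17717 F121188) (tt N45616 D77831) (tt N11650 (iv4 D35519)) (tt N45617 D77832) (tt N17845 (iv6 F301572)) (tt N17716 F121189))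
theorem Q23608 : ∀ i, i < 23608 → P i := stepQ 23607 Q23607 (allL N23607 (tt N45618 D77834) (tt N45619 D77835) (tt N45615 (iv2 F117647)) (tt N11652 F56200) (tt N45620 D77836) (tt N11650 (iv5 D35520)) (tt N15935 (iv6 F325181)) (tt N45537 (iv7 F116330)))
theorem Q23609 : ∀ i, i < 23609 → P i := stepQ 23608 Q23608 (allL N23608 (tt N45552 (iv1 F198061)) (tt N45621 D77843) (tt N28801 F311763) (tt N11651 (iv3 D35522)) (tt N45616 (iv4 F117649)) (tt N45622 D77845) (tt N24800 F307524) (tt N45538 (iv7 F116335)))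
theorem Q23610 : ∀ i, i < 23610 → P i := stepQ 23609 Q23609 (allL N23609 (tt N25163 F323715) (tt N45614 F117632) (tt N42884 (iv2 F323777)) (tt N45622 (iv3 F117654)) (tt N20506 (iv4 F324992)) (tt N11651 (iv5 D35523)) (tt N22536 (iv6 F323867)) (tt N20505 F323716))
theorem Q23611 : ∀ i, i < 23611 → P i := stepQ 23610 Q23610 (allL N23610 (tt N15613 F326146) (tt N25980 (iv0 F118759)) (tt N45623 D77862) (tt N11653 (iv3 D35532)) (tt N45624 D77863) (tt N24093 (iv5 F298108)) (tt N45625 D77865) (tt N24092 F297251))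
theorem Q23612 : ∀ i, i < 23612 → P i := stepQ 23611 Q23611 (allL N23611 (tt N23553 F301741) (tt N23552 F301742) (tt N17566 F91533) (tt N45625 (iv3 F118756)) (tt N15584 F322385) (tt N17550 F56206) (tt N11653 (iv6 D35535)) (tt N11666 F301743))
theorem Q23613 : ∀ i, i < 23613 → P i := stepQ 23612 Q23612 (allL N23612 (tt N14481 F56215) (tt N23511 F56216) (tt N11656 F56214) (tt N34456 (iv3 F87590)) (tt N25311 (iv4 F60676)) (tt N11655 (iv5 D35547)) (tt N34456 F296050) (tt N25982 (iv7 F63816)))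
theorem Q23614 : ∀ i, i < 23614 → P i := stepQ 23613 Q23613 (allL N23613 (tt N11656 (iv1 D35548)) (tt N25982 (iv0 F63817)) (tt N23511 (iv2 F56220)) (tt N13086 (iv3 F56221)) (tt N45626 D77908) (tt N11902 F56219) (tt N15617 F325553) (tt N14481 F56218))
theorem Q23615 : ∀ i, i < 23615 → P i := stepQ 23614 Q23614 (allL N23614 (tt N17827 F56236) (tt N17825 F56237) (tt N11661 F56235) (tt N25982 (iv3 F63815)) (tt N34465 (iv4 F87612)) (tt N11660 (iv5 D35560)) (tt N45627 D77939) (tt N34456 (iv7 F87591)))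
theorem Q23616 : ∀ i, i < 23616 → P i := stepQ 23615 Q23615 (allL N23615 (tt N17828 F56238) (tt N17826 F56239) (tt N34465 F87614) (tt N30860 F326652) (tt N11661 (iv4 D35561)) (tt N45628 D77941) (tt N45629 D77942) (tt N34466 (iv7 F87616)))
theorem Q23617 : ∀ i, i < 23617 → P i := stepQ 23616 Q23616 (allL N23616 (tt N45630 D77943) (tt N45631 D77944) (tt N45627 (iv2 F119153)) (tt N11664 F56240) (tt N45629 (iv4 F119158)) (tt N23616 F56241) (tt N11661 (iv6 D35562)) (tt N34729 (iv7 F297398)))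
theorem Q23618 : ∀ i, i < 23618 → P i := stepQ 23617 Q23617 (allL N23617 (tt N11847 F56244) (tt N11820 F56245) (tt N11845 F56242) (tt N45632 D77946) (tt N11663 (iv4 D35563)) (tt N18959 (iv5 F320953)) (tt N34680 (iv6 F299680)) (tt N11755 F297536))
theorem Q23619 : ∀ i, i < 23619 → P i := stepQ 23618 Q23618 (allL N23618 (tt N11664 F301531) (tt N11664 (iv0 D35568)) (tt N31233 (iv2 F323452)) (tt N11729 F91279) (tt N18211 (iv4 F321758)) (tt N15625 (iv5 F323456)) (tt N20516 F321752) (tt N31233 (iv7 F323454)))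
theorem Q23620 : ∀ i, i < 23620 → P i := stepQ 23619 Q23619 (allL N23619 (tt N23393 F56251) (tt N23414 F56252) (tt N34458 F87599) (tt N31728 F326021) (tt N11665 (iv4 D35571)) (tt N45633 D77965) (tt N45634 D77966) (tt N34457 F87596))
theorem Q23621 : ∀ i, i < 23621 → P i := stepQ 23620 Q23620 (allL N23620 (tt N45635 D77967) (tt N45636 D77968) (tt N34838 (iv2 F90004)) (tt N11666 F56253) (tt N45634 (iv4 F119178)) (tt N17553 F56254) (tt N11665 (iv6 D35572)) (tt N45625 (iv7 F299033)))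
theorem Q23622 : ∀ i, i < 23622 → P i := stepQ 23621 Q23621 (allL N23621 (tt N17566 F301737) (tt N11666 (iv0 D35576)) (tt N23552 F91314) (tt N11737 F91311) (tt N18212 (iv4 F325050)) (tt N24105 (iv5 F303212)) (tt N15626 (iv6 F324765)) (tt N23553 F91312))
theorem Q23623 : ∀ i, i < 23623 → P i := stepQ 23622 Q23622 (allL N23622 (tt N11666 (iv1 D35577)) (tt N17566 F301738) (tt N23553 (iv2 F91313)) (tt N17574 F301739) (tt N30499 (iv4 F325051)) (tt N24085 (iv5 F57373)) (tt N23553 F301740) (tt N23552 (iv7 F91316)))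
theorem Q23624 : ∀ i, i < 23624 → P i := stepQ 23623 Q23623 (allL N23623 (tt N18196 F325966) (tt N11667 (iv0 D35585)) (tt N18200 F325967) (tt N35679 (iv3 F326790)) (tt N45637 D78004) (tt N37052 (iv5 F326085)) (tt N18188 (iv6 F326793)) (tt N18199 F325968))
theorem Q23625 : ∀ i, i < 23625 → P i := stepQ 23624 Q23624 (allL N23624 (tt N11667 (iv1 D35586)) (tt N18196 F325963) (tt N18199 F325964) (tt N45638 D78008) (tt N45639 D78009) (tt N37092 (iv5 F326086)) (tt N41220 (iv6 F326789)) (tt N18200 F325965))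
theorem Q23626 : ∀ i, i < 23626 → P i := stepQ 23625 Q23625 (allL N23625 (tt N18200 F325129) (tt N18199 F325130) (tt N11667 (iv2 D35587)) (tt N35772 F325131) (tt N11742 F56265) (tt N35936 F325132) (tt N35750 F325133) (tt N18196 F325134))
theorem Q23627 : ∀ i, i < 23627 → P i := stepQ 23626 Q23626 (allL N23626 (tt N45640 D78044) (tt N45641 D78045) (tt N18554 F56271) (tt N11668 (iv3 D35598)) (tt N25374 (iv4 F60840)) (tt N43601 (iv5 F109242)) (tt N24665 (iv6 F296729)) (tt N24572 (iv7 F59130)))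
theorem Q23628 : ∀ i, i < 23628 → P i := stepQ 23627 Q23627 (allL N23627 (tt N22964 F56274) (tt N23460 F56275) (tt N11671 F56272) (tt N43601 (iv3 F109241)) (tt N12564 F56273) (tt N11668 (iv5 D35599)) (tt N45642 D78047) (tt N23630 (iv7 F56290)))
theorem Q23629 : ∀ i, i < 23629 → P i := stepQ 23628 Q23628 (allL N23628 (tt N45643 D78059) (tt N45644 D78060) (tt N11674 F56279) (tt N23755 (iv3 F56466)) (tt N45645 D78061) (tt N11669 (iv5 D35603)) (tt N11891 F56280) (tt N26003 (iv7 F296735)))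
theorem Q23630 : ∀ i, i < 23630 → P i := stepQ 23629 Q23629 (allL N23629 (tt N45646 D78063) (tt N45647 D78064) (tt N45648 D78065) (tt N11670 (iv3 D35605)) (tt N24637 (iv4 F59231)) (tt N45435 (iv5 F115835)) (tt N24880 (iv6 F298711)) (tt N24568 (iv7 F59118)))
theorem Q23631 : ∀ i, i < 23631 → P i := stepQ 23630 Q23630 (allL N23630 (tt N12107 F56292) (tt N12146 F296229) (tt N12564 F56289) (tt N43768 (iv3 F109612)) (tt N11671 (iv4 D35608)) (tt N12182 F56291) (tt N45649 D78070) (tt N23627 F56290))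
theorem Q23632 : ∀ i, i < 23632 → P i := stepQ 23631 Q23631 (allL N23631 (tt N45650 D78071) (tt N45651 D78072) (tt N45642 (iv2 F119237)) (tt N18585 F56294) (tt N45649 (iv4 F119267)) (tt N45652 D78073) (tt N11671 (iv6 D35609)) (tt N45653 D78074))
theorem Q23633 : ∀ i, i < 23633 → P i := stepQ 23632 Q23632 (allL N23632 (tt N45654 D78084) (tt N45655 D78085) (tt N24666 F298125) (tt N18589 F56295) (tt N45656 D78086) (tt N11672 (iv5 D35612)) (tt N45652 (iv6 F119269)) (tt N24667 (iv7 F300611)))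
theorem Q23634 : ∀ i, i < 23634 → P i := stepQ 23633 Q23633 (allL N23633 (tt N25017 F298100) (tt N17643 (iv0 F125981)) (tt N25421 F298101) (tt N11673 (iv3 D35615)) (tt N34827 F89937) (tt N45657 D78097) (tt N25981 F298102) (tt N25417 F298103))
theorem Q23635 : ∀ i, i < 23635 → P i := stepQ 23634 Q23634 (allL N23634 (tt N12234 F298128) (tt N12232 F298129) (tt N12254 F298130) (tt N45658 D78102) (tt N11673 (iv4 D35616)) (tt N45659 D78103) (tt N12249 (iv6 F299362)) (tt N12164 F298131))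
theorem Q23636 : ∀ i, i < 23636 → P i := stepQ 23635 Q23635 (allL N23635 (tt N26005 F297221) (tt N26004 F297222) (tt N26007 F297223) (tt N45657 (iv3 F119284)) (tt N45660 D78108) (tt N11673 (iv5 D35617)) (tt N45661 D78109) (tt N14483 F297224))
theorem Q23637 : ∀ i, i < 23637 → P i := stepQ 23636 Q23636 (allL N23636 (tt N26003 F298018) (tt N11674 (iv0 D35624)) (tt N45643 (iv2 F119311)) (tt N45662 D78131) (tt N45663 D78132) (tt N34761 (iv5 F121394)) (tt N45664 D78134) (tt N45644 (iv7 F119309)))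
theorem Q23638 : ∀ i, i < 23638 → P i := stepQ 23637 Q23637 (allL N23637 (tt N11674 (iv1 D35625)) (tt N26003 F298019) (tt N45644 (iv2 F119308)) (tt N27284 (iv3 F120372)) (tt N45665 D78137) (tt N34762 (iv5 F121385)) (tt N34732 (iv6 F121378)) (tt N45643 (iv7 F119312)))
theorem Q23639 : ∀ i, i < 23639 → P i := stepQ 23638 Q23638 (allL N23638 (tt N45666 D78140) (tt N45667 D78141) (tt N45645 (iv2 F119250)) (tt N45668 D78142) (tt N11674 (iv4 D35626)) (tt N45669 D78143) (tt N11894 F56300) (tt N45670 D78144))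
theorem Q23640 : ∀ i, i < 23640 → P i := stepQ 23639 Q23639 (allL N23639 (tt N45644 (iv1 F119248)) (tt N45643 F119255) (tt N26003 F298020) (tt N11679 F56301) (tt N45670 (iv4 F119316)) (tt N11675 F56302) (tt N23476 F56303) (tt N11674 (iv7 D35627)))
theorem Q23641 : ∀ i, i < 23641 → P i := stepQ 23640 Q23640 (allL N23640 (tt N23797 F61321) (tt N31185 F323607) (tt N23770 (iv2 F56483)) (tt N34662 F301533) (tt N23579 F322691) (tt N11730 F56304) (tt N11676 (iv6 D35629)) (tt N34662 (iv7 F88469)))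
theorem Q23642 : ∀ i, i < 23642 → P i := stepQ 23641 Q23641 (allL N23641 (tt N45671 D78148) (tt N36488 (iv0 F333983)) (tt N45672 D78150) (tt N11678 (iv3 D35631)) (tt N45668 (iv4 F119314)) (tt N45673 D78151) (tt N11895 F56306) (tt N45674 D78152))
theorem Q23643 : ∀ i, i < 23643 → P i := stepQ 23642 Q23642 (allL N23642 (tt N24816 (iv1 F315310)) (tt N18866 (iv0 F316412)) (tt N23768 (iv2 F56476)) (tt N45673 (iv3 F119325)) (tt N19044 (iv4 F316584)) (tt N11678 (iv5 D35632)) (tt N24042 (iv6 F57203)) (tt N38031 (iv7 F315312)))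
theorem Q23644 : ∀ i, i < 23644 → P i := stepQ 23643 Q23643 (allL N23643 (tt N17994 (iv1 F56309)) (tt N17991 F56310) (tt N23769 (iv2 F56478)) (tt N45674 (iv3 F119326)) (tt N11679 F56307) (tt N38031 F316577) (tt N23491 F56308) (tt N11678 (iv7 D35633)))
theorem Q23645 : ∀ i, i < 23645 → P i := stepQ 23644 Q23644 (allL N23644 (tt N35262 F91784) (tt N45413 (iv0 F121307)) (tt N34630 (iv2 F119363)) (tt N45675 D78161) (tt N11680 (iv4 D35636)) (tt N45676 D78162) (tt N12295 (iv6 F298924)) (tt N25359 (iv7 F121255)))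
theorem Q23646 : ∀ i, i < 23646 → P i := stepQ 23645 Q23645 (allL N23645 (tt N25975 F296604) (tt N11704 (iv0 F121274)) (tt N27996 F296605) (tt N31224 (iv3 F325231)) (tt N45677 D78167) (tt N11680 (iv5 D35637)) (tt N31222 F323956) (tt N24046 (iv7 F121256)))
theorem Q23647 : ∀ i, i < 23647 → P i := stepQ 23646 Q23646 (allL N23646 (tt N24581 (iv1 F117750)) (tt N24569 (iv0 F117854)) (tt N11682 F56313) (tt N45678 D78186) (tt N11681 (iv4 D35644)) (tt N45679 D78187) (tt N24870 (iv6 F298406)) (tt N24579 (iv7 F117746)))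
theorem Q23648 : ∀ i, i < 23648 → P i := stepQ 23647 Q23647 (allL N23647 (tt N34634 (iv1 F88338)) (tt N34633 F88337) (tt N11683 F56314) (tt N25413 (iv3 F118826)) (tt N45680 D78189) (tt N11681 (iv5 D35645)) (tt N26005 F297259) (tt N34631 (iv7 F88328)))
theorem Q23649 : ∀ i, i < 23649 → P i := stepQ 23648 Q23648 (allL N23648 (tt N24579 (iv1 F117743)) (tt N11682 (iv0 D35647)) (tt N24581 (iv2 F118591)) (tt N45681 D78191) (tt N24411 F298287) (tt N45682 D78192) (tt N24410 F298288) (tt N24569 (iv7 F118593)))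
theorem Q23650 : ∀ i, i < 23650 → P i := stepQ 23649 Q23649 (allL N23649 (tt N43727 F190665) (tt N18582 F190666) (tt N43724 (iv2 F190659)) (tt N11682 (iv3 D35649)) (tt N11685 F56317) (tt N45683 D78196) (tt N45684 D78197) (tt N21734 F56318))
theorem Q23651 : ∀ i, i < 23651 → P i := stepQ 23650 Q23650 (allL N23650 (tt N36570 F319545) (tt N45685 D78199) (tt N45679 (iv2 F119392)) (tt N45683 (iv3 F119404)) (tt N45686 D78200) (tt N11682 (iv5 D35650)) (tt N45687 D78201) (tt N34632 (iv7 F88335)))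
theorem Q23652 : ∀ i, i < 23652 → P i := stepQ 23651 Q23651 (allL N23651 (tt N24872 F300669) (tt N24567 (iv0 F300725)) (tt N24870 F300670) (tt N45684 (iv3 F119406)) (tt N11684 F56319) (tt N24469 F300671) (tt N11682 (iv6 D35651)) (tt N24177 (iv7 F57609)))
theorem Q23653 : ∀ i, i < 23653 → P i := stepQ 23652 Q23652 (allL N23652 (tt N34631 (iv1 F88330)) (tt N11683 (iv0 D35652)) (tt N34634 (iv2 F121370)) (tt N45619 (iv3 F123182)) (tt N45688 D78207) (tt N13975 F298272) (tt N23469 (iv6 F121313)) (tt N34633 (iv7 F121389)))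
theorem Q23654 : ∀ i, i < 23654 → P i := stepQ 23653 Q23653 (allL N23653 (tt N11683 (iv1 D35653)) (tt N34631 F88329) (tt N34633 (iv2 F121387)) (tt N45689 D78211) (tt N45690 D78212) (tt N13976 F297271) (tt N34657 (iv6 F121373)) (tt N34634 (iv7 F121371)))
theorem Q23655 : ∀ i, i < 23655 → P i := stepQ 23654 Q23654 (allL N23654 (tt N45691 D78215) (tt N45692 D78216) (tt N45680 (iv2 F119395)) (tt N45693 D78217) (tt N11683 (iv4 D35654)) (tt N45694 D78218) (tt N24685 F302212) (tt N34635 (iv7 F88339)))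
theorem Q23656 : ∀ i, i < 23656 → P i := stepQ 23655 Q23655 (allL N23655 (tt N14483 F297217) (tt N26007 F297218) (tt N26005 F297219) (tt N11691 F56320) (tt N24685 (iv4 F299333)) (tt N17597 F56321) (tt N11683 (iv6 D35655)) (tt N26004 F297220))
theorem Q23657 : ∀ i, i < 23657 → P i := stepQ 23656 Q23656 (allL N23656 (tt N24170 (iv1 F57601)) (tt N11684 (iv0 D35656)) (tt N24176 (iv2 F121411)) (tt N35161 (iv3 F121417)) (tt N45695 D78224) (tt N24175 (iv5 F121418)) (tt N24807 F298121) (tt N24175 (iv7 F121415)))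
theorem Q23658 : ∀ i, i < 23658 → P i := stepQ 23657 Q23657 (allL N23657 (tt N11684 (iv1 D35657)) (tt N24170 F57600) (tt N24175 (iv2 F121414)) (tt N24193 F298245) (tt N12289 (iv4 F299434)) (tt N24176 (iv5 F121392)) (tt N12287 F298246) (tt N24176 (iv7 F121412)))
theorem Q23659 : ∀ i, i < 23659 → P i := stepQ 23658 Q23658 (allL N23658 (tt N18574 F189916) (tt N11685 (iv0 D35658)) (tt N18576 F189917) (tt N45696 D78233) (tt N45697 D78234) (tt N45698 D78235) (tt N18567 (iv6 F189958)) (tt N18552 F189918))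
theorem Q23660 : ∀ i, i < 23660 → P i := stepQ 23659 Q23659 (allL N23659 (tt N18576 F190002) (tt N18552 (iv0 F190013)) (tt N11685 (iv2 D35660)) (tt N21728 F56323) (tt N43724 (iv4 F190660)) (tt N45699 D78242) (tt N45700 D78243) (tt N18574 F189919))
theorem Q23661 : ∀ i, i < 23661 → P i := stepQ 23660 Q23660 (allL N23660 (tt N45701 D78244) (tt N45702 D78245) (tt N45699 (iv2 F119421)) (tt N11686 F56328) (tt N25762 F305353) (tt N11685 (iv5 D35661)) (tt N22670 F307269) (tt N21735 F56329))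
theorem Q23662 : ∀ i, i < 23662 → P i := stepQ 23661 Q23661 (allL N23661 (tt N40752 F322950) (tt N40756 F322951) (tt N45700 (iv2 F119426)) (tt N11687 F56330) (tt N45684 (iv4 F119407)) (tt N21877 (iv5 F56331)) (tt N11685 (iv6 D35662)) (tt N24186 (iv7 F57650)))
theorem Q23663 : ∀ i, i < 23663 → P i := stepQ 23662 Q23662 (allL N23662 (tt N11699 (iv1 F56333)) (tt N11686 (iv0 D35663)) (tt N21732 (iv2 F56334)) (tt N24216 F301898) (tt N30683 F307211) (tt N17437 F56332) (tt N36370 F130826) (tt N21733 (iv7 F56335)))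
theorem Q23664 : ∀ i, i < 23664 → P i := stepQ 23663 Q23663 (allL N23663 (tt N11686 (iv1 D35664)) (tt N11699 F56336) (tt N21733 (iv2 F56340)) (tt N42785 (iv3 F155254)) (tt N30684 F307208) (tt N21818 F56338) (tt N21708 F56339) (tt N21732 F56337))
theorem Q23665 : ∀ i, i < 23665 → P i := stepQ 23664 Q23664 (allL N23664 (tt N12367 F56348) (tt N12365 F56349) (tt N34627 (iv2 F88306)) (tt N45703 D78257) (tt N11688 (iv4 D35668)) (tt N45704 D78258) (tt N23485 F56347) (tt N34628 (iv7 F88313)))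
theorem Q23666 : ∀ i, i < 23666 → P i := stepQ 23665 Q23665 (allL N23665 (tt N12365 F56350) (tt N12367 F56351) (tt N34628 (iv2 F88311)) (tt N41583 F321754) (tt N11689 (iv4 D35670)) (tt N45606 (iv5 F321960)) (tt N34663 (iv6 F88474)) (tt N34627 (iv7 F88308)))
theorem Q23667 : ∀ i, i < 23667 → P i := stepQ 23666 Q23666 (allL N23666 (tt N11701 (iv1 F56353)) (tt N11690 (iv0 D35671)) (tt N23109 (iv2 F56354)) (tt N45705 D78261) (tt N17438 F56352) (tt N45706 D78262) (tt N23112 (iv6 F56355)) (tt N24976 (iv7 F60033)))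
theorem Q23668 : ∀ i, i < 23668 → P i := stepQ 23667 Q23667 (allL N23667 (tt N11690 (iv1 D35672)) (tt N11701 F56356) (tt N24976 (iv2 F60032)) (tt N45707 D78263) (tt N17859 F56358) (tt N45708 D78264) (tt N23828 (iv6 F56562)) (tt N23109 F56357))
theorem Q23669 : ∀ i, i < 23669 → P i := stepQ 23668 Q23668 (allL N23668 (tt N45709 D78265) (tt N45710 D78266) (tt N45711 D78267) (tt N11690 (iv3 D35673)) (tt N45693 (iv4 F119413)) (tt N45712 D78268) (tt N45713 D78269) (tt N34636 (iv7 F88344)))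
theorem Q23670 : ∀ i, i < 23670 → P i := stepQ 23669 Q23669 (allL N23669 (tt N24994 (iv1 F60083)) (tt N17866 F56359) (tt N24991 F60075) (tt N45712 (iv3 F119465)) (tt N22541 F309325) (tt N11690 (iv5 D35674)) (tt N45714 D78270) (tt N22538 F309326))
theorem Q23671 : ∀ i, i < 23671 → P i := stepQ 23670 Q23670 (allL N23670 (tt N17989 (iv1 F56362)) (tt N17985 (iv0 F56361)) (tt N24206 (iv2 F57696)) (tt N45713 (iv3 F119466)) (tt N11691 F56360) (tt N44766 F319788) (tt N11690 (iv6 D35675)) (tt N25277 (iv7 F60634)))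
theorem Q23672 : ∀ i, i < 23672 → P i := stepQ 23671 Q23671 (allL N23671 (tt N25409 F119014) (tt N25408 F119067) (tt N25411 (iv2 F118807)) (tt N45715 D78272) (tt N11693 (iv4 D35684)) (tt N45716 D78273) (tt N25429 F119066) (tt N25391 (iv7 F118777)))
theorem Q23673 : ∀ i, i < 23673 → P i := stepQ 23672 Q23672 (allL N23672 (tt N11707 F118794) (tt N25414 F118795) (tt N25416 (iv2 F118808)) (tt N15613 (iv3 F325221)) (tt N45717 D78274) (tt N11693 (iv5 D35685)) (tt N15610 F323933) (tt N24029 F118796))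
theorem Q23674 : ∀ i, i < 23674 → P i := stepQ 23673 Q23673 (allL N23673 (tt N17699 F121186) (tt N25273 (iv0 F297804)) (tt N11695 F56366) (tt N45718 D78276) (tt N11694 (iv4 D35687)) (tt N21798 (iv5 F310560)) (tt N24917 F297722) (tt N25412 (iv7 F118823)))
theorem Q23675 : ∀ i, i < 23675 → P i := stepQ 23674 Q23674 (allL N23674 (tt N34625 (iv1 F88301)) (tt N34624 F88300) (tt N11696 F56367) (tt N34631 (iv3 F88327)) (tt N45719 D78279) (tt N11694 (iv5 D35688)) (tt N45720 D78280) (tt N25413 (iv7 F118827)))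
theorem Q23676 : ∀ i, i < 23676 → P i := stepQ 23675 Q23675 (allL N23675 (tt N13767 F296869) (tt N25474 (iv0 F122685)) (tt N11697 F56368) (tt N24615 (iv3 F297796)) (tt N24917 (iv4 F297600)) (tt N45721 D78283) (tt N11694 (iv6 D35689)) (tt N24943 F296870))
theorem Q23677 : ∀ i, i < 23677 → P i := stepQ 23676 Q23676 (allL N23676 (tt N11695 (iv1 D35691)) (tt N25412 (iv0 F118820)) (tt N25273 (iv2 F297806)) (tt N45722 D78290) (tt N17703 (iv4 F121053)) (tt N45723 D78291) (tt N24237 F297724) (tt N17699 (iv7 F121051)))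
theorem Q23678 : ∀ i, i < 23678 → P i := stepQ 23677 Q23677 (allL N23677 (tt N25444 F85910) (tt N45724 D78293) (tt N45725 D78294) (tt N11695 (iv3 D35692)) (tt N11698 F56369) (tt N42681 (iv5 F309467)) (tt N24946 F300063) (tt N21729 F56370))
theorem Q23679 : ∀ i, i < 23679 → P i := stepQ 23678 Q23678 (allL N23678 (tt N21800 (iv1 F311345)) (tt N18512 (iv0 F311336)) (tt N21798 (iv2 F310559)) (tt N42681 (iv3 F309466)) (tt N38375 (iv4 F310809)) (tt N11695 (iv5 D35693)) (tt N38374 (iv6 F310810)) (tt N21799 (iv7 F309471)))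
theorem Q23680 : ∀ i, i < 23680 → P i := stepQ 23679 Q23679 (allL N23679 (tt N25413 (iv1 F118824)) (tt N11696 (iv0 D35695)) (tt N34625 (iv2 F119064)) (tt N23472 F296895) (tt N45726 D78306) (tt N23470 F296896) (tt N45727 D78308) (tt N34624 F119063))
theorem Q23681 : ∀ i, i < 23681 → P i := stepQ 23680 Q23680 (allL N23680 (tt N11696 (iv1 D35696)) (tt N25413 F118839) (tt N34624 F119060) (tt N45610 F119080) (tt N45728 D78309) (tt N23504 F118840) (tt N45729 D78310) (tt N34625 (iv7 F119062)))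
theorem Q23682 : ∀ i, i < 23682 → P i := stepQ 23681 Q23681 (allL N23681 (tt N45386 F299826) (tt N45730 D78312) (tt N45719 (iv2 F119474)) (tt N45731 D78313) (tt N11696 (iv4 D35697)) (tt N45732 D78314) (tt N45733 D78315) (tt N34626 (iv7 F88302)))
theorem Q23683 : ∀ i, i < 23683 → P i := stepQ 23682 Q23682 (allL N23682 (tt N45734 D78316) (tt N25479 (iv0 F119072)) (tt N45720 (iv2 F119475)) (tt N11702 F56372) (tt N45733 (iv4 F119524)) (tt N31353 F323048) (tt N11696 (iv6 D35698)) (tt N31311 F323049))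
theorem Q23684 : ∀ i, i < 23684 → P i := stepQ 23683 Q23683 (allL N23683 (tt N11697 (iv1 D35700)) (tt N24943 F296512) (tt N25474 (iv2 F124471)) (tt N31971 F326122) (tt N45735 D78325) (tt N24036 F119485) (tt N25375 (iv6 F119486)) (tt N13767 F296513))
theorem Q23685 : ∀ i, i < 23685 → P i := stepQ 23684 Q23684 (allL N23684 (tt N45689 F297460) (tt N45729 (iv0 F119522)) (tt N45721 (iv2 F119478)) (tt N11703 F56373) (tt N45736 D78327) (tt N11697 (iv5 D35701)) (tt N31353 F323050) (tt N34611 (iv7 F297858)))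
theorem Q23686 : ∀ i, i < 23686 → P i := stepQ 23685 Q23685 (allL N23685 (tt N11698 (iv1 D35704)) (tt N21728 F56380) (tt N21727 (iv2 F189992)) (tt N45737 D78334) (tt N45738 D78335) (tt N45739 D78336) (tt N21629 F191154) (tt N14864 F189894))
theorem Q23687 : ∀ i, i < 23687 → P i := stepQ 23686 Q23686 (allL N23686 (tt N14864 F189991) (tt N21727 F56379) (tt N11698 (iv2 D35705)) (tt N18574 F189921) (tt N45725 (iv4 F119494)) (tt N21976 F307093) (tt N45740 D78339) (tt N21728 F56378))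
theorem Q23688 : ∀ i, i < 23688 → P i := stepQ 23687 Q23687 (allL N23687 (tt N25450 F305828) (tt N45741 D78344) (tt N45740 (iv2 F119556)) (tt N11700 F56384) (tt N24946 F302572) (tt N45241 F307151) (tt N11698 (iv6 D35707)) (tt N34612 (iv7 F302646)))
theorem Q23689 : ∀ i, i < 23689 → P i := stepQ 23688 Q23688 (allL N23688 (tt N22834 (iv1 F307225)) (tt N22833 (iv0 F307227)) (tt N21737 F56385) (tt N45229 (iv3 F302971)) (tt N11699 (iv4 D35708)) (tt N22541 (iv5 F307312)) (tt N22830 F305335) (tt N15232 (iv7 F307311)))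
theorem Q23690 : ∀ i, i < 23690 → P i := stepQ 23689 Q23689 (allL N23689 (tt N18615 (iv1 F56392)) (tt N11700 (iv0 D35709)) (tt N18616 (iv2 F56390)) (tt N45742 D78348) (tt N17669 F300674) (tt N15256 F56387) (tt N11821 F300675) (tt N14873 F56391))
theorem Q23691 : ∀ i, i < 23691 → P i := stepQ 23690 Q23690 (allL N23690 (tt N21802 F56395) (tt N21801 F56396) (tt N21739 F56394) (tt N45241 (iv3 F306993)) (tt N37633 (iv4 F305212)) (tt N11700 (iv5 D35710)) (tt N25436 F305050) (tt N34613 (iv7 F302905)))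
theorem Q23692 : ∀ i, i < 23692 → P i := stepQ 23691 Q23691 (allL N23691 (tt N45743 D78349) (tt N45744 D78350) (tt N45745 D78351) (tt N11701 (iv3 D35712)) (tt N45731 (iv4 F119523)) (tt N45746 D78352) (tt N45747 D78353) (tt N34629 (iv7 F88316)))
theorem Q23693 : ∀ i, i < 23693 → P i := stepQ 23692 Q23692 (allL N23692 (tt N17866 F56402) (tt N24994 F60082) (tt N22538 F311373) (tt N45746 (iv3 F119570)) (tt N17313 F311374) (tt N11701 (iv5 D35713)) (tt N17312 (iv6 F313770)) (tt N24991 F60076))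
theorem Q23694 : ∀ i, i < 23694 → P i := stepQ 23693 Q23693 (allL N23693 (tt N25060 F60239) (tt N18000 (iv0 F56404)) (tt N25322 F60696) (tt N45747 (iv3 F119571)) (tt N11702 F56403) (tt N34377 (iv5 F316316)) (tt N11701 (iv6 D35714)) (tt N25323 (iv7 F60701)))
theorem Q23695 : ∀ i, i < 23695 → P i := stepQ 23694 Q23694 (allL N23694 (tt N23116 F56407) (tt N23112 F56408) (tt N34614 (iv2 F302668)) (tt N45748 D78361) (tt N11703 (iv4 D35717)) (tt N37224 F314100) (tt N31354 F319445) (tt N25050 F60221))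
theorem Q23696 : ∀ i, i < 23696 → P i := stepQ 23695 Q23695 (allL N23695 (tt N27996 F296600) (tt N24046 (iv0 F120872)) (tt N11704 (iv2 D35720)) (tt N25414 (iv3 F118095)) (tt N45749 D78373) (tt N25976 (iv5 F296891)) (tt N23978 F57097) (tt N25975 F296601))
theorem Q23697 : ∀ i, i < 23697 → P i := stepQ 23696 Q23696 (allL N23696 (tt N31893 F326152) (tt N24587 (iv0 F118572)) (tt N45749 (iv2 F119579)) (tt N45750 D78376) (tt N11704 (iv4 D35721)) (tt N45751 D78377) (tt N23984 (iv6 F57102)) (tt N27997 (iv7 F298053)))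
theorem Q23698 : ∀ i, i < 23698 → P i := stepQ 23697 Q23697 (allL N23697 (tt N21373 F336338) (tt N45489 F336339) (tt N45752 D78383) (tt N11705 (iv3 D35723)) (tt N45750 (iv4 F119584)) (tt N45753 D78384) (tt N23994 (iv6 F57125)) (tt N24984 (iv7 F60066)))
theorem Q23699 : ∀ i, i < 23699 → P i := stepQ 23698 Q23698 (allL N23698 (tt N45754 D78385) (tt N44929 (iv0 F114129)) (tt N24983 (iv2 F60064)) (tt N45753 (iv3 F119588)) (tt N12468 (iv4 F311426)) (tt N11705 (iv5 D35724)) (tt N12467 (iv6 F311428)) (tt N24985 (iv7 F60068)))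
theorem Q23700 : ∀ i, i < 23700 → P i := stepQ 23699 Q23699 (allL N23699 (tt N24029 (iv1 F118524)) (tt N25416 (iv0 F118520)) (tt N11707 (iv2 D35727)) (tt N25975 (iv3 F296271)) (tt N44629 (iv4 F296336)) (tt N12710 F296054) (tt N12711 F296055) (tt N25414 (iv7 F118096)))
theorem Q23701 : ∀ i, i < 23701 → P i := stepQ 23700 Q23700 (allL N23700 (tt N44937 (iv1 F297381)) (tt N35908 F326136) (tt N44629 F296379) (tt N45755 D78391) (tt N11707 (iv4 D35728)) (tt N45756 D78392) (tt N23942 F296380) (tt N34637 (iv7 F88363)))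
theorem Q23702 : ∀ i, i < 23702 → P i := stepQ 23701 Q23701 (allL N23701 (tt N45757 D78396) (tt N45758 D78397) (tt N45759 D78398) (tt N11708 (iv3 D35730)) (tt N45755 (iv4 F119595)) (tt N45760 D78399) (tt N23946 F299710) (tt N24982 (iv7 F60063)))
theorem Q23703 : ∀ i, i < 23703 → P i := stepQ 23702 Q23702 (allL N23702 (tt N44929 (iv1 F114130)) (tt N45754 F119591) (tt N24985 (iv2 F60067)) (tt N45760 (iv3 F119597)) (tt N35454 (iv4 F311429)) (tt N11708 (iv5 D35731)) (tt N36213 F321553) (tt N24983 (iv7 F60065)))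
theorem Q23704 : ∀ i, i < 23704 → P i := stepQ 23703 Q23703 (allL N23703 (tt N45761 D78406) (tt N45402 (iv0 F339259)) (tt N45762 D78408) (tt N11709 (iv3 D35734)) (tt N45763 D78409) (tt N45764 D78410) (tt N25043 (iv6 F60203)) (tt N34640 (iv7 F88375)))
theorem Q23705 : ∀ i, i < 23705 → P i := stepQ 23704 Q23704 (allL N23704 (tt N45765 D78411) (tt N45766 D78412) (tt N34639 (iv2 F88373)) (tt N45764 (iv3 F119607)) (tt N36647 F311367) (tt N11709 (iv5 D35735)) (tt N12470 (iv6 F313767)) (tt N34641 (iv7 F88377)))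
theorem Q23706 : ∀ i, i < 23706 → P i := stepQ 23705 Q23705 (allL N23705 (tt N25351 F338773) (tt N45767 D78415) (tt N45768 D78416) (tt N11710 (iv3 D35736)) (tt N45769 D78417) (tt N18340 F318569) (tt N34619 F301441) (tt N34638 (iv7 F88372)))
theorem Q23707 : ∀ i, i < 23707 → P i := stepQ 23706 Q23706 (allL N23706 (tt N45766 (iv1 F119612)) (tt N45765 F119609) (tt N34641 (iv2 F88376)) (tt N18340 (iv3 F316306)) (tt N18375 F316242) (tt N11710 (iv5 D35737)) (tt N18334 (iv6 F316254)) (tt N34639 (iv7 F88374)))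
theorem Q23708 : ∀ i, i < 23708 → P i := stepQ 23707 Q23707 (allL N23707 (tt N35747 F325661) (tt N11711 (iv0 D35739)) (tt N35756 (iv2 F326492)) (tt N45770 D78424) (tt N45771 D78425) (tt N45772 D78426) (tt N45773 D78427) (tt N35755 (iv7 F326489)))
theorem Q23709 : ∀ i, i < 23709 → P i := stepQ 23708 Q23708 (allL N23708 (tt N11711 (iv1 D35740)) (tt N35747 F325660) (tt N35755 (iv2 F326488)) (tt N45774 D78429) (tt N31900 (iv4 F326490)) (tt N45775 D78431) (tt N35777 (iv6 F326491)) (tt N35756 (iv7 F326493)))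
theorem Q23710 : ∀ i, i < 23710 → P i := stepQ 23709 Q23709 (allL N23709 (tt N35756 F325125) (tt N35755 F325126) (tt N11711 (iv2 D35741)) (tt N34644 (iv3 F88380)) (tt N35750 F325127) (tt N45776 D78435) (tt N11742 F56416) (tt N35747 F325128))
theorem Q23711 : ∀ i, i < 23711 → P i := stepQ 23710 Q23710 (allL N23710 (tt N45777 D78436) (tt N45778 D78437) (tt N45776 (iv2 F119626)) (tt N11712 F56417) (tt N45779 D78438) (tt N11711 (iv5 D35742)) (tt N45780 D78439) (tt N35757 F325670))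
theorem Q23712 : ∀ i, i < 23712 → P i := stepQ 23711 Q23711 (allL N23711 (tt N34647 (iv1 F88401)) (tt N11712 (iv0 D35744)) (tt N34646 F88385) (tt N45781 D78442) (tt N22576 F305287) (tt N12365 F56419) (tt N45782 D78443) (tt N22573 (iv7 F307246)))
theorem Q23713 : ∀ i, i < 23713 → P i := stepQ 23712 Q23712 (allL N23712 (tt N11712 (iv1 D35745)) (tt N34647 F88400) (tt N22573 F309162) (tt N45783 D78444) (tt N17329 F309163) (tt N12367 F56420) (tt N17328 (iv6 F311364)) (tt N34646 F88386))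
theorem Q23714 : ∀ i, i < 23714 → P i := stepQ 23713 Q23713 (allL N23713 (tt N22541 F309232) (tt N17313 (iv0 F309336)) (tt N22539 (iv2 F309333)) (tt N45784 D78446) (tt N11712 (iv4 D35746)) (tt N34329 (iv5 F87233)) (tt N25144 (iv6 F311448)) (tt N22540 (iv7 F309332)))
theorem Q23715 : ∀ i, i < 23715 → P i := stepQ 23714 Q23714 (allL N23714 (tt N45785 D78448) (tt N25212 (iv0 F311444)) (tt N31279 F319478) (tt N45780 (iv3 F119627)) (tt N25144 (iv4 F311447)) (tt N11745 F56421) (tt N11712 (iv6 D35747)) (tt N45786 D78450))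
theorem Q23716 : ∀ i, i < 23716 → P i := stepQ 23715 Q23715 (allL N23715 (tt N22573 F309182) (tt N34646 F88387) (tt N34647 (iv2 F88397)) (tt N35757 (iv3 F324567)) (tt N22540 (iv4 F309331)) (tt N11713 F56422) (tt N45787 D78451) (tt N11712 (iv7 D35748)))
theorem Q23717 : ∀ i, i < 23717 → P i := stepQ 23716 Q23716 (allL N23716 (tt N24892 (iv1 F59871)) (tt N31050 F327201) (tt N11717 F56430) (tt N45788 D78454) (tt N11715 (iv4 D35751)) (tt N45789 D78455) (tt N24894 F295967) (tt N34651 (iv7 F88430)))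
theorem Q23718 : ∀ i, i < 23718 → P i := stepQ 23717 Q23717 (allL N23717 (tt N26762 F296124) (tt N45406 F115750) (tt N23477 F56432) (tt N45790 D78459) (tt N11716 (iv4 D35753)) (tt N45791 D78460) (tt N45792 D78461) (tt N23479 F56433))
theorem Q23719 : ∀ i, i < 23719 → P i := stepQ 23718 Q23718 (allL N23718 (tt N31310 F323906) (tt N45793 D78463) (tt N23478 F56434) (tt N27288 (iv3 F70015)) (tt N45792 (iv4 F119654)) (tt N24048 (iv5 F57227)) (tt N11716 (iv6 D35754)) (tt N45794 D78464))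
theorem Q23720 : ∀ i, i < 23720 → P i := stepQ 23719 Q23719 (allL N23719 (tt N34651 (iv1 F88432)) (tt N11717 (iv0 D35755)) (tt N24892 (iv2 F59868)) (tt N31057 F326232) (tt N23438 F56435) (tt N45795 D78466) (tt N24882 (iv6 F296592)) (tt N31050 (iv7 F326397)))
theorem Q23721 : ∀ i, i < 23721 → P i := stepQ 23720 Q23720 (allL N23720 (tt N11717 (iv1 D35756)) (tt N34651 (iv0 F88431)) (tt N31050 (iv2 F326396)) (tt N45796 D78468) (tt N23046 F56436) (tt N45797 D78469) (tt N31048 F326135) (tt N24892 (iv7 F59869)))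
theorem Q23722 : ∀ i, i < 23722 → P i := stepQ 23721 Q23721 (allL N23721 (tt N45798 D78471) (tt N45799 D78472) (tt N45800 D78473) (tt N11717 (iv3 D35757)) (tt N11719 F56437) (tt N45801 D78474) (tt N44702 (iv6 F296267)) (tt N34653 (iv7 F88441)))
theorem Q23723 : ∀ i, i < 23723 → P i := stepQ 23722 Q23722 (allL N23722 (tt N45468 (iv1 F115963)) (tt N44688 (iv0 F112869)) (tt N45789 (iv2 F119641)) (tt N45801 (iv3 F119675)) (tt N45802 D78476) (tt N11717 (iv5 D35758)) (tt N45803 D78477) (tt N34654 (iv7 F88442)))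
theorem Q23724 : ∀ i, i < 23724 → P i := stepQ 23723 Q23723 (allL N23723 (tt N34660 (iv1 F88451)) (tt N11719 (iv0 D35763)) (tt N34659 F257936) (tt N45804 D78492) (tt N45805 D78493) (tt N24038 (iv5 F254082)) (tt N45806 D78495) (tt N34658 F257937))
theorem Q23725 : ∀ i, i < 23725 → P i := stepQ 23724 Q23724 (allL N23724 (tt N11719 (iv1 D35764)) (tt N34660 F88453) (tt N34658 (iv2 F257932)) (tt N45807 D78497) (tt N45808 D78498) (tt N24039 (iv5 F254093)) (tt N45809 D78500) (tt N34659 (iv7 F257933)))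
theorem Q23726 : ∀ i, i < 23726 → P i := stepQ 23725 Q23725 (allL N23725 (tt N34659 (iv1 F88452)) (tt N34658 F88447) (tt N11719 (iv2 D35765)) (tt N34650 (iv3 F88403)) (tt N45800 (iv4 F119674)) (tt N34650 (iv5 F88404)) (tt N45810 D78501) (tt N34660 (iv7 F88450)))
theorem Q23727 : ∀ i, i < 23727 → P i := stepQ 23726 Q23726 (allL N23726 (tt N45811 D78502) (tt N45812 D78503) (tt N45810 (iv2 F119688)) (tt N11720 F56440) (tt N44702 F297201) (tt N36972 F323647) (tt N11719 (iv6 D35766)) (tt N34617 (iv7 F299314)))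
theorem Q23728 : ∀ i, i < 23728 → P i := stepQ 23727 Q23727 (allL N23727 (tt N11720 (iv1 D35768)) (tt N11844 F296935) (tt N23809 F92678) (tt N45813 D78508) (tt N13354 F92679) (tt N18868 (iv5 F322725)) (tt N45814 D78510) (tt N18867 F322585))
theorem Q23729 : ∀ i, i < 23729 → P i := stepQ 23728 Q23728 (allL N23728 (tt N11755 F67504) (tt N11845 F297196) (tt N11847 F297197) (tt N16047 (iv3 F324581)) (tt N11721 (iv4 D35775)) (tt N18845 (iv5 F322476)) (tt N16045 F323155) (tt N11820 F297198))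
theorem Q23730 : ∀ i, i < 23730 → P i := stepQ 23729 Q23729 (allL N23729 (tt N25610 (iv1 F61687)) (tt N45490 F116022) (tt N24025 (iv2 F57167)) (tt N45815 D78533) (tt N11722 (iv4 D35778)) (tt N45816 D78534) (tt N18176 F325585) (tt N24028 (iv7 F57177)))
theorem Q23731 : ∀ i, i < 23731 → P i := stepQ 23730 Q23730 (allL N23730 (tt N31950 F323071) (tt N45817 D78537) (tt N24026 (iv2 F57169)) (tt N15614 (iv3 F324473)) (tt N18176 (iv4 F324474)) (tt N25479 (iv5 F61202)) (tt N11722 (iv6 D35779)) (tt N15610 F323072))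
theorem Q23732 : ∀ i, i < 23732 → P i := stepQ 23731 Q23731 (allL N23731 (tt N25911 (iv1 F63590)) (tt N25910 (iv0 F63577)) (tt N11725 F56449) (tt N45818 D78538) (tt N11723 (iv4 D35780)) (tt N13912 F294092) (tt N45819 D78539) (tt N26743 (iv7 F67159)))
theorem Q23733 : ∀ i, i < 23733 → P i := stepQ 23732 Q23732 (allL N23732 (tt N45820 D78540) (tt N45727 (iv0 F119516)) (tt N11726 F56450) (tt N34652 (iv3 F88434)) (tt N45819 (iv4 F119715)) (tt N23732 F56451) (tt N11723 (iv6 D35781)) (tt N45821 D78541))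
theorem Q23734 : ∀ i, i < 23734 → P i := stepQ 23733 Q23733 (allL N23733 (tt N45495 (iv1 F116033)) (tt N45494 F116031) (tt N25478 (iv2 F61199)) (tt N45822 D78542) (tt N11724 (iv4 D35782)) (tt N45823 D78543) (tt N45824 D78544) (tt N25477 (iv7 F61198)))
theorem Q23735 : ∀ i, i < 23735 → P i := stepQ 23734 Q23734 (allL N23734 (tt N45720 F119476) (tt N31311 F323181) (tt N25479 (iv2 F61201)) (tt N14485 F56452) (tt N45824 (iv4 F119728)) (tt N24026 (iv5 F57170)) (tt N11724 (iv6 D35783)) (tt N45734 F119527))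
theorem Q23736 : ∀ i, i < 23736 → P i := stepQ 23735 Q23735 (allL N23735 (tt N26743 (iv1 F67161)) (tt N11725 (iv0 D35784)) (tt N25911 (iv2 F63587)) (tt N45825 D78545) (tt N13136 F56453) (tt N45826 D78546) (tt N35912 F325539) (tt N25910 (iv7 F63576)))
theorem Q23737 : ∀ i, i < 23737 → P i := stepQ 23736 Q23736 (allL N23736 (tt N11725 (iv1 D35785)) (tt N26743 (iv0 F67160)) (tt N25910 (iv2 F63575)) (tt N45827 D78548) (tt N12673 (iv4 F56454)) (tt N45828 D78549) (tt N45829 D78550) (tt N25911 (iv7 F63588)))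
theorem Q23738 : ∀ i, i < 23738 → P i := stepQ 23737 Q23737 (allL N23737 (tt N45830 D78551) (tt N45831 D78552) (tt N45832 D78553) (tt N11725 (iv3 D35786)) (tt N11727 F56455) (tt N45833 D78554) (tt N45834 D78555) (tt N26744 (iv7 F67181)))
theorem Q23739 : ∀ i, i < 23739 → P i := stepQ 23738 Q23738 (allL N23738 (tt N45835 D78556) (tt N45836 D78557) (tt N13912 F293338) (tt N45833 (iv3 F119739)) (tt N13822 F293339) (tt N11725 (iv5 D35787)) (tt N45837 D78558) (tt N26745 (iv7 F67182)))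
theorem Q23740 : ∀ i, i < 23740 → P i := stepQ 23739 Q23739 (allL N23739 (tt N45838 D78559) (tt N45839 D78560) (tt N45819 (iv2 F119714)) (tt N45834 (iv3 F119740)) (tt N11726 F56456) (tt N45840 D78561) (tt N11725 (iv6 D35788)) (tt N45841 D78562))
theorem Q23741 : ∀ i, i < 23741 → P i := stepQ 23740 Q23740 (allL N23740 (tt N45821 (iv1 F119725)) (tt N11726 (iv0 D35789)) (tt N45820 F119717) (tt N34657 F296835) (tt N45842 D78564) (tt N45843 D78565) (tt N45689 (iv6 F297127)) (tt N45727 (iv7 F119542)))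
theorem Q23742 : ∀ i, i < 23742 → P i := stepQ 23741 Q23741 (allL N23741 (tt N11726 (iv1 D35790)) (tt N45821 F119724) (tt N45727 (iv2 F119719)) (tt N45630 (iv3 F298414)) (tt N45844 D78567) (tt N45845 D78568) (tt N34625 (iv6 F119720)) (tt N45820 F119718))
theorem Q23743 : ∀ i, i < 23743 → P i := stepQ 23742 Q23742 (allL N23742 (tt N45727 (iv1 F119517)) (tt N45820 F119721) (tt N45821 (iv2 F119722)) (tt N11731 F56457) (tt N45841 (iv4 F119748)) (tt N23742 F56458) (tt N11843 F296052) (tt N11726 (iv7 D35791)))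
theorem Q23744 : ∀ i, i < 23744 → P i := stepQ 23743 Q23743 (allL N23743 (tt N34650 (iv1 F88406)) (tt N11727 (iv0 D35792)) (tt N34649 F254219) (tt N45846 D78570) (tt N45847 D78571) (tt N24053 (iv5 F250801)) (tt N45848 D78573) (tt N34648 F254220))
theorem Q23745 : ∀ i, i < 23745 → P i := stepQ 23744 Q23744 (allL N23744 (tt N11727 (iv1 D35793)) (tt N34650 F88408) (tt N34648 (iv2 F254213)) (tt N45849 D78575) (tt N45850 D78576) (tt N24054 (iv5 F250818)) (tt N45851 D78578) (tt N34649 (iv7 F254214)))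
theorem Q23746 : ∀ i, i < 23746 → P i := stepQ 23745 Q23745 (allL N23745 (tt N34649 (iv1 F88407)) (tt N34648 F88402) (tt N11727 (iv2 D35794)) (tt N34660 (iv3 F88448)) (tt N45832 (iv4 F119738)) (tt N34660 (iv5 F88449)) (tt N45852 D78579) (tt N34650 (iv7 F88405)))
theorem Q23747 : ∀ i, i < 23747 → P i := stepQ 23746 Q23746 (allL N23746 (tt N45853 D78580) (tt N45854 D78581) (tt N45852 (iv2 F119754)) (tt N11728 F56459) (tt N45834 (iv4 F119741)) (tt N45855 D78582) (tt N11727 (iv6 D35795)) (tt N45856 D78583))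
theorem Q23748 : ∀ i, i < 23748 → P i := stepQ 23747 Q23747 (allL N23747 (tt N34618 F299681) (tt N11728 (iv0 D35796)) (tt N23529 (iv2 F316550)) (tt N45857 D78584) (tt N17516 F114141) (tt N11914 (iv5 F318146)) (tt N23116 F114142) (tt N23828 F114143))
theorem Q23749 : ∀ i, i < 23749 → P i := stepQ 23748 Q23748 (allL N23748 (tt N11728 (iv1 D35797)) (tt N34618 F299560) (tt N23828 F114144) (tt N45858 D78586) (tt N17517 F114145) (tt N23530 (iv5 F320988)) (tt N24976 F114146) (tt N23529 F318847))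
theorem Q23750 : ∀ i, i < 23750 → P i := stepQ 23749 Q23749 (allL N23749 (tt N23564 (iv1 F321801)) (tt N17552 (iv0 F322032)) (tt N23562 (iv2 F320985)) (tt N45855 (iv3 F119755)) (tt N12175 (iv4 F322036)) (tt N11728 (iv5 D35798)) (tt N23562 (iv6 F320987)) (tt N12308 (iv7 F320982)))
theorem Q23751 : ∀ i, i < 23751 → P i := stepQ 23750 Q23750 (allL N23750 (tt N23828 (iv1 F115645)) (tt N23529 F318845) (tt N34618 (iv2 F299317)) (tt N45856 (iv3 F119756)) (tt N11731 F56460) (tt N12308 (iv5 F320981)) (tt N11844 F297429) (tt N11728 (iv7 D35799)))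
theorem Q23752 : ∀ i, i < 23752 → P i := stepQ 23751 Q23751 (allL N23751 (tt N34680 F115713) (tt N11763 F115714) (tt N24113 (iv2 F316539)) (tt N45859 D78592) (tt N11729 (iv4 D35801)) (tt N17602 (iv5 F318092)) (tt N23488 F56462) (tt N34663 (iv7 F88475)))
theorem Q23753 : ∀ i, i < 23753 → P i := stepQ 23752 Q23752 (allL N23752 (tt N31185 F323971) (tt N23797 F88470) (tt N34662 (iv2 F88467)) (tt N15625 (iv3 F323455)) (tt N45860 D78594) (tt N11729 (iv5 D35802)) (tt N11854 F56463) (tt N23770 (iv7 F56485)))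
theorem Q23754 : ∀ i, i < 23754 → P i := stepQ 23753 Q23753 (allL N23753 (tt N11763 F115715) (tt N34680 F115716) (tt N34663 (iv2 F88473)) (tt N45861 D78596) (tt N11730 (iv4 D35804)) (tt N24114 (iv5 F320944)) (tt N34628 (iv6 F88312)) (tt N24113 F318813))
theorem Q23755 : ∀ i, i < 23755 → P i := stepQ 23754 Q23754 (allL N23754 (tt N24031 (iv1 F57184)) (tt N24030 F57181) (tt N11733 F56464) (tt N45862 D78598) (tt N11732 (iv4 D35805)) (tt N26375 (iv5 F65003)) (tt N45863 D78599) (tt N24023 (iv7 F57161)))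
theorem Q23756 : ∀ i, i < 23756 → P i := stepQ 23755 Q23755 (allL N23755 (tt N45864 D78600) (tt N45500 (iv0 F116111)) (tt N11734 F56465) (tt N23628 F56466) (tt N45863 (iv4 F119764)) (tt N12577 F56467) (tt N11732 (iv6 D35806)) (tt N45865 D78601))
theorem Q23757 : ∀ i, i < 23757 → P i := stepQ 23756 Q23756 (allL N23756 (tt N24023 (iv1 F57163)) (tt N11733 (iv0 D35807)) (tt N24031 F57187) (tt N45866 D78602) (tt N12669 F56468) (tt N45835 (iv5 F119742)) (tt N44937 (iv6 F297383)) (tt N24030 F57183))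
theorem Q23758 : ∀ i, i < 23758 → P i := stepQ 23757 Q23757 (allL N23757 (tt N11733 (iv1 D35808)) (tt N24023 (iv0 F57162)) (tt N24030 F57182) (tt N45867 D78604) (tt N13340 (iv4 F56469)) (tt N45836 (iv5 F119746)) (tt N35797 F325590) (tt N24031 (iv7 F57185)))
theorem Q23759 : ∀ i, i < 23759 → P i := stepQ 23758 Q23758 (allL N23758 (tt N45868 D78606) (tt N45869 D78607) (tt N45870 D78608) (tt N11733 (iv3 D35809)) (tt N11735 F56470) (tt N45871 D78609) (tt N45872 D78610) (tt N24032 (iv7 F57189)))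
theorem Q23760 : ∀ i, i < 23760 → P i := stepQ 23759 Q23759 (allL N23759 (tt N27907 (iv1 F293073)) (tt N27899 (iv0 F293070)) (tt N26375 (iv2 F65002)) (tt N45871 (iv3 F119780)) (tt N26367 (iv4 F64945)) (tt N11733 (iv5 D35810)) (tt N45873 D78613) (tt N24033 (iv7 F57190)))
theorem Q23761 : ∀ i, i < 23761 → P i := stepQ 23760 Q23760 (allL N23760 (tt N45874 D78614) (tt N45875 D78615) (tt N45863 (iv2 F119763)) (tt N45872 (iv3 F119781)) (tt N11734 F56471) (tt N45876 D78616) (tt N11733 (iv6 D35811)) (tt N45877 D78617))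
theorem Q23762 : ∀ i, i < 23762 → P i := stepQ 23761 Q23761 (allL N23761 (tt N45865 (iv1 F119773)) (tt N11734 (iv0 D35812)) (tt N45864 F119766) (tt N23983 (iv3 F298251)) (tt N45878 D78619) (tt N24196 F119514) (tt N45879 D78620) (tt N45500 (iv7 F119515)))
theorem Q23763 : ∀ i, i < 23763 → P i := stepQ 23762 Q23762 (allL N23762 (tt N11734 (iv1 D35813)) (tt N45865 F119772) (tt N45500 (iv2 F116110)) (tt N45880 D78621) (tt N45881 D78622) (tt N24197 (iv5 F118866)) (tt N23963 (iv6 F119045)) (tt N45864 (iv7 F119767)))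
theorem Q23764 : ∀ i, i < 23764 → P i := stepQ 23763 Q23763 (allL N23763 (tt N45500 F116112) (tt N45864 F119768) (tt N45865 (iv2 F119769)) (tt N11739 F56472) (tt N45877 (iv4 F119793)) (tt N12641 F56473) (tt N24037 (iv6 F57194)) (tt N11734 (iv7 D35814)))
theorem Q23765 : ∀ i, i < 23765 → P i := stepQ 23764 Q23764 (allL N23764 (tt N24040 (iv1 F57198)) (tt N11735 (iv0 D35815)) (tt N24039 F257925) (tt N45882 D78624) (tt N45883 D78625) (tt N34658 F250810) (tt N45757 F329761) (tt N24038 (iv7 F257931)))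
theorem Q23766 : ∀ i, i < 23766 → P i := stepQ 23765 Q23765 (allL N23765 (tt N11735 (iv1 D35816)) (tt N24040 F57200) (tt N24038 (iv2 F257930)) (tt N32330 F327431) (tt N32336 (iv4 F327622)) (tt N34659 F250813) (tt N32328 (iv6 F327950)) (tt N24039 F257929))
theorem Q23767 : ∀ i, i < 23767 → P i := stepQ 23766 Q23766 (allL N23766 (tt N24039 (iv1 F57199)) (tt N24038 F57195) (tt N11735 (iv2 D35817)) (tt N24055 (iv3 F57240)) (tt N45870 (iv4 F119779)) (tt N23494 F56474) (tt N45884 D78633) (tt N24040 (iv7 F57197)))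
theorem Q23768 : ∀ i, i < 23768 → P i := stepQ 23767 Q23767 (allL N23767 (tt N45885 D78634) (tt N45886 D78635) (tt N45884 (iv2 F119800)) (tt N11736 F56475) (tt N45872 (iv4 F119782)) (tt N45887 D78636) (tt N11735 (iv6 D35818)) (tt N45888 D78637))
theorem Q23769 : ∀ i, i < 23769 → P i := stepQ 23768 Q23768 (allL N23768 (tt N35503 (iv1 F92645)) (tt N19307 (iv0 F316004)) (tt N23642 F56476) (tt N45887 (iv3 F119802)) (tt N19475 F315313) (tt N11736 (iv5 D35819)) (tt N23490 F56477) (tt N36367 (iv7 F94450)))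
theorem Q23770 : ∀ i, i < 23770 → P i := stepQ 23769 Q23769 (allL N23769 (tt N12532 (iv1 F56480)) (tt N12529 F56481) (tt N23643 F56478) (tt N45888 (iv3 F119804)) (tt N11739 F56479) (tt N36367 (iv5 F94447)) (tt N24043 (iv6 F57206)) (tt N11736 (iv7 D35820)))
theorem Q23771 : ∀ i, i < 23771 → P i := stepQ 23770 Q23770 (allL N23770 (tt N31949 F323066) (tt N31957 (iv0 F325227)) (tt N23640 F56483) (tt N15626 (iv3 F324764)) (tt N25290 (iv4 F60651)) (tt N17507 F56484) (tt N11737 (iv6 D35822)) (tt N23752 F56485))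
theorem Q23772 : ∀ i, i < 23772 → P i := stepQ 23771 Q23771 (allL N23771 (tt N11741 (iv1 F56490)) (tt N11740 (iv0 D35824)) (tt N11744 (iv2 F56487)) (tt N25343 (iv3 F60731)) (tt N18196 F325305) (tt N11898 F56488) (tt N18195 F325306) (tt N11742 F56489))
theorem Q23773 : ∀ i, i < 23773 → P i := stepQ 23772 Q23772 (allL N23772 (tt N11744 F254377) (tt N11742 F254378) (tt N11740 (iv2 D35825)) (tt N45889 D78643) (tt N31716 (iv4 F326211)) (tt N17509 (iv5 F254385)) (tt N45890 D78646) (tt N11741 (iv7 F56491)))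
theorem Q23774 : ∀ i, i < 23774 → P i := stepQ 23773 Q23773 (allL N23773 (tt N25352 (iv1 F254318)) (tt N45891 D78648) (tt N45892 D78649) (tt N11740 (iv3 D35826)) (tt N45893 D78650) (tt N45894 D78651) (tt N45895 D78652) (tt N45896 D78653))
theorem Q23775 : ∀ i, i < 23775 → P i := stepQ 23774 Q23774 (allL N23774 (tt N16237 F327015) (tt N31717 F327016) (tt N31716 F327017) (tt N45897 D78656) (tt N11740 (iv4 D35827)) (tt N45898 D78657) (tt N45899 D78658) (tt N31715 F327018))
theorem Q23776 : ∀ i, i < 23776 → P i := stepQ 23775 Q23775 (allL N23775 (tt N17510 (iv1 F248738)) (tt N12554 (iv0 F248739)) (tt N17509 (iv2 F254384)) (tt N45894 (iv3 F119820)) (tt N45900 D78662) (tt N11740 (iv5 D35828)) (tt N45901 D78663) (tt N17508 F254380))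
theorem Q23777 : ∀ i, i < 23777 → P i := stepQ 23776 Q23776 (allL N23776 (tt N45902 D78665) (tt N18187 (iv0 F327550)) (tt N45890 (iv2 F119817)) (tt N45895 (iv3 F119821)) (tt N45899 (iv4 F119825)) (tt N25074 (iv5 F327551)) (tt N11740 (iv6 D35829)) (tt N45903 D78668))
theorem Q23778 : ∀ i, i < 23778 → P i := stepQ 23777 Q23777 (allL N23777 (tt N11742 (iv1 F254374)) (tt N11744 (iv0 F254375)) (tt N11741 F56492) (tt N45896 (iv3 F119822)) (tt N31715 (iv4 F326210)) (tt N17508 (iv5 F254376)) (tt N45904 D78669) (tt N11740 (iv7 D35830)))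
theorem Q23779 : ∀ i, i < 23779 → P i := stepQ 23778 Q23778 (allL N23778 (tt N45905 D78670) (tt N45397 F254421) (tt N45906 D78672) (tt N11741 (iv3 D35831)) (tt N45907 D78673) (tt N45908 D78674) (tt N45909 D78675) (tt N45889 (iv7 F119812)))
theorem Q23780 : ∀ i, i < 23780 → P i := stepQ 23779 Q23779 (allL N23779 (tt N31717 (iv1 F326769)) (tt N16237 (iv0 F326910)) (tt N31715 F326267) (tt N15593 F326268) (tt N11741 (iv4 D35832)) (tt N38861 (iv5 F326768)) (tt N45910 D78678) (tt N31716 F326269))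
theorem Q23781 : ∀ i, i < 23781 → P i := stepQ 23780 Q23780 (allL N23780 (tt N12554 F248740) (tt N17510 F248741) (tt N17508 F254379) (tt N45908 (iv3 F119835)) (tt N45911 D78679) (tt N11741 (iv5 D35833)) (tt N45912 D78680) (tt N17509 (iv7 F254386)))
theorem Q23782 : ∀ i, i < 23782 → P i := stepQ 23781 Q23781 (allL N23781 (tt N25288 F332113) (tt N45913 D78682) (tt N45904 (iv2 F119833)) (tt N45909 (iv3 F119836)) (tt N45910 (iv4 F119837)) (tt N45914 D78683) (tt N11741 (iv6 D35834)) (tt N45915 D78684))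
theorem Q23783 : ∀ i, i < 23783 → P i := stepQ 23782 Q23782 (allL N23782 (tt N11897 (iv1 F56497)) (tt N11896 F56498) (tt N11743 F56495) (tt N31253 F325678) (tt N45916 D78695) (tt N11742 (iv5 D35837)) (tt N31251 F325679) (tt N11898 F56496))
theorem Q23784 : ∀ i, i < 23784 → P i := stepQ 23783 Q23783 (allL N23783 (tt N11898 (iv1 F56499)) (tt N11743 (iv0 D35838)) (tt N11897 F258198) (tt N45917 D78698) (tt N45918 D78699) (tt N31284 F325695) (tt N45919 D78701) (tt N11896 F258199))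
theorem Q23785 : ∀ i, i < 23785 → P i := stepQ 23784 Q23784 (allL N23784 (tt N11743 (iv1 D35839)) (tt N11898 F56500) (tt N11896 (iv2 F258196)) (tt N45920 D78703) (tt N45921 D78704) (tt N31285 F325702) (tt N45922 D78706) (tt N11897 (iv7 F258197)))
theorem Q23786 : ∀ i, i < 23786 → P i := stepQ 23785 Q23785 (allL N23785 (tt N45919 F330781) (tt N45923 D78708) (tt N45916 (iv2 F119841)) (tt N11847 F56501) (tt N11743 (iv4 D35840)) (tt N37989 (iv5 F323625)) (tt N45924 D78710) (tt N11846 F56502))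
theorem Q23787 : ∀ i, i < 23787 → P i := stepQ 23786 Q23786 (allL N23786 (tt N45925 D78711) (tt N45926 D78712) (tt N31251 (iv2 F324576)) (tt N11745 F56503) (tt N45924 (iv4 F119854)) (tt N45780 (iv5 F119628)) (tt N11743 (iv6 D35841)) (tt N45927 D78713))
theorem Q23788 : ∀ i, i < 23788 → P i := stepQ 23787 Q23787 (allL N23787 (tt N16093 F322539) (tt N11745 (iv0 D35843)) (tt N31277 F322540) (tt N45928 D78717) (tt N12368 (iv4 F56506)) (tt N34384 (iv5 F316250)) (tt N12367 F56505) (tt N31278 F322541))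
theorem Q23789 : ∀ i, i < 23789 → P i := stepQ 23788 Q23788 (allL N23788 (tt N11745 (iv1 D35844)) (tt N16093 F322535) (tt N31278 F322536) (tt N45929 D78719) (tt N12546 F88492) (tt N40642 F318600) (tt N35501 (iv6 F92632)) (tt N31277 F322537))
theorem Q23790 : ∀ i, i < 23790 → P i := stepQ 23789 Q23789 (allL N23789 (tt N31278 F323124) (tt N31277 F323125) (tt N16093 F323126) (tt N45927 (iv3 F119855)) (tt N11879 F56507) (tt N45786 (iv5 F119636)) (tt N11878 F56508) (tt N11745 (iv7 D35845)))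
theorem Q23791 : ∀ i, i < 23791 → P i := stepQ 23790 Q23790 (allL N23790 (tt N25347 (iv1 F60748)) (tt N11746 (iv0 D35846)) (tt N25337 (iv2 F132025)) (tt N45930 D78722) (tt N18005 (iv4 F88503)) (tt N44897 F316326) (tt N31959 F323993) (tt N25341 (iv7 F132022)))
theorem Q23792 : ∀ i, i < 23792 → P i := stepQ 23791 Q23791 (allL N23791 (tt N11746 (iv1 D35847)) (tt N25347 F60747) (tt N25341 (iv2 F132021)) (tt N45931 D78726) (tt N18006 F88501) (tt N45932 D78727) (tt N45584 F324183) (tt N25337 (iv7 F132026)))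
theorem Q23793 : ∀ i, i < 23793 → P i := stepQ 23792 Q23792 (allL N23792 (tt N45933 D78729) (tt N33498 (iv0 F315663)) (tt N25346 (iv2 F60741)) (tt N18198 (iv3 F320745)) (tt N41834 F318608) (tt N11746 (iv5 D35848)) (tt N11877 F56509) (tt N31952 F318609))
theorem Q23794 : ∀ i, i < 23794 → P i := stepQ 23793 Q23793 (allL N23793 (tt N31222 (iv1 F322509)) (tt N24048 (iv0 F254940)) (tt N31973 (iv2 F322510)) (tt N11747 (iv3 D35850)) (tt N31890 (iv4 F322504)) (tt N31183 (iv5 F322511)) (tt N31953 F323972) (tt N31947 (iv7 F321432)))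
theorem Q23795 : ∀ i, i < 23795 → P i := stepQ 23794 Q23794 (allL N23794 (tt N24995 F92086) (tt N12550 F92087) (tt N31951 (iv2 F317193)) (tt N21371 (iv3 F318606)) (tt N11747 (iv4 D35851)) (tt N44891 (iv5 F318585)) (tt N31954 F324468) (tt N31948 (iv7 F317190)))
theorem Q23796 : ∀ i, i < 23796 → P i := stepQ 23795 Q23795 (allL N23795 (tt N24026 F255036) (tt N15610 (iv0 F322499)) (tt N45817 (iv2 F255038)) (tt N11748 (iv3 D35855)) (tt N35904 (iv4 F322497)) (tt N31186 (iv5 F322500)) (tt N45934 D78754) (tt N31950 (iv7 F321439)))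
theorem Q23797 : ∀ i, i < 23797 → P i := stepQ 23796 Q23796 (allL N23796 (tt N12550 (iv1 F60704)) (tt N24995 F60705) (tt N31948 (iv2 F317189)) (tt N45935 D78755) (tt N11748 (iv4 D35856)) (tt N45936 D78756) (tt N45522 (iv6 F321436)) (tt N31951 (iv7 F317194)))
theorem Q23798 : ∀ i, i < 23798 → P i := stepQ 23797 Q23797 (allL N23797 (tt N23752 (iv1 F88470)) (tt N23640 (iv0 F61321)) (tt N31949 (iv2 F321433)) (tt N45934 (iv3 F119912)) (tt N45522 F321956) (tt N31957 F324487) (tt N11748 (iv6 D35858)) (tt N31957 F324488))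
theorem Q23799 : ∀ i, i < 23799 → P i := stepQ 23798 Q23798 (allL N23798 (tt N17644 F56518) (tt N17546 F56519) (tt N16026 F326149) (tt N13798 F56516) (tt N23416 F56520) (tt N11750 (iv5 D35859)) (tt N15620 F326150) (tt N17372 F56517))
theorem Q23800 : ∀ i, i < 23800 → P i := stepQ 23799 Q23799 (allL N23799 (tt N34464 (iv1 F87611)) (tt N34672 F88529) (tt N11752 F56521) (tt N45937 D78760) (tt N11751 (iv4 D35860)) (tt N45938 D78761) (tt N22918 F296589) (tt N34670 (iv7 F88521)))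
theorem Q23801 : ∀ i, i < 23801 → P i := stepQ 23800 Q23800 (allL N23800 (tt N34670 (iv1 F88523)) (tt N11752 (iv0 D35862)) (tt N34464 (iv2 F87608)) (tt N45939 D78765) (tt N17825 F56525) (tt N35240 (iv5 F91666)) (tt N45940 D78766) (tt N34672 (iv7 F88530)))
theorem Q23802 : ∀ i, i < 23802 → P i := stepQ 23801 Q23801 (allL N23801 (tt N11752 (iv1 D35863)) (tt N34670 (iv0 F88522)) (tt N34672 F88528) (tt N45941 D78767) (tt N17827 F56526) (tt N35241 (iv5 F91668)) (tt N31977 F326454) (tt N34464 (iv7 F87609)))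
theorem Q23803 : ∀ i, i < 23803 → P i := stepQ 23802 Q23802 (allL N23802 (tt N45942 D78769) (tt N45943 D78770) (tt N45944 D78771) (tt N11752 (iv3 D35864)) (tt N11754 F56527) (tt N45945 D78772) (tt N45946 D78773) (tt N34673 (iv7 F88532)))
theorem Q23804 : ∀ i, i < 23804 → P i := stepQ 23803 Q23803 (allL N23803 (tt N45370 (iv1 F115537)) (tt N45372 (iv0 F115543)) (tt N45938 (iv2 F119922)) (tt N45945 (iv3 F119939)) (tt N45947 D78774) (tt N11752 (iv5 D35865)) (tt N45948 D78775) (tt N34674 (iv7 F88533)))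
theorem Q23805 : ∀ i, i < 23805 → P i := stepQ 23804 Q23804 (allL N23804 (tt N45493 F296924) (tt N45626 F296925) (tt N22918 F296926) (tt N45946 (iv3 F119940)) (tt N11753 F56528) (tt N45949 D78778) (tt N11752 (iv6 D35866)) (tt N22915 F296927))
theorem Q23806 : ∀ i, i < 23806 → P i := stepQ 23805 Q23805 (allL N23805 (tt N34678 (iv1 F88542)) (tt N11754 (iv0 D35870)) (tt N25354 F254279) (tt N45950 D78790) (tt N45951 D78791) (tt N23127 (iv5 F250799)) (tt N45952 D78793) (tt N25350 (iv7 F254287)))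
theorem Q23807 : ∀ i, i < 23807 → P i := stepQ 23806 Q23806 (allL N23806 (tt N11754 (iv1 D35871)) (tt N34678 F88544) (tt N25350 (iv2 F254286)) (tt N45953 D78795) (tt N45954 D78796) (tt N23128 F250795) (tt N45955 D78798) (tt N25354 F254282))
theorem Q23808 : ∀ i, i < 23808 → P i := stepQ 23807 Q23807 (allL N23807 (tt N25354 (iv1 F254089)) (tt N25350 F254086) (tt N11754 (iv2 D35872)) (tt N26765 (iv3 F67484)) (tt N45944 (iv4 F119938)) (tt N26765 (iv5 F67485)) (tt N45956 D78799) (tt N34678 (iv7 F88541)))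
theorem Q23809 : ∀ i, i < 23809 → P i := stepQ 23808 Q23808 (allL N23808 (tt N45957 D78800) (tt N45958 D78801) (tt N45956 (iv2 F119954)) (tt N11755 F56530) (tt N45946 (iv4 F119941)) (tt N36968 F323610) (tt N11754 (iv6 D35873)) (tt N45632 (iv7 F299716)))
theorem Q23810 : ∀ i, i < 23810 → P i := stepQ 23809 Q23809 (allL N23809 (tt N17477 F296845) (tt N17478 (iv0 F297204)) (tt N23727 (iv2 F92678)) (tt N45959 D78822) (tt N11757 (iv4 D35882)) (tt N19309 F322034) (tt N45960 D78824) (tt N19308 F322035))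
theorem Q23811 : ∀ i, i < 23811 → P i := stepQ 23810 Q23810 (allL N23810 (tt N35278 F91865) (tt N12406 (iv0 F56541)) (tt N26767 (iv2 F67524)) (tt N18209 (iv3 F323026)) (tt N45960 (iv4 F119978)) (tt N18207 (iv5 F322520)) (tt N11757 (iv6 D35884)) (tt N12526 F56540))
theorem Q23812 : ∀ i, i < 23812 → P i := stepQ 23811 Q23811 (allL N23811 (tt N14484 F56544) (tt N14482 F56545) (tt N11760 F56542) (tt N45961 D78826) (tt N11759 (iv4 D35885)) (tt N13621 F292639) (tt N45962 D78827) (tt N22939 F56543))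
theorem Q23813 : ∀ i, i < 23813 → P i := stepQ 23812 Q23812 (allL N23812 (tt N44842 F113656) (tt N45963 D78828) (tt N11761 F56546) (tt N34671 (iv3 F88525)) (tt N45962 (iv4 F119988)) (tt N23812 F56547) (tt N11759 (iv6 D35886)) (tt N45964 D78829))
theorem Q23814 : ∀ i, i < 23814 → P i := stepQ 23813 Q23813 (allL N23813 (tt N22939 (iv1 F56550)) (tt N11760 (iv0 D35887)) (tt N14484 (iv2 F56549)) (tt N45965 D78830) (tt N13086 F56548) (tt N26018 (iv5 F63900)) (tt N45966 D78831) (tt N14482 F56551))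
theorem Q23815 : ∀ i, i < 23815 → P i := stepQ 23814 Q23814 (allL N23814 (tt N45967 D78832) (tt N45968 D78833) (tt N45969 D78834) (tt N11760 (iv3 D35888)) (tt N11762 F56552) (tt N45970 D78835) (tt N45971 D78836) (tt N26760 (iv7 F67476)))
theorem Q23816 : ∀ i, i < 23816 → P i := stepQ 23815 Q23815 (allL N23815 (tt N24900 (iv1 F59904)) (tt N24903 (iv0 F59907)) (tt N13621 (iv2 F292428)) (tt N45970 (iv3 F120004)) (tt N13597 (iv4 F292611)) (tt N11760 (iv5 D35889)) (tt N45972 D78837) (tt N26761 (iv7 F67477)))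
theorem Q23817 : ∀ i, i < 23817 → P i := stepQ 23816 Q23816 (allL N23816 (tt N45973 D78838) (tt N45974 D78839) (tt N45962 (iv2 F119987)) (tt N45971 (iv3 F120005)) (tt N11761 F56553) (tt N45975 D78840) (tt N11760 (iv6 D35890)) (tt N45976 D78841))
theorem Q23818 : ∀ i, i < 23818 → P i := stepQ 23817 Q23817 (allL N23817 (tt N45964 (iv1 F119998)) (tt N11761 (iv0 D35891)) (tt N44842 (iv2 F113654)) (tt N45963 F296972) (tt N45977 D78843) (tt N45978 D78844) (tt N44682 F112822) (tt N45963 (iv7 F119990)))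
theorem Q23819 : ∀ i, i < 23819 → P i := stepQ 23818 Q23818 (allL N23818 (tt N11761 (iv1 D35892)) (tt N45964 F119997) (tt N45963 (iv2 F119993)) (tt N31240 F326663) (tt N45979 D78846) (tt N31982 F326664) (tt N35274 (iv6 F117711)) (tt N44842 (iv7 F113655)))
theorem Q23820 : ∀ i, i < 23820 → P i := stepQ 23819 Q23819 (allL N23819 (tt N45963 (iv1 F119989)) (tt N44842 (iv0 F113664)) (tt N45964 (iv2 F119994)) (tt N11766 F56554) (tt N45976 (iv4 F120007)) (tt N23819 F56555) (tt N22935 F296209) (tt N11761 (iv7 D35893)))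
theorem Q23821 : ∀ i, i < 23821 → P i := stepQ 23820 Q23820 (allL N23820 (tt N26765 (iv1 F67487)) (tt N11762 (iv0 D35894)) (tt N26764 F254334) (tt N45980 D78849) (tt N45981 D78850) (tt N18007 (iv5 F254073)) (tt N45982 D78852) (tt N26763 F254335))
theorem Q23822 : ∀ i, i < 23822 → P i := stepQ 23821 Q23821 (allL N23821 (tt N11762 (iv1 D35895)) (tt N26765 F67489) (tt N26763 (iv2 F254327)) (tt N45983 D78854) (tt N45984 D78855) (tt N18008 (iv5 F254077)) (tt N45985 D78857) (tt N26764 (iv7 F254330)))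
theorem Q23823 : ∀ i, i < 23823 → P i := stepQ 23822 Q23822 (allL N23822 (tt N26764 (iv1 F67488)) (tt N26763 F67483) (tt N11762 (iv2 D35896)) (tt N34678 (iv3 F88539)) (tt N45969 (iv4 F120003)) (tt N34678 (iv5 F88540)) (tt N45986 D78858) (tt N26765 (iv7 F67486)))
theorem Q23824 : ∀ i, i < 23824 → P i := stepQ 23823 Q23823 (allL N23823 (tt N45987 D78859) (tt N45988 D78860) (tt N45986 (iv2 F120014)) (tt N11763 F56556) (tt N45971 (iv4 F120006)) (tt N12444 (iv5 F321959)) (tt N11762 (iv6 D35897)) (tt N35435 (iv7 F320940)))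
theorem Q23825 : ∀ i, i < 23825 → P i := stepQ 23824 Q23824 (allL N23824 (tt N34663 (iv1 F114174)) (tt N24113 F318811) (tt N34680 (iv2 F88549)) (tt N35435 (iv3 F320939)) (tt N11766 F56557) (tt N25365 (iv5 F320941)) (tt N11845 F298629) (tt N11763 (iv7 D35901)))
theorem Q23826 : ∀ i, i < 23826 → P i := stepQ 23825 Q23825 (allL N23825 (tt N45989 D78867) (tt N22902 F116818) (tt N45990 D78868) (tt N11764 (iv3 D35902)) (tt N45991 D78869) (tt N35801 F325646) (tt N23424 F56558) (tt N34682 (iv7 F88567)))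
theorem Q23827 : ∀ i, i < 23827 → P i := stepQ 23826 Q23826 (allL N23826 (tt N35511 (iv1 F92710)) (tt N35510 F92709) (tt N34681 (iv2 F88560)) (tt N35801 F325643) (tt N45992 D78873) (tt N11764 (iv5 D35904)) (tt N12399 F56560) (tt N12530 F56561))
theorem Q23828 : ∀ i, i < 23828 → P i := stepQ 23827 Q23827 (allL N23827 (tt N22916 F117434) (tt N34671 (iv0 F297995)) (tt N34676 F297537) (tt N11765 (iv3 D35905)) (tt N45993 D78876) (tt N35508 (iv5 F92700)) (tt N23408 (iv6 F299725)) (tt N34677 (iv7 F298660)))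
theorem Q23829 : ∀ i, i < 23829 → P i := stepQ 23828 Q23828 (allL N23828 (tt N17505 F115644) (tt N23750 F115645) (tt N23748 (iv2 F114144)) (tt N45994 D78877) (tt N11765 (iv4 D35906)) (tt N24083 (iv5 F320330)) (tt N23667 F56562) (tt N23747 (iv7 F114143)))
theorem Q23830 : ∀ i, i < 23830 → P i := stepQ 23829 Q23829 (allL N23829 (tt N17338 (iv1 F56567)) (tt N11767 (iv0 D35907)) (tt N17336 F177458) (tt N45995 D78880) (tt N23183 F177616) (tt N45996 D78882) (tt N45997 D78883) (tt N17337 (iv7 F177461)))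
theorem Q23831 : ∀ i, i < 23831 → P i := stepQ 23830 Q23830 (allL N23830 (tt N11767 (iv1 D35908)) (tt N17338 F56563) (tt N17337 (iv2 F177460)) (tt N43036 F238443) (tt N23184 (iv4 F177611)) (tt N45998 D78887) (tt N45999 D78888) (tt N17336 F177459))
theorem Q23832 : ∀ i, i < 23832 → P i := stepQ 23831 Q23831 (allL N23831 (tt N17337 (iv1 F56568)) (tt N17336 F56569) (tt N17338 F56564) (tt N42460 (iv3 F106222)) (tt N21487 F56565) (tt N30424 (iv5 F78525)) (tt N23213 F56566) (tt N11767 (iv7 D35909)))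
theorem Q23833 : ∀ i, i < 23833 → P i := stepQ 23832 Q23832 (allL N23832 (tt N29837 F77437) (tt N17167 (iv0 F76711)) (tt N32614 (iv2 F83222)) (tt N11770 F56570) (tt N32755 (iv4 F83478)) (tt N11768 (iv5 D35910)) (tt N46000 D78889) (tt N22079 F56571))
theorem Q23834 : ∀ i, i < 23834 → P i := stepQ 23833 Q23833 (allL N23833 (tt N18915 F56578) (tt N38198 F97632) (tt N32615 (iv2 F83224)) (tt N11771 F56572) (tt N29553 (iv4 F76662)) (tt N32177 F82482) (tt N11768 (iv6 D35911)) (tt N32451 (iv7 F82867)))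
theorem Q23835 : ∀ i, i < 23835 → P i := stepQ 23834 Q23834 (allL N23834 (tt N30676 F79132) (tt N15244 F56577) (tt N17008 F56573) (tt N21567 F56574) (tt N11771 F56575) (tt N36428 (iv5 F94574)) (tt N11769 (iv6 D35912)) (tt N44488 (iv7 F112262)))
theorem Q23836 : ∀ i, i < 23836 → P i := stepQ 23835 Q23835 (allL N23835 (tt N32815 (iv1 F83592)) (tt N43168 (iv0 F108236)) (tt N22082 F56579) (tt N12184 F56582) (tt N11770 (iv4 D35913)) (tt N12183 F56581) (tt N46001 D78890) (tt N22080 F56580))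
theorem Q23837 : ∀ i, i < 23837 → P i := stepQ 23836 Q23836 (allL N23836 (tt N46002 D78891) (tt N45068 (iv0 F258961)) (tt N22083 F56583) (tt N46000 (iv3 F120058)) (tt N46001 (iv4 F120061)) (tt N46003 D78893) (tt N11770 (iv6 D35914)) (tt N37321 (iv7 F326291)))
theorem Q23838 : ∀ i, i < 23838 → P i := stepQ 23837 Q23837 (allL N23837 (tt N17177 F56584) (tt N30087 F77994) (tt N32589 (iv2 F83165)) (tt N32177 (iv3 F82483)) (tt N46004 D78895) (tt N11771 (iv5 D35915)) (tt N46003 (iv6 F120064)) (tt N46005 D78896))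
theorem Q23839 : ∀ i, i < 23839 → P i := stepQ 23838 Q23838 (allL N23838 (tt N18967 (iv1 F56586)) (tt N14970 F56587) (tt N22794 F56585) (tt N32451 (iv3 F82865)) (tt N44488 (iv4 F112260)) (tt N46005 (iv5 F120071)) (tt N32449 F82864) (tt N11771 (iv7 D35916)))
theorem Q23840 : ∀ i, i < 23840 → P i := stepQ 23839 Q23839 (allL N23839 (tt N14840 F56590) (tt N14850 F56591) (tt N34704 (iv2 F88610)) (tt N11773 F56588) (tt N46006 D78897) (tt N11772 (iv5 D35917)) (tt N46007 D78898) (tt N22081 F56589))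
theorem Q23841 : ∀ i, i < 23841 → P i := stepQ 23840 Q23840 (allL N23840 (tt N23276 F56597) (tt N23280 (iv0 F56596)) (tt N18393 F56592) (tt N11774 F56593) (tt N14809 F56594) (tt N46008 D78899) (tt N11772 (iv6 D35918)) (tt N18391 (iv7 F56595)))
theorem Q23842 : ∀ i, i < 23842 → P i := stepQ 23841 Q23841 (allL N23841 (tt N43168 (iv1 F108237)) (tt N32815 (iv0 F83591)) (tt N22080 F56598) (tt N42091 F308682) (tt N11773 (iv4 D35919)) (tt N43956 (iv5 F110310)) (tt N30487 (iv6 F326285)) (tt N22082 F56599))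
theorem Q23843 : ∀ i, i < 23843 → P i := stepQ 23842 Q23842 (allL N23842 (tt N35925 (iv1 F326290)) (tt N37320 (iv0 F325804)) (tt N19416 F325431) (tt N46007 (iv3 F120078)) (tt N30487 (iv4 F326284)) (tt N16576 (iv5 F326295)) (tt N11773 (iv6 D35920)) (tt N32990 (iv7 F326286)))
theorem Q23844 : ∀ i, i < 23844 → P i := stepQ 23843 Q23843 (allL N23843 (tt N16926 F56601) (tt N16920 F56602) (tt N19417 F326697) (tt N46008 (iv3 F120080)) (tt N16577 F326698) (tt N11774 (iv5 D35921)) (tt N16576 F326699) (tt N46009 D78907))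
theorem Q23845 : ∀ i, i < 23845 → P i := stepQ 23844 Q23844 (allL N23844 (tt N22883 F56606) (tt N32588 F83160) (tt N32449 (iv2 F82860)) (tt N18391 F56603) (tt N16843 F56604) (tt N46009 (iv5 F120100)) (tt N22794 F56605) (tt N11774 (iv7 D35922)))
theorem Q23846 : ∀ i, i < 23846 → P i := stepQ 23845 Q23845 (allL N23845 (tt N32597 (iv1 F83188)) (tt N32596 F83185) (tt N11776 F56608) (tt N46010 D78908) (tt N11775 (iv4 D35923)) (tt N34280 (iv5 F87074)) (tt N46011 D78909) (tt N32590 (iv7 F83169)))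
theorem Q23847 : ∀ i, i < 23847 → P i := stepQ 23846 Q23846 (allL N23846 (tt N46012 D78910) (tt N46013 D78911) (tt N11777 F56609) (tt N32624 (iv3 F83242)) (tt N46011 (iv4 F120104)) (tt N42392 (iv5 F106104)) (tt N11775 (iv6 D35924)) (tt N46014 D78912))
theorem Q23848 : ∀ i, i < 23848 → P i := stepQ 23847 Q23847 (allL N23847 (tt N43958 (iv1 F110316)) (tt N18562 (iv0 F56611)) (tt N34280 (iv2 F87073)) (tt N35062 (iv3 F90754)) (tt N12194 F56610) (tt N11776 (iv5 D35925)) (tt N46015 D78913) (tt N32598 (iv7 F83193)))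
theorem Q23849 : ∀ i, i < 23849 → P i := stepQ 23848 Q23848 (allL N23848 (tt N46016 D78914) (tt N46017 D78915) (tt N46011 (iv2 F120103)) (tt N27229 (iv3 F69398)) (tt N11777 F56612) (tt N46018 D78916) (tt N11776 (iv6 D35926)) (tt N46019 D78917))
theorem Q23850 : ∀ i, i < 23850 → P i := stepQ 23849 Q23849 (allL N23849 (tt N46014 (iv1 F120109)) (tt N11777 (iv0 D35927)) (tt N46012 (iv2 F324749)) (tt N46020 D78919) (tt N46021 D78920) (tt N46022 D78921) (tt N46023 D78922) (tt N46013 F323424))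
theorem Q23851 : ∀ i, i < 23851 → P i := stepQ 23850 Q23850 (allL N23850 (tt N11777 (iv1 D35928)) (tt N46014 F120108) (tt N46013 F323419) (tt N46024 D78924) (tt N38882 F337848) (tt N41397 F319883) (tt N46025 D78927) (tt N46012 (iv7 F324750)))
theorem Q23852 : ∀ i, i < 23852 → P i := stepQ 23851 Q23851 (allL N23851 (tt N46026 D78928) (tt N46027 D78929) (tt N42392 (iv2 F106103)) (tt N11782 F56613) (tt N32860 (iv4 F83669)) (tt N11777 (iv5 D35929)) (tt N11779 F56614) (tt N46028 D78930))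
theorem Q23853 : ∀ i, i < 23853 → P i := stepQ 23852 Q23852 (allL N23852 (tt N46013 (iv1 F120105)) (tt N46012 F120107) (tt N46014 (iv2 F120106)) (tt N11783 F56615) (tt N46019 (iv4 F120111)) (tt N46028 (iv5 F120116)) (tt N32602 (iv6 F83197)) (tt N11777 (iv7 D35930)))
theorem Q23854 : ∀ i, i < 23854 → P i := stepQ 23853 Q23853 (allL N23853 (tt N17174 F56619) (tt N17150 F56620) (tt N17170 F56616) (tt N16415 F56617) (tt N32805 (iv4 F83578)) (tt N11778 (iv5 D35931)) (tt N46029 D78931) (tt N17171 F56618))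
theorem Q23855 : ∀ i, i < 23855 → P i := stepQ 23854 Q23854 (allL N23854 (tt N17341 (iv1 F76665)) (tt N17344 (iv0 F76663)) (tt N21568 F56621) (tt N29553 (iv3 F76661)) (tt N21567 F56622) (tt N46030 D78932) (tt N11778 (iv6 D35932)) (tt N32417 (iv7 F82808)))
theorem Q23856 : ∀ i, i < 23856 → P i := stepQ 23855 Q23855 (allL N23855 (tt N46031 D78938) (tt N29910 (iv0 F290264)) (tt N46032 D78940) (tt N11780 (iv3 D35934)) (tt N24329 F310845) (tt N46033 D78942) (tt N40746 F324165) (tt N32642 (iv7 F161667)))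
theorem Q23857 : ∀ i, i < 23857 → P i := stepQ 23856 Q23856 (allL N23856 (tt N46034 D78945) (tt N46035 D78946) (tt N32640 (iv2 F161674)) (tt N46033 (iv3 F120129)) (tt N46036 D78947) (tt N11780 (iv5 D35936)) (tt N46037 D78948) (tt N32643 (iv7 F161669)))
theorem Q23858 : ∀ i, i < 23858 → P i := stepQ 23857 Q23857 (allL N23857 (tt N45009 (iv1 F177798)) (tt N46038 D78951) (tt N32641 (iv2 F161676)) (tt N40746 F324160) (tt N32606 (iv4 F83210)) (tt N32697 F83353) (tt N11780 (iv6 D35937)) (tt N46039 D78952))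
theorem Q23859 : ∀ i, i < 23859 → P i := stepQ 23858 Q23858 (allL N23858 (tt N11782 F290498) (tt N32647 F290499) (tt N32645 F290500) (tt N11781 (iv3 D35939)) (tt N46040 D78957) (tt N46041 D78958) (tt N46042 D78959) (tt N32639 (iv7 F161673)))
theorem Q23860 : ∀ i, i < 23860 → P i := stepQ 23859 Q23859 (allL N23859 (tt N46035 (iv1 F120133)) (tt N46034 F120136) (tt N32643 (iv2 F161668)) (tt N46041 (iv3 F120138)) (tt N46043 D78960) (tt N11781 (iv5 D35941)) (tt N46044 D78961) (tt N32640 (iv7 F161675)))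
theorem Q23861 : ∀ i, i < 23861 → P i := stepQ 23860 Q23860 (allL N23860 (tt N46045 D78962) (tt N29920 F163438) (tt N32644 (iv2 F161670)) (tt N46042 (iv3 F120139)) (tt N32609 (iv4 F83207)) (tt N46046 D78964) (tt N11781 (iv6 D35942)) (tt N46047 D78965))
theorem Q23862 : ∀ i, i < 23862 → P i := stepQ 23861 Q23861 (allL N23861 (tt N32647 (iv1 F83277)) (tt N11782 (iv0 D35943)) (tt N32639 (iv2 F290496)) (tt N46032 F290493) (tt N46048 D78968) (tt N46049 D78969) (tt N46050 D78970) (tt N32645 F178250))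
theorem Q23863 : ∀ i, i < 23863 → P i := stepQ 23862 Q23862 (allL N23862 (tt N46051 D78976) (tt N46052 D78977) (tt N32646 (iv2 F83271)) (tt N13892 (iv3 F56626)) (tt N11782 (iv4 D35945)) (tt N46053 D78978) (tt N11786 F56625) (tt N46054 D78979))
theorem Q23864 : ∀ i, i < 23864 → P i := stepQ 23863 Q23863 (allL N23863 (tt N32645 (iv1 F83270)) (tt N32639 F290501) (tt N32647 (iv2 F83273)) (tt N46028 (iv3 F120115)) (tt N46054 (iv4 F120151)) (tt N11783 F56627) (tt N46055 D78980) (tt N11782 (iv7 D35946)))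
theorem Q23865 : ∀ i, i < 23865 → P i := stepQ 23864 Q23864 (allL N23864 (tt N13648 F56629) (tt N27600 (iv0 F70611)) (tt N27602 F70620) (tt N42002 (iv3 F105247)) (tt N11784 (iv4 D35947)) (tt N13688 F56628) (tt N46056 D78981) (tt N27603 (iv7 F70623)))
theorem Q23866 : ∀ i, i < 23866 → P i := stepQ 23865 Q23865 (allL N23865 (tt N46057 D78982) (tt N46058 D78983) (tt N32584 (iv2 F83147)) (tt N42022 F105273) (tt N46056 (iv4 F120153)) (tt N32182 (iv5 F82491)) (tt N11784 (iv6 D35948)) (tt N46059 D78984))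
theorem Q23867 : ∀ i, i < 23867 → P i := stepQ 23866 Q23866 (allL N23866 (tt N13689 F56632) (tt N27758 (iv0 F71425)) (tt N14889 F56630) (tt N46060 D78985) (tt N11785 (iv4 D35949)) (tt N13778 F56631) (tt N46061 D78986) (tt N27300 (iv7 F70036)))
theorem Q23868 : ∀ i, i < 23868 → P i := stepQ 23867 Q23867 (allL N23867 (tt N46062 D78987) (tt N46063 D78988) (tt N14890 F56633) (tt N29907 (iv3 F77588)) (tt N46061 (iv4 F120161)) (tt N46064 D78989) (tt N11785 (iv6 D35950)) (tt N46065 D78990))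
theorem Q23869 : ∀ i, i < 23869 → P i := stepQ 23868 Q23868 (allL N23868 (tt N27469 (iv1 F70318)) (tt N11786 (iv0 D35951)) (tt N27472 F70329) (tt N46066 D78991) (tt N17527 F56635) (tt N14516 F56634) (tt N46067 D78992) (tt N27471 F70324))
theorem Q23870 : ∀ i, i < 23870 → P i := stepQ 23869 Q23869 (allL N23869 (tt N11786 (iv1 D35952)) (tt N27469 (iv0 F70317)) (tt N27471 F70323) (tt N27452 (iv3 F70298)) (tt N17528 F56637) (tt N14517 F56636) (tt N46068 D78993) (tt N27472 (iv7 F70326)))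
theorem Q23871 : ∀ i, i < 23871 → P i := stepQ 23870 Q23870 (allL N23870 (tt N46069 D78994) (tt N32607 (iv0 F142196)) (tt N26789 (iv2 F67732)) (tt N42393 (iv3 F106106)) (tt N27473 (iv4 F70331)) (tt N26786 (iv5 F67731)) (tt N11787 (iv6 D35953)) (tt N46055 (iv7 F120152)))
theorem Q23872 : ∀ i, i < 23872 → P i := stepQ 23871 Q23871 (allL N23871 (tt N27490 (iv1 F70346)) (tt N13896 F56639) (tt N27467 (iv2 F70309)) (tt N46070 D78996) (tt N11788 (iv4 D35954)) (tt N13888 F56638) (tt N46071 D78997) (tt N23904 (iv7 F56738)))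
theorem Q23873 : ∀ i, i < 23873 → P i := stepQ 23872 Q23872 (allL N23872 (tt N46072 D78998) (tt N46073 D78999) (tt N32650 (iv2 F83281)) (tt N23222 F56640) (tt N46071 (iv4 F120179)) (tt N32169 (iv5 F82469)) (tt N11788 (iv6 D35955)) (tt N46074 D79000))
theorem Q23874 : ∀ i, i < 23874 → P i := stepQ 23873 Q23873 (allL N23873 (tt N11795 (iv1 F56642)) (tt N11792 (iv0 D35956)) (tt N16489 (iv2 F56643)) (tt N42670 (iv3 F106789)) (tt N43245 (iv4 F108404)) (tt N14846 F56641) (tt N46075 D79001) (tt N22039 (iv7 F56644)))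
theorem Q23875 : ∀ i, i < 23875 → P i := stepQ 23874 Q23874 (allL N23874 (tt N11792 (iv1 D35957)) (tt N11795 F56645) (tt N22039 (iv2 F56648)) (tt N16471 (iv3 F56649)) (tt N43244 (iv4 F108397)) (tt N16470 F56647) (tt N46076 D79002) (tt N16489 F56646))
theorem Q23876 : ∀ i, i < 23876 → P i := stepQ 23875 Q23875 (allL N23875 (tt N22057 F56652) (tt N16404 F56653) (tt N22085 F56650) (tt N46077 D79003) (tt N11792 (iv4 D35958)) (tt N43958 (iv5 F110318)) (tt N46078 D79004) (tt N22084 F56651))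
theorem Q23877 : ∀ i, i < 23877 → P i := stepQ 23876 Q23876 (allL N23876 (tt N46079 D79005) (tt N46080 D79006) (tt N34579 (iv2 F87970)) (tt N32650 (iv3 F83282)) (tt N46078 (iv4 F120189)) (tt N38208 (iv5 F97662)) (tt N11792 (iv6 D35959)) (tt N46081 D79007))
theorem Q23878 : ∀ i, i < 23878 → P i := stepQ 23877 Q23877 (allL N23877 (tt N11797 (iv1 F56655)) (tt N11793 (iv0 D35960)) (tt N22102 (iv2 F56656)) (tt N46082 D79008) (tt N14847 F56654) (tt N44774 (iv5 F113438)) (tt N46083 D79009) (tt N22101 (iv7 F56657)))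
theorem Q23879 : ∀ i, i < 23879 → P i := stepQ 23878 Q23878 (allL N23878 (tt N11793 (iv1 D35961)) (tt N11797 F56658) (tt N22101 (iv2 F56661)) (tt N13033 F302399) (tt N18505 F56660) (tt N44754 (iv5 F113346)) (tt N13032 F302400) (tt N22102 F56659))
theorem Q23880 : ∀ i, i < 23880 → P i := stepQ 23879 Q23879 (allL N23879 (tt N46084 D79011) (tt N46085 D79012) (tt N22109 F56662) (tt N24740 (iv3 F59386)) (tt N11794 F56663) (tt N46086 D79013) (tt N11793 (iv6 D35962)) (tt N46087 D79014))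
theorem Q23881 : ∀ i, i < 23881 → P i := stepQ 23880 Q23880 (allL N23880 (tt N22112 (iv1 F56667)) (tt N11794 (iv0 D35963)) (tt N17363 (iv2 F130989)) (tt N21977 F232522) (tt N46088 D79017) (tt N46089 D79018) (tt N39978 F311903) (tt N22110 (iv7 F130991)))
theorem Q23882 : ∀ i, i < 23882 → P i := stepQ 23881 Q23881 (allL N23881 (tt N22110 (iv1 F56668)) (tt N17363 (iv0 F130956)) (tt N22112 F56665) (tt N22839 F312716) (tt N46087 (iv4 F120199)) (tt N38269 (iv5 F97811)) (tt N22105 F56666) (tt N11794 (iv7 D35965)))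
theorem Q23883 : ∀ i, i < 23883 → P i := stepQ 23882 Q23882 (allL N23882 (tt N16404 F56674) (tt N22057 F56675) (tt N22084 F56670) (tt N18563 F56671) (tt N11795 (iv4 D35966)) (tt N18562 F56673) (tt N46090 D79025) (tt N22085 F56672))
theorem Q23884 : ∀ i, i < 23884 → P i := stepQ 23883 Q23883 (allL N23883 (tt N16573 (iv1 F328839)) (tt N33037 (iv0 F328840)) (tt N33034 F328435) (tt N23217 F56676) (tt N46090 (iv4 F120211)) (tt N35920 F328436) (tt N11795 (iv6 D35967)) (tt N33033 (iv7 F328842)))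
theorem Q23885 : ∀ i, i < 23885 → P i := stepQ 23884 Q23884 (allL N23884 (tt N16331 F82944) (tt N16326 F56678) (tt N32413 (iv2 F82796)) (tt N23219 F56677) (tt N35921 F327571) (tt N11796 (iv5 D35968)) (tt N35920 (iv6 F328037)) (tt N39655 F327572))
theorem Q23886 : ∀ i, i < 23886 → P i := stepQ 23885 Q23885 (allL N23885 (tt N45508 (iv1 F116175)) (tt N24076 (iv0 F57345)) (tt N24729 (iv2 F59371)) (tt N11797 (iv3 D35969)) (tt N43434 (iv4 F108863)) (tt N24728 F59370) (tt N46091 D79031) (tt N22107 F56681))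
theorem Q23887 : ∀ i, i < 23887 → P i := stepQ 23886 Q23886 (allL N23886 (tt N24689 (iv1 F71636)) (tt N24738 F59382) (tt N17239 F56682) (tt N24728 (iv3 F59369)) (tt N43958 (iv4 F110319)) (tt N11797 (iv5 D35970)) (tt N46092 D79032) (tt N22108 F56683))
theorem Q23888 : ∀ i, i < 23888 → P i := stepQ 23887 Q23887 (allL N23887 (tt N46093 D79033) (tt N46094 D79034) (tt N22103 F56684) (tt N46091 (iv3 F120217)) (tt N11798 F56685) (tt N46095 D79035) (tt N11797 (iv6 D35971)) (tt N46096 D79036))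
theorem Q23889 : ∀ i, i < 23889 → P i := stepQ 23888 Q23888 (allL N23888 (tt N11798 (iv1 D35973)) (tt N22105 F56686) (tt N17417 F130878) (tt N21985 F232535) (tt N46097 D79042) (tt N33742 (iv5 F85522)) (tt N43983 (iv6 F120249)) (tt N22104 F113758))
theorem Q23890 : ∀ i, i < 23890 → P i := stepQ 23889 Q23889 (allL N23889 (tt N23072 (iv1 F199951)) (tt N46098 D79045) (tt N21207 F56687) (tt N21293 F56688) (tt N46099 D79046) (tt N11798 (iv5 D35974)) (tt N11799 F56689) (tt N46100 D79047))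
theorem Q23891 : ∀ i, i < 23891 → P i := stepQ 23890 Q23890 (allL N23890 (tt N17417 F130873) (tt N22104 F56694) (tt N22105 F56690) (tt N43437 (iv3 F108868)) (tt N46096 (iv4 F120222)) (tt N46100 (iv5 F120256)) (tt N22112 F56691) (tt N11798 (iv7 D35975)))
theorem Q23892 : ∀ i, i < 23892 → P i := stepQ 23891 Q23891 (allL N23891 (tt N39160 F328454) (tt N39650 F328455) (tt N21206 F56695) (tt N46101 D79048) (tt N11799 (iv4 D35976)) (tt N46102 D79049) (tt N46099 (iv6 F120253)) (tt N39648 F328456))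
theorem Q23893 : ∀ i, i < 23893 → P i := stepQ 23892 Q23892 (allL N23892 (tt N20270 F308890) (tt N11800 (iv0 D35977)) (tt N34163 (iv2 F162714)) (tt N34237 (iv3 F131171)) (tt N30518 F308891) (tt N46103 D79053) (tt N38274 F97818) (tt N34252 (iv7 F131166)))
theorem Q23894 : ∀ i, i < 23894 → P i := stepQ 23893 Q23893 (allL N23893 (tt N46104 D79066) (tt N17750 (iv0 F56698)) (tt N46105 D79067) (tt N11801 (iv3 D35983)) (tt N35334 (iv4 F92098)) (tt N21421 F307414) (tt N44508 F307415) (tt N21420 (iv7 F309412)))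
theorem Q23895 : ∀ i, i < 23895 → P i := stepQ 23894 Q23894 (allL N23894 (tt N45305 F115109) (tt N11802 (iv0 D35987)) (tt N45306 (iv2 F120311)) (tt N28288 F91678) (tt N46106 D79079) (tt N46107 D79080) (tt N46108 D79081) (tt N34411 (iv7 F307653)))
theorem Q23896 : ∀ i, i < 23896 → P i := stepQ 23895 Q23895 (allL N23895 (tt N11802 (iv1 D35988)) (tt N45305 F115111) (tt N34411 (iv2 F307652)) (tt N19024 F306835) (tt N46109 D79083) (tt N16940 F306836) (tt N19023 (iv6 F308664)) (tt N45306 (iv7 F120312)))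
theorem Q23897 : ∀ i, i < 23897 → P i := stepQ 23896 Q23896 (allL N23896 (tt N45306 (iv1 F115114)) (tt N34411 (iv0 F307650)) (tt N11802 (iv2 D35989)) (tt N24250 (iv3 F58181)) (tt N24110 F57439) (tt N45298 (iv5 F115095)) (tt N43995 (iv6 F110433)) (tt N45305 (iv7 F115108)))
theorem Q23898 : ∀ i, i < 23898 → P i := stepQ 23897 Q23897 (allL N23897 (tt N34330 (iv1 F87240)) (tt N11803 (iv0 D35990)) (tt N20754 (iv2 F305204)) (tt N43630 (iv3 F190366)) (tt N33819 (iv4 F184952)) (tt N16779 (iv5 F307054)) (tt N44537 (iv6 F112448)) (tt N20757 (iv7 F307055)))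
theorem Q23899 : ∀ i, i < 23899 → P i := stepQ 23898 Q23898 (allL N23898 (tt N11803 (iv1 D35991)) (tt N34330 F87239) (tt N20757 F307120) (tt N34274 (iv3 F184958)) (tt N33820 (iv4 F184955)) (tt N16780 (iv5 F308972)) (tt N46110 D79094) (tt N20754 F307121))
theorem Q23900 : ∀ i, i < 23900 → P i := stepQ 23899 Q23899 (allL N23899 (tt N11808 F56709) (tt N16313 F56710) (tt N13243 F56705) (tt N26913 (iv3 F68221)) (tt N11805 (iv4 D35992)) (tt N13242 F56708) (tt N16317 F56706) (tt N14721 F56707))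
theorem Q23901 : ∀ i, i < 23901 → P i := stepQ 23900 Q23900 (allL N23900 (tt N18438 (iv1 F56714)) (tt N11806 (iv0 D35993)) (tt N18435 (iv2 F56713)) (tt N46111 D79095) (tt N18428 (iv4 F56716)) (tt N23384 F56711) (tt N18423 (iv6 F56717)) (tt N18428 F56715))
theorem Q23902 : ∀ i, i < 23902 → P i := stepQ 23901 Q23901 (allL N23901 (tt N18435 (iv1 F56726)) (tt N18428 F56725) (tt N11806 (iv2 D35994)) (tt N21157 F56720) (tt N21159 F56721) (tt N21659 F56722) (tt N18509 F56723) (tt N18438 F56724))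
theorem Q23903 : ∀ i, i < 23903 → P i := stepQ 23902 Q23902 (allL N23902 (tt N16400 (iv1 F56728)) (tt N11807 (iv0 D35995)) (tt N21749 (iv2 F56729)) (tt N46112 D79096) (tt N27600 (iv4 F70609)) (tt N14960 F56727) (tt N46113 D79097) (tt N21750 (iv7 F56730)))
theorem Q23904 : ∀ i, i < 23904 → P i := stepQ 23903 Q23903 (allL N23903 (tt N11807 (iv1 D35996)) (tt N16400 F56731) (tt N21750 (iv2 F56734)) (tt N21537 (iv3 F56735)) (tt N13648 (iv4 F56736)) (tt N18157 F56733) (tt N46114 D79098) (tt N21749 F56732))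
theorem Q23905 : ∀ i, i < 23905 → P i := stepQ 23904 Q23904 (allL N23904 (tt N27847 (iv1 F71680)) (tt N13729 F56740) (tt N21751 F56737) (tt N46115 D79099) (tt N11807 (iv4 D35997)) (tt N13719 F56739) (tt N46116 D79100) (tt N23871 F56738))
theorem Q23906 : ∀ i, i < 23906 → P i := stepQ 23905 Q23905 (allL N23905 (tt N46117 D79101) (tt N46118 D79102) (tt N21752 F56741) (tt N21960 F56742) (tt N46116 (iv4 F120357)) (tt N32487 (iv5 F82946)) (tt N11807 (iv6 D35998)) (tt N46119 D79103))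
theorem Q23907 : ∀ i, i < 23907 → P i := stepQ 23906 Q23906 (allL N23906 (tt N16984 F56746) (tt N18528 F56747) (tt N18548 F56743) (tt N17236 F56744) (tt N21920 F56748) (tt N11809 (iv5 D35999)) (tt N36607 (iv6 F306333)) (tt N18568 F56745))
theorem Q23908 : ∀ i, i < 23908 → P i := stepQ 23907 Q23907 (allL N23907 (tt N24149 (iv1 F113857)) (tt N25588 F61587) (tt N25589 (iv2 F61582)) (tt N11814 F56751) (tt N27742 (iv4 F71284)) (tt N13668 F56752) (tt N24211 (iv6 F57735)) (tt N11810 (iv7 D36002)))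
theorem Q23909 : ∀ i, i < 23909 → P i := stepQ 23908 Q23908 (allL N23908 (tt N12350 F117852) (tt N31149 F325358) (tt N12148 F56753) (tt N12181 F56754) (tt N23549 F56755) (tt N15988 F325359) (tt N11811 (iv6 D36003)) (tt N15987 F325360))
theorem Q23910 : ∀ i, i < 23910 → P i := stepQ 23909 Q23909 (allL N23909 (tt N23027 F116624) (tt N11813 (iv0 D36005)) (tt N22956 F116625) (tt N22958 F296583) (tt N23528 F116627) (tt N22956 (iv5 F297346)) (tt N46120 D79111) (tt N23028 F116628))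
theorem Q23911 : ∀ i, i < 23911 → P i := stepQ 23910 Q23910 (allL N23910 (tt N23028 F116621) (tt N22956 F116622) (tt N23027 F116623) (tt N23087 F296584) (tt N24114 (iv4 F57443)) (tt N24207 (iv5 F57705)) (tt N24477 (iv6 F58805)) (tt N11813 (iv7 D36007)))
theorem Q23912 : ∀ i, i < 23912 → P i := stepQ 23911 Q23911 (allL N23911 (tt N24477 (iv1 F58808)) (tt N11816 (iv0 D36031)) (tt N23030 (iv2 F297344)) (tt N22928 F117066) (tt N23517 F117067) (tt N20515 (iv5 F324776)) (tt N23028 (iv6 F297349)) (tt N23041 F117069))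
theorem Q23913 : ∀ i, i < 23913 → P i := stepQ 23912 Q23912 (allL N23912 (tt N11816 (iv1 D36032)) (tt N24477 F58807) (tt N23041 F117070) (tt N23037 F296581) (tt N23518 F117071) (tt N20513 (iv5 F324775)) (tt N46121 D79151) (tt N23030 (iv7 F297345)))
theorem Q23914 : ∀ i, i < 23914 → P i := stepQ 23913 Q23913 (allL N23913 (tt N23041 F116812) (tt N23030 (iv0 F297342)) (tt N24477 (iv2 F58804)) (tt N13841 F56786) (tt N24120 (iv4 F57451)) (tt N15986 (iv5 F324196)) (tt N23027 F116636) (tt N11816 (iv7 D36034)))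
theorem Q23915 : ∀ i, i < 23915 → P i := stepQ 23914 Q23914 (allL N23914 (tt N17091 F300756) (tt N22025 F300757) (tt N21449 F300758) (tt N43984 (iv3 F303205)) (tt N11818 (iv4 D36051)) (tt N22478 (iv5 F303559)) (tt N16972 (iv6 F303560)) (tt N17419 F300759))
theorem Q23916 : ∀ i, i < 23916 → P i := stepQ 23915 Q23915 (allL N23915 (tt N17590 (iv1 F56797)) (tt N11819 (iv0 D36058)) (tt N23945 F56974) (tt N46122 D79200) (tt N23515 F56796) (tt N19365 (iv5 F320659)) (tt N35910 F323173) (tt N19364 F318826))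
theorem Q23917 : ∀ i, i < 23917 → P i := stepQ 23916 Q23916 (allL N23916 (tt N46123 D79206) (tt N46124 D79207) (tt N46125 D79208) (tt N11819 (iv3 D36060)) (tt N44690 (iv4 F112879)) (tt N37129 (iv5 F321981)) (tt N24984 (iv6 F302575)) (tt N23949 (iv7 F56997)))
theorem Q23918 : ∀ i, i < 23918 → P i := stepQ 23917 Q23917 (allL N23917 (tt N46126 D79268) (tt N34755 F327262) (tt N46127 D79270) (tt N11820 (iv3 D36083)) (tt N16050 (iv4 F325952)) (tt N18841 (iv5 F323390)) (tt N31349 (iv6 F326091)) (tt N16047 F325708))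
theorem Q23919 : ∀ i, i < 23919 → P i := stepQ 23918 Q23918 (allL N23918 (tt N21605 (iv1 F303472)) (tt N46128 D79279) (tt N46129 D79280) (tt N11821 (iv3 D36087)) (tt N17670 F56830) (tt N42801 (iv5 F301195)) (tt N45742 (iv6 F303477)) (tt N17729 F56831))
theorem Q23920 : ∀ i, i < 23920 → P i := stepQ 23919 Q23919 (allL N23919 (tt N33981 F86392) (tt N25454 (iv0 F61050)) (tt N42994 F107863) (tt N11822 (iv3 D36089)) (tt N25394 (iv4 F60923)) (tt N25434 (iv5 F61007)) (tt N14874 (iv6 F299956)) (tt N25437 (iv7 F61012)))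
theorem Q23921 : ∀ i, i < 23921 → P i := stepQ 23920 Q23920 (allL N23920 (tt N11823 (iv1 D36091)) (tt N25448 F61041) (tt N14866 (iv2 F56836)) (tt N25830 (iv3 F62348)) (tt N32863 (iv4 F83681)) (tt N14857 F56835) (tt N14869 F305832) (tt N25446 (iv7 F61034)))
theorem Q23922 : ∀ i, i < 23922 → P i := stepQ 23921 Q23921 (allL N23921 (tt N25446 (iv1 F61036)) (tt N14866 F56838) (tt N11823 (iv2 D36092)) (tt N34607 (iv3 F88104)) (tt N24934 (iv4 F59954)) (tt N21806 F56837) (tt N37520 F309842) (tt N25448 (iv7 F61042)))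
theorem Q23923 : ∀ i, i < 23923 → P i := stepQ 23922 Q23922 (allL N23922 (tt N25491 (iv1 F303815)) (tt N46130 D79288) (tt N37520 F309836) (tt N11824 F56839) (tt N19469 F309837) (tt N46131 D79289) (tt N11823 (iv6 D36093)) (tt N21633 (iv7 F303818)))
theorem Q23924 : ∀ i, i < 23924 → P i := stepQ 23923 Q23923 (allL N23923 (tt N17427 (iv1 F301901)) (tt N17436 (iv0 F301902)) (tt N23094 F301066) (tt N46131 (iv3 F121684)) (tt N44879 (iv4 F303825)) (tt N11824 (iv5 D36099)) (tt N38378 (iv6 F303824)) (tt N21635 (iv7 F303826)))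
theorem Q23925 : ∀ i, i < 23925 → P i := stepQ 23924 Q23924 (allL N23924 (tt N34607 (iv1 F88107)) (tt N11825 (iv0 D36115)) (tt N18599 F301112) (tt N46132 D79325) (tt N34203 F86937) (tt N42835 (iv5 F303546)) (tt N18557 (iv6 F303875)) (tt N34606 (iv7 F88103)))
theorem Q23926 : ∀ i, i < 23926 → P i := stepQ 23925 Q23925 (allL N23925 (tt N11825 (iv1 D36116)) (tt N34607 F88108) (tt N34606 F88101) (tt N33977 F86372) (tt N12255 (iv4 F56865)) (tt N42836 (iv5 F303550)) (tt N46133 D79327) (tt N18599 F301113))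
theorem Q23927 : ∀ i, i < 23927 → P i := stepQ 23926 Q23926 (allL N23926 (tt N18599 F301114) (tt N34606 F88102) (tt N11825 (iv2 D36117)) (tt N25448 (iv3 F61043)) (tt N24591 (iv4 F59145)) (tt N38381 (iv5 F303878)) (tt N18565 (iv6 F303879)) (tt N34607 (iv7 F88106)))
theorem Q23928 : ∀ i, i < 23928 → P i := stepQ 23927 Q23927 (allL N23927 (tt N27939 (iv1 F72262)) (tt N11826 (iv0 D36139)) (tt N34260 (iv2 F300681)) (tt N43907 F110124) (tt N46134 D79363) (tt N42537 (iv5 F106384)) (tt N34251 (iv6 F301355)) (tt N34170 (iv7 F300678)))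
theorem Q23929 : ∀ i, i < 23929 → P i := stepQ 23928 Q23928 (allL N23928 (tt N34260 (iv1 F300680)) (tt N34170 (iv0 F300676)) (tt N11826 (iv2 D36141)) (tt N12584 F56875) (tt N46135 D79368) (tt N12583 (iv5 F56876)) (tt N46136 D79369) (tt N27939 (iv7 F72259)))
theorem Q23930 : ∀ i, i < 23930 → P i := stepQ 23929 Q23929 (allL N23929 (tt N18571 F56878) (tt N34231 (iv0 F296984)) (tt N46135 (iv2 F121952)) (tt N12104 F56877) (tt N11826 (iv4 D36142)) (tt N46137 D79371) (tt N46138 D79372) (tt N34608 (iv7 F88129)))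
theorem Q23931 : ∀ i, i < 23931 → P i := stepQ 23930 Q23930 (allL N23930 (tt N12436 (iv1 F301361)) (tt N46139 D79375) (tt N46136 (iv2 F121958)) (tt N11827 F56881) (tt N46138 (iv4 F121969)) (tt N44860 (iv5 F301362)) (tt N11826 (iv6 D36144)) (tt N25221 (iv7 F301363)))
theorem Q23932 : ∀ i, i < 23932 → P i := stepQ 23931 Q23931 (allL N23931 (tt N42537 (iv1 F106386)) (tt N25668 F61864) (tt N12608 F56892) (tt N11829 (iv3 D36158)) (tt N46140 D79411) (tt N17092 F300654) (tt N44505 (iv6 F303447)) (tt N22022 F300655))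
theorem Q23933 : ∀ i, i < 23933 → P i := stepQ 23932 Q23932 (allL N23932 (tt N37371 (iv1 F303485)) (tt N19026 (iv0 F303486)) (tt N22028 (iv2 F303483)) (tt N44505 (iv3 F303446)) (tt N24098 (iv4 F57407)) (tt N35424 (iv5 F303487)) (tt N11829 (iv6 D36159)) (tt N37370 (iv7 F303488)))
theorem Q23934 : ∀ i, i < 23934 → P i := stepQ 23933 Q23933 (allL N23933 (tt N38281 (iv1 F304236)) (tt N34426 F309015) (tt N22024 F301435) (tt N12601 F56894) (tt N24080 (iv4 F57363)) (tt N34327 (iv5 F304238)) (tt N11830 (iv6 D36160)) (tt N44551 (iv7 F311042)))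
theorem Q23935 : ∀ i, i < 23935 → P i := stepQ 23934 Q23934 (allL N23934 (tt N38304 F304082) (tt N11831 (iv0 D36161)) (tt N42231 (iv2 F306176)) (tt N46141 D79422) (tt N46142 D79423) (tt N33766 (iv5 F306179)) (tt N20765 F312423) (tt N44050 (iv7 F306182)))
theorem Q23936 : ∀ i, i < 23936 → P i := stepQ 23935 Q23935 (allL N23935 (tt N11831 (iv1 D36162)) (tt N38304 F304083) (tt N44050 (iv2 F306180)) (tt N24227 (iv3 F308097)) (tt N24838 (iv4 F308098)) (tt N42232 (iv5 F306183)) (tt N24225 (iv6 F308099)) (tt N42231 (iv7 F306178)))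
theorem Q23937 : ∀ i, i < 23937 → P i := stepQ 23936 Q23936 (allL N23936 (tt N44050 F304086) (tt N42231 F304087) (tt N38304 F304088) (tt N43913 (iv3 F110143)) (tt N45533 (iv4 F116291)) (tt N20910 (iv5 F306184)) (tt N19032 F304089) (tt N11831 (iv7 D36164)))
theorem Q23938 : ∀ i, i < 23938 → P i := stepQ 23937 Q23937 (allL N23937 (tt N25473 (iv1 F296851)) (tt N25476 F296823) (tt N46143 D79540) (tt N11832 (iv3 D36224)) (tt N46144 D79541) (tt N24199 (iv5 F298412)) (tt N31311 F323186) (tt N24198 (iv7 F296850)))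
theorem Q23939 : ∀ i, i < 23939 → P i := stepQ 23938 Q23938 (allL N23938 (tt N17985 (iv1 F301059)) (tt N17989 F299799) (tt N25277 F299800) (tt N46145 D79546) (tt N11832 (iv4 D36225)) (tt N44765 F319789) (tt N25323 F299801) (tt N24206 (iv7 F301055)))
theorem Q23940 : ∀ i, i < 23940 → P i := stepQ 23939 Q23939 (allL N23939 (tt N25504 F301330) (tt N11833 (iv0 D36233)) (tt N35501 F301331) (tt N46146 D79557) (tt N12524 F301332) (tt N45582 F318549) (tt N31278 F323143) (tt N24345 F301333))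
theorem Q23941 : ∀ i, i < 23941 → P i := stepQ 23940 Q23940 (allL N23940 (tt N11833 (iv1 D36234)) (tt N25504 F302156) (tt N24345 F302157) (tt N46147 D79560) (tt N12366 F302158) (tt N45583 F318545) (tt N12365 (iv6 F304729)) (tt N35501 F302159))
theorem Q23942 : ∀ i, i < 23942 → P i := stepQ 23941 Q23941 (allL N23941 (tt N46148 D79563) (tt N46149 D79564) (tt N46150 D79565) (tt N11833 (iv3 D36235)) (tt N11876 F56935) (tt N37986 F321399) (tt N11846 F56936) (tt N44013 (iv7 F304722)))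
theorem Q23943 : ∀ i, i < 23943 → P i := stepQ 23942 Q23942 (allL N23942 (tt N18002 F56942) (tt N22897 F56943) (tt N22903 F56940) (tt N46151 D79574) (tt N11834 (iv4 D36239)) (tt N27339 (iv5 F70086)) (tt N23700 (iv6 F296380)) (tt N13799 F56941))
theorem Q23944 : ∀ i, i < 23944 → P i := stepQ 23943 Q23943 (allL N23943 (tt N13340 F56954) (tt N12669 F56955) (tt N24967 F296300) (tt N11837 F56952) (tt N46152 D79580) (tt N11836 (iv5 D36242)) (tt N24924 F296301) (tt N12740 F56953))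
theorem Q23945 : ∀ i, i < 23945 → P i := stepQ 23944 Q23944 (allL N23944 (tt N17481 F56967) (tt N17480 F56968) (tt N17483 F56964) (tt N18127 F323872) (tt N11838 (iv4 D36245)) (tt N18765 (iv5 F320262)) (tt N16018 F323873) (tt N17465 F56965))
theorem Q23946 : ∀ i, i < 23946 → P i := stepQ 23945 Q23945 (allL N23945 (tt N11842 (iv1 F56973)) (tt N11839 (iv0 D36247)) (tt N23915 (iv2 F56974)) (tt N46153 D79590) (tt N17830 F56972) (tt N18955 (iv5 F320283)) (tt N46154 D79592) (tt N18954 F318105))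
theorem Q23947 : ∀ i, i < 23947 → P i := stepQ 23946 Q23946 (allL N23946 (tt N46155 D79596) (tt N46156 D79597) (tt N46157 D79598) (tt N11839 (iv3 D36249)) (tt N46151 (iv4 F122203)) (tt N37991 (iv5 F322724)) (tt N23701 (iv6 F299710)) (tt N34756 (iv7 F89012)))
theorem Q23948 : ∀ i, i < 23948 → P i := stepQ 23947 Q23947 (allL N23947 (tt N22933 F56992) (tt N22943 F56993) (tt N13958 F56990) (tt N46158 D79613) (tt N11840 (iv4 D36255)) (tt N44708 (iv5 F112914)) (tt N34733 (iv6 F297240)) (tt N22940 F56991))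
theorem Q23949 : ∀ i, i < 23949 → P i := stepQ 23948 Q23948 (allL N23948 (tt N31983 F325070) (tt N44382 F325071) (tt N31945 F325072) (tt N12005 F56994) (tt N18131 F325073) (tt N11985 F56996) (tt N11841 (iv6 D36256)) (tt N31912 F325074))
theorem Q23950 : ∀ i, i < 23950 → P i := stepQ 23949 Q23949 (allL N23949 (tt N46159 D79617) (tt N46160 D79618) (tt N46161 D79619) (tt N11842 (iv3 D36257)) (tt N46158 (iv4 F122305)) (tt N37994 (iv5 F322726)) (tt N34736 (iv6 F302213)) (tt N23916 F56997))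
theorem Q23951 : ∀ i, i < 23951 → P i := stepQ 23950 Q23950 (allL N23950 (tt N13796 (iv1 F57004)) (tt N13795 F57003) (tt N11843 (iv2 D36259)) (tt N13292 F57000) (tt N25302 (iv4 F60666)) (tt N12713 F57001) (tt N45821 (iv6 F296168)) (tt N12716 F57002))
theorem Q23952 : ∀ i, i < 23952 → P i := stepQ 23951 Q23951 (allL N23951 (tt N14677 F57005) (tt N24242 (iv0 F58169)) (tt N25302 F60667) (tt N46162 D79623) (tt N11843 (iv4 D36260)) (tt N44635 (iv5 F112733)) (tt N45841 (iv6 F296333)) (tt N25303 (iv7 F60668)))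
theorem Q23953 : ∀ i, i < 23953 → P i := stepQ 23952 Q23952 (allL N23952 (tt N46163 D79631) (tt N38068 F338347) (tt N46164 D79633) (tt N11844 (iv3 D36264)) (tt N46162 (iv4 F122335)) (tt N36973 F322746) (tt N45856 (iv6 F299578)) (tt N34616 (iv7 F88219)))
theorem Q23954 : ∀ i, i < 23954 → P i := stepQ 23953 Q23953 (allL N23953 (tt N46165 D79657) (tt N38626 (iv0 F338707)) (tt N46166 D79659) (tt N11845 (iv3 D36277)) (tt N46167 D79660) (tt N36969 F322701) (tt N35435 F322702) (tt N26766 F298626))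
theorem Q23955 : ∀ i, i < 23955 → P i := stepQ 23954 Q23954 (allL N23954 (tt N45916 (iv1 F119844)) (tt N11846 (iv0 D36283)) (tt N45923 F261319) (tt N46168 D79680) (tt N46169 D79681) (tt N46170 D79682) (tt N46171 D79683) (tt N45919 F330786))
theorem Q23956 : ∀ i, i < 23956 → P i := stepQ 23955 Q23955 (allL N23955 (tt N11846 (iv1 D36284)) (tt N45916 F119843) (tt N45919 (iv2 F330777)) (tt N46172 D79685) (tt N46173 D79686) (tt N46174 D79687) (tt N11897 F330776) (tt N45923 F261321))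
theorem Q23957 : ∀ i, i < 23957 → P i := stepQ 23956 Q23956 (allL N23956 (tt N45923 (iv1 F119850)) (tt N45919 F330780) (tt N11846 (iv2 D36285)) (tt N46127 (iv3 F121644)) (tt N11898 F57018) (tt N37985 (iv5 F325033)) (tt N46150 (iv6 F122195)) (tt N45916 (iv7 F119842)))
theorem Q23958 : ∀ i, i < 23958 → P i := stepQ 23957 Q23957 (allL N23957 (tt N31341 F322477) (tt N31340 F322478) (tt N16045 F322479) (tt N45924 (iv3 F119853)) (tt N11848 F57028) (tt N46175 D79706) (tt N11847 (iv6 D36292)) (tt N31342 F322480))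
theorem Q23959 : ∀ i, i < 23959 → P i := stepQ 23958 Q23958 (allL N23958 (tt N25427 (iv1 F118416)) (tt N12003 F296890) (tt N25429 (iv2 F118413)) (tt N37481 (iv3 F305597)) (tt N11849 (iv4 D36297)) (tt N46176 D79712) (tt N25411 (iv6 F118415)) (tt N25392 F118414))
theorem Q23960 : ∀ i, i < 23960 → P i := stepQ 23959 Q23959 (allL N23959 (tt N25431 (iv1 F118518)) (tt N11867 (iv0 F118846)) (tt N25433 (iv2 F118516)) (tt N26007 (iv3 F118517)) (tt N46177 D79713) (tt N11849 (iv5 D36298)) (tt N45734 (iv6 F119525)) (tt N25393 F118515))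
theorem Q23961 : ∀ i, i < 23961 → P i := stepQ 23960 Q23960 (allL N23960 (tt N46178 D79722) (tt N25445 (iv0 F131633)) (tt N46179 D79724) (tt N11850 (iv3 D36310)) (tt N11852 F57034) (tt N46180 D79725) (tt N13794 F296887) (tt N21631 F57035))
theorem Q23962 : ∀ i, i < 23962 → P i := stepQ 23961 Q23961 (allL N23961 (tt N46181 D79727) (tt N46182 D79728) (tt N24930 (iv2 F298440)) (tt N46180 (iv3 F122419)) (tt N46183 D79729) (tt N11850 (iv5 D36311)) (tt N33323 F323353) (tt N34737 (iv7 F88933)))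
theorem Q23963 : ∀ i, i < 23963 → P i := stepQ 23962 Q23962 (allL N23962 (tt N25430 (iv1 F118098)) (tt N11851 (iv0 D36313)) (tt N27283 (iv2 F297418)) (tt N45643 (iv3 F296733)) (tt N46184 D79735) (tt N34758 (iv5 F119037)) (tt N45843 (iv6 F119751)) (tt N27284 (iv7 F297425)))
theorem Q23964 : ∀ i, i < 23964 → P i := stepQ 23963 Q23963 (allL N23963 (tt N11851 (iv1 D36314)) (tt N25430 (iv0 F118097)) (tt N27284 (iv2 F297422)) (tt N46185 D79736) (tt N46186 D79737) (tt N34759 F119049) (tt N23762 F119045) (tt N27283 (iv7 F297420)))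
theorem Q23965 : ∀ i, i < 23965 → P i := stepQ 23964 Q23964 (allL N23964 (tt N25280 (iv1 F297442)) (tt N46187 D79739) (tt N27285 (iv2 F296378)) (tt N46188 D79740) (tt N11851 (iv4 D36315)) (tt N46189 D79741) (tt N13799 F296335) (tt N34738 (iv7 F88938)))
theorem Q23966 : ∀ i, i < 23966 → P i := stepQ 23965 Q23965 (allL N23965 (tt N21630 (iv1 F57041)) (tt N11852 (iv0 D36320)) (tt N21629 F191148) (tt N46190 D79751) (tt N46191 D79752) (tt N46192 D79753) (tt N21727 F188914) (tt N14861 (iv7 F190027)))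
theorem Q23967 : ∀ i, i < 23967 → P i := stepQ 23966 Q23966 (allL N23966 (tt N21629 (iv1 F57046)) (tt N14861 (iv0 F191156)) (tt N11852 (iv2 D36322)) (tt N18565 F188434) (tt N46179 (iv4 F122414)) (tt N46193 D79760) (tt N25448 F301133) (tt N21630 F57043))
theorem Q23968 : ∀ i, i < 23968 → P i := stepQ 23967 Q23967 (allL N23967 (tt N46194 D79762) (tt N46195 D79763) (tt N46193 (iv2 F122439)) (tt N11853 F57047) (tt N46196 D79764) (tt N11852 (iv5 D36323)) (tt N21458 (iv6 F315622)) (tt N21632 F57048))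
theorem Q23969 : ∀ i, i < 23969 → P i := stepQ 23968 Q23968 (allL N23968 (tt N11863 (iv1 F57052)) (tt N11853 (iv0 D36325)) (tt N21627 (iv2 F57053)) (tt N46197 D79768) (tt N36376 F313199) (tt N21803 F57051) (tt N46198 D79770) (tt N21628 (iv7 F57054)))
theorem Q23970 : ∀ i, i < 23970 → P i := stepQ 23969 Q23969 (allL N23969 (tt N12404 F57070) (tt N12401 F57071) (tt N34734 (iv2 F88896)) (tt N46199 D79777) (tt N11854 (iv4 D36331)) (tt N46200 D79778) (tt N45860 (iv6 F119761)) (tt N34735 (iv7 F88905)))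
theorem Q23971 : ∀ i, i < 23971 → P i := stepQ 23970 Q23970 (allL N23970 (tt N12401 F57074) (tt N12404 F57075) (tt N34735 (iv2 F88903)) (tt N46201 D79779) (tt N11855 (iv4 D36333)) (tt N46202 D79780) (tt N12534 F57073) (tt N34734 (iv7 F88897)))
theorem Q23972 : ∀ i, i < 23972 → P i := stepQ 23971 Q23971 (allL N23971 (tt N11865 (iv1 F57077)) (tt N11856 (iv0 D36334)) (tt N25039 (iv2 F60179)) (tt N46203 D79781) (tt N17885 F57076) (tt N41680 F316308) (tt N45561 (iv6 F322030)) (tt N25040 (iv7 F60186)))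
theorem Q23973 : ∀ i, i < 23973 → P i := stepQ 23972 Q23972 (allL N23972 (tt N11856 (iv1 D36335)) (tt N11865 F57078) (tt N25040 (iv2 F60184)) (tt N46204 D79784) (tt N17886 F57079) (tt N41677 F316307) (tt N17994 (iv6 F57080)) (tt N25039 (iv7 F60180)))
theorem Q23974 : ∀ i, i < 23974 → P i := stepQ 23973 Q23973 (allL N23973 (tt N46205 D79786) (tt N46206 D79787) (tt N46207 D79788) (tt N11856 (iv3 D36336)) (tt N46188 (iv4 F122427)) (tt N46208 D79789) (tt N34756 F299594) (tt N34739 (iv7 F88943)))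
theorem Q23975 : ∀ i, i < 23975 → P i := stepQ 23974 Q23974 (allL N23974 (tt N25059 (iv1 F60236)) (tt N17895 F57081) (tt N25056 F60228) (tt N46208 (iv3 F122494)) (tt N41827 F315210) (tt N11856 (iv5 D36337)) (tt N37959 F321879) (tt N25057 (iv7 F60230)))
theorem Q23976 : ∀ i, i < 23976 → P i := stepQ 23975 Q23975 (allL N23975 (tt N12294 (iv1 F298927)) (tt N12098 F297331) (tt N12295 (iv2 F298922)) (tt N46209 D79796) (tt N11857 (iv4 D36349)) (tt N46210 D79797) (tt N34630 (iv6 F121269)) (tt N12296 F297332))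
theorem Q23977 : ∀ i, i < 23977 → P i := stepQ 23976 Q23976 (allL N23976 (tt N11871 (iv1 F121316)) (tt N34740 (iv0 F121317)) (tt N34730 F120808) (tt N25473 (iv3 F296852)) (tt N46211 D79798) (tt N11857 (iv5 D36350)) (tt N45794 F120809) (tt N23480 F120810))
theorem Q23978 : ∀ i, i < 23978 → P i := stepQ 23977 Q23977 (allL N23977 (tt N24412 F298247) (tt N24410 F298248) (tt N11859 F57095) (tt N46212 D79799) (tt N11858 (iv4 D36352)) (tt N46213 D79800) (tt N24561 (iv6 F298443)) (tt N13956 F298249))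
theorem Q23979 : ∀ i, i < 23979 → P i := stepQ 23978 Q23978 (allL N23978 (tt N34732 (iv1 F88881)) (tt N34731 F88880) (tt N11860 F57096) (tt N25430 (iv3 F118100)) (tt N46214 D79802) (tt N11858 (iv5 D36353)) (tt N23695 (iv6 F57097)) (tt N13957 F298047))
theorem Q23980 : ∀ i, i < 23980 → P i := stepQ 23979 Q23979 (allL N23979 (tt N12287 F296861) (tt N12283 F296862) (tt N11861 F57098) (tt N13772 F296863) (tt N24561 (iv4 F298442)) (tt N13972 F296864) (tt N11858 (iv6 D36354)) (tt N13527 F296865))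
theorem Q23981 : ∀ i, i < 23981 → P i := stepQ 23980 Q23980 (allL N23980 (tt N18579 F190373) (tt N43638 (iv0 F190374)) (tt N43636 (iv2 F190727)) (tt N11859 (iv3 D36357)) (tt N11862 F57099) (tt N46215 D79810) (tt N24845 F301372) (tt N21625 F57100))
theorem Q23982 : ∀ i, i < 23982 → P i := stepQ 23981 Q23981 (allL N23981 (tt N46216 D79812) (tt N46217 D79813) (tt N46213 (iv2 F122514)) (tt N46215 (iv3 F122538)) (tt N46218 D79814) (tt N11859 (iv5 D36358)) (tt N46219 D79815) (tt N24592 F301373))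
theorem Q23983 : ∀ i, i < 23983 → P i := stepQ 23982 Q23982 (allL N23982 (tt N13957 F298252) (tt N11860 (iv0 D36360)) (tt N34732 (iv2 F120908)) (tt N45540 F298253) (tt N46220 D79820) (tt N44800 (iv5 F299290)) (tt N45644 F121377) (tt N34731 F120907))
theorem Q23984 : ∀ i, i < 23984 → P i := stepQ 23983 Q23983 (allL N23983 (tt N11860 (iv1 D36361)) (tt N13957 F298250) (tt N34731 F120905) (tt N23761 F298251) (tt N46221 D79822) (tt N23473 F120815) (tt N46222 D79823) (tt N34732 (iv7 F120906)))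
theorem Q23985 : ∀ i, i < 23985 → P i := stepQ 23984 Q23984 (allL N23984 (tt N24886 (iv1 F300739)) (tt N24883 (iv0 F300738)) (tt N46214 (iv2 F122518)) (tt N46223 D79826) (tt N11860 (iv4 D36362)) (tt N46224 D79827) (tt N23696 F57102) (tt N34733 (iv7 F88882)))
theorem Q23986 : ∀ i, i < 23986 → P i := stepQ 23985 Q23985 (allL N23985 (tt N13527 F296726) (tt N11861 (iv0 D36363)) (tt N12287 F296727) (tt N25467 (iv3 F297064)) (tt N12172 (iv4 F298294)) (tt N12566 F120899) (tt N24175 F121358) (tt N12283 F296728))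
theorem Q23987 : ∀ i, i < 23987 → P i := stepQ 23986 Q23986 (allL N23986 (tt N13971 F297186) (tt N13970 F297187) (tt N13972 F297188) (tt N11866 F57103) (tt N23021 (iv4 F297362)) (tt N11861 (iv5 D36365)) (tt N13978 F297189) (tt N11991 F297190))
theorem Q23988 : ∀ i, i < 23988 → P i := stepQ 23987 Q23987 (allL N23987 (tt N11862 (iv1 D36368)) (tt N18565 (iv0 F188425)) (tt N18567 (iv2 F188427)) (tt N42996 (iv3 F306946)) (tt N34224 F305018) (tt N40749 F320171) (tt N18576 (iv6 F188432)) (tt N18550 F188424))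
theorem Q23989 : ∀ i, i < 23989 → P i := stepQ 23988 Q23988 (allL N23988 (tt N18550 (iv1 F188410)) (tt N18567 F188405) (tt N11862 (iv2 D36369)) (tt N21630 F57109) (tt N43636 (iv4 F190728)) (tt N46225 D79843) (tt N46226 D79844) (tt N18565 F188447))
theorem Q23990 : ∀ i, i < 23990 → P i := stepQ 23989 Q23989 (allL N23989 (tt N46227 D79845) (tt N46228 D79846) (tt N46225 (iv2 F122581)) (tt N11863 F57114) (tt N46229 D79847) (tt N11862 (iv5 D36370)) (tt N46230 D79848) (tt N21626 F57115))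
theorem Q23991 : ∀ i, i < 23991 → P i := stepQ 23990 Q23990 (allL N23990 (tt N46231 D79849) (tt N46232 D79850) (tt N46226 (iv2 F122586)) (tt N11864 F57116) (tt N24845 F302820) (tt N46233 D79851) (tt N11862 (iv6 D36371)) (tt N25217 (iv7 F60487)))
theorem Q23992 : ∀ i, i < 23992 → P i := stepQ 23991 Q23991 (allL N23991 (tt N21409 (iv1 F312718)) (tt N21459 (iv0 F312719)) (tt N21461 F310525) (tt N46234 D79852) (tt N11863 (iv4 D36372)) (tt N41827 (iv5 F312720)) (tt N21452 F310526) (tt N16977 (iv7 F312721)))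
theorem Q23993 : ∀ i, i < 23993 → P i := stepQ 23992 Q23992 (allL N23992 (tt N41706 F104765) (tt N21645 (iv0 F57120)) (tt N21634 F57119) (tt N46230 (iv3 F122591)) (tt N21452 F308785) (tt N46235 D79854) (tt N11863 (iv6 D36373)) (tt N21447 F308786))
theorem Q23994 : ∀ i, i < 23994 → P i := stepQ 23993 Q23993 (allL N23993 (tt N17436 F57123) (tt N17427 F57124) (tt N21635 F57121) (tt N46233 (iv3 F122592)) (tt N44878 (iv4 F113805)) (tt N11864 (iv5 D36374)) (tt N46235 (iv6 F122599)) (tt N23094 F57122))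
theorem Q23995 : ∀ i, i < 23995 → P i := stepQ 23994 Q23994 (allL N23994 (tt N29400 (iv1 F328692)) (tt N46236 D79856) (tt N46237 D79857) (tt N11865 (iv3 D36375)) (tt N46223 (iv4 F122554)) (tt N46238 D79858) (tt N23697 F57125) (tt N34736 (iv7 F88908)))
theorem Q23996 : ∀ i, i < 23996 → P i := stepQ 23995 Q23995 (allL N23995 (tt N17895 F57126) (tt N25059 F60235) (tt N25057 F60232) (tt N46238 (iv3 F122604)) (tt N21460 F315668) (tt N11865 (iv5 D36376)) (tt N23068 F315669) (tt N25056 F60229))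
theorem Q23997 : ∀ i, i < 23997 → P i := stepQ 23996 Q23996 (allL N23996 (tt N15337 F309148) (tt N17429 F57134) (tt N21824 F57129) (tt N46239 D79860) (tt N11866 (iv4 D36378)) (tt N12490 F57132) (tt N21819 F57130) (tt N11994 F301188))
theorem Q23998 : ∀ i, i < 23998 → P i := stepQ 23997 Q23997 (allL N23997 (tt N25433 (iv1 F118832)) (tt N25393 (iv0 F118848)) (tt N11867 (iv2 D36381)) (tt N34740 (iv3 F88945)) (tt N46240 D79861) (tt N46241 D79862) (tt N46242 D79863) (tt N25431 (iv7 F118845)))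
theorem Q23999 : ∀ i, i < 23999 → P i := stepQ 23998 Q23998 (allL N23998 (tt N25275 (iv1 F297622)) (tt N45829 (iv0 F121536)) (tt N46240 (iv2 F122609)) (tt N46243 D79865) (tt N11867 (iv4 D36382)) (tt N46244 D79866) (tt N46245 D79867) (tt N34741 (iv7 F88959)))
theorem Q24000 : ∀ i, i < 24000 → P i := stepQ 23999 Q23999 (allL N23999 (tt N45499 (iv1 F119033)) (tt N24167 F119051) (tt N46241 (iv2 F122610)) (tt N11869 F57136) (tt N44905 (iv4 F299404)) (tt N11867 (iv5 D36383)) (tt N24199 (iv6 F57667)) (tt N17594 F57137))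
theorem Q24001 : ∀ i, i < 24001 → P i := stepQ 24000 Q24000 (allL N24000 (tt N27288 F296830) (tt N31965 (iv0 F322490)) (tt N46242 (iv2 F122614)) (tt N11870 F57138) (tt N46245 (iv4 F122616)) (tt N31311 (iv5 F321504)) (tt N11867 (iv6 D36384)) (tt N31353 (iv7 F321423)))
theorem Q24002 : ∀ i, i < 24002 → P i := stepQ 24001 Q24001 (allL N24001 (tt N46246 D79871) (tt N45851 F334029) (tt N46247 D79873) (tt N11868 (iv3 D36385)) (tt N46243 (iv4 F122615)) (tt N41841 (iv5 F319815)) (tt N46248 D79875) (tt N25048 (iv7 F60216)))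
theorem Q24003 : ∀ i, i < 24003 → P i := stepQ 24002 Q24002 (allL N24002 (tt N45814 (iv1 F119981)) (tt N25278 (iv0 F92089)) (tt N25047 (iv2 F60214)) (tt N46248 (iv3 F122619)) (tt N11870 F57139) (tt N41851 F314978) (tt N11868 (iv6 D36387)) (tt N31354 (iv7 F317186)))
theorem Q24004 : ∀ i, i < 24004 → P i := stepQ 24003 Q24003 (allL N24003 (tt N23480 (iv1 F121320)) (tt N34730 F121291) (tt N11871 (iv2 D36390)) (tt N25431 (iv3 F118844)) (tt N46249 D79880) (tt N24171 F57603) (tt N25983 (iv6 F298072)) (tt N34740 (iv7 F88946)))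
theorem Q24005 : ∀ i, i < 24005 → P i := stepQ 24004 Q24004 (allL N24004 (tt N24882 F298012) (tt N24879 (iv0 F298082)) (tt N46249 (iv2 F122629)) (tt N27658 (iv3 F324799)) (tt N11871 (iv4 D36391)) (tt N27647 (iv5 F324888)) (tt N46250 D79885) (tt N27646 F323560))
theorem Q24006 : ∀ i, i < 24006 → P i := stepQ 24005 Q24005 (allL N24005 (tt N23469 F121407) (tt N23472 F121408) (tt N25983 (iv2 F298071)) (tt N11873 F57140) (tt N46250 (iv4 F122635)) (tt N24178 (iv5 F57611)) (tt N11871 (iv6 D36392)) (tt N25984 (iv7 F299337)))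
theorem Q24007 : ∀ i, i < 24007 → P i := stepQ 24006 Q24006 (allL N24006 (tt N45806 F340628) (tt N46251 D79887) (tt N46252 D79888) (tt N11872 (iv3 D36393)) (tt N27658 (iv4 F324800)) (tt N46253 D79889) (tt N46254 D79890) (tt N25045 (iv7 F60211)))
theorem Q24008 : ∀ i, i < 24008 → P i := stepQ 24007 Q24007 (allL N24007 (tt N41840 F317584) (tt N41839 F317585) (tt N25049 (iv2 F60217)) (tt N46253 (iv3 F122636)) (tt N33625 F317586) (tt N11872 (iv5 D36394)) (tt N46255 D79891) (tt N25046 (iv7 F60213)))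
theorem Q24009 : ∀ i, i < 24009 → P i := stepQ 24008 Q24008 (allL N24008 (tt N23112 (iv1 F57143)) (tt N23116 (iv0 F57142)) (tt N25050 (iv2 F60219)) (tt N46254 (iv3 F122637)) (tt N11873 F57141) (tt N37223 F311142) (tt N11872 (iv6 D36395)) (tt N34614 (iv7 F302670)))
theorem Q24010 : ∀ i, i < 24010 → P i := stepQ 24009 Q24009 (allL N24009 (tt N46256 D79893) (tt N45985 (iv0 F340154)) (tt N46257 D79895) (tt N11874 (iv3 D36396)) (tt N46258 D79896) (tt N41683 F321410) (tt N42260 F321852) (tt N34743 (iv7 F88968)))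
theorem Q24011 : ∀ i, i < 24011 → P i := stepQ 24010 Q24010 (allL N24010 (tt N16045 (iv1 F321479)) (tt N31342 (iv0 F321478)) (tt N31340 (iv2 F320718)) (tt N42260 (iv3 F320117)) (tt N12406 F57144) (tt N33498 F317961) (tt N11874 (iv6 D36398)) (tt N31341 (iv7 F321458)))
theorem Q24012 : ∀ i, i < 24012 → P i := stepQ 24011 Q24011 (allL N24011 (tt N45952 F330286) (tt N46259 D79905) (tt N46260 D79906) (tt N11875 (iv3 D36399)) (tt N46261 D79907) (tt N43942 F321875) (tt N46262 D79909) (tt N34742 (iv7 F88963)))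
theorem Q24013 : ∀ i, i < 24013 → P i := stepQ 24012 Q24012 (allL N24012 (tt N41682 F317874) (tt N41681 F317875) (tt N34744 (iv2 F88969)) (tt N43942 (iv3 F320193)) (tt N33574 F317876) (tt N11875 (iv5 D36400)) (tt N41703 F317877) (tt N33571 F317878))
theorem Q24014 : ∀ i, i < 24014 → P i := stepQ 24013 Q24013 (allL N24013 (tt N23485 (iv1 F57147)) (tt N23488 (iv0 F57146)) (tt N34745 (iv2 F88971)) (tt N46262 (iv3 F122655)) (tt N12408 F57145) (tt N36965 F313288) (tt N11875 (iv6 D36401)) (tt N35279 (iv7 F91870)))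
theorem Q24015 : ∀ i, i < 24015 → P i := stepQ 24014 Q24014 (allL N24014 (tt N46263 D79912) (tt N11876 (iv0 D36402)) (tt N46264 D79913) (tt N46265 D79914) (tt N46266 D79915) (tt N46267 D79916) (tt N46268 D79917) (tt N46269 D79918))
theorem Q24016 : ∀ i, i < 24016 → P i := stepQ 24015 Q24015 (allL N24015 (tt N11876 (iv1 D36403)) (tt N46263 F122660) (tt N46269 (iv2 F122662)) (tt N46270 D79919) (tt N43396 (iv4 F326272)) (tt N46271 D79921) (tt N46272 D79922) (tt N46264 F122661))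
theorem Q24017 : ∀ i, i < 24017 → P i := stepQ 24016 Q24016 (allL N24016 (tt N46264 (iv1 F350685)) (tt N46269 F350676) (tt N11876 (iv2 D36404)) (tt N34747 (iv3 F88976)) (tt N46150 (iv4 F122194)) (tt N46273 D79925) (tt N11898 F57148) (tt N46263 (iv7 F122659)))
theorem Q24018 : ∀ i, i < 24018 → P i := stepQ 24017 Q24017 (allL N24017 (tt N46274 D79926) (tt N46275 D79927) (tt N46273 (iv2 F122665)) (tt N11877 F57149) (tt N46276 D79928) (tt N11876 (iv5 D36405)) (tt N18198 (iv6 F320746)) (tt N46277 D79929))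
theorem Q24019 : ∀ i, i < 24019 → P i := stepQ 24018 Q24018 (allL N24018 (tt N46269 F350677) (tt N46264 (iv0 F350684)) (tt N46263 F122658) (tt N11878 F57150) (tt N44013 (iv4 F304721)) (tt N46277 (iv5 F122667)) (tt N45927 (iv6 F119856)) (tt N11876 (iv7 D36406)))
theorem Q24020 : ∀ i, i < 24020 → P i := stepQ 24019 Q24019 (allL N24019 (tt N34751 (iv1 F88995)) (tt N11877 (iv0 D36407)) (tt N34749 F88981) (tt N46278 D79930) (tt N41669 F313164) (tt N12401 F57151) (tt N37951 F320877) (tt N34750 (iv7 F88985)))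
theorem Q24021 : ∀ i, i < 24021 → P i := stepQ 24020 Q24020 (allL N24020 (tt N11877 (iv1 D36408)) (tt N34751 F88994) (tt N34750 F88987) (tt N46279 D79932) (tt N23096 F313340) (tt N12404 F57152) (tt N23095 (iv6 F315770)) (tt N34749 F88982))
theorem Q24022 : ∀ i, i < 24022 → P i := stepQ 24021 Q24021 (allL N24021 (tt N34750 (iv1 F88984)) (tt N34749 F88983) (tt N34751 (iv2 F88991)) (tt N46277 (iv3 F122666)) (tt N33619 F315408) (tt N11878 F57153) (tt N46280 D79935) (tt N11877 (iv7 D36410)))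
theorem Q24023 : ∀ i, i < 24023 → P i := stepQ 24022 Q24022 (allL N24022 (tt N12765 F292825) (tt N12718 F57157) (tt N12771 F292826) (tt N12139 (iv3 F293235)) (tt N13342 F57158) (tt N11880 (iv5 D36411)) (tt N46281 D79936) (tt N12770 (iv7 F293695)))
theorem Q24024 : ∀ i, i < 24024 → P i := stepQ 24023 Q24023 (allL N24023 (tt N23757 F57162) (tt N23756 F57163) (tt N11884 F57160) (tt N46282 D79937) (tt N11881 (iv4 D36412)) (tt N25922 (iv5 F63612)) (tt N46283 D79938) (tt N23754 F57161))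
theorem Q24025 : ∀ i, i < 24025 → P i := stepQ 24024 Q24024 (allL N24024 (tt N27290 F296249) (tt N46284 D79940) (tt N11885 F57164) (tt N23454 F57165) (tt N46283 (iv4 F122679)) (tt N11951 F57166) (tt N11881 (iv6 D36413)) (tt N46285 D79941))
theorem Q24026 : ∀ i, i < 24026 → P i := stepQ 24025 Q24025 (allL N24025 (tt N27699 (iv1 F71121)) (tt N46152 (iv0 F122220)) (tt N23729 F57167) (tt N46286 D79942) (tt N11882 (iv4 D36414)) (tt N27886 F293084) (tt N35798 F325220) (tt N23495 F57168))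
theorem Q24027 : ∀ i, i < 24027 → P i := stepQ 24026 Q24026 (allL N24026 (tt N31197 (iv1 F323073)) (tt N23795 (iv0 F255036)) (tt N23730 F57169) (tt N26768 (iv3 F67593)) (tt N35798 (iv4 F323932)) (tt N23734 F57170) (tt N11882 (iv6 D36415)) (tt N31198 (iv7 F323070)))
theorem Q24028 : ∀ i, i < 24028 → P i := stepQ 24027 Q24027 (allL N24027 (tt N22913 (iv1 F57175)) (tt N11903 (iv0 F57174)) (tt N12933 F57171) (tt N11883 (iv3 D36416)) (tt N34775 (iv4 F89574)) (tt N12923 F57172) (tt N31212 F326411) (tt N23512 F57173))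
theorem Q24029 : ∀ i, i < 24029 → P i := stepQ 24028 Q24028 (allL N24028 (tt N46152 (iv1 F122221)) (tt N27699 (iv0 F71120)) (tt N23495 F57176) (tt N46287 D79949) (tt N11883 (iv4 D36417)) (tt N27883 F293098) (tt N46288 D79951) (tt N23729 F57177))
theorem Q24030 : ∀ i, i < 24030 → P i := stepQ 24029 Q24029 (allL N24029 (tt N17494 F118523) (tt N23699 F118524) (tt N12603 F57178) (tt N31212 (iv3 F326148)) (tt N46288 (iv4 F122721)) (tt N12588 F57179) (tt N11883 (iv6 D36418)) (tt N23672 (iv7 F118796)))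
theorem Q24031 : ∀ i, i < 24031 → P i := stepQ 24030 Q24030 (allL N24030 (tt N23754 (iv1 F57181)) (tt N11884 (iv0 D36419)) (tt N23757 (iv2 F57182)) (tt N46289 D79952) (tt N13336 F57180) (tt N27889 F294898) (tt N18208 F325218) (tt N23756 (iv7 F57183)))
theorem Q24032 : ∀ i, i < 24032 → P i := stepQ 24031 Q24031 (allL N24031 (tt N11884 (iv1 D36420)) (tt N23754 F57184) (tt N23756 (iv2 F57187)) (tt N46290 D79955) (tt N13133 F57186) (tt N27888 F294902) (tt N34953 (iv6 F90523)) (tt N23757 F57185))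
theorem Q24033 : ∀ i, i < 24033 → P i := stepQ 24032 Q24032 (allL N24032 (tt N46291 D79957) (tt N46292 D79958) (tt N46293 D79959) (tt N11884 (iv3 D36421)) (tt N11886 F57188) (tt N46294 D79960) (tt N46295 D79961) (tt N23758 F57189))
theorem Q24034 : ∀ i, i < 24034 → P i := stepQ 24033 Q24033 (allL N24033 (tt N45826 (iv1 F119731)) (tt N45828 (iv0 F119735)) (tt N25922 (iv2 F63611)) (tt N46294 (iv3 F122746)) (tt N25604 (iv4 F61665)) (tt N11884 (iv5 D36422)) (tt N46296 D79962) (tt N23759 F57190))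
theorem Q24035 : ∀ i, i < 24035 → P i := stepQ 24034 Q24034 (allL N24034 (tt N12359 (iv1 F296368)) (tt N35790 F325209) (tt N46283 (iv2 F122678)) (tt N46295 (iv3 F122748)) (tt N11885 F57191) (tt N46297 D79965) (tt N11884 (iv6 D36423)) (tt N46298 D79966))
theorem Q24036 : ∀ i, i < 24036 → P i := stepQ 24035 Q24035 (allL N24035 (tt N46285 F122695) (tt N11885 (iv0 D36424)) (tt N27290 (iv2 F296060)) (tt N23447 (iv3 F296061)) (tt N46299 D79969) (tt N13635 (iv5 F296063)) (tt N13797 F295942) (tt N46284 (iv7 F124474)))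
theorem Q24037 : ∀ i, i < 24037 → P i := stepQ 24036 Q24036 (allL N24036 (tt N11885 (iv1 D36425)) (tt N46285 F122694) (tt N46284 (iv2 F124473)) (tt N16022 (iv3 F326109)) (tt N46300 D79972) (tt N23683 (iv5 F119485)) (tt N16019 F325187) (tt N27290 F296350))
theorem Q24038 : ∀ i, i < 24038 → P i := stepQ 24037 Q24037 (allL N24037 (tt N46284 (iv1 F122683)) (tt N27290 F296351) (tt N46285 (iv2 F122690)) (tt N11890 F57192) (tt N46298 (iv4 F122750)) (tt N11956 F57193) (tt N23763 F57194) (tt N11885 (iv7 D36426)))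
theorem Q24039 : ∀ i, i < 24039 → P i := stepQ 24038 Q24038 (allL N24038 (tt N23766 (iv1 F57195)) (tt N11886 (iv0 D36427)) (tt N23765 F257930) (tt N46301 D79975) (tt N46302 D79976) (tt N23723 F254082) (tt N46303 D79978) (tt N23764 F257931))
theorem Q24040 : ∀ i, i < 24040 → P i := stepQ 24039 Q24039 (allL N24039 (tt N11886 (iv1 D36428)) (tt N23766 F57199) (tt N23764 (iv2 F257925)) (tt N46304 D79980) (tt N46305 D79981) (tt N23724 F254093) (tt N46306 D79983) (tt N23765 (iv7 F257929)))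
theorem Q24041 : ∀ i, i < 24041 → P i := stepQ 24040 Q24040 (allL N24040 (tt N23765 (iv1 F57200)) (tt N23764 F57198) (tt N11886 (iv2 D36429)) (tt N23494 F57196) (tt N46293 (iv4 F122742)) (tt N24055 (iv5 F57241)) (tt N46307 D79984) (tt N23766 F57197))
theorem Q24042 : ∀ i, i < 24042 → P i := stepQ 24041 Q24041 (allL N24041 (tt N46308 D79985) (tt N46309 D79986) (tt N46307 (iv2 F122761)) (tt N11887 F57201) (tt N46295 (iv4 F122749)) (tt N46310 D79987) (tt N11886 (iv6 D36430)) (tt N46311 D79988))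
theorem Q24043 : ∀ i, i < 24043 → P i := stepQ 24042 Q24042 (allL N24042 (tt N45383 (iv1 F115600)) (tt N23527 F311677) (tt N23490 F57202) (tt N46310 (iv3 F122763)) (tt N37508 F311678) (tt N11887 (iv5 D36431)) (tt N23642 F57203) (tt N46312 D79990))
theorem Q24044 : ∀ i, i < 24044 → P i := stepQ 24043 Q24043 (allL N24043 (tt N23121 (iv1 F57207)) (tt N23118 F57208) (tt N23491 F57204) (tt N46311 (iv3 F122765)) (tt N11890 F57205) (tt N46312 (iv5 F122773)) (tt N23769 F57206) (tt N11887 (iv7 D36432)))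
theorem Q24045 : ∀ i, i < 24045 → P i := stepQ 24044 Q24044 (allL N24044 (tt N22937 F57218) (tt N23482 F57219) (tt N11894 F57216) (tt N46313 D79994) (tt N11891 (iv4 D36436)) (tt N45475 (iv5 F115973)) (tt N45645 (iv6 F119251)) (tt N23456 F57217))
theorem Q24046 : ∀ i, i < 24046 → P i := stepQ 24045 Q24045 (allL N24045 (tt N44645 (iv1 F112751)) (tt N44686 (iv0 F112863)) (tt N23448 F57220) (tt N46314 D79995) (tt N11892 (iv4 D36437)) (tt N46315 D79996) (tt N44843 (iv6 F296599)) (tt N23481 F57221))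
theorem Q24047 : ∀ i, i < 24047 → P i := stepQ 24046 Q24046 (allL N24046 (tt N23695 F120872) (tt N13977 (iv0 F296602)) (tt N23447 F57222) (tt N45327 (iv3 F115291)) (tt N44843 (iv4 F296598)) (tt N12561 F57223) (tt N11892 (iv6 D36438)) (tt N23645 F121256))
theorem Q24048 : ∀ i, i < 24048 → P i := stepQ 24047 Q24047 (allL N24047 (tt N44686 (iv1 F112864)) (tt N44645 (iv0 F112750)) (tt N23481 F57224) (tt N46316 D79998) (tt N11893 (iv4 D36439)) (tt N46317 D79999) (tt N46318 D80000) (tt N23448 F57225))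
theorem Q24049 : ∀ i, i < 24049 → P i := stepQ 24048 Q24048 (allL N24048 (tt N23793 F254940) (tt N46319 D80002) (tt N16023 (iv2 F323052)) (tt N27292 (iv3 F70026)) (tt N46318 (iv4 F122792)) (tt N23718 F57227) (tt N11893 (iv6 D36440)) (tt N46320 D80003))
theorem Q24050 : ∀ i, i < 24050 → P i := stepQ 24049 Q24049 (allL N24049 (tt N23456 (iv1 F57229)) (tt N11894 (iv0 D36441)) (tt N22937 (iv2 F57230)) (tt N31174 (iv3 F326029)) (tt N22934 F57228) (tt N46321 D80005) (tt N46322 D80006) (tt N23482 (iv7 F57231)))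
theorem Q24051 : ∀ i, i < 24051 → P i := stepQ 24050 Q24050 (allL N24050 (tt N11894 (iv1 D36442)) (tt N23456 F57232) (tt N23482 (iv2 F57235)) (tt N46323 D80007) (tt N22938 F57234) (tt N46324 D80008) (tt N31165 F325230) (tt N22937 F57233))
theorem Q24052 : ∀ i, i < 24052 → P i := stepQ 24051 Q24051 (allL N24051 (tt N46325 D80010) (tt N46326 D80011) (tt N46327 D80012) (tt N11894 (iv3 D36443)) (tt N11895 F57236) (tt N46328 D80013) (tt N45668 (iv6 F119315)) (tt N23483 F57237))
theorem Q24053 : ∀ i, i < 24053 → P i := stepQ 24052 Q24052 (allL N24052 (tt N45795 (iv1 F119665)) (tt N45797 (iv0 F119671)) (tt N45475 (iv2 F115971)) (tt N46328 (iv3 F122828)) (tt N45427 (iv4 F115800)) (tt N11894 (iv5 D36444)) (tt N46329 D80014) (tt N23484 F57238))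
theorem Q24054 : ∀ i, i < 24054 → P i := stepQ 24053 Q24053 (allL N24053 (tt N23494 (iv1 F57239)) (tt N11895 (iv0 D36445)) (tt N23493 F254211) (tt N46330 D80016) (tt N46331 D80017) (tt N23743 F250801) (tt N42136 (iv6 F334014)) (tt N23492 F254212))
theorem Q24055 : ∀ i, i < 24055 → P i := stepQ 24054 Q24054 (allL N24054 (tt N11895 (iv1 D36446)) (tt N23494 F57244) (tt N23492 (iv2 F254206)) (tt N46332 D80021) (tt N36336 (iv4 F333992)) (tt N23744 F250818) (tt N36335 (iv6 F333993)) (tt N23493 (iv7 F254210)))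
theorem Q24056 : ∀ i, i < 24056 → P i := stepQ 24055 Q24055 (allL N24055 (tt N23493 (iv1 F57245)) (tt N23492 F57243) (tt N11895 (iv2 D36447)) (tt N23766 F57240) (tt N46327 (iv4 F122824)) (tt N24040 F57241) (tt N45672 (iv6 F119324)) (tt N23494 F57242))
theorem Q24057 : ∀ i, i < 24057 → P i := stepQ 24056 Q24056 (allL N24056 (tt N45953 (iv1 F258035)) (tt N46333 D80032) (tt N46334 D80033) (tt N11896 (iv3 D36449)) (tt N46335 D80034) (tt N34752 F194346) (tt N46336 D80036) (tt N45917 (iv7 F258208)))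
theorem Q24058 : ∀ i, i < 24058 → P i := stepQ 24057 Q24057 (allL N24057 (tt N46337 D80038) (tt N46338 D80039) (tt N45921 F258200) (tt N46339 D80040) (tt N11896 (iv4 D36450)) (tt N46340 D80041) (tt N37601 F330855) (tt N45918 (iv7 F258210)))
theorem Q24059 : ∀ i, i < 24059 → P i := stepQ 24058 Q24058 (allL N24058 (tt N46341 D80049) (tt N45861 (iv0 F330824)) (tt N45922 F258202) (tt N46336 (iv3 F122844)) (tt N37601 (iv4 F330825)) (tt N19081 (iv5 F330826)) (tt N11896 (iv6 D36452)) (tt N46171 F330803))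
theorem Q24060 : ∀ i, i < 24060 → P i := stepQ 24059 Q24059 (allL N24059 (tt N46342 D80054) (tt N45980 (iv0 F254427)) (tt N46343 D80056) (tt N11897 (iv3 D36454)) (tt N46344 D80057) (tt N34754 (iv5 F194341)) (tt N46172 (iv6 F330778)) (tt N45920 F258195))
theorem Q24061 : ∀ i, i < 24061 → P i := stepQ 24060 Q24060 (allL N24060 (tt N46338 (iv1 F122847)) (tt N46337 F122851) (tt N45918 (iv2 F258209)) (tt N46345 D80060) (tt N11897 (iv4 D36455)) (tt N46346 D80061) (tt N46173 (iv6 F330779)) (tt N45921 F258203))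
theorem Q24062 : ∀ i, i < 24062 → P i := stepQ 24061 Q24061 (allL N24061 (tt N23478 F121379) (tt N45794 F121380) (tt N45793 F121495) (tt N11899 (iv3 D36458)) (tt N31047 (iv4 F324442)) (tt N31352 F323034) (tt N26004 F296606) (tt N31310 F323035))
theorem Q24063 : ∀ i, i < 24063 → P i := stepQ 24062 Q24062 (allL N24062 (tt N18000 (iv1 F60699)) (tt N25060 F60700) (tt N25323 F60702) (tt N46347 D80070) (tt N11899 (iv4 D36459)) (tt N44096 F316264) (tt N25277 F60636) (tt N25322 F60698))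
theorem Q24064 : ∀ i, i < 24064 → P i := stepQ 24063 Q24063 (allL N24063 (tt N46348 D80081) (tt N42723 (iv0 F106987)) (tt N46349 D80082) (tt N11900 (iv3 D36469)) (tt N27279 (iv4 F69988)) (tt N46350 D80083) (tt N35514 F316554) (tt N14042 F296155))
theorem Q24065 : ∀ i, i < 24065 → P i := stepQ 24064 Q24064 (allL N24064 (tt N44764 (iv1 F296649)) (tt N34779 (iv0 F89593)) (tt N23458 F57271) (tt N46350 (iv3 F122895)) (tt N12146 F296160) (tt N11900 (iv5 D36470)) (tt N46351 D80085) (tt N14043 F296161))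
theorem Q24066 : ∀ i, i < 24066 → P i := stepQ 24065 Q24065 (allL N24065 (tt N12572 F57289) (tt N24367 (iv0 F58385)) (tt N25324 F60707) (tt N30952 F326223) (tt N11903 (iv4 D36476)) (tt N40365 F341330) (tt N40366 (iv6 F341336)) (tt N23513 F57288))
theorem Q24067 : ∀ i, i < 24067 → P i := stepQ 24066 Q24066 (allL N24066 (tt N17465 F57301) (tt N17483 F57302) (tt N17481 F57299) (tt N46352 D80107) (tt N11906 (iv4 D36483)) (tt N18844 (iv5 F320261)) (tt N12401 (iv6 F300687)) (tt N17480 F57300))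
theorem Q24068 : ∀ i, i < 24068 → P i := stepQ 24067 Q24067 (allL N24067 (tt N33929 (iv1 F86225)) (tt N11907 (iv0 D36491)) (tt N33942 (iv2 F300386)) (tt N46353 D80120) (tt N46354 D80121) (tt N46355 D80122) (tt N46356 D80123) (tt N33941 (iv7 F300385)))
theorem Q24069 : ∀ i, i < 24069 → P i := stepQ 24068 Q24068 (allL N24068 (tt N11907 (iv1 D36492)) (tt N33929 F86224) (tt N33941 F302361) (tt N46357 D80125) (tt N21787 (iv4 F303951)) (tt N46358 D80127) (tt N46359 D80128) (tt N33942 F302362))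
theorem Q24070 : ∀ i, i < 24070 → P i := stepQ 24069 Q24069 (allL N24069 (tt N11908 (iv1 F299459)) (tt N11908 (iv0 D36496)) (tt N11934 F117038) (tt N46360 D80138) (tt N12045 (iv4 F57326)) (tt N37240 (iv5 F304916)) (tt N46361 D80140) (tt N11934 (iv7 F299481)))
theorem Q24071 : ∀ i, i < 24071 → P i := stepQ 24070 Q24070 (allL N24070 (tt N13936 F296256) (tt N13967 (iv0 F296618)) (tt N13966 (iv2 F297085)) (tt N11909 (iv3 D36501)) (tt N17626 (iv4 F297182)) (tt N23600 (iv5 F297183)) (tt N46362 D80148) (tt N11935 (iv7 F297083)))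
theorem Q24072 : ∀ i, i < 24072 → P i := stepQ 24071 Q24071 (allL N24071 (tt N19335 F302117) (tt N19335 F302118) (tt N11936 F91330) (tt N23004 F305468) (tt N11909 (iv4 D36502)) (tt N38923 (iv5 F304686)) (tt N46363 D80152) (tt N11936 F299281))
theorem Q24073 : ∀ i, i < 24073 → P i := stepQ 24072 Q24072 (allL N24072 (tt N23487 F91557) (tt N23506 (iv0 F301793)) (tt N11938 F91332) (tt N46362 (iv3 F123026)) (tt N46363 (iv4 F123040)) (tt N15557 (iv5 F324111)) (tt N11909 (iv6 D36504)) (tt N31835 F324107))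
theorem Q24074 : ∀ i, i < 24074 → P i := stepQ 24073 Q24073 (allL N24073 (tt N44644 (iv1 F112746)) (tt N11910 (iv0 D36509)) (tt N44643 (iv2 F114047)) (tt N22226 F310584) (tt N34787 (iv4 F117284)) (tt N23522 (iv5 F297095)) (tt N46364 D80162) (tt N23502 F112747))
theorem Q24075 : ∀ i, i < 24075 → P i := stepQ 24074 Q24074 (allL N24074 (tt N11910 (iv1 D36510)) (tt N44644 F112745) (tt N23502 F91438) (tt N13971 F91439) (tt N34788 (iv4 F117282)) (tt N23523 (iv5 F296749)) (tt N23467 (iv6 F296737)) (tt N44643 F114008))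
theorem Q24076 : ∀ i, i < 24076 → P i := stepQ 24075 Q24075 (allL N24075 (tt N23502 (iv1 F114049)) (tt N44643 (iv0 F112738)) (tt N44644 (iv2 F112740)) (tt N11917 F57341) (tt N23099 (iv4 F91395)) (tt N25234 (iv5 F91162)) (tt N23510 F57342) (tt N11910 (iv7 D36511)))
theorem Q24077 : ∀ i, i < 24077 → P i := stepQ 24076 Q24076 (allL N24076 (tt N23885 F57345) (tt N34204 F86941) (tt N43304 F108470) (tt N11911 (iv3 D36512)) (tt N23459 F57343) (tt N19514 (iv5 F302713)) (tt N37222 (iv6 F304354)) (tt N23516 F57344))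
theorem Q24078 : ∀ i, i < 24078 → P i := stepQ 24077 Q24077 (allL N24077 (tt N46365 D80167) (tt N46366 D80168) (tt N12247 F57348) (tt N11914 F57349) (tt N14085 F57350) (tt N45857 F320327) (tt N11912 (iv6 D36514)) (tt N46367 D80170))
theorem Q24079 : ∀ i, i < 24079 → P i := stepQ 24078 Q24078 (allL N24078 (tt N11922 (iv1 F57354)) (tt N11913 (iv0 D36515)) (tt N12250 (iv2 F57355)) (tt N46368 D80171) (tt N17730 F57352) (tt N12147 F57351) (tt N46369 D80172) (tt N12217 (iv7 F57356)))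
theorem Q24080 : ∀ i, i < 24080 → P i := stepQ 24079 Q24079 (allL N24079 (tt N11913 (iv1 D36516)) (tt N11922 F57357) (tt N12217 (iv2 F57360)) (tt N34201 (iv3 F86920)) (tt N24214 (iv4 F57758)) (tt N12214 F57359) (tt N37147 (iv6 F302497)) (tt N12250 F57358))
theorem Q24081 : ∀ i, i < 24081 → P i := stepQ 24080 Q24080 (allL N24080 (tt N23490 (iv1 F313445)) (tt N46312 (iv0 F311350)) (tt N23527 F57361) (tt N12161 F57362) (tt N23933 F57363) (tt N23116 (iv5 F313483)) (tt N11913 (iv6 D36517)) (tt N45383 (iv7 F313285)))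
theorem Q24082 : ∀ i, i < 24082 → P i := stepQ 24081 Q24081 (allL N24081 (tt N23530 (iv1 F57369)) (tt N11914 (iv0 D36518)) (tt N23528 F113051) (tt N37597 F314722) (tt N22956 (iv4 F91435)) (tt N45559 (iv5 F302049)) (tt N46370 D80180) (tt N23029 F113043))
theorem Q24083 : ∀ i, i < 24083 → P i := stepQ 24082 Q24082 (allL N24082 (tt N11914 (iv1 D36519)) (tt N23530 F57364) (tt N23029 (iv2 F113049)) (tt N46371 D80181) (tt N23028 F113048) (tt N45560 (iv5 F302054)) (tt N23517 F299240) (tt N23528 (iv7 F113050)))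
theorem Q24084 : ∀ i, i < 24084 → P i := stepQ 24083 Q24083 (allL N24083 (tt N23029 (iv1 F91400)) (tt N23528 F57371) (tt N23530 F57366) (tt N46367 (iv3 F123109)) (tt N11917 F57367) (tt N23828 F320330) (tt N23520 F57368) (tt N11914 (iv7 D36521)))
theorem Q24085 : ∀ i, i < 24085 → P i := stepQ 24084 Q24084 (allL N24084 (tt N34767 F116613) (tt N11930 F116614) (tt N23505 F91390) (tt N46372 D80188) (tt N11915 (iv4 D36524)) (tt N45584 (iv5 F300356)) (tt N46373 D80190) (tt N23531 F91378))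
theorem Q24086 : ∀ i, i < 24086 → P i := stepQ 24085 Q24085 (allL N24085 (tt N11938 (iv1 F301698)) (tt N31835 F324101) (tt N23506 F91319) (tt N11971 F299241) (tt N46373 (iv4 F123161)) (tt N23622 F57373) (tt N11915 (iv6 D36526)) (tt N23487 (iv7 F300883)))
theorem Q24087 : ∀ i, i < 24087 → P i := stepQ 24086 Q24086 (allL N24086 (tt N11930 F116615) (tt N34767 F116616) (tt N23531 F91389) (tt N34555 F91221) (tt N11916 (iv4 D36529)) (tt N45585 (iv5 F300359)) (tt N23521 (iv6 F299461)) (tt N23505 F91222))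
theorem Q24088 : ∀ i, i < 24088 → P i := stepQ 24087 Q24087 (allL N24087 (tt N23467 F115324) (tt N46374 D80195) (tt N11920 F57376) (tt N13962 F57377) (tt N17653 F57378) (tt N31211 F326989) (tt N11918 (iv6 D36532)) (tt N46375 D80197))
theorem Q24089 : ∀ i, i < 24089 → P i := stepQ 24088 Q24088 (allL N24088 (tt N28032 (iv1 F300531)) (tt N14177 (iv0 F300533)) (tt N28030 (iv2 F300535)) (tt N11919 (iv3 D36533)) (tt N11921 F57379) (tt N34972 (iv5 F90556)) (tt N46376 D80201) (tt N17648 F57380))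
theorem Q24090 : ∀ i, i < 24090 → P i := stepQ 24089 Q24089 (allL N24089 (tt N23102 (iv1 F300540)) (tt N45338 (iv0 F115344)) (tt N17653 F57381) (tt N46376 (iv3 F123203)) (tt N11920 F57382) (tt N35257 (iv5 F300544)) (tt N11919 (iv6 D36534)) (tt N45354 (iv7 F115395)))
theorem Q24091 : ∀ i, i < 24091 → P i := stepQ 24090 Q24090 (allL N24090 (tt N46375 (iv1 F123190)) (tt N11920 (iv0 D36535)) (tt N23467 F115869) (tt N23504 F296893) (tt N23400 F115332) (tt N45610 (iv5 F298501)) (tt N23502 (iv6 F297080)) (tt N46374 (iv7 F123175)))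
theorem Q24092 : ∀ i, i < 24092 → P i := stepQ 24091 Q24091 (allL N24091 (tt N11920 (iv1 D36536)) (tt N46375 F123189) (tt N46374 (iv2 F123177)) (tt N23453 (iv3 F115875)) (tt N23401 F115874) (tt N45611 (iv5 F299373)) (tt N46377 D80206) (tt N23467 F115873))
theorem Q24093 : ∀ i, i < 24093 → P i := stepQ 24092 Q24092 (allL N24092 (tt N31212 F326976) (tt N31196 F326977) (tt N31211 F326987) (tt N11926 F57383) (tt N35269 (iv4 F297438)) (tt N11920 (iv5 D36537)) (tt N17546 F57384) (tt N23610 (iv7 F297251)))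
theorem Q24094 : ∀ i, i < 24094 → P i := stepQ 24093 Q24093 (allL N24093 (tt N46374 (iv1 F123174)) (tt N23467 F115857) (tt N46375 (iv2 F123185)) (tt N11927 F57385) (tt N45354 (iv4 F115393)) (tt N23610 F298108) (tt N23524 F57386) (tt N11920 (iv7 D36538)))
theorem Q24095 : ∀ i, i < 24095 → P i := stepQ 24094 Q24094 (allL N24094 (tt N12245 (iv1 F57387)) (tt N11921 (iv0 D36539)) (tt N23525 (iv2 F57391)) (tt N37607 F307220) (tt N26036 (iv4 F302397)) (tt N22980 (iv5 F64255)) (tt N23006 (iv6 F302398)) (tt N23007 F299473))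
theorem Q24096 : ∀ i, i < 24096 → P i := stepQ 24095 Q24095 (allL N24095 (tt N23525 (iv1 F57397)) (tt N23007 F299477) (tt N11921 (iv2 D36541)) (tt N12163 F57394) (tt N28030 (iv4 F300537)) (tt N12162 (iv5 F57398)) (tt N46378 D80214) (tt N12245 F57395))
theorem Q24097 : ∀ i, i < 24097 → P i := stepQ 24096 Q24096 (allL N24096 (tt N12242 (iv1 F57403)) (tt N12241 F57404) (tt N12162 F57400) (tt N11922 F57401) (tt N26124 (iv4 F64248)) (tt N11921 (iv5 D36542)) (tt N46379 D80215) (tt N12243 F57402))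
theorem Q24098 : ∀ i, i < 24098 → P i := stepQ 24097 Q24097 (allL N24097 (tt N46380 D80216) (tt N46381 D80217) (tt N46378 (iv2 F123226)) (tt N11923 F57405) (tt N46376 (iv4 F123204)) (tt N46382 D80218) (tt N11921 (iv6 D36543)) (tt N46383 D80219))
theorem Q24099 : ∀ i, i < 24099 → P i := stepQ 24098 Q24098 (allL N24098 (tt N46384 D80220) (tt N37143 (iv0 F305599)) (tt N12251 F57406) (tt N46379 (iv3 F123229)) (tt N23932 F57407) (tt N46385 D80222) (tt N11922 (iv6 D36544)) (tt N46386 D80223))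
theorem Q24100 : ∀ i, i < 24100 → P i := stepQ 24099 Q24099 (allL N24099 (tt N23520 (iv1 F57413)) (tt N11923 (iv0 D36545)) (tt N23517 (iv2 F113029)) (tt N46387 D80224) (tt N23030 F299464) (tt N45614 (iv5 F302382)) (tt N23029 F299465) (tt N23518 (iv7 F113031)))
theorem Q24101 : ∀ i, i < 24101 → P i := stepQ 24100 Q24100 (allL N24100 (tt N11923 (iv1 D36546)) (tt N23520 F57408) (tt N23518 F113030) (tt N46388 D80227) (tt N23041 F91499) (tt N25163 (iv5 F322594)) (tt N46389 D80229) (tt N23517 F113028))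
theorem Q24102 : ∀ i, i < 24102 → P i := stepQ 24101 Q24101 (allL N24101 (tt N40504 (iv1 F323638)) (tt N40497 (iv0 F324867)) (tt N23519 F57409) (tt N46382 (iv3 F123230)) (tt N40484 F323536) (tt N11923 (iv5 D36547)) (tt N46385 (iv6 F123235)) (tt N46390 D80233))
theorem Q24103 : ∀ i, i < 24103 → P i := stepQ 24102 Q24102 (allL N24102 (tt N23518 (iv1 F57414)) (tt N23517 F57415) (tt N23520 F57410) (tt N46383 (iv3 F123231)) (tt N11927 F57411) (tt N46390 (iv5 F123260)) (tt N23530 F57412) (tt N11923 (iv7 D36548)))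
theorem Q24104 : ∀ i, i < 24104 → P i := stepQ 24103 Q24103 (allL N24103 (tt N34766 F117080) (tt N11933 F117081) (tt N23521 (iv2 F91301)) (tt N34447 F91235) (tt N11924 (iv4 D36551)) (tt N41564 (iv5 F322589)) (tt N23531 (iv6 F299470)) (tt N23486 F91236))
theorem Q24105 : ∀ i, i < 24105 → P i := stepQ 24104 Q24104 (allL N24104 (tt N11933 F117078) (tt N34766 F117079) (tt N23486 (iv2 F91303)) (tt N41582 (iv3 F322586)) (tt N11925 (iv4 D36555)) (tt N35499 (iv5 F322587)) (tt N46391 D80238) (tt N23521 (iv7 F91300)))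
theorem Q24106 : ∀ i, i < 24106 → P i := stepQ 24105 Q24105 (allL N24105 (tt N31835 F324102) (tt N11938 F91210) (tt N23487 (iv2 F91245)) (tt N11981 F303211) (tt N46391 (iv4 F123276)) (tt N23621 F303212) (tt N11925 (iv6 D36557)) (tt N23506 F303213))
theorem Q24107 : ∀ i, i < 24107 → P i := stepQ 24106 Q24106 (allL N24106 (tt N25080 (iv1 F60275)) (tt N11928 (iv0 D36562)) (tt N34764 F89300) (tt N12121 F57431) (tt N37570 F306996) (tt N12120 F57430) (tt N25071 F301231) (tt N24606 (iv7 F59163)))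
theorem Q24108 : ∀ i, i < 24108 → P i := stepQ 24107 Q24107 (allL N24107 (tt N11928 (iv1 D36563)) (tt N25080 F60274) (tt N24606 (iv2 F60276)) (tt N46392 D80253) (tt N37571 F306997) (tt N27984 (iv5 F72449)) (tt N46393 D80255) (tt N34764 (iv7 F89299)))
theorem Q24109 : ∀ i, i < 24109 → P i := stepQ 24108 Q24108 (allL N24108 (tt N34764 (iv1 F89298)) (tt N24606 F59165) (tt N11928 (iv2 D36564)) (tt N17230 F57432) (tt N43432 F306810) (tt N17229 (iv5 F57433)) (tt N37577 (iv6 F308642)) (tt N25080 (iv7 F60273)))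
theorem Q24110 : ∀ i, i < 24110 → P i := stepQ 24109 Q24109 (allL N24109 (tt N42463 F106238) (tt N46394 D80258) (tt N43432 F306144) (tt N12741 F57434) (tt N11928 (iv4 D36565)) (tt N22165 F306145) (tt N22166 (iv6 F308115)) (tt N25377 (iv7 F60858)))
theorem Q24111 : ∀ i, i < 24111 → P i := stepQ 24110 Q24110 (allL N24110 (tt N13954 (iv1 F57438)) (tt N24593 F59150) (tt N17229 F57435) (tt N11929 F57436) (tt N23896 (iv4 F57439)) (tt N11928 (iv5 D36566)) (tt N46395 D80261) (tt N23581 F57437))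
theorem Q24112 : ∀ i, i < 24112 → P i := stepQ 24111 Q24111 (allL N24111 (tt N37563 (iv1 F312401)) (tt N21581 (iv0 F312402)) (tt N37577 F310147) (tt N11930 F57440) (tt N22166 F310148) (tt N46396 D80264) (tt N11928 (iv6 D36567)) (tt N37576 (iv7 F312405)))
theorem Q24113 : ∀ i, i < 24113 → P i := stepQ 24112 Q24112 (allL N24112 (tt N23126 (iv1 F311679)) (tt N45396 F311621) (tt N23583 F57441) (tt N46395 (iv3 F123344)) (tt N21817 F303553) (tt N24169 (iv5 F314094)) (tt N11929 (iv6 D36568)) (tt N45395 F311622))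
theorem Q24114 : ∀ i, i < 24114 → P i := stepQ 24113 Q24113 (allL N24113 (tt N23824 (iv1 F318811)) (tt N17515 (iv0 F318812)) (tt N23751 F316539) (tt N46396 (iv3 F123347)) (tt N17506 (iv4 F318810)) (tt N11930 (iv5 D36571)) (tt N24169 F316540) (tt N23753 (iv7 F318813)))
theorem Q24115 : ∀ i, i < 24115 → P i := stepQ 24114 Q24114 (allL N24114 (tt N23531 F116611) (tt N23505 F116612) (tt N34767 (iv2 F89313)) (tt N37576 F314838) (tt N23910 F57443) (tt N23753 F320944) (tt N34766 (iv6 F89307)) (tt N11930 (iv7 D36572)))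
theorem Q24116 : ∀ i, i < 24116 → P i := stepQ 24115 Q24115 (allL N24115 (tt N17230 (iv1 F57445)) (tt N11931 (iv0 D36573)) (tt N25072 F60264) (tt N46397 D80274) (tt N42862 (iv4 F107428)) (tt N21776 F57444) (tt N46398 D80275) (tt N25071 F60259))
theorem Q24117 : ∀ i, i < 24117 → P i := stepQ 24116 Q24116 (allL N24116 (tt N11931 (iv1 D36574)) (tt N17230 F57446) (tt N25071 (iv2 F60260)) (tt N24655 F60266) (tt N37612 F307904) (tt N34058 (iv5 F86625)) (tt N34764 (iv6 F304006)) (tt N25072 (iv7 F60262)))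
theorem Q24118 : ∀ i, i < 24118 → P i := stepQ 24117 Q24117 (allL N24117 (tt N37587 F314258) (tt N46399 D80278) (tt N25083 (iv2 F60283)) (tt N11933 F57447) (tt N27713 (iv4 F71178)) (tt N46400 D80279) (tt N11931 (iv6 D36575)) (tt N46401 D80280))
theorem Q24119 : ∀ i, i < 24119 → P i := stepQ 24118 Q24118 (allL N24118 (tt N46402 D80281) (tt N36950 (iv0 F303986)) (tt N23582 F57448) (tt N17224 F57449) (tt N21823 F301198) (tt N44087 F318956) (tt N11932 (iv6 D36576)) (tt N46403 D80284))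
theorem Q24120 : ∀ i, i < 24120 → P i := stepQ 24119 Q24119 (allL N24119 (tt N23539 (iv1 F299918)) (tt N23595 (iv0 F300392)) (tt N23594 (iv2 F299462)) (tt N46400 (iv3 F123363)) (tt N41054 (iv4 F321024)) (tt N11933 (iv5 D36579)) (tt N44087 F318957) (tt N23593 (iv7 F300394)))
theorem Q24121 : ∀ i, i < 24121 → P i := stepQ 24120 Q24120 (allL N24120 (tt N23486 (iv1 F116637)) (tt N23521 (iv0 F116638)) (tt N34766 (iv2 F89305)) (tt N46401 (iv3 F123365)) (tt N23913 F57451) (tt N23593 (iv5 F300393)) (tt N34767 (iv6 F89315)) (tt N11933 (iv7 D36580)))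
theorem Q24122 : ∀ i, i < 24122 → P i := stepQ 24121 Q24121 (allL N24121 (tt N46398 F312087) (tt N46393 F312088) (tt N46404 D80311) (tt N11934 (iv3 D36588)) (tt N46405 D80312) (tt N46406 D80313) (tt N46407 D80314) (tt N46360 (iv7 F300417)))
theorem Q24123 : ∀ i, i < 24123 → P i := stepQ 24122 Q24122 (allL N24122 (tt N37364 F305436) (tt N37364 F305437) (tt N37240 F305438) (tt N46406 (iv3 F123394)) (tt N19338 (iv4 F306795)) (tt N11934 (iv5 D36590)) (tt N37340 (iv6 F307465)) (tt N37240 F305439))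
theorem Q24124 : ∀ i, i < 24124 → P i := stepQ 24123 Q24123 (allL N24123 (tt N46391 (iv1 F123403)) (tt N46373 F302413) (tt N46361 (iv2 F123005)) (tt N46407 (iv3 F123395)) (tt N31106 (iv4 F323519)) (tt N44410 F321815) (tt N11934 (iv6 D36591)) (tt N46408 D80322))
theorem Q24125 : ∀ i, i < 24125 → P i := stepQ 24124 Q24124 (allL N24124 (tt N13967 F119024) (tt N13936 F119025) (tt N11935 (iv2 D36609)) (tt N13966 (iv3 F297086)) (tt N17625 F91369) (tt N46409 D80347) (tt N46410 D80348) (tt N13966 F118885))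
theorem Q24126 : ∀ i, i < 24126 → P i := stepQ 24125 Q24125 (allL N24125 (tt N17388 (iv1 F299877)) (tt N17614 (iv0 F57470)) (tt N17625 F91364) (tt N28043 F308587) (tt N11935 (iv4 D36610)) (tt N46411 D80350) (tt N46412 D80351) (tt N17626 F91365))
theorem Q24127 : ∀ i, i < 24127 → P i := stepQ 24126 Q24126 (allL N24126 (tt N46413 D80352) (tt N46414 D80353) (tt N46409 (iv2 F123424)) (tt N11937 F57471) (tt N34978 (iv4 F301701)) (tt N11935 (iv5 D36611)) (tt N23541 F299007) (tt N23600 F91366))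
theorem Q24128 : ∀ i, i < 24128 → P i := stepQ 24127 Q24127 (allL N24127 (tt N46415 D80356) (tt N46416 D80357) (tt N46410 (iv2 F123432)) (tt N11938 F57472) (tt N46412 (iv4 F123441)) (tt N31879 F325338) (tt N11935 (iv6 D36612)) (tt N46417 D80359))
theorem Q24129 : ∀ i, i < 24129 → P i := stepQ 24128 Q24128 (allL N24128 (tt N23006 F304687) (tt N22953 F304688) (tt N23003 F304689) (tt N11936 (iv3 D36616)) (tt N28043 (iv4 F306709)) (tt N46418 D80365) (tt N46419 D80366) (tt N23004 F304690))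
theorem Q24130 : ∀ i, i < 24130 → P i := stepQ 24129 Q24129 (allL N24129 (tt N36974 (iv1 F305445)) (tt N36974 (iv0 F305444)) (tt N38923 F304691) (tt N46418 (iv3 F123472)) (tt N19646 (iv4 F306716)) (tt N11936 (iv5 D36617)) (tt N36923 (iv6 F306717)) (tt N38923 F304692))
theorem Q24131 : ∀ i, i < 24131 → P i := stepQ 24130 Q24130 (allL N24130 (tt N46389 F123255) (tt N46370 (iv0 F302051)) (tt N46363 (iv2 F123039)) (tt N46419 (iv3 F123473)) (tt N11938 F57475) (tt N39953 F323548) (tt N11936 (iv6 D36618)) (tt N46420 D80373))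
theorem Q24132 : ∀ i, i < 24132 → P i := stepQ 24131 Q24131 (allL N24131 (tt N11937 (iv1 F301695)) (tt N11937 (iv0 D36620)) (tt N23566 (iv2 F302121)) (tt N11968 F300802) (tt N46421 D80374) (tt N23566 F57479) (tt N12569 F300803) (tt N23566 (iv7 F91208)))
theorem Q24133 : ∀ i, i < 24133 → P i := stepQ 24132 Q24132 (allL N24132 (tt N46422 D80376) (tt N46422 F303079) (tt N23603 F303080) (tt N46423 D80378) (tt N11937 (iv4 D36622)) (tt N18892 F305864) (tt N23542 F303081) (tt N23603 F91377))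
theorem Q24134 : ∀ i, i < 24134 → P i := stepQ 24133 Q24133 (allL N24133 (tt N23506 F303668) (tt N23487 F91373) (tt N31835 F324099) (tt N46417 (iv3 F123467)) (tt N46420 (iv4 F123480)) (tt N15524 (iv5 F324114)) (tt N31835 F324100) (tt N11938 (iv7 D36628)))
theorem Q24135 : ∀ i, i < 24135 → P i := stepQ 24134 Q24134 (allL N24134 (tt N46424 D80408) (tt N46425 D80409) (tt N42420 (iv2 F106165)) (tt N11939 (iv3 D36644)) (tt N23498 F57500) (tt N45437 (iv5 F115839)) (tt N46426 D80410) (tt N23449 F57501))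
theorem Q24136 : ∀ i, i < 24136 → P i := stepQ 24135 Q24135 (allL N24135 (tt N23019 F57504) (tt N23034 (iv0 F296748)) (tt N11942 F57502) (tt N46426 (iv3 F123582)) (tt N11940 F57503) (tt N46427 D80412) (tt N11939 (iv6 D36645)) (tt N46428 D80413))
theorem Q24137 : ∀ i, i < 24137 → P i := stepQ 24136 Q24136 (allL N24136 (tt N11945 (iv1 F57510)) (tt N11940 (iv0 D36646)) (tt N11943 F115893) (tt N23500 (iv3 F296187)) (tt N46429 D80414) (tt N13970 (iv5 F296712)) (tt N34762 (iv6 F121386)) (tt N11944 F115894))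
theorem Q24138 : ∀ i, i < 24138 → P i := stepQ 24137 Q24137 (allL N24137 (tt N11940 (iv1 D36647)) (tt N11945 F57505) (tt N11944 F115889) (tt N23523 (iv3 F91464)) (tt N44810 (iv4 F296752)) (tt N13971 (iv5 F296713)) (tt N13975 (iv6 F296708)) (tt N11943 F115890))
theorem Q24139 : ∀ i, i < 24139 → P i := stepQ 24138 Q24138 (allL N24138 (tt N11944 (iv1 F57511)) (tt N11943 F57512) (tt N11945 F57507) (tt N23499 F57508) (tt N46428 (iv4 F123590)) (tt N25356 (iv5 F60755)) (tt N23455 F57509) (tt N11940 (iv7 D36648)))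
theorem Q24140 : ∀ i, i < 24140 → P i := stepQ 24139 Q24139 (allL N24139 (tt N23450 (iv1 F57518)) (tt N11941 (iv0 D36651)) (tt N12184 (iv2 F57519)) (tt N42092 F308686) (tt N25361 (iv4 F60776)) (tt N12180 F57517) (tt N46430 D80422) (tt N23461 (iv7 F57520)))
theorem Q24141 : ∀ i, i < 24141 → P i := stepQ 24140 Q24140 (allL N24140 (tt N11941 (iv1 D36652)) (tt N23450 F57521) (tt N23461 (iv2 F57525)) (tt N22080 (iv3 F57524)) (tt N25358 (iv4 F60764)) (tt N12155 F57523) (tt N46431 D80423) (tt N12184 F57522))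
theorem Q24142 : ∀ i, i < 24142 → P i := stepQ 24141 Q24141 (allL N24141 (tt N46432 D80424) (tt N46433 D80425) (tt N45438 (iv2 F115841)) (tt N42426 (iv3 F106178)) (tt N45422 (iv4 F115778)) (tt N46434 D80426) (tt N11941 (iv6 D36653)) (tt N46435 D80427))
theorem Q24143 : ∀ i, i < 24143 → P i := stepQ 24142 Q24142 (allL N24142 (tt N46428 (iv1 F123593)) (tt N11942 (iv0 D36654)) (tt N23019 (iv2 F113062)) (tt N46436 D80428) (tt N22958 F297013) (tt N46437 D80429) (tt N46438 D80430) (tt N23034 F297014))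
theorem Q24144 : ∀ i, i < 24144 → P i := stepQ 24143 Q24143 (allL N24143 (tt N11942 (iv1 D36655)) (tt N46428 F123592) (tt N23034 F297015) (tt N46439 D80431) (tt N22960 (iv4 F57526)) (tt N46440 D80432) (tt N23039 (iv6 F297356)) (tt N23019 (iv7 F113061)))
theorem Q24145 : ∀ i, i < 24145 → P i := stepQ 24144 Q24144 (allL N24144 (tt N12312 (iv1 F298822)) (tt N12301 (iv0 F298823)) (tt N46427 (iv2 F123588)) (tt N42429 (iv3 F106179)) (tt N46441 D80436) (tt N11942 (iv5 D36656)) (tt N46434 (iv6 F123619)) (tt N46442 D80437))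
theorem Q24146 : ∀ i, i < 24146 → P i := stepQ 24145 Q24145 (allL N24145 (tt N23034 F297023) (tt N23019 (iv0 F57529)) (tt N46428 (iv2 F123589)) (tt N42430 (iv3 F106180)) (tt N11945 F57527) (tt N46442 (iv5 F123632)) (tt N23466 F57528) (tt N11942 (iv7 D36657)))
theorem Q24147 : ∀ i, i < 24147 → P i := stepQ 24146 Q24146 (allL N24146 (tt N23524 F91432) (tt N17645 F91433) (tt N23522 F115898) (tt N11943 (iv3 D36659)) (tt N34475 F87635) (tt N44643 F298109) (tt N46416 (iv6 F300565)) (tt N23523 F115891))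
theorem Q24148 : ∀ i, i < 24148 → P i := stepQ 24147 Q24147 (allL N24147 (tt N44814 (iv1 F113555)) (tt N34823 F298139) (tt N46429 (iv2 F123594)) (tt N46443 D80440) (tt N11943 (iv4 D36660)) (tt N12290 (iv5 F299435)) (tt N46444 D80442) (tt N44810 F298140))
theorem Q24149 : ∀ i, i < 24149 → P i := stepQ 24148 Q24148 (allL N24148 (tt N13987 F298141) (tt N34763 F121369) (tt N34762 (iv2 F121383)) (tt N46416 (iv3 F300563)) (tt N46444 (iv4 F123644)) (tt N45644 F119249) (tt N11943 (iv6 D36662)) (tt N34761 (iv7 F121396)))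
theorem Q24150 : ∀ i, i < 24150 → P i := stepQ 24149 Q24149 (allL N24149 (tt N12725 F113856) (tt N23907 F113857) (tt N23503 F296520) (tt N11944 (iv3 D36664)) (tt N27728 (iv4 F116720)) (tt N19006 F310589) (tt N11954 F296522) (tt N23500 F296523))
theorem Q24151 : ∀ i, i < 24151 → P i := stepQ 24150 Q24150 (allL N24150 (tt N34823 F298142) (tt N44814 (iv0 F113858)) (tt N44810 F298143) (tt N38103 F308409) (tt N11944 (iv4 D36665)) (tt N12291 (iv5 F299436)) (tt N38101 (iv6 F310553)) (tt N46429 (iv7 F123595)))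
theorem Q24152 : ∀ i, i < 24152 → P i := stepQ 24151 Q24151 (allL N24151 (tt N13978 (iv1 F296710)) (tt N12928 F296518) (tt N13975 (iv2 F296707)) (tt N11954 F296519) (tt N38101 F310622) (tt N34634 F121372) (tt N11944 (iv6 D36667)) (tt N13976 (iv7 F296709)))
theorem Q24153 : ∀ i, i < 24153 → P i := stepQ 24152 Q24152 (allL N24152 (tt N46445 D80453) (tt N46446 D80454) (tt N42452 (iv2 F106203)) (tt N11950 (iv3 D36680)) (tt N23449 F57555) (tt N25537 (iv5 F61456)) (tt N46447 D80455) (tt N23498 F57556))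
theorem Q24154 : ∀ i, i < 24154 → P i := stepQ 24153 Q24153 (allL N24153 (tt N45353 F115388) (tt N46448 D80456) (tt N11953 F57557) (tt N46447 (iv3 F123672)) (tt N11951 F57558) (tt N46449 D80457) (tt N11950 (iv6 D36681)) (tt N46450 D80458))
theorem Q24155 : ∀ i, i < 24155 → P i := stepQ 24154 Q24154 (allL N24154 (tt N11956 F57560) (tt N11951 (iv0 D36682)) (tt N11954 F114035) (tt N23507 F114036) (tt N46451 D80459) (tt N45729 (iv5 F119520)) (tt N23503 F57559) (tt N11955 F114037))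
theorem Q24156 : ∀ i, i < 24156 → P i := stepQ 24155 Q24155 (allL N24155 (tt N11951 (iv1 D36683)) (tt N11956 F57561) (tt N11955 F114033) (tt N13976 F71267) (tt N41051 F318421) (tt N45689 (iv5 F297126)) (tt N34758 F119038) (tt N11954 F114034))
theorem Q24157 : ∀ i, i < 24157 → P i := stepQ 24156 Q24156 (allL N24156 (tt N11955 (iv1 F57565)) (tt N11954 F57566) (tt N11956 F57562) (tt N23455 F57563) (tt N46450 (iv4 F123680)) (tt N46285 (iv5 F122692)) (tt N23499 F57564) (tt N11951 (iv7 D36684)))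
theorem Q24158 : ∀ i, i < 24158 → P i := stepQ 24157 Q24157 (allL N24157 (tt N21851 (iv1 F304634)) (tt N43555 (iv0 F304635)) (tt N25538 (iv2 F61457)) (tt N21866 (iv3 F302896)) (tt N25516 (iv4 F61378)) (tt N46452 D80463) (tt N11952 (iv6 D36685)) (tt N18536 (iv7 F302895)))
theorem Q24159 : ∀ i, i < 24159 → P i := stepQ 24158 Q24158 (allL N24158 (tt N46450 (iv1 F123683)) (tt N11953 (iv0 D36686)) (tt N45353 (iv2 F115471)) (tt N22778 F305283) (tt N17434 (iv4 F297843)) (tt N46453 D80466) (tt N17433 (iv6 F297844)) (tt N46448 (iv7 F123675)))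
theorem Q24160 : ∀ i, i < 24160 → P i := stepQ 24159 Q24159 (allL N24159 (tt N11953 (iv1 D36687)) (tt N46450 F123682) (tt N46448 (iv2 F123677)) (tt N46454 D80468) (tt N24274 (iv4 F117084)) (tt N46455 D80469) (tt N46456 D80470) (tt N45353 (iv7 F115470)))
theorem Q24161 : ∀ i, i < 24161 → P i := stepQ 24160 Q24160 (allL N24160 (tt N12348 (iv1 F297846)) (tt N46457 D80472) (tt N46449 (iv2 F123678)) (tt N42468 (iv3 F106256)) (tt N46458 D80473) (tt N11953 (iv5 D36688)) (tt N46452 (iv6 F123691)) (tt N46459 D80474))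
theorem Q24162 : ∀ i, i < 24162 → P i := stepQ 24161 Q24161 (allL N24161 (tt N46448 (iv1 F123674)) (tt N45353 (iv0 F115387)) (tt N46450 (iv2 F123679)) (tt N38309 (iv3 F307430)) (tt N11956 F57567) (tt N46459 (iv5 F123695)) (tt N15331 (iv6 F307203)) (tt N11953 (iv7 D36689)))
theorem Q24163 : ∀ i, i < 24163 → P i := stepQ 24162 Q24162 (allL N24162 (tt N22230 (iv1 F308113)) (tt N25378 (iv0 F117054)) (tt N46451 (iv2 F123684)) (tt N22038 (iv3 F308511)) (tt N11954 (iv4 D36692)) (tt N33458 F318313) (tt N27728 (iv6 F297852)) (tt N41051 F318314))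
theorem Q24164 : ∀ i, i < 24164 → P i := stepQ 24163 Q24163 (allL N24163 (tt N45721 F119480) (tt N34611 (iv0 F297855)) (tt N45729 (iv2 F119518)) (tt N34634 (iv3 F297851)) (tt N46460 D80480) (tt N11954 (iv5 D36693)) (tt N34624 F119061) (tt N45689 (iv7 F297128)))
theorem Q24165 : ∀ i, i < 24165 → P i := stepQ 24164 Q24164 (allL N24164 (tt N13962 F114029) (tt N23510 F114030) (tt N23508 F114031) (tt N11955 (iv3 D36696)) (tt N34795 (iv4 F117583)) (tt N45618 (iv5 F297172)) (tt N46415 (iv6 F135875)) (tt N23507 F114032))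
theorem Q24166 : ∀ i, i < 24166 → P i := stepQ 24165 Q24165 (allL N24165 (tt N25378 F117077) (tt N22230 (iv0 F308112)) (tt N41051 F318420) (tt N46461 D80483) (tt N11955 (iv4 D36697)) (tt N40859 F322205) (tt N46462 D80485) (tt N46451 (iv7 F123686)))
theorem Q24167 : ∀ i, i < 24167 → P i := stepQ 24166 Q24166 (allL N24166 (tt N34611 (iv1 F297856)) (tt N45721 (iv0 F119479)) (tt N45689 (iv2 F297125)) (tt N45618 (iv3 F297171)) (tt N46463 D80486) (tt N11955 (iv5 D36698)) (tt N45820 (iv6 F119716)) (tt N45729 F119521))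
theorem Q24168 : ∀ i, i < 24168 → P i := stepQ 24167 Q24167 (allL N24167 (tt N23999 (iv1 F119051)) (tt N25382 (iv0 F118546)) (tt N34758 (iv2 F119039)) (tt N46415 (iv3 F135874)) (tt N46462 (iv4 F123711)) (tt N27283 (iv5 F297419)) (tt N11955 (iv6 D36699)) (tt N34759 (iv7 F119047)))
theorem Q24169 : ∀ i, i < 24169 → P i := stepQ 24168 Q24168 (allL N24168 (tt N35279 (iv1 F91872)) (tt N34745 F88975) (tt N23485 F57581) (tt N41586 F317709) (tt N11957 (iv4 D36705)) (tt N44946 (iv5 F114169)) (tt N34627 (iv6 F88307)) (tt N23488 F57582))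
theorem Q24170 : ∀ i, i < 24170 → P i := stepQ 24169 Q24169 (allL N24169 (tt N34745 F88974) (tt N35279 (iv0 F91871)) (tt N23488 F57593) (tt N46464 D80491) (tt N11959 (iv4 D36712)) (tt N24112 F314094) (tt N24113 (iv6 F316540)) (tt N23485 F57594))
theorem Q24171 : ∀ i, i < 24171 → P i := stepQ 24170 Q24170 (allL N24170 (tt N23657 (iv1 F57600)) (tt N23656 F57601) (tt N11963 F57598) (tt N25381 (iv3 F118836)) (tt N46465 D80497) (tt N11961 (iv5 D36724)) (tt N12935 F298189) (tt N13986 F298190))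
theorem Q24172 : ∀ i, i < 24172 → P i := stepQ 24171 Q24171 (allL N24171 (tt N23473 F121419) (tt N44800 (iv0 F299287)) (tt N11964 F57602) (tt N25382 (iv3 F118874)) (tt N24468 (iv4 F298879)) (tt N24003 (iv5 F57603)) (tt N11961 (iv6 D36725)) (tt N46466 D80499))
theorem Q24173 : ∀ i, i < 24173 → P i := stepQ 24172 Q24172 (allL N24172 (tt N46467 D80502) (tt N22248 F190175) (tt N46468 D80504) (tt N11962 (iv3 D36728)) (tt N11965 F57604) (tt N46469 D80505) (tt N46470 D80506) (tt N21872 F57605))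
theorem Q24174 : ∀ i, i < 24174 → P i := stepQ 24173 Q24173 (allL N24173 (tt N46471 D80507) (tt N46472 D80508) (tt N24467 (iv2 F298877)) (tt N46469 (iv3 F123756)) (tt N46473 D80509) (tt N11962 (iv5 D36729)) (tt N46474 D80510) (tt N24464 (iv7 F298881)))
theorem Q24175 : ∀ i, i < 24175 → P i := stepQ 24174 Q24174 (allL N24174 (tt N46475 D80511) (tt N23023 (iv0 F300793)) (tt N24468 (iv2 F298878)) (tt N46470 (iv3 F123758)) (tt N11964 F57606) (tt N46476 D80513) (tt N11962 (iv6 D36730)) (tt N46477 D80514))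
theorem Q24176 : ∀ i, i < 24176 → P i := stepQ 24175 Q24175 (allL N24175 (tt N13986 F298295) (tt N11963 (iv0 D36731)) (tt N23657 F121414) (tt N46414 (iv3 F298963)) (tt N24556 (iv4 F300840)) (tt N23656 F121418) (tt N23985 (iv6 F121358)) (tt N23656 F121415))
theorem Q24177 : ∀ i, i < 24177 → P i := stepQ 24176 Q24176 (allL N24176 (tt N11963 (iv1 D36732)) (tt N13986 (iv0 F296818)) (tt N23656 F121411) (tt N25466 (iv3 F296876)) (tt N24822 (iv4 F298297)) (tt N23657 F121392) (tt N12567 F121391) (tt N23657 F121412))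
theorem Q24178 : ∀ i, i < 24178 → P i := stepQ 24177 Q24177 (allL N24177 (tt N12313 (iv1 F299438)) (tt N24857 F298405) (tt N46465 (iv2 F123727)) (tt N46478 D80519) (tt N11963 (iv4 D36733)) (tt N44748 (iv5 F299519)) (tt N12201 (iv6 F299432)) (tt N23651 F57609))
theorem Q24179 : ∀ i, i < 24179 → P i := stepQ 24178 Q24178 (allL N24178 (tt N12938 F297792) (tt N12597 F297793) (tt N12935 F297794) (tt N11970 F57610) (tt N12201 (iv4 F299431)) (tt N24005 F57611) (tt N11963 (iv6 D36734)) (tt N12936 F297795))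
theorem Q24180 : ∀ i, i < 24180 → P i := stepQ 24179 Q24179 (allL N24179 (tt N46466 (iv1 F123747)) (tt N11964 (iv0 D36735)) (tt N23473 F121402) (tt N46377 (iv3 F123214)) (tt N44803 (iv4 F300627)) (tt N34731 F121403) (tt N23453 F121404) (tt N44800 (iv7 F299291)))
theorem Q24181 : ∀ i, i < 24181 → P i := stepQ 24180 Q24180 (allL N24180 (tt N11964 (iv1 D36736)) (tt N46466 F123746) (tt N44800 (iv2 F299289)) (tt N23501 F298276) (tt N38093 F314473) (tt N34732 F121405) (tt N13970 F298277) (tt N23473 F121406))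
theorem Q24182 : ∀ i, i < 24182 → P i := stepQ 24181 Q24181 (allL N24181 (tt N44800 (iv1 F299288)) (tt N23473 F121321) (tt N46466 (iv2 F123743)) (tt N11972 F57613) (tt N46477 (iv4 F123765)) (tt N17579 F57614) (tt N34763 (iv6 F89254)) (tt N11964 (iv7 D36737)))
theorem Q24183 : ∀ i, i < 24183 → P i := stepQ 24182 Q24182 (allL N24182 (tt N18541 (iv1 F188325)) (tt N11965 (iv0 D36738)) (tt N18543 (iv2 F188326)) (tt N46479 D80527) (tt N46480 D80528) (tt N46481 D80529) (tt N18521 (iv6 F188327)) (tt N18522 (iv7 F188328)))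
theorem Q24184 : ∀ i, i < 24184 → P i := stepQ 24183 Q24183 (allL N24183 (tt N18543 (iv1 F188310)) (tt N18522 F188307) (tt N11965 (iv2 D36740)) (tt N21867 F57616) (tt N46468 (iv4 F123751)) (tt N20624 F317015) (tt N46482 D80537) (tt N18541 F188343))
theorem Q24185 : ∀ i, i < 24185 → P i := stepQ 24184 Q24184 (allL N24184 (tt N46483 D80542) (tt N46484 D80543) (tt N46482 (iv2 F123808)) (tt N11966 F57623) (tt N46470 (iv4 F123759)) (tt N20628 F317999) (tt N11965 (iv6 D36742)) (tt N42616 (iv7 F106523)))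
theorem Q24186 : ∀ i, i < 24186 → P i := stepQ 24185 Q24185 (allL N24185 (tt N11966 (iv1 D36746)) (tt N21871 F57633) (tt N21870 F57637) (tt N46485 D80549) (tt N17430 F57635) (tt N21628 F57638) (tt N17429 (iv6 F57636)) (tt N21803 F57634))
theorem Q24187 : ∀ i, i < 24187 → P i := stepQ 24186 Q24186 (allL N24186 (tt N46486 D80551) (tt N36617 (iv0 F201233)) (tt N46487 D80553) (tt N11969 (iv3 D36749)) (tt N46478 (iv4 F123782)) (tt N33904 (iv5 F86020)) (tt N36604 (iv6 F190684)) (tt N23661 F57650))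
theorem Q24188 : ∀ i, i < 24188 → P i := stepQ 24187 Q24187 (allL N24187 (tt N12046 (iv1 F297149)) (tt N12049 (iv0 F297146)) (tt N25380 F118861) (tt N46488 D80554) (tt N11973 (iv4 D36758)) (tt N42275 F317886) (tt N12020 F296548) (tt N13939 F118863))
theorem Q24189 : ∀ i, i < 24189 → P i := stepQ 24188 Q24188 (allL N24188 (tt N12640 (iv1 F118841)) (tt N25466 (iv0 F118842)) (tt N11976 F57656) (tt N13986 (iv3 F296819)) (tt N35496 (iv4 F297933)) (tt N11974 (iv5 D36762)) (tt N12602 F118828) (tt N25381 (iv7 F118837)))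
theorem Q24190 : ∀ i, i < 24190 → P i := stepQ 24189 Q24189 (allL N24189 (tt N46489 D80560) (tt N23501 F118872) (tt N11977 F57659) (tt N13987 (iv3 F296821)) (tt N24311 (iv4 F297931)) (tt N46490 D80561) (tt N11974 (iv6 D36763)) (tt N46491 D80562))
theorem Q24191 : ∀ i, i < 24191 → P i := stepQ 24190 Q24190 (allL N24190 (tt N42465 (iv1 F185045)) (tt N46492 D80566) (tt N46493 D80567) (tt N11975 (iv3 D36766)) (tt N11978 F57660) (tt N44046 F321724) (tt N38354 (iv6 F307457)) (tt N21868 F57661))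
theorem Q24192 : ∀ i, i < 24192 → P i := stepQ 24191 Q24191 (allL N24191 (tt N21661 (iv1 F311465)) (tt N46494 D80571) (tt N24310 F299197) (tt N44046 F321722) (tt N46495 D80572) (tt N11975 (iv5 D36767)) (tt N46496 D80573) (tt N24312 F299198))
theorem Q24193 : ∀ i, i < 24193 → P i := stepQ 24192 Q24192 (allL N24192 (tt N45384 F299199) (tt N46497 D80575) (tt N24311 F299200) (tt N38354 F309507) (tt N11977 F57662) (tt N35301 (iv5 F299837)) (tt N11975 (iv6 D36768)) (tt N46498 D80577))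
theorem Q24194 : ∀ i, i < 24194 → P i := stepQ 24193 Q24193 (allL N24193 (tt N25381 (iv1 F118834)) (tt N11976 (iv0 D36769)) (tt N12640 F118809) (tt N23657 (iv3 F298245)) (tt N38279 F310629) (tt N25466 F118811) (tt N12595 F118812) (tt N25466 F118813))
theorem Q24195 : ∀ i, i < 24195 → P i := stepQ 24194 Q24194 (allL N24194 (tt N11976 (iv1 D36770)) (tt N25381 (iv0 F118833)) (tt N25466 F118814) (tt N46413 F123446) (tt N22225 F312892) (tt N12640 F118815) (tt N13667 F297818) (tt N12640 F118817))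
theorem Q24196 : ∀ i, i < 24196 → P i := stepQ 24195 Q24195 (allL N24195 (tt N25195 F299201) (tt N35495 (iv0 F299416)) (tt N35496 F299202) (tt N38324 F309472) (tt N11976 (iv4 D36771)) (tt N46499 D80582) (tt N17484 F57663) (tt N34757 (iv7 F89221)))
theorem Q24197 : ∀ i, i < 24197 → P i := stepQ 24196 Q24196 (allL N24196 (tt N46491 (iv1 F123863)) (tt N11977 (iv0 D36772)) (tt N46489 F123852) (tt N23473 F296897) (tt N38157 F312897) (tt N23761 (iv5 F119514)) (tt N23470 F296898) (tt N23501 F119511))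
theorem Q24198 : ∀ i, i < 24198 → P i := stepQ 24197 Q24197 (allL N24197 (tt N11977 (iv1 D36773)) (tt N46491 F123862) (tt N23501 F118865) (tt N46364 (iv3 F123092)) (tt N22227 F310586) (tt N23762 F118866) (tt N22226 F310587) (tt N46489 (iv7 F123853)))
theorem Q24199 : ∀ i, i < 24199 → P i := stepQ 24198 Q24198 (allL N24198 (tt N27583 F296848) (tt N46500 D80587) (tt N46490 (iv2 F123855)) (tt N11982 F57664) (tt N35313 F296849) (tt N11977 (iv5 D36774)) (tt N17485 F57665) (tt N23937 F296850))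
theorem Q24200 : ∀ i, i < 24200 → P i := stepQ 24199 Q24199 (allL N24199 (tt N23501 F119034) (tt N46489 F123854) (tt N46491 (iv2 F123860)) (tt N11983 F57666) (tt N46498 (iv4 F123882)) (tt N23937 F298412) (tt N23999 F57667) (tt N11977 (iv7 D36775)))
theorem Q24201 : ∀ i, i < 24201 → P i := stepQ 24200 Q24200 (allL N24200 (tt N11978 (iv1 D36777)) (tt N21867 F57672) (tt N21866 F191183) (tt N46501 D80596) (tt N46502 D80597) (tt N39894 F315882) (tt N21820 (iv6 F189466)) (tt N14853 (iv7 F190045)))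
theorem Q24202 : ∀ i, i < 24202 → P i := stepQ 24201 Q24201 (allL N24201 (tt N14853 F191182) (tt N21866 F57671) (tt N11978 (iv2 D36778)) (tt N18541 F188331) (tt N46493 (iv4 F123868)) (tt N46503 D80600) (tt N46504 D80601) (tt N21867 F57670))
theorem Q24203 : ∀ i, i < 24203 → P i := stepQ 24202 Q24202 (allL N24202 (tt N46505 D80602) (tt N46506 D80603) (tt N46503 (iv2 F123928)) (tt N11979 F57674) (tt N46507 D80604) (tt N11978 (iv5 D36779)) (tt N20569 F317423) (tt N16738 F317424))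
theorem Q24204 : ∀ i, i < 24204 → P i := stepQ 24203 Q24203 (allL N24203 (tt N46508 D80606) (tt N46509 D80607) (tt N46504 (iv2 F123933)) (tt N11980 F57676) (tt N38354 F309513) (tt N36639 (iv5 F94898)) (tt N11978 (iv6 D36780)) (tt N46510 D80608))
theorem Q24205 : ∀ i, i < 24205 → P i := stepQ 24204 Q24204 (allL N24204 (tt N21875 (iv1 F57688)) (tt N11980 (iv0 D36783)) (tt N18467 (iv2 F57686)) (tt N46511 D80610) (tt N17432 F57684) (tt N14831 F57683) (tt N21818 F57685) (tt N17428 F57687))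
theorem Q24206 : ∀ i, i < 24206 → P i := stepQ 24205 Q24205 (allL N24205 (tt N17428 (iv1 F57692)) (tt N18467 F57693) (tt N21875 F57689) (tt N46510 (iv3 F123940)) (tt N11983 F57690) (tt N29816 (iv5 F77374)) (tt N21871 F57691) (tt N11980 (iv7 D36784)))
theorem Q24207 : ∀ i, i < 24207 → P i := stepQ 24206 Q24206 (allL N24206 (tt N12527 F57698) (tt N12525 F57699) (tt N23670 F57696) (tt N46512 D80611) (tt N11982 (iv4 D36786)) (tt N45557 F317566) (tt N17488 F57697) (tt N23938 F301055))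
theorem Q24208 : ∀ i, i < 24208 → P i := stepQ 24207 Q24207 (allL N24207 (tt N12307 F116639) (tt N12175 F116640) (tt N12306 F116641) (tt N12484 F296462) (tt N25502 (iv4 F116669)) (tt N23910 F57705) (tt N12219 (iv6 F296579)) (tt N11984 (iv7 D36790)))
theorem Q24209 : ∀ i, i < 24209 → P i := stepQ 24208 Q24208 (allL N24208 (tt N12215 F297312) (tt N12221 F297313) (tt N12219 F297314) (tt N12006 F57706) (tt N34713 (iv4 F299421)) (tt N31912 (iv5 F324842)) (tt N12306 F116665) (tt N11985 (iv7 D36793)))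
theorem Q24210 : ∀ i, i < 24210 → P i := stepQ 24209 Q24209 (allL N24209 (tt N25570 (iv1 F61536)) (tt N11986 (iv0 D36816)) (tt N23504 F296531) (tt N23452 F117056) (tt N19007 F310590) (tt N34624 (iv5 F297860)) (tt N19006 F310591) (tt N23470 F117057))
theorem Q24211 : ∀ i, i < 24211 → P i := stepQ 24210 Q24210 (allL N24210 (tt N11986 (iv1 D36817)) (tt N25570 F61535) (tt N23470 F117059) (tt N46374 F123176) (tt N27715 (iv4 F117063)) (tt N34625 (iv5 F297926)) (tt N46489 (iv6 F297827)) (tt N23504 F296556))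
theorem Q24212 : ∀ i, i < 24212 → P i := stepQ 24211 Q24211 (allL N24211 (tt N23470 (iv1 F115867)) (tt N23504 F296557) (tt N25570 (iv2 F61533)) (tt N11990 F57734) (tt N24301 (iv4 F58273)) (tt N17494 (iv5 F297051)) (tt N23907 F57735) (tt N11986 (iv7 D36818)))
theorem Q24213 : ∀ i, i < 24213 → P i := stepQ 24212 Q24212 (allL N24212 (tt N21820 F300279) (tt N14843 F300280) (tt N11987 (iv2 D36824)) (tt N18519 (iv3 F300745)) (tt N24296 (iv4 F58267)) (tt N12620 F57750) (tt N46513 D80679) (tt N21821 F300281))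
theorem Q24214 : ∀ i, i < 24214 → P i := stepQ 24213 Q24213 (allL N24213 (tt N45247 F309845) (tt N46514 D80681) (tt N46513 (iv2 F124113)) (tt N11989 F57754) (tt N24298 (iv4 F58271)) (tt N33857 (iv5 F303006)) (tt N11987 (iv6 D36825)) (tt N42703 (iv7 F303008)))
theorem Q24215 : ∀ i, i < 24215 → P i := stepQ 24214 Q24214 (allL N24214 (tt N11988 (iv1 D36826)) (tt N11993 F57755) (tt N21816 (iv2 F298515)) (tt N46515 D80684) (tt N24079 F57758) (tt N17466 F57757) (tt N19061 (iv6 F301130)) (tt N21815 F298476))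
theorem Q24216 : ∀ i, i < 24216 → P i := stepQ 24215 Q24215 (allL N24215 (tt N38329 (iv1 F303009)) (tt N30685 (iv0 F309155)) (tt N21817 (iv2 F300751)) (tt N25063 (iv3 F60243)) (tt N23583 F57761) (tt N22873 F308993) (tt N11988 (iv6 D36827)) (tt N46516 D80689))
theorem Q24217 : ∀ i, i < 24217 → P i := stepQ 24216 Q24216 (allL N24216 (tt N11989 (iv1 D36829)) (tt N21819 (iv0 F300752)) (tt N21818 F300283) (tt N23662 (iv3 F301898)) (tt N17439 F300284) (tt N21733 (iv5 F303015)) (tt N18467 (iv6 F303016)) (tt N17437 F300285))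
theorem Q24218 : ∀ i, i < 24218 → P i := stepQ 24217 Q24217 (allL N24217 (tt N11992 (iv1 D36846)) (tt N18519 (iv0 F300744)) (tt N18521 (iv2 F300741)) (tt N23296 (iv3 F57782)) (tt N34433 (iv4 F87533)) (tt N38380 (iv5 F302471)) (tt N18543 (iv6 F302472)) (tt N18495 (iv7 F300743)))
theorem Q24219 : ∀ i, i < 24219 → P i := stepQ 24218 Q24218 (allL N24218 (tt N18495 (iv1 F300742)) (tt N18521 (iv0 F300740)) (tt N11992 (iv2 D36847)) (tt N21821 F299515) (tt N24441 (iv4 F58740)) (tt N29797 (iv5 F77347)) (tt N46517 D80707) (tt N18519 (iv7 F300747)))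
theorem Q24220 : ∀ i, i < 24220 → P i := stepQ 24219 Q24219 (allL N24219 (tt N46518 D80708) (tt N36611 (iv0 F302473)) (tt N29797 (iv2 F77345)) (tt N11993 F57792) (tt N27700 (iv4 F71122)) (tt N11992 (iv5 D36848)) (tt N46519 D80710) (tt N21813 (iv7 F300748)))
theorem Q24221 : ∀ i, i < 24221 → P i := stepQ 24220 Q24220 (allL N24220 (tt N38371 F310792) (tt N38374 F310793) (tt N46517 (iv2 F124169)) (tt N11994 F57794) (tt N24443 (iv4 F58743)) (tt N35482 (iv5 F302474)) (tt N11992 (iv6 D36849)) (tt N46239 (iv7 F302476)))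
theorem Q24222 : ∀ i, i < 24222 → P i := stepQ 24221 Q24221 (allL N24221 (tt N37366 (iv1 F302791)) (tt N19043 (iv0 F303945)) (tt N21823 F301186) (tt N46519 (iv3 F124180)) (tt N23582 F57796) (tt N35483 (iv5 F303946)) (tt N11993 (iv6 D36850)) (tt N37365 (iv7 F303947)))
theorem Q24223 : ∀ i, i < 24223 → P i := stepQ 24222 Q24222 (allL N24222 (tt N13208 (iv1 F58144)) (tt N11997 (iv0 D37183)) (tt N13205 (iv2 F66616)) (tt N13434 (iv3 F66646)) (tt N13805 F66805) (tt N13941 F291030) (tt N46520 D81424) (tt N13206 F66615))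
theorem Q24224 : ∀ i, i < 24224 → P i := stepQ 24223 Q24223 (allL N24223 (tt N28375 (iv1 F290710)) (tt N14546 (iv0 F290712)) (tt N13207 F58139) (tt N24427 (iv3 F58682)) (tt N26736 (iv4 F290708)) (tt N11997 (iv5 D37185)) (tt N11998 F58140) (tt N27624 (iv7 F290689)))
theorem Q24225 : ∀ i, i < 24225 → P i := stepQ 24224 Q24224 (allL N24224 (tt N13206 (iv1 F58145)) (tt N13205 F58146) (tt N13208 F58141) (tt N24428 (iv3 F58685)) (tt N14515 F58142) (tt N27624 F290924) (tt N14646 F58143) (tt N11997 (iv7 D37186)))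
theorem Q24226 : ∀ i, i < 24226 → P i := stepQ 24225 Q24225 (allL N24225 (tt N18966 (iv1 F308137)) (tt N37477 (iv0 F308141)) (tt N37476 (iv2 F308221)) (tt N11999 (iv3 D37187)) (tt N25360 (iv4 F60773)) (tt N46521 D81430) (tt N23935 F308099) (tt N27281 (iv7 F70001)))
theorem Q24227 : ∀ i, i < 24227 → P i := stepQ 24226 Q24226 (allL N24226 (tt N13843 F58148) (tt N13837 F58149) (tt N24268 F58238) (tt N46521 (iv3 F125266)) (tt N13691 F58147) (tt N11999 (iv5 D37188)) (tt N41963 (iv6 F310223)) (tt N24267 F58233))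
theorem Q24228 : ∀ i, i < 24228 → P i := stepQ 24227 Q24227 (allL N24227 (tt N25405 F296485) (tt N35291 (iv0 F120903)) (tt N25475 (iv2 F297118)) (tt N23935 F308097) (tt N13768 F58150) (tt N46522 D81433) (tt N11999 (iv6 D37189)) (tt N25472 (iv7 F297115)))
theorem Q24229 : ∀ i, i < 24229 → P i := stepQ 24228 Q24228 (allL N24228 (tt N13837 F58152) (tt N13843 F58153) (tt N24267 F58232) (tt N35044 (iv3 F90728)) (tt N13692 F58151) (tt N12000 (iv5 D37190)) (tt N46523 D81434) (tt N24268 (iv7 F58235)))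
theorem Q24230 : ∀ i, i < 24230 → P i := stepQ 24229 Q24229 (allL N24229 (tt N12351 F121221) (tt N12355 F121222) (tt N27282 (iv2 F70002)) (tt N35045 (iv3 F90730)) (tt N13767 F58154) (tt N43600 F311853) (tt N12000 (iv6 D37191)) (tt N45735 (iv7 F297770)))
theorem Q24231 : ∀ i, i < 24231 → P i := stepQ 24230 Q24230 (allL N24230 (tt N12266 F71081) (tt N27694 F71079) (tt N12001 (iv2 D37192)) (tt N27701 (iv3 F71127)) (tt N34059 (iv4 F86636)) (tt N34085 (iv5 F86713)) (tt N46524 D81437) (tt N27695 (iv7 F71084)))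
theorem Q24232 : ∀ i, i < 24232 → P i := stepQ 24231 Q24231 (allL N24231 (tt N46525 D81438) (tt N46526 D81439) (tt N46524 (iv2 F125274)) (tt N12003 F58155) (tt N34105 (iv4 F86759)) (tt N46527 D81440) (tt N12001 (iv6 D37193)) (tt N46528 D81441))
theorem Q24233 : ∀ i, i < 24233 → P i := stepQ 24232 Q24232 (allL N24232 (tt N12012 (iv1 F58158)) (tt N12002 (iv0 D37194)) (tt N25388 (iv2 F296111)) (tt N42405 F306147) (tt N13782 F58157) (tt N12019 F58156) (tt N46529 D81443) (tt N25655 (iv7 F61813)))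
theorem Q24234 : ∀ i, i < 24234 → P i := stepQ 24233 Q24233 (allL N24233 (tt N12002 (iv1 D37195)) (tt N12012 F58159) (tt N25655 (iv2 F61811)) (tt N42236 F309409) (tt N13783 F58161) (tt N12020 F58160) (tt N46530 D81444) (tt N25388 F296547))
theorem Q24235 : ∀ i, i < 24235 → P i := stepQ 24234 Q24234 (allL N24234 (tt N42064 (iv1 F312416)) (tt N42063 (iv0 F312417)) (tt N27704 (iv2 F71135)) (tt N34128 (iv3 F86798)) (tt N13730 F58162) (tt N43885 (iv5 F310611)) (tt N12002 (iv6 D37196)) (tt N42062 (iv7 F312418)))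
theorem Q24236 : ∀ i, i < 24236 → P i := stepQ 24235 Q24235 (allL N24235 (tt N43877 (iv1 F310603)) (tt N43876 (iv0 F310607)) (tt N27705 (iv2 F71138)) (tt N46527 (iv3 F125275)) (tt N46531 D81461) (tt N12003 (iv5 D37199)) (tt N43885 (iv6 F310612)) (tt N42197 F308489))
theorem Q24237 : ∀ i, i < 24237 → P i := stepQ 24236 Q24236 (allL N24236 (tt N25392 F297315) (tt N25429 (iv0 F297738)) (tt N25427 (iv2 F297734)) (tt N46528 (iv3 F125276)) (tt N12006 F58163) (tt N42197 (iv5 F306683)) (tt N12475 F116767) (tt N12003 (iv7 D37200)))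
theorem Q24238 : ∀ i, i < 24238 → P i := stepQ 24237 Q24237 (allL N24237 (tt N17576 F297319) (tt N12340 (iv0 F126043)) (tt N12521 (iv2 F126038)) (tt N46532 D81476) (tt N12004 (iv4 D37203)) (tt N46533 D81477) (tt N23676 (iv6 F297724)) (tt N12619 F297320))
theorem Q24239 : ∀ i, i < 24239 → P i := stepQ 24238 Q24238 (allL N24238 (tt N24332 F58313) (tt N31308 F325175) (tt N12522 (iv2 F126040)) (tt N34772 F126010) (tt N46534 D81480) (tt N12004 (iv5 D37204)) (tt N18205 F325176) (tt N25510 F297321))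
theorem Q24240 : ∀ i, i < 24240 → P i := stepQ 24239 Q24239 (allL N24239 (tt N27708 (iv1 F71161)) (tt N12005 (iv0 D37211)) (tt N12528 F116814) (tt N34773 (iv3 F117294)) (tt N46535 D81495) (tt N44903 F116816) (tt N35800 F325655) (tt N27706 F116817))
theorem Q24241 : ∀ i, i < 24241 → P i := stepQ 24240 Q24240 (allL N24240 (tt N46184 (iv1 F297443)) (tt N46186 (iv0 F297446)) (tt N27707 (iv2 F71153)) (tt N46536 D81499) (tt N12005 (iv4 D37213)) (tt N46537 D81500) (tt N12008 F58166) (tt N46538 D81501))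
theorem Q24242 : ∀ i, i < 24242 → P i := stepQ 24241 Q24241 (allL N24241 (tt N27706 (iv1 F71151)) (tt N12528 (iv0 F116793)) (tt N27708 (iv2 F71155)) (tt N31912 F325893) (tt N46538 (iv4 F125352)) (tt N12006 F58167) (tt N27721 (iv6 F71200)) (tt N12005 (iv7 D37214)))
theorem Q24243 : ∀ i, i < 24243 → P i := stepQ 24242 Q24242 (allL N24242 (tt N23951 F58169) (tt N25575 (iv0 F61547)) (tt N12539 F58168) (tt N46539 D81502) (tt N12007 (iv4 D37215)) (tt N27276 F294456) (tt N35293 (iv6 F91918)) (tt N27665 (iv7 F70837)))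
theorem Q24244 : ∀ i, i < 24244 → P i := stepQ 24243 Q24243 (allL N24243 (tt N25373 (iv1 F60839)) (tt N12008 (iv0 D37216)) (tt N27289 (iv2 F70016)) (tt N46540 D81503) (tt N13797 F58170) (tt N46541 D81504) (tt N46299 (iv6 F296062)) (tt N27291 (iv7 F70023)))
theorem Q24245 : ∀ i, i < 24245 → P i := stepQ 24244 Q24244 (allL N24244 (tt N12008 (iv1 D37217)) (tt N25373 (iv0 F60838)) (tt N27291 (iv2 F70022)) (tt N46542 D81506) (tt N13798 F58171) (tt N46543 D81507) (tt N18098 F325642) (tt N27289 (iv7 F70017)))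
theorem Q24246 : ∀ i, i < 24246 → P i := stepQ 24245 Q24245 (allL N24245 (tt N46544 D81509) (tt N18096 (iv0 F327087)) (tt N46545 D81511) (tt N12008 (iv3 D37218)) (tt N18087 F326265) (tt N46546 D81512) (tt N46536 (iv6 F125351)) (tt N35902 F326266))
theorem Q24247 : ∀ i, i < 24247 → P i := stepQ 24246 Q24246 (allL N24246 (tt N46547 D81513) (tt N46548 D81514) (tt N27710 (iv2 F71165)) (tt N46546 (iv3 F125361)) (tt N26381 (iv4 F65031)) (tt N12008 (iv5 D37219)) (tt N46549 D81515) (tt N44619 (iv7 F112707)))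
theorem Q24248 : ∀ i, i < 24248 → P i := stepQ 24247 Q24247 (allL N24247 (tt N43420 (iv1 F305664)) (tt N43421 F304660) (tt N42096 (iv2 F306673)) (tt N12009 (iv3 D37220)) (tt N12011 F58173) (tt N46550 D81519) (tt N22805 (iv6 F306677)) (tt N25404 (iv7 F60960)))
theorem Q24249 : ∀ i, i < 24249 → P i := stepQ 24248 Q24248 (allL N24248 (tt N13938 F58177) (tt N13946 F58178) (tt N22407 (iv2 F302508)) (tt N46550 (iv3 F125368)) (tt N12754 F58176) (tt N12009 (iv5 D37221)) (tt N22397 (iv6 F304037)) (tt N22292 (iv7 F302505)))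
theorem Q24250 : ∀ i, i < 24250 → P i := stepQ 24249 Q24249 (allL N24249 (tt N25400 F116738) (tt N25401 F116739) (tt N25191 F296448) (tt N22805 (iv3 F306676)) (tt N12010 F58179) (tt N38363 (iv5 F306680)) (tt N12009 (iv6 D37222)) (tt N25192 (iv7 F297698)))
theorem Q24251 : ∀ i, i < 24251 → P i := stepQ 24250 Q24250 (allL N24250 (tt N27701 (iv1 F71129)) (tt N12011 (iv0 D37226)) (tt N17544 (iv2 F58183)) (tt N23896 F58181) (tt N21813 F303551) (tt N46551 D81523) (tt N46552 D81524) (tt N27700 (iv7 F71125)))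
theorem Q24252 : ∀ i, i < 24252 → P i := stepQ 24251 Q24251 (allL N24251 (tt N12011 (iv1 D37227)) (tt N27701 F71130) (tt N27700 F71123) (tt N17458 (iv3 F58185)) (tt N29797 (iv4 F77346)) (tt N17457 F58186) (tt N46553 D81525) (tt N17544 F58184))
theorem Q24253 : ∀ i, i < 24253 → P i := stepQ 24252 Q24252 (allL N24252 (tt N27681 (iv1 F70918)) (tt N12014 (iv0 D37246)) (tt N27680 F75470) (tt N46554 D81544) (tt N14109 (iv4 F72922)) (tt N29138 (iv5 F75106)) (tt N46555 D81545) (tt N27679 (iv7 F75466)))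
theorem Q24254 : ∀ i, i < 24254 → P i := stepQ 24253 Q24253 (allL N24253 (tt N12014 (iv1 D37247)) (tt N27681 F70921) (tt N27679 (iv2 F75465)) (tt N46556 D81546) (tt N14105 (iv4 F72919)) (tt N29139 F75485) (tt N46557 D81547) (tt N27680 F75471))
theorem Q24255 : ∀ i, i < 24255 → P i := stepQ 24254 Q24254 (allL N24254 (tt N46558 D81548) (tt N46559 D81549) (tt N42846 (iv2 F107316)) (tt N12015 F58195) (tt N34785 (iv4 F89627)) (tt N46560 D81550) (tt N12014 (iv6 D37248)) (tt N34835 F298490))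
theorem Q24256 : ∀ i, i < 24256 → P i := stepQ 24255 Q24255 (allL N24255 (tt N12015 (iv1 D37250)) (tt N12044 F58198) (tt N12042 F89182) (tt N46561 D81555) (tt N12580 F297150) (tt N40441 F324352) (tt N40442 F324353) (tt N12041 F89183))
theorem Q24257 : ∀ i, i < 24257 → P i := stepQ 24256 Q24256 (allL N24256 (tt N46499 (iv1 F300130)) (tt N46562 D81559) (tt N12043 F58199) (tt N46560 (iv3 F125421)) (tt N46563 D81560) (tt N12015 (iv5 D37251)) (tt N27855 (iv6 F71697)) (tt N34836 F298491))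
theorem Q24258 : ∀ i, i < 24258 → P i := stepQ 24257 Q24257 (allL N24257 (tt N13939 F296551) (tt N25380 F296552) (tt N12046 F116859) (tt N46564 D81563) (tt N12016 (iv4 D37255)) (tt N46565 D81564) (tt N38155 (iv6 F310834)) (tt N12049 F116860))
theorem Q24259 : ∀ i, i < 24259 → P i := stepQ 24258 Q24258 (allL N24258 (tt N12483 F116806) (tt N17977 F116807) (tt N12047 (iv2 F116853)) (tt N12050 F297725) (tt N38278 F310268) (tt N12016 (iv5 D37256)) (tt N17700 F297726) (tt N12050 (iv7 F116854)))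
theorem Q24260 : ∀ i, i < 24260 → P i := stepQ 24259 Q24259 (allL N24259 (tt N23425 F116861) (tt N34528 (iv0 F297649)) (tt N12048 F116863) (tt N12051 (iv3 F297624)) (tt N38155 F312866) (tt N17882 F58205) (tt N12016 (iv6 D37257)) (tt N44908 (iv7 F116921)))
theorem Q24261 : ∀ i, i < 24261 → P i := stepQ 24260 Q24260 (allL N24260 (tt N25380 F296549) (tt N13939 F296550) (tt N12049 F116875) (tt N46405 (iv3 F297915)) (tt N12017 (iv4 D37259)) (tt N46566 D81567) (tt N44909 F117037) (tt N12046 F116876))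
theorem Q24262 : ∀ i, i < 24262 → P i := stepQ 24261 Q24261 (allL N24261 (tt N38275 (iv1 F304048)) (tt N46567 D81569) (tt N22031 F301339) (tt N12019 (iv3 D37264)) (tt N14042 F295993) (tt N42405 (iv5 F304053)) (tt N14040 (iv6 F296032)) (tt N27279 (iv7 F69989)))
theorem Q24263 : ∀ i, i < 24263 → P i := stepQ 24262 Q24262 (allL N24262 (tt N21706 F58217) (tt N42860 F107388) (tt N42250 F306200) (tt N12020 (iv3 D37266)) (tt N17646 F58216) (tt N42236 (iv5 F307412)) (tt N46488 (iv6 F297903)) (tt N25386 F296543))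
theorem Q24264 : ∀ i, i < 24264 → P i := stepQ 24263 Q24263 (allL N24263 (tt N25082 (iv1 F60281)) (tt N12021 (iv0 D37268)) (tt N27712 F71176) (tt N42457 (iv3 F106217)) (tt N24732 (iv4 F59379)) (tt N21478 F58219) (tt N42463 (iv6 F297140)) (tt N27711 F71170))
theorem Q24265 : ∀ i, i < 24265 → P i := stepQ 24264 Q24264 (allL N24264 (tt N27712 (iv1 F71172)) (tt N27711 F71169) (tt N12021 (iv2 D37269)) (tt N27724 (iv3 F71220)) (tt N17230 F58220) (tt N16508 (iv5 F58221)) (tt N43448 (iv6 F308395)) (tt N25082 (iv7 F60279)))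
theorem Q24266 : ∀ i, i < 24266 → P i := stepQ 24265 Q24265 (allL N24265 (tt N16513 (iv1 F58227)) (tt N16500 F58226) (tt N16508 F58222) (tt N12022 F58223) (tt N21500 F58225) (tt N12021 (iv5 D37270)) (tt N46568 D81577) (tt N16509 F58224))
theorem Q24267 : ∀ i, i < 24267 → P i := stepQ 24266 Q24266 (allL N24266 (tt N46569 D81578) (tt N46570 D81579) (tt N43448 F310155) (tt N12023 F58228) (tt N25073 (iv4 F60268)) (tt N44514 (iv5 F312411)) (tt N12021 (iv6 D37271)) (tt N44901 F117113))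
theorem Q24268 : ∀ i, i < 24268 → P i := stepQ 24267 Q24267 (allL N24267 (tt N12027 (iv1 F58231)) (tt N12022 (iv0 D37272)) (tt N24228 (iv2 F58232)) (tt N46571 D81581) (tt N12813 F58230) (tt N13634 F58229) (tt N46572 D81582) (tt N24226 (iv7 F58233)))
theorem Q24269 : ∀ i, i < 24269 → P i := stepQ 24268 Q24268 (allL N24268 (tt N12022 (iv1 D37273)) (tt N12027 F58234) (tt N24226 (iv2 F58238)) (tt N45296 F115056) (tt N13643 F58237) (tt N13633 F58236) (tt N41956 (iv6 F312406)) (tt N24228 F58235))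
theorem Q24270 : ∀ i, i < 24270 → P i := stepQ 24269 Q24269 (allL N24269 (tt N41843 (iv1 F313017)) (tt N46573 D81585) (tt N27726 (iv2 F71228)) (tt N46568 (iv3 F125478)) (tt N13724 F58240) (tt N44515 F313013) (tt N12022 (iv6 D37274)) (tt N46574 D81587))
theorem Q24271 : ∀ i, i < 24271 → P i := stepQ 24270 Q24270 (allL N24270 (tt N27730 (iv1 F71237)) (tt N12023 (iv0 D37275)) (tt N27727 F117100) (tt N46575 D81588) (tt N23500 F296906) (tt N38361 (iv5 F310262)) (tt N46576 D81590) (tt N27728 F117101))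
theorem Q24272 : ∀ i, i < 24272 → P i := stepQ 24271 Q24271 (allL N24271 (tt N12023 (iv1 D37276)) (tt N27730 F71236) (tt N27728 (iv2 F117102)) (tt N46577 D81591) (tt N23503 F296909) (tt N19102 (iv5 F310263)) (tt N46451 (iv6 F297123)) (tt N27727 (iv7 F117103)))
theorem Q24273 : ∀ i, i < 24273 → P i := stepQ 24272 Q24272 (allL N24272 (tt N43444 (iv1 F304869)) (tt N43443 F302466) (tt N43445 (iv2 F303562)) (tt N12024 (iv3 D37289)) (tt N12026 F58245) (tt N22178 F302467) (tt N43840 (iv6 F304871)) (tt N22177 (iv7 F303565)))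
theorem Q24274 : ∀ i, i < 24274 → P i := stepQ 24273 Q24273 (allL N24273 (tt N46451 F123687) (tt N41051 F318418) (tt N25378 (iv2 F60859)) (tt N43840 F306143) (tt N12025 F58251) (tt N46578 D81603) (tt N12024 (iv6 D37291)) (tt N22230 (iv7 F308114)))
theorem Q24275 : ∀ i, i < 24275 → P i := stepQ 24274 Q24274 (allL N24274 (tt N12025 (iv1 D37293)) (tt N24964 F297672) (tt N27748 F297673) (tt N23396 F117083) (tt N24159 F117084) (tt N41587 F326486) (tt N44903 F297674) (tt N23404 F117085))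
theorem Q24276 : ∀ i, i < 24276 → P i := stepQ 24275 Q24275 (allL N24275 (tt N27748 (iv1 F297584)) (tt N23404 F116829) (tt N24964 (iv2 F297494)) (tt N12031 F58253) (tt N22230 F310136) (tt N24923 F296395) (tt N22229 F310137) (tt N12025 (iv7 D37295)))
theorem Q24277 : ∀ i, i < 24277 → P i := stepQ 24276 Q24276 (allL N24276 (tt N27724 (iv1 F71222)) (tt N12026 (iv0 D37296)) (tt N27723 (iv2 F71217)) (tt N46579 D81612) (tt N19517 F303880) (tt N41942 (iv5 F105112)) (tt N46580 D81613) (tt N27722 F71218))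
theorem Q24278 : ∀ i, i < 24278 → P i := stepQ 24277 Q24277 (allL N24277 (tt N12026 (iv1 D37297)) (tt N27724 F71223) (tt N27722 F71216) (tt N21700 (iv3 F58255)) (tt N36453 (iv4 F303511)) (tt N33773 (iv5 F304563)) (tt N43443 F301918) (tt N27723 (iv7 F71215)))
theorem Q24279 : ∀ i, i < 24279 → P i := stepQ 24278 Q24278 (allL N24278 (tt N27723 (iv1 F71219)) (tt N27722 F71212) (tt N12026 (iv2 D37298)) (tt N25082 F60282) (tt N43445 F305609) (tt N34596 (iv5 F88017)) (tt N22824 (iv6 F307628)) (tt N27724 (iv7 F71221)))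
theorem Q24280 : ∀ i, i < 24280 → P i := stepQ 24279 Q24279 (allL N24279 (tt N27717 (iv1 F71188)) (tt N12028 (iv0 D37302)) (tt N19007 F309768) (tt N22111 F309769) (tt N23504 F296894) (tt N22106 (iv5 F310265)) (tt N19004 F309770) (tt N27715 (iv7 F117064)))
theorem Q24281 : ∀ i, i < 24281 → P i := stepQ 24280 Q24280 (allL N24280 (tt N12028 (iv1 D37303)) (tt N27717 F71187) (tt N27715 F117062) (tt N19010 F310153) (tt N23470 F116760) (tt N42726 (iv5 F310267)) (tt N38157 (iv6 F310640)) (tt N19007 F310154))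
theorem Q24282 : ∀ i, i < 24282 → P i := stepQ 24281 Q24281 (allL N24281 (tt N27715 (iv1 F71181)) (tt N19007 F310101) (tt N27717 (iv2 F71183)) (tt N22823 F310102) (tt N12031 F58259) (tt N43817 F310103) (tt N27730 (iv6 F71234)) (tt N12028 (iv7 D37305)))
theorem Q24283 : ∀ i, i < 24283 → P i := stepQ 24282 Q24282 (allL N24282 (tt N12037 F116769) (tt N27736 F116770) (tt N23423 F116771) (tt N46581 D81636) (tt N12029 (iv4 D37312)) (tt N36438 (iv5 F311664)) (tt N46582 D81638) (tt N27718 F116772))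
theorem Q24284 : ∀ i, i < 24284 → P i := stepQ 24283 Q24283 (allL N24283 (tt N34952 F297411) (tt N31301 F325930) (tt N23424 F116774) (tt N34798 (iv3 F117316)) (tt N46583 D81639) (tt N12029 (iv5 D37313)) (tt N45990 (iv6 F120027)) (tt N27719 F116776))
theorem Q24285 : ∀ i, i < 24285 → P i := stepQ 24284 Q24284 (allL N24284 (tt N44908 F116777) (tt N12048 F116811) (tt N23425 F116778) (tt N34535 (iv3 F300696)) (tt N46582 (iv4 F125546)) (tt N35212 F298612) (tt N12029 (iv6 D37314)) (tt N34528 F298613))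
theorem Q24286 : ∀ i, i < 24286 → P i := stepQ 24285 Q24285 (allL N24285 (tt N46288 (iv1 F297050)) (tt N35854 F326403) (tt N27720 (iv2 F71196)) (tt N46584 D81648) (tt N12030 (iv4 D37317)) (tt N46585 D81649) (tt N25373 (iv6 F60836)) (tt N46586 D81650))
theorem Q24287 : ∀ i, i < 24287 → P i := stepQ 24286 Q24286 (allL N24286 (tt N23428 F126091) (tt N17702 F296376) (tt N27721 (iv2 F71198)) (tt N24923 F296377) (tt N46586 (iv4 F125554)) (tt N12031 F58263) (tt N27708 (iv6 F71157)) (tt N12030 (iv7 D37318)))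
theorem Q24288 : ∀ i, i < 24288 → P i := stepQ 24287 Q24287 (allL N24287 (tt N27734 (iv1 F71249)) (tt N12032 (iv0 D37319)) (tt N27733 F107439) (tt N37612 F307020) (tt N46587 D81651) (tt N46588 D81652) (tt N37611 F307021) (tt N27732 (iv7 F107438)))
theorem Q24289 : ∀ i, i < 24289 → P i := stepQ 24288 Q24288 (allL N24288 (tt N12032 (iv1 D37320)) (tt N27734 F71251) (tt N27732 (iv2 F107440)) (tt N46589 D81654) (tt N46590 D81655) (tt N35008 F90652) (tt N46591 D81656) (tt N27733 F107441))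
theorem Q24290 : ∀ i, i < 24290 → P i := stepQ 24289 Q24289 (allL N24289 (tt N27733 (iv1 F71250)) (tt N27732 F71245) (tt N12032 (iv2 D37321)) (tt N27739 (iv3 F71269)) (tt N27984 (iv4 F72448)) (tt N46592 D81657) (tt N46593 D81658) (tt N27734 (iv7 F71248)))
theorem Q24291 : ∀ i, i < 24291 → P i := stepQ 24290 Q24290 (allL N24290 (tt N46594 D81659) (tt N34883 (iv0 F90162)) (tt N46592 (iv2 F125577)) (tt N12033 F58264) (tt N46595 D81660) (tt N12032 (iv5 D37322)) (tt N46596 D81661) (tt N24935 (iv7 F59958)))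
theorem Q24292 : ∀ i, i < 24292 → P i := stepQ 24291 Q24291 (allL N24291 (tt N46597 D81662) (tt N46598 D81663) (tt N46593 (iv2 F125580)) (tt N12034 F58265) (tt N27985 (iv4 F72454)) (tt N46599 D81664) (tt N12032 (iv6 D37323)) (tt N44904 (iv7 F113881)))
theorem Q24293 : ∀ i, i < 24293 → P i := stepQ 24292 Q24292 (allL N24292 (tt N41330 (iv1 F315254)) (tt N41333 (iv0 F315256)) (tt N24937 (iv2 F59964)) (tt N46596 (iv3 F125590)) (tt N13706 F58266) (tt N46600 D81667) (tt N12033 (iv6 D37324)) (tt N41332 (iv7 F315259)))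
theorem Q24294 : ∀ i, i < 24294 → P i := stepQ 24293 Q24293 (allL N24293 (tt N25462 F297927) (tt N19485 F311416) (tt N27741 (iv2 F71281)) (tt N46599 (iv3 F125591)) (tt N19038 (iv4 F313227)) (tt N12034 (iv5 D37327)) (tt N46600 (iv6 F125592)) (tt N38334 F311417))
theorem Q24295 : ∀ i, i < 24295 → P i := stepQ 24294 Q24294 (allL N24294 (tt N27739 (iv1 F71272)) (tt N12035 (iv0 D37329)) (tt N27738 (iv2 F114853)) (tt N46601 D81671) (tt N45228 (iv4 F114864)) (tt N46006 (iv5 F120075)) (tt N42892 (iv6 F300291)) (tt N27737 F114852))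
theorem Q24296 : ∀ i, i < 24296 → P i := stepQ 24295 Q24295 (allL N24295 (tt N12035 (iv1 D37330)) (tt N27739 F71274) (tt N27737 F114850) (tt N19516 F303813) (tt N17160 (iv4 F300293)) (tt N45225 (iv5 F114847)) (tt N17159 (iv6 F300294)) (tt N27738 (iv7 F114851)))
theorem Q24297 : ∀ i, i < 24297 → P i := stepQ 24296 Q24296 (allL N24296 (tt N27738 (iv1 F71273)) (tt N27737 F71268) (tt N12035 (iv2 D37331)) (tt N27734 (iv3 F71246)) (tt N24212 F58267) (tt N32905 (iv5 F83728)) (tt N37631 (iv6 F308070)) (tt N27739 (iv7 F71271)))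
theorem Q24298 : ∀ i, i < 24298 → P i := stepQ 24297 Q24297 (allL N24297 (tt N43232 (iv1 F108378)) (tt N42985 (iv0 F107850)) (tt N32905 (iv2 F83727)) (tt N12036 F58268) (tt N14752 F58269) (tt N12035 (iv5 D37332)) (tt N46602 D81677) (tt N24936 (iv7 F59963)))
theorem Q24299 : ∀ i, i < 24299 → P i := stepQ 24298 Q24298 (allL N24298 (tt N37626 (iv1 F309057)) (tt N37632 (iv0 F309843)) (tt N37631 (iv2 F308069)) (tt N12037 F58270) (tt N24213 F58271) (tt N46603 D81680) (tt N12035 (iv6 D37333)) (tt N37630 (iv7 F309734)))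
theorem Q24300 : ∀ i, i < 24300 → P i := stepQ 24299 Q24299 (allL N24299 (tt N42900 (iv1 F314409)) (tt N46604 D81683) (tt N18594 (iv2 F313531)) (tt N46602 (iv3 F125611)) (tt N13693 F58272) (tt N18556 F312034) (tt N12036 (iv6 D37334)) (tt N18598 (iv7 F314410)))
theorem Q24301 : ∀ i, i < 24301 → P i := stepQ 24300 Q24300 (allL N24300 (tt N21736 F309390) (tt N45723 (iv0 F299942)) (tt N18595 (iv2 F310562)) (tt N46603 (iv3 F125613)) (tt N46605 D81688) (tt N12037 (iv5 D37337)) (tt N18556 (iv6 F311616)) (tt N46133 (iv7 F309733)))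
theorem Q24302 : ∀ i, i < 24302 → P i := stepQ 24301 Q24301 (allL N24301 (tt N23423 F59803) (tt N27718 (iv0 F116787)) (tt N27736 (iv2 F71261)) (tt N37630 F311334) (tt N24211 F58273) (tt N46133 F311335) (tt N27742 (iv6 F71285)) (tt N12037 (iv7 D37338)))
theorem Q24303 : ∀ i, i < 24303 → P i := stepQ 24302 Q24302 (allL N24302 (tt N46588 F125559) (tt N35008 (iv0 F90653)) (tt N46606 D81690) (tt N12038 (iv3 D37339)) (tt N46607 D81691) (tt N12339 F58274) (tt N46608 D81692) (tt N27587 (iv7 F70568)))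
theorem Q24304 : ∀ i, i < 24304 → P i := stepQ 24303 Q24303 (allL N24303 (tt N46609 D81693) (tt N20985 (iv0 F315261)) (tt N27612 (iv2 F70636)) (tt N46608 (iv3 F125622)) (tt N13673 F58275) (tt N46610 D81695) (tt N12038 (iv6 D37340)) (tt N18446 (iv7 F315262)))
theorem Q24305 : ∀ i, i < 24305 → P i := stepQ 24304 Q24304 (allL N24304 (tt N46006 (iv1 F120077)) (tt N45225 (iv0 F114848)) (tt N29584 (iv2 F76763)) (tt N12039 (iv3 D37341)) (tt N21537 F58276) (tt N12341 F58277) (tt N18447 (iv6 F309849)) (tt N27611 (iv7 F70635)))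
theorem Q24306 : ∀ i, i < 24306 → P i := stepQ 24305 Q24305 (allL N24305 (tt N27856 (iv1 F71703)) (tt N12040 (iv0 D37343)) (tt N27853 F336826) (tt N46611 D81703) (tt N46612 D81704) (tt N46613 D81705) (tt N46614 D81706) (tt N27854 (iv7 F336833)))
theorem Q24307 : ∀ i, i < 24307 → P i := stepQ 24306 Q24306 (allL N24306 (tt N12040 (iv1 D37344)) (tt N27856 F71702) (tt N27854 (iv2 F336832)) (tt N46615 D81708) (tt N46616 D81709) (tt N46617 D81710) (tt N46618 D81711) (tt N27853 F336831))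
theorem Q24308 : ∀ i, i < 24308 → P i := stepQ 24307 Q24307 (allL N24307 (tt N42622 (iv1 F311004)) (tt N46619 D81713) (tt N27855 (iv2 F71696)) (tt N21155 (iv3 F309244)) (tt N46620 D81714) (tt N12040 (iv5 D37345)) (tt N12043 F58279) (tt N46621 D81715))
theorem Q24309 : ∀ i, i < 24309 → P i := stepQ 24308 Q24308 (allL N24308 (tt N27854 (iv1 F71695)) (tt N27853 F71701) (tt N27856 (iv2 F71698)) (tt N42863 (iv3 F107458)) (tt N27693 (iv4 F70986)) (tt N46621 (iv5 F125632)) (tt N27747 (iv6 F71301)) (tt N12040 (iv7 D37346)))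
theorem Q24310 : ∀ i, i < 24310 → P i := stepQ 24309 Q24309 (allL N24309 (tt N46622 D81716) (tt N46591 F317485) (tt N46623 D81718) (tt N12041 (iv3 D37348)) (tt N28012 (iv4 F118923)) (tt N46624 D81719) (tt N46625 D81720) (tt N46561 (iv7 F125433)))
theorem Q24311 : ∀ i, i < 24311 → P i := stepQ 24310 Q24310 (allL N24310 (tt N42638 F311467) (tt N42640 F311468) (tt N24191 (iv2 F299197)) (tt N46624 (iv3 F125633)) (tt N46626 D81723) (tt N12041 (iv5 D37350)) (tt N46627 D81724) (tt N40441 F324354))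
theorem Q24312 : ∀ i, i < 24312 → P i := stepQ 24311 Q24311 (allL N24311 (tt N46582 (iv1 F125638)) (tt N30680 F311257) (tt N24192 (iv2 F299200)) (tt N46625 (iv3 F125634)) (tt N24189 F297931) (tt N46628 D81725) (tt N12041 (iv6 D37351)) (tt N46629 D81726))
theorem Q24313 : ∀ i, i < 24313 → P i := stepQ 24312 Q24312 (allL N24312 (tt N42640 (iv1 F309246)) (tt N42638 (iv0 F309957)) (tt N40441 (iv2 F322902)) (tt N42644 F307967) (tt N46630 D81734) (tt N12042 (iv5 D37355)) (tt N20626 F322670) (tt N24191 (iv7 F299198)))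
theorem Q24314 : ∀ i, i < 24314 → P i := stepQ 24313 Q24313 (allL N24313 (tt N44907 F125652) (tt N44528 F312802) (tt N40442 (iv2 F322905)) (tt N42893 (iv3 F300303)) (tt N17594 F297929) (tt N33248 F322679) (tt N12042 (iv6 D37356)) (tt N44905 (iv7 F148172)))
theorem Q24315 : ∀ i, i < 24315 → P i := stepQ 24314 Q24314 (allL N24314 (tt N34836 F299886) (tt N12043 (iv0 D37357)) (tt N46499 (iv2 F300131)) (tt N46631 D81739) (tt N46632 D81740) (tt N35496 F119009) (tt N42598 (iv6 F314065)) (tt N46562 F125450))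
theorem Q24316 : ∀ i, i < 24316 → P i := stepQ 24315 Q24315 (allL N24315 (tt N12043 (iv1 D37358)) (tt N34836 F299884) (tt N46562 (iv2 F125440)) (tt N40280 F318959) (tt N46633 D81743) (tt N34757 F299885) (tt N40278 F318960) (tt N46499 (iv7 F300132)))
theorem Q24317 : ∀ i, i < 24317 → P i := stepQ 24316 Q24316 (allL N24316 (tt N46033 F311464) (tt N46634 D81746) (tt N46563 (iv2 F125443)) (tt N46635 D81747) (tt N12043 (iv4 D37359)) (tt N46636 D81748) (tt N46620 (iv6 F125631)) (tt N46637 D81749))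
theorem Q24318 : ∀ i, i < 24318 → P i := stepQ 24317 Q24317 (allL N24317 (tt N46562 (iv1 F125438)) (tt N46499 (iv0 F300129)) (tt N34836 F297837) (tt N42326 F314925) (tt N46637 (iv4 F125659)) (tt N12044 F58283) (tt N42325 F314926) (tt N12043 (iv7 D37360)))
theorem Q24319 : ∀ i, i < 24319 → P i := stepQ 24318 Q24318 (allL N24318 (tt N24859 F297989) (tt N24859 F118680) (tt N24863 (iv2 F123052)) (tt N12047 F58293) (tt N23590 (iv4 F300419)) (tt N12045 (iv5 D37370)) (tt N23589 F297990) (tt N24863 (iv7 F299485)))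
theorem Q24320 : ∀ i, i < 24320 → P i := stepQ 24319 Q24319 (allL N24319 (tt N44837 (iv1 F125675)) (tt N44723 (iv0 F299471)) (tt N31106 F324121) (tt N12048 F58294) (tt N46361 (iv4 F123006)) (tt N15707 F324122) (tt N12045 (iv6 D37371)) (tt N31068 F324123))
theorem Q24321 : ∀ i, i < 24321 → P i := stepQ 24320 Q24320 (allL N24320 (tt N46638 D81758) (tt N44781 (iv0 F303001)) (tt N46639 D81760) (tt N12046 (iv3 D37375)) (tt N46360 (iv4 F123001)) (tt N46640 D81761) (tt N46641 D81762) (tt N46405 F299183))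
theorem Q24322 : ∀ i, i < 24322 → P i := stepQ 24321 Q24321 (allL N24321 (tt N23361 (iv1 F310842)) (tt N46642 D81764) (tt N46565 (iv2 F125458)) (tt N46640 (iv3 F125678)) (tt N46643 D81765) (tt N12046 (iv5 D37376)) (tt N46644 D81766) (tt N46566 (iv7 F125468)))
theorem Q24323 : ∀ i, i < 24323 → P i := stepQ 24322 Q24322 (allL N24322 (tt N38157 (iv1 F310639)) (tt N22227 F308718) (tt N38155 (iv2 F310833)) (tt N46641 (iv3 F125679)) (tt N12048 F58297) (tt N46645 D81768) (tt N12046 (iv6 D37377)) (tt N38156 (iv7 F310849)))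
theorem Q24324 : ∀ i, i < 24324 → P i := stepQ 24323 Q24323 (allL N24323 (tt N12050 (iv1 F58306)) (tt N12047 (iv0 D37379)) (tt N12483 F116762) (tt N17697 (iv3 F299873)) (tt N25463 (iv4 F297815)) (tt N17977 F116764) (tt N12477 F116765) (tt N17977 F116766))
theorem Q24325 : ∀ i, i < 24325 → P i := stepQ 24324 Q24324 (allL N24324 (tt N38279 F309751) (tt N22225 (iv0 F311950)) (tt N38278 F309752) (tt N46646 D81773) (tt N12047 (iv4 D37381)) (tt N46647 D81774) (tt N46648 D81775) (tt N24953 F117049))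
theorem Q24326 : ∀ i, i < 24326 → P i := stepQ 24325 Q24325 (allL N24325 (tt N17703 F297686) (tt N12667 F297687) (tt N17700 F297688) (tt N23589 (iv3 F297955)) (tt N46648 (iv4 F125699)) (tt N45385 F116828) (tt N12047 (iv6 D37382)) (tt N17701 F297689))
theorem Q24327 : ∀ i, i < 24327 → P i := stepQ 24326 Q24326 (allL N24326 (tt N17871 F58307) (tt N17884 (iv0 F58308)) (tt N17882 F116847) (tt N15707 F324014) (tt N46649 D81776) (tt N12048 (iv5 D37386)) (tt N45385 F116934) (tt N17881 F116848))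
theorem Q24328 : ∀ i, i < 24328 → P i := stepQ 24327 Q24327 (allL N24327 (tt N34528 (iv1 F297650)) (tt N23425 F116850) (tt N44908 (iv2 F116918)) (tt N31068 F324859) (tt N38156 F312867) (tt N17881 F116846) (tt N44902 F116845) (tt N12048 (iv7 D37387)))
theorem Q24329 : ∀ i, i < 24329 → P i := stepQ 24328 Q24328 (allL N24328 (tt N46580 (iv1 F192537)) (tt N46650 D81786) (tt N46651 D81787) (tt N12049 (iv3 D37395)) (tt N46564 F299181) (tt N41534 F322649) (tt N41536 (iv6 F323605)) (tt N46564 (iv7 F125457)))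
theorem Q24330 : ∀ i, i < 24330 → P i := stepQ 24329 Q24329 (allL N24329 (tt N46642 (iv1 F125682)) (tt N23361 (iv0 F310841)) (tt N46566 (iv2 F125467)) (tt N41534 F322644) (tt N23855 (iv4 F310845)) (tt N12049 (iv5 D37396)) (tt N41526 F322645) (tt N46565 (iv7 F125459)))
theorem Q24331 : ∀ i, i < 24331 → P i := stepQ 24330 Q24330 (allL N24330 (tt N46462 F299182) (tt N46576 (iv0 F131293)) (tt N44909 (iv2 F117036)) (tt N41536 F324149) (tt N12051 F58312) (tt N41527 F324150) (tt N12049 (iv6 D37397)) (tt N44910 F116913))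
theorem Q24332 : ∀ i, i < 24332 → P i := stepQ 24331 Q24331 (allL N24331 (tt N22225 (iv1 F311951)) (tt N38279 F310270) (tt N24953 (iv2 F117044)) (tt N46652 D81795) (tt N12050 (iv4 D37398)) (tt N46653 D81796) (tt N24920 (iv6 F59935)) (tt N38278 F310271))
theorem Q24333 : ∀ i, i < 24333 → P i := stepQ 24332 Q24332 (allL N24332 (tt N17988 F126044) (tt N24238 (iv0 F58313)) (tt N24957 F116931) (tt N17882 F296416) (tt N46654 D81797) (tt N12051 (iv5 D37401)) (tt N24921 (iv6 F59936)) (tt N25274 (iv7 F126018)))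
theorem Q24334 : ∀ i, i < 24334 → P i := stepQ 24333 Q24333 (allL N24333 (tt N34492 (iv1 F121148)) (tt N12052 (iv0 D37416)) (tt N13965 (iv2 F297081)) (tt N46655 D81798) (tt N13936 F296254) (tt N46656 D81799) (tt N12079 F296255) (tt N17647 F121348))
theorem Q24335 : ∀ i, i < 24335 → P i := stepQ 24334 Q24334 (allL N24334 (tt N46657 D81800) (tt N46658 D81801) (tt N34816 (iv2 F301518)) (tt N43390 (iv3 F108588)) (tt N46659 D81802) (tt N12052 (iv5 D37418)) (tt N46660 D81803) (tt N34813 (iv7 F301689)))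
theorem Q24336 : ∀ i, i < 24336 → P i := stepQ 24335 Q24335 (allL N24335 (tt N46661 D81804) (tt N46662 D81805) (tt N34817 (iv2 F301520)) (tt N43391 (iv3 F108589)) (tt N12054 F58321) (tt N46663 D81806) (tt N12052 (iv6 D37419)) (tt N46664 D81807))
theorem Q24337 : ∀ i, i < 24337 → P i := stepQ 24336 Q24336 (allL N24336 (tt N46665 D81808) (tt N17800 F121420) (tt N25250 F301961) (tt N46666 D81809) (tt N12053 (iv4 D37422)) (tt N46667 D81810) (tt N17848 F301962) (tt N24973 F60027))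
theorem Q24338 : ∀ i, i < 24338 → P i := stepQ 24337 Q24337 (allL N24337 (tt N34570 (iv1 F301457)) (tt N12054 (iv0 D37424)) (tt N23409 F121206) (tt N44903 F299694) (tt N46668 D81813) (tt N34773 F299695) (tt N23396 F121208) (tt N34533 F121209))
theorem Q24339 : ∀ i, i < 24339 → P i := stepQ 24338 Q24338 (allL N24338 (tt N34533 F121127) (tt N23409 F121128) (tt N34570 (iv2 F301458)) (tt N12057 F58324) (tt N46664 (iv4 F125736)) (tt N17743 F121130) (tt N25028 (iv6 F301317)) (tt N12054 (iv7 D37426)))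
theorem Q24340 : ∀ i, i < 24340 → P i := stepQ 24339 Q24339 (allL N24339 (tt N46669 D81816) (tt N17926 (iv0 F190653)) (tt N46670 D81818) (tt N12055 (iv3 D37427)) (tt N46666 (iv4 F125744)) (tt N22157 F58326) (tt N22395 F190605) (tt N22339 F190606))
theorem Q24341 : ∀ i, i < 24341 → P i := stepQ 24340 Q24340 (allL N24340 (tt N46671 D81819) (tt N24821 F118930) (tt N44752 F117798) (tt N43396 (iv3 F108623)) (tt N46672 D81820) (tt N12058 (iv5 D37442)) (tt N46673 D81821) (tt N34818 (iv7 F89795)))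
theorem Q24342 : ∀ i, i < 24342 → P i := stepQ 24341 Q24341 (allL N24341 (tt N44803 (iv1 F126930)) (tt N38093 F316624) (tt N44753 F117794) (tt N43397 (iv3 F108624)) (tt N12060 F58343) (tt N46674 D81823) (tt N12058 (iv6 D37443)) (tt N44801 (iv7 F117802)))
theorem Q24343 : ∀ i, i < 24343 → P i := stepQ 24342 Q24342 (allL N24342 (tt N24556 (iv1 F118938)) (tt N24822 F118937) (tt N24623 F117718) (tt N46675 D81824) (tt N12059 (iv4 D37446)) (tt N28009 (iv5 F118939)) (tt N17857 F58344) (tt N24820 (iv7 F118935)))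
theorem Q24344 : ∀ i, i < 24344 → P i := stepQ 24343 Q24343 (allL N24343 (tt N24413 F117723) (tt N15967 F324125) (tt N24626 F117725) (tt N12062 F58345) (tt N46676 D81825) (tt N12060 (iv5 D37449)) (tt N17858 F58346) (tt N24878 (iv7 F117758)))
theorem Q24345 : ∀ i, i < 24345 → P i := stepQ 24344 Q24344 (allL N24344 (tt N25098 (iv1 F130237)) (tt N25117 (iv0 F130234)) (tt N25079 (iv2 F60270)) (tt N12061 (iv3 D37450)) (tt N46675 (iv4 F125770)) (tt N22158 F58347) (tt N17232 F58348) (tt N25115 (iv7 F130167)))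
theorem Q24346 : ∀ i, i < 24346 → P i := stepQ 24345 Q24345 (allL N24345 (tt N22526 F58350) (tt N22505 F58351) (tt N23940 (iv2 F302157)) (tt N46677 D81828) (tt N12062 (iv4 D37451)) (tt N46678 D81829) (tt N17860 F58349) (tt N23939 (iv7 F301333)))
theorem Q24347 : ∀ i, i < 24347 → P i := stepQ 24346 Q24346 (allL N24346 (tt N25234 (iv1 F91160)) (tt N12063 (iv0 D37452)) (tt N25399 F91152) (tt N12283 F91153) (tt N34781 (iv4 F117196)) (tt N17798 F298243) (tt N25364 F298244) (tt N25467 F91154))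
theorem Q24348 : ∀ i, i < 24348 → P i := stepQ 24347 Q24347 (allL N24347 (tt N25467 (iv1 F91423)) (tt N25399 (iv0 F91424)) (tt N25234 (iv2 F91161)) (tt N35151 F91410) (tt N17961 (iv4 F91427)) (tt N44644 (iv5 F112743)) (tt N34461 F298957) (tt N12063 (iv7 D37454)))
theorem Q24349 : ∀ i, i < 24349 → P i := stepQ 24348 Q24348 (allL N24348 (tt N28282 F73550) (tt N46679 D81832) (tt N28572 (iv2 F74195)) (tt N12064 (iv3 D37455)) (tt N25390 (iv4 F60898)) (tt N28261 (iv5 F73510)) (tt N46680 D81833) (tt N25418 (iv7 F60984)))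
theorem Q24350 : ∀ i, i < 24350 → P i := stepQ 24349 Q24349 (allL N24349 (tt N35248 F119077) (tt N28727 F310308) (tt N25978 (iv2 F63808)) (tt N46680 (iv3 F125786)) (tt N25389 (iv4 F60896)) (tt N45349 (iv5 F301397)) (tt N12064 (iv6 D37456)) (tt N35181 (iv7 F301402)))
theorem Q24351 : ∀ i, i < 24351 → P i := stepQ 24350 Q24350 (allL N24350 (tt N12066 (iv1 D37459)) (tt N12501 F117232) (tt N25468 F117233) (tt N46681 D81840) (tt N25467 F117234) (tt N46682 D81841) (tt N35165 (iv6 F301609)) (tt N34781 (iv7 F117197)))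
theorem Q24352 : ∀ i, i < 24352 → P i := stepQ 24351 Q24351 (allL N24351 (tt N34519 (iv1 F301830)) (tt N34522 F301567) (tt N34782 (iv2 F89608)) (tt N27952 (iv3 F72311)) (tt N46683 D81845) (tt N12066 (iv5 D37460)) (tt N27949 (iv6 F72305)) (tt N35463 F117249))
theorem Q24353 : ∀ i, i < 24353 → P i := stepQ 24352 Q24352 (allL N24352 (tt N46684 D81846) (tt N46685 D81847) (tt N28709 (iv2 F74422)) (tt N12067 (iv3 D37472)) (tt N12070 F58357) (tt N46686 D81848) (tt N46687 D81849) (tt N34778 (iv7 F89585)))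
theorem Q24354 : ∀ i, i < 24354 → P i := stepQ 24353 Q24353 (allL N24353 (tt N14043 F296157) (tt N23458 F58359) (tt N44764 (iv2 F296650)) (tt N46686 (iv3 F125809)) (tt N34779 (iv4 F89592)) (tt N12067 (iv5 D37473)) (tt N46688 D81850) (tt N34779 (iv7 F89591)))
theorem Q24355 : ∀ i, i < 24355 → P i := stepQ 24354 Q24354 (allL N24354 (tt N12254 (iv1 F296730)) (tt N12164 (iv0 F296732)) (tt N12232 (iv2 F296673)) (tt N46687 (iv3 F125813)) (tt N12068 F58360) (tt N46689 D81851) (tt N12067 (iv6 D37474)) (tt N12234 (iv7 F296996)))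
theorem Q24356 : ∀ i, i < 24356 → P i := stepQ 24355 Q24355 (allL N24355 (tt N35320 (iv1 F296999)) (tt N35319 (iv0 F297000)) (tt N12233 (iv2 F296675)) (tt N12073 F58361) (tt N46690 D81859) (tt N12068 (iv5 D37477)) (tt N12069 F58362) (tt N12235 (iv7 F297001)))
theorem Q24357 : ∀ i, i < 24357 → P i := stepQ 24356 Q24356 (allL N24356 (tt N23448 F58364) (tt N23481 F58365) (tt N44686 (iv2 F112862)) (tt N46691 D81861) (tt N12069 (iv4 D37479)) (tt N46692 D81862) (tt N46690 (iv6 F125875)) (tt N44645 (iv7 F112749)))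
theorem Q24358 : ∀ i, i < 24358 → P i := stepQ 24357 Q24357 (allL N24357 (tt N12850 (iv1 F58366)) (tt N12070 (iv0 D37480)) (tt N28636 (iv2 F74312)) (tt N46693 D81863) (tt N36561 (iv4 F94803)) (tt N12834 F62305) (tt N43604 F306763) (tt N28684 (iv7 F74366)))
theorem Q24359 : ∀ i, i < 24359 → P i := stepQ 24358 Q24358 (allL N24358 (tt N12070 (iv1 D37481)) (tt N12850 F58367) (tt N28684 (iv2 F74365)) (tt N22321 (iv3 F58368)) (tt N36510 (iv4 F94733)) (tt N12833 F58369) (tt N46694 D81865) (tt N28636 (iv7 F74314)))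
theorem Q24360 : ∀ i, i < 24360 → P i := stepQ 24359 Q24359 (allL N24359 (tt N26151 (iv1 F64300)) (tt N26135 (iv0 F64273)) (tt N12689 F58370) (tt N12071 F58371) (tt N13395 (iv4 F58372)) (tt N12070 (iv5 D37482)) (tt N46695 D81866) (tt N26152 (iv7 F64298)))
theorem Q24361 : ∀ i, i < 24361 → P i := stepQ 24360 Q24360 (allL N24360 (tt N46696 D81867) (tt N34924 F306322) (tt N28710 (iv2 F74425)) (tt N12072 F58373) (tt N46687 (iv4 F125814)) (tt N46697 D81869) (tt N12070 (iv6 D37483)) (tt N35019 (iv7 F301409)))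
theorem Q24362 : ∀ i, i < 24362 → P i := stepQ 24361 Q24361 (allL N24361 (tt N46698 D81871) (tt N46699 D81872) (tt N25599 (iv2 F294746)) (tt N46695 (iv3 F125890)) (tt N24399 (iv4 F58463)) (tt N38790 F327074) (tt N12071 (iv6 D37484)) (tt N38789 (iv7 F327642)))
theorem Q24363 : ∀ i, i < 24363 → P i := stepQ 24362 Q24362 (allL N24362 (tt N38773 (iv1 F327643)) (tt N38772 (iv0 F327644)) (tt N34770 (iv2 F89553)) (tt N46697 (iv3 F125892)) (tt N38674 F327075) (tt N12072 (iv5 D37487)) (tt N38790 F327076) (tt N35020 (iv7 F301410)))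
theorem Q24364 : ∀ i, i < 24364 → P i := stepQ 24363 Q24363 (allL N24363 (tt N12073 (iv1 D37500)) (tt N12403 F298745) (tt N12531 F117266) (tt N27706 F117267) (tt N46700 D81890) (tt N34533 (iv5 F301281)) (tt N34534 F298746) (tt N34773 F117268))
theorem Q24365 : ∀ i, i < 24365 → P i := stepQ 24364 Q24364 (allL N24364 (tt N46701 D81892) (tt N46702 D81893) (tt N34774 (iv2 F89566)) (tt N46703 D81894) (tt N12073 (iv4 D37501)) (tt N20445 F341273) (tt N12076 F58377) (tt N35021 (iv7 F301421)))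
theorem Q24366 : ∀ i, i < 24366 → P i := stepQ 24365 Q24365 (allL N24365 (tt N22920 F58381) (tt N22919 F58382) (tt N12542 F58379) (tt N46704 D81897) (tt N12074 (iv4 D37503)) (tt N44669 (iv5 F112785)) (tt N40427 F326437) (tt N22912 F58380))
theorem Q24367 : ∀ i, i < 24367 → P i := stepQ 24366 Q24366 (allL N24366 (tt N31876 F324521) (tt N35023 (iv0 F296424)) (tt N12543 F58383) (tt N27666 (iv3 F70842)) (tt N40427 (iv4 F325619)) (tt N24368 (iv5 F58387)) (tt N12074 (iv6 D37504)) (tt N35210 (iv7 F296425)))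
theorem Q24368 : ∀ i, i < 24368 → P i := stepQ 24367 Q24367 (allL N24367 (tt N24065 F58385) (tt N25367 F60818) (tt N12547 F58384) (tt N46705 D81901) (tt N12075 (iv4 D37505)) (tt N46706 D81902) (tt N15486 F325592) (tt N25366 (iv7 F60813)))
theorem Q24369 : ∀ i, i < 24369 → P i := stepQ 24368 Q24368 (allL N24368 (tt N31910 F323092) (tt N46707 D81905) (tt N12548 F58386) (tt N18139 F323093) (tt N15486 (iv4 F324490)) (tt N24366 F58387) (tt N12075 (iv6 D37506)) (tt N18135 F323094))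
theorem Q24370 : ∀ i, i < 24370 → P i := stepQ 24369 Q24369 (allL N24369 (tt N22914 (iv1 F58389)) (tt N12076 (iv0 D37507)) (tt N34775 F89576) (tt N46708 D81907) (tt N12933 F58388) (tt N46709 D81908) (tt N46710 D81909) (tt N31217 F327011))
theorem Q24371 : ∀ i, i < 24371 → P i := stepQ 24370 Q24370 (allL N24370 (tt N12076 (iv1 D37508)) (tt N22914 F58390) (tt N31217 (iv2 F326178)) (tt N46711 D81910) (tt N23512 F58391) (tt N46712 D81911) (tt N31206 F325623) (tt N34775 F89577))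
theorem Q24372 : ∀ i, i < 24372 → P i := stepQ 24371 Q24371 (allL N24371 (tt N46713 D81913) (tt N46714 D81914) (tt N46715 D81915) (tt N12076 (iv3 D37509)) (tt N46691 (iv4 F125878)) (tt N46716 D81916) (tt N46703 (iv6 F126228)) (tt N44646 (iv7 F112752)))
theorem Q24373 : ∀ i, i < 24373 → P i := stepQ 24372 Q24372 (allL N24372 (tt N46717 D81917) (tt N46718 D81918) (tt N34777 (iv2 F89583)) (tt N46716 (iv3 F126259)) (tt N44668 F112780) (tt N12076 (iv5 D37510)) (tt N20444 F341288) (tt N44647 (iv7 F112753)))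
theorem Q24374 : ∀ i, i < 24374 → P i := stepQ 24373 Q24373 (allL N24373 (tt N33867 F85978) (tt N12077 (iv0 D37511)) (tt N34784 F89624) (tt N28002 F72502) (tt N46719 D81920) (tt N14104 F72916) (tt N46720 D81921) (tt N34783 F89620))
theorem Q24375 : ∀ i, i < 24375 → P i := stepQ 24374 Q24374 (allL N24374 (tt N12077 (iv1 D37512)) (tt N33867 F85979) (tt N34783 F89619) (tt N28376 F75467) (tt N46721 D81922) (tt N14108 F75468) (tt N46722 D81923) (tt N34784 (iv7 F89622)))
theorem Q24376 : ∀ i, i < 24376 → P i := stepQ 24375 Q24375 (allL N24375 (tt N26021 F63905) (tt N26024 (iv0 F63908)) (tt N25620 (iv2 F61719)) (tt N12078 F58392) (tt N25620 (iv4 F61720)) (tt N12077 (iv5 D37513)) (tt N46723 D81924) (tt N14002 F58393))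
theorem Q24377 : ∀ i, i < 24377 → P i := stepQ 24376 Q24376 (allL N24376 (tt N13061 (iv1 F335598)) (tt N46724 D81930) (tt N12094 F58395) (tt N46723 (iv3 F126266)) (tt N17624 F58396) (tt N34485 (iv5 F301277)) (tt N12078 (iv6 D37515)) (tt N46725 D81932))
theorem Q24378 : ∀ i, i < 24378 → P i := stepQ 24377 Q24377 (allL N24377 (tt N46726 D81969) (tt N46727 D81970) (tt N46728 D81971) (tt N12079 (iv3 D37539)) (tt N13937 F58434) (tt N27943 (iv5 F72298)) (tt N46655 (iv6 F297181)) (tt N25383 (iv7 F60865)))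
theorem Q24379 : ∀ i, i < 24379 → P i := stepQ 24378 Q24378 (allL N24378 (tt N34797 (iv1 F89684)) (tt N12081 (iv0 D37542)) (tt N34523 F298982) (tt N46729 D81975) (tt N23507 F117323) (tt N46730 D81976) (tt N34476 F298983) (tt N34795 F117587))
theorem Q24380 : ∀ i, i < 24380 → P i := stepQ 24379 Q24379 (allL N24379 (tt N12081 (iv1 D37543)) (tt N34797 F89683) (tt N34795 F117586) (tt N46731 D81978) (tt N23508 F117322) (tt N46732 D81979) (tt N46733 D81980) (tt N34523 F298986))
theorem Q24381 : ∀ i, i < 24381 → P i := stepQ 24380 Q24380 (allL N24380 (tt N17754 (iv1 F301082)) (tt N33273 (iv0 F329215)) (tt N34796 (iv2 F89678)) (tt N25815 (iv3 F62339)) (tt N36070 F329211) (tt N12081 (iv5 D37544)) (tt N25811 (iv6 F62337)) (tt N36068 (iv7 F329224)))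
theorem Q24382 : ∀ i, i < 24382 → P i := stepQ 24381 Q24381 (allL N24381 (tt N34795 (iv1 F89677)) (tt N34523 F298998) (tt N34797 (iv2 F89679)) (tt N25816 (iv3 F62341)) (tt N12084 F58438) (tt N36068 F329523) (tt N34565 F117264) (tt N12081 (iv7 D37545)))
theorem Q24383 : ∀ i, i < 24383 → P i := stepQ 24382 Q24382 (allL N24382 (tt N28402 F117326) (tt N12091 F117327) (tt N23420 F117328) (tt N46734 D81985) (tt N12082 (iv4 D37548)) (tt N46735 D81986) (tt N34481 (iv6 F299049)) (tt N28400 F117330))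
theorem Q24384 : ∀ i, i < 24384 → P i := stepQ 24383 Q24383 (allL N24383 (tt N34896 F301251) (tt N12362 F301252) (tt N23421 F117332) (tt N27719 F117333) (tt N46736 D81987) (tt N12082 (iv5 D37549)) (tt N23406 F301253) (tt N34798 (iv7 F117317)))
theorem Q24385 : ∀ i, i < 24385 → P i := stepQ 24384 Q24384 (allL N24384 (tt N35233 F299591) (tt N46737 D81992) (tt N34799 (iv2 F89691)) (tt N46738 D81993) (tt N12083 (iv4 D37558)) (tt N40326 F341306) (tt N22914 F58443) (tt N24981 (iv7 F300470)))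
theorem Q24386 : ∀ i, i < 24386 → P i := stepQ 24385 Q24385 (allL N24385 (tt N44712 F302447) (tt N28412 (iv0 F73832)) (tt N25791 (iv2 F62319)) (tt N12085 (iv3 D37560)) (tt N12087 F58445) (tt N41931 (iv5 F105081)) (tt N46739 D81997) (tt N34790 (iv7 F89655)))
theorem Q24387 : ∀ i, i < 24387 → P i := stepQ 24386 Q24386 (allL N24386 (tt N23445 F58446) (tt N23440 F58447) (tt N34822 (iv2 F296642)) (tt N41931 F105082) (tt N34791 (iv4 F89660)) (tt N12085 (iv5 D37561)) (tt N46740 D81998) (tt N34791 (iv7 F89659)))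
theorem Q24388 : ∀ i, i < 24388 → P i := stepQ 24387 Q24387 (allL N24387 (tt N46429 F123596) (tt N44810 (iv0 F296751)) (tt N34823 (iv2 F296643)) (tt N46739 (iv3 F126417)) (tt N12086 F58448) (tt N24808 (iv5 F296756)) (tt N12085 (iv6 D37562)) (tt N44814 F117596))
theorem Q24389 : ∀ i, i < 24389 → P i := stepQ 24388 Q24388 (allL N24388 (tt N14309 (iv1 F58450)) (tt N12087 (iv0 D37566)) (tt N25789 (iv2 F62315)) (tt N46741 D82000) (tt N43439 (iv4 F108879)) (tt N26151 (iv5 F64302)) (tt N34469 (iv6 F299503)) (tt N25790 (iv7 F62317)))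
theorem Q24390 : ∀ i, i < 24390 → P i := stepQ 24389 Q24389 (allL N24389 (tt N12087 (iv1 D37567)) (tt N14309 F58451) (tt N25790 F62318) (tt N14293 (iv3 F58452)) (tt N42810 (iv4 F107184)) (tt N26135 (iv5 F64271)) (tt N46742 D82002) (tt N25789 F62314))
theorem Q24391 : ∀ i, i < 24391 → P i := stepQ 24390 Q24390 (allL N24390 (tt N46743 D82003) (tt N46744 D82004) (tt N25792 (iv2 F62320)) (tt N12089 F58453) (tt N46739 (iv4 F126418)) (tt N46745 D82005) (tt N12087 (iv6 D37568)) (tt N44915 F117621))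
theorem Q24392 : ∀ i, i < 24392 → P i := stepQ 24391 Q24391 (allL N24391 (tt N46746 D82006) (tt N46747 D82007) (tt N14149 F58454) (tt N25787 (iv3 F62307)) (tt N14168 F58455) (tt N46748 D82008) (tt N12088 (iv6 D37569)) (tt N40138 (iv7 F329242)))
theorem Q24393 : ∀ i, i < 24393 → P i := stepQ 24392 Q24392 (allL N24392 (tt N34565 (iv1 F117217)) (tt N12089 (iv0 D37570)) (tt N34787 F117618) (tt N44798 F117619) (tt N44643 (iv4 F117617)) (tt N34941 (iv5 F301447)) (tt N46662 (iv6 F301450)) (tt N34788 F117620))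
theorem Q24394 : ∀ i, i < 24394 → P i := stepQ 24393 Q24393 (allL N24393 (tt N12089 (iv1 D37571)) (tt N34565 F117259) (tt N34788 F117260) (tt N34581 F309771) (tt N23502 F117261) (tt N34942 (iv5 F301452)) (tt N23400 F298795) (tt N34787 F117262))
theorem Q24395 : ∀ i, i < 24395 → P i := stepQ 24394 Q24394 (allL N24394 (tt N17799 (iv1 F301453)) (tt N17795 (iv0 F301090)) (tt N34789 (iv2 F89639)) (tt N46745 (iv3 F126425)) (tt N46749 D82017) (tt N12089 (iv5 D37572)) (tt N46748 (iv6 F126428)) (tt N44916 F117622))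
theorem Q24396 : ∀ i, i < 24396 → P i := stepQ 24395 Q24395 (allL N24395 (tt N46750 D82018) (tt N46751 D82019) (tt N28201 (iv2 F73276)) (tt N12091 F58459) (tt N34851 (iv4 F90056)) (tt N42923 F327597) (tt N12090 (iv6 D37583)) (tt N46752 D82021))
theorem Q24397 : ∀ i, i < 24397 → P i := stepQ 24396 Q24396 (allL N24396 (tt N17718 (iv1 F299224)) (tt N41504 (iv0 F328061)) (tt N28401 (iv2 F73808)) (tt N42923 F327596) (tt N16692 (iv4 F328062)) (tt N12091 (iv5 D37586)) (tt N20339 (iv6 F328063)) (tt N16689 (iv7 F328064)))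
theorem Q24398 : ∀ i, i < 24398 → P i := stepQ 24397 Q24397 (allL N24397 (tt N28400 (iv1 F73807)) (tt N23420 (iv0 F91295)) (tt N28402 (iv2 F73811)) (tt N46752 (iv3 F126443)) (tt N27974 (iv4 F72410)) (tt N16689 F328502) (tt N34566 (iv6 F91441)) (tt N12091 (iv7 D37587)))
theorem Q24399 : ∀ i, i < 24399 → P i := stepQ 24398 Q24398 (allL N24398 (tt N17815 (iv1 F299242)) (tt N17812 (iv0 F299243)) (tt N34800 (iv2 F89700)) (tt N28222 (iv3 F73364)) (tt N46753 D82027) (tt N12092 (iv5 D37590)) (tt N28219 (iv6 F73358)) (tt N44919 (iv7 F114071)))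
theorem Q24400 : ∀ i, i < 24400 → P i := stepQ 24399 Q24399 (allL N24399 (tt N27024 (iv1 F294934)) (tt N27023 (iv0 F294931)) (tt N12982 F58461) (tt N14049 F58462) (tt N24361 F58463) (tt N46754 D82029) (tt N12093 (iv6 D37592)) (tt N27025 (iv7 F294844)))
theorem Q24401 : ∀ i, i < 24401 → P i := stepQ 24400 Q24400 (allL N24400 (tt N46725 (iv1 F126277)) (tt N12094 (iv0 D37593)) (tt N13061 F335614) (tt N46755 D82032) (tt N46756 D82033) (tt N46757 D82034) (tt N46758 D82035) (tt N46724 F277410))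
theorem Q24402 : ∀ i, i < 24402 → P i := stepQ 24401 Q24401 (allL N24401 (tt N12094 (iv1 D37594)) (tt N46725 F126276) (tt N46724 F277404) (tt N12973 (iv3 F335617)) (tt N25543 (iv4 F335618)) (tt N46759 D82039) (tt N27001 (iv6 F335620)) (tt N13061 F335611))
theorem Q24403 : ∀ i, i < 24403 → P i := stepQ 24402 Q24402 (allL N24402 (tt N46724 (iv1 F126269)) (tt N13061 (iv0 F335597)) (tt N46725 (iv2 F126272)) (tt N42794 (iv3 F107133)) (tt N28055 (iv4 F72613)) (tt N34886 (iv5 F304458)) (tt N34804 (iv6 F89710)) (tt N12094 (iv7 D37596)))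
theorem Q24404 : ∀ i, i < 24404 → P i := stepQ 24403 Q24403 (allL N24403 (tt N23440 (iv1 F296754)) (tt N23445 (iv0 F296755)) (tt N34791 (iv2 F296640)) (tt N43145 (iv3 F108175)) (tt N34822 F295806) (tt N12095 (iv5 D37714)) (tt N46760 D82257) (tt N34822 (iv7 F89879)))
theorem Q24405 : ∀ i, i < 24405 → P i := stepQ 24404 Q24404 (allL N24404 (tt N23468 (iv1 F296738)) (tt N23471 (iv0 F296739)) (tt N34792 (iv2 F296641)) (tt N43146 (iv3 F108176)) (tt N12096 F58574) (tt N24710 F117878) (tt N12095 (iv6 D37715)) (tt N44804 (iv7 F122409)))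
theorem Q24406 : ∀ i, i < 24406 → P i := stepQ 24405 Q24405 (allL N24405 (tt N12167 (iv1 F58633)) (tt N12097 (iv0 D37786)) (tt N12166 F122974) (tt N46761 D82384) (tt N46762 D82385) (tt N26170 F122975) (tt N46763 D82386) (tt N12165 F122976))
theorem Q24407 : ∀ i, i < 24407 → P i := stepQ 24406 Q24406 (allL N24406 (tt N12097 (iv1 D37787)) (tt N12167 F58634) (tt N12165 F122971) (tt N46764 D82387) (tt N46765 D82388) (tt N26171 F122972) (tt N46766 D82389) (tt N12166 F122973))
theorem Q24408 : ∀ i, i < 24408 → P i := stepQ 24407 Q24407 (allL N24407 (tt N46767 D82390) (tt N46768 D82391) (tt N34157 (iv2 F86834)) (tt N12098 F58635) (tt N34826 (iv4 F89929)) (tt N46769 D82392) (tt N12097 (iv6 D37788)) (tt N46770 D82393))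
theorem Q24409 : ∀ i, i < 24409 → P i := stepQ 24408 Q24408 (allL N24408 (tt N46771 D82400) (tt N44802 (iv0 F113516)) (tt N12297 F58637) (tt N46769 (iv3 F126901)) (tt N28867 F328323) (tt N12098 (iv5 D37791)) (tt N14355 F58638) (tt N46772 D82402))
theorem Q24410 : ∀ i, i < 24410 → P i := stepQ 24409 Q24409 (allL N24409 (tt N12296 (iv1 F58643)) (tt N12295 F58644) (tt N12294 F58639) (tt N46770 (iv3 F126903)) (tt N12102 F58640) (tt N46772 (iv5 F126927)) (tt N12174 F58641) (tt N12098 (iv7 D37792)))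
theorem Q24411 : ∀ i, i < 24411 → P i := stepQ 24410 Q24410 (allL N24410 (tt N23977 (iv1 F298248)) (tt N12191 F121894) (tt N12318 F125823) (tt N46773 D82403) (tt N12099 (iv4 D37795)) (tt N46774 D82404) (tt N23648 (iv6 F298288)) (tt N12320 F125824))
theorem Q24412 : ∀ i, i < 24412 → P i := stepQ 24411 Q24411 (allL N24411 (tt N12187 F297335) (tt N12186 F297336) (tt N12189 F297337) (tt N15987 F325355) (tt N23648 (iv4 F298287)) (tt N15984 F325356) (tt N12099 (iv6 D37797)) (tt N12181 F297338))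
theorem Q24413 : ∀ i, i < 24413 → P i := stepQ 24412 Q24412 (allL N24412 (tt N12191 F121886) (tt N23977 (iv0 F298247)) (tt N12320 F125833) (tt N43962 F328138) (tt N12100 (iv4 D37800)) (tt N46775 D82411) (tt N12155 F296719) (tt N12318 F125834))
theorem Q24414 : ∀ i, i < 24414 → P i := stepQ 24413 Q24413 (allL N24413 (tt N31839 F326450) (tt N24343 (iv0 F117723)) (tt N12321 F125835) (tt N12159 (iv3 F296587)) (tt N46776 D82413) (tt N12100 (iv5 D37801)) (tt N12325 F296202) (tt N12319 F125836))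
theorem Q24415 : ∀ i, i < 24415 → P i := stepQ 24414 Q24414 (allL N24414 (tt N12317 (iv1 F58653)) (tt N12101 (iv0 D37803)) (tt N12322 F113059) (tt N31983 F325082) (tt N46777 D82414) (tt N44728 (iv5 F113076)) (tt N31982 (iv6 F326043)) (tt N12323 F113060))
theorem Q24416 : ∀ i, i < 24416 → P i := stepQ 24415 Q24415 (allL N24415 (tt N46221 (iv1 F299449)) (tt N46220 (iv0 F299452)) (tt N12324 F58649) (tt N46778 D82417) (tt N12101 (iv4 D37804)) (tt N46779 D82418) (tt N12103 F58650) (tt N46780 D82419))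
theorem Q24417 : ∀ i, i < 24417 → P i := stepQ 24416 Q24416 (allL N24416 (tt N12323 (iv1 F58654)) (tt N12322 F58655) (tt N12317 F58651) (tt N12394 (iv3 F297561)) (tt N46780 (iv4 F126979)) (tt N12102 F58652) (tt N24586 F297340) (tt N12101 (iv7 D37805)))
theorem Q24418 : ∀ i, i < 24418 → P i := stepQ 24417 Q24417 (allL N24417 (tt N46781 D82420) (tt N46782 D82421) (tt N46783 D82422) (tt N12103 (iv3 D37806)) (tt N34831 (iv4 F89952)) (tt N46784 D82423) (tt N46778 (iv6 F126976)) (tt N44684 (iv7 F112839)))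
theorem Q24419 : ∀ i, i < 24419 → P i := stepQ 24418 Q24418 (allL N24418 (tt N26009 (iv1 F63887)) (tt N26018 (iv0 F63901)) (tt N12332 F58656) (tt N46784 (iv3 F126984)) (tt N13091 F58657) (tt N12103 (iv5 D37807)) (tt N46785 D82424) (tt N14498 F58658))
theorem Q24420 : ∀ i, i < 24420 → P i := stepQ 24419 Q24419 (allL N24419 (tt N23458 F58659) (tt N14043 F296156) (tt N34779 (iv2 F89589)) (tt N46137 (iv3 F121966)) (tt N44764 (iv4 F296651)) (tt N12104 (iv5 D37808)) (tt N46786 D82425) (tt N44764 (iv7 F296653)))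
theorem Q24421 : ∀ i, i < 24421 → P i := stepQ 24420 Q24420 (allL N24420 (tt N12285 (iv1 F296724)) (tt N19305 F310674) (tt N24853 (iv2 F296663)) (tt N46138 (iv3 F121968)) (tt N12105 F58661) (tt N18950 (iv5 F312949)) (tt N12104 (iv6 D37809)) (tt N24854 (iv7 F296986)))
theorem Q24422 : ∀ i, i < 24422 → P i := stepQ 24421 Q24421 (allL N24421 (tt N43234 (iv1 F108384)) (tt N12106 (iv0 D37822)) (tt N44732 F113139) (tt N45574 F298220) (tt N44774 (iv4 F113439)) (tt N43244 (iv5 F108396)) (tt N46787 D82442) (tt N44731 F113134))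
theorem Q24423 : ∀ i, i < 24423 → P i := stepQ 24422 Q24422 (allL N24422 (tt N12106 (iv1 D37823)) (tt N43234 F108383) (tt N44731 F113133) (tt N43438 (iv3 F108877)) (tt N44754 (iv4 F113348)) (tt N43245 (iv5 F108403)) (tt N46788 D82443) (tt N44732 (iv7 F113136)))
theorem Q24424 : ∀ i, i < 24424 → P i := stepQ 24423 Q24423 (allL N24423 (tt N44732 (iv1 F113135)) (tt N44731 F113132) (tt N12106 (iv2 D37824)) (tt N45432 (iv3 F115822)) (tt N12124 F58674) (tt N32594 (iv5 F83181)) (tt N46789 D82444) (tt N43234 (iv7 F108382)))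
theorem Q24425 : ∀ i, i < 24425 → P i := stepQ 24424 Q24424 (allL N24424 (tt N46790 D82445) (tt N46791 D82446) (tt N46789 (iv2 F127020)) (tt N12108 F58675) (tt N12125 F58676) (tt N25294 F323209) (tt N12106 (iv6 D37825)) (tt N12125 (iv7 F298919)))
theorem Q24426 : ∀ i, i < 24426 → P i := stepQ 24425 Q24425 (allL N24425 (tt N46792 D82449) (tt N46793 D82450) (tt N45434 (iv2 F115826)) (tt N43229 (iv3 F108374)) (tt N44762 F298186) (tt N46794 D82451) (tt N12107 (iv6 D37826)) (tt N46795 D82452))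
theorem Q24427 : ∀ i, i < 24427 → P i := stepQ 24426 Q24426 (allL N24426 (tt N44748 (iv1 F299518)) (tt N44747 (iv0 F299517)) (tt N44750 F298236) (tt N25294 F323208) (tt N46796 D82457) (tt N12108 (iv5 D37829)) (tt N46794 (iv6 F127026)) (tt N12131 (iv7 F298920)))
theorem Q24428 : ∀ i, i < 24428 → P i := stepQ 24427 Q24427 (allL N24427 (tt N14631 F72213) (tt N28372 (iv0 F290616)) (tt N13299 F58681) (tt N24223 F58682) (tt N25992 (iv4 F63857)) (tt N12109 (iv5 D37843)) (tt N12110 F58683) (tt N27069 (iv7 F290610)))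
theorem Q24429 : ∀ i, i < 24429 → P i := stepQ 24428 Q24428 (allL N24428 (tt N13393 (iv1 F290926)) (tt N13434 F58689) (tt N13435 F58684) (tt N24224 F58685) (tt N26406 (iv4 F290932)) (tt N27069 F290690) (tt N14378 F58686) (tt N12109 (iv7 D37844)))
theorem Q24430 : ∀ i, i < 24430 → P i := stepQ 24429 Q24429 (allL N24429 (tt N12111 (iv1 D37846)) (tt N13564 (iv0 F66200)) (tt N13537 (iv2 F66281)) (tt N12737 F66280) (tt N13680 (iv4 F66283)) (tt N26606 F66284) (tt N27942 F291799) (tt N13565 (iv7 F66282)))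
theorem Q24431 : ∀ i, i < 24431 → P i := stepQ 24430 Q24430 (allL N24430 (tt N13537 (iv1 F66237)) (tt N13565 (iv0 F66246)) (tt N13564 (iv2 F66201)) (tt N12116 F58690) (tt N27384 (iv4 F70170)) (tt N24430 F58691) (tt N12924 (iv6 F292841)) (tt N12111 (iv7 D37847)))
theorem Q24432 : ∀ i, i < 24432 → P i := stepQ 24431 Q24431 (allL N24431 (tt N12112 (iv1 D37848)) (tt N13178 F58692) (tt N13044 (iv2 F63453)) (tt N13363 F58694) (tt N12965 (iv4 F58693)) (tt N26810 (iv5 F67813)) (tt N14211 F291323) (tt N13040 (iv7 F63485)))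
theorem Q24433 : ∀ i, i < 24433 → P i := stepQ 24432 Q24432 (allL N24432 (tt N13044 (iv1 F58699)) (tt N13040 F58702) (tt N13178 F58695) (tt N26320 (iv3 F64755)) (tt N26047 (iv4 F63954)) (tt N14378 F58696) (tt N25606 (iv6 F61671)) (tt N12112 (iv7 D37849)))
theorem Q24434 : ∀ i, i < 24434 → P i := stepQ 24433 Q24433 (allL N24433 (tt N13009 (iv1 F58705)) (tt N12113 (iv0 D37850)) (tt N13008 F58715) (tt N13943 F58704) (tt N46797 D82482) (tt N22982 F58703) (tt N46798 D82483) (tt N13007 (iv7 F58706)))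
theorem Q24435 : ∀ i, i < 24435 → P i := stepQ 24434 Q24434 (allL N24434 (tt N12113 (iv1 D37851)) (tt N13009 F58712) (tt N13007 (iv2 F58713)) (tt N46799 D82484) (tt N27682 (iv4 F70951)) (tt N27975 (iv5 F72415)) (tt N46800 D82485) (tt N13008 (iv7 F58714)))
theorem Q24436 : ∀ i, i < 24436 → P i := stepQ 24435 Q24435 (allL N24435 (tt N13008 (iv1 F58717)) (tt N13007 F58711) (tt N12113 (iv2 D37852)) (tt N13017 F58707) (tt N13872 F58708) (tt N14336 F58709) (tt N46801 D82486) (tt N13009 F58710))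
theorem Q24437 : ∀ i, i < 24437 → P i := stepQ 24436 Q24436 (allL N24436 (tt N46802 D82487) (tt N46803 D82488) (tt N46801 (iv2 F127120)) (tt N12114 F58718) (tt N27388 (iv4 F70187)) (tt N46804 D82489) (tt N12113 (iv6 D37853)) (tt N27033 (iv7 F293201)))
theorem Q24438 : ∀ i, i < 24438 → P i := stepQ 24437 Q24437 (allL N24437 (tt N28127 (iv1 F72710)) (tt N25584 F295045) (tt N13021 F58720) (tt N46804 (iv3 F127123)) (tt N46805 D82490) (tt N12114 (iv5 D37856)) (tt N14341 F58721) (tt N27035 (iv7 F293203)))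
theorem Q24439 : ∀ i, i < 24439 → P i := stepQ 24438 Q24438 (allL N24438 (tt N25872 F62401) (tt N26752 F294485) (tt N14682 F294486) (tt N25899 (iv3 F66250)) (tt N14465 F66270) (tt N12115 (iv5 D37861)) (tt N27070 F291063) (tt N25608 (iv7 F66293)))
theorem Q24440 : ∀ i, i < 24440 → P i := stepQ 24439 Q24439 (allL N24439 (tt N14537 (iv1 F291982)) (tt N28371 F291294) (tt N25607 (iv2 F66303)) (tt N27159 (iv3 F69051)) (tt N26104 F66304) (tt N27004 (iv5 F68434)) (tt N12115 (iv6 D37862)) (tt N46806 D82492))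
theorem Q24441 : ∀ i, i < 24441 → P i := stepQ 24440 Q24440 (allL N24440 (tt N12117 (iv1 D37873)) (tt N27989 F72477) (tt N27988 F125500) (tt N28592 (iv3 F113358)) (tt N22178 (iv4 F299513)) (tt N46807 D82496) (tt N42897 (iv6 F299514)) (tt N22174 (iv7 F298270)))
theorem Q24442 : ∀ i, i < 24442 → P i := stepQ 24441 Q24441 (allL N24441 (tt N22174 (iv1 F298269)) (tt N27988 F72471) (tt N12117 (iv2 D37874)) (tt N27984 (iv3 F72447)) (tt N24218 F58740) (tt N46392 (iv5 F123322)) (tt N46808 D82498) (tt N27989 (iv7 F72474)))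
theorem Q24443 : ∀ i, i < 24443 → P i := stepQ 24442 Q24442 (allL N24442 (tt N46353 F122965) (tt N46809 D82499) (tt N46392 (iv2 F123321)) (tt N12118 F58741) (tt N46810 D82500) (tt N12117 (iv5 D37875)) (tt N46811 D82501) (tt N24604 (iv7 F59159)))
theorem Q24444 : ∀ i, i < 24444 → P i := stepQ 24443 Q24443 (allL N24443 (tt N43159 F311919) (tt N46812 D82503) (tt N46808 (iv2 F127147)) (tt N12119 F58742) (tt N24220 F58743) (tt N46813 D82504) (tt N12117 (iv6 D37876)) (tt N44817 (iv7 F113569)))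
theorem Q24445 : ∀ i, i < 24445 → P i := stepQ 24444 Q24444 (allL N24444 (tt N46814 D82505) (tt N43326 (iv0 F309568)) (tt N24607 (iv2 F59166)) (tt N46811 (iv3 F127153)) (tt N14175 F58744) (tt N46815 D82507) (tt N12118 (iv6 D37877)) (tt N46816 D82508))
theorem Q24446 : ∀ i, i < 24446 → P i := stepQ 24445 Q24445 (allL N24445 (tt N38618 F316694) (tt N24844 (iv0 F298734)) (tt N27986 (iv2 F72455)) (tt N46813 (iv3 F127154)) (tt N37136 (iv4 F317534)) (tt N12119 (iv5 D37880)) (tt N46815 (iv6 F127155)) (tt N38617 F316695))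
theorem Q24447 : ∀ i, i < 24447 → P i := stepQ 24446 Q24446 (allL N24446 (tt N27983 (iv1 F72446)) (tt N27982 F72438) (tt N12120 (iv2 D37882)) (tt N27989 (iv3 F72472)) (tt N27734 (iv4 F71247)) (tt N34764 F89301) (tt N46817 D82511) (tt N27984 (iv7 F72450)))
theorem Q24448 : ∀ i, i < 24448 → P i := stepQ 24447 Q24447 (allL N24447 (tt N34420 F314769) (tt N38641 F314770) (tt N46817 (iv2 F127162)) (tt N12122 F58746) (tt N27735 (iv4 F71253)) (tt N34100 F306119) (tt N12120 (iv6 D37883)) (tt N46818 D82515))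
theorem Q24449 : ∀ i, i < 24449 → P i := stepQ 24448 Q24448 (allL N24448 (tt N46357 (iv1 F301490)) (tt N46819 D82517) (tt N24605 (iv2 F59160)) (tt N25071 F301229) (tt N14177 F58747) (tt N28578 (iv5 F304007)) (tt N12121 (iv6 D37884)) (tt N46397 F301230))
theorem Q24450 : ∀ i, i < 24450 → P i := stepQ 24449 Q24449 (allL N24449 (tt N24580 (iv1 F298707)) (tt N45682 (iv0 F299509)) (tt N27993 (iv2 F72482)) (tt N34100 F306116) (tt N28579 (iv4 F308089)) (tt N12122 (iv5 D37887)) (tt N28578 F306117) (tt N46820 D82523))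
theorem Q24451 : ∀ i, i < 24451 → P i := stepQ 24450 Q24450 (allL N24450 (tt N27992 (iv1 F72480)) (tt N27991 F72486) (tt N27994 (iv2 F72483)) (tt N46818 (iv3 F127164)) (tt N25976 (iv4 F63799)) (tt N46820 (iv5 F127168)) (tt N27987 (iv6 F72460)) (tt N12122 (iv7 D37888)))
theorem Q24452 : ∀ i, i < 24452 → P i := stepQ 24451 Q24451 (allL N24451 (tt N43157 F305116) (tt N43156 F305117) (tt N33943 F303108) (tt N12123 (iv3 D37889)) (tt N46821 D82524) (tt N33929 (iv5 F86222)) (tt N46822 D82525) (tt N43158 F305118))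
theorem Q24453 : ∀ i, i < 24453 → P i := stepQ 24452 Q24452 (allL N24452 (tt N38639 (iv1 F308710)) (tt N38638 (iv0 F308711)) (tt N33940 (iv2 F86257)) (tt N46822 (iv3 F127174)) (tt N43259 (iv4 F108433)) (tt N46822 F307460) (tt N12123 (iv6 D37890)) (tt N38629 (iv7 F308709)))
theorem Q24454 : ∀ i, i < 24454 → P i := stepQ 24453 Q24453 (allL N24453 (tt N46791 F301539) (tt N46790 F301540) (tt N12125 F58748) (tt N44739 (iv3 F113289)) (tt N46789 (iv4 F127021)) (tt N25293 F323207) (tt N12124 (iv6 D37891)) (tt N46789 F301541))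
theorem Q24455 : ∀ i, i < 24455 → P i := stepQ 24454 Q24454 (allL N24454 (tt N46789 F301542) (tt N12125 (iv0 D37892)) (tt N46791 (iv2 F312197)) (tt N45582 (iv3 F192687)) (tt N46823 D82536) (tt N46146 (iv5 F320694)) (tt N46824 D82538) (tt N46790 F309965))
theorem Q24456 : ∀ i, i < 24456 → P i := stepQ 24455 Q24455 (allL N24455 (tt N12125 (iv1 D37893)) (tt N46789 F301543) (tt N46790 F309959) (tt N46825 D82540) (tt N46826 D82541) (tt N46827 D82542) (tt N46828 D82543) (tt N46791 (iv7 F312198)))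
theorem Q24457 : ∀ i, i < 24457 → P i := stepQ 24456 Q24456 (allL N24456 (tt N25271 (iv1 F324612)) (tt N25295 F323204) (tt N25293 (iv2 F324614)) (tt N12131 F58749) (tt N46829 D82546) (tt N12125 (iv5 D37894)) (tt N43955 (iv6 F110306)) (tt N25294 (iv7 F324620)))
theorem Q24458 : ∀ i, i < 24458 → P i := stepQ 24457 Q24457 (allL N24457 (tt N43440 (iv1 F299512)) (tt N46807 (iv0 F127145)) (tt N45565 (iv2 F116528)) (tt N12126 (iv3 D37896)) (tt N46830 D82548) (tt N12190 F58751) (tt N46831 D82549) (tt N27968 (iv7 F72399)))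
theorem Q24459 : ∀ i, i < 24459 → P i := stepQ 24458 Q24458 (allL N24458 (tt N14358 (iv1 F156779)) (tt N14362 (iv0 F156780)) (tt N27960 (iv2 F72373)) (tt N46831 (iv3 F127187)) (tt N26068 (iv4 F64069)) (tt N46832 D82552) (tt N12126 (iv6 D37897)) (tt N46833 D82553))
theorem Q24460 : ∀ i, i < 24460 → P i := stepQ 24459 Q24459 (allL N24459 (tt N46834 D82554) (tt N46835 D82555) (tt N27970 (iv2 F72402)) (tt N45564 (iv3 F116527)) (tt N26070 (iv4 F64077)) (tt N46836 D82556) (tt N12127 (iv6 D37898)) (tt N46837 D82557))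
theorem Q24461 : ∀ i, i < 24461 → P i := stepQ 24460 Q24460 (allL N24460 (tt N44746 (iv1 F113303)) (tt N12128 (iv0 D37899)) (tt N28170 F272696) (tt N38050 F315979) (tt N26071 (iv4 F155435)) (tt N46838 D82561) (tt N46839 D82562) (tt N28174 (iv7 F272702)))
theorem Q24462 : ∀ i, i < 24462 → P i := stepQ 24461 Q24461 (allL N24461 (tt N12128 (iv1 D37900)) (tt N44746 F113302) (tt N28174 (iv2 F272701)) (tt N46840 D82564) (tt N26072 (iv4 F155439)) (tt N46841 D82566) (tt N46842 D82567) (tt N28170 F272700))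
theorem Q24463 : ∀ i, i < 24463 → P i := stepQ 24462 Q24462 (allL N24462 (tt N46843 D82568) (tt N46844 D82569) (tt N44745 (iv2 F113296)) (tt N43955 (iv3 F110305)) (tt N46845 D82570) (tt N12128 (iv5 D37901)) (tt N12131 F58752) (tt N46846 D82571))
theorem Q24464 : ∀ i, i < 24464 → P i := stepQ 24463 Q24463 (allL N24463 (tt N28174 F155167) (tt N28170 F155168) (tt N44746 (iv2 F113298)) (tt N35434 (iv3 F155143)) (tt N14348 F58753) (tt N46846 (iv5 F127193)) (tt N44025 (iv6 F184604)) (tt N12128 (iv7 D37902)))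
theorem Q24465 : ∀ i, i < 24465 → P i := stepQ 24464 Q24464 (allL N24464 (tt N24871 (iv1 F59685)) (tt N46847 D82578) (tt N28013 (iv2 F118925)) (tt N42898 (iv3 F301514)) (tt N46848 D82579) (tt N12129 (iv5 D37906)) (tt N46849 D82580) (tt N24173 F298881))
theorem Q24466 : ∀ i, i < 24466 → P i := stepQ 24465 Q24465 (allL N24465 (tt N44840 (iv1 F128532)) (tt N44816 F298882) (tt N28014 (iv2 F118927)) (tt N42899 (iv3 F301515)) (tt N17597 F298883) (tt N24670 F59279) (tt N12129 (iv6 D37907)) (tt N46850 D82582))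
theorem Q24467 : ∀ i, i < 24467 → P i := stepQ 24466 Q24466 (allL N24466 (tt N34138 F118988) (tt N46851 D82583) (tt N46852 D82584) (tt N12130 (iv3 D37909)) (tt N46561 (iv4 F125432)) (tt N31347 F328004) (tt N46853 D82586) (tt N28012 (iv7 F118924)))
theorem Q24468 : ∀ i, i < 24468 → P i := stepQ 24467 Q24467 (allL N24467 (tt N46847 (iv1 F127198)) (tt N24871 F118632) (tt N24173 F298877) (tt N31347 F328003) (tt N46854 D82587) (tt N12130 (iv5 D37911)) (tt N46855 D82588) (tt N28013 (iv7 F118926)))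
theorem Q24469 : ∀ i, i < 24469 → P i := stepQ 24468 Q24468 (allL N24468 (tt N44821 F126964) (tt N44726 (iv0 F127204)) (tt N24174 F298878) (tt N46853 (iv3 F127201)) (tt N24171 F298879) (tt N46856 D82590) (tt N12130 (iv6 D37912)) (tt N44820 (iv7 F118737)))
theorem Q24470 : ∀ i, i < 24470 → P i := stepQ 24469 Q24469 (allL N24469 (tt N44750 (iv1 F113317)) (tt N12131 (iv0 D37913)) (tt N44747 (iv2 F127215)) (tt N46857 D82592) (tt N46858 D82593) (tt N23651 (iv5 F300671)) (tt N46859 D82595) (tt N44748 F127213))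
theorem Q24471 : ∀ i, i < 24471 → P i := stepQ 24470 Q24470 (allL N24470 (tt N12131 (iv1 D37914)) (tt N44750 F113315) (tt N44748 (iv2 F127214)) (tt N45904 (iv3 F330684)) (tt N46860 D82597) (tt N46465 (iv5 F300666)) (tt N45896 (iv6 F330685)) (tt N44747 (iv7 F127216)))
theorem Q24472 : ∀ i, i < 24472 → P i := stepQ 24471 Q24471 (allL N24471 (tt N46861 D82600) (tt N46862 D82601) (tt N44749 (iv2 F113311)) (tt N46863 D82602) (tt N12131 (iv4 D37915)) (tt N46864 D82603) (tt N46845 (iv6 F127192)) (tt N46796 F301517))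
theorem Q24473 : ∀ i, i < 24473 → P i := stepQ 24472 Q24472 (allL N24472 (tt N46865 D82606) (tt N44715 F315278) (tt N46866 D82608) (tt N12132 (iv3 D37932)) (tt N34815 (iv4 F301011)) (tt N46867 D82609) (tt N46868 D82610) (tt N44751 (iv7 F113341)))
theorem Q24474 : ∀ i, i < 24474 → P i := stepQ 24473 Q24473 (allL N24473 (tt N24821 F118928) (tt N46671 F125769) (tt N34818 (iv2 F117803)) (tt N46867 (iv3 F127235)) (tt N46869 D82611) (tt N12132 (iv5 D37933)) (tt N46870 D82612) (tt N44752 (iv7 F113343)))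
theorem Q24475 : ∀ i, i < 24475 → P i := stepQ 24474 Q24474 (allL N24474 (tt N44812 (iv1 F128567)) (tt N46444 (iv0 F300630)) (tt N34819 (iv2 F117786)) (tt N46868 (iv3 F127236)) (tt N12134 F58769) (tt N24724 F118929) (tt N12132 (iv6 D37934)) (tt N46871 D82615))
theorem Q24476 : ∀ i, i < 24476 → P i := stepQ 24475 Q24475 (allL N24475 (tt N24822 (iv1 F118932)) (tt N24556 F118946) (tt N24820 (iv2 F118933)) (tt N46872 D82616) (tt N12133 (iv4 D37936)) (tt N28008 (iv5 F118944)) (tt N24582 F298889) (tt N24623 (iv7 F59657)))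
theorem Q24477 : ∀ i, i < 24477 → P i := stepQ 24476 Q24476 (allL N24476 (tt N34821 (iv1 F117781)) (tt N34820 (iv0 F117776)) (tt N24682 (iv2 F59310)) (tt N34570 (iv3 F301459)) (tt N46871 (iv4 F127240)) (tt N24522 (iv5 F59648)) (tt N44727 F113073) (tt N12134 (iv7 D37940)))
theorem Q24478 : ∀ i, i < 24478 → P i := stepQ 24477 Q24477 (allL N24477 (tt N23912 (iv1 F58807)) (tt N23911 F58808) (tt N23913 F58804) (tt N24964 (iv3 F297495)) (tt N34766 (iv4 F89306)) (tt N15579 (iv5 F325135)) (tt N23910 F58805) (tt N12135 (iv7 D37969)))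
theorem Q24479 : ∀ i, i < 24479 → P i := stepQ 24478 Q24478 (allL N24478 (tt N44736 (iv1 F113252)) (tt N12136 (iv0 D37970)) (tt N44735 (iv2 F113258)) (tt N24538 (iv3 F113264)) (tt N46873 D82634) (tt N24536 (iv5 F113261)) (tt N46874 D82635) (tt N44734 (iv7 F113260)))
theorem Q24480 : ∀ i, i < 24480 → P i := stepQ 24479 Q24479 (allL N24479 (tt N12136 (iv1 D37971)) (tt N44736 F113253) (tt N44734 F113259) (tt N19096 F304568) (tt N19116 F304569) (tt N46875 D82637) (tt N19094 (iv6 F306582)) (tt N44735 F113257))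
theorem Q24481 : ∀ i, i < 24481 → P i := stepQ 24480 Q24480 (allL N24480 (tt N44735 (iv1 F113248)) (tt N44734 F113246) (tt N12136 (iv2 D37972)) (tt N45508 (iv3 F116173)) (tt N12142 F58809) (tt N46873 (iv5 F127305)) (tt N45508 F297350) (tt N44736 (iv7 F113251)))
theorem Q24482 : ∀ i, i < 24482 → P i := stepQ 24481 Q24481 (allL N24481 (tt N44713 F112928) (tt N46876 D82640) (tt N46873 (iv2 F127304)) (tt N12137 F58810) (tt N44735 F113247) (tt N12136 (iv5 D37973)) (tt N38083 (iv6 F305048)) (tt N19116 F302705))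
theorem Q24483 : ∀ i, i < 24483 → P i := stepQ 24482 Q24482 (allL N24482 (tt N12138 (iv1 D37996)) (tt N13017 (iv0 F58827)) (tt N13015 (iv2 F58826)) (tt N25533 (iv3 F61453)) (tt N13016 F58825) (tt N21771 F58824) (tt N46877 D82683) (tt N13016 F58823))
theorem Q24484 : ∀ i, i < 24484 → P i := stepQ 24483 Q24483 (allL N24483 (tt N13016 (iv1 F58832)) (tt N13015 F58831) (tt N12138 (iv2 D37997)) (tt N13009 F58828) (tt N25523 (iv4 F61390)) (tt N14343 F58829) (tt N27038 (iv6 F295162)) (tt N13017 F58830))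
theorem Q24485 : ∀ i, i < 24485 → P i := stepQ 24484 Q24484 (allL N24484 (tt N25550 F64474) (tt N26810 F67815) (tt N13626 (iv2 F62892)) (tt N46281 F292169) (tt N26076 (iv4 F64095)) (tt N25873 (iv5 F62406)) (tt N12139 (iv6 D38010)) (tt N46878 D82698))
theorem Q24486 : ∀ i, i < 24486 → P i := stepQ 24485 Q24485 (allL N24485 (tt N24652 (iv1 F59261)) (tt N24505 (iv0 F58970)) (tt N24655 F59269) (tt N24605 F304278) (tt N37642 F306572) (tt N12140 (iv5 D38019)) (tt N24604 (iv6 F306311)) (tt N24654 F59266))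
theorem Q24487 : ∀ i, i < 24487 → P i := stepQ 24486 Q24486 (allL N24486 (tt N43726 (iv1 F310293)) (tt N44838 (iv0 F155517)) (tt N44738 (iv2 F113287)) (tt N27993 F308260) (tt N24656 (iv4 F59272)) (tt N27990 (iv5 F310295)) (tt N12140 (iv6 D38020)) (tt N46879 D82716))
theorem Q24488 : ∀ i, i < 24488 → P i := stepQ 24487 Q24487 (allL N24487 (tt N24505 (iv1 F59259)) (tt N24652 (iv0 F59258)) (tt N24654 F59265) (tt N25072 F60265) (tt N37643 F306577) (tt N12141 (iv5 D38022)) (tt N46880 D82718) (tt N24655 (iv7 F59268)))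
theorem Q24489 : ∀ i, i < 24489 → P i := stepQ 24488 Q24488 (allL N24488 (tt N44724 (iv1 F155406)) (tt N38630 F316282) (tt N44737 (iv2 F113286)) (tt N34101 (iv3 F86745)) (tt N43317 (iv4 F108489)) (tt N37981 (iv5 F318552)) (tt N12141 (iv6 D38023)) (tt N44823 (iv7 F205693)))
theorem Q24490 : ∀ i, i < 24490 → P i := stepQ 24489 Q24489 (allL N24489 (tt N45431 (iv1 F297027)) (tt N45430 (iv0 F297032)) (tt N12144 F58856) (tt N43234 (iv3 F296695)) (tt N45508 (iv4 F296585)) (tt N43233 (iv5 F297037)) (tt N12142 (iv6 D38024)) (tt N45432 (iv7 F297026)))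
theorem Q24491 : ∀ i, i < 24491 → P i := stepQ 24490 Q24490 (allL N24490 (tt N34277 F87068) (tt N12143 (iv0 D38025)) (tt N43952 (iv2 F110296)) (tt N46881 D82727) (tt N24536 F59055) (tt N12222 F58857) (tt N46882 D82728) (tt N43953 (iv7 F110298)))
theorem Q24492 : ∀ i, i < 24492 → P i := stepQ 24491 Q24491 (allL N24491 (tt N12143 (iv1 D38026)) (tt N34277 F87065) (tt N43953 F110299) (tt N34104 F87066) (tt N46875 (iv4 F127310)) (tt N12223 F87067) (tt N46883 D82729) (tt N43952 F110295))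
theorem Q24493 : ∀ i, i < 24493 → P i := stepQ 24492 Q24492 (allL N24492 (tt N12224 (iv1 F58862)) (tt N12149 (iv0 F58861)) (tt N12223 F58858) (tt N14337 F58859) (tt N12143 (iv4 D38027)) (tt N43953 F110300) (tt N46884 D82730) (tt N12222 F58860))
theorem Q24494 : ∀ i, i < 24494 → P i := stepQ 24493 Q24493 (allL N24493 (tt N46885 D82731) (tt N46886 D82732) (tt N43954 (iv2 F110302)) (tt N12145 F58863) (tt N46884 (iv4 F127500)) (tt N41983 F310749) (tt N12143 (iv6 D38028)) (tt N46887 D82734))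
theorem Q24495 : ∀ i, i < 24495 → P i := stepQ 24494 Q24494 (allL N24494 (tt N45432 (iv1 F297025)) (tt N12144 (iv0 D38029)) (tt N45431 (iv2 F297028)) (tt N43530 (iv3 F297030)) (tt N46809 (iv4 F297031)) (tt N21353 (iv5 F304912)) (tt N46888 D82739) (tt N45430 (iv7 F297034)))
theorem Q24496 : ∀ i, i < 24496 → P i := stepQ 24495 Q24495 (allL N24495 (tt N12144 (iv1 D38030)) (tt N45432 (iv0 F297024)) (tt N45430 (iv2 F297033)) (tt N34107 (iv3 F191013)) (tt N46353 (iv4 F297035)) (tt N46889 D82743) (tt N46890 D82744) (tt N45431 (iv7 F297029)))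
theorem Q24497 : ∀ i, i < 24497 → P i := stepQ 24496 Q24496 (allL N24496 (tt N46891 D82745) (tt N43838 F306814) (tt N43233 (iv2 F297036)) (tt N12146 F58864) (tt N46892 D82747) (tt N12144 (iv5 D38031)) (tt N41983 (iv6 F308643)) (tt N45433 (iv7 F296813)))
theorem Q24498 : ∀ i, i < 24498 → P i := stepQ 24497 Q24497 (allL N24497 (tt N44025 (iv1 F184601)) (tt N12145 (iv0 D38033)) (tt N28082 F268269) (tt N45570 (iv3 F184761)) (tt N26098 F184760) (tt N46893 D82752) (tt N46894 D82753) (tt N28086 F268270))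
theorem Q24499 : ∀ i, i < 24499 → P i := stepQ 24498 Q24498 (allL N24498 (tt N12145 (iv1 D38034)) (tt N44025 (iv0 F184600)) (tt N28086 (iv2 F268265)) (tt N46882 (iv3 F312595)) (tt N26099 F184766) (tt N46895 D82757) (tt N46881 F310304) (tt N28082 (iv7 F268266)))
theorem Q24500 : ∀ i, i < 24500 → P i := stepQ 24499 Q24499 (allL N24499 (tt N46896 D82759) (tt N46897 D82760) (tt N44733 (iv2 F296696)) (tt N41983 F310748) (tt N46351 (iv4 F296815)) (tt N12145 (iv5 D38035)) (tt N12146 F58866) (tt N46898 D82762))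
theorem Q24501 : ∀ i, i < 24501 → P i := stepQ 24500 Q24500 (allL N24500 (tt N28086 (iv1 F184671)) (tt N28082 (iv0 F184672)) (tt N44025 (iv2 F184602)) (tt N46887 (iv3 F127503)) (tt N14342 F58867) (tt N46898 (iv5 F127511)) (tt N44746 (iv6 F113300)) (tt N12145 (iv7 D38036)))
theorem Q24502 : ∀ i, i < 24502 → P i := stepQ 24501 Q24501 (allL N24501 (tt N46899 D82879) (tt N46900 D82880) (tt N46901 D82881) (tt N12147 (iv3 D38123)) (tt N12149 F58944) (tt N46368 (iv5 F123115)) (tt N46902 D82882) (tt N12216 F58945))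
theorem Q24503 : ∀ i, i < 24503 → P i := stepQ 24502 Q24502 (allL N24502 (tt N23542 F117747) (tt N23545 F117748) (tt N23549 F58946) (tt N46902 (iv3 F127660)) (tt N12148 F58947) (tt N40504 F324977) (tt N12147 (iv6 D38124)) (tt N23601 F117659))
theorem Q24504 : ∀ i, i < 24504 → P i := stepQ 24503 Q24503 (allL N24503 (tt N12149 (iv1 D38129)) (tt N12224 F58955) (tt N12222 (iv2 F58953)) (tt N12419 (iv3 F58954)) (tt N34277 (iv4 F87062)) (tt N43952 (iv5 F110292)) (tt N46903 D82885) (tt N12223 F58952))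
theorem Q24505 : ∀ i, i < 24505 → P i := stepQ 24504 Q24504 (allL N24504 (tt N12223 (iv1 F58959)) (tt N12222 F58958) (tt N12149 (iv2 D38130)) (tt N12195 F58956) (tt N46901 (iv4 F127656)) (tt N22113 (iv5 F58960)) (tt N46904 D82886) (tt N12224 F58957))
theorem Q24506 : ∀ i, i < 24506 → P i := stepQ 24505 Q24505 (allL N24505 (tt N24485 F58970) (tt N24487 F59259) (tt N22113 F58961) (tt N12150 F58962) (tt N22969 (iv4 F58966)) (tt N12149 (iv5 D38131)) (tt N46905 D82887) (tt N12225 F58963))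
theorem Q24507 : ∀ i, i < 24507 → P i := stepQ 24506 Q24506 (allL N24506 (tt N46906 D82888) (tt N46907 D82889) (tt N46904 (iv2 F127672)) (tt N12151 F58971) (tt N46902 (iv4 F127661)) (tt N46908 D82890) (tt N12149 (iv6 D38132)) (tt N46909 D82891))
theorem Q24508 : ∀ i, i < 24508 → P i := stepQ 24507 Q24507 (allL N24507 (tt N28512 F205697) (tt N28516 (iv0 F205698)) (tt N12200 F58972) (tt N46905 (iv3 F127675)) (tt N14101 F58973) (tt N46910 D82894) (tt N12150 (iv6 D38133)) (tt N46911 D82895))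
theorem Q24509 : ∀ i, i < 24509 → P i := stepQ 24508 Q24508 (allL N24508 (tt N12204 (iv1 F58979)) (tt N12151 (iv0 D38134)) (tt N12201 F118626) (tt N46912 D82896) (tt N12935 F119075) (tt N46913 D82897) (tt N46465 (iv6 F300667)) (tt N12202 F118627))
theorem Q24510 : ∀ i, i < 24510 → P i := stepQ 24509 Q24509 (allL N24509 (tt N12151 (iv1 D38135)) (tt N12204 F58974) (tt N12202 F118624) (tt N42719 (iv3 F302233)) (tt N12936 F118782) (tt N46914 D82899) (tt N17491 F299360) (tt N12201 F118625))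
theorem Q24511 : ∀ i, i < 24511 → P i := stepQ 24510 Q24510 (allL N24510 (tt N46915 D82901) (tt N23465 F298317) (tt N12203 F58975) (tt N46908 (iv3 F127677)) (tt N46916 D82903) (tt N12151 (iv5 D38136)) (tt N46910 (iv6 F127683)) (tt N46917 D82904))
theorem Q24512 : ∀ i, i < 24512 → P i := stepQ 24511 Q24511 (allL N24511 (tt N12202 (iv1 F58980)) (tt N12201 F58981) (tt N12204 F58976) (tt N46909 (iv3 F127678)) (tt N12154 F58977) (tt N46917 (iv5 F127707)) (tt N12231 F58978) (tt N12151 (iv7 D38137)))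
theorem Q24513 : ∀ i, i < 24513 → P i := stepQ 24512 Q24512 (allL N24512 (tt N12161 F118802) (tt N12249 F118803) (tt N12208 F59634) (tt N46918 D82905) (tt N12152 (iv4 D38144)) (tt N46919 D82906) (tt N35262 F300057) (tt N12205 F59635))
theorem Q24514 : ∀ i, i < 24514 → P i := stepQ 24513 Q24513 (allL N24513 (tt N35274 (iv1 F117708)) (tt N35273 (iv0 F117713)) (tt N12209 F59636) (tt N34896 (iv3 F121071)) (tt N46920 D82908) (tt N12152 (iv5 D38145)) (tt N15554 F325301) (tt N12206 F59637))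
theorem Q24515 : ∀ i, i < 24515 → P i := stepQ 24514 Q24514 (allL N24514 (tt N12153 (iv1 D38148)) (tt N12213 F58990) (tt N12211 F59597) (tt N17621 F296682) (tt N46921 D82909) (tt N17617 F296683) (tt N22910 F296684) (tt N12210 F59598))
theorem Q24516 : ∀ i, i < 24516 → P i := stepQ 24515 Q24515 (allL N24515 (tt N46922 D82911) (tt N23475 F297991) (tt N12212 F58992) (tt N31137 F326424) (tt N12153 (iv4 D38149)) (tt N46923 D82914) (tt N22933 F58993) (tt N31130 F326425))
theorem Q24517 : ∀ i, i < 24517 → P i := stepQ 24516 Q24516 (allL N24516 (tt N46924 D82916) (tt N46925 D82917) (tt N43956 (iv2 F110309)) (tt N12155 (iv3 D38151)) (tt N12156 F59000) (tt N22080 F59001) (tt N43962 F328140) (tt N12183 F59002))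
theorem Q24518 : ∀ i, i < 24518 → P i := stepQ 24517 Q24517 (allL N24517 (tt N46926 D82926) (tt N46927 D82927) (tt N43957 (iv2 F110314)) (tt N12158 F59009) (tt N43962 F328139) (tt N46928 D82928) (tt N12156 (iv6 D38157)) (tt N46929 D82929))
theorem Q24519 : ∀ i, i < 24519 → P i := stepQ 24518 Q24518 (allL N24518 (tt N28423 F155451) (tt N28427 F155452) (tt N12227 F59010) (tt N22115 F59011) (tt N14093 F59012) (tt N46930 D82932) (tt N12157 (iv6 D38158)) (tt N46931 D82933))
theorem Q24520 : ∀ i, i < 24520 → P i := stepQ 24519 Q24519 (allL N24519 (tt N12158 (iv1 D38160)) (tt N12231 F59013) (tt N12229 F118372) (tt N46932 D82936) (tt N12951 F118373) (tt N46933 D82937) (tt N24856 F118374) (tt N12228 F118375))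
theorem Q24521 : ∀ i, i < 24521 → P i := stepQ 24520 Q24520 (allL N24520 (tt N46934 D82938) (tt N46935 D82939) (tt N12230 F59014) (tt N46928 (iv3 F127778)) (tt N46936 D82940) (tt N12158 (iv5 D38161)) (tt N46930 (iv6 F127786)) (tt N46937 D82941))
theorem Q24522 : ∀ i, i < 24522 → P i := stepQ 24521 Q24521 (allL N24521 (tt N12229 (iv1 F59019)) (tt N12228 F59020) (tt N12231 F59015) (tt N46929 (iv3 F127780)) (tt N12160 F59016) (tt N46937 (iv5 F127806)) (tt N12204 F59017) (tt N12158 (iv7 D38162)))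
theorem Q24523 : ∀ i, i < 24523 → P i := stepQ 24522 Q24522 (allL N24522 (tt N12240 (iv1 F59030)) (tt N12159 (iv0 D38172)) (tt N12237 F59647) (tt N34903 (iv3 F121124)) (tt N46938 D82945) (tt N24476 F59648) (tt N15528 (iv6 F326518)) (tt N12238 F59649))
theorem Q24524 : ∀ i, i < 24524 → P i := stepQ 24523 Q24523 (allL N24523 (tt N46939 D82947) (tt N46940 D82948) (tt N12239 F59026) (tt N46941 D82949) (tt N12159 (iv4 D38174)) (tt N46942 D82950) (tt N12326 F59027) (tt N46943 D82951))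
theorem Q24525 : ∀ i, i < 24525 → P i := stepQ 24524 Q24524 (allL N24524 (tt N12238 (iv1 F59031)) (tt N12237 F59032) (tt N12240 F59028) (tt N12319 F297992) (tt N46943 (iv4 F127837)) (tt N12160 F59029) (tt N15555 F325261) (tt N12159 (iv7 D38175)))
theorem Q24526 : ∀ i, i < 24526 → P i := stepQ 24525 Q24525 (allL N24525 (tt N46944 D82952) (tt N46945 D82953) (tt N12248 F59034) (tt N23116 F315948) (tt N46946 D82954) (tt N12161 (iv5 D38178)) (tt N45857 (iv6 F318145)) (tt N45382 (iv7 F316548)))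
theorem Q24527 : ∀ i, i < 24527 → P i := stepQ 24526 Q24526 (allL N24526 (tt N12208 F118798) (tt N12205 F118799) (tt N12249 F59035) (tt N45383 F315684) (tt N25403 (iv4 F60954)) (tt N45382 (iv5 F316547)) (tt N12254 F59036) (tt N12161 (iv7 D38179)))
theorem Q24528 : ∀ i, i < 24528 → P i := stepQ 24527 Q24527 (allL N24527 (tt N12243 (iv1 F59041)) (tt N12162 (iv0 D38180)) (tt N12242 F59332) (tt N34210 F86963) (tt N46947 D82956) (tt N22350 F59040) (tt N46948 D82957) (tt N12241 (iv7 F59329)))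
theorem Q24529 : ∀ i, i < 24529 → P i := stepQ 24528 Q24528 (allL N24528 (tt N12162 (iv1 D38181)) (tt N12243 F59042) (tt N12241 F59333) (tt N46106 (iv3 F120305)) (tt N46949 D82958) (tt N23559 F59334) (tt N46950 D82959) (tt N12242 F59335))
theorem Q24530 : ∀ i, i < 24530 → P i := stepQ 24529 Q24529 (allL N24529 (tt N46951 D82960) (tt N46952 D82961) (tt N46379 (iv2 F123228)) (tt N12164 F59043) (tt N28568 (iv4 F74194)) (tt N46953 D82962) (tt N12162 (iv6 D38182)) (tt N45658 (iv7 F300612)))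
theorem Q24531 : ∀ i, i < 24531 → P i := stepQ 24530 Q24530 (allL N24530 (tt N46954 D82964) (tt N46955 D82965) (tt N12252 F59044) (tt N46378 (iv3 F123227)) (tt N14077 F59045) (tt N46956 D82966) (tt N12163 (iv6 D38183)) (tt N46957 D82967))
theorem Q24532 : ∀ i, i < 24532 → P i := stepQ 24531 Q24531 (allL N24531 (tt N46958 D82968) (tt N46959 D82969) (tt N12253 F59047) (tt N46953 (iv3 F127864)) (tt N46960 D82970) (tt N12164 (iv5 D38186)) (tt N46956 (iv6 F127869)) (tt N45659 (iv7 F300614)))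
theorem Q24533 : ∀ i, i < 24533 → P i := stepQ 24532 Q24532 (allL N24532 (tt N46106 F120306) (tt N46109 (iv0 F127750)) (tt N37608 (iv2 F305319)) (tt N12165 (iv3 D38189)) (tt N24927 F59950) (tt N37569 F305060) (tt N46961 D82974) (tt N46761 (iv7 F126881)))
theorem Q24534 : ∀ i, i < 24534 → P i := stepQ 24533 Q24533 (allL N24533 (tt N43651 (iv1 F110138)) (tt N34964 (iv0 F90548)) (tt N46765 (iv2 F126896)) (tt N43645 (iv3 F109346)) (tt N12165 (iv4 D38190)) (tt N46962 D82975) (tt N46963 D82976) (tt N46762 (iv7 F126888)))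
theorem Q24535 : ∀ i, i < 24535 → P i := stepQ 24534 Q24534 (allL N24534 (tt N26172 (iv1 F108916)) (tt N22951 F108917) (tt N26171 (iv2 F113270)) (tt N37569 F302948) (tt N33931 F304001) (tt N12165 (iv5 D38191)) (tt N37567 (iv6 F305320)) (tt N26170 F113272))
theorem Q24536 : ∀ i, i < 24536 → P i := stepQ 24535 Q24535 (allL N24535 (tt N46964 D82978) (tt N46918 (iv0 F333738)) (tt N46766 (iv2 F126900)) (tt N46961 (iv3 F127897)) (tt N46963 (iv4 F127898)) (tt N46965 D82980) (tt N12165 (iv6 D38192)) (tt N46966 D82981))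
theorem Q24537 : ∀ i, i < 24537 → P i := stepQ 24536 Q24536 (allL N24536 (tt N46967 D82982) (tt N46368 (iv0 F123117)) (tt N46968 D82983) (tt N12166 (iv3 D38194)) (tt N24490 (iv4 F59055)) (tt N24478 F113261) (tt N46969 D82984) (tt N46764 (iv7 F126893)))
theorem Q24538 : ∀ i, i < 24538 → P i := stepQ 24537 Q24537 (allL N24537 (tt N34964 F90549) (tt N43651 (iv0 F109354)) (tt N46762 (iv2 F126887)) (tt N34954 (iv3 F90526)) (tt N12166 (iv4 D38195)) (tt N46970 D82985) (tt N46971 D82986) (tt N46765 (iv7 F126898)))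
theorem Q24539 : ∀ i, i < 24539 → P i := stepQ 24538 Q24538 (allL N24538 (tt N22951 F113262) (tt N26172 F113263) (tt N26170 F113269) (tt N24478 F113264) (tt N33930 (iv4 F301437)) (tt N12166 (iv5 D38196)) (tt N46972 D82987) (tt N26171 (iv7 F113266)))
theorem Q24540 : ∀ i, i < 24540 → P i := stepQ 24539 Q24539 (allL N24539 (tt N46687 (iv1 F315081)) (tt N46973 D82989) (tt N46763 (iv2 F126891)) (tt N46969 (iv3 F127908)) (tt N46971 (iv4 F127910)) (tt N46974 D82990) (tt N12166 (iv6 D38197)) (tt N46975 D82991))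
theorem Q24541 : ∀ i, i < 24541 → P i := stepQ 24540 Q24540 (allL N24540 (tt N14350 (iv1 F59059)) (tt N14349 F59060) (tt N12168 F59056) (tt N12262 F59057) (tt N25830 (iv4 F62349)) (tt N12167 (iv5 D38198)) (tt N46976 D82992) (tt N14351 F59058))
theorem Q24542 : ∀ i, i < 24542 → P i := stepQ 24541 Q24541 (allL N24541 (tt N46977 D82993) (tt N46978 D82994) (tt N12169 F59061) (tt N12263 F59062) (tt N34926 (iv4 F90368)) (tt N46979 D82995) (tt N12167 (iv6 D38199)) (tt N46980 D82996))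
theorem Q24543 : ∀ i, i < 24543 → P i := stepQ 24542 Q24542 (allL N24542 (tt N14351 (iv1 F59063)) (tt N12168 (iv0 D38200)) (tt N14350 F125566) (tt N46981 D82997) (tt N22523 F303885) (tt N44676 (iv5 F115312)) (tt N46982 D82998) (tt N14349 F125567))
theorem Q24544 : ∀ i, i < 24544 → P i := stepQ 24543 Q24543 (allL N24543 (tt N12168 (iv1 D38201)) (tt N14351 F59064) (tt N14349 F125570) (tt N46899 (iv3 F127646)) (tt N22524 F303890) (tt N44677 (iv5 F115317)) (tt N46983 D82999) (tt N14350 F125571))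
theorem Q24545 : ∀ i, i < 24545 → P i := stepQ 24544 Q24544 (allL N24544 (tt N22047 (iv1 F310855)) (tt N22514 (iv0 F310856)) (tt N46976 (iv2 F127912)) (tt N12170 F59065) (tt N25831 (iv4 F62351)) (tt N46984 D83002) (tt N12168 (iv6 D38202)) (tt N46985 D83003))
theorem Q24546 : ∀ i, i < 24546 → P i := stepQ 24545 Q24545 (allL N24545 (tt N46980 (iv1 F127921)) (tt N12169 (iv0 D38203)) (tt N46977 F279299) (tt N46986 D83005) (tt N46987 D83006) (tt N46988 D83007) (tt N46989 D83008) (tt N46978 (iv7 F279307)))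
theorem Q24547 : ∀ i, i < 24547 → P i := stepQ 24546 Q24546 (allL N24546 (tt N12169 (iv1 D38204)) (tt N46980 F127920) (tt N46978 (iv2 F279306)) (tt N46990 D83010) (tt N46991 D83011) (tt N46992 D83012) (tt N46993 D83013) (tt N46977 F279305))
theorem Q24548 : ∀ i, i < 24548 → P i := stepQ 24547 Q24547 (allL N24547 (tt N46994 D83014) (tt N43255 (iv0 F327303)) (tt N46979 (iv2 F127915)) (tt N12173 F59066) (tt N43250 (iv4 F327299)) (tt N12169 (iv5 D38205)) (tt N46984 (iv6 F127931)) (tt N46995 D83017))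
theorem Q24549 : ∀ i, i < 24549 → P i := stepQ 24548 Q24548 (allL N24548 (tt N46978 (iv1 F127914)) (tt N46977 F127919) (tt N46980 (iv2 F127917)) (tt N12174 F59067) (tt N34933 (iv4 F90374)) (tt N46995 (iv5 F127937)) (tt N46770 (iv6 F126904)) (tt N12169 (iv7 D38206)))
theorem Q24550 : ∀ i, i < 24550 → P i := stepQ 24549 Q24549 (allL N24549 (tt N12280 (iv1 F59074)) (tt N12170 (iv0 D38207)) (tt N12277 (iv2 F274532)) (tt N17555 (iv3 F309549)) (tt N34957 (iv4 F308339)) (tt N46996 D83021) (tt N17554 F307504) (tt N12278 (iv7 F274533)))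
theorem Q24551 : ∀ i, i < 24551 → P i := stepQ 24550 Q24550 (allL N24550 (tt N12170 (iv1 D38208)) (tt N12280 F59068) (tt N12278 F274536) (tt N44763 (iv3 F310854)) (tt N46997 D83025) (tt N46998 D83026) (tt N46999 D83027) (tt N12277 F274537))
theorem Q24552 : ∀ i, i < 24552 → P i := stepQ 24551 Q24551 (allL N24551 (tt N47000 D83028) (tt N47001 D83029) (tt N12279 F59069) (tt N46984 (iv3 F127930)) (tt N47002 D83030) (tt N12170 (iv5 D38209)) (tt N12173 F59070) (tt N47003 D83031))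
theorem Q24553 : ∀ i, i < 24553 → P i := stepQ 24552 Q24552 (allL N24552 (tt N12278 (iv1 F59075)) (tt N12277 F59076) (tt N12280 F59071) (tt N46985 (iv3 F127932)) (tt N14369 F59072) (tt N47003 (iv5 F127945)) (tt N14356 F59073) (tt N12170 (iv7 D38210)))
theorem Q24554 : ∀ i, i < 24554 → P i := stepQ 24553 Q24553 (allL N24553 (tt N47004 D83037) (tt N47005 D83038) (tt N12284 F61153) (tt N37148 F311095) (tt N47006 D83039) (tt N12171 (iv5 D38213)) (tt N37140 (iv6 F313373)) (tt N12288 F61154))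
theorem Q24555 : ∀ i, i < 24555 → P i := stepQ 24554 Q24554 (allL N24554 (tt N46948 F319560) (tt N47007 D83043) (tt N47008 D83044) (tt N12172 (iv3 D38216)) (tt N46681 (iv4 F125793)) (tt N47009 D83045) (tt N47010 D83046) (tt N12282 F61158))
theorem Q24556 : ∀ i, i < 24556 → P i := stepQ 24555 Q24555 (allL N24555 (tt N47005 (iv1 F127963)) (tt N47004 F127960) (tt N12288 F61159) (tt N47009 (iv3 F127983)) (tt N38025 F315830) (tt N12172 (iv5 D38218)) (tt N47011 D83048) (tt N12284 F61160))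
theorem Q24557 : ∀ i, i < 24557 → P i := stepQ 24556 Q24556 (allL N24556 (tt N24475 (iv1 F118946)) (tt N24342 F118938) (tt N12289 F61161) (tt N47010 (iv3 F127985)) (tt N24175 F300840) (tt N47012 D83049) (tt N12172 (iv6 D38219)) (tt N45695 F300841))
theorem Q24558 : ∀ i, i < 24558 → P i := stepQ 24557 Q24557 (allL N24557 (tt N12293 (iv1 F59084)) (tt N12173 (iv0 D38220)) (tt N12290 F114045) (tt N47013 D83051) (tt N47014 D83052) (tt N46429 F298348) (tt N47015 D83053) (tt N12291 F114046))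
theorem Q24559 : ∀ i, i < 24559 → P i := stepQ 24558 Q24558 (allL N24558 (tt N12173 (iv1 D38221)) (tt N12293 F59080) (tt N12291 F114043) (tt N47016 D83054) (tt N38233 (iv4 F322823)) (tt N44810 (iv5 F113550)) (tt N43243 (iv6 F319793)) (tt N12290 F114044))
theorem Q24560 : ∀ i, i < 24560 → P i := stepQ 24559 Q24559 (allL N24559 (tt N47017 D83057) (tt N47018 D83058) (tt N12292 F59081) (tt N23210 (iv3 F325727)) (tt N12173 (iv4 D38222)) (tt N38017 F317540) (tt N47002 (iv6 F127943)) (tt N42363 (iv7 F325729)))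
theorem Q24561 : ∀ i, i < 24561 → P i := stepQ 24560 Q24560 (allL N24560 (tt N12291 (iv1 F59085)) (tt N12290 F59086) (tt N12293 F59082) (tt N46995 (iv3 F127936)) (tt N42363 F326551) (tt N12174 F59083) (tt N47019 D83060) (tt N12173 (iv7 D38223)))
theorem Q24562 : ∀ i, i < 24562 → P i := stepQ 24561 Q24561 (allL N24561 (tt N12178 (iv1 F59096)) (tt N12176 (iv0 D38229)) (tt N12299 F59723) (tt N47020 D83065) (tt N23979 F298442) (tt N47021 D83066) (tt N23977 F298443) (tt N12193 F59724))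
theorem Q24563 : ∀ i, i < 24563 → P i := stepQ 24562 Q24562 (allL N24562 (tt N47022 D83067) (tt N46903 (iv0 F155156)) (tt N47023 D83069) (tt N12176 (iv3 D38231)) (tt N45855 F323696) (tt N47024 D83070) (tt N24873 (iv6 F59821)) (tt N12311 F59098))
theorem Q24564 : ∀ i, i < 24564 → P i := stepQ 24563 Q24563 (allL N24563 (tt N46427 F298343) (tt N46442 (iv0 F298825)) (tt N12301 F59099) (tt N47024 (iv3 F128033)) (tt N47025 D83073) (tt N12176 (iv5 D38232)) (tt N47026 D83074) (tt N12312 F59100))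
theorem Q24565 : ∀ i, i < 24565 → P i := stepQ 24564 Q24564 (allL N24564 (tt N24573 F296992) (tt N24668 (iv0 F113577)) (tt N12304 F59101) (tt N47027 D83075) (tt N12177 (iv4 D38233)) (tt N38618 (iv5 F315269)) (tt N24872 (iv6 F59819)) (tt N12314 F59102))
theorem Q24566 : ∀ i, i < 24566 → P i := stepQ 24565 Q24565 (allL N24565 (tt N34281 F315773) (tt N47028 D83080) (tt N47029 D83081) (tt N12178 (iv3 D38239)) (tt N19635 (iv4 F317491)) (tt N47030 D83082) (tt N47031 D83083) (tt N12300 F59112))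
theorem Q24567 : ∀ i, i < 24567 → P i := stepQ 24566 Q24566 (allL N24566 (tt N46442 (iv1 F298826)) (tt N46427 F298342) (tt N12312 F59113) (tt N47030 (iv3 F128061)) (tt N47032 D83084) (tt N12178 (iv5 D38240)) (tt N42009 F330303) (tt N12301 F59114))
theorem Q24568 : ∀ i, i < 24568 → P i := stepQ 24567 Q24567 (allL N24567 (tt N23651 F300725) (tt N46465 F300726) (tt N12313 F59115) (tt N47031 (iv3 F128063)) (tt N12179 F59116) (tt N46472 (iv5 F301018)) (tt N12178 (iv6 D38241)) (tt N24857 (iv7 F59666)))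
theorem Q24569 : ∀ i, i < 24569 → P i := stepQ 24568 Q24568 (allL N24568 (tt N47033 D83087) (tt N47034 D83088) (tt N47035 D83089) (tt N12180 (iv3 D38242)) (tt N23548 F59117) (tt N42092 (iv5 F306844)) (tt N47036 D83090) (tt N23629 F59118))
theorem Q24570 : ∀ i, i < 24570 → P i := stepQ 24569 Q24569 (allL N24569 (tt N23646 F117854) (tt N17491 F117855) (tt N12185 F59119) (tt N47036 (iv3 F128084)) (tt N12181 F59120) (tt N47037 D83091) (tt N12180 (iv6 D38243)) (tt N23648 F118593))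
theorem Q24571 : ∀ i, i < 24571 → P i := stepQ 24570 Q24570 (allL N24570 (tt N12189 (iv1 F59126)) (tt N12181 (iv0 D38244)) (tt N12186 F117848) (tt N12371 (iv3 F299818)) (tt N45413 (iv4 F121309)) (tt N35324 (iv5 F299494)) (tt N12315 F298193) (tt N12187 F117850))
theorem Q24572 : ∀ i, i < 24572 → P i := stepQ 24571 Q24571 (allL N24571 (tt N23038 (iv1 F296940)) (tt N22930 (iv0 F296941)) (tt N12188 F59123) (tt N15988 F325970) (tt N46322 (iv4 F122808)) (tt N12181 (iv5 D38246)) (tt N22934 F59124) (tt N15984 F325971))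
theorem Q24573 : ∀ i, i < 24573 → P i := stepQ 24572 Q24572 (allL N24572 (tt N36512 (iv1 F94736)) (tt N36511 F94735) (tt N36412 (iv2 F94522)) (tt N12182 (iv3 D38248)) (tt N12592 F59129) (tt N43768 (iv5 F109614)) (tt N37120 (iv6 F309796)) (tt N23626 F59130))
theorem Q24574 : ∀ i, i < 24574 → P i := stepQ 24573 Q24573 (allL N24573 (tt N12298 F59133) (tt N24564 (iv0 F296992)) (tt N12565 F59131) (tt N37120 F310642) (tt N12559 F59132) (tt N37853 (iv5 F312898)) (tt N12182 (iv6 D38249)) (tt N24856 (iv7 F298118)))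
theorem Q24575 : ∀ i, i < 24575 → P i := stepQ 24574 Q24574 (allL N24574 (tt N43956 (iv1 F110313)) (tt N12183 (iv0 D38250)) (tt N46925 F127758) (tt N47038 D83097) (tt N34209 F86958) (tt N43227 F108368) (tt N46926 (iv6 F312382)) (tt N46924 F127753))
theorem Q24576 : ∀ i, i < 24576 → P i := stepQ 24575 Q24575 (allL N24575 (tt N12183 (iv1 D38251)) (tt N43956 (iv0 F110312)) (tt N46924 F127752) (tt N36559 (iv3 F94802)) (tt N34210 (iv4 F86964)) (tt N43228 (iv5 F108372)) (tt N47039 D83099) (tt N46925 (iv7 F127755)))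
theorem Q24577 : ∀ i, i < 24577 → P i := stepQ 24576 Q24576 (allL N24576 (tt N46925 (iv1 F127754)) (tt N46924 F127751) (tt N12183 (iv2 D38252)) (tt N47035 (iv3 F128074)) (tt N12195 F59134) (tt N22082 F59135) (tt N47040 D83100) (tt N43956 (iv7 F110311)))
theorem Q24578 : ∀ i, i < 24578 → P i := stepQ 24577 Q24577 (allL N24577 (tt N47041 D83101) (tt N47042 D83102) (tt N47040 (iv2 F128108)) (tt N12185 F59136) (tt N12197 F59137) (tt N38911 F330211) (tt N12183 (iv6 D38253)) (tt N47043 D83104))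
theorem Q24579 : ∀ i, i < 24579 → P i := stepQ 24578 Q24578 (allL N24578 (tt N47044 D83105) (tt N47045 D83106) (tt N46430 (iv2 F123616)) (tt N46001 (iv3 F120060)) (tt N45403 (iv4 F115743)) (tt N47046 D83107) (tt N12184 (iv6 D38254)) (tt N47047 D83108))
theorem Q24580 : ∀ i, i < 24580 → P i := stepQ 24579 Q24579 (allL N24579 (tt N12185 (iv1 D38256)) (tt N23648 F117743) (tt N17491 F117744) (tt N47048 D83109) (tt N17490 F117745) (tt N47049 D83110) (tt N12202 (iv6 F299433)) (tt N23646 F117746))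
theorem Q24581 : ∀ i, i < 24581 → P i := stepQ 24580 Q24580 (allL N24580 (tt N47050 D83112) (tt N24449 F298707) (tt N47037 (iv2 F128087)) (tt N38911 F330210) (tt N47051 D83114) (tt N12185 (iv5 D38257)) (tt N47046 (iv6 F128114)) (tt N47052 D83115))
theorem Q24582 : ∀ i, i < 24582 → P i := stepQ 24581 Q24581 (allL N24581 (tt N17491 F117749) (tt N23646 F117750) (tt N23648 F118591) (tt N47043 (iv3 F128111)) (tt N12189 F59138) (tt N47052 (iv5 F128126)) (tt N12318 F298708) (tt N12185 (iv7 D38258)))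
theorem Q24583 : ∀ i, i < 24583 → P i := stepQ 24582 Q24582 (allL N24582 (tt N34630 (iv1 F118726)) (tt N25359 (iv0 F121253)) (tt N45413 (iv2 F121308)) (tt N47053 D83116) (tt N12186 (iv4 D38261)) (tt N47054 D83117) (tt N24475 (iv6 F298889)) (tt N35262 F118723))
theorem Q24584 : ∀ i, i < 24584 → P i := stepQ 24583 Q24583 (allL N24583 (tt N40507 F326666) (tt N44682 F298709) (tt N35324 (iv2 F299493)) (tt N35025 (iv3 F299750)) (tt N47055 D83121) (tt N12186 (iv5 D38262)) (tt N12238 F298710) (tt N31878 F326446))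
theorem Q24585 : ∀ i, i < 24585 → P i := stepQ 24584 Q24584 (allL N24584 (tt N25359 (iv1 F121254)) (tt N34630 (iv0 F117846)) (tt N35262 (iv2 F117833)) (tt N43982 (iv3 F300808)) (tt N12187 (iv4 D38266)) (tt N47056 D83126) (tt N12208 (iv6 F299361)) (tt N45413 (iv7 F121310)))
theorem Q24586 : ∀ i, i < 24586 → P i := stepQ 24585 Q24585 (allL N24585 (tt N44682 (iv1 F298681)) (tt N40507 F326665) (tt N31878 (iv2 F325630)) (tt N12370 (iv3 F299819)) (tt N47057 D83128) (tt N12187 (iv5 D38267)) (tt N15527 F325159) (tt N35324 (iv7 F299495)))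
theorem Q24587 : ∀ i, i < 24587 → P i := stepQ 24586 Q24586 (allL N24586 (tt N15984 F326188) (tt N12188 (iv0 D38269)) (tt N23038 F296955) (tt N25026 (iv3 F118443)) (tt N47058 D83133) (tt N22931 (iv5 F297055)) (tt N24416 (iv6 F297340)) (tt N22930 F296956))
theorem Q24588 : ∀ i, i < 24588 → P i := stepQ 24587 Q24587 (allL N24587 (tt N23696 F118572) (tt N47059 D83139) (tt N46322 (iv2 F122807)) (tt N47060 D83140) (tt N12188 (iv4 D38271)) (tt N47061 D83141) (tt N22937 F59142) (tt N47062 D83142))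
theorem Q24589 : ∀ i, i < 24589 → P i := stepQ 24588 Q24588 (allL N24588 (tt N22930 F296957) (tt N23038 F296958) (tt N15984 (iv2 F325269)) (tt N12213 F59143) (tt N47062 (iv4 F128174)) (tt N12189 F59144) (tt N15983 F325258) (tt N12188 (iv7 D38272)))
theorem Q24590 : ∀ i, i < 24590 → P i := stepQ 24589 Q24589 (allL N24589 (tt N27967 (iv1 F72395)) (tt N12190 (iv0 D38273)) (tt N27966 (iv2 F125372)) (tt N34922 (iv3 F90361)) (tt N47063 D83144) (tt N47064 D83145) (tt N36514 (iv6 F302133)) (tt N27965 (iv7 F125374)))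
theorem Q24591 : ∀ i, i < 24591 → P i := stepQ 24590 Q24590 (allL N24590 (tt N12190 (iv1 D38274)) (tt N27967 F72397) (tt N27965 F125373) (tt N47065 D83147) (tt N46550 (iv4 F125370)) (tt N47066 D83148) (tt N47067 D83149) (tt N27966 F125371))
theorem Q24592 : ∀ i, i < 24592 → P i := stepQ 24591 Q24591 (allL N24591 (tt N27966 (iv1 F72396)) (tt N27965 F72392) (tt N12190 (iv2 D38275)) (tt N27957 (iv3 F72362)) (tt N23926 F59145) (tt N45565 (iv5 F116529)) (tt N36538 (iv6 F302136)) (tt N27967 (iv7 F72394)))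
theorem Q24593 : ∀ i, i < 24593 → P i := stepQ 24592 Q24592 (allL N24592 (tt N28868 F328329) (tt N36144 F327826) (tt N27961 (iv2 F72376)) (tt N42597 (iv3 F302137)) (tt N47068 D83156) (tt N12191 (iv5 D38279)) (tt N46832 (iv6 F127188)) (tt N23981 (iv7 F301373)))
theorem Q24594 : ∀ i, i < 24594 → P i := stepQ 24593 Q24593 (allL N24593 (tt N24110 (iv1 F59150)) (tt N12424 F59149) (tt N12192 (iv2 D38281)) (tt N27967 (iv3 F72393)) (tt N27586 (iv4 F70562)) (tt N34716 F88732) (tt N47069 D83158) (tt N27957 (iv7 F72364)))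
theorem Q24595 : ∀ i, i < 24595 → P i := stepQ 24594 Q24594 (allL N24594 (tt N38302 (iv1 F309974)) (tt N47070 D83160) (tt N47069 (iv2 F128217)) (tt N12193 F59151) (tt N27588 (iv4 F70570)) (tt N47071 D83161) (tt N12192 (iv6 D38282)) (tt N47020 (iv7 F128023)))
theorem Q24596 : ∀ i, i < 24596 → P i := stepQ 24595 Q24595 (allL N24595 (tt N44815 F298441) (tt N44832 (iv0 F113625)) (tt N27971 (iv2 F72404)) (tt N47071 (iv3 F128220)) (tt N47072 D83162) (tt N12193 (iv5 D38285)) (tt N46836 (iv6 F127189)) (tt N47021 (iv7 F128026)))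
theorem Q24597 : ∀ i, i < 24597 → P i := stepQ 24596 Q24596 (allL N24596 (tt N34918 (iv1 F90357)) (tt N34922 F90362) (tt N34609 (iv2 F88149)) (tt N12194 (iv3 D38287)) (tt N47073 D83163) (tt N34271 (iv5 F87045)) (tt N47074 D83164) (tt N43944 (iv7 F110264)))
theorem Q24598 : ∀ i, i < 24598 → P i := stepQ 24597 Q24597 (allL N24597 (tt N12300 F315502) (tt N47029 F315503) (tt N34281 (iv2 F87077)) (tt N47074 (iv3 F128228)) (tt N46015 (iv4 F120110)) (tt N47075 D83167) (tt N12194 (iv6 D38288)) (tt N47028 F315504))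
theorem Q24599 : ∀ i, i < 24599 → P i := stepQ 24598 Q24598 (allL N24598 (tt N47076 D83169) (tt N47077 D83170) (tt N12197 F59152) (tt N46904 (iv3 F127673)) (tt N47040 (iv4 F128109)) (tt N47078 D83171) (tt N12195 (iv6 D38289)) (tt N47079 D83172))
theorem Q24600 : ∀ i, i < 24600 → P i := stepQ 24599 Q24599 (allL N24599 (tt N23065 (iv1 F155358)) (tt N46097 (iv0 F155359)) (tt N22114 F59153) (tt N12200 F59154) (tt N21560 F59155) (tt N47080 D83175) (tt N12196 (iv6 D38290)) (tt N47081 D83176))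
theorem Q24601 : ∀ i, i < 24601 → P i := stepQ 24600 Q24600 (allL N24600 (tt N47079 (iv1 F128236)) (tt N12197 (iv0 D38291)) (tt N47076 (iv2 F312554)) (tt N23433 F315013) (tt N47082 D83178) (tt N23432 (iv5 F317228)) (tt N25296 (iv6 F317230)) (tt N47077 F310274))
theorem Q24602 : ∀ i, i < 24602 → P i := stepQ 24601 Q24601 (allL N24601 (tt N12197 (iv1 D38292)) (tt N47079 F128235) (tt N47077 F310281) (tt N47083 D83182) (tt N47084 D83183) (tt N47085 D83184) (tt N47042 F323009) (tt N47076 (iv7 F312555)))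
theorem Q24603 : ∀ i, i < 24603 → P i := stepQ 24602 Q24602 (allL N24602 (tt N46262 F330281) (tt N47086 D83187) (tt N47078 (iv2 F128231)) (tt N12203 F59156) (tt N47087 D83188) (tt N12197 (iv5 D38293)) (tt N47080 (iv6 F128240)) (tt N47088 D83189))
theorem Q24604 : ∀ i, i < 24604 → P i := stepQ 24603 Q24603 (allL N24603 (tt N47077 (iv1 F128229)) (tt N47076 F128234) (tt N47079 (iv2 F128233)) (tt N12204 F59157) (tt N47043 (iv4 F128112)) (tt N47088 (iv5 F128251)) (tt N46929 (iv6 F127782)) (tt N12197 (iv7 D38294)))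
theorem Q24605 : ∀ i, i < 24605 → P i := stepQ 24604 Q24604 (allL N24604 (tt N47064 F128187) (tt N47066 (iv0 F128207)) (tt N47089 D83190) (tt N12198 (iv3 D38295)) (tt N47090 D83191) (tt N13973 F59158) (tt N24485 F306311) (tt N24442 F59159))
theorem Q24606 : ∀ i, i < 24606 → P i := stepQ 24605 Q24605 (allL N24605 (tt N26174 F272778) (tt N26178 (iv0 F272779)) (tt N24448 F59160) (tt N24485 (iv3 F304278)) (tt N13993 F59161) (tt N14265 (iv5 F304279)) (tt N12198 (iv6 D38296)) (tt N47091 D83196))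
theorem Q24607 : ∀ i, i < 24607 → P i := stepQ 24606 Q24606 (allL N24606 (tt N24108 (iv1 F59165)) (tt N17600 (iv0 F59164)) (tt N24107 F60276) (tt N12199 (iv3 D38297)) (tt N19099 F305985) (tt N13968 F59162) (tt N47092 D83198) (tt N24106 F59163))
theorem Q24608 : ∀ i, i < 24608 → P i := stepQ 24607 Q24607 (allL N24607 (tt N47093 D83199) (tt N47094 D83200) (tt N24444 F59166) (tt N47092 (iv3 F128277)) (tt N13999 F59167) (tt N47095 D83201) (tt N12199 (iv6 D38298)) (tt N47096 D83202))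
theorem Q24609 : ∀ i, i < 24609 → P i := stepQ 24608 Q24608 (allL N24608 (tt N46911 (iv1 F127689)) (tt N12200 (iv0 D38299)) (tt N28512 F272814) (tt N47097 D83204) (tt N28220 (iv4 F195692)) (tt N47098 D83206) (tt N47099 D83207) (tt N28516 F272815))
theorem Q24610 : ∀ i, i < 24610 → P i := stepQ 24609 Q24609 (allL N24609 (tt N12200 (iv1 D38300)) (tt N46911 F127688) (tt N28516 (iv2 F272811)) (tt N19090 F311969) (tt N28221 (iv4 F195696)) (tt N47100 D83211) (tt N47101 D83212) (tt N28512 (iv7 F272812)))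
theorem Q24611 : ∀ i, i < 24611 → P i := stepQ 24610 Q24610 (allL N24610 (tt N47102 D83213) (tt N46336 F330837) (tt N46910 (iv2 F127682)) (tt N47080 (iv3 F128239)) (tt N47103 D83215) (tt N12200 (iv5 D38301)) (tt N12203 F59168) (tt N47104 D83216))
theorem Q24612 : ∀ i, i < 24612 → P i := stepQ 24611 Q24611 (allL N24611 (tt N28516 (iv1 F205699)) (tt N28512 F205696) (tt N46911 (iv2 F127684)) (tt N47081 (iv3 F128242)) (tt N14302 F59169) (tt N47104 (iv5 F128291)) (tt N46931 (iv6 F127790)) (tt N12200 (iv7 D38302)))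
theorem Q24613 : ∀ i, i < 24613 → P i := stepQ 24612 Q24612 (allL N24612 (tt N36585 (iv1 F304754)) (tt N47067 (iv0 F306722)) (tt N47105 D83219) (tt N12201 (iv3 D38304)) (tt N36604 (iv4 F304759)) (tt N47106 D83221) (tt N46478 F302292) (tt N42719 F302293))
theorem Q24614 : ∀ i, i < 24614 → P i := stepQ 24613 Q24613 (allL N24613 (tt N44829 (iv1 F113618)) (tt N45444 F300897) (tt N46913 (iv2 F127692)) (tt N47106 (iv3 F128294)) (tt N47107 D83225) (tt N12201 (iv5 D38306)) (tt N47108 D83226) (tt N46914 (iv7 F127697)))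
theorem Q24615 : ∀ i, i < 24615 → P i := stepQ 24614 Q24614 (allL N24614 (tt N34190 F119015) (tt N47109 D83227) (tt N47110 D83228) (tt N12202 (iv3 D38309)) (tt N47111 D83229) (tt N47112 D83230) (tt N47048 F302294) (tt N46912 (iv7 F127691)))
theorem Q24616 : ∀ i, i < 24616 → P i := stepQ 24615 Q24615 (allL N24615 (tt N12597 F119010) (tt N12938 F119011) (tt N12936 F118779) (tt N23675 F297796) (tt N12202 (iv4 D38310)) (tt N45449 F297797) (tt N17490 F297798) (tt N12935 F118780))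
theorem Q24617 : ∀ i, i < 24617 → P i := stepQ 24616 Q24616 (allL N24616 (tt N45444 F300896) (tt N44829 F127698) (tt N46914 (iv2 F127696)) (tt N47112 (iv3 F128306)) (tt N47113 D83234) (tt N12202 (iv5 D38311)) (tt N47114 D83235) (tt N46913 (iv7 F127693)))
theorem Q24618 : ∀ i, i < 24618 → P i := stepQ 24617 Q24617 (allL N24617 (tt N46917 (iv1 F127715)) (tt N12203 (iv0 D38313)) (tt N46915 (iv2 F127713)) (tt N47115 D83240) (tt N47116 D83241) (tt N23466 F298319) (tt N47117 D83243) (tt N23465 F298320))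
theorem Q24619 : ∀ i, i < 24619 → P i := stepQ 24618 Q24618 (allL N24618 (tt N12203 (iv1 D38314)) (tt N46917 F127709) (tt N23465 F297016) (tt N47118 D83244) (tt N47119 D83245) (tt N23451 F297017) (tt N47120 D83246) (tt N46915 (iv7 F127710)))
theorem Q24620 : ∀ i, i < 24620 → P i := stepQ 24619 Q24619 (allL N24619 (tt N47121 D83247) (tt N47122 D83248) (tt N46916 (iv2 F127705)) (tt N47123 D83249) (tt N12203 (iv4 D38315)) (tt N47124 D83250) (tt N47103 (iv6 F128290)) (tt N47125 D83251))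
theorem Q24621 : ∀ i, i < 24621 → P i := stepQ 24620 Q24620 (allL N24620 (tt N23465 F298318) (tt N46915 F127708) (tt N46917 (iv2 F127706)) (tt N47088 (iv3 F128250)) (tt N47125 (iv4 F128329)) (tt N12204 F59173) (tt N47126 D83252) (tt N12203 (iv7 D38316)))
theorem Q24622 : ∀ i, i < 24622 → P i := stepQ 24621 Q24621 (allL N24621 (tt N46966 (iv1 F321093)) (tt N46766 F318963) (tt N46964 F333740) (tt N12205 (iv3 D38332)) (tt N34982 (iv4 F121563)) (tt N47127 D83256) (tt N47128 D83257) (tt N46918 (iv7 F127716)))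
theorem Q24623 : ∀ i, i < 24623 → P i := stepQ 24622 Q24622 (allL N24622 (tt N44805 F118804) (tt N47129 D83258) (tt N35272 F118744) (tt N47127 (iv3 F128331)) (tt N47130 D83259) (tt N12205 (iv5 D38333)) (tt N25332 (iv6 F328347)) (tt N46919 (iv7 F127718)))
theorem Q24624 : ∀ i, i < 24624 → P i := stepQ 24623 Q24623 (allL N24623 (tt N12289 F118931) (tt N45695 (iv0 F300598)) (tt N24342 (iv2 F117718)) (tt N47128 (iv3 F128332)) (tt N12207 F59189) (tt N44642 (iv5 F329120)) (tt N12205 (iv6 D38334)) (tt N24475 F59657))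
theorem Q24625 : ∀ i, i < 24625 → P i := stepQ 24624 Q24624 (allL N24624 (tt N12206 (iv1 D38336)) (tt N12209 F59193) (tt N35274 (iv2 F117709)) (tt N44682 (iv3 F298682)) (tt N47131 D83261) (tt N34793 F298209) (tt N45963 F119991) (tt N35273 (iv7 F117717)))
theorem Q24626 : ∀ i, i < 24626 → P i := stepQ 24625 Q24625 (allL N24625 (tt N47132 D83262) (tt N47133 D83263) (tt N35275 F118743) (tt N47134 D83264) (tt N12206 (iv4 D38337)) (tt N47134 F346343) (tt N47135 D83266) (tt N46920 (iv7 F127725)))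
theorem Q24627 : ∀ i, i < 24627 → P i := stepQ 24626 Q24626 (allL N24626 (tt N12321 F59195) (tt N12319 (iv0 F59197)) (tt N24343 (iv2 F117725)) (tt N12396 (iv3 F298654)) (tt N47135 (iv4 F128338)) (tt N22978 F59194) (tt N12206 (iv6 D38338)) (tt N31839 F326449))
theorem Q24628 : ∀ i, i < 24628 → P i := stepQ 24627 Q24627 (allL N24627 (tt N47129 (iv1 F128334)) (tt N44805 F127719) (tt N46919 (iv2 F127717)) (tt N35889 F326691) (tt N47136 D83267) (tt N12208 (iv5 D38349)) (tt N47137 D83268) (tt N35272 F117681))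
theorem Q24629 : ∀ i, i < 24629 → P i := stepQ 24628 Q24628 (allL N24628 (tt N47133 (iv1 F128336)) (tt N47132 F128335) (tt N46920 (iv2 F127724)) (tt N47138 D83272) (tt N12209 (iv4 D38351)) (tt N47139 D83273) (tt N31836 F325304) (tt N35275 F117685))
theorem Q24630 : ∀ i, i < 24630 → P i := stepQ 24629 Q24629 (allL N24629 (tt N45454 (iv1 F298324)) (tt N24901 F119074) (tt N35280 F118571) (tt N47140 D83279) (tt N12210 (iv4 D38359)) (tt N47141 D83280) (tt N24680 (iv6 F59307)) (tt N46921 (iv7 F127727)))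
theorem Q24631 : ∀ i, i < 24631 → P i := stepQ 24630 Q24630 (allL N24630 (tt N23037 (iv1 F113058)) (tt N22962 (iv0 F59601)) (tt N23035 (iv2 F59568)) (tt N17622 (iv3 F298207)) (tt N45446 (iv4 F298151)) (tt N12210 (iv5 D38360)) (tt N23018 F296685) (tt N17617 F296686))
theorem Q24632 : ∀ i, i < 24632 → P i := stepQ 24631 Q24631 (allL N24631 (tt N24901 (iv1 F119073)) (tt N45454 (iv0 F298323)) (tt N46921 (iv2 F127726)) (tt N45769 (iv3 F119616)) (tt N12211 (iv4 D38363)) (tt N47142 D83282) (tt N45415 F297012) (tt N35280 F117903))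
theorem Q24633 : ∀ i, i < 24633 → P i := stepQ 24632 Q24632 (allL N24632 (tt N31130 F326418) (tt N12212 (iv0 D38365)) (tt N46922 F127737) (tt N47143 D83284) (tt N23476 F298329) (tt N47144 D83285) (tt N45670 (iv6 F300455)) (tt N23475 F298330))
theorem Q24634 : ∀ i, i < 24634 → P i := stepQ 24633 Q24633 (allL N24633 (tt N12212 (iv1 D38366)) (tt N31130 F326417) (tt N23475 F298021) (tt N47145 D83286) (tt N23454 F298022) (tt N47146 D83288) (tt N23456 F298023) (tt N46922 F127739))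
theorem Q24635 : ∀ i, i < 24635 → P i := stepQ 24634 Q24634 (allL N24634 (tt N47147 D83290) (tt N47148 D83291) (tt N47149 D83292) (tt N12212 (iv3 D38367)) (tt N47060 (iv4 F128170)) (tt N47150 D83293) (tt N22941 F59228) (tt N47151 D83294))
theorem Q24636 : ∀ i, i < 24636 → P i := stepQ 24635 Q24635 (allL N24635 (tt N47152 D83295) (tt N47153 D83296) (tt N46923 (iv2 F127743)) (tt N47150 (iv3 F128370)) (tt N47154 D83297) (tt N12212 (iv5 D38368)) (tt N47155 D83298) (tt N47156 D83299))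
theorem Q24637 : ∀ i, i < 24637 → P i := stepQ 24636 Q24636 (allL N24636 (tt N23475 F298328) (tt N46922 F127741) (tt N31130 (iv2 F325597)) (tt N47151 (iv3 F128371)) (tt N12213 F59229) (tt N47156 (iv5 F128373)) (tt N31128 F325260) (tt N12212 (iv7 D38369)))
theorem Q24638 : ∀ i, i < 24638 → P i := stepQ 24637 Q24637 (allL N24637 (tt N22052 F59233) (tt N34217 F86985) (tt N47157 D83301) (tt N12214 (iv3 D38371)) (tt N23629 F59231) (tt N34201 (iv5 F86919)) (tt N47158 D83302) (tt N23548 F59232))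
theorem Q24639 : ∀ i, i < 24639 → P i := stepQ 24638 Q24638 (allL N24638 (tt N17555 (iv1 F299020)) (tt N17565 F118392) (tt N12218 F59234) (tt N47158 (iv3 F128382)) (tt N12215 F59235) (tt N47159 D83303) (tt N12214 (iv6 D38372)) (tt N23550 (iv7 F299204)))
theorem Q24640 : ∀ i, i < 24640 → P i := stepQ 24639 Q24639 (allL N24639 (tt N46901 (iv1 F127658)) (tt N12216 (iv0 D38377)) (tt N46900 F127653) (tt N14350 F74512) (tt N46967 (iv4 F127900)) (tt N44713 (iv5 F112926)) (tt N47160 D83310) (tt N46899 F127648))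
theorem Q24641 : ∀ i, i < 24641 → P i := stepQ 24640 Q24640 (allL N24640 (tt N12216 (iv1 D38378)) (tt N46901 F127659) (tt N46899 (iv2 F127649)) (tt N47161 D83311) (tt N46368 (iv4 F123118)) (tt N46876 (iv5 F127315)) (tt N47162 D83312) (tt N46900 (iv7 F127650)))
theorem Q24642 : ∀ i, i < 24642 → P i := stepQ 24641 Q24641 (allL N24641 (tt N46900 F127654) (tt N46899 F127647) (tt N12216 (iv2 D38379)) (tt N47157 (iv3 F128376)) (tt N12224 F59243) (tt N46967 (iv5 F127899)) (tt N47163 D83313) (tt N46901 (iv7 F127657)))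
theorem Q24643 : ∀ i, i < 24643 → P i := stepQ 24642 Q24642 (allL N24642 (tt N46764 F126895) (tt N46968 F127907) (tt N46967 F127901) (tt N12217 F59244) (tt N46900 (iv4 F127651)) (tt N12216 (iv5 D38380)) (tt N47164 D83314) (tt N46368 (iv7 F123116)))
theorem Q24644 : ∀ i, i < 24644 → P i := stepQ 24643 Q24643 (allL N24643 (tt N47165 D83315) (tt N47166 D83316) (tt N47163 (iv2 F128414)) (tt N12218 F59245) (tt N12226 F59246) (tt N47167 D83317) (tt N12216 (iv6 D38381)) (tt N47168 D83318))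
theorem Q24645 : ∀ i, i < 24645 → P i := stepQ 24644 Q24644 (allL N24644 (tt N19298 (iv1 F306082)) (tt N12286 (iv0 F308920)) (tt N37147 F303983) (tt N47164 (iv3 F128416)) (tt N19487 F303984) (tt N47169 D83321) (tt N12217 (iv6 D38382)) (tt N37146 (iv7 F306085)))
theorem Q24646 : ∀ i, i < 24646 → P i := stepQ 24645 Q24645 (allL N24645 (tt N12218 (iv1 D38384)) (tt N23550 F299916) (tt N17565 F118562) (tt N12278 F311744) (tt N17550 F118563) (tt N47170 D83327) (tt N23564 (iv6 F300363)) (tt N17555 F299917))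
theorem Q24647 : ∀ i, i < 24647 → P i := stepQ 24646 Q24646 (allL N24646 (tt N41602 F323542) (tt N39953 F323543) (tt N47159 (iv2 F128384)) (tt N47167 (iv3 F128417)) (tt N20370 (iv4 F324810)) (tt N12218 (iv5 D38385)) (tt N47169 (iv6 F128421)) (tt N47171 D83331))
theorem Q24648 : ∀ i, i < 24648 → P i := stepQ 24647 Q24647 (allL N24647 (tt N17565 F118000) (tt N17555 (iv0 F299019)) (tt N23550 (iv2 F299203)) (tt N47168 (iv3 F128418)) (tt N12221 F59247) (tt N47171 (iv5 F128434)) (tt N23601 F117829) (tt N12218 (iv7 D38386)))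
theorem Q24649 : ∀ i, i < 24649 → P i := stepQ 24648 Q24648 (allL N24648 (tt N44382 F325075) (tt N31983 F325076) (tt N31912 F325077) (tt N24965 (iv3 F118437)) (tt N18122 (iv4 F325137)) (tt N12219 (iv5 D38395)) (tt N15579 (iv6 F325136)) (tt N31945 F325078))
theorem Q24650 : ∀ i, i < 24650 → P i := stepQ 24649 Q24649 (allL N24649 (tt N47065 F128204) (tt N47172 D83351) (tt N34176 (iv2 F86860)) (tt N12222 (iv3 D38401)) (tt N13011 F59253) (tt N46881 (iv5 F127494)) (tt N47173 D83352) (tt N14337 F59254))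
theorem Q24651 : ∀ i, i < 24651 → P i := stepQ 24650 Q24650 (allL N24650 (tt N47023 (iv1 F155161)) (tt N12311 (iv0 F155162)) (tt N46903 (iv2 F127670)) (tt N47173 (iv3 F128475)) (tt N44740 (iv4 F113291)) (tt N47174 D83355) (tt N12222 (iv6 D38402)) (tt N47022 (iv7 F155163)))
theorem Q24652 : ∀ i, i < 24652 → P i := stepQ 24651 Q24651 (allL N24651 (tt N46773 (iv1 F184739)) (tt N47175 D83358) (tt N46884 (iv2 F127498)) (tt N34178 (iv3 F86868)) (tt N43954 (iv4 F110304)) (tt N47176 D83359) (tt N12223 (iv6 D38404)) (tt N47177 D83360))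
theorem Q24653 : ∀ i, i < 24653 → P i := stepQ 24652 Q24652 (allL N24652 (tt N24487 F59258) (tt N24485 F59261) (tt N12225 F59255) (tt N17076 F59256) (tt N22970 (iv4 F59260)) (tt N12224 (iv5 D38405)) (tt N47178 D83361) (tt N22113 F59257))
theorem Q24654 : ∀ i, i < 24654 → P i := stepQ 24653 Q24653 (allL N24653 (tt N47179 D83362) (tt N47180 D83363) (tt N12226 F59262) (tt N43957 (iv3 F110315)) (tt N47163 (iv4 F128415)) (tt N47181 D83364) (tt N12224 (iv6 D38406)) (tt N47182 D83365))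
theorem Q24655 : ∀ i, i < 24655 → P i := stepQ 24654 Q24654 (allL N24654 (tt N22113 (iv1 F59264)) (tt N12225 (iv0 D38407)) (tt N24487 (iv2 F59265)) (tt N47091 F305454) (tt N44713 (iv4 F112927)) (tt N22969 F59263) (tt N47183 D83367) (tt N24485 (iv7 F59266)))
theorem Q24656 : ∀ i, i < 24656 → P i := stepQ 24655 Q24655 (allL N24655 (tt N12225 (iv1 D38408)) (tt N22113 F59267) (tt N24485 (iv2 F59269)) (tt N24116 (iv3 F60266)) (tt N46876 (iv4 F127314)) (tt N22970 (iv5 F59270)) (tt N47089 (iv6 F306115)) (tt N24487 F59268))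
theorem Q24657 : ∀ i, i < 24657 → P i := stepQ 24656 Q24656 (allL N24656 (tt N47184 D83369) (tt N47185 D83370) (tt N47178 (iv2 F128477)) (tt N12227 F59271) (tt N24486 F59272) (tt N47186 D83371) (tt N12225 (iv6 D38409)) (tt N47187 D83372))
theorem Q24658 : ∀ i, i < 24658 → P i := stepQ 24657 Q24657 (allL N24657 (tt N47182 (iv1 F128485)) (tt N12226 (iv0 D38410)) (tt N47179 (iv2 F188759)) (tt N47188 D83374) (tt N47189 D83375) (tt N47190 D83376) (tt N47033 F303712) (tt N47180 (iv7 F188762)))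
theorem Q24659 : ∀ i, i < 24659 → P i := stepQ 24658 Q24658 (allL N24658 (tt N12226 (iv1 D38411)) (tt N47182 F128484) (tt N47180 (iv2 F188761)) (tt N34180 (iv3 F188763)) (tt N47191 D83380) (tt N47192 D83381) (tt N47193 D83382) (tt N47179 F188760))
theorem Q24660 : ∀ i, i < 24660 → P i := stepQ 24659 Q24659 (allL N24659 (tt N47194 D83383) (tt N47195 D83384) (tt N47181 (iv2 F128481)) (tt N12230 F59273) (tt N47196 D83385) (tt N12226 (iv5 D38412)) (tt N47186 (iv6 F128499)) (tt N47197 D83386))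
theorem Q24661 : ∀ i, i < 24661 → P i := stepQ 24660 Q24660 (allL N24660 (tt N47180 (iv1 F128480)) (tt N47179 F128483) (tt N47182 (iv2 F128482)) (tt N12231 F59274) (tt N47168 (iv4 F128419)) (tt N47197 (iv5 F128505)) (tt N46909 (iv6 F127680)) (tt N12226 (iv7 D38413)))
theorem Q24662 : ∀ i, i < 24662 → P i := stepQ 24661 Q24661 (allL N24661 (tt N46931 (iv1 F127793)) (tt N12227 (iv0 D38414)) (tt N28423 (iv2 F274991)) (tt N47198 D83388) (tt N28205 (iv4 F155515)) (tt N47199 D83390) (tt N47200 D83391) (tt N28427 F274990))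
theorem Q24663 : ∀ i, i < 24663 → P i := stepQ 24662 Q24662 (allL N24662 (tt N12227 (iv1 D38415)) (tt N46931 F127792) (tt N28427 F274985) (tt N47201 D83393) (tt N28206 (iv4 F155511)) (tt N47202 D83395) (tt N47203 D83396) (tt N28423 (iv7 F274992)))
theorem Q24664 : ∀ i, i < 24664 → P i := stepQ 24663 Q24663 (allL N24663 (tt N47204 D83397) (tt N47205 D83398) (tt N46930 (iv2 F127784)) (tt N47186 (iv3 F128498)) (tt N47206 D83399) (tt N12227 (iv5 D38416)) (tt N12230 F59275) (tt N47207 D83400))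
theorem Q24665 : ∀ i, i < 24665 → P i := stepQ 24664 Q24664 (allL N24664 (tt N28427 (iv1 F155449)) (tt N28423 (iv0 F155450)) (tt N46931 (iv2 F127787)) (tt N47187 (iv3 F128500)) (tt N14278 F59276) (tt N47207 (iv5 F128510)) (tt N46911 (iv6 F127686)) (tt N12227 (iv7 D38417)))
theorem Q24666 : ∀ i, i < 24666 → P i := stepQ 24665 Q24665 (allL N24665 (tt N47208 D83401) (tt N45587 (iv0 F252830)) (tt N36513 (iv2 F298301)) (tt N12228 (iv3 D38419)) (tt N35297 (iv4 F118459)) (tt N47209 D83404) (tt N23626 F296729) (tt N46932 (iv7 F127798)))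
theorem Q24667 : ∀ i, i < 24667 → P i := stepQ 24666 Q24666 (allL N24666 (tt N47210 D83407) (tt N47211 D83408) (tt N23632 (iv2 F298125)) (tt N47209 (iv3 F128511)) (tt N47212 D83409) (tt N12228 (iv5 D38421)) (tt N47213 D83410) (tt N46933 (iv7 F127800)))
theorem Q24668 : ∀ i, i < 24668 → P i := stepQ 24667 Q24667 (allL N24667 (tt N47211 (iv1 F128519)) (tt N47210 F128518) (tt N46933 (iv2 F127799)) (tt N36591 (iv3 F303388)) (tt N47214 D83417) (tt N12229 (iv5 D38426)) (tt N47215 D83418) (tt N23632 F300611))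
theorem Q24669 : ∀ i, i < 24669 → P i := stepQ 24668 Q24668 (allL N24668 (tt N24564 F113577) (tt N12298 (iv0 F296987)) (tt N24856 (iv2 F118352)) (tt N35474 (iv3 F298290)) (tt N12568 F296722) (tt N44818 (iv5 F113575)) (tt N12229 (iv6 D38427)) (tt N12565 F296723))
theorem Q24670 : ∀ i, i < 24670 → P i := stepQ 24669 Q24669 (allL N24669 (tt N46937 (iv1 F127813)) (tt N12230 (iv0 D38428)) (tt N46934 (iv2 F127811)) (tt N47216 D83419) (tt N47217 D83420) (tt N47218 D83421) (tt N47219 D83422) (tt N46935 F127812))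
theorem Q24671 : ∀ i, i < 24671 → P i := stepQ 24670 Q24670 (allL N24670 (tt N12230 (iv1 D38429)) (tt N46937 F127808) (tt N46935 (iv2 F127803)) (tt N47220 D83423) (tt N47221 D83424) (tt N24465 (iv5 F59279)) (tt N47222 D83425) (tt N46934 (iv7 F127809)))
theorem Q24672 : ∀ i, i < 24672 → P i := stepQ 24671 Q24671 (allL N24671 (tt N47223 D83426) (tt N47224 D83427) (tt N46936 (iv2 F127804)) (tt N47225 D83428) (tt N12230 (iv4 D38430)) (tt N47226 D83429) (tt N47206 (iv6 F128509)) (tt N47227 D83430))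
theorem Q24673 : ∀ i, i < 24673 → P i := stepQ 24672 Q24672 (allL N24672 (tt N46935 (iv1 F127801)) (tt N46934 F127807) (tt N46937 (iv2 F127805)) (tt N47197 (iv3 F128504)) (tt N47227 (iv4 F128538)) (tt N12231 F59280) (tt N47228 D83431) (tt N12230 (iv7 D38431)))
theorem Q24674 : ∀ i, i < 24674 → P i := stepQ 24673 Q24673 (allL N24673 (tt N47229 D83432) (tt N47230 D83433) (tt N46689 F298204) (tt N43933 F118004) (tt N47231 D83434) (tt N12232 (iv5 D38448)) (tt N47232 D83435) (tt N35318 F118005))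
theorem Q24675 : ∀ i, i < 24675 → P i := stepQ 24674 Q24674 (allL N24674 (tt N12235 (iv1 F59300)) (tt N12233 (iv0 D38451)) (tt N35320 (iv2 F117898)) (tt N12322 (iv3 F298928)) (tt N47233 D83438) (tt N34820 (iv5 F117778)) (tt N45978 (iv6 F120008)) (tt N35319 (iv7 F117897)))
theorem Q24676 : ∀ i, i < 24676 → P i := stepQ 24675 Q24675 (allL N24675 (tt N12233 (iv1 D38452)) (tt N12235 F59297) (tt N35319 (iv2 F117894)) (tt N44382 F325079) (tt N47234 D83440) (tt N34821 (iv5 F117783)) (tt N12323 F112993) (tt N35320 (iv7 F117900)))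
theorem Q24677 : ∀ i, i < 24677 → P i := stepQ 24676 Q24676 (allL N24676 (tt N45663 (iv1 F300457)) (tt N45665 (iv0 F300460)) (tt N46690 F298025) (tt N47235 D83443) (tt N12233 (iv4 D38453)) (tt N47236 D83444) (tt N44686 F298026) (tt N35321 F117937))
theorem Q24678 : ∀ i, i < 24678 → P i := stepQ 24677 Q24677 (allL N24677 (tt N46763 F317288) (tt N46975 F317289) (tt N46973 F317276) (tt N12234 (iv3 D38465)) (tt N35019 (iv4 F121577)) (tt N36046 F330940) (tt N47237 D83451) (tt N46687 F298755))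
theorem Q24679 : ∀ i, i < 24679 → P i := stepQ 24678 Q24678 (allL N24678 (tt N47230 (iv1 F128540)) (tt N47229 F128539) (tt N35318 (iv2 F118568)) (tt N36046 (iv3 F330931)) (tt N41477 (iv4 F330932)) (tt N12234 (iv5 D38466)) (tt N36044 F330924) (tt N46689 F298760))
theorem Q24680 : ∀ i, i < 24680 → P i := stepQ 24679 Q24679 (allL N24679 (tt N19305 F310675) (tt N12285 F59660) (tt N24854 (iv2 F59539)) (tt N47237 (iv3 F128554)) (tt N12236 F59306) (tt N18951 (iv5 F312951)) (tt N12234 (iv6 D38467)) (tt N24853 (iv7 F59530)))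
theorem Q24681 : ∀ i, i < 24681 → P i := stepQ 24680 Q24680 (allL N24680 (tt N45665 (iv1 F300461)) (tt N45663 (iv0 F300456)) (tt N35321 (iv2 F118570)) (tt N47238 D83454) (tt N12235 (iv4 D38468)) (tt N47239 D83455) (tt N24629 F59307) (tt N46690 F298775))
theorem Q24682 : ∀ i, i < 24682 → P i := stepQ 24681 Q24681 (allL N24681 (tt N45660 (iv1 F299330)) (tt N26006 (iv0 F119055)) (tt N46938 (iv2 F127819)) (tt N46258 (iv3 F122640)) (tt N12237 (iv4 D38473)) (tt N47240 D83457) (tt N31875 F324866) (tt N35323 F117790))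
theorem Q24683 : ∀ i, i < 24683 → P i := stepQ 24682 Q24682 (allL N24682 (tt N23020 F299499) (tt N23044 (iv0 F113020)) (tt N24476 F59310) (tt N12405 F117787) (tt N47241 D83459) (tt N12237 (iv5 D38474)) (tt N23024 F59311) (tt N17633 F117788))
theorem Q24684 : ∀ i, i < 24684 → P i := stepQ 24683 Q24683 (allL N24683 (tt N26006 (iv1 F113509)) (tt N45660 (iv0 F299329)) (tt N35323 (iv2 F118742)) (tt N47242 D83461) (tt N12238 (iv4 D38478)) (tt N47243 D83462) (tt N47055 (iv6 F299363)) (tt N46938 (iv7 F127820)))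
theorem Q24685 : ∀ i, i < 24685 → P i := stepQ 24684 Q24684 (allL N24684 (tt N46943 (iv1 F127839)) (tt N12239 (iv0 D38480)) (tt N46939 (iv2 F127828)) (tt N47244 D83464) (tt N29065 F127829) (tt N47245 D83465) (tt N31861 F326391) (tt N46940 (iv7 F127831)))
theorem Q24686 : ∀ i, i < 24686 → P i := stepQ 24685 Q24685 (allL N24685 (tt N12239 (iv1 D38481)) (tt N46943 F127838) (tt N46940 F127833) (tt N47246 D83467) (tt N23655 F299333) (tt N47247 D83468) (tt N23654 (iv6 F302212)) (tt N46939 F127826))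
theorem Q24687 : ∀ i, i < 24687 → P i := stepQ 24686 Q24686 (allL N24686 (tt N31858 (iv1 F326039)) (tt N47248 D83471) (tt N47249 D83472) (tt N12239 (iv3 D38482)) (tt N15551 F325064) (tt N47250 D83473) (tt N22946 F59322) (tt N15548 F325065))
theorem Q24688 : ∀ i, i < 24688 → P i := stepQ 24687 Q24687 (allL N24687 (tt N47251 D83475) (tt N47252 D83476) (tt N46942 (iv2 F127835)) (tt N47250 (iv3 F128576)) (tt N47253 D83477) (tt N12239 (iv5 D38483)) (tt N47254 D83478) (tt N47255 D83479))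
theorem Q24689 : ∀ i, i < 24689 → P i := stepQ 24688 Q24688 (allL N24688 (tt N46940 (iv1 F127830)) (tt N46939 F127827) (tt N46943 (iv2 F127836)) (tt N15548 F325201) (tt N12240 F59323) (tt N47255 (iv5 F128580)) (tt N15546 F325202) (tt N12239 (iv7 D38484)))
theorem Q24690 : ∀ i, i < 24690 → P i := stepQ 24689 Q24689 (allL N24689 (tt N12259 F71635) (tt N23886 F71636) (tt N34209 F86956) (tt N12241 (iv3 D38487)) (tt N46925 (iv4 F127757)) (tt N22045 F71637) (tt N47256 D83481) (tt N34210 (iv7 F86960)))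
theorem Q24691 : ∀ i, i < 24691 → P i := stepQ 24690 Q24690 (allL N24690 (tt N27344 (iv1 F71634)) (tt N28152 F75433) (tt N46949 (iv2 F127858)) (tt N28019 (iv3 F72566)) (tt N12241 (iv4 D38488)) (tt N27414 F71633) (tt N47257 D83482) (tt N46947 (iv7 F127854)))
theorem Q24692 : ∀ i, i < 24692 → P i := stepQ 24691 Q24691 (allL N24691 (tt N17554 F59326) (tt N12272 F59337) (tt N23559 F59330) (tt N22045 (iv3 F71638)) (tt N17765 F59327) (tt N12241 (iv5 D38489)) (tt N47258 D83483) (tt N22350 (iv7 F59328)))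
theorem Q24693 : ∀ i, i < 24693 → P i := stepQ 24692 Q24692 (allL N24692 (tt N47259 D83484) (tt N35064 (iv0 F331906)) (tt N46950 (iv2 F127863)) (tt N47256 (iv3 F128583)) (tt N47257 (iv4 F128584)) (tt N47260 D83486) (tt N12241 (iv6 D38490)) (tt N47261 D83487))
theorem Q24694 : ∀ i, i < 24694 → P i := stepQ 24693 Q24693 (allL N24693 (tt N37608 F307271) (tt N46761 (iv0 F126890)) (tt N46109 (iv2 F120314)) (tt N12242 (iv3 D38491)) (tt N34411 F309659) (tt N47262 D83488) (tt N34410 (iv6 F311856)) (tt N46106 F120308))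
theorem Q24695 : ∀ i, i < 24695 → P i := stepQ 24694 Q24694 (allL N24694 (tt N28152 F72937) (tt N27344 (iv0 F70105)) (tt N46947 (iv2 F127853)) (tt N24996 (iv3 F60086)) (tt N12242 (iv4 D38492)) (tt N27413 F71577) (tt N47263 D83490) (tt N46949 (iv7 F127861)))
theorem Q24696 : ∀ i, i < 24696 → P i := stepQ 24695 Q24695 (allL N24695 (tt N12272 (iv1 F59340)) (tt N17554 F59341) (tt N22350 F59338) (tt N47262 (iv3 F128589)) (tt N22349 (iv4 F59342)) (tt N12242 (iv5 D38493)) (tt N44761 F305490) (tt N23559 F59339))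
theorem Q24697 : ∀ i, i < 24697 → P i := stepQ 24696 Q24696 (allL N24696 (tt N12282 (iv1 F318051)) (tt N47008 (iv0 F318052)) (tt N46948 (iv2 F127857)) (tt N34410 (iv3 F311855)) (tt N47263 (iv4 F128594)) (tt N47264 D83494) (tt N12242 (iv6 D38494)) (tt N47007 (iv7 F317259)))
theorem Q24698 : ∀ i, i < 24698 → P i := stepQ 24697 Q24697 (allL N24697 (tt N47265 D83496) (tt N47266 D83497) (tt N12246 F59343) (tt N23527 F59344) (tt N28576 (iv4 F74202)) (tt N45387 (iv5 F316549)) (tt N12243 (iv6 D38495)) (tt N47267 D83499))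
theorem Q24699 : ∀ i, i < 24699 → P i := stepQ 24698 Q24698 (allL N24698 (tt N28808 (iv1 F322811)) (tt N28311 F321036) (tt N28576 (iv2 F74201)) (tt N25978 (iv3 F63809)) (tt N12246 F59345) (tt N47268 D83502) (tt N12244 (iv6 D38496)) (tt N28807 F324282))
theorem Q24700 : ∀ i, i < 24700 → P i := stepQ 24699 Q24699 (allL N24699 (tt N14177 (iv1 F300534)) (tt N28032 (iv0 F300530)) (tt N17648 F59346) (tt N14222 F59347) (tt N12245 (iv4 D38497)) (tt N47269 D83504) (tt N47270 D83505) (tt N28030 (iv7 F300538)))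
theorem Q24701 : ∀ i, i < 24701 → P i := stepQ 24700 Q24700 (allL N24700 (tt N47271 D83506) (tt N37594 F317095) (tt N23526 F59348) (tt N12247 F59349) (tt N47270 (iv4 F128612)) (tt N47272 D83508) (tt N12245 (iv6 D38498)) (tt N47273 D83509))
theorem Q24702 : ∀ i, i < 24702 → P i := stepQ 24701 Q24701 (allL N24701 (tt N47267 (iv1 F128605)) (tt N12246 (iv0 D38499)) (tt N47265 F273660) (tt N47274 D83511) (tt N47275 D83512) (tt N47276 D83513) (tt N47277 D83514) (tt N47266 (iv7 F273668)))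
theorem Q24703 : ∀ i, i < 24703 → P i := stepQ 24702 Q24702 (allL N24702 (tt N12246 (iv1 D38500)) (tt N47267 F128604) (tt N47266 (iv2 F273667)) (tt N47278 D83516) (tt N47279 D83517) (tt N47280 D83518) (tt N47281 D83519) (tt N47265 F273666))
theorem Q24704 : ∀ i, i < 24704 → P i := stepQ 24703 Q24703 (allL N24703 (tt N47282 D83520) (tt N47283 D83521) (tt N45387 F318841) (tt N12248 F59350) (tt N47284 D83522) (tt N12246 (iv5 D38501)) (tt N47272 (iv6 F128616)) (tt N47285 D83523))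
theorem Q24705 : ∀ i, i < 24705 → P i := stepQ 24704 Q24704 (allL N24704 (tt N47266 (iv1 F128597)) (tt N47265 F128603) (tt N47267 (iv2 F128601)) (tt N12249 F59351) (tt N28807 F324285) (tt N47285 (iv5 F128625)) (tt N45658 F302234) (tt N12246 (iv7 D38502)))
theorem Q24706 : ∀ i, i < 24706 → P i := stepQ 24705 Q24705 (allL N24705 (tt N46367 (iv1 F123114)) (tt N12247 (iv0 D38503)) (tt N46365 (iv2 F155802)) (tt N47286 D83525) (tt N14299 F155368) (tt N47287 D83527) (tt N47288 D83528) (tt N46366 (iv7 F155811)))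
theorem Q24707 : ∀ i, i < 24707 → P i := stepQ 24706 Q24706 (allL N24706 (tt N12247 (iv1 D38504)) (tt N46367 F123113) (tt N46366 (iv2 F155810)) (tt N47289 D83530) (tt N14300 F155362) (tt N47290 D83532) (tt N46380 F304826) (tt N46365 (iv7 F155803)))
theorem Q24708 : ∀ i, i < 24708 → P i := stepQ 24707 Q24707 (allL N24707 (tt N47291 D83534) (tt N44672 F330871) (tt N45857 F320314) (tt N47272 (iv3 F128615)) (tt N47292 D83536) (tt N12247 (iv5 D38505)) (tt N12248 F59352) (tt N47293 D83537))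
theorem Q24709 : ∀ i, i < 24709 → P i := stepQ 24708 Q24708 (allL N24708 (tt N46366 (iv1 F123104)) (tt N46365 F123112) (tt N46367 (iv2 F123108)) (tt N47273 (iv3 F128618)) (tt N14231 F59353) (tt N47293 (iv5 F128631)) (tt N46957 (iv6 F127872)) (tt N12247 (iv7 D38506)))
theorem Q24710 : ∀ i, i < 24710 → P i := stepQ 24709 Q24709 (allL N24709 (tt N45382 F318831) (tt N12248 (iv0 D38517)) (tt N46944 (iv2 F127843)) (tt N47294 D83538) (tt N47121 F128359) (tt N45446 F300635) (tt N25052 F334700) (tt N46945 (iv7 F127845)))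
theorem Q24711 : ∀ i, i < 24711 → P i := stepQ 24710 Q24710 (allL N24710 (tt N12248 (iv1 D38518)) (tt N45382 F318830) (tt N46945 (iv2 F127847)) (tt N31331 F321756) (tt N47122 (iv4 F128328)) (tt N24404 (iv5 F117878)) (tt N31329 (iv6 F323459)) (tt N46944 F127841))
theorem Q24712 : ∀ i, i < 24712 → P i := stepQ 24711 Q24711 (allL N24711 (tt N47295 D83542) (tt N45445 F300902) (tt N46946 (iv2 F127848)) (tt N47296 D83544) (tt N12248 (iv4 D38519)) (tt N47297 D83545) (tt N47292 (iv6 F128630)) (tt N47298 D83546))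
theorem Q24713 : ∀ i, i < 24713 → P i := stepQ 24712 Q24712 (allL N24712 (tt N46945 (iv1 F127844)) (tt N46944 F127842) (tt N45382 F318832) (tt N47285 (iv3 F128624)) (tt N47298 (iv4 F128640)) (tt N12249 F59356) (tt N47299 D83547) (tt N12248 (iv7 D38520)))
theorem Q24714 : ∀ i, i < 24714 → P i := stepQ 24713 Q24713 (allL N24713 (tt N34203 (iv1 F86925)) (tt N12255 (iv0 F59358)) (tt N34202 F86927) (tt N12250 (iv3 D38521)) (tt N47300 D83548) (tt N23548 F59357) (tt N47301 D83549) (tt N34201 F86922))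
theorem Q24715 : ∀ i, i < 24715 → P i := stepQ 24714 Q24714 (allL N24714 (tt N46209 (iv1 F308910)) (tt N47302 D83551) (tt N46369 (iv2 F123119)) (tt N47301 (iv3 F128645)) (tt N41335 F302786) (tt N47303 D83552) (tt N12250 (iv6 D38522)) (tt N47304 D83553))
theorem Q24716 : ∀ i, i < 24716 → P i := stepQ 24715 Q24715 (allL N24715 (tt N46386 (iv1 F123241)) (tt N12251 (iv0 D38523)) (tt N46384 (iv2 F305716)) (tt N47305 D83555) (tt N37506 (iv4 F305718)) (tt N47306 D83557) (tt N45409 F302239) (tt N37143 (iv7 F305720)))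
theorem Q24717 : ∀ i, i < 24717 → P i := stepQ 24716 Q24716 (allL N24716 (tt N12251 (iv1 D38524)) (tt N46386 F123240) (tt N37143 (iv2 F305719)) (tt N47307 D83560) (tt N18961 F303988) (tt N47308 D83562) (tt N18750 (iv6 F306093)) (tt N46384 (iv7 F305717)))
theorem Q24718 : ∀ i, i < 24718 → P i := stepQ 24717 Q24717 (allL N24717 (tt N22550 F320134) (tt N47309 D83565) (tt N46385 (iv2 F123234)) (tt N12253 F59359) (tt N36651 (iv4 F321023)) (tt N12251 (iv5 D38525)) (tt N23519 F59360) (tt N47310 D83567))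
theorem Q24719 : ∀ i, i < 24719 → P i := stepQ 24718 Q24718 (allL N24718 (tt N37143 F306360) (tt N46384 F123239) (tt N46386 (iv2 F123236)) (tt N12254 F59361) (tt N37481 F306361) (tt N47310 (iv5 F128651)) (tt N45383 F315685) (tt N12251 (iv7 D38526)))
theorem Q24720 : ∀ i, i < 24720 → P i := stepQ 24719 Q24719 (allL N24719 (tt N46957 (iv1 F127875)) (tt N12252 (iv0 D38527)) (tt N46954 (iv2 F156867)) (tt N37596 F315999) (tt N14275 (iv4 F155084)) (tt N47311 D83571) (tt N37594 F316000) (tt N46955 (iv7 F156860)))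
theorem Q24721 : ∀ i, i < 24721 → P i := stepQ 24720 Q24720 (allL N24720 (tt N12252 (iv1 D38528)) (tt N46957 F127874) (tt N46955 (iv2 F156859)) (tt N47312 D83574) (tt N14276 (iv4 F155082)) (tt N47313 D83576) (tt N47314 D83577) (tt N46954 (iv7 F156868)))
theorem Q24722 : ∀ i, i < 24722 → P i := stepQ 24721 Q24721 (allL N24721 (tt N47315 D83578) (tt N47316 D83579) (tt N46956 (iv2 F127868)) (tt N23519 F59362) (tt N47317 D83580) (tt N12252 (iv5 D38529)) (tt N12253 F59363) (tt N47318 D83581))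
theorem Q24723 : ∀ i, i < 24723 → P i := stepQ 24722 Q24722 (allL N24722 (tt N46955 (iv1 F127867)) (tt N46954 F127873) (tt N46957 (iv2 F127870)) (tt N23520 F59364) (tt N14181 F59365) (tt N47318 (iv5 F128657)) (tt N46367 (iv6 F123111)) (tt N12252 (iv7 D38530)))
theorem Q24724 : ∀ i, i < 24724 → P i := stepQ 24723 Q24723 (allL N24723 (tt N45659 F302240) (tt N12253 (iv0 D38541)) (tt N46958 (iv2 F127878)) (tt N47319 D83582) (tt N47223 F128564) (tt N47241 (iv5 F128563)) (tt N36657 F339212) (tt N46959 (iv7 F127880)))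
theorem Q24725 : ∀ i, i < 24725 → P i := stepQ 24724 Q24724 (allL N24724 (tt N12253 (iv1 D38542)) (tt N45659 F301013) (tt N46959 (iv2 F127882)) (tt N47320 D83584) (tt N47224 (iv4 F128537)) (tt N24474 (iv5 F118929)) (tt N47321 D83585) (tt N46958 F127877))
theorem Q24726 : ∀ i, i < 24726 → P i := stepQ 24725 Q24725 (allL N24725 (tt N47322 D83586) (tt N47323 D83587) (tt N46960 (iv2 F127884)) (tt N47324 D83588) (tt N12253 (iv4 D38543)) (tt N47325 D83589) (tt N47317 (iv6 F128655)) (tt N47326 D83590))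
theorem Q24727 : ∀ i, i < 24727 → P i := stepQ 24726 Q24726 (allL N24726 (tt N46959 (iv1 F127879)) (tt N46958 F127883) (tt N45659 (iv2 F300613)) (tt N47310 (iv3 F128650)) (tt N47326 (iv4 F128667)) (tt N12254 F59368) (tt N47327 D83591) (tt N12253 (iv7 D38544)))
theorem Q24728 : ∀ i, i < 24728 → P i := stepQ 24727 Q24727 (allL N24727 (tt N12255 (iv1 D38545)) (tt N34203 F86930) (tt N34201 (iv2 F86929)) (tt N46967 (iv3 F127903)) (tt N47328 D83592) (tt N47157 (iv5 F128378)) (tt N47329 D83593) (tt N34202 F86928))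
theorem Q24729 : ∀ i, i < 24729 → P i := stepQ 24728 Q24728 (allL N24728 (tt N34202 (iv1 F86926)) (tt N34201 F86921) (tt N12255 (iv2 D38546)) (tt N23886 F59369) (tt N34606 (iv4 F88100)) (tt N23885 (iv5 F59370)) (tt N47330 D83594) (tt N34203 (iv7 F86924)))
theorem Q24730 : ∀ i, i < 24730 → P i := stepQ 24729 Q24729 (allL N24729 (tt N23516 (iv1 F86942)) (tt N43304 F108471) (tt N23885 F59371) (tt N12257 F59372) (tt N47331 D83595) (tt N12255 (iv5 D38547)) (tt N47332 D83596) (tt N34204 (iv7 F86940)))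
theorem Q24731 : ∀ i, i < 24731 → P i := stepQ 24730 Q24730 (allL N24730 (tt N46310 F316579) (tt N47333 D83598) (tt N47330 (iv2 F128673)) (tt N12258 F59373) (tt N46133 (iv4 F121917)) (tt N47334 D83599) (tt N12255 (iv6 D38548)) (tt N46605 (iv7 F311615)))
theorem Q24732 : ∀ i, i < 24732 → P i := stepQ 24731 Q24731 (allL N24731 (tt N47335 D83601) (tt N33853 F189966) (tt N34213 (iv2 F86970)) (tt N29796 (iv3 F77338)) (tt N12258 F59374) (tt N29792 (iv5 F77329)) (tt N12256 (iv6 D38549)) (tt N47336 D83603))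
theorem Q24733 : ∀ i, i < 24733 → P i := stepQ 24732 Q24732 (allL N24732 (tt N12260 (iv1 F59377)) (tt N12257 (iv0 D38550)) (tt N17358 (iv2 F59376)) (tt N26172 (iv3 F64351)) (tt N24263 F59379) (tt N17180 F59375) (tt N37606 F307224) (tt N22995 F59378))
theorem Q24734 : ∀ i, i < 24734 → P i := stepQ 24733 Q24733 (allL N24733 (tt N37612 (iv1 F306031)) (tt N42862 F107429) (tt N21753 F59380) (tt N37645 F305328) (tt N12257 (iv4 D38551)) (tt N32833 (iv5 F83623)) (tt N47337 D83605) (tt N32853 (iv7 F83663)))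
theorem Q24735 : ∀ i, i < 24735 → P i := stepQ 24734 Q24734 (allL N24734 (tt N47338 D83606) (tt N47289 (iv0 F188229)) (tt N34214 (iv2 F86973)) (tt N47332 (iv3 F128679)) (tt N47337 (iv4 F128686)) (tt N47339 D83608) (tt N12257 (iv6 D38552)) (tt N47340 D83609))
theorem Q24736 : ∀ i, i < 24736 → P i := stepQ 24735 Q24735 (allL N24735 (tt N34216 (iv1 F86981)) (tt N12258 (iv0 D38553)) (tt N34196 (iv2 F189970)) (tt N46964 F333741) (tt N12422 (iv4 F189972)) (tt N35886 F326684) (tt N47341 D83614) (tt N34198 (iv7 F189969)))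
theorem Q24737 : ∀ i, i < 24737 → P i := stepQ 24736 Q24736 (allL N24736 (tt N47342 D83620) (tt N31331 F319909) (tt N34215 (iv2 F86976)) (tt N47334 (iv3 F128680)) (tt N47343 D83622) (tt N12258 (iv5 D38555)) (tt N47339 (iv6 F128687)) (tt N47344 D83623))
theorem Q24738 : ∀ i, i < 24738 → P i := stepQ 24737 Q24737 (allL N24737 (tt N34198 F190080) (tt N34196 F190081) (tt N34216 (iv2 F86977)) (tt N46605 F314070) (tt N47336 (iv4 F128682)) (tt N47344 (iv5 F128690)) (tt N34208 (iv6 F86950)) (tt N12258 (iv7 D38556)))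
theorem Q24739 : ∀ i, i < 24739 → P i := stepQ 24738 Q24738 (allL N24738 (tt N23886 (iv1 F59382)) (tt N12259 (iv0 D38557)) (tt N34210 F86962) (tt N46109 (iv3 F120316)) (tt N46924 (iv4 F127749)) (tt N22044 F59381) (tt N47345 D83624) (tt N34209 F86957))
theorem Q24740 : ∀ i, i < 24740 → P i := stepQ 24739 Q24739 (allL N24739 (tt N43960 F328952) (tt N47346 D83626) (tt N43306 (iv2 F108473)) (tt N12261 F59385) (tt N36530 (iv4 F94760)) (tt N47347 D83627) (tt N12259 (iv6 D38559)) (tt N47348 D83628))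
theorem Q24741 : ∀ i, i < 24741 → P i := stepQ 24740 Q24740 (allL N24740 (tt N37596 (iv1 F313538)) (tt N47349 D83630) (tt N34206 (iv2 F86946)) (tt N23879 F59386) (tt N30687 F311228) (tt N47350 D83631) (tt N12260 (iv6 D38560)) (tt N47351 D83632))
theorem Q24742 : ∀ i, i < 24742 → P i := stepQ 24741 Q24741 (allL N24741 (tt N12261 (iv1 D38562)) (tt N34208 F86952) (tt N34185 (iv2 F188451)) (tt N46973 F317277) (tt N12427 (iv4 F188453)) (tt N47352 D83641) (tt N47353 D83642) (tt N34183 (iv7 F188450)))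
theorem Q24743 : ∀ i, i < 24743 → P i := stepQ 24742 Q24742 (allL N24742 (tt N47319 (iv1 F243744)) (tt N47354 D83644) (tt N34207 (iv2 F86948)) (tt N47347 (iv3 F128691)) (tt N47355 D83645) (tt N12261 (iv5 D38563)) (tt N47350 (iv6 F128695)) (tt N47356 D83646))
theorem Q24744 : ∀ i, i < 24744 → P i := stepQ 24743 Q24743 (allL N24743 (tt N34185 (iv1 F188399)) (tt N34183 F188396) (tt N34208 (iv2 F86949)) (tt N47348 (iv3 F128693)) (tt N36524 (iv4 F94749)) (tt N47356 (iv5 F128699)) (tt N34216 (iv6 F86978)) (tt N12261 (iv7 D38564)))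
theorem Q24745 : ∀ i, i < 24745 → P i := stepQ 24744 Q24744 (allL N24744 (tt N47357 D83647) (tt N47358 D83648) (tt N12267 F59387) (tt N46976 (iv3 F127913)) (tt N32864 (iv4 F83687)) (tt N47359 D83649) (tt N12262 (iv6 D38565)) (tt N47360 D83650))
theorem Q24746 : ∀ i, i < 24746 → P i := stepQ 24745 Q24745 (allL N24745 (tt N12271 (iv1 F59392)) (tt N12263 (iv0 D38566)) (tt N12268 (iv2 F201096)) (tt N47361 D83652) (tt N36612 (iv4 F94871)) (tt N47362 D83653) (tt N47363 D83654) (tt N12269 (iv7 F201101)))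
theorem Q24747 : ∀ i, i < 24747 → P i := stepQ 24746 Q24746 (allL N24746 (tt N12263 (iv1 D38567)) (tt N12271 F59388) (tt N12269 F201102) (tt N47364 D83656) (tt N47365 D83657) (tt N47366 D83658) (tt N47367 D83659) (tt N12268 F201103))
theorem Q24748 : ∀ i, i < 24748 → P i := stepQ 24747 Q24747 (allL N24747 (tt N47368 D83660) (tt N47369 D83661) (tt N12270 F59389) (tt N46979 (iv3 F127916)) (tt N47370 D83662) (tt N12263 (iv5 D38568)) (tt N47359 (iv6 F128702)) (tt N47371 D83663))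
theorem Q24749 : ∀ i, i < 24749 → P i := stepQ 24748 Q24748 (allL N24748 (tt N12269 (iv1 F59393)) (tt N12268 F59394) (tt N12271 F59390) (tt N46980 (iv3 F127918)) (tt N12432 F59391) (tt N47371 (iv5 F128713)) (tt N34162 (iv6 F86843)) (tt N12263 (iv7 D38569)))
theorem Q24750 : ∀ i, i < 24750 → P i := stepQ 24749 Q24749 (allL N24749 (tt N23548 (iv1 F86986)) (tt N47157 F128381) (tt N22052 F59395) (tt N12264 (iv3 D38570)) (tt N47372 D83664) (tt N34433 (iv5 F87534)) (tt N47373 D83665) (tt N34217 (iv7 F86984)))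
theorem Q24751 : ∀ i, i < 24751 → P i := stepQ 24750 Q24750 (allL N24750 (tt N47374 D83666) (tt N47375 D83667) (tt N21715 F59396) (tt N18963 F308041) (tt N12264 (iv4 D38571)) (tt N32790 (iv5 F83539)) (tt N18962 (iv6 F310057)) (tt N32823 (iv7 F83611)))
theorem Q24752 : ∀ i, i < 24752 → P i := stepQ 24751 Q24751 (allL N24751 (tt N41444 (iv1 F313248)) (tt N41443 (iv0 F313247)) (tt N22782 (iv2 F313249)) (tt N47373 (iv3 F128720)) (tt N18962 F311015) (tt N47376 D83672) (tt N12264 (iv6 D38572)) (tt N37503 F311016))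
theorem Q24753 : ∀ i, i < 24753 → P i := stepQ 24752 Q24752 (allL N24752 (tt N47375 (iv1 F128727)) (tt N47374 F128723) (tt N32823 (iv2 F83609)) (tt N16987 F59397) (tt N12265 (iv4 D38573)) (tt N21692 F59399) (tt N41449 (iv6 F308886)) (tt N21715 F59398))
theorem Q24754 : ∀ i, i < 24754 → P i := stepQ 24753 Q24753 (allL N24753 (tt N47377 D83675) (tt N47378 D83676) (tt N34218 (iv2 F86987)) (tt N22047 F59400) (tt N41449 F311011) (tt N47379 D83677) (tt N12265 (iv6 D38574)) (tt N41446 F311012))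
theorem Q24755 : ∀ i, i < 24755 → P i := stepQ 24754 Q24754 (allL N24754 (tt N43104 F310231) (tt N47380 D83680) (tt N25687 (iv2 F61940)) (tt N12266 (iv3 D38576)) (tt N12275 F59401) (tt N32837 (iv5 F83632)) (tt N47381 D83681) (tt N14115 F59402))
theorem Q24756 : ∀ i, i < 24756 → P i := stepQ 24755 Q24755 (allL N24755 (tt N35304 F314405) (tt N47382 D83683) (tt N32864 (iv2 F83686)) (tt N47381 (iv3 F128755)) (tt N12267 F59403) (tt N47383 D83684) (tt N12266 (iv6 D38577)) (tt N47384 D83685))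
theorem Q24757 : ∀ i, i < 24757 → P i := stepQ 24756 Q24756 (allL N24756 (tt N47360 (iv1 F128706)) (tt N12267 (iv0 D38578)) (tt N47357 F334559) (tt N47162 (iv3 F310548)) (tt N47385 D83688) (tt N47386 D83689) (tt N47161 F308399) (tt N47358 (iv7 F334565)))
theorem Q24758 : ∀ i, i < 24758 → P i := stepQ 24757 Q24757 (allL N24757 (tt N12267 (iv1 D38579)) (tt N47360 F128705) (tt N47358 (iv2 F334564)) (tt N47387 D83692) (tt N47388 D83693) (tt N47389 D83694) (tt N47390 D83695) (tt N47357 F334563))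
theorem Q24759 : ∀ i, i < 24759 → P i := stepQ 24758 Q24758 (allL N24758 (tt N47391 D83696) (tt N47392 D83697) (tt N47359 (iv2 F128701)) (tt N12279 F59404) (tt N47393 D83698) (tt N12267 (iv5 D38580)) (tt N12270 F59405) (tt N47394 D83699))
theorem Q24760 : ∀ i, i < 24760 → P i := stepQ 24759 Q24759 (allL N24759 (tt N47358 (iv1 F128700)) (tt N47357 F128704) (tt N47360 (iv2 F128703)) (tt N12280 F59406) (tt N47384 (iv4 F128757)) (tt N47394 (iv5 F128762)) (tt N34223 (iv6 F86995)) (tt N12267 (iv7 D38581)))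
theorem Q24761 : ∀ i, i < 24761 → P i := stepQ 24760 Q24760 (allL N24760 (tt N47395 D83706) (tt N47329 F309616) (tt N37190 (iv2 F312965)) (tt N12268 (iv3 D38583)) (tt N46232 (iv4 F305166)) (tt N47396 D83710) (tt N37175 F310697) (tt N47364 (iv7 F201104)))
theorem Q24762 : ∀ i, i < 24762 → P i := stepQ 24761 Q24761 (allL N24761 (tt N47397 D83713) (tt N33844 (iv0 F155113)) (tt N36612 (iv2 F201094)) (tt N39946 F312532) (tt N12268 (iv4 D38584)) (tt N44343 F312533) (tt N47398 D83717) (tt N47365 (iv7 F201106)))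
theorem Q24763 : ∀ i, i < 24763 → P i := stepQ 24762 Q24762 (allL N24762 (tt N47399 D83719) (tt N47400 D83720) (tt N47362 (iv2 F201098)) (tt N47396 (iv3 F128771)) (tt N47401 D83721) (tt N12268 (iv5 D38585)) (tt N47402 D83722) (tt N47366 (iv7 F201108)))
theorem Q24764 : ∀ i, i < 24764 → P i := stepQ 24763 Q24763 (allL N24763 (tt N47353 (iv1 F188456)) (tt N46138 F298723) (tt N47363 (iv2 F201100)) (tt N37175 F310695) (tt N47398 (iv4 F128776)) (tt N37173 (iv5 F312966)) (tt N12268 (iv6 D38586)) (tt N37199 (iv7 F312961)))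
theorem Q24765 : ∀ i, i < 24765 → P i := stepQ 24764 Q24764 (allL N24764 (tt N47345 F320197) (tt N47403 D83730) (tt N47404 D83731) (tt N12269 (iv3 D38588)) (tt N47405 D83732) (tt N47406 D83733) (tt N47407 D83734) (tt N47361 (iv7 F201097)))
theorem Q24766 : ∀ i, i < 24766 → P i := stepQ 24765 Q24765 (allL N24765 (tt N33844 (iv1 F155114)) (tt N47397 F128779) (tt N47365 (iv2 F201105)) (tt N35471 (iv3 F92451)) (tt N12269 (iv4 D38589)) (tt N47408 D83735) (tt N47409 D83736) (tt N36612 (iv7 F201095)))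
theorem Q24767 : ∀ i, i < 24767 → P i := stepQ 24766 Q24766 (allL N24766 (tt N47400 (iv1 F128780)) (tt N47399 F128783) (tt N47366 (iv2 F201107)) (tt N47406 (iv3 F128788)) (tt N47410 D83737) (tt N12269 (iv5 D38590)) (tt N47411 D83738) (tt N47362 (iv7 F201099)))
theorem Q24768 : ∀ i, i < 24768 → P i := stepQ 24767 Q24767 (allL N24767 (tt N47412 D83739) (tt N47341 (iv0 F189975)) (tt N47367 (iv2 F201109)) (tt N47407 (iv3 F128789)) (tt N47409 (iv4 F128790)) (tt N47413 D83741) (tt N12269 (iv6 D38591)) (tt N47414 D83742))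
theorem Q24769 : ∀ i, i < 24769 → P i := stepQ 24768 Q24768 (allL N24768 (tt N47371 (iv1 F128716)) (tt N12270 (iv0 D38592)) (tt N47368 (iv2 F234234)) (tt N47415 D83744) (tt N47416 D83745) (tt N47417 D83746) (tt N47418 D83747) (tt N47369 (iv7 F234232)))
theorem Q24770 : ∀ i, i < 24770 → P i := stepQ 24769 Q24769 (allL N24769 (tt N12270 (iv1 D38593)) (tt N47371 F128715) (tt N47369 (iv2 F234231)) (tt N47419 D83749) (tt N47420 D83750) (tt N47421 D83751) (tt N47422 D83752) (tt N47368 (iv7 F234235)))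
theorem Q24771 : ∀ i, i < 24771 → P i := stepQ 24770 Q24770 (allL N24770 (tt N47423 D83753) (tt N47424 D83754) (tt N47370 (iv2 F128711)) (tt N47425 D83755) (tt N12270 (iv4 D38594)) (tt N47426 D83756) (tt N47393 (iv6 F128760)) (tt N47427 D83757))
theorem Q24772 : ∀ i, i < 24772 → P i := stepQ 24771 Q24771 (allL N24771 (tt N47369 (iv1 F128710)) (tt N47368 F128714) (tt N47371 (iv2 F128712)) (tt N12293 F59409) (tt N47427 (iv4 F128794)) (tt N12271 F59410) (tt N47428 D83758) (tt N12270 (iv7 D38595)))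
theorem Q24773 : ∀ i, i < 24773 → P i := stepQ 24772 Q24772 (allL N24772 (tt N34955 (iv1 F90531)) (tt N34954 F90527) (tt N23555 F59411) (tt N14052 F59412) (tt N12272 (iv4 D38596)) (tt N45270 (iv5 F114990)) (tt N47429 D83759) (tt N34956 (iv7 F90530)))
theorem Q24774 : ∀ i, i < 24774 → P i := stepQ 24773 Q24773 (allL N24773 (tt N47430 D83760) (tt N47431 D83761) (tt N23560 F59415) (tt N12273 F59416) (tt N47429 (iv4 F128798)) (tt N47432 D83762) (tt N12272 (iv6 D38597)) (tt N46999 (iv7 F309548)))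
theorem Q24775 : ∀ i, i < 24775 → P i := stepQ 24774 Q24774 (allL N24774 (tt N44770 (iv1 F113417)) (tt N12273 (iv0 D38598)) (tt N44767 (iv2 F156430)) (tt N47433 D83765) (tt N14345 F155152) (tt N47434 D83767) (tt N47430 (iv6 F307034)) (tt N44768 (iv7 F156439)))
theorem Q24776 : ∀ i, i < 24776 → P i := stepQ 24775 Q24775 (allL N24775 (tt N12273 (iv1 D38599)) (tt N44770 F113416) (tt N44768 (iv2 F156438)) (tt N41443 F315644) (tt N14346 F155153) (tt N47435 D83772) (tt N47436 D83773) (tt N44767 (iv7 F156431)))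
theorem Q24777 : ∀ i, i < 24777 → P i := stepQ 24776 Q24776 (allL N24776 (tt N47437 D83774) (tt N47438 D83775) (tt N44769 (iv2 F113408)) (tt N47432 (iv3 F128801)) (tt N47439 D83776) (tt N12273 (iv5 D38600)) (tt N13983 F59417) (tt N47440 D83777))
theorem Q24778 : ∀ i, i < 24778 → P i := stepQ 24777 Q24777 (allL N24777 (tt N44768 (iv1 F113407)) (tt N44767 F113415) (tt N44770 (iv2 F113411)) (tt N46999 F311742) (tt N14060 F59418) (tt N47440 (iv5 F128815)) (tt N44763 (iv6 F113384)) (tt N12273 (iv7 D38601)))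
theorem Q24779 : ∀ i, i < 24779 → P i := stepQ 24778 Q24778 (allL N24778 (tt N44763 (iv1 F113387)) (tt N12274 (iv0 D38602)) (tt N44760 (iv2 F184698)) (tt N47377 (iv3 F184738)) (tt N14339 (iv4 F184683)) (tt N47441 D83781) (tt N47442 D83782) (tt N44761 (iv7 F184697)))
theorem Q24780 : ∀ i, i < 24780 → P i := stepQ 24779 Q24779 (allL N24779 (tt N12274 (iv1 D38603)) (tt N44763 F113386) (tt N44761 (iv2 F184695)) (tt N47443 D83784) (tt N14340 (iv4 F184686)) (tt N47444 D83786) (tt N22350 (iv6 F303265)) (tt N44760 (iv7 F184699)))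
theorem Q24781 : ∀ i, i < 24781 → P i := stepQ 24780 Q24780 (allL N24780 (tt N47445 D83788) (tt N47446 D83789) (tt N44762 (iv2 F113380)) (tt N23551 F59419) (tt N45434 (iv4 F296814)) (tt N12274 (iv5 D38604)) (tt N14043 F59420) (tt N47447 D83791))
theorem Q24782 : ∀ i, i < 24782 → P i := stepQ 24781 Q24781 (allL N24781 (tt N44761 (iv1 F113379)) (tt N44760 F113385) (tt N44763 (iv2 F113382)) (tt N17565 F301946) (tt N14016 F59422) (tt N47447 (iv5 F128822)) (tt N44770 (iv6 F113414)) (tt N12274 (iv7 D38605)))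
theorem Q24783 : ∀ i, i < 24783 → P i := stepQ 24782 Q24782 (allL N24782 (tt N14111 (iv1 F59423)) (tt N12275 (iv0 D38606)) (tt N14114 F74228) (tt N47448 D83792) (tt N24914 F59922) (tt N12958 F72118) (tt N30528 (iv6 F307764)) (tt N14113 F74229))
theorem Q24784 : ∀ i, i < 24784 → P i := stepQ 24783 Q24783 (allL N24783 (tt N12275 (iv1 D38607)) (tt N14111 F59424) (tt N14113 F74231) (tt N43682 (iv3 F109448)) (tt N24913 (iv4 F59921)) (tt N12959 F74232) (tt N47449 D83794) (tt N14114 F74233))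
theorem Q24785 : ∀ i, i < 24785 → P i := stepQ 24784 Q24784 (allL N24784 (tt N47450 D83795) (tt N47451 D83796) (tt N22375 F308269) (tt N12276 F59425) (tt N47381 (iv4 F128756)) (tt N47452 D83797) (tt N12275 (iv6 D38608)) (tt N47453 D83798))
theorem Q24786 : ∀ i, i < 24786 → P i := stepQ 24785 Q24785 (allL N24785 (tt N14369 (iv1 F59432)) (tt N12276 (iv0 D38609)) (tt N14370 F274788) (tt N21603 (iv3 F309522)) (tt N46834 (iv4 F272774)) (tt N47454 D83802) (tt N22348 (iv6 F307515)) (tt N14371 (iv7 F274793)))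
theorem Q24787 : ∀ i, i < 24787 → P i := stepQ 24786 Q24786 (allL N24786 (tt N12276 (iv1 D38610)) (tt N14369 F59426) (tt N14371 (iv2 F274792)) (tt N47455 D83805) (tt N46835 (iv4 F272771)) (tt N47456 D83807) (tt N47457 D83808) (tt N14370 F274789))
theorem Q24788 : ∀ i, i < 24788 → P i := stepQ 24787 Q24787 (allL N24787 (tt N47458 D83809) (tt N47459 D83810) (tt N14372 F59427) (tt N47452 (iv3 F128830)) (tt N47460 D83811) (tt N12276 (iv5 D38611)) (tt N13926 F59428) (tt N47461 D83812))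
theorem Q24789 : ∀ i, i < 24789 → P i := stepQ 24788 Q24788 (allL N24788 (tt N14371 (iv1 F59433)) (tt N14370 F59434) (tt N14369 F59429) (tt N47453 (iv3 F128832)) (tt N12280 F59430) (tt N47461 (iv5 F128841)) (tt N14124 F59431) (tt N12276 (iv7 D38612)))
theorem Q24790 : ∀ i, i < 24790 → P i := stepQ 24789 Q24789 (allL N24789 (tt N47462 D83826) (tt N14010 F154535) (tt N34957 F308342) (tt N43692 F308343) (tt N12277 (iv4 D38615)) (tt N47463 D83829) (tt N34956 F308344) (tt N46997 (iv7 F274543)))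
theorem Q24791 : ∀ i, i < 24791 → P i := stepQ 24790 Q24790 (allL N24790 (tt N47464 D83832) (tt N47465 D83833) (tt N46996 F274535) (tt N44762 (iv3 F311749)) (tt N43225 (iv4 F311750)) (tt N12277 (iv5 D38616)) (tt N43224 F309554) (tt N46998 (iv7 F274545)))
theorem Q24792 : ∀ i, i < 24792 → P i := stepQ 24791 Q24791 (allL N24791 (tt N14010 F154536) (tt N47462 F128860) (tt N46997 (iv2 F274542)) (tt N12390 (iv3 F312605)) (tt N12278 (iv4 D38620)) (tt N47466 D83849) (tt N35188 (iv6 F310442)) (tt N34957 F310385))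
theorem Q24793 : ∀ i, i < 24793 → P i := stepQ 24792 Q24792 (allL N24792 (tt N47465 (iv1 F128862)) (tt N47464 F128865) (tt N46998 (iv2 F274544)) (tt N47170 (iv3 F314189)) (tt N47467 D83851) (tt N12278 (iv5 D38621)) (tt N47468 D83852) (tt N46996 F274540))
theorem Q24794 : ∀ i, i < 24794 → P i := stepQ 24793 Q24793 (allL N24793 (tt N47431 (iv1 F309545)) (tt N47430 F308852) (tt N46999 (iv2 F274546)) (tt N23564 (iv3 F311019)) (tt N35188 (iv4 F310441)) (tt N47469 D83855) (tt N12278 (iv6 D38622)) (tt N23560 F308853))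
theorem Q24795 : ∀ i, i < 24795 → P i := stepQ 24794 Q24794 (allL N24794 (tt N47003 (iv1 F127948)) (tt N12279 (iv0 D38623)) (tt N47000 (iv2 F273726)) (tt N47470 D83858) (tt N47471 D83859) (tt N47472 D83860) (tt N47473 D83861) (tt N47001 (iv7 F273727)))
theorem Q24796 : ∀ i, i < 24796 → P i := stepQ 24795 Q24795 (allL N24795 (tt N12279 (iv1 D38624)) (tt N47003 F127947) (tt N47001 F273728) (tt N39953 F323547) (tt N47474 D83864) (tt N46419 F308605) (tt N47475 D83866) (tt N47000 F273729))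
theorem Q24797 : ∀ i, i < 24797 → P i := stepQ 24796 Q24796 (allL N24796 (tt N47476 D83867) (tt N47477 D83868) (tt N47002 (iv2 F127942)) (tt N47478 D83869) (tt N12279 (iv4 D38625)) (tt N47479 D83870) (tt N12292 F59437) (tt N47480 D83871))
theorem Q24798 : ∀ i, i < 24798 → P i := stepQ 24797 Q24797 (allL N24797 (tt N47001 (iv1 F127940)) (tt N47000 F127946) (tt N47003 (iv2 F127944)) (tt N47394 (iv3 F128761)) (tt N47480 (iv4 F128876)) (tt N12280 F59438) (tt N47481 D83872) (tt N12279 (iv7 D38626)))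
theorem Q24799 : ∀ i, i < 24799 → P i := stepQ 24798 Q24798 (allL N24798 (tt N14354 (iv1 F59442)) (tt N14353 F59443) (tt N14356 F59439) (tt N34223 (iv3 F86994)) (tt N14124 F59440) (tt N47482 D83873) (tt N12280 (iv6 D38627)) (tt N12281 F59441))
theorem Q24800 : ∀ i, i < 24800 → P i := stepQ 24799 Q24799 (allL N24799 (tt N14356 (iv1 F59444)) (tt N12281 (iv0 D38628)) (tt N14353 (iv2 F274680)) (tt N47483 D83875) (tt N47484 D83876) (tt N47485 D83877) (tt N47486 D83878) (tt N14354 (iv7 F274686)))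
theorem Q24801 : ∀ i, i < 24801 → P i := stepQ 24800 Q24800 (allL N24800 (tt N12281 (iv1 D38629)) (tt N14356 F59445) (tt N14354 F274687) (tt N23545 (iv3 F309518)) (tt N35254 (iv4 F309519)) (tt N47487 D83882) (tt N23608 (iv6 F307524)) (tt N14353 F274688))
theorem Q24802 : ∀ i, i < 24802 → P i := stepQ 24801 Q24801 (allL N24801 (tt N47488 D83884) (tt N46382 F304827) (tt N14355 F59446) (tt N34222 (iv3 F86992)) (tt N47489 D83886) (tt N12281 (iv5 D38630)) (tt N12297 F59447) (tt N47482 (iv7 F128879)))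
theorem Q24803 : ∀ i, i < 24803 → P i := stepQ 24802 Q24802 (allL N24802 (tt N47008 (iv1 F127980)) (tt N12282 (iv0 D38637)) (tt N47007 F279263) (tt N47403 (iv3 F274124)) (tt N47490 D83889) (tt N47491 D83890) (tt N47261 (iv6 F321530)) (tt N46948 F319562))
theorem Q24804 : ∀ i, i < 24804 → P i := stepQ 24803 Q24803 (allL N24803 (tt N47007 (iv1 F127981)) (tt N46948 F319561) (tt N12282 (iv2 D38639)) (tt N19298 F310378) (tt N47492 D83897) (tt N47493 D83898) (tt N19296 (iv6 F312598)) (tt N47008 (iv7 F127979)))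
theorem Q24805 : ∀ i, i < 24805 → P i := stepQ 24804 Q24804 (allL N24804 (tt N47494 D83900) (tt N26125 F155164) (tt N47492 (iv2 F128890)) (tt N34781 (iv3 F117195)) (tt N12282 (iv4 D38640)) (tt N47495 D83902) (tt N34937 F301581) (tt N46681 (iv7 F125794)))
theorem Q24806 : ∀ i, i < 24806 → P i := stepQ 24805 Q24805 (allL N24805 (tt N47496 D83904) (tt N47497 D83905) (tt N47493 (iv2 F128891)) (tt N12284 F59456) (tt N47498 D83906) (tt N12282 (iv5 D38641)) (tt N47499 D83907) (tt N47009 (iv7 F127984)))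
theorem Q24807 : ∀ i, i < 24807 → P i := stepQ 24806 Q24806 (allL N24806 (tt N37166 F315052) (tt N37165 F315053) (tt N19296 F315054) (tt N12285 F59457) (tt N34937 (iv4 F300839)) (tt N19294 (iv5 F317260)) (tt N12282 (iv6 D38642)) (tt N35158 (iv7 F300597)))
theorem Q24808 : ∀ i, i < 24808 → P i := stepQ 24807 Q24807 (allL N24807 (tt N12559 F296625) (tt N12568 F296626) (tt N12567 F296627) (tt N17798 (iv3 F298095)) (tt N24812 F61166) (tt N12283 (iv5 D38647)) (tt N23656 (iv6 F298121)) (tt N12566 F296628))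
theorem Q24809 : ∀ i, i < 24809 → P i := stepQ 24808 Q24808 (allL N24808 (tt N12288 (iv1 F59474)) (tt N12284 (iv0 D38650)) (tt N47004 F127961) (tt N47500 D83913) (tt N47501 D83914) (tt N24387 F296756) (tt N47502 D83915) (tt N47005 (iv7 F127964)))
theorem Q24810 : ∀ i, i < 24810 → P i := stepQ 24809 Q24809 (allL N24809 (tt N12284 (iv1 D38651)) (tt N12288 F59471) (tt N47005 F127966) (tt N47400 (iv3 F243982)) (tt N47503 D83917) (tt N47504 D83918) (tt N47505 D83919) (tt N47004 F127962))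
theorem Q24811 : ∀ i, i < 24811 → P i := stepQ 24810 Q24810 (allL N24810 (tt N47506 D83920) (tt N47507 D83921) (tt N47006 (iv2 F127967)) (tt N19610 (iv3 F318047)) (tt N12284 (iv4 D38652)) (tt N18852 F315828) (tt N26802 F319813) (tt N38025 F315829))
theorem Q24812 : ∀ i, i < 24812 → P i := stepQ 24811 Q24811 (allL N24811 (tt N27229 F315366) (tt N47508 D83925) (tt N37140 (iv2 F318048)) (tt N47499 (iv3 F128895)) (tt N26802 (iv4 F317581)) (tt N37135 (iv5 F317521)) (tt N12284 (iv6 D38653)) (tt N47509 D83927))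
theorem Q24813 : ∀ i, i < 24813 → P i := stepQ 24812 Q24812 (allL N24812 (tt N24853 (iv1 F61164)) (tt N24854 F61165) (tt N19305 F310676) (tt N35158 (iv3 F300596)) (tt N24807 (iv4 F61166)) (tt N19303 (iv5 F312952)) (tt N45695 (iv6 F300601)) (tt N12285 (iv7 D38658)))
theorem Q24814 : ∀ i, i < 24814 → P i := stepQ 24813 Q24813 (allL N24813 (tt N12286 (iv1 D38661)) (tt N19298 (iv0 F308923)) (tt N37146 (iv2 F308919)) (tt N47395 (iv3 F187919)) (tt N19486 F307064) (tt N47510 D83938) (tt N47304 (iv6 F307168)) (tt N37147 F307065))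
theorem Q24815 : ∀ i, i < 24815 → P i := stepQ 24814 Q24814 (allL N24814 (tt N37147 F307083) (tt N37146 (iv0 F308918)) (tt N12286 (iv2 D38662)) (tt N47008 (iv3 F127978)) (tt N19457 (iv4 F308183)) (tt N47511 D83941) (tt N35503 F318848) (tt N19298 (iv7 F308924)))
theorem Q24816 : ∀ i, i < 24816 → P i := stepQ 24815 Q24815 (allL N24815 (tt N46255 F315917) (tt N41852 F315781) (tt N47511 (iv2 F128935)) (tt N12288 F59480) (tt N21145 (iv4 F317749)) (tt N12286 (iv5 D38664)) (tt N47512 D83950) (tt N37148 F311078))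
theorem Q24817 : ∀ i, i < 24817 → P i := stepQ 24816 Q24816 (allL N24816 (tt N36367 (iv1 F317136)) (tt N23642 F315310) (tt N35503 (iv2 F317242)) (tt N12289 F59481) (tt N19442 F310683) (tt N12525 (iv5 F317563)) (tt N12286 (iv6 D38665)) (tt N19307 F310684))
theorem Q24818 : ∀ i, i < 24818 → P i := stepQ 24817 Q24817 (allL N24817 (tt N12568 F296621) (tt N12559 F296622) (tt N12566 F296623) (tt N12636 F59482) (tt N18853 (iv4 F310680)) (tt N12287 (iv5 D38666)) (tt N12633 (iv6 F59483)) (tt N12567 F296624))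
theorem Q24819 : ∀ i, i < 24819 → P i := stepQ 24818 Q24818 (allL N24818 (tt N47507 (iv1 F128923)) (tt N47506 F128922) (tt N38025 F315835) (tt N47513 D83955) (tt N12288 (iv4 D38668)) (tt N38021 F315836) (tt N47514 D83956) (tt N47006 (iv7 F127968)))
theorem Q24820 : ∀ i, i < 24820 → P i := stepQ 24819 Q24819 (allL N24819 (tt N47515 D83957) (tt N47516 D83958) (tt N47011 (iv2 F127988)) (tt N47512 (iv3 F128939)) (tt N47514 (iv4 F128942)) (tt N47517 D83959) (tt N12288 (iv6 D38669)) (tt N47518 D83960))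
theorem Q24821 : ∀ i, i < 24821 → P i := stepQ 24820 Q24820 (allL N24820 (tt N45695 (iv1 F300599)) (tt N12289 (iv0 D38670)) (tt N24475 F118933) (tt N47412 (iv3 F201138)) (tt N12315 F118934) (tt N44771 (iv5 F113427)) (tt N45413 (iv6 F299615)) (tt N24342 F118935))
theorem Q24822 : ∀ i, i < 24822 → P i := stepQ 24821 Q24821 (allL N24821 (tt N24340 (iv1 F118930)) (tt N24473 (iv0 F118928)) (tt N47012 (iv2 F127989)) (tt N12525 F319786) (tt N47519 D83962) (tt N12289 (iv5 D38672)) (tt N47517 (iv6 F128943)) (tt N35506 (iv7 F320374)))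
theorem Q24823 : ∀ i, i < 24823 → P i := stepQ 24822 Q24822 (allL N24822 (tt N24342 (iv1 F118937)) (tt N24475 F118932) (tt N45695 (iv2 F300600)) (tt N19307 F310678) (tt N24176 F298297) (tt N35506 (iv5 F320373)) (tt N19305 F310679) (tt N12289 (iv7 D38673)))
theorem Q24824 : ∀ i, i < 24824 → P i := stepQ 24823 Q24823 (allL N24823 (tt N47491 (iv1 F278411)) (tt N47264 (iv0 F321887)) (tt N47520 D83966) (tt N12290 (iv3 D38675)) (tt N47521 D83967) (tt N46443 F302295) (tt N47522 D83969) (tt N47016 (iv7 F128002)))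
theorem Q24825 : ∀ i, i < 24825 → P i := stepQ 24824 Q24824 (allL N24824 (tt N47523 D83970) (tt N47524 D83971) (tt N47014 (iv2 F127999)) (tt N18935 (iv3 F318982)) (tt N12290 (iv4 D38676)) (tt N18934 F316623) (tt N47525 D83973) (tt N38233 (iv7 F318987)))
theorem Q24826 : ∀ i, i < 24826 → P i := stepQ 24825 Q24825 (allL N24825 (tt N47526 D83974) (tt N47527 D83975) (tt N47015 (iv2 F128001)) (tt N47522 (iv3 F128951)) (tt N47525 (iv4 F128959)) (tt N47528 D83976) (tt N12290 (iv6 D38678)) (tt N47529 D83977))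
theorem Q24827 : ∀ i, i < 24827 → P i := stepQ 24826 Q24826 (allL N24826 (tt N47169 F312328) (tt N47510 F312329) (tt N47530 D83980) (tt N12291 (iv3 D38680)) (tt N41614 (iv4 F323369)) (tt N38103 F308410) (tt N41613 F321687) (tt N47013 (iv7 F127998)))
theorem Q24828 : ∀ i, i < 24828 → P i := stepQ 24827 Q24827 (allL N24827 (tt N47524 (iv1 F128956)) (tt N47523 F128954) (tt N38233 F319757) (tt N47531 D83984) (tt N12291 (iv4 D38681)) (tt N38232 F319758) (tt N34076 F321688) (tt N47014 (iv7 F128000)))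
theorem Q24829 : ∀ i, i < 24829 → P i := stepQ 24828 Q24828 (allL N24828 (tt N42997 (iv1 F319795)) (tt N16454 (iv0 F319796)) (tt N43243 (iv2 F319792)) (tt N41613 (iv3 F319794)) (tt N34076 (iv4 F319797)) (tt N47532 D83988) (tt N12291 (iv6 D38683)) (tt N43256 (iv7 F319798)))
theorem Q24830 : ∀ i, i < 24830 → P i := stepQ 24829 Q24829 (allL N24829 (tt N42363 F326547) (tt N12292 (iv0 D38684)) (tt N47017 (iv2 F151389)) (tt N47533 D83991) (tt N44815 F300962) (tt N44826 (iv5 F113617)) (tt N47534 D83992) (tt N47018 (iv7 F151392)))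
theorem Q24831 : ∀ i, i < 24831 → P i := stepQ 24830 Q24830 (allL N24830 (tt N12292 (iv1 D38685)) (tt N42363 F326548) (tt N47018 (iv2 F151391)) (tt N47535 D83994) (tt N44832 (iv4 F113622)) (tt N44819 (iv5 F113581)) (tt N16452 (iv6 F323219)) (tt N47017 (iv7 F151390)))
theorem Q24832 : ∀ i, i < 24832 → P i := stepQ 24831 Q24831 (allL N24831 (tt N43042 (iv1 F336794)) (tt N23217 (iv0 F336795)) (tt N42360 (iv2 F327298)) (tt N12292 (iv3 D38686)) (tt N47425 (iv4 F128793)) (tt N47536 D83999) (tt N47478 (iv6 F128875)) (tt N43041 F332642))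
theorem Q24833 : ∀ i, i < 24833 → P i := stepQ 24832 Q24832 (allL N24832 (tt N44806 (iv1 F113535)) (tt N38619 (iv0 F318970)) (tt N38017 F316617) (tt N47536 (iv3 F128965)) (tt N18850 F316618) (tt N12292 (iv5 D38687)) (tt N38000 F324703) (tt N38019 F316619))
theorem Q24834 : ∀ i, i < 24834 → P i := stepQ 24833 Q24833 (allL N24833 (tt N47018 (iv1 F128007)) (tt N47017 F128006) (tt N42363 (iv2 F325728)) (tt N43041 F332644) (tt N12293 F59488) (tt N38019 F317544) (tt N47537 D84002) (tt N12292 (iv7 D38688)))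
theorem Q24835 : ∀ i, i < 24835 → P i := stepQ 24834 Q24834 (allL N24834 (tt N47538 D84003) (tt N47539 D84004) (tt N47019 (iv2 F128008)) (tt N47428 (iv3 F128795)) (tt N47537 (iv4 F128967)) (tt N47540 D84005) (tt N12293 (iv6 D38689)) (tt N47481 (iv7 F128877)))
theorem Q24836 : ∀ i, i < 24836 → P i := stepQ 24835 Q24835 (allL N24835 (tt N44802 F113518) (tt N46771 F126923) (tt N46772 (iv2 F126926)) (tt N34235 (iv3 F86999)) (tt N28866 F328315) (tt N12294 (iv5 D38690)) (tt N47540 (iv6 F128968)) (tt N12297 F59489))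
theorem Q24837 : ∀ i, i < 24837 → P i := stepQ 24836 Q24836 (allL N24836 (tt N47261 F331856) (tt N46950 (iv0 F331861)) (tt N47259 F331911) (tt N12295 (iv3 D38692)) (tt N28765 F184748) (tt N47541 D84010) (tt N45675 F301546) (tt N35064 F301547))
theorem Q24838 : ∀ i, i < 24838 → P i := stepQ 24837 Q24837 (allL N24837 (tt N47542 D84012) (tt N47543 D84013) (tt N46210 F301548) (tt N47541 (iv3 F128970)) (tt N47544 D84014) (tt N12295 (iv5 D38694)) (tt N47545 D84015) (tt N45404 F301549))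
theorem Q24839 : ∀ i, i < 24839 → P i := stepQ 24838 Q24838 (allL N24838 (tt N46369 (iv1 F308913)) (tt N47304 (iv0 F308914)) (tt N47302 (iv2 F313344)) (tt N12296 (iv3 D38697)) (tt N23935 F308098) (tt N44069 (iv5 F311547)) (tt N25360 F298283) (tt N46209 (iv7 F299445)))
theorem Q24840 : ∀ i, i < 24840 → P i := stepQ 24839 Q24839 (allL N24839 (tt N47543 (iv1 F128977)) (tt N47542 F128974) (tt N45404 (iv2 F299447)) (tt N44069 F313973) (tt N47546 D84023) (tt N12296 (iv5 D38699)) (tt N47547 D84024) (tt N46210 (iv7 F299446)))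
theorem Q24841 : ∀ i, i < 24841 → P i := stepQ 24840 Q24840 (allL N24840 (tt N46772 (iv1 F126929)) (tt N12297 (iv0 D38701)) (tt N46771 F126921) (tt N47548 D84027) (tt N47549 D84028) (tt N44803 (iv5 F121906)) (tt N47550 D84029) (tt N44802 F121907))
theorem Q24842 : ∀ i, i < 24842 → P i := stepQ 24841 Q24841 (allL N24841 (tt N12297 (iv1 D38702)) (tt N46772 F126928) (tt N44802 (iv2 F114006)) (tt N38096 F316631) (tt N39777 (iv4 F323866)) (tt N38093 F316632) (tt N38252 (iv6 F318988)) (tt N46771 (iv7 F126922)))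
theorem Q24843 : ∀ i, i < 24843 → P i := stepQ 24842 Q24842 (allL N24842 (tt N28862 F327392) (tt N28327 F327393) (tt N28867 F328320) (tt N47551 D84035) (tt N12297 (iv4 D38703)) (tt N47552 D84036) (tt N47489 (iv6 F128887)) (tt N28866 F328321))
theorem Q24844 : ∀ i, i < 24844 → P i := stepQ 24843 Q24843 (allL N24843 (tt N37070 (iv1 F318040)) (tt N47039 (iv0 F317082)) (tt N19630 (iv2 F317951)) (tt N12298 (iv3 D38718)) (tt N12300 F59504) (tt N19627 (iv5 F317959)) (tt N12300 (iv6 F299437)) (tt N19635 (iv7 F317492)))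
theorem Q24845 : ∀ i, i < 24845 → P i := stepQ 24844 Q24844 (allL N24844 (tt N24445 F298734) (tt N37113 F319065) (tt N24874 F298735) (tt N19627 F319066) (tt N25935 F327291) (tt N12298 (iv5 D38719)) (tt N25934 (iv6 F327755)) (tt N19633 F319067))
theorem Q24846 : ∀ i, i < 24846 → P i := stepQ 24845 Q24845 (allL N24845 (tt N47553 D84062) (tt N47554 D84063) (tt N47555 D84064) (tt N12299 (iv3 D38728)) (tt N23990 (iv4 F302820)) (tt N47556 D84066) (tt N23980 (iv6 F301372)) (tt N27969 F72401))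
theorem Q24847 : ∀ i, i < 24847 → P i := stepQ 24846 Q24846 (allL N24846 (tt N44832 (iv1 F113623)) (tt N44815 F300727) (tt N47021 (iv2 F128025)) (tt N47556 (iv3 F129051)) (tt N47557 D84067) (tt N12299 (iv5 D38730)) (tt N47558 D84068) (tt N27971 (iv7 F72405)))
theorem Q24848 : ∀ i, i < 24848 → P i := stepQ 24847 Q24847 (allL N24847 (tt N47029 (iv1 F128058)) (tt N12300 (iv0 D38737)) (tt N47028 F275600) (tt N34721 F311086) (tt N47559 D84071) (tt N47560 D84072) (tt N43963 F315793) (tt N34281 (iv7 F313347)))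
theorem Q24849 : ∀ i, i < 24849 → P i := stepQ 24848 Q24848 (allL N24848 (tt N47028 (iv1 F128059)) (tt N34281 (iv0 F318018)) (tt N12300 (iv2 D38739)) (tt N47023 (iv3 F128028)) (tt N19630 (iv4 F317952)) (tt N47561 D84079) (tt N19630 (iv6 F317953)) (tt N47029 (iv7 F128057)))
theorem Q24850 : ∀ i, i < 24850 → P i := stepQ 24849 Q24849 (allL N24849 (tt N40811 F319106) (tt N47562 D84082) (tt N47561 (iv2 F129061)) (tt N12301 F59517) (tt N47563 D84083) (tt N12300 (iv5 D38740)) (tt N47564 D84084) (tt N47030 (iv7 F128062)))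
theorem Q24851 : ∀ i, i < 24851 → P i := stepQ 24850 Q24850 (allL N24850 (tt N12301 (iv1 D38743)) (tt N12312 F59520) (tt N46442 (iv2 F298827)) (tt N47565 D84091) (tt N47566 D84092) (tt N46428 F298345) (tt N47567 D84094) (tt N46427 F298346))
theorem Q24852 : ∀ i, i < 24852 → P i := stepQ 24851 Q24851 (allL N24851 (tt N47501 (iv1 F128911)) (tt N47503 (iv0 F128913)) (tt N47025 (iv2 F128043)) (tt N47568 D84095) (tt N12301 (iv4 D38744)) (tt N44806 (iv5 F113537)) (tt N27228 (iv6 F327294)) (tt N47032 (iv7 F128065)))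
theorem Q24853 : ∀ i, i < 24853 → P i := stepQ 24852 Q24852 (allL N24852 (tt N26427 (iv1 F328228)) (tt N47569 D84098) (tt N47026 (iv2 F128045)) (tt N47564 (iv3 F129063)) (tt N27228 F327762) (tt N25934 F327763) (tt N12301 (iv6 D38745)) (tt N47570 D84100))
theorem Q24854 : ∀ i, i < 24854 → P i := stepQ 24853 Q24853 (allL N24853 (tt N18853 F312948) (tt N24812 F61164) (tt N24420 F296663) (tt N47571 D84104) (tt N12302 (iv4 D38751)) (tt N19423 (iv5 F315289)) (tt N17610 F296664) (tt N24679 F59530))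
theorem Q24855 : ∀ i, i < 24855 → P i := stepQ 24854 Q24854 (allL N24854 (tt N24812 (iv1 F61165)) (tt N18853 F312950) (tt N24679 F59539) (tt N47572 D84107) (tt N12303 (iv4 D38754)) (tt N19422 (iv5 F315307)) (tt N17888 (iv6 F117934)) (tt N24420 F296986))
theorem Q24856 : ∀ i, i < 24856 → P i := stepQ 24855 Q24855 (allL N24855 (tt N22960 F296693) (tt N22958 F59546) (tt N23018 F296694) (tt N12497 F117871) (tt N47504 (iv4 F128917)) (tt N12303 (iv5 D38755)) (tt N23035 (iv6 F59569)) (tt N17635 (iv7 F117885)))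
theorem Q24857 : ∀ i, i < 24857 → P i := stepQ 24856 Q24856 (allL N24856 (tt N12304 (iv1 D38757)) (tt N12314 F59662) (tt N24668 F118352) (tt N37012 F312899) (tt N25356 F298117) (tt N37010 (iv5 F315274)) (tt N24519 (iv6 F118374)) (tt N24573 F298118))
theorem Q24858 : ∀ i, i < 24858 → P i := stepQ 24857 Q24857 (allL N24857 (tt N24177 (iv1 F298405)) (tt N24870 F59820) (tt N24872 (iv2 F59817)) (tt N38624 (iv3 F319731)) (tt N12305 F59665) (tt N46847 (iv5 F127199)) (tt N12304 (iv6 D38760)) (tt N24567 F59666))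
theorem Q24859 : ∀ i, i < 24859 → P i := stepQ 24858 Q24858 (allL N24858 (tt N17552 F91418) (tt N23564 F91419) (tt N12308 F59670) (tt N47573 D84120) (tt N12307 (iv4 D38772)) (tt N34618 F320329) (tt N46422 (iv6 F300372)) (tt N23562 (iv7 F91570)))
theorem Q24860 : ∀ i, i < 24860 → P i := stepQ 24859 Q24859 (allL N24859 (tt N24318 (iv1 F118680)) (tt N24318 (iv0 F297989)) (tt N12310 F59674) (tt N12316 F297960) (tt N46422 (iv4 F300371)) (tt N12310 F297961) (tt N12307 (iv6 D38774)) (tt N12310 F297962))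
theorem Q24861 : ∀ i, i < 24861 → P i := stepQ 24860 Q24860 (allL N24860 (tt N12308 (iv1 D38776)) (tt N23562 F91167) (tt N23564 F91168) (tt N44770 (iv3 F113412)) (tt N12658 (iv4 F59675)) (tt N45992 F322598) (tt N17565 F299930) (tt N17552 F91170))
theorem Q24862 : ∀ i, i < 24862 → P i := stepQ 24861 Q24861 (allL N24861 (tt N47160 F310246) (tt N47574 D84125) (tt N47575 D84126) (tt N12308 (iv3 D38777)) (tt N12311 F59676) (tt N45856 F322744) (tt N47576 D84128) (tt N45855 F322745))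
theorem Q24863 : ∀ i, i < 24863 → P i := stepQ 24862 Q24862 (allL N24862 (tt N23603 (iv1 F302123)) (tt N23603 F118741) (tt N46422 (iv2 F300370)) (tt N47576 (iv3 F129156)) (tt N12310 F59677) (tt N36974 F306851) (tt N12308 (iv6 D38779)) (tt N46422 F123494))
theorem Q24864 : ∀ i, i < 24864 → P i := stepQ 24863 Q24863 (allL N24863 (tt N12310 F299482) (tt N12310 (iv0 D38783)) (tt N24318 F123052) (tt N12353 F299483) (tt N38109 (iv4 F305448)) (tt N22968 F123055) (tt N12350 F299484) (tt N24318 F299485))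
theorem Q24865 : ∀ i, i < 24865 → P i := stepQ 24864 Q24864 (allL N24864 (tt N12311 (iv1 D38787)) (tt N47023 F128032) (tt N47022 (iv2 F131880)) (tt N47577 D84146) (tt N47578 D84147) (tt N47579 D84148) (tt N47177 (iv6 F155179)) (tt N46903 (iv7 F155158)))
theorem Q24866 : ∀ i, i < 24866 → P i := stepQ 24865 Q24865 (allL N24865 (tt N46903 (iv1 F155157)) (tt N47022 F128027) (tt N12311 (iv2 D38788)) (tt N47029 (iv3 F128056)) (tt N47575 (iv4 F129154)) (tt N47580 D84150) (tt N47581 D84151) (tt N47023 (iv7 F128029)))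
theorem Q24867 : ∀ i, i < 24867 → P i := stepQ 24866 Q24866 (allL N24866 (tt N47582 D84152) (tt N47583 D84153) (tt N47580 (iv2 F129192)) (tt N12312 F59682) (tt N47584 D84154) (tt N12311 (iv5 D38789)) (tt N47585 D84155) (tt N47024 (iv7 F128034)))
theorem Q24868 : ∀ i, i < 24868 → P i := stepQ 24867 Q24867 (allL N24867 (tt N47586 D84156) (tt N47587 D84157) (tt N47581 (iv2 F129193)) (tt N12313 F59683) (tt N47576 (iv4 F129157)) (tt N47588 D84158) (tt N12311 (iv6 D38790)) (tt N47589 D84159))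
theorem Q24869 : ∀ i, i < 24869 → P i := stepQ 24868 Q24868 (allL N24868 (tt N47503 (iv1 F128914)) (tt N47501 (iv0 F128910)) (tt N47032 (iv2 F128064)) (tt N47590 D84160) (tt N12312 (iv4 D38791)) (tt N38619 F321097) (tt N47591 D84161) (tt N47025 (iv7 F128044)))
theorem Q24870 : ∀ i, i < 24870 → P i := stepQ 24869 Q24869 (allL N24869 (tt N42010 F343353) (tt N41953 F343354) (tt N42009 F330298) (tt N47585 (iv3 F129194)) (tt N47591 (iv4 F129198)) (tt N47592 D84164) (tt N12312 (iv6 D38792)) (tt N42008 (iv7 F330308)))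
theorem Q24871 : ∀ i, i < 24871 → P i := stepQ 24870 Q24870 (allL N24870 (tt N24857 (iv1 F59820)) (tt N12313 (iv0 D38793)) (tt N23651 (iv2 F300670)) (tt N47593 D84166) (tt N13986 F119016) (tt N44747 (iv5 F113316)) (tt N23646 F298406) (tt N46465 (iv7 F300668)))
theorem Q24872 : ∀ i, i < 24872 → P i := stepQ 24871 Q24871 (allL N24871 (tt N24467 (iv1 F118632)) (tt N24464 F59685) (tt N46472 F301509) (tt N47588 (iv3 F129195)) (tt N47594 D84167) (tt N12313 (iv5 D38795)) (tt N47592 (iv6 F129199)) (tt N46471 F301510))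
theorem Q24873 : ∀ i, i < 24873 → P i := stepQ 24872 Q24872 (allL N24872 (tt N46465 (iv1 F300665)) (tt N23651 (iv0 F300669)) (tt N24857 F59817) (tt N47589 (iv3 F129196)) (tt N12316 F59818) (tt N46471 (iv5 F301016)) (tt N24564 F59819) (tt N12313 (iv7 D38796)))
theorem Q24874 : ∀ i, i < 24874 → P i := stepQ 24873 Q24873 (allL N24873 (tt N47595 D84169) (tt N47596 D84170) (tt N38603 F317950) (tt N12314 (iv3 D38797)) (tt N45558 (iv4 F299931)) (tt N37763 (iv5 F319330)) (tt N24562 F59821) (tt N47027 (iv7 F128046)))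
theorem Q24875 : ∀ i, i < 24875 → P i := stepQ 24874 Q24874 (allL N24874 (tt N27986 F72457) (tt N38617 F317501) (tt N24844 (iv2 F298735)) (tt N37763 (iv3 F319329)) (tt N44806 F113536) (tt N12314 (iv5 D38798)) (tt N47597 D84173) (tt N38618 F317502))
theorem Q24876 : ∀ i, i < 24876 → P i := stepQ 24875 Q24875 (allL N24875 (tt N46220 F299613) (tt N46221 F299614) (tt N46780 (iv2 F126978)) (tt N47598 D84174) (tt N12317 (iv4 D38801)) (tt N47599 D84175) (tt N44834 (iv6 F113633)) (tt N12324 F59827))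
theorem Q24877 : ∀ i, i < 24877 → P i := stepQ 24876 Q24876 (allL N24876 (tt N43963 F314833) (tt N43946 (iv0 F317087)) (tt N43961 (iv2 F328524)) (tt N12318 (iv3 D38817)) (tt N46929 F300728) (tt N47600 D84186) (tt N47043 (iv6 F301368)) (tt N43962 F328141))
theorem Q24878 : ∀ i, i < 24878 → P i := stepQ 24877 Q24877 (allL N24877 (tt N46476 (iv1 F301022)) (tt N47601 D84189) (tt N46774 (iv2 F126934)) (tt N47600 (iv3 F129232)) (tt N47602 D84190) (tt N12318 (iv5 D38818)) (tt N47603 D84191) (tt N46775 (iv7 F126956)))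
theorem Q24879 : ∀ i, i < 24879 → P i := stepQ 24878 Q24878 (allL N24878 (tt N12319 (iv1 D38821)) (tt N12321 F59845) (tt N31839 F324538) (tt N12524 F117756) (tt N47604 D84193) (tt N23024 (iv5 F59847)) (tt N15553 F324539) (tt N24343 F117758))
theorem Q24880 : ∀ i, i < 24880 → P i := stepQ 24879 Q24879 (allL N24879 (tt N24004 F298082) (tt N47605 D84195) (tt N31865 F324880) (tt N27362 (iv3 F325905)) (tt N12319 (iv4 D38822)) (tt N47606 D84197) (tt N31863 (iv6 F325561)) (tt N46776 (iv7 F126960)))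
theorem Q24881 : ∀ i, i < 24881 → P i := stepQ 24880 Q24880 (allL N24880 (tt N46884 (iv1 F184758)) (tt N47177 (iv0 F184759)) (tt N47175 (iv2 F270139)) (tt N12320 (iv3 D38834)) (tt N47158 (iv4 F300343)) (tt N47607 D84212) (tt N23629 F298711) (tt N46773 (iv7 F126933)))
theorem Q24882 : ∀ i, i < 24882 → P i := stepQ 24881 Q24881 (allL N24881 (tt N47601 (iv1 F129237)) (tt N46476 (iv0 F301021)) (tt N46775 (iv2 F126955)) (tt N47607 (iv3 F129279)) (tt N14395 F327918) (tt N12320 (iv5 D38835)) (tt N47608 D84215) (tt N46774 (iv7 F126935)))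
theorem Q24883 : ∀ i, i < 24883 → P i := stepQ 24882 Q24882 (allL N24882 (tt N47605 (iv1 F129247)) (tt N24004 (iv0 F298012)) (tt N46776 (iv2 F126959)) (tt N31872 F325353) (tt N12321 (iv4 D38837)) (tt N47609 D84218) (tt N23719 F296592) (tt N31865 F325354))
theorem Q24884 : ∀ i, i < 24884 → P i := stepQ 24883 Q24883 (allL N24883 (tt N23984 F300738) (tt N27962 F126963) (tt N46777 (iv2 F126961)) (tt N27620 (iv3 F326743)) (tt N12322 (iv4 D38843)) (tt N27619 F325914) (tt N47610 D84228) (tt N28864 (iv7 F326742)))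
theorem Q24885 : ∀ i, i < 24885 → P i := stepQ 24884 Q24884 (allL N24884 (tt N31944 (iv1 F326427)) (tt N31909 F325272) (tt N31982 F326933) (tt N45978 (iv3 F298680)) (tt N47610 (iv4 F129300)) (tt N45963 F119992) (tt N12322 (iv6 D38844)) (tt N45978 (iv7 F120009)))
theorem Q24886 : ∀ i, i < 24886 → P i := stepQ 24885 Q24885 (allL N24885 (tt N31945 (iv1 F324839)) (tt N31912 (iv0 F324841)) (tt N44382 (iv2 F323841)) (tt N12323 (iv3 D38846)) (tt N20252 F323809) (tt N44723 F112985) (tt N44382 (iv6 F323842)) (tt N31983 (iv7 F323843)))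
theorem Q24887 : ∀ i, i < 24887 → P i := stepQ 24886 Q24886 (allL N24886 (tt N27962 (iv1 F121806)) (tt N23984 F300739) (tt N28864 (iv2 F326741)) (tt N47611 D84231) (tt N12323 (iv4 D38847)) (tt N27645 F325913) (tt N47234 (iv6 F128545)) (tt N46777 (iv7 F126962)))
theorem Q24888 : ∀ i, i < 24888 → P i := stepQ 24887 Q24887 (allL N24887 (tt N46780 (iv1 F126981)) (tt N12324 (iv0 D38849)) (tt N46221 (iv2 F299450)) (tt N47612 D84233) (tt N34731 F299348) (tt N47613 D84234) (tt N47614 D84235) (tt N46220 (iv7 F299455)))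
theorem Q24889 : ∀ i, i < 24889 → P i := stepQ 24888 Q24888 (allL N24888 (tt N12324 (iv1 D38850)) (tt N46780 F126980) (tt N46220 (iv2 F299453)) (tt N47615 D84236) (tt N34732 F299349) (tt N47616 D84237) (tt N45665 (iv6 F300463)) (tt N46221 (iv7 F299451)))
theorem Q24890 : ∀ i, i < 24890 → P i := stepQ 24889 Q24889 (allL N24889 (tt N47617 D84239) (tt N29389 (iv0 F335305)) (tt N47618 D84241) (tt N12324 (iv3 D38851)) (tt N12535 F59861) (tt N47619 D84242) (tt N12331 F59862) (tt N47598 (iv7 F129212)))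
theorem Q24891 : ∀ i, i < 24891 → P i := stepQ 24890 Q24890 (allL N24890 (tt N47620 D84243) (tt N47621 D84244) (tt N46779 (iv2 F126977)) (tt N47619 (iv3 F129303)) (tt N47622 D84245) (tt N12324 (iv5 D38852)) (tt N47623 D84246) (tt N47599 (iv7 F129213)))
theorem Q24892 : ∀ i, i < 24892 → P i := stepQ 24891 Q24891 (allL N24891 (tt N15530 F326966) (tt N12325 (iv0 D38853)) (tt N22935 (iv2 F59864)) (tt N12541 (iv3 F59867)) (tt N45406 (iv4 F115749)) (tt N12571 F59863) (tt N45964 (iv6 F296213)) (tt N22917 F59866))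
theorem Q24893 : ∀ i, i < 24893 → P i := stepQ 24892 Q24892 (allL N24892 (tt N17502 F59870) (tt N23716 F59871) (tt N23719 F59868) (tt N47624 D84248) (tt N12325 (iv4 D38854)) (tt N45474 (iv5 F115969)) (tt N46776 (iv6 F296607)) (tt N23720 F59869))
theorem Q24894 : ∀ i, i < 24894 → P i := stepQ 24893 Q24893 (allL N24893 (tt N12327 (iv1 F59875)) (tt N12326 (iv0 D38856)) (tt N22944 (iv2 F59876)) (tt N47625 D84250) (tt N12941 F59874) (tt N28138 F292606) (tt N47626 D84252) (tt N22945 (iv7 F59877)))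
theorem Q24895 : ∀ i, i < 24895 → P i := stepQ 24894 Q24894 (allL N24894 (tt N12326 (iv1 D38857)) (tt N12327 F59878) (tt N22945 (iv2 F59881)) (tt N47627 D84253) (tt N12940 F59880) (tt N47628 D84254) (tt N23716 (iv6 F295967)) (tt N22944 F59879))
theorem Q24896 : ∀ i, i < 24896 → P i := stepQ 24895 Q24895 (allL N24895 (tt N47629 D84256) (tt N47630 D84257) (tt N47631 D84258) (tt N12326 (iv3 D38858)) (tt N47624 (iv4 F129308)) (tt N47632 D84259) (tt N46941 (iv6 F127834)) (tt N44847 (iv7 F113671)))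
theorem Q24897 : ∀ i, i < 24897 → P i := stepQ 24896 Q24896 (allL N24896 (tt N44691 (iv1 F112882)) (tt N27964 (iv0 F72390)) (tt N22947 F59882) (tt N47632 (iv3 F129333)) (tt N13617 (iv4 F291763)) (tt N12326 (iv5 D38859)) (tt N47633 D84260) (tt N44848 (iv7 F113674)))
theorem Q24898 : ∀ i, i < 24898 → P i := stepQ 24897 Q24897 (allL N24897 (tt N27964 (iv1 F72391)) (tt N44691 (iv0 F112881)) (tt N44848 (iv2 F113672)) (tt N31820 (iv3 F327199)) (tt N13614 (iv4 F291759)) (tt N12327 (iv5 D38864)) (tt N47634 D84272) (tt N22947 F59892))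
theorem Q24899 : ∀ i, i < 24899 → P i := stepQ 24898 Q24898 (allL N24898 (tt N44698 (iv1 F112888)) (tt N44697 F112887) (tt N27255 F292774) (tt N31935 F326180) (tt N14491 F59896) (tt N12328 (iv5 D38869)) (tt N47635 D84285) (tt N27252 F292775))
theorem Q24900 : ∀ i, i < 24900 → P i := stepQ 24899 Q24899 (allL N24899 (tt N47636 D84299) (tt N47637 D84300) (tt N47638 D84301) (tt N12329 (iv3 D38874)) (tt N46708 (iv4 F126254)) (tt N47639 D84302) (tt N47640 D84303) (tt N44849 (iv7 F113693)))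
theorem Q24901 : ∀ i, i < 24901 → P i := stepQ 24900 Q24900 (allL N24900 (tt N26774 (iv1 F67640)) (tt N23815 F59904) (tt N27257 (iv2 F291532)) (tt N47639 (iv3 F129373)) (tt N14488 F59903) (tt N12329 (iv5 D38875)) (tt N47641 D84304) (tt N27258 (iv7 F291530)))
theorem Q24902 : ∀ i, i < 24902 → P i := stepQ 24901 Q24901 (allL N24901 (tt N24629 (iv1 F119074)) (tt N24631 F119073) (tt N44851 (iv2 F113707)) (tt N47640 (iv3 F129374)) (tt N12937 F59905) (tt N47642 D84305) (tt N12329 (iv6 D38876)) (tt N47643 D84306))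
theorem Q24903 : ∀ i, i < 24903 → P i := stepQ 24902 Q24902 (allL N24902 (tt N47644 D84307) (tt N47645 D84308) (tt N47646 D84309) (tt N12330 (iv3 D38877)) (tt N46286 (iv4 F122696)) (tt N47647 D84310) (tt N39232 F326186) (tt N44850 (iv7 F113701)))
theorem Q24904 : ∀ i, i < 24904 → P i := stepQ 24903 Q24903 (allL N24903 (tt N23815 F59907) (tt N26774 (iv0 F67639)) (tt N27258 (iv2 F291528)) (tt N47647 (iv3 F129382)) (tt N12946 F59906) (tt N12330 (iv5 D38878)) (tt N47648 D84312) (tt N27257 (iv7 F291534)))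
theorem Q24905 : ∀ i, i < 24905 → P i := stepQ 24904 Q24904 (allL N24904 (tt N31941 F323999) (tt N31943 (iv0 F324510)) (tt N31214 (iv2 F324511)) (tt N39232 (iv3 F325267)) (tt N26768 (iv4 F67594)) (tt N47649 D84315) (tt N12330 (iv6 D38879)) (tt N47650 D84316))
theorem Q24906 : ∀ i, i < 24906 → P i := stepQ 24905 Q24905 (allL N24905 (tt N44854 (iv1 F113712)) (tt N12331 (iv0 D38880)) (tt N44853 F254222) (tt N47651 D84318) (tt N47652 D84319) (tt N47653 D84320) (tt N47654 D84321) (tt N44852 (iv7 F254225)))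
theorem Q24907 : ∀ i, i < 24907 → P i := stepQ 24906 Q24906 (allL N24906 (tt N12331 (iv1 D38881)) (tt N44854 F113714) (tt N44852 (iv2 F254224)) (tt N47655 D84323) (tt N45485 (iv4 F116019)) (tt N47656 D84324) (tt N47657 D84325) (tt N44853 F254223))
theorem Q24908 : ∀ i, i < 24908 → P i := stepQ 24907 Q24907 (allL N24907 (tt N44853 (iv1 F113713)) (tt N44852 F113709) (tt N12331 (iv2 D38882)) (tt N46783 (iv3 F126983)) (tt N12558 F59908) (tt N47658 D84326) (tt N47618 (iv6 F129302)) (tt N44854 (iv7 F113711)))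
theorem Q24909 : ∀ i, i < 24909 → P i := stepQ 24908 Q24908 (allL N24908 (tt N47659 D84327) (tt N47660 D84328) (tt N47658 (iv2 F129389)) (tt N12332 F59909) (tt N47661 D84329) (tt N12331 (iv5 D38883)) (tt N47662 D84330) (tt N44855 (iv7 F113716)))
theorem Q24910 : ∀ i, i < 24910 → P i := stepQ 24909 Q24909 (allL N24909 (tt N14498 (iv1 F59911)) (tt N12332 (iv0 D38884)) (tt N26009 (iv2 F63884)) (tt N47663 D84331) (tt N13628 F291043) (tt N14482 F59910) (tt N47664 D84332) (tt N26018 (iv7 F63899)))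
theorem Q24911 : ∀ i, i < 24911 → P i := stepQ 24910 Q24910 (allL N24910 (tt N12332 (iv1 D38885)) (tt N14498 F59913) (tt N26018 (iv2 F63898)) (tt N47665 D84333) (tt N13624 F291041) (tt N14484 F59914) (tt N47666 D84334) (tt N26009 (iv7 F63885)))
theorem Q24912 : ∀ i, i < 24912 → P i := stepQ 24911 Q24911 (allL N24911 (tt N13617 F292602) (tt N13614 F292603) (tt N13091 F59916) (tt N47667 D84335) (tt N12332 (iv4 D38886)) (tt N12916 F59917) (tt N47668 D84336) (tt N13931 F59918))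
theorem Q24913 : ∀ i, i < 24913 → P i := stepQ 24912 Q24912 (allL N24912 (tt N47669 D84337) (tt N47670 D84338) (tt N46785 (iv2 F126986)) (tt N47662 (iv3 F129390)) (tt N47668 (iv4 F129398)) (tt N47623 (iv5 F129304)) (tt N12332 (iv6 D38887)) (tt N47671 D84339))
theorem Q24914 : ∀ i, i < 24914 → P i := stepQ 24913 Q24913 (allL N24913 (tt N33813 (iv1 F85709)) (tt N12333 (iv0 D38888)) (tt N28283 (iv2 F74239)) (tt N47672 D84340) (tt N24783 F59921) (tt N27850 (iv5 F74238)) (tt N47673 D84341) (tt N28286 (iv7 F74234)))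
theorem Q24915 : ∀ i, i < 24915 → P i := stepQ 24914 Q24914 (allL N24914 (tt N12333 (iv1 D38889)) (tt N33813 (iv0 F85708)) (tt N28286 (iv2 F74241)) (tt N38335 F306829) (tt N24782 (iv4 F59922)) (tt N27851 (iv5 F72119)) (tt N15241 (iv6 F308660)) (tt N28283 (iv7 F74230)))
theorem Q24916 : ∀ i, i < 24916 → P i := stepQ 24915 Q24915 (allL N24915 (tt N47674 D84344) (tt N47675 D84345) (tt N33860 (iv2 F85925)) (tt N12334 F59923) (tt N35246 (iv4 F91688)) (tt N47676 D84346) (tt N12333 (iv6 D38890)) (tt N47677 D84347))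
theorem Q24917 : ∀ i, i < 24917 → P i := stepQ 24916 Q24916 (allL N24916 (tt N12349 F59925) (tt N12334 (iv0 D38891)) (tt N12346 F89174) (tt N40602 F322809) (tt N17472 F59924) (tt N40596 F322810) (tt N34757 (iv6 F297930)) (tt N12347 F89175))
theorem Q24918 : ∀ i, i < 24918 → P i := stepQ 24917 Q24917 (allL N24917 (tt N12334 (iv1 D38892)) (tt N12349 F59926) (tt N12347 F89176) (tt N47111 (iv3 F128304)) (tt N23675 F297600) (tt N47678 D84350) (tt N23673 (iv6 F297722)) (tt N12346 F89177))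
theorem Q24919 : ∀ i, i < 24919 → P i := stepQ 24918 Q24918 (allL N24918 (tt N46459 (iv1 F297849)) (tt N46449 F297601) (tt N12348 F59927) (tt N47676 (iv3 F129405)) (tt N47679 D84354) (tt N12334 (iv5 D38893)) (tt N29263 (iv6 F75491)) (tt N46457 (iv7 F297848)))
theorem Q24920 : ∀ i, i < 24920 → P i := stepQ 24919 Q24919 (allL N24919 (tt N12347 (iv1 F59930)) (tt N12346 F59931) (tt N12349 F59928) (tt N47677 (iv3 F129406)) (tt N12338 F59929) (tt N46457 (iv5 F297847)) (tt N35204 F297602) (tt N12334 (iv7 D38894)))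
theorem Q24921 : ∀ i, i < 24921 → P i := stepQ 24920 Q24920 (allL N24920 (tt N45735 (iv1 F297768)) (tt N27282 (iv0 F121264)) (tt N12351 F116869) (tt N47680 D84356) (tt N12335 (iv4 D38897)) (tt N33373 F322073) (tt N24331 F59935) (tt N12355 F116870))
theorem Q24922 : ∀ i, i < 24922 → P i := stepQ 24921 Q24921 (allL N24921 (tt N34577 F116840) (tt N41587 (iv0 F325657)) (tt N12352 F116871) (tt N34952 F121532) (tt N47681 D84359) (tt N12335 (iv5 D38898)) (tt N24332 F59936) (tt N12356 F116872))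
theorem Q24923 : ∀ i, i < 24923 → P i := stepQ 24922 Q24922 (allL N24922 (tt N27282 (iv1 F121265)) (tt N45735 (iv0 F297767)) (tt N12355 F116883) (tt N45603 (iv3 F117123)) (tt N12336 (iv4 D38900)) (tt N39994 F321157) (tt N25409 (iv6 F297727)) (tt N12351 F116884))
theorem Q24924 : ∀ i, i < 24924 → P i := stepQ 24923 Q24923 (allL N24923 (tt N12360 (iv1 F59947)) (tt N12337 (iv0 D38903)) (tt N12357 F116995) (tt N24286 (iv3 F296377)) (tt N47682 D84363) (tt N24275 (iv5 F296395)) (tt N17880 F59940) (tt N12358 F116996))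
theorem Q24925 : ∀ i, i < 24925 → P i := stepQ 24924 Q24924 (allL N24924 (tt N12337 (iv1 D38904)) (tt N12360 F59941) (tt N12358 F116993) (tt N15985 F325381) (tt N47683 D84365) (tt N13855 (iv5 F59942)) (tt N23943 (iv6 F296301)) (tt N12357 F116994))
theorem Q24926 : ∀ i, i < 24926 → P i := stepQ 24925 Q24925 (allL N24925 (tt N46298 (iv1 F296388)) (tt N46283 (iv0 F296390)) (tt N12359 F59943) (tt N47684 D84369) (tt N12337 (iv4 D38905)) (tt N47685 D84370) (tt N22897 F59944) (tt N35790 F325217))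
theorem Q24927 : ∀ i, i < 24927 → P i := stepQ 24926 Q24926 (allL N24926 (tt N27586 (iv1 F70564)) (tt N12339 (iv0 D38907)) (tt N27585 (iv2 F126885)) (tt N42701 F106900) (tt N47686 D84373) (tt N47687 D84374) (tt N47688 D84375) (tt N27584 F126886))
theorem Q24928 : ∀ i, i < 24928 → P i := stepQ 24927 Q24927 (allL N24927 (tt N12339 (iv1 D38908)) (tt N27586 F70566) (tt N27584 F126884) (tt N47689 D84376) (tt N24532 (iv4 F59950)) (tt N47690 D84377) (tt N47691 D84378) (tt N27585 (iv7 F126883)))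
theorem Q24929 : ∀ i, i < 24929 → P i := stepQ 24928 Q24928 (allL N24928 (tt N27585 (iv1 F70565)) (tt N27584 F70560) (tt N12339 (iv2 D38909)) (tt N27631 (iv3 F70695)) (tt N27957 (iv4 F72363)) (tt N46606 (iv5 F125620)) (tt N47692 D84379) (tt N27586 (iv7 F70563)))
theorem Q24930 : ∀ i, i < 24930 → P i := stepQ 24929 Q24929 (allL N24929 (tt N47693 D84380) (tt N47694 D84381) (tt N47692 (iv2 F129503)) (tt N12340 F59951) (tt N27959 (iv4 F72372)) (tt N47695 D84382) (tt N12339 (iv6 D38910)) (tt N47696 D84383))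
theorem Q24931 : ∀ i, i < 24931 → P i := stepQ 24930 Q24930 (allL N24930 (tt N47697 D84384) (tt N44906 (iv0 F113887)) (tt N23961 F298440) (tt N47695 (iv3 F129504)) (tt N47698 D84385) (tt N12340 (iv5 D38913)) (tt N46610 (iv6 F125623)) (tt N47699 D84386))
theorem Q24932 : ∀ i, i < 24932 → P i := stepQ 24931 Q24931 (allL N24931 (tt N12619 F297800) (tt N12521 (iv0 F121722)) (tt N17576 F297801) (tt N47696 (iv3 F129505)) (tt N12611 F297802) (tt N47699 (iv5 F129507)) (tt N12478 F59953) (tt N12340 (iv7 D38914)))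
theorem Q24933 : ∀ i, i < 24933 → P i := stepQ 24932 Q24932 (allL N24932 (tt N27631 (iv1 F70698)) (tt N12341 (iv0 D38915)) (tt N27630 (iv2 F129516)) (tt N47700 D84388) (tt N47701 D84389) (tt N47702 D84390) (tt N47703 D84391) (tt N27629 F129514))
theorem Q24934 : ∀ i, i < 24934 → P i := stepQ 24933 Q24933 (allL N24933 (tt N12341 (iv1 D38916)) (tt N27631 F70700) (tt N27629 (iv2 F129515)) (tt N37368 F308096) (tt N47704 D84393) (tt N47705 D84394) (tt N29801 (iv6 F301070)) (tt N27630 (iv7 F129517)))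
theorem Q24935 : ∀ i, i < 24935 → P i := stepQ 24934 Q24934 (allL N24934 (tt N27630 (iv1 F70699)) (tt N27629 F70694) (tt N12341 (iv2 D38917)) (tt N27586 (iv3 F70561)) (tt N23921 F59954) (tt N29584 (iv5 F76764)) (tt N19055 F309680) (tt N27631 (iv7 F70697)))
theorem Q24936 : ∀ i, i < 24936 → P i := stepQ 24935 Q24935 (allL N24935 (tt N47687 F129492) (tt N47690 (iv0 F129499)) (tt N47706 D84402) (tt N12343 (iv3 D38920)) (tt N45284 F115019) (tt N13847 F59957) (tt N36596 (iv6 F315992)) (tt N24290 F59958))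
theorem Q24937 : ∀ i, i < 24937 → P i := stepQ 24936 Q24936 (allL N24936 (tt N47702 (iv1 F129522)) (tt N47705 (iv0 F129533)) (tt N29591 (iv2 F76774)) (tt N12344 (iv3 D38922)) (tt N16527 F59961) (tt N13849 F59962) (tt N47707 D84408) (tt N24297 F59963))
theorem Q24938 : ∀ i, i < 24938 → P i := stepQ 24937 Q24937 (allL N24937 (tt N20926 (iv1 F314767)) (tt N47708 D84410) (tt N24292 F59964) (tt N47707 (iv3 F129554)) (tt N13864 F59965) (tt N47709 D84411) (tt N12344 (iv6 D38923)) (tt N36610 (iv7 F314768)))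
theorem Q24939 : ∀ i, i < 24939 → P i := stepQ 24938 Q24938 (allL N24938 (tt N29264 (iv1 F75497)) (tt N12345 (iv0 D38924)) (tt N29261 F311190) (tt N47710 D84414) (tt N47711 D84415) (tt N47712 D84416) (tt N41659 F307167) (tt N29262 (iv7 F313509)))
theorem Q24940 : ∀ i, i < 24940 → P i := stepQ 24939 Q24939 (allL N24939 (tt N12345 (iv1 D38925)) (tt N29264 F75496) (tt N29262 (iv2 F313508)) (tt N47713 D84419) (tt N47714 D84420) (tt N47715 D84421) (tt N47716 D84422) (tt N29261 F311196))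
theorem Q24941 : ∀ i, i < 24941 → P i := stepQ 24940 Q24940 (allL N24940 (tt N47717 D84423) (tt N40253 F330067) (tt N29263 (iv2 F75490)) (tt N42651 (iv3 F106716)) (tt N47718 D84425) (tt N12345 (iv5 D38926)) (tt N12348 F59966) (tt N47719 D84426))
theorem Q24942 : ∀ i, i < 24942 → P i := stepQ 24941 Q24941 (allL N24941 (tt N29262 (iv1 F75489)) (tt N29261 F75495) (tt N29264 (iv2 F75492)) (tt N33579 F313313) (tt N29225 (iv4 F75367)) (tt N47719 (iv5 F129568)) (tt N33577 (iv6 F315751)) (tt N12345 (iv7 D38927)))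
theorem Q24943 : ∀ i, i < 24943 → P i := stepQ 24942 Q24942 (allL N24942 (tt N47720 D84427) (tt N47691 F333732) (tt N47721 D84429) (tt N12346 (iv3 D38929)) (tt N46912 (iv4 F127690)) (tt N47722 D84430) (tt N47723 D84431) (tt N47111 (iv7 F128305)))
theorem Q24944 : ∀ i, i < 24944 → P i := stepQ 24943 Q24943 (allL N24943 (tt N23683 (iv1 F296512)) (tt N13635 F121261) (tt N17472 F89178) (tt N12935 F119071) (tt N12346 (iv4 D38930)) (tt N47724 D84432) (tt N25381 (iv6 F297151)) (tt N23675 (iv7 F296870)))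
theorem Q24945 : ∀ i, i < 24945 → P i := stepQ 24944 Q24944 (allL N24944 (tt N47725 D84434) (tt N47726 D84435) (tt N40596 F321209) (tt N47722 (iv3 F129569)) (tt N47727 D84436) (tt N12346 (iv5 D38931)) (tt N40595 F321210) (tt N47678 (iv7 F129412)))
theorem Q24946 : ∀ i, i < 24946 → P i := stepQ 24945 Q24945 (allL N24945 (tt N35495 (iv1 F125442)) (tt N25195 (iv0 F125441)) (tt N34757 F299195) (tt N47723 (iv3 F129570)) (tt N25381 F299196) (tt N46562 F125439) (tt N12346 (iv6 D38932)) (tt N35496 F125451))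
theorem Q24947 : ∀ i, i < 24947 → P i := stepQ 24946 Q24946 (allL N24946 (tt N47703 F310188) (tt N47728 D84439) (tt N47729 D84440) (tt N12347 (iv3 D38934)) (tt N23687 (iv4 F302572)) (tt N39941 F319896) (tt N23677 (iv6 F300063)) (tt N40602 F321891))
theorem Q24948 : ∀ i, i < 24948 → P i := stepQ 24947 Q24947 (allL N24947 (tt N47726 (iv1 F129581)) (tt N47725 F129580) (tt N47678 (iv2 F129411)) (tt N39941 (iv3 F317704)) (tt N47730 D84446) (tt N12347 (iv5 D38936)) (tt N36619 F315482) (tt N40596 F321889))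
theorem Q24949 : ∀ i, i < 24949 → P i := stepQ 24948 Q24948 (allL N24948 (tt N46457 F299123) (tt N12348 (iv0 D38938)) (tt N46459 F299124) (tt N47731 D84452) (tt N47732 D84453) (tt N46450 F299125) (tt N18604 (iv6 F311408)) (tt N46449 F299126))
theorem Q24950 : ∀ i, i < 24950 → P i := stepQ 24949 Q24949 (allL N24949 (tt N43599 F312884) (tt N47733 D84460) (tt N47679 (iv2 F129417)) (tt N47734 D84461) (tt N12348 (iv4 D38940)) (tt N47735 D84462) (tt N47718 (iv6 F129567)) (tt N47736 D84463))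
theorem Q24951 : ∀ i, i < 24951 → P i := stepQ 24950 Q24950 (allL N24950 (tt N46449 F299117) (tt N46459 F299118) (tt N46457 F299119) (tt N22574 F309180) (tt N47736 (iv4 F129598)) (tt N12349 F59970) (tt N47737 D84464) (tt N12348 (iv7 D38941)))
theorem Q24952 : ∀ i, i < 24952 → P i := stepQ 24951 Q24951 (allL N24951 (tt N12355 (iv1 F59989)) (tt N12351 (iv0 D38954)) (tt N45735 (iv2 F297769)) (tt N33462 F314870) (tt N25474 F297480) (tt N43405 (iv5 F310143)) (tt N25472 F297481) (tt N27282 (iv7 F121266)))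
theorem Q24953 : ∀ i, i < 24953 → P i := stepQ 24952 Q24952 (allL N24952 (tt N47738 D84469) (tt N34219 F316597) (tt N47739 D84471) (tt N12351 (iv3 D38956)) (tt N45534 (iv4 F116297)) (tt N40853 F322337) (tt N47740 D84473) (tt N45603 (iv7 F117124)))
theorem Q24954 : ∀ i, i < 24954 → P i := stepQ 24953 Q24953 (allL N24953 (tt N19440 F311955) (tt N25471 F299986) (tt N24331 F117044) (tt N47740 (iv3 F129600)) (tt N12353 F59986) (tt N40858 F321825) (tt N12351 (iv6 D38958)) (tt N24324 (iv7 F117049)))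
theorem Q24955 : ∀ i, i < 24955 → P i := stepQ 24954 Q24954 (allL N24954 (tt N12356 (iv1 F59994)) (tt N12352 (iv0 D38960)) (tt N34577 (iv2 F116838)) (tt N23406 (iv3 F299839)) (tt N47741 D84480) (tt N23404 F297675) (tt N27719 (iv6 F71191)) (tt N41587 F326487))
theorem Q24956 : ∀ i, i < 24956 → P i := stepQ 24955 Q24955 (allL N24955 (tt N12352 (iv1 D38961)) (tt N12356 F59990) (tt N41587 F326478) (tt N12364 F116835) (tt N47742 D84481) (tt N27748 (iv5 F71342)) (tt N34682 F116836) (tt N34577 F116837))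
theorem Q24957 : ∀ i, i < 24957 → P i := stepQ 24956 Q24956 (allL N24956 (tt N46460 F300170) (tt N46463 F300171) (tt N47681 (iv2 F129435)) (tt N41520 F325923) (tt N12352 (iv4 D38962)) (tt N47743 D84485) (tt N47744 D84486) (tt N41518 F325924))
theorem Q24958 : ∀ i, i < 24958 → P i := stepQ 24957 Q24957 (allL N24957 (tt N25510 F297386) (tt N12522 (iv0 F126039)) (tt N24332 (iv2 F116931)) (tt N15556 F325178) (tt N47744 (iv4 F129613)) (tt N23089 F116804) (tt N12352 (iv6 D38963)) (tt N31308 F325179))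
theorem Q24959 : ∀ i, i < 24959 → P i := stepQ 24958 Q24958 (allL N24958 (tt N25391 (iv1 F118776)) (tt N25411 (iv0 F118806)) (tt N25409 (iv2 F119013)) (tt N22861 (iv3 F309670)) (tt N12354 (iv4 D38972)) (tt N22859 (iv5 F309753)) (tt N12355 F299064) (tt N25408 (iv7 F119068)))
theorem Q24960 : ∀ i, i < 24960 → P i := stepQ 24959 Q24959 (allL N24959 (tt N23424 F297631) (tt N27719 (iv0 F298600)) (tt N31301 F325173) (tt N12356 F60001) (tt N47745 D84492) (tt N12354 (iv5 D38973)) (tt N31300 F325174) (tt N34952 (iv7 F121531)))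
theorem Q24961 : ∀ i, i < 24961 → P i := stepQ 24960 Q24960 (allL N24960 (tt N46552 (iv1 F129628)) (tt N47746 D84499) (tt N47747 D84500) (tt N12355 (iv3 D38975)) (tt N22861 (iv4 F309671)) (tt N47748 D84501) (tt N22861 (iv6 F309672)) (tt N47680 (iv7 F129427)))
theorem Q24962 : ∀ i, i < 24962 → P i := stepQ 24961 Q24961 (allL N24961 (tt N40859 F322074) (tt N33458 (iv0 F320482)) (tt N39994 (iv2 F319068)) (tt N47748 (iv3 F129632)) (tt N47749 D84503) (tt N12355 (iv5 D38976)) (tt N22722 F316709) (tt N33373 F322075))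
theorem Q24963 : ∀ i, i < 24963 → P i := stepQ 24962 Q24962 (allL N24962 (tt N46463 F300168) (tt N46460 F300169) (tt N41518 (iv2 F325656)) (tt N47750 D84508) (tt N12356 (iv4 D38978)) (tt N47751 D84509) (tt N41523 F325290) (tt N47681 (iv7 F129437)))
theorem Q24964 : ∀ i, i < 24964 → P i := stepQ 24963 Q24963 (allL N24963 (tt N35716 F326456) (tt N47752 D84515) (tt N47682 (iv2 F129446)) (tt N35672 F326939) (tt N12357 (iv4 D38986)) (tt N47753 D84517) (tt N47754 D84518) (tt N47683 (iv7 F129456)))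
theorem Q24965 : ∀ i, i < 24965 → P i := stepQ 24964 Q24964 (allL N24964 (tt N24274 (iv1 F297672)) (tt N17434 F116997) (tt N24275 F297494) (tt N24477 F297495) (tt N37442 F308523) (tt N12357 (iv5 D38987)) (tt N23087 F116991) (tt N13855 F116992))
theorem Q24966 : ∀ i, i < 24966 → P i := stepQ 24965 Q24965 (allL N24965 (tt N47755 D84521) (tt N25038 (iv0 F117025)) (tt N17880 F116954) (tt N24648 F118437) (tt N47754 (iv4 F129668)) (tt N17870 F60006) (tt N12357 (iv6 D38988)) (tt N17878 F116955))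
theorem Q24967 : ∀ i, i < 24967 → P i := stepQ 24966 Q24966 (allL N24966 (tt N47752 (iv1 F129662)) (tt N35716 F326455) (tt N47683 (iv2 F129455)) (tt N47756 D84524) (tt N12358 (iv4 D38991)) (tt N47757 D84525) (tt N45490 F297279) (tt N47682 (iv7 F129448)))
theorem Q24968 : ∀ i, i < 24968 → P i := stepQ 24967 Q24967 (allL N24967 (tt N13336 F296064) (tt N13133 F296065) (tt N23943 (iv2 F296300)) (tt N12575 F296066) (tt N45490 (iv4 F296281)) (tt N12574 F296067) (tt N12358 (iv6 D38993)) (tt N13828 F296068))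
theorem Q24969 : ∀ i, i < 24969 → P i := stepQ 24968 Q24968 (allL N24968 (tt N35790 F325210) (tt N12359 (iv0 D38994)) (tt N46298 (iv2 F296389)) (tt N47758 D84531) (tt N46285 F296364) (tt N47759 D84533) (tt N47760 D84534) (tt N46283 (iv7 F296391)))
theorem Q24970 : ∀ i, i < 24970 → P i := stepQ 24969 Q24969 (allL N24969 (tt N47761 D84538) (tt N47762 D84539) (tt N47763 D84540) (tt N12359 (iv3 D38996)) (tt N12376 F60009) (tt N47764 D84541) (tt N22904 F60010) (tt N47765 D84542))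
theorem Q24971 : ∀ i, i < 24971 → P i := stepQ 24970 Q24970 (allL N24970 (tt N47766 D84543) (tt N47767 D84544) (tt N47685 (iv2 F129471)) (tt N47764 (iv3 F129711)) (tt N47768 D84545) (tt N12359 (iv5 D38997)) (tt N47769 D84546) (tt N47770 D84547))
theorem Q24972 : ∀ i, i < 24972 → P i := stepQ 24971 Q24971 (allL N24971 (tt N46283 F297489) (tt N46298 F297490) (tt N35790 (iv2 F323929)) (tt N47765 (iv3 F129712)) (tt N12360 F60011) (tt N47770 (iv5 F129715)) (tt N35785 F322496) (tt N12359 (iv7 D38998)))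
theorem Q24973 : ∀ i, i < 24973 → P i := stepQ 24972 Q24972 (allL N24972 (tt N46730 F303599) (tt N46732 F303600) (tt N34983 F121562) (tt N43713 (iv3 F190621)) (tt N47771 D84553) (tt N12361 (iv5 D39015)) (tt N47772 D84554) (tt N34986 (iv7 F121101)))
theorem Q24974 : ∀ i, i < 24974 → P i := stepQ 24973 Q24973 (allL N24973 (tt N34940 (iv1 F123544)) (tt N35165 F123545) (tt N34984 F121087) (tt N43714 (iv3 F190623)) (tt N12363 F60026) (tt N47773 D84555) (tt N12361 (iv6 D39016)) (tt N24336 (iv7 F60027)))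
theorem Q24975 : ∀ i, i < 24975 → P i := stepQ 24974 Q24974 (allL N24974 (tt N47774 D84559) (tt N47775 D84560) (tt N34985 F121561) (tt N47776 D84561) (tt N12362 (iv4 D39019)) (tt N31703 F341341) (tt N47777 D84563) (tt N34987 (iv7 F121102)))
theorem Q24976 : ∀ i, i < 24976 → P i := stepQ 24975 Q24975 (allL N24975 (tt N12383 F297501) (tt N12398 (iv0 F298655)) (tt N12396 (iv2 F298653)) (tt N12366 F60028) (tt N47777 (iv4 F129725)) (tt N17629 (iv5 F299674)) (tt N12362 (iv6 D39020)) (tt N12395 (iv7 F298651)))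
theorem Q24977 : ∀ i, i < 24977 → P i := stepQ 24976 Q24976 (allL N24976 (tt N17488 F60034) (tt N17493 F60035) (tt N23667 F60032) (tt N47778 D84564) (tt N12364 (iv4 D39024)) (tt N45754 (iv5 F119589)) (tt N23748 (iv6 F114146)) (tt N23666 F60033))
theorem Q24978 : ∀ i, i < 24978 → P i := stepQ 24977 Q24977 (allL N24977 (tt N47779 D84565) (tt N47780 D84566) (tt N47781 D84567) (tt N12365 (iv3 D39025)) (tt N47776 (iv4 F129724)) (tt N45781 (iv5 F119633)) (tt N46147 F306736) (tt N35277 (iv7 F91860)))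
theorem Q24979 : ∀ i, i < 24979 → P i := stepQ 24978 Q24978 (allL N24978 (tt N47782 D84570) (tt N47783 D84571) (tt N47784 D84572) (tt N12367 (iv3 D39052)) (tt N47138 (iv4 F128344)) (tt N45783 (iv5 F119634)) (tt N45928 (iv6 F119859)) (tt N35276 (iv7 F91827)))
theorem Q24980 : ∀ i, i < 24980 → P i := stepQ 24979 Q24979 (allL N24979 (tt N12526 F60052) (tt N26767 (iv0 F67526)) (tt N35278 (iv2 F91861)) (tt N15527 (iv3 F323895)) (tt N31341 F322487) (tt N12368 (iv5 D39053)) (tt N12370 F60050) (tt N12406 F60051))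
theorem Q24981 : ∀ i, i < 24981 → P i := stepQ 24980 Q24980 (allL N24980 (tt N23488 F60055) (tt N23485 F60056) (tt N35279 (iv2 F91869)) (tt N47785 D84573) (tt N12370 (iv4 D39055)) (tt N36966 F315532) (tt N31341 F323122) (tt N34745 F88973))
theorem Q24982 : ∀ i, i < 24982 → P i := stepQ 24981 Q24981 (allL N24981 (tt N31704 (iv1 F341305)) (tt N45373 (iv0 F120874)) (tt N34990 F121568) (tt N45763 (iv3 F119606)) (tt N12372 (iv4 D39059)) (tt N47786 D84576) (tt N25042 (iv6 F60202)) (tt N24384 F300470))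
theorem Q24983 : ∀ i, i < 24983 → P i := stepQ 24982 Q24982 (allL N24982 (tt N47787 D84579) (tt N46306 F338321) (tt N47788 D84581) (tt N12374 (iv3 D39066)) (tt N47789 D84582) (tt N47790 D84583) (tt N34739 (iv6 F88942)) (tt N23701 F60063))
theorem Q24984 : ∀ i, i < 24984 → P i := stepQ 24983 Q24983 (allL N24983 (tt N45708 (iv1 F119464)) (tt N45706 (iv0 F119459)) (tt N23698 F60064) (tt N47790 (iv3 F129751)) (tt N17953 (iv4 F311390)) (tt N12374 (iv5 D39067)) (tt N17952 (iv6 F313768)) (tt N23702 F60065))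
theorem Q24985 : ∀ i, i < 24985 → P i := stepQ 24984 Q24984 (allL N24984 (tt N42136 (iv1 F333960)) (tt N42050 (iv0 F333961)) (tt N42134 F336330) (tt N12375 (iv3 D39068)) (tt N47791 D84588) (tt N47792 D84589) (tt N23916 F302575) (tt N23697 F60066))
theorem Q24986 : ∀ i, i < 24986 → P i := stepQ 24985 Q24985 (allL N24985 (tt N45706 (iv1 F119460)) (tt N45708 (iv0 F119463)) (tt N23702 F60067) (tt N47792 (iv3 F129762)) (tt N25178 (iv4 F311391)) (tt N12375 (iv5 D39069)) (tt N38254 F321982) (tt N23698 F60068))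
theorem Q24987 : ∀ i, i < 24987 → P i := stepQ 24986 Q24986 (allL N24986 (tt N47793 D84593) (tt N12376 (iv0 D39071)) (tt N47794 D84594) (tt N47795 D84595) (tt N47796 D84596) (tt N47797 D84597) (tt N47798 D84598) (tt N47799 D84599))
theorem Q24988 : ∀ i, i < 24988 → P i := stepQ 24987 Q24987 (allL N24987 (tt N12376 (iv1 D39072)) (tt N47793 F129771) (tt N47799 (iv2 F129773)) (tt N47800 D84600) (tt N47801 D84601) (tt N47802 D84602) (tt N47803 D84603) (tt N47794 F129772))
theorem Q24989 : ∀ i, i < 24989 → P i := stepQ 24988 Q24988 (allL N24988 (tt N47794 (iv1 F334653)) (tt N47799 (iv0 F334654)) (tt N12376 (iv2 D39073)) (tt N35283 (iv3 F91890)) (tt N47763 (iv4 F129709)) (tt N47804 D84606) (tt N22908 F60071) (tt N47793 (iv7 F129770)))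
theorem Q24990 : ∀ i, i < 24990 → P i := stepQ 24989 Q24989 (allL N24989 (tt N47805 D84607) (tt N47806 D84608) (tt N47804 (iv2 F129776)) (tt N12377 F60072) (tt N47807 D84609) (tt N12376 (iv5 D39074)) (tt N47808 D84610) (tt N47809 D84611))
theorem Q24991 : ∀ i, i < 24991 → P i := stepQ 24990 Q24990 (allL N24990 (tt N47799 F334655) (tt N47794 F334656) (tt N47793 F129769) (tt N12378 F60073) (tt N47765 (iv4 F129713)) (tt N47809 (iv5 F129780)) (tt N47810 D84612) (tt N12376 (iv7 D39075)))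
theorem Q24992 : ∀ i, i < 24992 → P i := stepQ 24991 Q24991 (allL N24991 (tt N35287 (iv1 F91904)) (tt N12377 (iv0 D39076)) (tt N23669 (iv2 F60075)) (tt N47811 D84613) (tt N34357 F309218) (tt N17488 F60074) (tt N44070 (iv6 F311435)) (tt N23692 (iv7 F60076)))
theorem Q24993 : ∀ i, i < 24993 → P i := stepQ 24992 Q24992 (allL N24992 (tt N22576 F305286) (tt N17329 (iv0 F307206)) (tt N22574 (iv2 F307217)) (tt N47812 D84617) (tt N12377 (iv4 D39078)) (tt N33861 (iv5 F85932)) (tt N25213 (iv6 F307244)) (tt N22575 (iv7 F307216)))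
theorem Q24994 : ∀ i, i < 24994 → P i := stepQ 24993 Q24993 (allL N24993 (tt N47813 D84619) (tt N35427 (iv0 F311441)) (tt N35286 (iv2 F91898)) (tt N47808 (iv3 F129777)) (tt N25213 F309230) (tt N12545 F60080) (tt N12377 (iv6 D39079)) (tt N47814 D84621))
theorem Q24995 : ∀ i, i < 24995 → P i := stepQ 24994 Q24994 (allL N24994 (tt N23692 (iv1 F60082)) (tt N23669 F60083) (tt N35287 (iv2 F91900)) (tt N47809 (iv3 F129779)) (tt N22575 F309178) (tt N12378 F60081) (tt N47815 D84622) (tt N12377 (iv7 D39080)))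
theorem Q24996 : ∀ i, i < 24996 → P i := stepQ 24995 Q24995 (allL N24995 (tt N23796 (iv1 F60705)) (tt N23794 (iv0 F92086)) (tt N25336 (iv2 F60717)) (tt N47810 (iv3 F129781)) (tt N12379 F60084) (tt N42107 F313888) (tt N12378 (iv6 D39081)) (tt N18004 F60085))
theorem Q24997 : ∀ i, i < 24997 → P i := stepQ 24996 Q24996 (allL N24996 (tt N33839 F85863) (tt N12380 (iv0 D39082)) (tt N35245 F91686) (tt N24694 F60086) (tt N43104 F311854) (tt N26021 (iv5 F71579)) (tt N43103 F316654) (tt N35244 F91680))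
theorem Q24998 : ∀ i, i < 24998 → P i := stepQ 24997 Q24997 (allL N24997 (tt N12380 (iv1 D39083)) (tt N33839 F85864) (tt N35244 F91679) (tt N47816 D84625) (tt N47380 (iv4 F128753)) (tt N26024 F74237) (tt N47817 D84626) (tt N35245 (iv7 F91682)))
theorem Q24999 : ∀ i, i < 24999 → P i := stepQ 24998 Q24998 (allL N24998 (tt N27912 F72104) (tt N27915 (iv0 F72117)) (tt N25714 (iv2 F61991)) (tt N12381 F60087) (tt N25714 (iv4 F61992)) (tt N12380 (iv5 D39084)) (tt N47818 D84627) (tt N14166 F60088))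
theorem Q25000 : ∀ i, i < 25000 → P i := stepQ 24999 Q24999 (allL N24999 (tt N34963 (iv1 F337500)) (tt N47819 D84629) (tt N42519 (iv2 F106335)) (tt N12382 F60089) (tt N35288 (iv4 F91906)) (tt N47820 D84630) (tt N12380 (iv6 D39085)) (tt N35206 (iv7 F300101)))
theorem Q25001 : ∀ i, i < 25001 → P i := stepQ 25000 Q25000 (allL N25000 (tt N14472 (iv1 F289723)) (tt N47821 D84633) (tt N12388 F60090) (tt N47818 (iv3 F129802)) (tt N17843 F60091) (tt N47822 D84634) (tt N12381 (iv6 D39086)) (tt N28970 (iv7 F289724)))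
theorem Q25002 : ∀ i, i < 25002 → P i := stepQ 25001 Q25001 (allL N25001 (tt N12382 (iv1 D39088)) (tt N12392 F60094) (tt N12390 F91560) (tt N43853 (iv3 F302827)) (tt N34839 F300042) (tt N47823 D84640) (tt N25247 (iv6 F131776)) (tt N12389 F91561))
theorem Q25003 : ∀ i, i < 25003 → P i := stepQ 25002 Q25002 (allL N25002 (tt N47824 D84642) (tt N47825 D84643) (tt N12391 F60095) (tt N47820 (iv3 F129803)) (tt N47826 D84644) (tt N12382 (iv5 D39089)) (tt N47822 (iv6 F129807)) (tt N35207 (iv7 F302826)))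
theorem Q25004 : ∀ i, i < 25004 → P i := stepQ 25003 Q25003 (allL N25003 (tt N12398 (iv1 F60109)) (tt N12383 (iv0 D39099)) (tt N12395 F117427) (tt N31839 F325162) (tt N47827 D84652) (tt N47828 D84653) (tt N31837 F325163) (tt N12396 F117428))
theorem Q25005 : ∀ i, i < 25005 → P i := stepQ 25004 Q25004 (allL N25004 (tt N47829 D84656) (tt N47830 D84657) (tt N12397 F60105) (tt N47831 D84658) (tt N12383 (iv4 D39101)) (tt N47832 D84659) (tt N22912 F60106) (tt N35209 (iv7 F299667)))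
theorem Q25006 : ∀ i, i < 25006 → P i := stepQ 25005 Q25005 (allL N25005 (tt N12998 (iv1 F60114)) (tt N12384 (iv0 D39103)) (tt N14050 F60116) (tt N14609 F60113) (tt N47833 D84661) (tt N13235 F60112) (tt N47834 D84662) (tt N14051 (iv7 F60115)))
theorem Q25007 : ∀ i, i < 25007 → P i := stepQ 25006 Q25006 (allL N25006 (tt N12384 (iv1 D39104)) (tt N12998 F60117) (tt N14051 (iv2 F60119)) (tt N47835 D84663) (tt N47836 D84664) (tt N14073 (iv5 F60120)) (tt N43854 F306377) (tt N14050 F60118))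
theorem Q25008 : ∀ i, i < 25008 → P i := stepQ 25007 Q25007 (allL N25007 (tt N47837 D84666) (tt N47838 D84667) (tt N14053 F60121) (tt N12385 F60122) (tt N34960 (iv4 F90541)) (tt N47839 D84668) (tt N12384 (iv6 D39105)) (tt N35464 (iv7 F92426)))
theorem Q25009 : ∀ i, i < 25009 → P i := stepQ 25008 Q25008 (allL N25008 (tt N34530 (iv1 F302822)) (tt N34537 (iv0 F303357)) (tt N35250 (iv2 F91728)) (tt N47839 (iv3 F129903)) (tt N47840 D84670) (tt N12385 (iv5 D39108)) (tt N46754 (iv6 F126450)) (tt N35465 (iv7 F92430)))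
theorem Q25010 : ∀ i, i < 25010 → P i := stepQ 25009 Q25009 (allL N25009 (tt N38776 F325788) (tt N38774 (iv0 F326600)) (tt N35014 (iv2 F298969)) (tt N14015 F60124) (tt N36788 (iv4 F326605)) (tt N12386 (iv5 D39112)) (tt N14007 F60125) (tt N35015 (iv7 F299217)))
theorem Q25011 : ∀ i, i < 25011 → P i := stepQ 25010 Q25010 (allL N25010 (tt N28404 (iv1 F129915)) (tt N28408 F73823) (tt N14084 F60128) (tt N14219 F60129) (tt N25808 (iv4 F62335)) (tt N40132 (iv5 F329717)) (tt N12387 (iv6 D39114)) (tt N40131 F329545))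
theorem Q25012 : ∀ i, i < 25012 → P i := stepQ 25011 Q25011 (allL N25011 (tt N28970 F289736) (tt N12388 (iv0 D39115)) (tt N14472 (iv2 F289768)) (tt N47841 D84679) (tt N47842 D84680) (tt N47843 D84681) (tt N47844 D84682) (tt N47821 (iv7 F289786)))
theorem Q25013 : ∀ i, i < 25013 → P i := stepQ 25012 Q25012 (allL N25012 (tt N12388 (iv1 D39116)) (tt N28970 F289737) (tt N47821 (iv2 F289785)) (tt N13172 F291372) (tt N14330 (iv4 F289771)) (tt N47845 D84686) (tt N13176 (iv6 F292178)) (tt N14472 (iv7 F289769)))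
theorem Q25014 : ∀ i, i < 25014 → P i := stepQ 25013 Q25013 (allL N25013 (tt N47846 D84688) (tt N47847 D84689) (tt N47822 (iv2 F129806)) (tt N42541 (iv3 F106388)) (tt N47848 D84690) (tt N12388 (iv5 D39117)) (tt N12391 F60130) (tt N47849 D84691))
theorem Q25015 : ∀ i, i < 25015 → P i := stepQ 25014 Q25014 (allL N25014 (tt N47821 (iv1 F129805)) (tt N14472 F289823) (tt N28970 F289738) (tt N25876 (iv3 F289765)) (tt N28351 (iv4 F289773)) (tt N47849 (iv5 F129921)) (tt N14431 F289728) (tt N12388 (iv7 D39118)))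
theorem Q25016 : ∀ i, i < 25016 → P i := stepQ 25015 Q25015 (allL N25015 (tt N43620 (iv1 F303326)) (tt N43854 (iv0 F303327)) (tt N43692 (iv2 F303325)) (tt N12389 (iv3 D39120)) (tt N35013 F120844) (tt N47850 D84695) (tt N34837 F300526) (tt N43853 (iv7 F302830)))
theorem Q25017 : ∀ i, i < 25017 → P i := stepQ 25016 Q25016 (allL N25016 (tt N47851 D84700) (tt N47852 D84701) (tt N34958 F300528) (tt N47850 (iv3 F129922)) (tt N47853 D84702) (tt N12389 (iv5 D39122)) (tt N47854 D84703) (tt N47823 (iv7 F129825)))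
theorem Q25018 : ∀ i, i < 25018 → P i := stepQ 25017 Q25017 (allL N25017 (tt N12607 F118419) (tt N23633 (iv0 F298100)) (tt N34839 (iv2 F298106)) (tt N17550 F60133) (tt N12390 (iv4 D39126)) (tt N45625 F118757) (tt N23558 (iv6 F298096)) (tt N17553 F297092))
theorem Q25019 : ∀ i, i < 25019 → P i := stepQ 25018 Q25018 (allL N25018 (tt N47852 (iv1 F129934)) (tt N47851 F129933) (tt N47823 (iv2 F129824)) (tt N47466 F315065) (tt N47855 D84712) (tt N12390 (iv5 D39127)) (tt N47856 D84713) (tt N34958 F301761))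
theorem Q25020 : ∀ i, i < 25020 → P i := stepQ 25019 Q25019 (allL N25019 (tt N35207 (iv1 F302824)) (tt N12391 (iv0 D39129)) (tt N47824 (iv2 F129840)) (tt N47857 D84715) (tt N47858 D84716) (tt N47859 D84717) (tt N47860 D84718) (tt N47825 F129841))
theorem Q25021 : ∀ i, i < 25021 → P i := stepQ 25020 Q25020 (allL N25020 (tt N12391 (iv1 D39130)) (tt N35207 (iv0 F302823)) (tt N47825 (iv2 F129833)) (tt N47861 D84719) (tt N47862 D84720) (tt N46412 (iv5 F123442)) (tt N47863 D84721) (tt N47824 (iv7 F129839)))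
theorem Q25022 : ∀ i, i < 25022 → P i := stepQ 25021 Q25021 (allL N25021 (tt N47864 D84722) (tt N47865 D84723) (tt N47826 (iv2 F129834)) (tt N47866 D84724) (tt N12391 (iv4 D39131)) (tt N47867 D84725) (tt N47848 (iv6 F129920)) (tt N47868 D84726))
theorem Q25023 : ∀ i, i < 25023 → P i := stepQ 25022 Q25022 (allL N25022 (tt N47825 (iv1 F129831)) (tt N47824 F129837) (tt N35207 (iv2 F302825)) (tt N42549 (iv3 F106394)) (tt N47868 (iv4 F129947)) (tt N12392 F60134) (tt N47869 D84727) (tt N12391 (iv7 D39132)))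
theorem Q25024 : ∀ i, i < 25024 → P i := stepQ 25023 Q25023 (allL N25023 (tt N43604 (iv1 F304766)) (tt N43603 (iv0 F304764)) (tt N43606 (iv2 F304763)) (tt N12393 (iv3 D39166)) (tt N46770 F302302) (tt N47870 D84763) (tt N34933 (iv6 F302815)) (tt N34826 F302303))
theorem Q25025 : ∀ i, i < 25025 → P i := stepQ 25024 Q25024 (allL N25024 (tt N35184 (iv1 F304761)) (tt N35183 F302313) (tt N35178 F302314) (tt N47870 (iv3 F129964)) (tt N47871 D84765) (tt N12393 (iv5 D39167)) (tt N47872 D84766) (tt N34828 F302315))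
theorem Q25026 : ∀ i, i < 25026 → P i := stepQ 25025 Q25025 (allL N25025 (tt N35217 (iv1 F300877)) (tt N35216 (iv0 F301765)) (tt N35203 (iv2 F302228)) (tt N47873 D84769) (tt N12394 (iv4 D39169)) (tt N47874 D84770) (tt N47875 D84771) (tt N34830 F299749))
theorem Q25027 : ∀ i, i < 25027 → P i := stepQ 25026 Q25026 (allL N25026 (tt N17856 (iv1 F91714)) (tt N17840 (iv0 F60159)) (tt N17853 F117477) (tt N24586 F118443) (tt N47875 (iv4 F129970)) (tt N23397 (iv5 F297560)) (tt N12394 (iv6 D39170)) (tt N17854 F117478))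
theorem Q25028 : ∀ i, i < 25028 → P i := stepQ 25027 Q25027 (allL N25027 (tt N47876 D84775) (tt N47877 D84776) (tt N47827 (iv2 F129855)) (tt N47878 D84777) (tt N12395 (iv4 D39177)) (tt N47879 D84778) (tt N47880 D84779) (tt N47777 F301314))
theorem Q25029 : ∀ i, i < 25029 → P i := stepQ 25028 Q25028 (allL N25028 (tt N17408 F301315) (tt N23115 F117599) (tt N47828 (iv2 F129857)) (tt N17431 F301316) (tt N47881 D84781) (tt N12395 (iv5 D39178)) (tt N24338 F301317) (tt N17629 F117426))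
theorem Q25030 : ∀ i, i < 25030 → P i := stepQ 25029 Q25029 (allL N25029 (tt N23413 F297627) (tt N35031 (iv0 F299813)) (tt N31837 (iv2 F323897)) (tt N12546 (iv3 F299284)) (tt N47880 (iv4 F129981)) (tt N35023 F297628) (tt N12395 (iv6 D39179)) (tt N34988 (iv7 F299812)))
theorem Q25031 : ∀ i, i < 25031 → P i := stepQ 25030 Q25030 (allL N25030 (tt N47877 (iv1 F129977)) (tt N47876 F129976) (tt N47777 F301318) (tt N47882 D84787) (tt N12396 (iv4 D39182)) (tt N47883 D84788) (tt N34985 (iv6 F302042)) (tt N47827 (iv7 F129856)))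
theorem Q25032 : ∀ i, i < 25032 → P i := stepQ 25031 Q25031 (allL N25031 (tt N23115 F117558) (tt N17408 (iv0 F299827)) (tt N17629 F117382) (tt N22978 F299524) (tt N47884 D84790) (tt N12396 (iv5 D39183)) (tt N17389 F299525) (tt N47828 (iv7 F129859)))
theorem Q25033 : ∀ i, i < 25033 → P i := stepQ 25032 Q25032 (allL N25032 (tt N35209 (iv1 F299666)) (tt N12397 (iv0 D39185)) (tt N47829 (iv2 F129870)) (tt N47885 D84791) (tt N47886 D84792) (tt N47887 D84793) (tt N47888 D84794) (tt N47830 (iv7 F129872)))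
theorem Q25034 : ∀ i, i < 25034 → P i := stepQ 25033 Q25033 (allL N25033 (tt N12397 (iv1 D39186)) (tt N35209 (iv0 F299665)) (tt N47830 F129873) (tt N31688 F325332) (tt N31879 F325333) (tt N47889 D84796) (tt N47890 D84797) (tt N47829 F129868))
theorem Q25035 : ∀ i, i < 25035 → P i := stepQ 25034 Q25034 (allL N25034 (tt N47891 D84798) (tt N47892 D84799) (tt N47893 D84800) (tt N12397 (iv3 D39187)) (tt N12411 F60163) (tt N47894 D84801) (tt N22921 F60164) (tt N47895 D84802))
theorem Q25036 : ∀ i, i < 25036 → P i := stepQ 25035 Q25035 (allL N25035 (tt N47896 D84803) (tt N47897 D84804) (tt N47832 (iv2 F129875)) (tt N47894 (iv3 F130008)) (tt N47898 D84805) (tt N12397 (iv5 D39188)) (tt N47899 D84806) (tt N47900 D84807))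
theorem Q25037 : ∀ i, i < 25037 → P i := stepQ 25036 Q25036 (allL N25036 (tt N47830 (iv1 F129871)) (tt N47829 F129869) (tt N35209 F301313) (tt N47895 (iv3 F130009)) (tt N12398 F60165) (tt N47900 (iv5 F130012)) (tt N40426 F324534) (tt N12397 (iv7 D39189)))
theorem Q25038 : ∀ i, i < 25038 → P i := stepQ 25037 Q25037 (allL N25037 (tt N35023 F297659) (tt N31876 (iv0 F323104)) (tt N35210 F297660) (tt N12414 F60166) (tt N40426 (iv4 F323105)) (tt N25330 (iv5 F60711)) (tt N12398 (iv6 D39190)) (tt N12543 F60167))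
theorem Q25039 : ∀ i, i < 25039 → P i := stepQ 25038 Q25038 (allL N25038 (tt N24965 F117025) (tt N27698 F296490) (tt N35212 (iv2 F297595)) (tt N12399 (iv3 D39214)) (tt N45874 (iv4 F297779)) (tt N23425 F60178) (tt N35801 F325647) (tt N35305 (iv7 F117001)))
theorem Q25040 : ∀ i, i < 25040 → P i := stepQ 25039 Q25039 (allL N25039 (tt N17578 F60181) (tt N17575 F60182) (tt N23971 F60179) (tt N47901 D84810) (tt N12399 (iv4 D39215)) (tt N41840 F317772) (tt N45992 (iv6 F120039)) (tt N23972 F60180))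
theorem Q25041 : ∀ i, i < 25041 → P i := stepQ 25040 Q25040 (allL N25040 (tt N17575 F60187) (tt N17578 F60188) (tt N23972 F60184) (tt N47902 D84811) (tt N12400 (iv4 D39217)) (tt N41839 F317774) (tt N12532 F60185) (tt N23971 F60186))
theorem Q25042 : ∀ i, i < 25042 → P i := stepQ 25041 Q25041 (allL N25041 (tt N47903 D84812) (tt N47904 D84813) (tt N47905 D84814) (tt N12401 (iv3 D39218)) (tt N47235 (iv4 F128548)) (tt N46278 (iv5 F122668)) (tt N46352 F303308) (tt N35322 (iv7 F92046)))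
theorem Q25043 : ∀ i, i < 25043 → P i := stepQ 25042 Q25042 (allL N25042 (tt N46702 (iv1 F301417)) (tt N46701 (iv0 F301415)) (tt N35021 (iv2 F121569)) (tt N47906 D84828) (tt N12403 (iv4 D39240)) (tt N47907 D84829) (tt N24981 F60202) (tt N34774 F299736))
theorem Q25044 : ∀ i, i < 25044 → P i := stepQ 25043 Q25043 (allL N25043 (tt N47908 D84830) (tt N47909 D84831) (tt N47910 D84832) (tt N12404 (iv3 D39243)) (tt N47906 (iv4 F130024)) (tt N46279 (iv5 F122669)) (tt N23703 F60203) (tt N35317 (iv7 F92012)))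
theorem Q25045 : ∀ i, i < 25045 → P i := stepQ 25044 Q25044 (allL N25044 (tt N45940 F121547) (tt N47911 D84833) (tt N35024 (iv2 F121549)) (tt N46261 (iv3 F122653)) (tt N12407 (iv4 D39253)) (tt N47912 D84834) (tt N35261 (iv6 F303751)) (tt N35022 (iv7 F121126)))
theorem Q25046 : ∀ i, i < 25046 → P i := stepQ 25045 Q25045 (allL N25045 (tt N47913 D84836) (tt N47914 D84837) (tt N27322 F321798) (tt N12409 (iv3 D39255)) (tt N13807 (iv4 F323500)) (tt N47915 D84840) (tt N42038 (iv6 F319435)) (tt N24006 F60211))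
theorem Q25047 : ∀ i, i < 25047 → P i := stepQ 25046 Q25046 (allL N25046 (tt N41677 F317216) (tt N41680 F317217) (tt N21223 (iv2 F317588)) (tt N47915 (iv3 F130036)) (tt N16883 F317218) (tt N12409 (iv5 D39256)) (tt N16885 (iv6 F319441)) (tt N24007 F60213))
theorem Q25048 : ∀ i, i < 25048 → P i := stepQ 25047 Q25047 (allL N25047 (tt N45960 (iv1 F119982)) (tt N35504 F92648) (tt N24002 F60214) (tt N42038 (iv3 F319433)) (tt N15702 (iv4 F319439)) (tt N42037 F317184) (tt N12409 (iv6 D39257)) (tt N32028 F317185))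
theorem Q25049 : ∀ i, i < 25049 → P i := stepQ 25048 Q25048 (allL N25048 (tt N42152 F335062) (tt N47916 D84846) (tt N47917 D84847) (tt N12410 (iv3 D39258)) (tt N47918 D84848) (tt N47919 D84849) (tt N47920 D84850) (tt N24001 F60216))
theorem Q25050 : ∀ i, i < 25050 → P i := stepQ 25049 Q25049 (allL N25049 (tt N41680 F317179) (tt N41677 F317180) (tt N24007 F60217) (tt N47919 (iv3 F130056)) (tt N21224 F317181) (tt N12410 (iv5 D39259)) (tt N47921 D84851) (tt N21223 (iv7 F317590)))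
theorem Q25051 : ∀ i, i < 25051 → P i := stepQ 25050 Q25050 (allL N25050 (tt N23422 (iv1 F60223)) (tt N23426 (iv0 F60222)) (tt N24008 F60219) (tt N47920 (iv3 F130058)) (tt N17474 F302666) (tt N38090 F311624) (tt N12410 (iv6 D39260)) (tt N23694 (iv7 F60221)))
theorem Q25052 : ∀ i, i < 25052 → P i := stepQ 25051 Q25051 (allL N25051 (tt N47922 D84853) (tt N12411 (iv0 D39261)) (tt N47923 D84854) (tt N32003 F327745) (tt N47924 D84856) (tt N47925 D84857) (tt N32001 (iv6 F328217)) (tt N47926 D84859))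
theorem Q25053 : ∀ i, i < 25053 → P i := stepQ 25052 Q25052 (allL N25052 (tt N12411 (iv1 D39262)) (tt N47922 F130067) (tt N47926 (iv2 F130069)) (tt N47927 D84860) (tt N47928 D84861) (tt N47929 D84862) (tt N24709 (iv6 F334700)) (tt N47923 F130068))
theorem Q25054 : ∀ i, i < 25054 → P i := stepQ 25053 Q25053 (allL N25053 (tt N47923 (iv1 F329027)) (tt N47926 F328595) (tt N12411 (iv2 D39263)) (tt N35327 (iv3 F92070)) (tt N47893 (iv4 F130006)) (tt N47930 D84866) (tt N22925 F60224) (tt N47922 (iv7 F130066)))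
theorem Q25055 : ∀ i, i < 25055 → P i := stepQ 25054 Q25054 (allL N25054 (tt N47931 D84867) (tt N47932 D84868) (tt N47930 (iv2 F130072)) (tt N12412 F60225) (tt N47933 D84869) (tt N12411 (iv5 D39264)) (tt N47934 D84870) (tt N47935 D84871))
theorem Q25056 : ∀ i, i < 25056 → P i := stepQ 25055 Q25055 (allL N25055 (tt N47926 F328596) (tt N47923 (iv0 F329026)) (tt N47922 F130065) (tt N12413 F60226) (tt N47895 (iv4 F130010)) (tt N47935 (iv5 F130076)) (tt N47936 D84872) (tt N12411 (iv7 D39265)))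
theorem Q25057 : ∀ i, i < 25057 → P i := stepQ 25056 Q25056 (allL N25056 (tt N35330 (iv1 F92081)) (tt N12412 (iv0 D39266)) (tt N23974 (iv2 F60228)) (tt N47937 D84873) (tt N42321 F313338) (tt N17575 F60227) (tt N37084 F320515) (tt N23995 (iv7 F60229)))
theorem Q25058 : ∀ i, i < 25058 → P i := stepQ 25057 Q25057 (allL N25057 (tt N12412 (iv1 D39267)) (tt N35330 F92080) (tt N23995 (iv2 F60232)) (tt N42151 F337745) (tt N33804 (iv4 F315211)) (tt N17578 F60231) (tt N34554 (iv6 F315766)) (tt N23974 F60230))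
theorem Q25059 : ∀ i, i < 25059 → P i := stepQ 25058 Q25058 (allL N25058 (tt N42108 (iv1 F314975)) (tt N42037 (iv0 F314972)) (tt N25335 (iv2 F60715)) (tt N47934 (iv3 F130073)) (tt N33499 F313892) (tt N18004 F60233) (tt N12412 (iv6 D39269)) (tt N42107 F312509))
theorem Q25060 : ∀ i, i < 25060 → P i := stepQ 25059 Q25059 (allL N25059 (tt N23995 (iv1 F60235)) (tt N23974 F60236) (tt N35330 (iv2 F92077)) (tt N47935 (iv3 F130075)) (tt N33576 F313267) (tt N12413 F60234) (tt N47938 D84880) (tt N12412 (iv7 D39270)))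
theorem Q25061 : ∀ i, i < 25061 → P i := stepQ 25060 Q25060 (allL N25060 (tt N24062 (iv1 F60700)) (tt N23693 (iv0 F60239)) (tt N35331 (iv2 F92082)) (tt N47936 (iv3 F130077)) (tt N12414 F60237) (tt N47814 (iv5 F129792)) (tt N12413 (iv6 D39271)) (tt N12545 F60238))
theorem Q25062 : ∀ i, i < 25062 → P i := stepQ 25061 Q25061 (allL N25061 (tt N12646 F60240) (tt N12649 F60241) (tt N29786 F77301) (tt N42537 (iv3 F106382)) (tt N12415 (iv4 D39272)) (tt N43907 (iv5 F110122)) (tt N47939 D84881) (tt N29787 (iv7 F77304)))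
theorem Q25063 : ∀ i, i < 25063 → P i := stepQ 25062 Q25062 (allL N25062 (tt N12433 F232469) (tt N37451 F308011) (tt N20286 F308012) (tt N21760 F60242) (tt N47939 (iv4 F130089)) (tt N20283 (iv5 F310032)) (tt N12415 (iv6 D39273)) (tt N20281 (iv7 F310010)))
theorem Q25064 : ∀ i, i < 25064 → P i := stepQ 25063 Q25063 (allL N25063 (tt N21729 F60245) (tt N45725 F119497) (tt N25444 (iv2 F61029)) (tt N24215 F60243) (tt N12417 F60244) (tt N34316 F307711) (tt N12416 (iv6 D39274)) (tt N45724 (iv7 F119490)))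
theorem Q25065 : ∀ i, i < 25065 → P i := stepQ 25064 Q25064 (allL N25064 (tt N34319 (iv1 F87189)) (tt N12417 (iv0 D39275)) (tt N34318 (iv2 F187206)) (tt N34303 (iv3 F187226)) (tt N34451 (iv4 F307767)) (tt N47940 D84889) (tt N47941 D84890) (tt N34315 (iv7 F187232)))
theorem Q25066 : ∀ i, i < 25066 → P i := stepQ 25065 Q25065 (allL N25065 (tt N12417 (iv1 D39276)) (tt N34319 F87188) (tt N34315 (iv2 F187230)) (tt N43680 (iv3 F190612)) (tt N43077 (iv4 F307741)) (tt N21990 F305817) (tt N47942 D84894) (tt N34318 (iv7 F187208)))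
theorem Q25067 : ∀ i, i < 25067 → P i := stepQ 25066 Q25066 (allL N25066 (tt N34315 (iv1 F187229)) (tt N34318 F87187) (tt N34319 (iv2 F87184)) (tt N12423 F60247) (tt N45724 F119491) (tt N34305 (iv5 F87164)) (tt N34175 (iv6 F86859)) (tt N12417 (iv7 D39277)))
theorem Q25068 : ∀ i, i < 25068 → P i := stepQ 25067 Q25067 (allL N25067 (tt N47172 (iv1 F128470)) (tt N47065 F128203) (tt N14337 F60248) (tt N12418 (iv3 D39278)) (tt N14336 F60249) (tt N45578 (iv5 F116555)) (tt N47943 D84895) (tt N34176 (iv7 F86862)))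
theorem Q25069 : ∀ i, i < 25069 → P i := stepQ 25068 Q25068 (allL N25068 (tt N34164 (iv1 F184664)) (tt N34168 (iv0 F184665)) (tt N34178 (iv2 F86867)) (tt N47943 (iv3 F130107)) (tt N21592 F60250) (tt N47944 D84898) (tt N12418 (iv6 D39279)) (tt N34241 (iv7 F184586)))
theorem Q25070 : ∀ i, i < 25070 → P i := stepQ 25069 Q25069 (allL N25069 (tt N17240 F60256) (tt N17236 F60254) (tt N17017 F60251) (tt N21590 (iv3 F60255)) (tt N12419 (iv4 D39280)) (tt N16476 F60253) (tt N47945 D84900) (tt N18497 F60252))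
theorem Q25071 : ∀ i, i < 25071 → P i := stepQ 25070 Q25070 (allL N25070 (tt N12434 (iv1 F155154)) (tt N12438 (iv0 F155155)) (tt N34177 (iv2 F86865)) (tt N46903 (iv3 F127671)) (tt N47945 (iv4 F130112)) (tt N47946 D84903) (tt N12419 (iv6 D39281)) (tt N47577 (iv7 F155159)))
theorem Q25072 : ∀ i, i < 25072 → P i := stepQ 25071 Q25071 (allL N25071 (tt N12425 (iv1 F60258)) (tt N12420 (iv0 D39282)) (tt N24116 F60260) (tt N24448 (iv3 F301229)) (tt N42737 (iv4 F107035)) (tt N17182 F60257) (tt N24106 (iv6 F301231)) (tt N24115 (iv7 F60259)))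
theorem Q25073 : ∀ i, i < 25073 → P i := stepQ 25072 Q25072 (allL N25072 (tt N12420 (iv1 D39283)) (tt N12425 F60261) (tt N24115 (iv2 F60264)) (tt N24487 (iv3 F60265)) (tt N42738 (iv4 F107039)) (tt N17183 F60263) (tt N47947 D84907) (tt N24116 F60262))
theorem Q25074 : ∀ i, i < 25074 → P i := stepQ 25073 Q25073 (allL N25073 (tt N47948 D84908) (tt N47949 D84909) (tt N34191 (iv2 F86889)) (tt N17602 F60267) (tt N24266 F60268) (tt N45859 F320250) (tt N12420 (iv6 D39284)) (tt N47950 D84911))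
theorem Q25075 : ∀ i, i < 25075 → P i := stepQ 25074 Q25074 (allL N25074 (tt N34195 (iv1 F86898)) (tt N12421 (iv0 D39285)) (tt N34192 (iv2 F155329)) (tt N47951 D84913) (tt N47952 D84914) (tt N23776 F327551) (tt N47953 D84916) (tt N34193 (iv7 F155328)))
theorem Q25076 : ∀ i, i < 25076 → P i := stepQ 25075 Q25075 (allL N25075 (tt N12421 (iv1 D39286)) (tt N34195 F86897) (tt N34193 (iv2 F155327)) (tt N46907 (iv3 F191347)) (tt N47954 D84919) (tt N35882 F320704) (tt N47955 D84921) (tt N34192 (iv7 F155330)))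
theorem Q25077 : ∀ i, i < 25077 → P i := stepQ 25076 Q25076 (allL N25076 (tt N47956 D84922) (tt N31339 F313052) (tt N34194 (iv2 F86892)) (tt N23488 F315913) (tt N31305 (iv4 F315489)) (tt N12421 (iv5 D39287)) (tt N45859 (iv6 F318091)) (tt N41586 (iv7 F314136)))
theorem Q25078 : ∀ i, i < 25078 → P i := stepQ 25077 Q25077 (allL N25077 (tt N34193 (iv1 F86890)) (tt N34192 F86896) (tt N34195 (iv2 F86893)) (tt N44946 F311681) (tt N12423 F60269) (tt N41586 F316586) (tt N34182 (iv6 F86873)) (tt N12421 (iv7 D39288)))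
theorem Q25079 : ∀ i, i < 25079 → P i := stepQ 25078 Q25078 (allL N25078 (tt N43984 (iv1 F110395)) (tt N43983 F110394) (tt N34197 (iv2 F86902)) (tt N35347 (iv3 F190495)) (tt N47957 D84928) (tt N12422 (iv5 D39290)) (tt N40039 (iv6 F309710)) (tt N34199 (iv7 F86912)))
theorem Q25080 : ∀ i, i < 25080 → P i := stepQ 25079 Q25079 (allL N25079 (tt N12440 F120250) (tt N47958 D84930) (tt N24344 F60270) (tt N35348 (iv3 F190560)) (tt N47341 (iv4 F189977)) (tt N34147 F86815) (tt N12422 (iv6 D39291)) (tt N47959 D84931))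
theorem Q25081 : ∀ i, i < 25081 → P i := stepQ 25080 Q25080 (allL N25080 (tt N24107 (iv1 F60274)) (tt N24106 F60275) (tt N17600 F60271) (tt N12425 F60272) (tt N47960 D84932) (tt N12424 (iv5 D39292)) (tt N47961 D84933) (tt N24108 F60273))
theorem Q25082 : ∀ i, i < 25082 → P i := stepQ 25081 Q25081 (allL N25081 (tt N36513 F300868) (tt N46932 (iv0 F130350)) (tt N45587 (iv2 F116569)) (tt N12426 F60277) (tt N45307 (iv4 F115116)) (tt N47962 D84936) (tt N12424 (iv6 D39293)) (tt N47208 (iv7 F131630)))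
theorem Q25083 : ∀ i, i < 25083 → P i := stepQ 25082 Q25082 (allL N25082 (tt N22997 F60280) (tt N24263 F60281) (tt N13836 F60278) (tt N24278 (iv3 F60282)) (tt N12425 (iv4 D39294)) (tt N32836 (iv5 F83629)) (tt N44533 (iv6 F309606)) (tt N24264 F60279))
theorem Q25084 : ∀ i, i < 25084 → P i := stepQ 25083 Q25083 (allL N25083 (tt N42514 (iv1 F312050)) (tt N47963 D84940) (tt N24117 F60283) (tt N47961 (iv3 F130186)) (tt N44533 F311824) (tt N47964 D84941) (tt N12425 (iv6 D39295)) (tt N47965 D84942))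
theorem Q25085 : ∀ i, i < 25085 → P i := stepQ 25084 Q25084 (allL N25084 (tt N34182 (iv1 F86876)) (tt N12426 (iv0 D39296)) (tt N34179 (iv2 F155223)) (tt N47179 (iv3 F187965)) (tt N47966 D84945) (tt N47967 D84946) (tt N47968 D84947) (tt N34180 (iv7 F155237)))
theorem Q25086 : ∀ i, i < 25086 → P i := stepQ 25085 Q25085 (allL N25085 (tt N12426 (iv1 D39297)) (tt N34182 F86875) (tt N34180 (iv2 F155235)) (tt N47969 D84949) (tt N21606 (iv4 F130279)) (tt N47970 D84951) (tt N37064 F315815) (tt N34179 (iv7 F155224)))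
theorem Q25087 : ∀ i, i < 25087 → P i := stepQ 25086 Q25086 (allL N25086 (tt N47971 D84953) (tt N47972 D84954) (tt N34181 (iv2 F86870)) (tt N47962 (iv3 F130187)) (tt N47973 D84955) (tt N12426 (iv5 D39298)) (tt N47964 (iv6 F130194)) (tt N47974 D84956))
theorem Q25088 : ∀ i, i < 25088 → P i := stepQ 25087 Q25087 (allL N25087 (tt N34180 (iv1 F86869)) (tt N34179 F86874) (tt N34182 (iv2 F86871)) (tt N47208 (iv3 F131629)) (tt N12429 F60284) (tt N47974 (iv5 F130201)) (tt N34195 (iv6 F86895)) (tt N12426 (iv7 D39299)))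
theorem Q25089 : ∀ i, i < 25089 → P i := stepQ 25088 Q25088 (allL N25088 (tt N16774 F313308) (tt N43934 (iv0 F130267)) (tt N34186 (iv2 F131607)) (tt N35361 (iv3 F190389)) (tt N47975 D84994) (tt N12427 (iv5 D39308)) (tt N47976 D84995) (tt N34184 (iv7 F131620)))
theorem Q25090 : ∀ i, i < 25090 → P i := stepQ 25089 Q25089 (allL N25089 (tt N46139 F304098) (tt N12436 F113748) (tt N25221 (iv2 F130271)) (tt N35362 (iv3 F190394)) (tt N47353 (iv4 F188458)) (tt N44859 (iv5 F113741)) (tt N12427 (iv6 D39309)) (tt N46136 F304099))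
theorem Q25091 : ∀ i, i < 25091 → P i := stepQ 25090 Q25090 (allL N25090 (tt N12428 (iv1 D39311)) (tt N34189 F86885) (tt N33405 F317984) (tt N35363 (iv3 F190133)) (tt N47977 D85005) (tt N47978 D85006) (tt N33398 (iv6 F318753)) (tt N34187 (iv7 F130249)))
theorem Q25092 : ∀ i, i < 25092 → P i := stepQ 25091 Q25091 (allL N25091 (tt N47979 D85008) (tt N47980 D85009) (tt N34188 (iv2 F86881)) (tt N47981 D85010) (tt N12428 (iv4 D39312)) (tt N47982 D85011) (tt N34592 F87998) (tt N47983 D85012))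
theorem Q25093 : ∀ i, i < 25093 → P i := stepQ 25092 Q25092 (allL N25092 (tt N33405 F317983) (tt N34187 F86884) (tt N34189 (iv2 F86882)) (tt N34299 (iv3 F87144)) (tt N47983 (iv4 F130353)) (tt N12429 F60287) (tt N34292 (iv6 F87088)) (tt N12428 (iv7 D39313)))
theorem Q25094 : ∀ i, i < 25094 → P i := stepQ 25093 Q25093 (allL N25093 (tt N47577 (iv1 F131855)) (tt N34177 (iv0 F155134)) (tt N12434 F130147) (tt N38302 F311088) (tt N12430 (iv4 D39316)) (tt N47984 D85021) (tt N37062 (iv6 F313369)) (tt N12438 F130148))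
theorem Q25095 : ∀ i, i < 25095 → P i := stepQ 25094 Q25094 (allL N25094 (tt N25221 (iv1 F130331)) (tt N46136 F304096) (tt N12436 F130144) (tt N37439 F311124) (tt N37062 (iv4 F313368)) (tt N23062 F60289) (tt N12430 (iv6 D39318)) (tt N46139 F304101))
theorem Q25096 : ∀ i, i < 25096 → P i := stepQ 25095 Q25095 (allL N25095 (tt N20286 F308005) (tt N20281 (iv0 F310007)) (tt N37451 F308006) (tt N12431 (iv3 D39320)) (tt N25452 F61046) (tt N39881 (iv5 F310017)) (tt N47985 D85029) (tt N12433 F130154))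
theorem Q25097 : ∀ i, i < 25097 → P i := stepQ 25096 Q25096 (allL N25096 (tt N34177 (iv1 F155135)) (tt N47577 (iv0 F131854)) (tt N12438 F130155) (tt N34719 F311074) (tt N12431 (iv4 D39321)) (tt N47986 D85031) (tt N47987 D85032) (tt N12434 F130156))
theorem Q25098 : ∀ i, i < 25098 → P i := stepQ 25097 Q25097 (allL N25097 (tt N37438 F312275) (tt N35422 F130169) (tt N12439 F130157) (tt N39881 F312276) (tt N47988 D85033) (tt N12431 (iv5 D39322)) (tt N40502 (iv6 F314632)) (tt N12435 F130158))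
theorem Q25099 : ∀ i, i < 25099 → P i := stepQ 25098 Q25098 (allL N25098 (tt N47959 F130236) (tt N24344 F130237) (tt N12440 F130159) (tt N47985 (iv3 F130388)) (tt N47987 (iv4 F130393)) (tt N33406 F322190) (tt N12431 (iv6 D39323)) (tt N47958 F130160))
theorem Q25100 : ∀ i, i < 25100 → P i := stepQ 25099 Q25099 (allL N25099 (tt N37451 F308016) (tt N12433 (iv0 D39334)) (tt N20281 (iv2 F310009)) (tt N12453 (iv3 F133058)) (tt N47989 D85051) (tt N20278 (iv5 F310035)) (tt N34236 F210892) (tt N20286 F308017))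
theorem Q25101 : ∀ i, i < 25101 → P i := stepQ 25100 Q25100 (allL N25100 (tt N20281 (iv1 F310008)) (tt N20286 F308002) (tt N12433 (iv2 D39336)) (tt N19036 (iv3 F308997)) (tt N25451 (iv4 F130174)) (tt N19432 (iv5 F310012)) (tt N37514 (iv6 F308995)) (tt N37451 F308003))
theorem Q25102 : ∀ i, i < 25102 → P i := stepQ 25101 Q25101 (allL N25101 (tt N39880 F309918) (tt N39879 (iv0 F311304)) (tt N19432 (iv2 F310011)) (tt N12435 F60306) (tt N47990 D85065) (tt N12433 (iv5 D39338)) (tt N47991 D85066) (tt N39881 (iv7 F310018)))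
theorem Q25103 : ∀ i, i < 25103 → P i := stepQ 25102 Q25102 (allL N25102 (tt N12438 (iv1 F60313)) (tt N12434 (iv0 D39341)) (tt N47577 (iv2 F131829)) (tt N47992 D85072) (tt N25251 F60598) (tt N47993 D85073) (tt N34241 (iv6 F184585)) (tt N34177 (iv7 F155136)))
theorem Q25104 : ∀ i, i < 25104 → P i := stepQ 25103 Q25103 (allL N25103 (tt N47994 D85084) (tt N47995 D85085) (tt N47984 (iv2 F130372)) (tt N37074 F311089) (tt N47996 D85086) (tt N12434 (iv5 D39344)) (tt N37068 (iv6 F313370)) (tt N47986 (iv7 F130391)))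
theorem Q25105 : ∀ i, i < 25105 → P i := stepQ 25104 Q25104 (allL N25104 (tt N12439 (iv1 F60317)) (tt N12435 (iv0 D39347)) (tt N35422 (iv2 F110348)) (tt N35384 (iv3 F190536)) (tt N47997 D85093) (tt N22739 F313588) (tt N47998 D85095) (tt N37438 (iv7 F316166)))
theorem Q25106 : ∀ i, i < 25106 → P i := stepQ 25105 Q25105 (allL N25105 (tt N12435 (iv1 D39348)) (tt N12439 F60314) (tt N37438 (iv2 F316165)) (tt N12448 F110344) (tt N47999 D85096) (tt N22738 F313583) (tt N43215 F110346) (tt N35422 F110347))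
theorem Q25107 : ∀ i, i < 25107 → P i := stepQ 25106 Q25106 (allL N25106 (tt N48000 D85097) (tt N48001 D85098) (tt N37419 F313714) (tt N48002 D85099) (tt N12435 (iv4 D39349)) (tt N48003 D85100) (tt N48004 D85101) (tt N47988 (iv7 F130395)))
theorem Q25108 : ∀ i, i < 25108 → P i := stepQ 25107 Q25107 (allL N25107 (tt N48005 D85102) (tt N48006 D85103) (tt N37437 F313715) (tt N47991 (iv3 F130417)) (tt N48004 (iv4 F130439)) (tt N48007 D85104) (tt N12435 (iv6 D39350)) (tt N48008 D85105))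
theorem Q25109 : ∀ i, i < 25109 → P i := stepQ 25108 Q25108 (allL N25108 (tt N21256 F60318) (tt N23064 F60319) (tt N23062 F130140) (tt N37522 F312191) (tt N48009 D85106) (tt N12436 (iv5 D39354)) (tt N48007 (iv6 F130442)) (tt N23061 F130141))
theorem Q25110 : ∀ i, i < 25110 → P i := stepQ 25109 Q25109 (allL N25109 (tt N46136 F304097) (tt N25221 F130329) (tt N46139 F304102) (tt N19471 F311148) (tt N19282 (iv4 F313371)) (tt N23061 F130138) (tt N47958 F130139) (tt N12436 (iv7 D39355)))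
theorem Q25111 : ∀ i, i < 25111 → P i := stepQ 25110 Q25110 (allL N25110 (tt N43990 (iv1 F199841)) (tt N34325 (iv0 F199842)) (tt N37452 (iv2 F311186)) (tt N12440 F60322) (tt N19439 F311151) (tt N40505 (iv5 F311269)) (tt N12437 (iv6 D39362)) (tt N43989 (iv7 F200214)))
theorem Q25112 : ∀ i, i < 25112 → P i := stepQ 25111 Q25111 (allL N25111 (tt N47069 (iv1 F128218)) (tt N47020 (iv0 F128024)) (tt N47070 (iv2 F272206)) (tt N12438 (iv3 D39363)) (tt N17084 (iv4 F311555)) (tt N48010 D85129) (tt N48011 D85130) (tt N38302 (iv7 F309975)))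
theorem Q25113 : ∀ i, i < 25113 → P i := stepQ 25112 Q25112 (allL N25112 (tt N47995 (iv1 F130429)) (tt N47994 F130428) (tt N47986 (iv2 F130390)) (tt N48010 (iv3 F130465)) (tt N48012 D85131) (tt N12438 (iv5 D39364)) (tt N48013 D85132) (tt N47984 (iv7 F130373)))
theorem Q25114 : ∀ i, i < 25114 → P i := stepQ 25113 Q25113 (allL N25113 (tt N48014 D85133) (tt N47953 F278060) (tt N47987 (iv2 F130392)) (tt N48011 (iv3 F130466)) (tt N12440 F60323) (tt N48015 D85135) (tt N12438 (iv6 D39365)) (tt N48016 D85136))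
theorem Q25115 : ∀ i, i < 25115 → P i := stepQ 25114 Q25114 (allL N25114 (tt N48001 (iv1 F130438)) (tt N48000 F130437) (tt N47988 (iv2 F130394)) (tt N20045 (iv3 F316105)) (tt N12439 (iv4 D39366)) (tt N48017 D85138) (tt N40499 (iv6 F316107)) (tt N37419 F313602))
theorem Q25116 : ∀ i, i < 25116 → P i := stepQ 25115 Q25115 (allL N25115 (tt N47958 F130162) (tt N12440 (iv0 D39368)) (tt N47959 (iv2 F130176)) (tt N12460 F130163) (tt N47412 (iv4 F201139)) (tt N34050 F130165) (tt N34249 F130166) (tt N24344 F130167))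
theorem Q25117 : ∀ i, i < 25117 → P i := stepQ 25116 Q25116 (allL N25116 (tt N22155 (iv1 F130474)) (tt N33399 F321237) (tt N33406 F322183) (tt N40505 F313617) (tt N48018 D85144) (tt N12440 (iv5 D39370)) (tt N40503 (iv6 F316108)) (tt N33407 F322184))
theorem Q25118 : ∀ i, i < 25118 → P i := stepQ 25117 Q25117 (allL N25117 (tt N24344 F130234) (tt N47959 F130235) (tt N47958 (iv2 F130161)) (tt N43989 (iv3 F200213)) (tt N48016 (iv4 F130467)) (tt N33407 F322200) (tt N46139 F304111) (tt N12440 (iv7 D39371)))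
theorem Q25119 : ∀ i, i < 25119 → P i := stepQ 25118 Q25118 (allL N25118 (tt N44417 F315026) (tt N12441 (iv0 D39382)) (tt N44419 (iv2 F315457)) (tt N48019 D85188) (tt N39942 F315027) (tt N48020 D85190) (tt N40604 F323217) (tt N44418 (iv7 F315843)))
theorem Q25120 : ∀ i, i < 25120 → P i := stepQ 25119 Q25119 (allL N25119 (tt N12441 (iv1 D39383)) (tt N44417 F314366) (tt N44418 (iv2 F315841)) (tt N44236 (iv3 F316718)) (tt N48021 D85194) (tt N48022 D85195) (tt N48023 D85196) (tt N44419 (iv7 F315458)))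
theorem Q25121 : ∀ i, i < 25121 → P i := stepQ 25120 Q25120 (allL N25120 (tt N48024 D85197) (tt N48025 D85198) (tt N48026 D85199) (tt N12441 (iv3 D39384)) (tt N12471 F60326) (tt N48027 D85200) (tt N34269 (iv6 F87042)) (tt N44420 (iv7 F318283)))
theorem Q25122 : ∀ i, i < 25122 → P i := stepQ 25121 Q25121 (allL N25121 (tt N48028 D85202) (tt N48029 D85203) (tt N44424 (iv2 F318295)) (tt N48027 (iv3 F130525)) (tt N48030 D85204) (tt N12441 (iv5 D39385)) (tt N48031 D85205) (tt N44421 (iv7 F318285)))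
theorem Q25123 : ∀ i, i < 25123 → P i := stepQ 25122 Q25122 (allL N25122 (tt N43193 (iv1 F199892)) (tt N43192 (iv0 F199894)) (tt N35431 (iv2 F199643)) (tt N21002 F313246) (tt N12442 (iv4 D39390)) (tt N48032 D85217) (tt N34331 (iv6 F199901)) (tt N33924 F199862))
theorem Q25124 : ∀ i, i < 25124 → P i := stepQ 25123 Q25123 (allL N25123 (tt N35434 (iv1 F92290)) (tt N34278 (iv0 F155138)) (tt N12444 F60331) (tt N48033 D85244) (tt N12443 (iv4 D39398)) (tt N45986 F323618) (tt N48033 F303111) (tt N35432 (iv7 F92279)))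
theorem Q25125 : ∀ i, i < 25125 → P i := stepQ 25124 Q25124 (allL N25124 (tt N22772 F311907) (tt N15298 F311908) (tt N12445 F60332) (tt N35416 (iv3 F92234)) (tt N48034 D85247) (tt N12443 (iv5 D39399)) (tt N48035 D85248) (tt N22771 (iv7 F316050)))
theorem Q25126 : ∀ i, i < 25126 → P i := stepQ 25125 Q25125 (allL N25125 (tt N34289 (iv1 F199910)) (tt N44043 (iv0 F199911)) (tt N12446 F60333) (tt N35415 (iv3 F305198)) (tt N48033 F304125) (tt N46098 (iv5 F199914)) (tt N12443 (iv6 D39400)) (tt N48036 D85252))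
theorem Q25127 : ∀ i, i < 25127 → P i := stepQ 25126 Q25126 (allL N25126 (tt N35432 (iv1 F92281)) (tt N12444 (iv0 D39401)) (tt N35434 (iv2 F131860)) (tt N47578 F129191) (tt N48037 D85254) (tt N48038 D85255) (tt N34335 (iv6 F184598)) (tt N34278 (iv7 F155140)))
theorem Q25128 : ∀ i, i < 25128 → P i := stepQ 25127 Q25127 (allL N25127 (tt N48039 D85265) (tt N45527 F305096) (tt N48033 (iv2 F302755)) (tt N25501 F299923) (tt N12446 F60334) (tt N34679 F322714) (tt N12444 (iv6 D39404)) (tt N45562 (iv7 F300350)))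
theorem Q25129 : ∀ i, i < 25129 → P i := stepQ 25128 Q25128 (allL N25128 (tt N12445 (iv1 D39406)) (tt N22771 F311911) (tt N15298 F311912) (tt N22759 F311913) (tt N48040 D85276) (tt N40039 F311914) (tt N34147 (iv6 F199938)) (tt N22772 F311915))
theorem Q25130 : ∀ i, i < 25130 → P i := stepQ 25129 Q25129 (allL N25129 (tt N48041 D85279) (tt N48042 D85280) (tt N48034 (iv2 F130556)) (tt N37264 (iv3 F316057)) (tt N12445 (iv4 D39407)) (tt N48043 D85282) (tt N48044 D85283) (tt N35437 (iv7 F92295)))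
theorem Q25131 : ∀ i, i < 25131 → P i := stepQ 25130 Q25130 (allL N25130 (tt N48045 D85284) (tt N48046 D85285) (tt N48035 (iv2 F130557)) (tt N12450 F60335) (tt N48044 (iv4 F130578)) (tt N48047 D85286) (tt N12445 (iv6 D39408)) (tt N48048 D85287))
theorem Q25132 : ∀ i, i < 25132 → P i := stepQ 25131 Q25131 (allL N25131 (tt N48036 (iv1 F130568)) (tt N12446 (iv0 D39409)) (tt N34289 (iv2 F199939)) (tt N46110 (iv3 F199941)) (tt N48049 D85290) (tt N44874 (iv5 F199942)) (tt N34274 (iv6 F199943)) (tt N44043 (iv7 F199945)))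
theorem Q25133 : ∀ i, i < 25133 → P i := stepQ 25132 Q25132 (allL N25132 (tt N12446 (iv1 D39410)) (tt N48036 F130567) (tt N44043 (iv2 F199944)) (tt N48050 D85294) (tt N28793 (iv4 F306170)) (tt N44875 (iv5 F199946)) (tt N28792 F304068) (tt N34289 (iv7 F199940)))
theorem Q25134 : ∀ i, i < 25134 → P i := stepQ 25133 Q25133 (allL N25133 (tt N21207 (iv1 F199948)) (tt N46100 (iv0 F199949)) (tt N46098 (iv2 F199912)) (tt N12451 F60336) (tt N48051 D85300) (tt N12446 (iv5 D39411)) (tt N48047 (iv6 F130580)) (tt N23072 (iv7 F60337)))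
theorem Q25135 : ∀ i, i < 25135 → P i := stepQ 25134 Q25134 (allL N25134 (tt N44043 F199934) (tt N34289 F199935) (tt N48036 (iv2 F130564)) (tt N12452 F60338) (tt N45562 F302833) (tt N23072 F60339) (tt N35440 (iv6 F92299)) (tt N12446 (iv7 D39412)))
theorem Q25136 : ∀ i, i < 25136 → P i := stepQ 25135 Q25135 (allL N25135 (tt N35371 (iv1 F190864)) (tt N35367 (iv0 F190639)) (tt N35384 F190593) (tt N12447 (iv3 D39413)) (tt N48052 D85303) (tt N22027 F60340) (tt N48053 D85304) (tt N35385 (iv7 F190642)))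
theorem Q25137 : ∀ i, i < 25137 → P i := stepQ 25136 Q25136 (allL N25136 (tt N12514 F60341) (tt N12491 F60342) (tt N35423 (iv2 F92255)) (tt N48054 D85305) (tt N12447 (iv4 D39414)) (tt N48055 D85306) (tt N48056 D85307) (tt N35425 (iv7 F92263)))
theorem Q25138 : ∀ i, i < 25138 → P i := stepQ 25137 Q25137 (allL N25137 (tt N42330 F106004) (tt N41279 F322115) (tt N35424 (iv2 F92259)) (tt N48053 (iv3 F130587)) (tt N48056 (iv4 F130594)) (tt N22028 F60343) (tt N12447 (iv6 D39415)) (tt N44071 (iv7 F110807)))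
theorem Q25139 : ∀ i, i < 25139 → P i := stepQ 25138 Q25138 (allL N25138 (tt N12491 F60344) (tt N12514 F60345) (tt N35425 (iv2 F92262)) (tt N48057 D85309) (tt N12448 (iv4 D39417)) (tt N48058 D85310) (tt N42879 (iv6 F108327)) (tt N35423 (iv7 F92256)))
theorem Q25140 : ∀ i, i < 25140 → P i := stepQ 25139 Q25139 (allL N25139 (tt N17365 F60352) (tt N17949 F60349) (tt N22029 F60346) (tt N22738 F313580) (tt N12497 F60348) (tt N12448 (iv5 D39418)) (tt N22025 (iv6 F60351)) (tt N17093 F60347))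
theorem Q25141 : ∀ i, i < 25141 → P i := stepQ 25140 Q25140 (allL N25140 (tt N12458 (iv1 F60354)) (tt N12449 (iv0 D39419)) (tt N25208 (iv2 F60476)) (tt N48059 D85311) (tt N17969 F60353) (tt N42614 (iv5 F106519)) (tt N48060 D85312) (tt N25211 (iv7 F60482)))
theorem Q25142 : ∀ i, i < 25142 → P i := stepQ 25141 Q25141 (allL N25141 (tt N12449 (iv1 D39420)) (tt N12458 F60355) (tt N25211 (iv2 F60481)) (tt N47547 F313970) (tt N17970 F60356) (tt N44913 (iv5 F113917)) (tt N44069 F113922) (tt N25208 (iv7 F60477)))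
theorem Q25143 : ∀ i, i < 25143 → P i := stepQ 25142 Q25142 (allL N25142 (tt N48061 D85314) (tt N48062 D85315) (tt N48063 D85316) (tt N12449 (iv3 D39421)) (tt N37264 F318269) (tt N44890 (iv5 F113840)) (tt N48064 D85317) (tt N35441 (iv7 F92300)))
theorem Q25144 : ∀ i, i < 25144 → P i := stepQ 25143 Q25143 (allL N25143 (tt N35286 F313781) (tt N47814 F313782) (tt N35427 (iv2 F92267)) (tt N48064 (iv3 F130601)) (tt N12450 F60357) (tt N31954 F324467) (tt N12449 (iv6 D39422)) (tt N47813 F313783))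
theorem Q25145 : ∀ i, i < 25145 → P i := stepQ 25144 Q25144 (allL N25144 (tt N35430 (iv1 F92274)) (tt N12450 (iv0 D39423)) (tt N35428 (iv2 F106002)) (tt N48065 D85322) (tt N23714 F311447) (tt N44593 F112640) (tt N23713 F311448) (tt N35429 F106001))
theorem Q25146 : ∀ i, i < 25146 → P i := stepQ 25145 Q25145 (allL N25145 (tt N12450 (iv1 D39424)) (tt N35430 F92273) (tt N35429 F105999) (tt N48006 (iv3 F183647)) (tt N32080 (iv4 F319480)) (tt N44592 (iv5 F112635)) (tt N42327 (iv6 F105997)) (tt N35428 (iv7 F106000)))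
theorem Q25147 : ∀ i, i < 25147 → P i := stepQ 25146 Q25146 (allL N25146 (tt N44098 F112649) (tt N44100 (iv0 F110839)) (tt N23077 F60358) (tt N48047 (iv3 F130579)) (tt N48066 D85326) (tt N12450 (iv5 D39425)) (tt N12451 F60359) (tt N48067 D85327))
theorem Q25148 : ∀ i, i < 25148 → P i := stepQ 25147 Q25147 (allL N25147 (tt N35429 (iv1 F92269)) (tt N35428 F92272) (tt N35430 (iv2 F92270)) (tt N48048 (iv3 F130581)) (tt N47813 F313878) (tt N48067 (iv5 F130606)) (tt N33552 F318446) (tt N12450 (iv7 D39426)))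
theorem Q25149 : ∀ i, i < 25149 → P i := stepQ 25148 Q25148 (allL N25148 (tt N21526 F60363) (tt N36649 (iv0 F94949)) (tt N23076 F60360) (tt N48068 D85328) (tt N12451 (iv4 D39428)) (tt N17937 F60362) (tt N48066 (iv6 F130604)) (tt N23073 F60361))
theorem Q25150 : ∀ i, i < 25150 → P i := stepQ 25149 Q25149 (allL N25149 (tt N42977 (iv1 F232402)) (tt N42976 (iv0 F232405)) (tt N35413 (iv2 F133071)) (tt N25205 F305192) (tt N12453 (iv4 D39436)) (tt N48069 D85364) (tt N34348 F210893) (tt N33982 (iv7 F232407)))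
theorem Q25151 : ∀ i, i < 25151 → P i := stepQ 25150 Q25150 (allL N25150 (tt N12466 (iv1 F200371)) (tt N35443 (iv0 F200372)) (tt N35414 (iv2 F133073)) (tt N20278 F312293) (tt N48070 D85366) (tt N12453 (iv5 D39437)) (tt N48071 D85367) (tt N20284 F312294))
theorem Q25152 : ∀ i, i < 25152 → P i := stepQ 25151 Q25151 (allL N25151 (tt N34307 F199773) (tt N35417 F92240) (tt N12455 F60366) (tt N48036 (iv3 F305190)) (tt N12454 (iv4 D39439)) (tt N45219 (iv5 F306225)) (tt N40971 F318564) (tt N35415 (iv7 F92230)))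
theorem Q25153 : ∀ i, i < 25153 → P i := stepQ 25152 Q25152 (allL N25152 (tt N35419 (iv1 F92246)) (tt N35418 F92245) (tt N12456 F60367) (tt N22771 F312285) (tt N39866 (iv4 F313387)) (tt N12454 (iv5 D39440)) (tt N48072 D85376) (tt N35416 (iv7 F92235)))
theorem Q25154 : ∀ i, i < 25154 → P i := stepQ 25153 Q25153 (allL N25153 (tt N44011 (iv1 F232901)) (tt N34314 F232600) (tt N12457 F60368) (tt N35433 (iv3 F92288)) (tt N40971 F318563) (tt N40762 (iv5 F320540)) (tt N12454 (iv6 D39441)) (tt N40971 F318560))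
theorem Q25155 : ∀ i, i < 25155 → P i := stepQ 25154 Q25154 (allL N25154 (tt N45221 (iv1 F306229)) (tt N21986 (iv0 F305183)) (tt N45219 (iv2 F306224)) (tt N17420 F304128) (tt N41707 F324591) (tt N12455 (iv5 D39444)) (tt N48073 D85393) (tt N23075 (iv7 F305201)))
theorem Q25156 : ∀ i, i < 25156 → P i := stepQ 25155 Q25155 (allL N25155 (tt N34314 (iv1 F305697)) (tt N44011 (iv0 F306231)) (tt N40971 F318561) (tt N12461 F304129) (tt N12457 F60369) (tt N33369 (iv5 F316290)) (tt N12455 (iv6 D39445)) (tt N12457 F304130))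
theorem Q25157 : ∀ i, i < 25157 → P i := stepQ 25156 Q25156 (allL N25156 (tt N35416 (iv1 F92237)) (tt N12456 (iv0 D39446)) (tt N35419 F232630) (tt N48074 D85399) (tt N48075 D85400) (tt N48076 D85401) (tt N48077 D85402) (tt N35418 F232631))
theorem Q25158 : ∀ i, i < 25158 → P i := stepQ 25157 Q25157 (allL N25157 (tt N12456 (iv1 D39447)) (tt N35416 F92236) (tt N35418 (iv2 F232628)) (tt N39880 F310066) (tt N48078 D85405) (tt N21993 F305193) (tt N48079 D85407) (tt N35419 (iv7 F232629)))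
theorem Q25159 : ∀ i, i < 25159 → P i := stepQ 25158 Q25158 (allL N25158 (tt N39867 F311113) (tt N22678 F311114) (tt N39866 F315845) (tt N43701 F327047) (tt N12456 (iv4 D39448)) (tt N43695 (iv5 F327598)) (tt N43697 F327048) (tt N35420 (iv7 F92247)))
theorem Q25160 : ∀ i, i < 25160 → P i := stepQ 25159 Q25159 (allL N25159 (tt N48080 D85413) (tt N44056 (iv0 F232947)) (tt N48072 (iv2 F130641)) (tt N12459 F60370) (tt N43697 F327046) (tt N40763 (iv5 F319186)) (tt N12456 (iv6 D39449)) (tt N41563 (iv7 F320497)))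
theorem Q25161 : ∀ i, i < 25161 → P i := stepQ 25160 Q25160 (allL N25160 (tt N40971 F318559) (tt N12457 (iv0 D39450)) (tt N44011 (iv2 F232902)) (tt N48081 D85418) (tt N48082 D85419) (tt N34025 (iv5 F232886)) (tt N34309 F305194) (tt N34314 (iv7 F232887)))
theorem Q25162 : ∀ i, i < 25162 → P i := stepQ 25161 Q25161 (allL N25161 (tt N12457 (iv1 D39451)) (tt N40971 (iv0 F316288)) (tt N34314 F232888) (tt N47941 (iv3 F232889)) (tt N48083 D85424) (tt N34026 (iv5 F232890)) (tt N34303 (iv6 F232891)) (tt N44011 (iv7 F232904)))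
theorem Q25163 : ∀ i, i < 25163 → P i := stepQ 25162 Q25162 (allL N25162 (tt N48084 D85431) (tt N48085 D85432) (tt N48086 D85433) (tt N12458 (iv3 D39454)) (tt N43701 (iv4 F326221)) (tt N44887 (iv5 F113834)) (tt N43711 F325324) (tt N35426 (iv7 F92266)))
theorem Q25164 : ∀ i, i < 25164 → P i := stepQ 25163 Q25163 (allL N25163 (tt N23602 F322593) (tt N23609 (iv0 F323715)) (tt N35442 (iv2 F92301)) (tt N43711 (iv3 F324108)) (tt N12459 F60373) (tt N24100 F322594) (tt N12458 (iv6 D39455)) (tt N40490 (iv7 F320499)))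
theorem Q25165 : ∀ i, i < 25165 → P i := stepQ 25164 Q25164 (allL N25164 (tt N48087 D85457) (tt N48088 D85458) (tt N44411 F314308) (tt N48089 D85459) (tt N12462 (iv4 D39465)) (tt N48090 D85460) (tt N20643 F319063) (tt N35449 (iv7 F92345)))
theorem Q25166 : ∀ i, i < 25166 → P i := stepQ 25165 Q25165 (allL N25165 (tt N20294 F309704) (tt N33946 (iv0 F131025)) (tt N44412 F309705) (tt N12464 F60383) (tt N46372 F301199) (tt N12462 (iv5 D39466)) (tt N43337 (iv6 F131014)) (tt N34449 F87560))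
theorem Q25167 : ∀ i, i < 25167 → P i := stepQ 25166 Q25166 (allL N25166 (tt N12467 (iv1 F60387)) (tt N12463 (iv0 D39468)) (tt N25202 (iv2 F60461)) (tt N48091 D85468) (tt N17965 F60386) (tt N21811 F60385) (tt N48092 D85469) (tt N18623 F60388))
theorem Q25168 : ∀ i, i < 25168 → P i := stepQ 25167 Q25167 (allL N25167 (tt N48093 D85470) (tt N48094 D85471) (tt N48095 D85472) (tt N12463 (iv3 D39469)) (tt N48089 (iv4 F130680)) (tt N44883 (iv5 F113820)) (tt N48096 D85473) (tt N35451 (iv7 F92347)))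
theorem Q25169 : ∀ i, i < 25169 → P i := stepQ 25168 Q25168 (allL N25168 (tt N36207 F319060) (tt N19426 F320298) (tt N35446 (iv2 F92330)) (tt N48096 (iv3 F130689)) (tt N12465 F60389) (tt N37088 (iv5 F322004)) (tt N12463 (iv6 D39470)) (tt N36213 (iv7 F319585)))
theorem Q25170 : ∀ i, i < 25170 → P i := stepQ 25169 Q25169 (allL N25169 (tt N35448 (iv1 F92338)) (tt N12465 (iv0 D39471)) (tt N16761 F319053) (tt N48097 D85479) (tt N18330 F319054) (tt N40644 F316383) (tt N34379 F113844) (tt N35447 (iv7 F185082)))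
theorem Q25171 : ∀ i, i < 25171 → P i := stepQ 25170 Q25170 (allL N25170 (tt N12465 (iv1 D39472)) (tt N35448 F92337) (tt N35447 (iv2 F185081)) (tt N16765 F319055) (tt N18331 F319056) (tt N40646 F319831) (tt N43330 (iv6 F185041)) (tt N16761 F319057))
theorem Q25172 : ∀ i, i < 25172 → P i := stepQ 25171 Q25171 (allL N25171 (tt N35447 (iv1 F92332)) (tt N16761 F319061) (tt N35448 (iv2 F92333)) (tt N16753 F319062) (tt N36213 (iv4 F319584)) (tt N20751 (iv5 F311573)) (tt N35454 (iv6 F92355)) (tt N12465 (iv7 D39473)))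
theorem Q25173 : ∀ i, i < 25173 → P i := stepQ 25172 Q25172 (allL N25172 (tt N20284 F312289) (tt N35414 (iv0 F200358)) (tt N12466 (iv2 D39476)) (tt N20266 F312290) (tt N44386 (iv4 F314654)) (tt N43078 (iv5 F232449)) (tt N48098 D85498) (tt N35443 (iv7 F92321)))
theorem Q25174 : ∀ i, i < 25174 → P i := stepQ 25173 Q25173 (allL N25173 (tt N44387 F316919) (tt N20236 F316920) (tt N44386 F316921) (tt N48099 D85501) (tt N12466 (iv4 D39477)) (tt N48100 D85502) (tt N48101 D85503) (tt N35444 (iv7 F92325)))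
theorem Q25175 : ∀ i, i < 25175 → P i := stepQ 25174 Q25174 (allL N25174 (tt N48102 D85504) (tt N48103 D85505) (tt N48098 (iv2 F130699)) (tt N12468 F60390) (tt N48101 (iv4 F130706)) (tt N43992 F313853) (tt N12466 (iv6 D39478)) (tt N48104 D85506))
theorem Q25176 : ∀ i, i < 25176 → P i := stepQ 25175 Q25175 (allL N25175 (tt N30475 F321287) (tt N48105 D85508) (tt N48106 D85509) (tt N12467 (iv3 D39479)) (tt N48099 (iv4 F130705)) (tt N44880 (iv5 F113812)) (tt N45753 F313852) (tt N35445 (iv7 F92329)))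
theorem Q25177 : ∀ i, i < 25177 → P i := stepQ 25176 Q25176 (allL N25176 (tt N35454 (iv1 F92360)) (tt N12468 (iv0 D39481)) (tt N35452 (iv2 F189540)) (tt N44434 F316174) (tt N45765 (iv4 F311560)) (tt N30512 F87387) (tt N48107 D85518) (tt N35453 (iv7 F189535)))
theorem Q25178 : ∀ i, i < 25178 → P i := stepQ 25177 Q25177 (allL N25177 (tt N12468 (iv1 D39482)) (tt N35454 F92357) (tt N35453 (iv2 F189534)) (tt N48108 D85520) (tt N45766 (iv4 F311559)) (tt N30513 F92358) (tt N34371 (iv6 F92359)) (tt N35452 (iv7 F189541)))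
theorem Q25179 : ∀ i, i < 25179 → P i := stepQ 25178 Q25178 (allL N25178 (tt N35453 (iv1 F92351)) (tt N35452 F92356) (tt N35454 (iv2 F92354)) (tt N48104 (iv3 F130707)) (tt N24985 F311391) (tt N21721 (iv5 F311836)) (tt N35448 (iv6 F92335)) (tt N12468 (iv7 D39483)))
theorem Q25180 : ∀ i, i < 25180 → P i := stepQ 25179 Q25179 (allL N25179 (tt N48109 D85531) (tt N48110 D85532) (tt N48111 D85533) (tt N12470 (iv3 D39486)) (tt N48112 D85534) (tt N44914 (iv5 F113958)) (tt N45764 F316253) (tt N35455 (iv7 F92361)))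
theorem Q25181 : ∀ i, i < 25181 → P i := stepQ 25180 Q25180 (allL N25180 (tt N48113 D85540) (tt N12471 (iv0 D39488)) (tt N48114 D85541) (tt N48115 D85542) (tt N44256 F325780) (tt N48116 D85544) (tt N48117 D85545) (tt N48118 D85546))
theorem Q25182 : ∀ i, i < 25182 → P i := stepQ 25181 Q25181 (allL N25181 (tt N12471 (iv1 D39489)) (tt N48113 F130718) (tt N48118 (iv2 F130720)) (tt N48119 D85547) (tt N44257 (iv4 F321540)) (tt N48120 D85549) (tt N48121 D85550) (tt N48114 F130719))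
theorem Q25183 : ∀ i, i < 25183 → P i := stepQ 25182 Q25182 (allL N25182 (tt N48114 (iv1 F351391)) (tt N48118 (iv0 F351392)) (tt N12471 (iv2 D39490)) (tt N35458 (iv3 F92367)) (tt N48026 (iv4 F130524)) (tt N48122 D85553) (tt N34387 (iv6 F87428)) (tt N48113 (iv7 F130717)))
theorem Q25184 : ∀ i, i < 25184 → P i := stepQ 25183 Q25183 (allL N25183 (tt N48123 D85554) (tt N48124 D85555) (tt N48122 (iv2 F130723)) (tt N12472 F60392) (tt N48125 D85556) (tt N12471 (iv5 D39491)) (tt N48126 D85557) (tt N34563 (iv7 F87857)))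
theorem Q25185 : ∀ i, i < 25185 → P i := stepQ 25184 Q25184 (allL N25184 (tt N48118 F351393) (tt N48114 F351394) (tt N48113 F130716) (tt N12473 F60393) (tt N44420 (iv4 F318282)) (tt N34563 (iv5 F87855)) (tt N48127 D85558) (tt N12471 (iv7 D39492)))
theorem Q25186 : ∀ i, i < 25186 → P i := stepQ 25185 Q25185 (allL N25185 (tt N48128 D85559) (tt N48129 D85560) (tt N35461 (iv2 F92373)) (tt N48126 (iv3 F130724)) (tt N34564 (iv4 F87859)) (tt N21472 F60394) (tt N12472 (iv6 D39493)) (tt N41691 (iv7 F104745)))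
theorem Q25187 : ∀ i, i < 25187 → P i := stepQ 25186 Q25186 (allL N25186 (tt N42341 (iv1 F106017)) (tt N42340 F106016) (tt N35462 (iv2 F92376)) (tt N48127 (iv3 F130726)) (tt N12474 F60395) (tt N42416 (iv5 F106156)) (tt N12473 (iv6 D39494)) (tt N22569 F60396))
theorem Q25188 : ∀ i, i < 25188 → P i := stepQ 25187 Q25187 (allL N25187 (tt N19071 (iv1 F310647)) (tt N19080 (iv0 F310648)) (tt N22808 (iv2 F310646)) (tt N12475 (iv3 D39510)) (tt N45581 F117108) (tt N19002 (iv5 F310649)) (tt N46528 (iv6 F125277)) (tt N27697 (iv7 F116726)))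
theorem Q25189 : ∀ i, i < 25189 → P i := stepQ 25188 Q25188 (allL N25188 (tt N15246 (iv1 F311353)) (tt N15241 (iv0 F311352)) (tt N19059 F310016) (tt N12476 (iv3 D39538)) (tt N35193 (iv4 F301087)) (tt N19051 (iv5 F310459)) (tt N35186 F298449) (tt N35494 (iv7 F92536)))
theorem Q25190 : ∀ i, i < 25190 → P i := stepQ 25189 Q25189 (allL N25189 (tt N19067 (iv1 F311866)) (tt N48130 D85577) (tt N38318 F309866) (tt N12478 (iv3 D39543)) (tt N47020 (iv4 F128022)) (tt N21572 (iv5 F312061)) (tt N47696 (iv6 F129506)) (tt N27588 F70571))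
theorem Q25191 : ∀ i, i < 25191 → P i := stepQ 25190 Q25190 (allL N25190 (tt N12629 F297099) (tt N12479 (iv0 D39554)) (tt N12631 F297100) (tt N48131 D85618) (tt N12596 F297101) (tt N36417 (iv5 F311220)) (tt N35289 F131261) (tt N12593 F297102))
theorem Q25192 : ∀ i, i < 25192 → P i := stepQ 25191 Q25191 (allL N25191 (tt N12634 (iv1 F296471)) (tt N12638 (iv0 F296472)) (tt N24249 (iv2 F296448)) (tt N48132 D85627) (tt N12480 (iv4 D39559)) (tt N22816 (iv5 F308245)) (tt N12599 F296094) (tt N25196 F117018))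
theorem Q25193 : ∀ i, i < 25193 → P i := stepQ 25192 Q25192 (allL N25192 (tt N12638 F297696) (tt N12634 F297697) (tt N25196 F117019) (tt N27729 (iv3 F311830)) (tt N12481 (iv4 D39564)) (tt N22181 F310631) (tt N17879 F116822) (tt N24249 F297698))
theorem Q25194 : ∀ i, i < 25194 → P i := stepQ 25193 Q25193 (allL N25193 (tt N37528 F305214) (tt N37529 (iv0 F307128)) (tt N37530 (iv2 F307127)) (tt N12482 (iv3 D39569)) (tt N12498 F60442) (tt N19489 (iv5 F307136)) (tt N41451 (iv6 F307137)) (tt N19488 (iv7 F307126)))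
theorem Q25195 : ∀ i, i < 25195 → P i := stepQ 25194 Q25194 (allL N25194 (tt N38334 (iv1 F311167)) (tt N27741 (iv0 F71282)) (tt N25462 (iv2 F297813)) (tt N19489 F309004) (tt N22179 (iv4 F311168)) (tt N12482 (iv5 D39570)) (tt N37500 (iv6 F311169)) (tt N19485 (iv7 F309995)))
theorem Q25196 : ∀ i, i < 25196 → P i := stepQ 25195 Q25195 (allL N25195 (tt N24945 F125441) (tt N24195 (iv0 F299201)) (tt N25463 (iv2 F297814)) (tt N41451 F309005) (tt N12483 F60445) (tt N42640 (iv5 F309247)) (tt N12482 (iv6 D39571)) (tt N17978 F60446))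
theorem Q25197 : ∀ i, i < 25197 → P i := stepQ 25196 Q25196 (allL N25196 (tt N25401 (iv1 F297105)) (tt N25400 (iv0 F297103)) (tt N25192 (iv2 F117019)) (tt N48133 D85652) (tt N12484 (iv4 D39576)) (tt N22199 (iv5 F310264)) (tt N35291 F117020) (tt N25191 (iv7 F117018)))
theorem Q25198 : ∀ i, i < 25198 → P i := stepQ 25197 Q25197 (allL N25197 (tt N12651 (iv1 F60451)) (tt N12485 (iv0 D39584)) (tt N12653 (iv2 F191217)) (tt N35108 F90868) (tt N48134 D85660) (tt N44317 (iv5 F309913)) (tt N42715 (iv6 F194694)) (tt N12652 (iv7 F191209)))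
theorem Q25199 : ∀ i, i < 25199 → P i := stepQ 25198 Q25198 (allL N25198 (tt N12485 (iv1 D39585)) (tt N12651 F60454) (tt N12652 (iv2 F191208)) (tt N42533 (iv3 F198148)) (tt N44496 (iv4 F309909)) (tt N48135 D85666) (tt N42611 (iv6 F215739)) (tt N12653 (iv7 F191218)))
theorem Q25200 : ∀ i, i < 25200 → P i := stepQ 25199 Q25199 (allL N25199 (tt N12653 (iv1 F60455)) (tt N12652 F60453) (tt N12485 (iv2 D39586)) (tt N35473 (iv3 F92453)) (tt N48136 D85668) (tt N39343 (iv5 F309916)) (tt N29784 (iv6 F77292)) (tt N12651 F60452))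
theorem Q25201 : ∀ i, i < 25201 → P i := stepQ 25200 Q25200 (allL N25200 (tt N48137 D85670) (tt N19057 F306060) (tt N48136 (iv2 F131383)) (tt N12631 F60456) (tt N12485 (iv4 D39587)) (tt N36461 (iv5 F307184)) (tt N29803 (iv6 F77357)) (tt N12624 F60457))
theorem Q25202 : ∀ i, i < 25202 → P i := stepQ 25201 Q25201 (allL N25201 (tt N39975 F310005) (tt N48138 D85673) (tt N39343 F310006) (tt N12486 F60459) (tt N39341 (iv4 F312267)) (tt N12485 (iv5 D39588)) (tt N48139 D85675) (tt N12654 F60460))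
theorem Q25203 : ∀ i, i < 25203 → P i := stepQ 25202 Q25202 (allL N25202 (tt N17952 F60464) (tt N17948 F60465) (tt N25166 F60461) (tt N48140 D85676) (tt N12486 (iv4 D39589)) (tt N21526 F60463) (tt N48141 D85677) (tt N12657 F60462))
theorem Q25204 : ∀ i, i < 25204 → P i := stepQ 25203 Q25203 (allL N25203 (tt N36384 (iv1 F94466)) (tt N36383 F94465) (tt N35476 (iv2 F92465)) (tt N48139 (iv3 F131405)) (tt N48141 (iv4 F131410)) (tt N29748 (iv5 F77159)) (tt N12486 (iv6 D39590)) (tt N23156 F60466))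
theorem Q25205 : ∀ i, i < 25205 → P i := stepQ 25204 Q25204 (allL N25204 (tt N25224 (iv1 F60529)) (tt N25223 F60526) (tt N12488 F60472) (tt N25268 (iv3 F60609)) (tt N19062 F307135) (tt N21119 (iv5 F199766)) (tt N12487 (iv6 D39602)) (tt N25225 (iv7 F60527)))
theorem Q25206 : ∀ i, i < 25206 → P i := stepQ 25205 Q25205 (allL N25205 (tt N25225 (iv1 F60528)) (tt N12488 (iv0 D39607)) (tt N25224 F199826) (tt N25149 (iv3 F305192)) (tt N37488 F310450) (tt N44911 (iv5 F199784)) (tt N33816 (iv6 F199785)) (tt N25223 F199827))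
theorem Q25207 : ∀ i, i < 25207 → P i := stepQ 25206 Q25206 (allL N25206 (tt N12488 (iv1 D39608)) (tt N25225 F60530) (tt N25223 F199828) (tt N27746 (iv3 F305061)) (tt N37489 F307008) (tt N21096 (iv5 F199786)) (tt N27743 F302717) (tt N25224 F199829))
theorem Q25208 : ∀ i, i < 25208 → P i := stepQ 25207 Q25207 (allL N25207 (tt N44317 F312124) (tt N48135 (iv0 F191371)) (tt N48142 D85755) (tt N12489 (iv3 D39610)) (tt N48143 D85756) (tt N21822 F60475) (tt N48144 D85757) (tt N35484 (iv7 F92485)))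
theorem Q25209 : ∀ i, i < 25209 → P i := stepQ 25208 Q25208 (allL N25208 (tt N17944 F60478) (tt N17937 F60479) (tt N25140 F60476) (tt N48145 D85758) (tt N12489 (iv4 D39611)) (tt N44878 (iv5 F113804)) (tt N48146 D85759) (tt N25141 F60477))
theorem Q25210 : ∀ i, i < 25210 → P i := stepQ 25209 Q25209 (allL N25209 (tt N48147 D85760) (tt N20397 (iv0 F313990)) (tt N35483 (iv2 F92483)) (tt N48144 (iv3 F131492)) (tt N48146 (iv4 F131496)) (tt N21823 F60480) (tt N12489 (iv6 D39612)) (tt N42875 (iv7 F107514)))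
theorem Q25211 : ∀ i, i < 25211 → P i := stepQ 25210 Q25210 (allL N25210 (tt N36613 (iv1 F201230)) (tt N36616 (iv0 F201231)) (tt N48148 D85764) (tt N12490 (iv3 D39613)) (tt N48149 D85765) (tt N46239 (iv5 F122606)) (tt N42876 (iv6 F107516)) (tt N35482 (iv7 F92482)))
theorem Q25212 : ∀ i, i < 25212 → P i := stepQ 25211 Q25211 (allL N25211 (tt N17937 F60483) (tt N17944 F60484) (tt N25141 F60481) (tt N48150 D85766) (tt N12490 (iv4 D39614)) (tt N44879 (iv5 F113810)) (tt N42877 (iv6 F107517)) (tt N25140 F60482))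
theorem Q25213 : ∀ i, i < 25213 → P i := stepQ 25212 Q25212 (allL N25212 (tt N23714 F311444) (tt N32080 F321464) (tt N35486 (iv2 F92487)) (tt N37008 F316487) (tt N12492 F60485) (tt N31959 (iv5 F322523)) (tt N12491 (iv6 D39616)) (tt N48151 D85774))
theorem Q25214 : ∀ i, i < 25214 → P i := stepQ 25213 Q25213 (allL N25213 (tt N35489 (iv1 F92497)) (tt N12492 (iv0 D39617)) (tt N35487 (iv2 F131540)) (tt N48152 D85776) (tt N24993 (iv4 F309230)) (tt N44605 F112682) (tt N24992 F307244) (tt N35488 (iv7 F131538)))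
theorem Q25215 : ∀ i, i < 25215 → P i := stepQ 25214 Q25214 (allL N25214 (tt N12492 (iv1 D39618)) (tt N35489 F92496) (tt N35488 (iv2 F131537)) (tt N48153 D85779) (tt N48154 D85780) (tt N44604 (iv5 F112679)) (tt N41224 F322409) (tt N35487 (iv7 F131541)))
theorem Q25216 : ∀ i, i < 25216 → P i := stepQ 25215 Q25215 (allL N25215 (tt N48155 D85782) (tt N48156 D85783) (tt N25270 (iv2 F60612)) (tt N33328 F315631) (tt N48157 D85784) (tt N12492 (iv5 D39619)) (tt N12494 F60486) (tt N40645 (iv7 F317932)))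
theorem Q25217 : ∀ i, i < 25217 → P i := stepQ 25216 Q25216 (allL N25216 (tt N35488 (iv1 F92491)) (tt N35487 F92495) (tt N35489 (iv2 F92493)) (tt N20502 F316488) (tt N48151 (iv4 F131500)) (tt N40645 (iv5 F317931)) (tt N20500 F316489) (tt N12492 (iv7 D39620)))
theorem Q25218 : ∀ i, i < 25218 → P i := stepQ 25217 Q25217 (allL N25217 (tt N36614 (iv1 F201153)) (tt N48158 D85787) (tt N48159 D85788) (tt N12493 (iv3 D39621)) (tt N27969 F300710) (tt N44912 (iv5 F113914)) (tt N17468 F300711) (tt N23990 F60487))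
theorem Q25219 : ∀ i, i < 25219 → P i := stepQ 25218 Q25218 (allL N25218 (tt N17421 F60491) (tt N17957 F60492) (tt N23079 F60488) (tt N48160 D85790) (tt N12494 (iv4 D39622)) (tt N17971 F60490) (tt N48157 (iv6 F131561)) (tt N23078 F60489))
theorem Q25220 : ∀ i, i < 25220 → P i := stepQ 25219 Q25219 (allL N25219 (tt N17922 (iv1 F190781)) (tt N48161 D85796) (tt N25387 (iv2 F304040)) (tt N12495 (iv3 D39628)) (tt N13947 (iv4 F301566)) (tt N46529 (iv5 F304046)) (tt N13946 F301338) (tt N22318 F190774))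
theorem Q25221 : ∀ i, i < 25221 → P i := stepQ 25220 Q25220 (allL N25220 (tt N17416 F60507) (tt N17418 F60508) (tt N23067 F60505) (tt N46529 (iv3 F304045)) (tt N48058 (iv4 F130596)) (tt N12495 (iv5 D39629)) (tt N42405 F106135) (tt N22451 F60506))
theorem Q25222 : ∀ i, i < 25222 → P i := stepQ 25221 Q25221 (allL N25221 (tt N25109 (iv1 F130329)) (tt N25094 F130331) (tt N25089 F130271) (tt N12496 (iv3 D39635)) (tt N47572 (iv4 F129104)) (tt N48162 D85799) (tt N17226 (iv6 F131600)) (tt N23930 F301363))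
theorem Q25223 : ∀ i, i < 25223 → P i := stepQ 25222 Q25222 (allL N25222 (tt N17418 F60519) (tt N17416 F60520) (tt N22451 F60517) (tt N48162 (iv3 F131597)) (tt N48055 (iv4 F130591)) (tt N12496 (iv5 D39636)) (tt N48163 D85800) (tt N23067 F60518))
theorem Q25224 : ∀ i, i < 25224 → P i := stepQ 25223 Q25223 (allL N25223 (tt N25204 (iv1 F60526)) (tt N12498 (iv0 D39639)) (tt N25206 (iv2 F199828)) (tt N33982 (iv3 F305063)) (tt N38306 F308804) (tt N33570 (iv5 F199805)) (tt N33981 F302718) (tt N25205 (iv7 F199827)))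
theorem Q25225 : ∀ i, i < 25225 → P i := stepQ 25224 Q25224 (allL N25224 (tt N12498 (iv1 D39640)) (tt N25204 F60529) (tt N25205 (iv2 F199826)) (tt N48164 D85812) (tt N38305 F308380) (tt N36371 (iv5 F199803)) (tt N16990 (iv6 F199804)) (tt N25206 (iv7 F199829)))
theorem Q25226 : ∀ i, i < 25226 → P i := stepQ 25225 Q25225 (allL N25225 (tt N25206 (iv1 F60530)) (tt N25205 F60528) (tt N12498 (iv2 D39641)) (tt N35491 (iv3 F92499)) (tt N37530 F308806) (tt N20941 (iv5 F199808)) (tt N48165 D85817) (tt N25204 F60527))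
theorem Q25227 : ∀ i, i < 25227 → P i := stepQ 25226 Q25226 (allL N25226 (tt N21723 F199791) (tt N44591 F309006) (tt N48165 (iv2 F131670)) (tt N12500 F60533) (tt N41451 F309007) (tt N33365 (iv5 F317394)) (tt N12498 (iv6 D39643)) (tt N17980 F60534))
theorem Q25228 : ∀ i, i < 25228 → P i := stepQ 25227 Q25227 (allL N25227 (tt N40197 (iv1 F317395)) (tt N40195 (iv0 F317396)) (tt N35493 (iv2 F92506)) (tt N41662 (iv3 F199877)) (tt N44896 (iv4 F113850)) (tt N22702 F315176) (tt N12499 (iv6 D39644)) (tt N39951 (iv7 F317315)))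
theorem Q25229 : ∀ i, i < 25229 → P i := stepQ 25228 Q25228 (allL N25228 (tt N38893 (iv1 F317527)) (tt N38878 (iv0 F317528)) (tt N48166 D85827) (tt N12501 (iv3 D39684)) (tt N47237 F301583) (tt N48167 D85828) (tt N35019 F301584) (tt N34780 (iv7 F117199)))
theorem Q25230 : ∀ i, i < 25230 → P i := stepQ 25229 Q25229 (allL N25229 (tt N34522 F301587) (tt N34519 (iv0 F301829)) (tt N35463 (iv2 F92385)) (tt N48167 (iv3 F131685)) (tt N39966 (iv4 F329260)) (tt N12501 (iv5 D39685)) (tt N38672 F328927) (tt N34782 (iv7 F117200)))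
theorem Q25231 : ∀ i, i < 25231 → P i := stepQ 25230 Q25230 (allL N25230 (tt N43103 F313744) (tt N37479 F313745) (tt N38341 F313746) (tt N12502 (iv3 D39693)) (tt N35494 (iv4 F92535)) (tt N43137 (iv5 F316247)) (tt N48168 D85835) (tt N35193 F301589))
theorem Q25232 : ∀ i, i < 25232 → P i := stepQ 25231 Q25231 (allL N25231 (tt N35470 (iv1 F92441)) (tt N35469 F92440) (tt N12506 F60566) (tt N43137 F318519) (tt N48169 D85836) (tt N12502 (iv5 D39694)) (tt N48170 D85837) (tt N35194 (iv7 F301827)))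
theorem Q25233 : ∀ i, i < 25233 → P i := stepQ 25232 Q25232 (allL N25232 (tt N34978 (iv1 F301699)) (tt N35201 (iv0 F301707)) (tt N12507 F60567) (tt N48168 (iv3 F131689)) (tt N12503 F60568) (tt N48171 D85838) (tt N12502 (iv6 D39695)) (tt N34947 (iv7 F302112)))
theorem Q25234 : ∀ i, i < 25234 → P i := stepQ 25233 Q25233 (allL N25233 (tt N14058 F91584) (tt N14057 F91585) (tt N14060 F91586) (tt N12504 (iv3 D39706)) (tt N44770 (iv4 F113413)) (tt N48172 D85842) (tt N14016 F91587) (tt N12985 F91588))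
theorem Q25235 : ∀ i, i < 25235 → P i := stepQ 25234 Q25234 (allL N25234 (tt N12637 F61172) (tt N24346 F91160) (tt N24347 F91161) (tt N12658 (iv3 F60582)) (tt N12504 (iv4 D39707)) (tt N24075 F91162) (tt N17564 F297066) (tt N17551 F91164))
theorem Q25236 : ∀ i, i < 25236 → P i := stepQ 25235 Q25235 (allL N25235 (tt N34537 (iv1 F303358)) (tt N34530 (iv0 F302821)) (tt N35465 (iv2 F92429)) (tt N48172 (iv3 F131705)) (tt N48173 D85843) (tt N12504 (iv5 D39708)) (tt N36785 F325752) (tt N35250 (iv7 F91731)))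
theorem Q25237 : ∀ i, i < 25237 → P i := stepQ 25236 Q25236 (allL N25236 (tt N12505 (iv1 D39711)) (tt N35467 F92437) (tt N35466 (iv2 F133086)) (tt N25633 (iv3 F232424)) (tt N35390 (iv4 F133068)) (tt N48174 D85851) (tt N35010 F306355) (tt N25623 (iv7 F232425)))
theorem Q25238 : ∀ i, i < 25238 → P i := stepQ 25237 Q25237 (allL N25237 (tt N25623 F232487) (tt N35466 F92431) (tt N12505 (iv2 D39712)) (tt N38341 F312458) (tt N12511 F60583) (tt N48175 D85853) (tt N48176 D85854) (tt N35467 (iv7 F92435)))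
theorem Q25239 : ∀ i, i < 25239 → P i := stepQ 25238 Q25238 (allL N25238 (tt N48177 D85855) (tt N48178 D85856) (tt N48175 (iv2 F131711)) (tt N12506 F60584) (tt N48179 D85857) (tt N12505 (iv5 D39713)) (tt N48180 D85858) (tt N35468 (iv7 F92439)))
theorem Q25240 : ∀ i, i < 25240 → P i := stepQ 25239 Q25239 (allL N25239 (tt N48181 D85859) (tt N48182 D85860) (tt N48176 (iv2 F131712)) (tt N12507 F60585) (tt N12513 F60586) (tt N48183 D85861) (tt N12505 (iv6 D39714)) (tt N35198 F304684))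
theorem Q25241 : ∀ i, i < 25241 → P i := stepQ 25240 Q25240 (allL N25240 (tt N35194 F303359) (tt N12506 (iv0 D39715)) (tt N35470 F117533) (tt N48184 D85863) (tt N48185 D85864) (tt N48186 D85865) (tt N48187 D85866) (tt N35469 F117531))
theorem Q25242 : ∀ i, i < 25242 → P i := stepQ 25241 Q25241 (allL N25241 (tt N12506 (iv1 D39716)) (tt N35194 (iv0 F301825)) (tt N35469 (iv2 F117529)) (tt N48188 D85867) (tt N48189 D85868) (tt N17650 F299050) (tt N38825 F350739) (tt N35470 (iv7 F117532)))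
theorem Q25243 : ∀ i, i < 25243 → P i := stepQ 25242 Q25242 (allL N25242 (tt N48190 D85870) (tt N48191 D85871) (tt N48169 (iv2 F131690)) (tt N31000 F337465) (tt N12506 (iv4 D39717)) (tt N48192 D85873) (tt N48193 D85874) (tt N30989 (iv7 F337469)))
theorem Q25244 : ∀ i, i < 25244 → P i := stepQ 25243 Q25243 (allL N25243 (tt N48194 D85875) (tt N48195 D85876) (tt N48170 (iv2 F131691)) (tt N48180 (iv3 F131714)) (tt N48193 (iv4 F131728)) (tt N48196 D85877) (tt N12506 (iv6 D39718)) (tt N48197 D85878))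
theorem Q25245 : ∀ i, i < 25245 → P i := stepQ 25244 Q25244 (allL N25244 (tt N34947 (iv1 F302111)) (tt N12507 (iv0 D39719)) (tt N34978 (iv2 F301700)) (tt N48198 D85879) (tt N46409 (iv4 F123427)) (tt N34810 (iv5 F123428)) (tt N34893 (iv6 F301083)) (tt N35201 (iv7 F301711)))
theorem Q25246 : ∀ i, i < 25246 → P i := stepQ 25245 Q25245 (allL N25245 (tt N12507 (iv1 D39720)) (tt N34947 (iv0 F302110)) (tt N35201 (iv2 F301708)) (tt N48199 D85881) (tt N23600 (iv4 F91576)) (tt N34811 F91578) (tt N23598 F91577) (tt N34978 (iv7 F301702)))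
theorem Q25247 : ∀ i, i < 25247 → P i := stepQ 25246 Q25246 (allL N25246 (tt N48200 D85882) (tt N46411 (iv0 F123439)) (tt N48171 (iv2 F131692)) (tt N48183 (iv3 F131715)) (tt N48201 D85883) (tt N12507 (iv5 D39721)) (tt N48196 (iv6 F131729)) (tt N35202 F304433))
theorem Q25248 : ∀ i, i < 25248 → P i := stepQ 25247 Q25247 (allL N25247 (tt N17696 (iv1 F299871)) (tt N12508 (iv0 D39733)) (tt N17810 (iv2 F300015)) (tt N48202 D85895) (tt N35151 F299016) (tt N48203 D85897) (tt N25001 F131776) (tt N17707 F299017))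
theorem Q25249 : ∀ i, i < 25249 → P i := stepQ 25248 Q25248 (allL N25248 (tt N48204 D85902) (tt N48205 D85903) (tt N48206 D85904) (tt N12508 (iv3 D39735)) (tt N12518 F60591) (tt N48207 D85905) (tt N17962 F60592) (tt N17814 F302816))
theorem Q25250 : ∀ i, i < 25250 → P i := stepQ 25249 Q25249 (allL N25249 (tt N34800 F91431) (tt N44919 (iv0 F114072)) (tt N17812 F301673) (tt N48207 (iv3 F131804)) (tt N48208 D85906) (tt N12508 (iv5 D39736)) (tt N48209 D85907) (tt N17815 F301674))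
theorem Q25251 : ∀ i, i < 25251 → P i := stepQ 25250 Q25250 (allL N25250 (tt N35165 (iv1 F301607)) (tt N34940 (iv0 F301735)) (tt N24336 (iv2 F301961)) (tt N48210 D85914) (tt N12509 (iv4 D39744)) (tt N48211 D85915) (tt N35248 F117159) (tt N34984 (iv7 F302098)))
theorem Q25252 : ∀ i, i < 25252 → P i := stepQ 25251 Q25251 (allL N25251 (tt N47365 F131875) (tt N36612 F131867) (tt N47397 (iv2 F131828)) (tt N12510 (iv3 D39753)) (tt N25102 (iv4 F60598)) (tt N30657 F313367) (tt N36595 (iv6 F184577)) (tt N33844 (iv7 F155115)))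
theorem Q25253 : ∀ i, i < 25253 → P i := stepQ 25252 Q25252 (allL N25252 (tt N28779 (iv1 F155126)) (tt N28778 (iv0 F155124)) (tt N28781 (iv2 F155128)) (tt N47494 (iv3 F128893)) (tt N12510 (iv4 D39754)) (tt N48212 D85942) (tt N36640 (iv6 F184581)) (tt N28777 (iv7 F155117)))
theorem Q25254 : ∀ i, i < 25254 → P i := stepQ 25253 Q25253 (allL N25253 (tt N48213 D85952) (tt N33852 (iv0 F155241)) (tt N12513 F60600) (tt N35497 (iv3 F92581)) (tt N48176 (iv4 F131713)) (tt N48214 D85954) (tt N12511 (iv6 D39758)) (tt N48215 D85955))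
theorem Q25255 : ∀ i, i < 25255 → P i := stepQ 25254 Q25254 (allL N25254 (tt N19247 F312665) (tt N12512 (iv0 D39759)) (tt N35479 (iv2 F155264)) (tt N48216 D85957) (tt N48217 D85958) (tt N30555 F312666) (tt N33888 (iv6 F155332)) (tt N35478 (iv7 F155300)))
theorem Q25256 : ∀ i, i < 25256 → P i := stepQ 25255 Q25255 (allL N25255 (tt N12512 (iv1 D39760)) (tt N19247 F312677) (tt N35478 (iv2 F155299)) (tt N48218 D85962) (tt N48219 D85963) (tt N21794 (iv5 F155150)) (tt N41256 (iv6 F315134)) (tt N35479 (iv7 F155266)))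
theorem Q25257 : ∀ i, i < 25257 → P i := stepQ 25256 Q25256 (allL N25256 (tt N48220 D85966) (tt N48221 D85967) (tt N44313 F316474) (tt N48222 D85968) (tt N12512 (iv4 D39761)) (tt N48223 D85969) (tt N48224 D85970) (tt N35480 (iv7 F92479)))
theorem Q25258 : ∀ i, i < 25258 → P i := stepQ 25257 Q25257 (allL N25257 (tt N41254 (iv1 F318700)) (tt N33896 (iv0 F155443)) (tt N20503 F316475) (tt N12515 F60601) (tt N48224 (iv4 F131915)) (tt N48225 D85973) (tt N12512 (iv6 D39762)) (tt N41576 (iv7 F318707)))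
theorem Q25259 : ∀ i, i < 25259 → P i := stepQ 25258 Q25258 (allL N25258 (tt N48215 (iv1 F131909)) (tt N12513 (iv0 D39763)) (tt N48213 (iv2 F155337)) (tt N48226 D85976) (tt N48227 D85977) (tt N33887 (iv5 F185571)) (tt N48228 D85979) (tt N33852 (iv7 F155336)))
theorem Q25260 : ∀ i, i < 25260 → P i := stepQ 25259 Q25259 (allL N25259 (tt N12513 (iv1 D39764)) (tt N48215 F131908) (tt N33852 (iv2 F155335)) (tt N48229 D85981) (tt N48230 D85982) (tt N33888 (iv5 F155287)) (tt N33841 (iv6 F155288)) (tt N48213 (iv7 F155338)))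
theorem Q25261 : ∀ i, i < 25261 → P i := stepQ 25260 Q25260 (allL N25260 (tt N48231 D85985) (tt N29697 F317371) (tt N48214 (iv2 F131903)) (tt N12516 F60602) (tt N48232 D85987) (tt N12513 (iv5 D39765)) (tt N48225 (iv6 F131917)) (tt N20634 (iv7 F319582)))
theorem Q25262 : ∀ i, i < 25262 → P i := stepQ 25261 Q25261 (allL N25261 (tt N33852 (iv1 F155242)) (tt N48213 F131907) (tt N48215 (iv2 F131904)) (tt N12517 F60603) (tt N35198 (iv4 F304461)) (tt N20634 (iv5 F319581)) (tt N17973 F60604) (tt N12513 (iv7 D39766)))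
theorem Q25263 : ∀ i, i < 25263 → P i := stepQ 25262 Q25262 (allL N25262 (tt N48233 D85988) (tt N48234 D85989) (tt N48235 D85990) (tt N12514 (iv3 D39767)) (tt N48222 (iv4 F131914)) (tt N44895 (iv5 F113849)) (tt N44586 F324091) (tt N35485 (iv7 F92486)))
theorem Q25264 : ∀ i, i < 25264 → P i := stepQ 25263 Q25263 (allL N25263 (tt N33553 F318448) (tt N41566 F318449) (tt N35499 (iv2 F92588)) (tt N44586 (iv3 F322588)) (tt N12515 F60605) (tt N23486 F320832) (tt N12514 (iv6 D39768)) (tt N41564 (iv7 F319656)))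
theorem Q25265 : ∀ i, i < 25265 → P i := stepQ 25264 Q25264 (allL N25264 (tt N20779 (iv1 F315197)) (tt N31152 F314540) (tt N20633 (iv2 F316244)) (tt N48225 (iv3 F131916)) (tt N29688 (iv4 F316868)) (tt N12515 (iv5 D39770)) (tt N12516 F60606) (tt N41585 (iv7 F315178)))
theorem Q25266 : ∀ i, i < 25266 → P i := stepQ 25265 Q25265 (allL N25265 (tt N20506 F317400) (tt N16699 F317401) (tt N20500 F318498) (tt N41576 (iv3 F318705)) (tt N41564 (iv4 F319655)) (tt N41585 F317402) (tt N35489 (iv6 F92494)) (tt N12515 (iv7 D39771)))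
theorem Q25267 : ∀ i, i < 25267 → P i := stepQ 25266 Q25266 (allL N25266 (tt N35491 (iv1 F92501)) (tt N12518 (iv0 D39773)) (tt N21609 (iv2 F155268)) (tt N48236 D86003) (tt N48237 D86004) (tt N48238 D86005) (tt N21585 (iv6 F155269)) (tt N35490 (iv7 F155270)))
theorem Q25268 : ∀ i, i < 25268 → P i := stepQ 25267 Q25267 (allL N25267 (tt N12518 (iv1 D39774)) (tt N35491 F92503) (tt N35490 F155271) (tt N48239 D86008) (tt N48240 D86009) (tt N48241 D86010) (tt N46128 F305586) (tt N21609 F155272))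
theorem Q25269 : ∀ i, i < 25269 → P i := stepQ 25268 Q25268 (allL N25268 (tt N21609 F155204) (tt N35490 F92498) (tt N12518 (iv2 D39775)) (tt N25204 F60609) (tt N48206 (iv4 F131802)) (tt N41633 (iv5 F155147)) (tt N17967 F60610) (tt N35491 (iv7 F92500)))
theorem Q25270 : ∀ i, i < 25270 → P i := stepQ 25269 Q25269 (allL N25269 (tt N20959 F155281) (tt N41634 (iv0 F155282)) (tt N41633 (iv2 F155145)) (tt N12519 F60611) (tt N48242 D86015) (tt N12518 (iv5 D39776)) (tt N48243 D86016) (tt N35492 (iv7 F92505)))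
theorem Q25271 : ∀ i, i < 25271 → P i := stepQ 25270 Q25270 (allL N25270 (tt N48244 D86017) (tt N36219 (iv0 F319230)) (tt N25215 F60612) (tt N48243 (iv3 F131943)) (tt N44897 (iv4 F113852)) (tt N17972 F60613) (tt N12519 (iv6 D39777)) (tt N48245 D86018))
theorem Q25272 : ∀ i, i < 25272 → P i := stepQ 25271 Q25271 (allL N25271 (tt N48246 D86019) (tt N24456 F324612) (tt N48247 D86021) (tt N12520 (iv3 D39782)) (tt N47598 (iv4 F129211)) (tt N42284 (iv5 F105831)) (tt N44930 (iv6 F114131)) (tt N12535 F60622))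
theorem Q25273 : ∀ i, i < 25273 → P i := stepQ 25272 Q25272 (allL N25272 (tt N20484 F322904) (tt N48248 D86023) (tt N46533 (iv2 F126189)) (tt N20233 F310570) (tt N48249 D86024) (tt N12521 (iv5 D39798)) (tt N33904 (iv6 F312312)) (tt N20230 F310571))
theorem Q25274 : ∀ i, i < 25274 → P i := stepQ 25273 Q25273 (allL N25273 (tt N23673 F297804) (tt N17484 F297805) (tt N23676 F297806) (tt N36634 (iv3 F94893)) (tt N12523 F60628) (tt N36604 (iv5 F308617)) (tt N12521 (iv6 D39799)) (tt N12616 F297807))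
theorem Q25275 : ∀ i, i < 25275 → P i := stepQ 25274 Q25274 (allL N25274 (tt N12522 (iv1 D39801)) (tt N25510 F297384) (tt N31308 F324561) (tt N35292 F297385) (tt N48250 D86028) (tt N23090 F126016) (tt N29467 F126017) (tt N24332 F126018))
theorem Q25276 : ∀ i, i < 25276 → P i := stepQ 25275 Q25275 (allL N25275 (tt N48251 D86029) (tt N23998 F297622) (tt N46534 (iv2 F126188)) (tt N47519 F323361) (tt N12522 (iv4 D39802)) (tt N48252 D86032) (tt N48253 D86033) (tt N35505 (iv7 F92668)))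
theorem Q25277 : ∀ i, i < 25277 → P i := stepQ 25276 Q25276 (allL N25276 (tt N15525 (iv1 F323898)) (tt N31300 (iv0 F323899)) (tt N18205 (iv2 F323900)) (tt N12526 F60629) (tt N48253 (iv4 F131975)) (tt N18143 (iv5 F323902)) (tt N12522 (iv6 D39803)) (tt N18209 (iv7 F323027)))
theorem Q25278 : ∀ i, i < 25278 → P i := stepQ 25277 Q25277 (allL N25277 (tt N12525 (iv1 D39808)) (tt N12527 F60633) (tt N23938 (iv2 F299800)) (tt N48254 D86036) (tt N22504 F60635) (tt N45556 (iv5 F317617)) (tt N24062 (iv6 F60636)) (tt N23670 F60634))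
theorem Q25279 : ∀ i, i < 25279 → P i := stepQ 25278 Q25278 (allL N25278 (tt N24002 F92089) (tt N32028 F318603) (tt N35504 (iv2 F92646)) (tt N47517 (iv3 F321685)) (tt N12526 F60638) (tt N47512 F319787) (tt N12525 (iv6 D39811)) (tt N45960 (iv7 F119979)))
theorem Q25280 : ∀ i, i < 25280 → P i := stepQ 25279 Q25279 (allL N25279 (tt N48255 D86058) (tt N48256 D86059) (tt N48257 D86060) (tt N12527 (iv3 D39835)) (tt N35028 (iv4 F301728)) (tt N37167 F320828) (tt N37170 (iv6 F322581)) (tt N35502 (iv7 F92641)))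
theorem Q25281 : ∀ i, i < 25281 → P i := stepQ 25280 Q25280 (allL N25280 (tt N48258 D86063) (tt N23964 F297442) (tt N46535 (iv2 F125346)) (tt N44772 F323857) (tt N12528 (iv4 D39840)) (tt N48259 D86065) (tt N48260 D86066) (tt N35512 (iv7 F92726)))
theorem Q25282 : ∀ i, i < 25282 → P i := stepQ 25281 Q25281 (allL N25281 (tt N18146 F324005) (tt N35796 (iv0 F324006)) (tt N35800 F325648) (tt N12530 F60649) (tt N48260 (iv4 F132003)) (tt N34682 (iv5 F88565)) (tt N12528 (iv6 D39841)) (tt N35801 F325649))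
theorem Q25283 : ∀ i, i < 25283 → P i := stepQ 25282 Q25282 (allL N25282 (tt N45522 (iv1 F321435)) (tt N44822 (iv0 F321438)) (tt N23563 (iv2 F321014)) (tt N44769 (iv3 F322420)) (tt N12530 F60650) (tt N17552 (iv5 F322033)) (tt N12529 (iv6 D39844)) (tt N45992 (iv7 F120040)))
theorem Q25284 : ∀ i, i < 25284 → P i := stepQ 25283 Q25283 (allL N25283 (tt N34681 (iv1 F88564)) (tt N12530 (iv0 D39845)) (tt N35510 (iv2 F132018)) (tt N48261 D86078) (tt N45501 F323210) (tt N35511 F92711) (tt N12552 F60729) (tt N35511 (iv7 F132030)))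
theorem Q25285 : ∀ i, i < 25285 → P i := stepQ 25284 Q25284 (allL N25284 (tt N12530 (iv1 D39846)) (tt N34681 F88563) (tt N35511 F132031) (tt N31909 (iv3 F324002)) (tt N45525 (iv4 F324573)) (tt N35510 (iv5 F92708)) (tt N25338 (iv6 F60722)) (tt N35510 (iv7 F132019)))
theorem Q25286 : ∀ i, i < 25286 → P i := stepQ 25285 Q25285 (allL N25285 (tt N48262 D86082) (tt N48263 D86083) (tt N46700 (iv2 F125908)) (tt N48264 D86084) (tt N12531 (iv4 D39850)) (tt N48265 D86085) (tt N35215 F299737) (tt N35507 (iv7 F92698)))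
theorem Q25287 : ∀ i, i < 25287 → P i := stepQ 25286 Q25286 (allL N25286 (tt N48266 D86086) (tt N48267 D86087) (tt N48268 D86088) (tt N12532 (iv3 D39851)) (tt N48264 (iv4 F132045)) (tt N48269 D86089) (tt N47902 (iv6 F130017)) (tt N35509 (iv7 F92701)))
theorem Q25288 : ∀ i, i < 25288 → P i := stepQ 25287 Q25287 (allL N25287 (tt N44766 (iv1 F317784)) (tt N44765 (iv0 F317785)) (tt N35514 (iv2 F92728)) (tt N48269 (iv3 F132046)) (tt N33785 (iv4 F85609)) (tt N12532 (iv5 D39852)) (tt N46349 (iv6 F315918)) (tt N23561 (iv7 F317787)))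
theorem Q25289 : ∀ i, i < 25289 → P i := stepQ 25288 Q25288 (allL N25288 (tt N48270 D86091) (tt N23781 (iv0 F332113)) (tt N48271 D86093) (tt N12533 (iv3 D39853)) (tt N35915 F326658) (tt N48272 D86095) (tt N35913 F326659) (tt N35516 (iv7 F92737)))
theorem Q25290 : ∀ i, i < 25290 → P i := stepQ 25289 Q25289 (allL N25289 (tt N48273 D86097) (tt N46678 (iv0 F125775)) (tt N23578 (iv2 F317927)) (tt N48272 (iv3 F132048)) (tt N19518 F316271) (tt N12533 (iv5 D39854)) (tt N17557 (iv6 F318547)) (tt N35517 (iv7 F92740)))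
theorem Q25291 : ∀ i, i < 25291 → P i := stepQ 25290 Q25290 (allL N25290 (tt N45501 (iv1 F321511)) (tt N45525 (iv0 F321512)) (tt N23579 (iv2 F321019)) (tt N35913 (iv3 F325850)) (tt N23770 F60651) (tt N17558 (iv5 F321513)) (tt N12533 (iv6 D39855)) (tt N45860 (iv7 F119762)))
theorem Q25292 : ∀ i, i < 25292 → P i := stepQ 25291 Q25291 (allL N25291 (tt N45901 F328799) (tt N48274 D86101) (tt N48275 D86102) (tt N12534 (iv3 D39856)) (tt N46201 F304549) (tt N48276 D86104) (tt N46201 (iv6 F122480)) (tt N35515 (iv7 F92731)))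
theorem Q25293 : ∀ i, i < 25293 → P i := stepQ 25292 Q25292 (allL N25292 (tt N46678 (iv1 F125776)) (tt N48273 F132053) (tt N35517 (iv2 F92738)) (tt N48276 (iv3 F132060)) (tt N33793 (iv4 F85652)) (tt N12534 (iv5 D39857)) (tt N48277 D86105) (tt N23578 (iv7 F317928)))
theorem Q25294 : ∀ i, i < 25294 → P i := stepQ 25293 Q25293 (allL N25293 (tt N48247 (iv1 F131958)) (tt N12535 (iv0 D39858)) (tt N24456 F324614) (tt N48278 D86107) (tt N48279 D86108) (tt N24453 (iv5 F323207)) (tt N48280 D86110) (tt N48246 F324615))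
theorem Q25295 : ∀ i, i < 25295 → P i := stepQ 25294 Q25294 (allL N25294 (tt N12535 (iv1 D39859)) (tt N48247 F131960) (tt N48246 F324619) (tt N24426 (iv3 F323208)) (tt N48281 D86113) (tt N24424 (iv5 F323209)) (tt N47904 F335991) (tt N24456 F324620))
theorem Q25296 : ∀ i, i < 25296 → P i := stepQ 25295 Q25295 (allL N25295 (tt N24456 (iv1 F323204)) (tt N48246 F131956) (tt N12535 (iv2 D39860)) (tt N35520 (iv3 F92741)) (tt N47618 (iv4 F129301)) (tt N48282 D86116) (tt N12558 F60652) (tt N48247 (iv7 F131957)))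
theorem Q25297 : ∀ i, i < 25297 → P i := stepQ 25296 Q25296 (allL N25296 (tt N48283 D86117) (tt N38624 (iv0 F330235)) (tt N48282 (iv2 F132063)) (tt N12536 F60653) (tt N48284 D86119) (tt N12535 (iv5 D39861)) (tt N24600 F317230) (tt N42284 (iv7 F105832)))
theorem Q25298 : ∀ i, i < 25298 → P i := stepQ 25297 Q25297 (allL N25297 (tt N33787 (iv1 F85631)) (tt N12536 (iv0 D39862)) (tt N35522 F92747) (tt N31348 (iv3 F326089)) (tt N19045 F317143) (tt N25504 (iv5 F61312)) (tt N37950 (iv6 F319402)) (tt N18842 F317144))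
theorem Q25299 : ∀ i, i < 25299 → P i := stepQ 25298 Q25298 (allL N25298 (tt N27287 (iv1 F70014)) (tt N27286 (iv0 F70011)) (tt N22901 F60654) (tt N31313 F327058) (tt N12537 (iv4 D39864)) (tt N48285 D86125) (tt N48286 D86126) (tt N22898 F60655))
theorem Q25300 : ∀ i, i < 25300 → P i := stepQ 25299 Q25299 (allL N25299 (tt N45990 (iv1 F120029)) (tt N34682 (iv0 F117091)) (tt N22902 F60656) (tt N31315 F325858) (tt N48286 (iv4 F132071)) (tt N25299 F60657) (tt N12537 (iv6 D39865)) (tt N45989 (iv7 F120022)))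
theorem Q25301 : ∀ i, i < 25301 → P i := stepQ 25300 Q25300 (allL N25300 (tt N12885 (iv1 F60661)) (tt N12886 (iv0 F60660)) (tt N22899 (iv2 F295937)) (tt N12538 (iv3 D39866)) (tt N45495 (iv4 F116035)) (tt N12773 F60658) (tt N12538 F295841) (tt N22900 F60659))
theorem Q25302 : ∀ i, i < 25302 → P i := stepQ 25301 Q25301 (allL N25301 (tt N27286 (iv1 F70012)) (tt N27287 (iv0 F70013)) (tt N22898 F60662) (tt N48287 D86128) (tt N12538 (iv4 D39867)) (tt N48288 D86129) (tt N45495 (iv6 F295943)) (tt N22901 F60663))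
theorem Q25303 : ∀ i, i < 25303 → P i := stepQ 25302 Q25302 (allL N25302 (tt N27665 (iv1 F70840)) (tt N12539 (iv0 D39869)) (tt N23951 (iv2 F60667)) (tt N48289 D86131) (tt N23950 F60666) (tt N25683 F295055) (tt N48290 D86133) (tt N25575 (iv7 F61546)))
theorem Q25304 : ∀ i, i < 25304 → P i := stepQ 25303 Q25303 (allL N25303 (tt N12539 (iv1 D39870)) (tt N27665 (iv0 F70839)) (tt N25575 (iv2 F61545)) (tt N48291 D86134) (tt N13339 F295991) (tt N48292 D86135) (tt N13338 (iv6 F296013)) (tt N23951 F60668))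
theorem Q25305 : ∀ i, i < 25305 → P i := stepQ 25304 Q25304 (allL N25304 (tt N48293 D86137) (tt N48294 D86138) (tt N48295 D86139) (tt N12539 (iv3 D39871)) (tt N12540 F60670) (tt N48296 D86140) (tt N35314 (iv6 F91978)) (tt N29464 (iv7 F76344)))
theorem Q25306 : ∀ i, i < 25306 → P i := stepQ 25305 Q25305 (allL N25305 (tt N27677 (iv1 F70911)) (tt N27638 (iv0 F70740)) (tt N27276 F294430) (tt N48296 (iv3 F132099)) (tt N25685 F294431) (tt N12539 (iv5 D39872)) (tt N48297 D86141) (tt N29465 (iv7 F76346)))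
theorem Q25307 : ∀ i, i < 25307 → P i := stepQ 25306 Q25306 (allL N25306 (tt N35525 (iv1 F92769)) (tt N12540 (iv0 D39873)) (tt N35524 F261304) (tt N48298 D86143) (tt N48299 D86144) (tt N22923 F256335) (tt N48300 D86146) (tt N35523 F261305))
theorem Q25308 : ∀ i, i < 25308 → P i := stepQ 25307 Q25307 (allL N25307 (tt N12540 (iv1 D39874)) (tt N35525 F92771) (tt N35523 (iv2 F261301)) (tt N48301 D86148) (tt N48302 D86149) (tt N22924 (iv5 F256340)) (tt N48303 D86151) (tt N35524 (iv7 F261302)))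
theorem Q25309 : ∀ i, i < 25309 → P i := stepQ 25308 Q25308 (allL N25308 (tt N35524 (iv1 F92770)) (tt N35523 F92765) (tt N12540 (iv2 D39875)) (tt N22925 F60671) (tt N48295 (iv4 F132098)) (tt N25333 (iv5 F60713)) (tt N35327 (iv6 F92071)) (tt N35525 (iv7 F92768)))
theorem Q25310 : ∀ i, i < 25310 → P i := stepQ 25309 Q25309 (allL N25309 (tt N45626 (iv1 F119133)) (tt N45493 (iv0 F116028)) (tt N22915 F60672) (tt N48304 D86152) (tt N12541 (iv4 D39876)) (tt N48305 D86153) (tt N48306 D86154) (tt N22918 F60673))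
theorem Q25311 : ∀ i, i < 25311 → P i := stepQ 25310 Q25310 (allL N25310 (tt N34677 (iv1 F298657)) (tt N34676 F296946) (tt N22916 F60674) (tt N45964 F296947) (tt N48306 (iv4 F132109)) (tt N25310 F60675) (tt N12541 (iv6 D39877)) (tt N34671 (iv7 F297997)))
theorem Q25312 : ∀ i, i < 25312 → P i := stepQ 25311 Q25311 (allL N25311 (tt N22912 (iv1 F60677)) (tt N12542 (iv0 D39878)) (tt N22920 (iv2 F60678)) (tt N48307 D86155) (tt N23612 F60676) (tt N48308 D86156) (tt N35221 F296315) (tt N22919 (iv7 F60679)))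
theorem Q25313 : ∀ i, i < 25313 → P i := stepQ 25312 Q25312 (allL N25312 (tt N12542 (iv1 D39879)) (tt N22912 F60680) (tt N22919 (iv2 F60683)) (tt N31659 F326756) (tt N17568 F60682) (tt N48309 D86159) (tt N48310 D86160) (tt N22920 F60681))
theorem Q25314 : ∀ i, i < 25314 → P i := stepQ 25313 Q25313 (allL N25313 (tt N48311 D86161) (tt N46335 (iv0 F122841)) (tt N48312 D86162) (tt N12542 (iv3 D39880)) (tt N12544 F60684) (tt N48313 D86163) (tt N48314 D86164) (tt N22921 F60685))
theorem Q25315 : ∀ i, i < 25315 → P i := stepQ 25314 Q25314 (allL N25314 (tt N40700 F341308) (tt N45507 (iv0 F116162)) (tt N44669 (iv2 F112783)) (tt N48313 (iv3 F132132)) (tt N44649 (iv4 F112755)) (tt N12542 (iv5 D39881)) (tt N48315 D86166) (tt N22922 F60686))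
theorem Q25316 : ∀ i, i < 25316 → P i := stepQ 25315 Q25315 (allL N25315 (tt N40428 (iv1 F325628)) (tt N31637 (iv0 F325627)) (tt N40427 (iv2 F325618)) (tt N48314 (iv3 F132134)) (tt N12543 F60687) (tt N31760 (iv5 F325634)) (tt N12542 (iv6 D39882)) (tt N40426 F324535))
theorem Q25317 : ∀ i, i < 25317 → P i := stepQ 25316 Q25316 (allL N25316 (tt N35210 F297654) (tt N12543 (iv0 D39883)) (tt N31876 F323156) (tt N35278 (iv3 F299549)) (tt N48316 D86171) (tt N34988 (iv5 F299811)) (tt N34989 (iv6 F299759)) (tt N35023 F297655))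
theorem Q25318 : ∀ i, i < 25318 → P i := stepQ 25317 Q25317 (allL N25317 (tt N12543 (iv1 D39884)) (tt N35210 F297656) (tt N35023 F297657) (tt N15528 (iv3 F324584)) (tt N48317 D86173) (tt N31837 F324524) (tt N34903 (iv6 F299546)) (tt N31876 F324525))
theorem Q25319 : ∀ i, i < 25319 → P i := stepQ 25318 Q25318 (allL N25318 (tt N22925 (iv1 F60688)) (tt N12544 (iv0 D39885)) (tt N22924 F261303) (tt N48318 D86175) (tt N48319 D86176) (tt N35523 (iv5 F194349)) (tt N48320 D86178) (tt N22923 (iv7 F261312)))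
theorem Q25320 : ∀ i, i < 25320 → P i := stepQ 25319 Q25319 (allL N25319 (tt N12544 (iv1 D39886)) (tt N22925 F60692) (tt N22923 (iv2 F261311)) (tt N48321 D86180) (tt N48322 D86181) (tt N35524 (iv5 F201640)) (tt N48323 D86183) (tt N22924 F261306))
theorem Q25321 : ∀ i, i < 25321 → P i := stepQ 25320 Q25320 (allL N25320 (tt N22924 (iv1 F60693)) (tt N22923 F60691) (tt N12544 (iv2 D39887)) (tt N35525 (iv3 F92766)) (tt N48312 (iv4 F132128)) (tt N22908 F60689) (tt N48324 D86184) (tt N22925 F60690))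
theorem Q25322 : ∀ i, i < 25322 → P i := stepQ 25321 Q25321 (allL N25321 (tt N32069 (iv1 F323179)) (tt N48325 D86186) (tt N48324 (iv2 F132144)) (tt N12545 F60694) (tt N48314 (iv4 F132135)) (tt N47808 (iv5 F129778)) (tt N12544 (iv6 D39888)) (tt N47936 (iv7 F130078)))
theorem Q25323 : ∀ i, i < 25323 → P i := stepQ 25322 Q25322 (allL N25322 (tt N35331 F92085) (tt N12545 (iv0 D39889)) (tt N23693 (iv2 F60696)) (tt N48326 D86187) (tt N15670 F321495) (tt N22557 (iv5 F316313)) (tt N17493 F60695) (tt N24062 (iv7 F60698)))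
theorem Q25324 : ∀ i, i < 25324 → P i := stepQ 25323 Q25323 (allL N25323 (tt N12545 (iv1 D39890)) (tt N35331 F92088) (tt N24062 (iv2 F60702)) (tt N48327 D86189) (tt N15671 (iv4 F319493)) (tt N48328 D86190) (tt N23938 (iv6 F299801)) (tt N23693 F60701))
theorem Q25325 : ∀ i, i < 25325 → P i := stepQ 25324 Q25324 (allL N25324 (tt N25366 (iv1 F60815)) (tt N12547 (iv0 D39893)) (tt N24065 (iv2 F60707)) (tt N48329 D86192) (tt N17605 F60706) (tt N40700 F341317) (tt N48262 F132042) (tt N25367 (iv7 F60819)))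
theorem Q25326 : ∀ i, i < 25326 → P i := stepQ 25325 Q25325 (allL N25325 (tt N48330 D86193) (tt N48331 D86194) (tt N48332 D86195) (tt N12547 (iv3 D39894)) (tt N12549 F60708) (tt N48333 D86196) (tt N48334 D86197) (tt N25368 (iv7 F60821)))
theorem Q25327 : ∀ i, i < 25327 → P i := stepQ 25326 Q25326 (allL N25326 (tt N44661 (iv1 F112772)) (tt N44663 (iv0 F112775)) (tt N46706 (iv2 F126243)) (tt N48333 (iv3 F132154)) (tt N48335 D86198) (tt N12547 (iv5 D39895)) (tt N48336 D86199) (tt N25369 (iv7 F60822)))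
theorem Q25328 : ∀ i, i < 25328 → P i := stepQ 25327 Q25327 (allL N25327 (tt N15487 (iv1 F324492)) (tt N15489 (iv0 F324491)) (tt N15486 (iv2 F324489)) (tt N48334 (iv3 F132155)) (tt N12548 F60709) (tt N48337 D86202) (tt N12547 (iv6 D39896)) (tt N15485 F323082))
theorem Q25329 : ∀ i, i < 25329 → P i := stepQ 25328 Q25328 (allL N25328 (tt N18135 F322514) (tt N12548 (iv0 D39897)) (tt N31910 F322515) (tt N25342 F298648) (tt N31202 (iv4 F323987)) (tt N25340 (iv5 F299536)) (tt N35230 (iv6 F299645)) (tt N46707 F280940))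
theorem Q25330 : ∀ i, i < 25330 → P i := stepQ 25329 Q25329 (allL N25329 (tt N12548 (iv1 D39898)) (tt N18135 F323095) (tt N46707 F280939) (tt N15597 (iv3 F323997)) (tt N31201 (iv4 F324522)) (tt N31147 F323096) (tt N48338 D86213) (tt N31910 F323097))
theorem Q25331 : ∀ i, i < 25331 → P i := stepQ 25330 Q25330 (allL N25330 (tt N46707 (iv1 F126247)) (tt N31910 (iv0 F321451)) (tt N18135 (iv2 F321452)) (tt N12553 F60710) (tt N15485 (iv4 F321446)) (tt N25037 F60711) (tt N17856 F60712) (tt N12548 (iv7 D39899)))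
theorem Q25332 : ∀ i, i < 25332 → P i := stepQ 25331 Q25331 (allL N25331 (tt N25372 (iv1 F60826)) (tt N12549 (iv0 D39900)) (tt N25371 F256540) (tt N45639 F119216) (tt N48339 D86215) (tt N22906 (iv5 F248725)) (tt N48266 F328391) (tt N25370 (iv7 F256544)))
theorem Q25333 : ∀ i, i < 25333 → P i := stepQ 25332 Q25332 (allL N25332 (tt N12549 (iv1 D39901)) (tt N25372 F60828) (tt N25370 (iv2 F256543)) (tt N48340 D86219) (tt N48341 D86220) (tt N22907 F248721) (tt N24622 F328347) (tt N25371 F256541))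
theorem Q25334 : ∀ i, i < 25334 → P i := stepQ 25333 Q25333 (allL N25333 (tt N25371 (iv1 F60827)) (tt N25370 F60823) (tt N12549 (iv2 D39902)) (tt N35531 (iv3 F92783)) (tt N48332 (iv4 F132153)) (tt N25308 F60713) (tt N48342 D86223) (tt N25372 (iv7 F60825)))
theorem Q25335 : ∀ i, i < 25335 → P i := stepQ 25334 Q25334 (allL N25334 (tt N30565 (iv1 F321445)) (tt N48343 D86225) (tt N48342 (iv2 F132172)) (tt N12550 F60714) (tt N48334 (iv4 F132156)) (tt N48344 D86226) (tt N12549 (iv6 D39903)) (tt N48345 D86227))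
theorem Q25336 : ∀ i, i < 25336 → P i := stepQ 25335 Q25335 (allL N25335 (tt N21361 F314976) (tt N41851 (iv0 F313886)) (tt N25058 F60715) (tt N48344 (iv3 F132173)) (tt N44604 (iv4 F313265)) (tt N12550 (iv5 D39905)) (tt N17895 F60716) (tt N48346 D86230))
theorem Q25337 : ∀ i, i < 25337 → P i := stepQ 25336 Q25336 (allL N25336 (tt N31948 (iv1 F317188)) (tt N31951 (iv0 F317191)) (tt N24995 F60717) (tt N48345 (iv3 F132175)) (tt N12553 F60718) (tt N48346 (iv5 F132184)) (tt N17867 F60719) (tt N12550 (iv7 D39906)))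
theorem Q25338 : ∀ i, i < 25338 → P i := stepQ 25337 Q25337 (allL N25337 (tt N16014 F320742) (tt N12555 F88510) (tt N23790 F132025) (tt N48347 D86237) (tt N12551 (iv4 D39909)) (tt N48157 F316329) (tt N31190 F323128) (tt N23791 F132026))
theorem Q25339 : ∀ i, i < 25339 → P i := stepQ 25338 Q25338 (allL N25338 (tt N18207 (iv1 F322518)) (tt N23122 (iv0 F60723)) (tt N35533 F132027) (tt N15981 (iv3 F322524)) (tt N31960 (iv4 F322526)) (tt N12551 (iv5 D39910)) (tt N25284 F60722) (tt N25339 (iv7 F132016)))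
theorem Q25340 : ∀ i, i < 25340 → P i := stepQ 25339 Q25339 (allL N25339 (tt N23430 F60725) (tt N35227 F298661) (tt N25342 F132028) (tt N15596 (iv3 F322525)) (tt N31190 (iv4 F321465)) (tt N18006 F60724) (tt N12551 (iv6 D39911)) (tt N25338 F132016))
theorem Q25341 : ∀ i, i < 25341 → P i := stepQ 25340 Q25340 (allL N25340 (tt N23415 (iv1 F254948)) (tt N31756 (iv0 F322512)) (tt N31942 (iv2 F322513)) (tt N12552 (iv3 D39913)) (tt N48348 D86244) (tt N25328 F299536) (tt N48261 (iv6 F132034)) (tt N35230 F254967))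
theorem Q25342 : ∀ i, i < 25342 → P i := stepQ 25341 Q25341 (allL N25341 (tt N12555 F88494) (tt N16014 F320740) (tt N23791 F132021) (tt N48349 D86246) (tt N12552 (iv4 D39914)) (tt N48350 D86247) (tt N45501 F323211) (tt N23790 F132022))
theorem Q25343 : ∀ i, i < 25343 → P i := stepQ 25342 Q25342 (allL N25342 (tt N23122 F60727) (tt N18207 (iv0 F322517)) (tt N25339 (iv2 F132028)) (tt N25328 (iv3 F298648)) (tt N31959 (iv4 F322522)) (tt N12552 (iv5 D39915)) (tt N18005 F60728) (tt N35533 F132029))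
theorem Q25344 : ∀ i, i < 25344 → P i := stepQ 25343 Q25343 (allL N25343 (tt N17509 (iv1 F60736)) (tt N17508 F60734) (tt N12554 (iv2 D39918)) (tt N23771 F60731) (tt N48351 D86258) (tt N17588 F60732) (tt N35895 F324588) (tt N17510 F60733))
theorem Q25345 : ∀ i, i < 25345 → P i := stepQ 25344 Q25344 (allL N25344 (tt N48352 D86260) (tt N48353 D86261) (tt N48351 (iv2 F132208)) (tt N17483 F60737) (tt N12554 (iv4 D39919)) (tt N37866 (iv5 F322721)) (tt N48354 D86263) (tt N17482 F60738))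
theorem Q25346 : ∀ i, i < 25346 → P i := stepQ 25345 Q25345 (allL N25345 (tt N48355 D86264) (tt N48356 D86265) (tt N35895 (iv2 F323160)) (tt N12555 F60739) (tt N48354 (iv4 F132220)) (tt N48357 D86266) (tt N12554 (iv6 D39920)) (tt N48358 D86267))
theorem Q25347 : ∀ i, i < 25347 → P i := stepQ 25346 Q25346 (allL N25346 (tt N48359 D86268) (tt N44603 F316330) (tt N23792 F60741) (tt N48357 (iv3 F132221)) (tt N44592 F316331) (tt N12555 (iv5 D39923)) (tt N17584 F60742) (tt N48360 D86271))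
theorem Q25348 : ∀ i, i < 25348 → P i := stepQ 25347 Q25347 (allL N25347 (tt N23791 (iv1 F60747)) (tt N23790 F60748) (tt N16014 (iv2 F319472)) (tt N48358 (iv3 F132223)) (tt N16013 (iv4 F320222)) (tt N48360 (iv5 F132236)) (tt N17499 F60745) (tt N12555 (iv7 D39924)))
theorem Q25349 : ∀ i, i < 25349 → P i := stepQ 25348 Q25348 (allL N25348 (tt N45908 (iv1 F254423)) (tt N48361 D86279) (tt N48362 D86280) (tt N12556 (iv3 D39926)) (tt N46292 F122740) (tt N48363 D86281) (tt N48364 D86282) (tt N44947 F254283))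
theorem Q25350 : ∀ i, i < 25350 → P i := stepQ 25349 Q25349 (allL N25349 (tt N48365 D86284) (tt N48366 D86285) (tt N44951 F254284) (tt N48367 D86286) (tt N12556 (iv4 D39927)) (tt N48368 D86287) (tt N48369 D86288) (tt N44948 F254285))
theorem Q25351 : ∀ i, i < 25351 → P i := stepQ 25350 Q25350 (allL N25350 (tt N23807 (iv1 F254086)) (tt N17514 (iv0 F254087)) (tt N23806 F254286) (tt N48363 (iv3 F132247)) (tt N48370 D86292) (tt N12556 (iv5 D39928)) (tt N48371 D86293) (tt N23805 F254287))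
theorem Q25352 : ∀ i, i < 25352 → P i := stepQ 25351 Q25351 (allL N25351 (tt N48372 D86295) (tt N23705 (iv0 F338773)) (tt N44952 F254288) (tt N48364 (iv3 F132248)) (tt N48369 (iv4 F132252)) (tt N48373 D86297) (tt N12556 (iv6 D39929)) (tt N48374 D86298))
theorem Q25353 : ∀ i, i < 25353 → P i := stepQ 25352 Q25352 (allL N25352 (tt N48375 D86300) (tt N23773 F254318) (tt N48376 D86302) (tt N12557 (iv3 D39931)) (tt N48377 D86303) (tt N48378 D86304) (tt N48379 D86305) (tt N44950 (iv7 F254273)))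
theorem Q25354 : ∀ i, i < 25354 → P i := stepQ 25353 Q25353 (allL N25353 (tt N48366 (iv1 F132251)) (tt N48365 F132255) (tt N44948 (iv2 F254278)) (tt N48380 D86306) (tt N12557 (iv4 D39932)) (tt N48381 D86307) (tt N48382 D86308) (tt N44951 (iv7 F254281)))
theorem Q25355 : ∀ i, i < 25355 → P i := stepQ 25354 Q25354 (allL N25354 (tt N17514 F254088) (tt N23807 F254089) (tt N23805 (iv2 F254279)) (tt N48378 (iv3 F132262)) (tt N48383 D86309) (tt N12557 (iv5 D39933)) (tt N48384 D86310) (tt N23806 (iv7 F254282)))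
theorem Q25356 : ∀ i, i < 25356 → P i := stepQ 25355 Q25355 (allL N25355 (tt N48347 (iv1 F345367)) (tt N48385 D86312) (tt N44949 (iv2 F254280)) (tt N48379 (iv3 F132263)) (tt N48382 (iv4 F132264)) (tt N48386 D86313) (tt N12557 (iv6 D39934)) (tt N48387 D86314))
theorem Q25357 : ∀ i, i < 25357 → P i := stepQ 25356 Q25356 (allL N25356 (tt N12567 (iv1 F60758)) (tt N12566 F60759) (tt N12568 F60753) (tt N12596 F60754) (tt N24856 (iv4 F298117)) (tt N24138 F60755) (tt N12951 F296629) (tt N12559 (iv7 D39937)))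
theorem Q25358 : ∀ i, i < 25358 → P i := stepQ 25357 Q25357 (allL N25357 (tt N32889 F83710) (tt N43649 (iv0 F109352)) (tt N47532 F317571) (tt N12560 (iv3 D39938)) (tt N17680 F60760) (tt N43243 (iv5 F108392)) (tt N44809 F317572) (tt N17759 F60761))
theorem Q25359 : ∀ i, i < 25359 → P i := stepQ 25358 Q25358 (allL N25358 (tt N34791 (iv1 F89662)) (tt N34822 F296715) (tt N23445 F60762) (tt N43243 (iv3 F108390)) (tt N24140 F60764) (tt N12560 (iv5 D39939)) (tt N47016 F319553) (tt N23440 F60763))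
theorem Q25360 : ∀ i, i < 25360 → P i := stepQ 25359 Q25359 (allL N25359 (tt N24582 F121253) (tt N24584 F121254) (tt N23446 F60765) (tt N44809 (iv3 F315782)) (tt N12561 F60766) (tt N44808 F315037) (tt N12560 (iv6 D39940)) (tt N23644 F121255))
theorem Q25361 : ∀ i, i < 25361 → P i := stepQ 25360 Q25360 (allL N25360 (tt N36922 F308927) (tt N36527 (iv0 F94753)) (tt N48388 D86322) (tt N12562 (iv3 D39944)) (tt N24225 F60773) (tt N41616 F307304) (tt N24838 (iv6 F298283)) (tt N23444 F60774))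
theorem Q25362 : ∀ i, i < 25362 → P i := stepQ 25361 Q25361 (allL N25361 (tt N34822 F296716) (tt N34791 (iv0 F89661)) (tt N23440 F60775) (tt N41616 F307303) (tt N24139 F60776) (tt N12562 (iv5 D39945)) (tt N48389 D86325) (tt N23445 F60777))
theorem Q25363 : ∀ i, i < 25363 → P i := stepQ 25362 Q25362 (allL N25362 (tt N48390 D86328) (tt N48391 D86329) (tt N45649 (iv2 F119266)) (tt N36582 (iv3 F94832)) (tt N45642 (iv4 F119238)) (tt N48392 D86330) (tt N12564 (iv6 D39950)) (tt N48393 D86331))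
theorem Q25364 : ∀ i, i < 25364 → P i := stepQ 25363 Q25363 (allL N25363 (tt N44725 (iv1 F298291)) (tt N44729 (iv0 F298292)) (tt N37853 F315268) (tt N36594 (iv3 F94838)) (tt N37316 (iv4 F316620)) (tt N12565 (iv5 D39951)) (tt N48392 (iv6 F132314)) (tt N44818 (iv7 F298293)))
theorem Q25365 : ∀ i, i < 25365 → P i := stepQ 25364 Q25364 (allL N25364 (tt N23558 (iv1 F91415)) (tt N23554 (iv0 F91149)) (tt N17794 (iv2 F90418)) (tt N12566 (iv3 D39953)) (tt N17692 F60787) (tt N25467 (iv5 F297065)) (tt N24346 (iv6 F298244)) (tt N17798 F90424))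
theorem Q25366 : ∀ i, i < 25366 → P i := stepQ 25365 Q25365 (allL N25365 (tt N17558 F116693) (tt N23580 F116694) (tt N23565 F91580) (tt N17941 F60809) (tt N12569 (iv4 D39966)) (tt N23824 F320941) (tt N46421 (iv6 F299926)) (tt N12660 F60810))
theorem Q25367 : ∀ i, i < 25367 → P i := stepQ 25366 Q25366 (allL N25366 (tt N23513 F60814) (tt N25324 F60815) (tt N12572 F60812) (tt N48394 D86342) (tt N12570 (iv4 D39967)) (tt N48335 (iv5 F132159)) (tt N35249 (iv6 F91710)) (tt N24367 F60813))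
theorem Q25368 : ∀ i, i < 25368 → P i := stepQ 25367 Q25367 (allL N25367 (tt N24367 (iv1 F60818)) (tt N12572 (iv0 D39968)) (tt N23513 (iv2 F60817)) (tt N48395 D86343) (tt N22913 F60816) (tt N44668 (iv5 F112779)) (tt N34992 F297483) (tt N25324 F60819))
theorem Q25369 : ∀ i, i < 25369 → P i := stepQ 25368 Q25368 (allL N25368 (tt N48396 D86345) (tt N48397 D86346) (tt N48398 D86347) (tt N12572 (iv3 D39969)) (tt N12573 F60820) (tt N48399 D86348) (tt N35270 (iv6 F91802)) (tt N25325 F60821))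
theorem Q25370 : ∀ i, i < 25370 → P i := stepQ 25369 Q25369 (allL N25369 (tt N48308 (iv1 F132115)) (tt N48309 (iv0 F132123)) (tt N48335 (iv2 F132157)) (tt N48399 (iv3 F132346)) (tt N46706 (iv4 F126244)) (tt N12572 (iv5 D39970)) (tt N48400 D86349) (tt N25326 F60822))
theorem Q25371 : ∀ i, i < 25371 → P i := stepQ 25370 Q25370 (allL N25370 (tt N25333 (iv1 F60823)) (tt N12573 (iv0 D39971)) (tt N25332 F256543) (tt N35901 F326804) (tt N48401 D86352) (tt N35529 (iv5 F248734)) (tt N35272 F327955) (tt N25331 F256544))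
theorem Q25372 : ∀ i, i < 25372 → P i := stepQ 25371 Q25371 (allL N25371 (tt N12573 (iv1 D39972)) (tt N25333 F60827) (tt N25331 (iv2 F256540)) (tt N48402 D86356) (tt N48403 D86357) (tt N35530 (iv5 F248743)) (tt N48404 D86359) (tt N25332 (iv7 F256541)))
theorem Q25373 : ∀ i, i < 25373 → P i := stepQ 25372 Q25372 (allL N25372 (tt N25332 (iv1 F60828)) (tt N25331 F60826) (tt N12573 (iv2 D39973)) (tt N22908 F60824) (tt N48398 (iv4 F132342)) (tt N35525 (iv5 F92767)) (tt N35283 (iv6 F91891)) (tt N25333 F60825))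
theorem Q25374 : ∀ i, i < 25374 → P i := stepQ 25373 Q25373 (allL N25373 (tt N24244 F60838) (tt N24243 F60839) (tt N22896 F60835) (tt N48405 D86360) (tt N12575 (iv4 D39975)) (tt N48406 D86361) (tt N24285 F60836) (tt N13835 F60837))
theorem Q25375 : ∀ i, i < 25375 → P i := stepQ 25374 Q25374 (allL N25374 (tt N48407 D86362) (tt N48408 D86363) (tt N29780 (iv2 F77279)) (tt N12576 (iv3 D39976)) (tt N23626 F60840) (tt N12853 F60841) (tt N35297 (iv6 F296507)) (tt N12592 F60842))
theorem Q25376 : ∀ i, i < 25376 → P i := stepQ 25375 Q25375 (allL N25375 (tt N12641 (iv1 F60851)) (tt N12577 (iv0 D39978)) (tt N12642 F124469) (tt N23546 F126131) (tt N48409 D86368) (tt N46500 F123914) (tt N23683 F119486) (tt N12643 F124470))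
theorem Q25377 : ∀ i, i < 25377 → P i := stepQ 25376 Q25376 (allL N25376 (tt N12643 (iv1 F60852)) (tt N12642 F60853) (tt N12641 F60848) (tt N12951 (iv3 F296152)) (tt N35289 (iv4 F296511)) (tt N45865 (iv5 F119771)) (tt N12596 F60850) (tt N12577 (iv7 D39980)))
theorem Q25378 : ∀ i, i < 25378 → P i := stepQ 25377 Q25377 (allL N25377 (tt N29774 F77260) (tt N43096 (iv0 F116237)) (tt N47960 (iv2 F130180)) (tt N12578 (iv3 D39983)) (tt N17600 F60857) (tt N43089 (iv5 F108054)) (tt N48410 D86375) (tt N24109 F60858))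
theorem Q25379 : ∀ i, i < 25379 → P i := stepQ 25378 Q25378 (allL N25378 (tt N24162 F117054) (tt N24165 (iv0 F117077)) (tt N24273 F60859) (tt N48410 (iv3 F132399)) (tt N13855 (iv4 F296399)) (tt N43575 (iv5 F306671)) (tt N12578 (iv6 D39984)) (tt N37442 (iv7 F306672)))
theorem Q25380 : ∀ i, i < 25380 → P i := stepQ 25379 Q25379 (allL N25379 (tt N46653 (iv1 F299187)) (tt N46647 (iv0 F299189)) (tt N27941 (iv2 F72267)) (tt N16967 F315600) (tt N48411 D86386) (tt N12579 (iv5 D39987)) (tt N34293 F306883) (tt N21433 F315601))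
theorem Q25381 : ∀ i, i < 25381 → P i := stepQ 25380 Q25380 (allL N25380 (tt N24257 (iv1 F296552)) (tt N24260 (iv0 F296549)) (tt N24187 (iv2 F118861)) (tt N21434 F315598) (tt N12581 F60861) (tt N21433 F315599) (tt N13632 F296190) (tt N12579 (iv7 D39988)))
theorem Q25382 : ∀ i, i < 25382 → P i := stepQ 25381 Q25381 (allL N25381 (tt N24194 F118833) (tt N24193 F118834) (tt N17593 F118835) (tt N24170 F118836) (tt N24945 (iv4 F299196)) (tt N12580 (iv5 D39992)) (tt N24943 F297151) (tt N24188 F118837))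
theorem Q25383 : ∀ i, i < 25383 → P i := stepQ 25382 Q25382 (allL N25382 (tt N24167 F118546) (tt N45499 (iv0 F116109)) (tt N17594 F118873) (tt N24171 F118874) (tt N40442 F324366) (tt N25431 F61004) (tt N12580 (iv6 D39993)) (tt N46241 (iv7 F122611)))
theorem Q25384 : ∀ i, i < 25384 → P i := stepQ 25383 Q25383 (allL N25383 (tt N28263 F73520) (tt N48412 D86392) (tt N28590 (iv2 F74221)) (tt N12582 (iv3 D39999)) (tt N12583 F60864) (tt N48413 D86393) (tt N17390 (iv6 F296240)) (tt N24377 F60865))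
theorem Q25385 : ∀ i, i < 25385 → P i := stepQ 25384 Q25384 (allL N25384 (tt N13944 F60869) (tt N12976 F60870) (tt N13943 F60866) (tt N48413 (iv3 F132436)) (tt N13942 F60867) (tt N12582 (iv5 D40000)) (tt N48414 D86395) (tt N13942 F60868))
theorem Q25386 : ∀ i, i < 25386 → P i := stepQ 25385 Q25385 (allL N25385 (tt N27938 (iv1 F72254)) (tt N12583 (iv0 D40006)) (tt N27937 (iv2 F72247)) (tt N30508 F303444) (tt N12821 F60876) (tt N33966 F303445) (tt N42722 (iv6 F296535)) (tt N27936 F72244))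
theorem Q25387 : ∀ i, i < 25387 → P i := stepQ 25386 Q25386 (allL N25386 (tt N21836 (iv1 F296539)) (tt N42693 (iv0 F296540)) (tt N42692 (iv2 F296536)) (tt N12585 F60877) (tt N17390 (iv4 F296239)) (tt N21419 (iv5 F305366)) (tt N12583 (iv6 D40008)) (tt N24262 (iv7 F296543)))
theorem Q25388 : ∀ i, i < 25388 → P i := stepQ 25387 Q25387 (allL N25387 (tt N35368 (iv1 F306140)) (tt N35389 (iv0 F305634)) (tt N25219 F304040) (tt N46136 (iv3 F121959)) (tt N12851 F60878) (tt N48415 D86407) (tt N12584 (iv6 D40009)) (tt N35362 (iv7 F306142)))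
theorem Q25389 : ∀ i, i < 25389 → P i := stepQ 25388 Q25388 (allL N25388 (tt N13825 (iv1 F296546)) (tt N13830 (iv0 F296484)) (tt N24232 F296111) (tt N21419 F307408) (tt N13650 F296112) (tt N12585 (iv5 D40012)) (tt N48415 (iv6 F132461)) (tt N24233 (iv7 F296547)))
theorem Q25390 : ∀ i, i < 25390 → P i := stepQ 25389 Q25389 (allL N25389 (tt N23597 F118766) (tt N23544 F118767) (tt N12931 F60894) (tt N12588 F60895) (tt N24349 F60896) (tt N31212 F326991) (tt N12586 (iv6 D40032)) (tt N23596 F118768))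
theorem Q25391 : ∀ i, i < 25391 → P i := stepQ 25390 Q25390 (allL N25390 (tt N25668 F61863) (tt N42537 (iv0 F106385)) (tt N22022 F300978) (tt N12587 (iv3 D40033)) (tt N24348 F60898) (tt N17188 F300979) (tt N43979 (iv6 F303695)) (tt N12608 F60900))
theorem Q25392 : ∀ i, i < 25392 → P i := stepQ 25391 Q25391 (allL N25391 (tt N46648 (iv1 F299061)) (tt N24958 F118776) (tt N12601 F60901) (tt N43979 F305736) (tt N12588 F60902) (tt N43723 (iv5 F306112)) (tt N12587 (iv6 D40034)) (tt N23671 F118777))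
theorem Q25393 : ∀ i, i < 25393 → P i := stepQ 25392 Q25392 (allL N25392 (tt N13831 F297098) (tt N24236 (iv0 F297315)) (tt N12610 F60910) (tt N22028 (iv3 F303484)) (tt N12590 F60912) (tt N48053 (iv5 F304662)) (tt N12589 (iv6 D40038)) (tt N23958 (iv7 F118414)))
theorem Q25394 : ∀ i, i < 25394 → P i := stepQ 25393 Q25393 (allL N25393 (tt N23997 F118848) (tt N17580 F118849) (tt N12612 F60914) (tt N12952 F60915) (tt N48416 D86447) (tt N12590 (iv5 D40041)) (tt N12644 F60916) (tt N23959 (iv7 F118515)))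
theorem Q25395 : ∀ i, i < 25395 → P i := stepQ 25394 Q25394 (allL N25394 (tt N46515 F124121) (tt N48417 D86448) (tt N43081 (iv2 F108040)) (tt N12591 (iv3 D40043)) (tt N23919 F60923) (tt N17033 F302709) (tt N20232 (iv6 F307248)) (tt N12614 F60924))
theorem Q25396 : ∀ i, i < 25396 → P i := stepQ 25395 Q25395 (allL N25395 (tt N29780 (iv1 F77284)) (tt N12592 (iv0 D40045)) (tt N48408 (iv2 F133471)) (tt N21789 F306046) (tt N48418 D86452) (tt N21787 F306047) (tt N48419 D86453) (tt N48407 (iv7 F133470)))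
theorem Q25397 : ∀ i, i < 25397 → P i := stepQ 25396 Q25396 (allL N25396 (tt N12592 (iv1 D40046)) (tt N29780 F77283) (tt N48407 (iv2 F133469)) (tt N48420 D86455) (tt N48421 D86456) (tt N46354 F122970) (tt N47694 F317265) (tt N48408 (iv7 F133472)))
theorem Q25398 : ∀ i, i < 25398 → P i := stepQ 25397 Q25397 (allL N25397 (tt N48408 (iv1 F132359)) (tt N48407 F132358) (tt N12592 (iv2 D40047)) (tt N12622 F60927) (tt N36412 (iv4 F94523)) (tt N28717 (iv5 F74445)) (tt N48422 D86458) (tt N29780 (iv7 F77282)))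
theorem Q25399 : ∀ i, i < 25399 → P i := stepQ 25398 Q25398 (allL N25398 (tt N48423 D86459) (tt N48424 D86460) (tt N48422 (iv2 F132578)) (tt N12593 F60928) (tt N37120 (iv4 F309795)) (tt N44523 (iv5 F309903)) (tt N12592 (iv6 D40048)) (tt N48131 (iv7 F299065)))
theorem Q25400 : ∀ i, i < 25400 → P i := stepQ 25399 Q25399 (allL N25399 (tt N24347 F91424) (tt N17551 F91425) (tt N24346 (iv2 F91152)) (tt N12594 (iv3 D40053)) (tt N17796 (iv4 F298961)) (tt N27347 (iv5 F297090)) (tt N17794 F297063) (tt N12637 F61132))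
theorem Q25401 : ∀ i, i < 25401 → P i := stepQ 25400 Q25400 (allL N25400 (tt N25196 F297103) (tt N24249 (iv0 F116738)) (tt N12634 F61134) (tt N38293 F306679) (tt N12594 (iv4 D40054)) (tt N19484 (iv5 F308527)) (tt N19030 (iv6 F308529)) (tt N12638 F61135))
theorem Q25402 : ∀ i, i < 25402 → P i := stepQ 25401 Q25401 (allL N25401 (tt N24249 (iv1 F116739)) (tt N25196 F297105) (tt N12638 F61144) (tt N19035 (iv3 F308530)) (tt N12595 (iv4 D40057)) (tt N36457 (iv5 F308531)) (tt N38279 (iv6 F308532)) (tt N12634 F61145))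
theorem Q25403 : ∀ i, i < 25403 → P i := stepQ 25402 Q25402 (allL N25402 (tt N23476 (iv1 F296746)) (tt N23454 (iv0 F296593)) (tt N12937 F60949) (tt N12603 F60950) (tt N44851 (iv4 F113708)) (tt N12597 (iv5 D40061)) (tt N12918 F60951) (tt N23474 (iv7 F296744)))
theorem Q25404 : ∀ i, i < 25404 → P i := stepQ 25403 Q25403 (allL N25403 (tt N12936 (iv1 F60957)) (tt N12935 F60958) (tt N12938 F60952) (tt N12604 F60953) (tt N24526 F60954) (tt N23474 (iv5 F296743)) (tt N12953 F60955) (tt N12597 (iv7 D40062)))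
theorem Q25405 : ∀ i, i < 25405 → P i := stepQ 25404 Q25404 (allL N25404 (tt N43442 (iv1 F304868)) (tt N43441 (iv0 F304867)) (tt N48425 D86478) (tt N12598 (iv3 D40063)) (tt N13829 F60959) (tt N43626 F303519) (tt N48426 D86479) (tt N24247 F60960))
theorem Q25406 : ∀ i, i < 25406 → P i := stepQ 25405 Q25405 (allL N25405 (tt N48409 F132376) (tt N24227 (iv0 F296485)) (tt N17877 (iv2 F296473)) (tt N48426 (iv3 F132639)) (tt N13827 F60961) (tt N41821 (iv5 F308244)) (tt N12598 (iv6 D40064)) (tt N17879 (iv7 F296486)))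
theorem Q25407 : ∀ i, i < 25407 → P i := stepQ 25406 Q25406 (allL N25406 (tt N29793 F77331) (tt N43908 (iv0 F110133)) (tt N48427 D86482) (tt N12599 (iv3 D40065)) (tt N17556 F60962) (tt N43852 F306259) (tt N48132 (iv6 F296470)) (tt N23570 F60963))
theorem Q25408 : ∀ i, i < 25408 → P i := stepQ 25407 Q25407 (allL N25407 (tt N48428 D86486) (tt N48429 D86487) (tt N22223 (iv2 F303693)) (tt N17091 F301434) (tt N12847 F60972) (tt N34326 (iv5 F304233)) (tt N12600 (iv6 D40068)) (tt N43721 (iv7 F304235)))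
theorem Q25409 : ∀ i, i < 25409 → P i := stepQ 25408 Q25408 (allL N25408 (tt N23671 (iv1 F119067)) (tt N12601 (iv0 D40069)) (tt N46648 (iv2 F299062)) (tt N43459 (iv3 F308246)) (tt N17700 F121174) (tt N43302 (iv5 F308247)) (tt N38278 (iv6 F308248)) (tt N24958 F119068))
theorem Q25410 : ∀ i, i < 25410 → P i := stepQ 25409 Q25409 (allL N25409 (tt N12601 (iv1 D40070)) (tt N23671 (iv0 F119014)) (tt N24958 F119013) (tt N48430 D86492) (tt N17701 F121184) (tt N43301 (iv5 F308249)) (tt N24922 F297727) (tt N46648 (iv7 F299063)))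
theorem Q25411 : ∀ i, i < 25411 → P i := stepQ 25410 Q25410 (allL N25410 (tt N43817 (iv1 F308079)) (tt N27716 (iv0 F297912)) (tt N43723 F306260) (tt N34327 F306261) (tt N48431 D86497) (tt N12601 (iv5 D40071)) (tt N34326 F306262) (tt N43816 (iv7 F308084)))
theorem Q25412 : ∀ i, i < 25412 → P i := stepQ 25411 Q25411 (allL N25411 (tt N24958 F118806) (tt N46648 (iv0 F299060)) (tt N23671 F118807) (tt N44551 F313284) (tt N12604 F60973) (tt N43816 (iv5 F308083)) (tt N23958 F118415) (tt N12601 (iv7 D40072)))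
theorem Q25413 : ∀ i, i < 25413 → P i := stepQ 25412 Q25412 (allL N25412 (tt N23676 F118820) (tt N12616 F121050) (tt N17484 F118822) (tt N48432 D86499) (tt N12602 (iv4 D40075)) (tt N36437 (iv5 F309388)) (tt N35496 (iv6 F297934)) (tt N23673 F118823))
theorem Q25414 : ∀ i, i < 25414 → P i := stepQ 25413 Q25413 (allL N25413 (tt N23680 (iv1 F118839)) (tt N23679 F118824) (tt N17485 F118825) (tt N23647 F118826) (tt N48433 D86501) (tt N12602 (iv5 D40076)) (tt N46490 (iv6 F123857)) (tt N23674 F118827))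
theorem Q25415 : ∀ i, i < 25415 → P i := stepQ 25414 Q25414 (allL N25414 (tt N23672 (iv1 F118795)) (tt N12603 (iv0 D40083)) (tt N17494 F118094) (tt N23695 F118095) (tt N48434 D86502) (tt N25570 F296282) (tt N25430 F61003) (tt N23699 F118096))
theorem Q25416 : ∀ i, i < 25416 → P i := stepQ 25415 Q25415 (allL N25415 (tt N46586 (iv1 F297280)) (tt N27720 (iv0 F297281)) (tt N46288 (iv2 F122720)) (tt N48435 D86505) (tt N12603 (iv4 D40085)) (tt N48436 D86506) (tt N23495 F60978) (tt N35854 F326410))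
theorem Q25417 : ∀ i, i < 25417 → P i := stepQ 25416 Q25416 (allL N25416 (tt N23699 F118520) (tt N17494 F118521) (tt N23672 F118808) (tt N23474 (iv3 F296742)) (tt N35854 (iv4 F325583)) (tt N12604 F60979) (tt N31198 F324472) (tt N12603 (iv7 D40086)))
theorem Q25418 : ∀ i, i < 25418 → P i := stepQ 25417 Q25417 (allL N25417 (tt N17553 F296731) (tt N34839 (iv0 F298104)) (tt N12607 F60980) (tt N12939 F60981) (tt N17807 (iv4 F298304)) (tt N29062 (iv5 F74944)) (tt N12605 (iv6 D40087)) (tt N23633 (iv7 F298103)))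
theorem Q25419 : ∀ i, i < 25419 → P i := stepQ 25418 Q25418 (allL N25418 (tt N47448 F128827) (tt N48437 D86508) (tt N46140 (iv2 F121994)) (tt N12606 (iv3 D40088)) (tt N12608 F60983) (tt N25805 (iv5 F62333)) (tt N48438 D86509) (tt N24348 F60984))
theorem Q25420 : ∀ i, i < 25420 → P i := stepQ 25419 Q25419 (allL N25419 (tt N17637 (iv1 F297327)) (tt N17805 (iv0 F299208)) (tt N17807 (iv2 F298303)) (tt N48438 (iv3 F132705)) (tt N12607 F60986) (tt N48439 D86510) (tt N12606 (iv6 D40089)) (tt N17806 (iv7 F299028)))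
theorem Q25421 : ∀ i, i < 25421 → P i := stepQ 25420 Q25420 (allL N25420 (tt N47886 (iv1 F130005)) (tt N31879 F325336) (tt N29062 (iv2 F74942)) (tt N12612 F60987) (tt N48440 D86511) (tt N12607 (iv5 D40092)) (tt N23496 F60988) (tt N31209 (iv7 F325723)))
theorem Q25422 : ∀ i, i < 25422 → P i := stepQ 25421 Q25421 (allL N25421 (tt N34839 (iv1 F298105)) (tt N17553 F297091) (tt N23633 (iv2 F298101)) (tt N12613 F60989) (tt N17806 (iv4 F299027)) (tt N31209 F326520) (tt N23596 F118830) (tt N12607 (iv7 D40093)))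
theorem Q25423 : ∀ i, i < 25423 → P i := stepQ 25422 Q25422 (allL N25422 (tt N22022 F300993) (tt N12608 (iv0 D40094)) (tt N42537 (iv2 F106381)) (tt N48441 D86513) (tt N25528 F61436) (tt N34260 F300994) (tt N38299 (iv6 F303705)) (tt N25668 (iv7 F61862)))
theorem Q25424 : ∀ i, i < 25424 → P i := stepQ 25423 Q25423 (allL N25423 (tt N12608 (iv1 D40095)) (tt N22022 F300991) (tt N25668 (iv2 F61861)) (tt N29787 F77306) (tt N25665 (iv4 F61858)) (tt N34170 F300992) (tt N48442 D86515) (tt N42537 (iv7 F106383)))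
theorem Q25425 : ∀ i, i < 25425 → P i := stepQ 25424 Q25424 (allL N25424 (tt N17152 F300646) (tt N17190 F300647) (tt N17092 F300648) (tt N12609 F60993) (tt N36482 (iv4 F94692)) (tt N12608 (iv5 D40096)) (tt N22739 F313590) (tt N17188 F300649))
theorem Q25426 : ∀ i, i < 25426 → P i := stepQ 25425 Q25425 (allL N25425 (tt N44508 (iv1 F306030)) (tt N37378 F305571) (tt N44505 F305572) (tt N12610 F60997) (tt N48438 (iv4 F132706)) (tt N47998 (iv5 F307601)) (tt N12608 (iv6 D40097)) (tt N44506 F305573))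
theorem Q25427 : ∀ i, i < 25427 → P i := stepQ 25426 Q25426 (allL N25426 (tt N48443 D86521) (tt N22862 (iv0 F304643)) (tt N22027 F302076) (tt N22739 F311927) (tt N12840 F60999) (tt N35384 (iv5 F304644)) (tt N12609 (iv6 D40098)) (tt N48444 D86524))
theorem Q25428 : ∀ i, i < 25428 → P i := stepQ 25427 Q25427 (allL N25427 (tt N12610 (iv1 D40100)) (tt N23958 F118416) (tt N24236 F297734) (tt N44512 (iv3 F308490)) (tt N13833 F297735) (tt N22414 (iv5 F308493)) (tt N17975 F297736) (tt N13831 F297737))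
theorem Q25429 : ∀ i, i < 25429 → P i := stepQ 25428 Q25428 (allL N25428 (tt N48445 D86530) (tt N41527 F324140) (tt N48053 F306653) (tt N47998 (iv3 F307600)) (tt N48446 D86532) (tt N12610 (iv5 D40101)) (tt N35384 F306654) (tt N48447 D86533))
theorem Q25430 : ∀ i, i < 25430 → P i := stepQ 25429 Q25429 (allL N25429 (tt N24236 F297738) (tt N13831 F297739) (tt N23958 F118413) (tt N44506 F306655) (tt N12613 F61000) (tt N48447 (iv5 F132741)) (tt N23671 (iv6 F119066)) (tt N12610 (iv7 D40102)))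
theorem Q25431 : ∀ i, i < 25431 → P i := stepQ 25430 Q25430 (allL N25430 (tt N23963 F118097) (tt N23962 F118098) (tt N17577 F118099) (tt N23978 F118100) (tt N48258 (iv4 F297531)) (tt N12611 (iv5 D40111)) (tt N25414 (iv6 F61003)) (tt N13636 F297285))
theorem Q25432 : ∀ i, i < 25432 → P i := stepQ 25431 Q25431 (allL N25431 (tt N12612 (iv1 D40114)) (tt N23959 F118518) (tt N17580 F118843) (tt N24003 F118844) (tt N48251 (iv4 F297293)) (tt N25382 (iv5 F61004)) (tt N47724 (iv6 F297295)) (tt N23997 F118845))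
theorem Q25433 : ∀ i, i < 25433 → P i := stepQ 25432 Q25432 (allL N25432 (tt N48448 D86540) (tt N46654 (iv0 F297291)) (tt N48416 (iv2 F132560)) (tt N48449 D86542) (tt N12612 (iv4 D40115)) (tt N48450 D86543) (tt N23497 F61005) (tt N48451 D86544))
theorem Q25434 : ∀ i, i < 25434 → P i := stepQ 25433 Q25433 (allL N25433 (tt N17580 F118831) (tt N23997 F118832) (tt N23959 F118516) (tt N31209 (iv3 F325722)) (tt N48451 (iv4 F132772)) (tt N12613 F61006) (tt N31200 F324605) (tt N12612 (iv7 D40116)))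
theorem Q25435 : ∀ i, i < 25435 → P i := stepQ 25434 Q25434 (allL N25434 (tt N43081 F108045) (tt N12614 (iv0 D40117)) (tt N48417 F132565) (tt N21815 F299955) (tt N44537 (iv4 F300068)) (tt N23919 F61007) (tt N33819 (iv6 F300069)) (tt N46515 (iv7 F124119)))
theorem Q25436 : ∀ i, i < 25436 → P i := stepQ 25435 Q25435 (allL N25435 (tt N12614 (iv1 D40118)) (tt N43081 F108043) (tt N46515 (iv2 F124122)) (tt N48452 D86548) (tt N44042 (iv4 F300070)) (tt N48453 D86549) (tt N38339 (iv6 F305211)) (tt N48417 (iv7 F132564)))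
theorem Q25437 : ∀ i, i < 25437 → P i := stepQ 25436 Q25436 (allL N25436 (tt N48417 (iv1 F132563)) (tt N46515 (iv0 F124120)) (tt N12614 (iv2 D40119)) (tt N23315 F61009) (tt N48453 (iv4 F132790)) (tt N17032 F302708) (tt N23690 (iv6 F305050)) (tt N43081 (iv7 F108042)))
theorem Q25438 : ∀ i, i < 25438 → P i := stepQ 25437 Q25437 (allL N25437 (tt N21932 F61013) (tt N27743 (iv0 F302716)) (tt N48453 (iv2 F132786)) (tt N17466 F61011) (tt N12614 (iv4 D40120)) (tt N46515 (iv5 F124118)) (tt N36638 (iv6 F300073)) (tt N23919 F61012))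
theorem Q25439 : ∀ i, i < 25439 → P i := stepQ 25438 Q25438 (allL N25438 (tt N23315 (iv1 F61020)) (tt N12617 (iv0 D40128)) (tt N34949 F90508) (tt N48454 D86565) (tt N35084 (iv4 F90800)) (tt N18569 F61019) (tt N48455 D86566) (tt N34948 F90504))
theorem Q25440 : ∀ i, i < 25440 → P i := stepQ 25439 Q25439 (allL N25439 (tt N12617 (iv1 D40129)) (tt N23315 F61021) (tt N34948 F90503) (tt N36611 F304891) (tt N35032 (iv4 F90707)) (tt N21920 F61022) (tt N48456 D86567) (tt N34949 (iv7 F90506)))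
theorem Q25441 : ∀ i, i < 25441 → P i := stepQ 25440 Q25440 (allL N25440 (tt N47673 F313272) (tt N48457 D86569) (tt N43082 (iv2 F108047)) (tt N12619 F61023) (tt N34899 (iv4 F90298)) (tt N44346 F312801) (tt N12617 (iv6 D40130)) (tt N46532 (iv7 F299429)))
theorem Q25442 : ∀ i, i < 25442 → P i := stepQ 25441 Q25441 (allL N25441 (tt N44321 F308474) (tt N44320 F308475) (tt N20229 F308476) (tt N23297 F61024) (tt N12804 F61025) (tt N20228 (iv5 F308580)) (tt N12618 (iv6 D40131)) (tt N44319 F308477))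
theorem Q25443 : ∀ i, i < 25443 → P i := stepQ 25442 Q25442 (allL N25442 (tt N48248 (iv1 F300077)) (tt N20484 F322903) (tt N20230 F310578) (tt N44346 (iv3 F311026)) (tt N48458 D86578) (tt N12619 (iv5 D40134)) (tt N20228 F310579) (tt N46533 (iv7 F299430)))
theorem Q25444 : ∀ i, i < 25444 → P i := stepQ 25443 Q25443 (allL N25443 (tt N36611 F303539) (tt N46518 F124172) (tt N21813 F303540) (tt N12620 (iv3 D40136)) (tt N17544 F61027) (tt N18519 F303541) (tt N48459 D86580) (tt N29797 (iv7 F77348)))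
theorem Q25445 : ∀ i, i < 25445 → P i := stepQ 25444 Q25444 (allL N25444 (tt N42708 (iv1 F106933)) (tt N23677 (iv0 F85910)) (tt N25063 F61029) (tt N48459 (iv3 F132824)) (tt N17287 F61030) (tt N48460 D86581) (tt N12620 (iv6 D40137)) (tt N42711 F106938))
theorem Q25446 : ∀ i, i < 25446 → P i := stepQ 25445 Q25445 (allL N25445 (tt N23960 F131633) (tt N38320 (iv0 F303958)) (tt N29798 (iv2 F77349)) (tt N21823 F301193) (tt N17221 F61032) (tt N48144 (iv5 F303959)) (tt N12621 (iv6 D40138)) (tt N42605 (iv7 F130344)))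
theorem Q25447 : ∀ i, i < 25447 → P i := stepQ 25446 Q25446 (allL N25446 (tt N17467 F61035) (tt N23921 F61036) (tt N12623 F61033) (tt N28717 (iv3 F74443)) (tt N29594 (iv4 F76780)) (tt N12622 (iv5 D40139)) (tt N48461 D86583) (tt N23920 F61034))
theorem Q25448 : ∀ i, i < 25448 → P i := stepQ 25447 Q25447 (allL N25447 (tt N19057 (iv1 F305999)) (tt N48137 F131392) (tt N12624 F61037) (tt N48422 (iv3 F132579)) (tt N12651 F61038) (tt N48462 D86584) (tt N12622 (iv6 D40140)) (tt N48136 (iv7 F131384)))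
theorem Q25449 : ∀ i, i < 25449 → P i := stepQ 25448 Q25448 (allL N25448 (tt N23920 (iv1 F61041)) (tt N12623 (iv0 D40141)) (tt N17467 (iv2 F61040)) (tt N23926 F61043) (tt N27631 (iv4 F70696)) (tt N21545 F61039) (tt N23966 (iv6 F301133)) (tt N23921 F61042))
theorem Q25450 : ∀ i, i < 25450 → P i := stepQ 25449 Q25449 (allL N25449 (tt N21711 F61044) (tt N44492 F311644) (tt N29594 (iv2 F76778)) (tt N28276 (iv3 F73534)) (tt N12623 (iv4 D40142)) (tt N29587 (iv5 F76766)) (tt N48463 D86586) (tt N29799 (iv7 F77351)))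
theorem Q25451 : ∀ i, i < 25451 → P i := stepQ 25450 Q25450 (allL N25450 (tt N48464 D86587) (tt N23687 (iv0 F305828)) (tt N48461 (iv2 F132829)) (tt N12627 F61045) (tt N48463 (iv4 F132833)) (tt N30551 F303810) (tt N12623 (iv6 D40143)) (tt N29807 (iv7 F305829)))
theorem Q25452 : ∀ i, i < 25452 → P i := stepQ 25451 Q25451 (allL N25451 (tt N48136 (iv1 F131386)) (tt N12624 (iv0 D40144)) (tt N19057 F306058) (tt N35187 (iv3 F312236)) (tt N25100 F130174) (tt N35186 F311163) (tt N19050 (iv6 F307175)) (tt N48137 (iv7 F131393)))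
theorem Q25453 : ∀ i, i < 25453 → P i := stepQ 25452 Q25452 (allL N25452 (tt N12624 (iv1 D40145)) (tt N48136 (iv0 F131385)) (tt N48137 F131391) (tt N19063 (iv3 F307063)) (tt N25095 (iv4 F61046)) (tt N48465 D86595) (tt N38326 (iv6 F308008)) (tt N19057 F306059))
theorem Q25454 : ∀ i, i < 25454 → P i := stepQ 25453 Q25453 (allL N25453 (tt N40031 (iv1 F307183)) (tt N48466 D86598) (tt N48462 (iv2 F132830)) (tt N12630 F61047) (tt N48467 D86599) (tt N12624 (iv5 D40146)) (tt N30551 F305244) (tt N36461 (iv7 F307186)))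
theorem Q25455 : ∀ i, i < 25455 → P i := stepQ 25454 Q25454 (allL N25454 (tt N23919 F61050) (tt N48453 (iv0 F132789)) (tt N21932 F61048) (tt N12625 (iv3 D40147)) (tt N48468 D86600) (tt N12743 F61049) (tt N33815 (iv6 F302784)) (tt N27743 F297809))
theorem Q25456 : ∀ i, i < 25456 → P i := stepQ 25455 Q25455 (allL N25455 (tt N43735 F305069) (tt N29785 F305070) (tt N28714 (iv2 F74435)) (tt N33815 F305071) (tt N12778 F61051) (tt N42325 (iv5 F312478)) (tt N12625 (iv6 D40148)) (tt N33824 F305072))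
theorem Q25457 : ∀ i, i < 25457 → P i := stepQ 25456 Q25456 (allL N25456 (tt N48469 D86606) (tt N48470 D86607) (tt N27746 F297810) (tt N21921 F61052) (tt N12756 F61053) (tt N13732 F297811) (tt N12626 (iv6 D40149)) (tt N48471 D86609))
theorem Q25458 : ∀ i, i < 25458 → P i := stepQ 25457 Q25457 (allL N25457 (tt N28722 (iv1 F74461)) (tt N12627 (iv0 D40150)) (tt N28719 F310900) (tt N22877 F310906) (tt N48472 D86612) (tt N48473 D86613) (tt N48474 D86614) (tt N28720 F310901))
theorem Q25459 : ∀ i, i < 25459 → P i := stepQ 25458 Q25458 (allL N25458 (tt N12627 (iv1 D40151)) (tt N28722 F74460) (tt N28720 F310904) (tt N48460 (iv3 F308734)) (tt N48475 D86617) (tt N48459 (iv5 F309644)) (tt N36557 (iv6 F308735)) (tt N28719 F310905))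
theorem Q25460 : ∀ i, i < 25460 → P i := stepQ 25459 Q25459 (allL N25459 (tt N38366 (iv1 F307177)) (tt N38362 (iv0 F307169)) (tt N28721 (iv2 F74454)) (tt N30551 F305243) (tt N36462 (iv4 F307178)) (tt N12627 (iv5 D40152)) (tt N12630 F61054) (tt N38365 (iv7 F307181)))
theorem Q25461 : ∀ i, i < 25461 → P i := stepQ 25460 Q25460 (allL N25460 (tt N28720 (iv1 F74453)) (tt N28719 F74459) (tt N28722 (iv2 F74456)) (tt N29807 F306898) (tt N28700 (iv4 F74395)) (tt N38365 (iv5 F307179)) (tt N29804 F306899) (tt N12627 (iv7 D40153)))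
theorem Q25462 : ∀ i, i < 25462 → P i := stepQ 25461 Q25461 (allL N25461 (tt N48455 F311847) (tt N48476 D86642) (tt N48465 F311128) (tt N12629 (iv3 D40158)) (tt N34945 (iv4 F90494)) (tt N48137 (iv5 F312239)) (tt N48477 D86645) (tt N35186 (iv7 F90956)))
theorem Q25463 : ∀ i, i < 25463 → P i := stepQ 25462 Q25462 (allL N25462 (tt N37493 (iv1 F311418)) (tt N24293 (iv0 F297927)) (tt N25194 F297813) (tt N48137 (iv3 F312238)) (tt N19011 (iv4 F311953)) (tt N12629 (iv5 D40159)) (tt N48478 D86647) (tt N35187 (iv7 F90958)))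
theorem Q25464 : ∀ i, i < 25464 → P i := stepQ 25463 Q25463 (allL N25463 (tt N34757 (iv1 F121486)) (tt N35496 (iv0 F297932)) (tt N25195 F297814) (tt N48477 (iv3 F132893)) (tt N24323 F297815) (tt N46494 (iv5 F123878)) (tt N12629 (iv6 D40160)) (tt N35495 (iv7 F299417)))
theorem Q25465 : ∀ i, i < 25465 → P i := stepQ 25464 Q25464 (allL N25464 (tt N48479 D86671) (tt N48480 D86672) (tt N35298 F297108) (tt N29802 (iv3 F77354)) (tt N48481 D86673) (tt N12632 (iv5 D40168)) (tt N43795 F307914) (tt N35299 (iv7 F299091)))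
theorem Q25466 : ∀ i, i < 25466 → P i := stepQ 25465 Q25465 (allL N25465 (tt N27729 (iv1 F297914)) (tt N37496 (iv0 F311982)) (tt N19484 F310260) (tt N19034 (iv3 F311096)) (tt N19480 (iv4 F310990)) (tt N12634 (iv5 D40181)) (tt N19031 F314369) (tt N36457 F310261))
theorem Q25467 : ∀ i, i < 25467 → P i := stepQ 25466 Q25466 (allL N25466 (tt N24188 F118842) (tt N17593 (iv0 F118868)) (tt N24194 (iv2 F118814)) (tt N24176 F296876) (tt N19440 F312549) (tt N24193 (iv5 F118811)) (tt N12635 (iv6 D40187)) (tt N24193 (iv7 F118813)))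
theorem Q25468 : ∀ i, i < 25468 → P i := stepQ 25467 Q25467 (allL N25467 (tt N17551 F91422) (tt N24347 F91423) (tt N12637 (iv2 D40194)) (tt N23985 F297064) (tt N24350 (iv4 F117234)) (tt N25364 F297065) (tt N46414 (iv6 F123451)) (tt N24346 (iv7 F91154)))
theorem Q25469 : ∀ i, i < 25469 → P i := stepQ 25468 Q25468 (allL N25468 (tt N17612 F117198) (tt N17960 (iv0 F61130)) (tt N24350 (iv2 F117233)) (tt N48482 D86692) (tt N12637 (iv4 D40195)) (tt N34524 (iv5 F300098)) (tt N46665 (iv6 F300100)) (tt N17796 (iv7 F298962)))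
theorem Q25470 : ∀ i, i < 25470 → P i := stepQ 25469 Q25469 (allL N25469 (tt N46409 F123455) (tt N23600 F123456) (tt N46414 F123449) (tt N12640 F61181) (tt N46665 (iv4 F300099)) (tt N46413 (iv5 F123444)) (tt N12637 (iv6 D40197)) (tt N46413 (iv7 F123447)))
theorem Q25471 : ∀ i, i < 25471 → P i := stepQ 25470 Q25470 (allL N25470 (tt N38299 F305764) (tt N38298 (iv0 F306188)) (tt N38301 (iv2 F306186)) (tt N12638 (iv3 D40198)) (tt N48482 (iv4 F132948)) (tt N37122 (iv5 F307763)) (tt N48483 D86699) (tt N38293 (iv7 F306185)))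
theorem Q25472 : ∀ i, i < 25472 → P i := stepQ 25471 Q25471 (allL N25471 (tt N24953 (iv1 F299986)) (tt N38278 F309775) (tt N38279 F309776) (tt N48483 (iv3 F132960)) (tt N12640 F61182) (tt N46642 (iv5 F299987)) (tt N12638 (iv6 D40200)) (tt N22225 (iv7 F311952)))
theorem Q25473 : ∀ i, i < 25473 → P i := stepQ 25472 Q25472 (allL N25472 (tt N17879 F297113) (tt N17877 F297114) (tt N48409 (iv2 F132373)) (tt N42231 (iv3 F308100)) (tt N12642 (iv4 D40206)) (tt N42082 (iv5 F308535)) (tt N24951 (iv6 F297481)) (tt N24227 F297115))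
theorem Q25474 : ∀ i, i < 25474 → P i := stepQ 25473 Q25473 (allL N25473 (tt N46490 F123859) (tt N23937 F296851) (tt N46500 F124468) (tt N23976 F296852) (tt N48484 D86709) (tt N12642 (iv5 D40207)) (tt N48485 D86710) (tt N27583 F296853))
theorem Q25475 : ∀ i, i < 25475 → P i := stepQ 25474 Q25474 (allL N25474 (tt N23675 F122685) (tt N17472 (iv0 F296866)) (tt N23683 F124471) (tt N17489 (iv3 F297470)) (tt N24951 (iv4 F297480)) (tt N46284 F122687) (tt N12642 (iv6 D40208)) (tt N13635 F296366))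
theorem Q25476 : ∀ i, i < 25476 → P i := stepQ 25475 Q25475 (allL N25475 (tt N17877 F297116) (tt N17879 F297117) (tt N24227 F297118) (tt N48486 D86713) (tt N12643 (iv4 D40211)) (tt N48487 D86714) (tt N13633 F297119) (tt N48409 (iv7 F132375)))
theorem Q25477 : ∀ i, i < 25477 → P i := stepQ 25476 Q25476 (allL N25476 (tt N23937 (iv1 F296823)) (tt N46490 (iv0 F123858)) (tt N27583 (iv2 F296177)) (tt N35220 (iv3 F296822)) (tt N48488 D86716) (tt N12643 (iv5 D40212)) (tt N13637 F296166) (tt N46500 (iv7 F124467)))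
theorem Q25478 : ∀ i, i < 25478 → P i := stepQ 25477 Q25477 (allL N25477 (tt N44622 (iv1 F112718)) (tt N44621 F296233) (tt N23497 F61197) (tt N48489 D86719) (tt N12644 (iv4 D40214)) (tt N27880 F294064) (tt N48416 (iv6 F132561)) (tt N23733 F61198))
theorem Q25479 : ∀ i, i < 25479 → P i := stepQ 25478 Q25478 (allL N25478 (tt N44621 F296234) (tt N44622 (iv0 F112717)) (tt N23733 F61199) (tt N48490 D86721) (tt N12645 (iv4 D40215)) (tt N27873 F294053) (tt N48491 D86723) (tt N23497 F61200))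
theorem Q25480 : ∀ i, i < 25480 → P i := stepQ 25479 Q25479 (allL N25479 (tt N23682 F119072) (tt N48492 D86724) (tt N23734 F61201) (tt N31210 (iv3 F325551)) (tt N48491 (iv4 F133011)) (tt N23730 F61202) (tt N12645 (iv6 D40216)) (tt N31200 F324457))
theorem Q25481 : ∀ i, i < 25481 → P i := stepQ 25480 Q25480 (allL N25480 (tt N45228 (iv1 F114863)) (tt N17160 F303017) (tt N29794 (iv2 F77332)) (tt N17127 F61203) (tt N21701 F61205) (tt N12646 (iv5 D40217)) (tt N34317 (iv6 F305411)) (tt N21991 F61204))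
theorem Q25482 : ∀ i, i < 25482 → P i := stepQ 25481 Q25481 (allL N25481 (tt N34451 (iv1 F307766)) (tt N43077 (iv0 F307740)) (tt N29795 (iv2 F77334)) (tt N43749 (iv3 F109596)) (tt N12647 F61206) (tt N34310 (iv5 F309498)) (tt N12646 (iv6 D40218)) (tt N42707 (iv7 F190010)))
theorem Q25483 : ∀ i, i < 25483 → P i := stepQ 25482 Q25482 (allL N25482 (tt N42551 (iv1 F191368)) (tt N42525 (iv0 F191369)) (tt N42480 (iv2 F106267)) (tt N12650 F61207) (tt N43178 (iv4 F108252)) (tt N48493 D86742) (tt N12648 (iv6 D40222)) (tt N42550 (iv7 F191147)))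
theorem Q25484 : ∀ i, i < 25484 → P i := stepQ 25483 Q25483 (allL N25483 (tt N48427 (iv1 F132648)) (tt N23570 (iv0 F61208)) (tt N43908 (iv2 F110130)) (tt N12649 (iv3 D40223)) (tt N43177 (iv4 F108251)) (tt N43431 F305374) (tt N48494 D86745) (tt N29793 (iv7 F77330)))
theorem Q25485 : ∀ i, i < 25485 → P i := stepQ 25484 Q25484 (allL N25484 (tt N17160 (iv1 F300292)) (tt N45228 (iv0 F114862)) (tt N21991 F61209) (tt N43431 (iv3 F302991)) (tt N42853 (iv4 F107335)) (tt N12649 (iv5 D40224)) (tt N22835 (iv6 F307454)) (tt N29794 (iv7 F77333)))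
theorem Q25486 : ∀ i, i < 25486 → P i := stepQ 25485 Q25485 (allL N25485 (tt N48495 D86747) (tt N30517 (iv0 F307422)) (tt N29788 (iv2 F77308)) (tt N48494 (iv3 F133031)) (tt N12650 F61210) (tt N40206 (iv5 F310069)) (tt N12649 (iv6 D40225)) (tt N42602 (iv7 F191151)))
theorem Q25487 : ∀ i, i < 25487 → P i := stepQ 25486 Q25486 (allL N25486 (tt N33830 F190056) (tt N42617 F190057) (tt N29789 (iv2 F77311)) (tt N48493 (iv3 F133022)) (tt N43548 (iv4 F109179)) (tt N12650 (iv5 D40228)) (tt N23271 F61211) (tt N42603 (iv7 F191153)))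
theorem Q25488 : ∀ i, i < 25488 → P i := stepQ 25487 Q25487 (allL N25487 (tt N48138 (iv1 F131401)) (tt N39975 (iv0 F309914)) (tt N12654 F61212) (tt N36414 (iv3 F94530)) (tt N39346 (iv4 F309915)) (tt N12651 (iv5 D40230)) (tt N23144 F61213) (tt N39343 (iv7 F309917)))
theorem Q25489 : ∀ i, i < 25489 → P i := stepQ 25488 Q25488 (allL N25488 (tt N22699 (iv1 F312241)) (tt N36431 (iv0 F199686)) (tt N35105 (iv2 F191230)) (tt N12652 (iv3 D40232)) (tt N35091 F90838) (tt N20227 F309996) (tt N48469 F305230) (tt N35108 (iv7 F191219)))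
theorem Q25490 : ∀ i, i < 25490 → P i := stepQ 25489 Q25489 (allL N25489 (tt N47989 (iv1 F133057)) (tt N47939 (iv0 F232550)) (tt N44496 (iv2 F309908)) (tt N22010 (iv3 F310185)) (tt N12652 (iv4 D40233)) (tt N22010 F312446) (tt N22006 (iv6 F309852)) (tt N48134 (iv7 F191221)))
theorem Q25491 : ∀ i, i < 25491 → P i := stepQ 25490 Q25490 (allL N25490 (tt N48142 (iv1 F191303)) (tt N35484 (iv0 F191304)) (tt N48135 (iv2 F191213)) (tt N20227 F309997) (tt N48496 D86783) (tt N12652 (iv5 D40234)) (tt N48497 D86784) (tt N44317 F309998))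
theorem Q25492 : ∀ i, i < 25492 → P i := stepQ 25491 Q25491 (allL N25491 (tt N38319 F309828) (tt N23922 F303815) (tt N42611 (iv2 F215737)) (tt N48469 F303816) (tt N22006 (iv4 F309851)) (tt N48498 D86788) (tt N12652 (iv6 D40235)) (tt N42610 (iv7 F215736)))
theorem Q25493 : ∀ i, i < 25493 → P i := stepQ 25492 Q25492 (allL N25492 (tt N42532 (iv1 F155121)) (tt N35477 F133062) (tt N42534 (iv2 F198147)) (tt N12653 (iv3 D40237)) (tt N43193 (iv4 F199893)) (tt N48499 D86792) (tt N48500 D86793) (tt N42533 (iv7 F198149)))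
theorem Q25494 : ∀ i, i < 25494 → P i := stepQ 25493 Q25493 (allL N25493 (tt N47939 (iv1 F232551)) (tt N47989 (iv0 F133056)) (tt N48134 (iv2 F191220)) (tt N48501 D86794) (tt N12653 (iv4 D40238)) (tt N48502 D86795) (tt N48503 D86796) (tt N44496 (iv7 F309910)))
theorem Q25495 : ∀ i, i < 25495 → P i := stepQ 25494 Q25494 (allL N25494 (tt N35484 (iv1 F191305)) (tt N48142 (iv0 F191302)) (tt N44317 F312131) (tt N48499 (iv3 F133095)) (tt N48504 D86797) (tt N12653 (iv5 D40239)) (tt N48505 D86798) (tt N48135 (iv7 F191214)))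
theorem Q25496 : ∀ i, i < 25496 → P i := stepQ 25495 Q25495 (allL N25495 (tt N34760 (iv1 F191306)) (tt N42710 (iv0 F194685)) (tt N42715 (iv2 F194692)) (tt N48500 (iv3 F133096)) (tt N48503 (iv4 F133097)) (tt N46506 (iv5 F191355)) (tt N12653 (iv6 D40240)) (tt N42716 (iv7 F194701)))
theorem Q25497 : ∀ i, i < 25497 → P i := stepQ 25496 Q25496 (allL N25496 (tt N39343 F309999) (tt N12654 (iv0 D40241)) (tt N48138 (iv2 F234080)) (tt N22697 F310000) (tt N48506 D86805) (tt N42843 (iv5 F191370)) (tt N33316 F319667) (tt N39975 F310001))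
theorem Q25498 : ∀ i, i < 25498 → P i := stepQ 25497 Q25497 (allL N25497 (tt N12654 (iv1 D40242)) (tt N39343 F310002) (tt N39975 F310003) (tt N48507 D86809) (tt N48508 D86810) (tt N42844 (iv5 F236655)) (tt N48509 D86812) (tt N48138 (iv7 F234081)))
theorem Q25499 : ∀ i, i < 25499 → P i := stepQ 25498 Q25498 (allL N25498 (tt N44486 F112252) (tt N44487 (iv0 F112255)) (tt N36647 (iv2 F94943)) (tt N15224 F311348) (tt N34639 (iv4 F309206)) (tt N33859 F307231) (tt N12656 (iv6 D40247)) (tt N18375 (iv7 F313741)))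
theorem Q25500 : ∀ i, i < 25500 → P i := stepQ 25499 Q25499 (allL N25499 (tt N48510 D86823) (tt N48511 D86824) (tt N48512 D86825) (tt N12657 (iv3 D40248)) (tt N39347 F314595) (tt N48513 D86826) (tt N23155 F61218) (tt N48140 (iv7 F131408)))
theorem Q25501 : ∀ i, i < 25501 → P i := stepQ 25500 Q25500 (allL N25500 (tt N23076 F61221) (tt N23073 F61222) (tt N36649 (iv2 F94946)) (tt N48513 (iv3 F133110)) (tt N21527 F61219) (tt N12657 (iv5 D40249)) (tt N48514 D86827) (tt N21526 F61220))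
theorem Q25502 : ∀ i, i < 25502 → P i := stepQ 25501 Q25501 (allL N25501 (tt N23580 F116691) (tt N17558 F116692) (tt N12660 F61225) (tt N25127 (iv3 F299923)) (tt N12659 (iv4 D40258)) (tt N17515 F320943) (tt N12660 (iv6 F297958)) (tt N23565 (iv7 F91579)))
theorem Q25503 : ∀ i, i < 25503 → P i := stepQ 25502 Q25502 (allL N25502 (tt N23565 (iv1 F91582)) (tt N12660 (iv0 D40261)) (tt N23580 F116668) (tt N48515 D86831) (tt N24207 F116669) (tt N45860 F321957) (tt N17561 (iv6 F297965)) (tt N17558 F116671))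
theorem Q25504 : ∀ i, i < 25504 → P i := stepQ 25503 Q25503 (allL N25503 (tt N17561 F299418) (tt N17559 F125928) (tt N17563 F299419) (tt N17299 F61303) (tt N12662 (iv4 D40284)) (tt N48516 D86855) (tt N23540 (iv6 F299919)) (tt N17549 F299420))
theorem Q25505 : ∀ i, i < 25505 → P i := stepQ 25504 Q25504 (allL N25504 (tt N23940 (iv1 F302156)) (tt N23939 (iv0 F301330)) (tt N22505 F61310) (tt N15696 (iv3 F325157)) (tt N12663 (iv4 D40287)) (tt N25297 F61312) (tt N15694 F323894) (tt N22526 F61311))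
theorem Q25506 : ∀ i, i < 25506 → P i := stepQ 25505 Q25505 (allL N25505 (tt N12888 (iv1 F61357)) (tt N12670 (iv0 D40302)) (tt N26363 F64936) (tt N48517 D86871) (tt N12726 F61356) (tt N27897 (iv5 F293574)) (tt N13806 F292513) (tt N13793 (iv7 F61358)))
theorem Q25507 : ∀ i, i < 25507 → P i := stepQ 25506 Q25506 (allL N25506 (tt N12670 (iv1 D40303)) (tt N12888 F61359) (tt N13793 F61361) (tt N48518 D86873) (tt N12925 (iv4 F61360)) (tt N27898 (iv5 F291788)) (tt N29206 F291134) (tt N26363 (iv7 F64938)))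
theorem Q25508 : ∀ i, i < 25508 → P i := stepQ 25507 Q25507 (allL N25507 (tt N48519 D86875) (tt N48520 D86876) (tt N48521 D86877) (tt N12670 (iv3 D40304)) (tt N26296 (iv4 F64566)) (tt N48522 D86878) (tt N14593 (iv6 F293594)) (tt N26370 (iv7 F64973)))
theorem Q25509 : ∀ i, i < 25509 → P i := stepQ 25508 Q25508 (allL N25508 (tt N25657 (iv1 F293596)) (tt N48523 D86880) (tt N26365 (iv2 F64940)) (tt N48522 (iv3 F133286)) (tt N45836 F119747) (tt N12670 (iv5 D40305)) (tt N48524 D86881) (tt N26371 (iv7 F64975)))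
theorem Q25510 : ∀ i, i < 25510 → P i := stepQ 25509 Q25509 (allL N25509 (tt N12719 F61362) (tt N12684 (iv0 F293881)) (tt N12779 (iv2 F293591)) (tt N48525 D86882) (tt N12671 (iv4 D40306)) (tt N27337 (iv5 F70082)) (tt N25750 (iv6 F62130)) (tt N12780 (iv7 F293593)))
theorem Q25511 : ∀ i, i < 25511 → P i := stepQ 25510 Q25510 (allL N25510 (tt N25274 (iv1 F297384)) (tt N24957 (iv0 F297386)) (tt N17988 F296307) (tt N17679 F61364) (tt N45829 (iv4 F119737)) (tt N12672 (iv5 D40309)) (tt N12673 F61365) (tt N24238 (iv7 F297321)))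
theorem Q25512 : ∀ i, i < 25512 → P i := stepQ 25511 Q25511 (allL N25511 (tt N13137 (iv1 F61370)) (tt N12674 (iv0 D40311)) (tt N13914 F293845) (tt N27031 (iv3 F68552)) (tt N12924 F61369) (tt N48523 (iv5 F133290)) (tt N27384 F293846) (tt N13858 F293847))
theorem Q25513 : ∀ i, i < 25513 → P i := stepQ 25512 Q25512 (allL N25512 (tt N48526 D86892) (tt N27388 (iv0 F295217)) (tt N48527 D86894) (tt N12674 (iv3 D40313)) (tt N48525 (iv4 F133291)) (tt N48528 D86895) (tt N25779 (iv6 F62300)) (tt N13919 F294750))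
theorem Q25514 : ∀ i, i < 25514 → P i := stepQ 25513 Q25513 (allL N25513 (tt N48529 D86896) (tt N27628 (iv0 F70692)) (tt N13916 F293815) (tt N48528 (iv3 F133319)) (tt N45826 (iv4 F119729)) (tt N12674 (iv5 D40314)) (tt N48530 D86897) (tt N13920 F293816))
theorem Q25515 : ∀ i, i < 25515 → P i := stepQ 25514 Q25514 (allL N25514 (tt N14109 (iv1 F72921)) (tt N14105 (iv0 F72917)) (tt N14273 F61373) (tt N12676 F61374) (tt N48531 D86898) (tt N12675 (iv5 D40315)) (tt N48532 D86899) (tt N25797 (iv7 F62326)))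
theorem Q25516 : ∀ i, i < 25516 → P i := stepQ 25515 Q25515 (allL N25515 (tt N48533 D86900) (tt N48534 D86901) (tt N25959 (iv2 F63689)) (tt N12677 F61375) (tt N25515 F61376) (tt N48535 D86902) (tt N12675 (iv6 D40316)) (tt N48536 D86903))
theorem Q25517 : ∀ i, i < 25517 → P i := stepQ 25516 Q25516 (allL N25516 (tt N34048 F304636) (tt N43388 (iv0 F302075)) (tt N12692 F61377) (tt N48532 (iv3 F133329)) (tt N24157 F61378) (tt N48537 D86906) (tt N12676 (iv6 D40317)) (tt N34504 (iv7 F301841)))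
theorem Q25518 : ∀ i, i < 25518 → P i := stepQ 25517 Q25517 (allL N25517 (tt N12677 (iv1 D40318)) (tt N12696 F61379) (tt N12694 F63519) (tt N48538 D86908) (tt N25970 F63774) (tt N48539 D86909) (tt N14603 (iv6 F292832)) (tt N12693 F63520))
theorem Q25519 : ∀ i, i < 25519 → P i := stepQ 25518 Q25518 (allL N25518 (tt N28962 (iv1 F74707)) (tt N25847 (iv0 F62375)) (tt N12695 F61380) (tt N48535 (iv3 F133330)) (tt N48540 D86910) (tt N12677 (iv5 D40319)) (tt N48537 (iv6 F133335)) (tt N48541 D86911))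
theorem Q25520 : ∀ i, i < 25520 → P i := stepQ 25519 Q25519 (allL N25519 (tt N12694 (iv1 F61383)) (tt N12693 F61384) (tt N12696 F61381) (tt N48536 (iv3 F133331)) (tt N12680 F61382) (tt N48541 (iv5 F133351)) (tt N26158 (iv6 F64330)) (tt N12677 (iv7 D40320)))
theorem Q25521 : ∀ i, i < 25521 → P i := stepQ 25520 Q25520 (allL N25520 (tt N48542 D86912) (tt N12746 F63562) (tt N12698 F63445) (tt N28039 (iv3 F72591)) (tt N12678 (iv4 D40323)) (tt N48543 D86913) (tt N27201 (iv6 F69224)) (tt N12702 F63446))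
theorem Q25522 : ∀ i, i < 25522 → P i := stepQ 25521 Q25521 (allL N25521 (tt N12746 F63561) (tt N48542 F133356) (tt N12702 F63455) (tt N26206 (iv3 F64386)) (tt N12679 (iv4 D40326)) (tt N48544 D86915) (tt N14599 (iv6 F293315)) (tt N12698 F63456))
theorem Q25523 : ∀ i, i < 25523 → P i := stepQ 25522 Q25522 (allL N25522 (tt N12698 F63120) (tt N12702 F63121) (tt N12746 F61387) (tt N26091 (iv3 F64176)) (tt N12920 F61388) (tt N48545 D86916) (tt N12681 (iv6 D40328)) (tt N48542 (iv7 F133357)))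
theorem Q25524 : ∀ i, i < 25524 → P i := stepQ 25523 Q25523 (allL N25523 (tt N12750 (iv1 F61394)) (tt N12749 F61393) (tt N12682 (iv2 D40329)) (tt N12775 F61389) (tt N24483 F61390) (tt N17019 F61391) (tt N48546 D86917) (tt N12751 F61392))
theorem Q25525 : ∀ i, i < 25525 → P i := stepQ 25524 Q25524 (allL N25524 (tt N28060 F72625) (tt N48547 D86918) (tt N48546 (iv2 F133370)) (tt N12684 F61395) (tt N13504 F294760) (tt N48548 D86919) (tt N12682 (iv6 D40330)) (tt N25595 (iv7 F294775)))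
theorem Q25526 : ∀ i, i < 25526 → P i := stepQ 25525 Q25525 (allL N25525 (tt N22314 (iv1 F306398)) (tt N17911 (iv0 F306401)) (tt N12778 F61397) (tt N21596 F61398) (tt N28714 (iv4 F74436)) (tt N48549 D86922) (tt N12683 (iv6 D40331)) (tt N22312 (iv7 F306396)))
theorem Q25527 : ∀ i, i < 25527 → P i := stepQ 25526 Q25526 (allL N25526 (tt N12684 (iv1 D40333)) (tt N12719 (iv0 F293860)) (tt N12780 F62845) (tt N26095 F65959) (tt N12977 (iv4 F62879)) (tt N27338 (iv5 F294176)) (tt N48550 D86928) (tt N12779 F62846))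
theorem Q25528 : ∀ i, i < 25528 → P i := stepQ 25527 Q25527 (allL N25527 (tt N27672 F293585) (tt N27670 F293586) (tt N12781 F61400) (tt N48548 (iv3 F133373)) (tt N44635 (iv4 F294509)) (tt N12684 (iv5 D40334)) (tt N48549 (iv6 F133378)) (tt N25596 (iv7 F293623)))
theorem Q25529 : ∀ i, i < 25529 → P i := stepQ 25528 Q25528 (allL N25528 (tt N28074 (iv1 F72638)) (tt N26069 (iv0 F64072)) (tt N21594 F61433) (tt N12687 F61434) (tt N25422 (iv4 F61436)) (tt N12686 (iv5 D40353)) (tt N48551 D86936) (tt N12776 F61435))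
theorem Q25530 : ∀ i, i < 25530 → P i := stepQ 25529 Q25529 (allL N25529 (tt N28180 (iv1 F72954)) (tt N26074 (iv0 F66332)) (tt N28035 (iv2 F72586)) (tt N12688 F61437) (tt N27752 (iv4 F71405)) (tt N48552 D86937) (tt N12686 (iv6 D40354)) (tt N27188 (iv7 F69179)))
theorem Q25531 : ∀ i, i < 25531 → P i := stepQ 25530 Q25530 (allL N25530 (tt N48553 D86938) (tt N48554 D86939) (tt N12756 F61438) (tt N48551 (iv3 F133425)) (tt N27746 F299900) (tt N48555 D86940) (tt N12687 (iv6 D40355)) (tt N48556 D86941))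
theorem Q25532 : ∀ i, i < 25532 → P i := stepQ 25531 Q25531 (allL N25531 (tt N12760 (iv1 F61444)) (tt N12688 (iv0 D40356)) (tt N12757 F66307) (tt N26661 F294851) (tt N13934 F66308) (tt N48557 D86942) (tt N29194 (iv6 F293125)) (tt N12758 F66309))
theorem Q25533 : ∀ i, i < 25533 → P i := stepQ 25532 Q25532 (allL N25532 (tt N48558 D86944) (tt N48559 D86945) (tt N12759 F61440) (tt N48552 (iv3 F133427)) (tt N48560 D86946) (tt N12688 (iv5 D40358)) (tt N48555 (iv6 F133430)) (tt N27189 (iv7 F69182)))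
theorem Q25534 : ∀ i, i < 25534 → P i := stepQ 25533 Q25533 (allL N25533 (tt N26152 (iv1 F64299)) (tt N12689 (iv0 D40368)) (tt N26151 F64301) (tt N24482 F61453) (tt N42347 (iv4 F106031)) (tt N25789 (iv5 F62312)) (tt N48561 D86947) (tt N26135 (iv7 F64272)))
theorem Q25535 : ∀ i, i < 25535 → P i := stepQ 25534 Q25534 (allL N25534 (tt N12689 (iv1 D40369)) (tt N26152 F64306) (tt N26135 (iv2 F64304)) (tt N28128 (iv3 F72743)) (tt N27076 (iv4 F68902)) (tt N25790 (iv5 F64305)) (tt N48562 D86948) (tt N26151 F64303))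
theorem Q25536 : ∀ i, i < 25536 → P i := stepQ 25535 Q25535 (allL N25535 (tt N48563 D86949) (tt N48564 D86950) (tt N46695 (iv2 F125889)) (tt N12690 F61454) (tt N26383 (iv4 F65039)) (tt N48565 D86951) (tt N12689 (iv6 D40370)) (tt N25597 (iv7 F293189)))
theorem Q25537 : ∀ i, i < 25537 → P i := stepQ 25536 Q25536 (allL N25536 (tt N27668 F294299) (tt N12723 F294300) (tt N25600 F294301) (tt N48565 (iv3 F133457)) (tt N44625 (iv4 F294526)) (tt N12690 (iv5 D40373)) (tt N28712 (iv6 F74429)) (tt N25598 F294302))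
theorem Q25538 : ∀ i, i < 25538 → P i := stepQ 25537 Q25537 (allL N25537 (tt N42758 F303952) (tt N42796 F303953) (tt N42795 F303954) (tt N12691 (iv3 D40375)) (tt N22951 F61455) (tt N24152 F61456) (tt N48566 D86956) (tt N26159 (iv7 F64335)))
theorem Q25539 : ∀ i, i < 25539 → P i := stepQ 25538 Q25538 (allL N25538 (tt N36478 (iv1 F305234)) (tt N36477 (iv0 F305233)) (tt N24157 F61457) (tt N48566 (iv3 F133478)) (tt N12692 F61458) (tt N48567 D86959) (tt N12691 (iv6 D40376)) (tt N36434 (iv7 F305232)))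
theorem Q25540 : ∀ i, i < 25540 → P i := stepQ 25539 Q25539 (allL N25539 (tt N48568 D86971) (tt N48569 D86972) (tt N48537 (iv2 F133334)) (tt N26188 (iv3 F64360)) (tt N48570 D86973) (tt N12692 (iv5 D40379)) (tt N12695 F61459) (tt N44557 (iv7 F305546)))
theorem Q25541 : ∀ i, i < 25541 → P i := stepQ 25540 Q25540 (allL N25540 (tt N48571 D86975) (tt N48562 F333362) (tt N48572 D86977) (tt N12693 (iv3 D40382)) (tt N26422 (iv4 F65116)) (tt N48573 D86978) (tt N48574 D86979) (tt N48538 (iv7 F133342)))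
theorem Q25542 : ∀ i, i < 25542 → P i := stepQ 25541 Q25541 (allL N25541 (tt N48575 D86980) (tt N29472 (iv0 F293271)) (tt N26238 (iv2 F64433)) (tt N48573 (iv3 F133493)) (tt N48576 D86982) (tt N12693 (iv5 D40384)) (tt N48577 D86983) (tt N48539 (iv7 F133344)))
theorem Q25543 : ∀ i, i < 25543 → P i := stepQ 25542 Q25542 (allL N25542 (tt N27192 (iv1 F69218)) (tt N26337 F291767) (tt N26239 (iv2 F64435)) (tt N48574 (iv3 F133494)) (tt N26236 (iv4 F64430)) (tt N28706 (iv5 F74411)) (tt N12693 (iv6 D40385)) (tt N27197 F72339))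
theorem Q25544 : ∀ i, i < 25544 → P i := stepQ 25543 Q25543 (allL N25543 (tt N27944 (iv1 F289546)) (tt N48578 D86985) (tt N48579 D86986) (tt N12694 (iv3 D40387)) (tt N24401 F335618) (tt N48580 D86987) (tt N48581 D86988) (tt N26237 (iv7 F64432)))
theorem Q25545 : ∀ i, i < 25545 → P i := stepQ 25544 Q25544 (allL N25544 (tt N29472 F293874) (tt N48575 F133496) (tt N48539 (iv2 F133343)) (tt N48580 (iv3 F133502)) (tt N48582 D86989) (tt N12694 (iv5 D40388)) (tt N48583 D86990) (tt N26238 (iv7 F64434)))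
theorem Q25546 : ∀ i, i < 25546 → P i := stepQ 25545 Q25545 (allL N25545 (tt N14606 (iv1 F292828)) (tt N14564 (iv0 F292827)) (tt N14603 (iv2 F292831)) (tt N48581 (iv3 F133503)) (tt N13484 F291818) (tt N26733 (iv5 F67000)) (tt N12694 (iv6 D40389)) (tt N14604 F291819))
theorem Q25547 : ∀ i, i < 25547 → P i := stepQ 25546 Q25546 (allL N25546 (tt N48541 (iv1 F133353)) (tt N12695 (iv0 D40390)) (tt N28962 (iv2 F74704)) (tt N48584 D86991) (tt N48585 D86992) (tt N25848 (iv5 F63559)) (tt N48586 D86993) (tt N25847 F63560))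
theorem Q25548 : ∀ i, i < 25548 → P i := stepQ 25547 Q25547 (allL N25547 (tt N12695 (iv1 D40391)) (tt N48541 F133352) (tt N25847 (iv2 F62374)) (tt N48587 D86994) (tt N48588 D86995) (tt N14422 (iv5 F61463)) (tt N48588 F337950) (tt N28962 (iv7 F74705)))
theorem Q25549 : ∀ i, i < 25549 → P i := stepQ 25548 Q25548 (allL N25548 (tt N48589 D86997) (tt N48590 D86998) (tt N48540 (iv2 F133346)) (tt N48591 D86999) (tt N12695 (iv4 D40392)) (tt N48592 D87000) (tt N48570 (iv6 F133490)) (tt N48593 D87001))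
theorem Q25550 : ∀ i, i < 25550 → P i := stepQ 25549 Q25549 (allL N25549 (tt N25847 (iv1 F62376)) (tt N28962 (iv0 F74706)) (tt N48541 (iv2 F133349)) (tt N26225 (iv3 F64418)) (tt N48593 (iv4 F133521)) (tt N12696 F61464) (tt N48594 D87002) (tt N12695 (iv7 D40393)))
theorem Q25551 : ∀ i, i < 25551 → P i := stepQ 25550 Q25550 (allL N25550 (tt N26987 (iv1 F68388)) (tt N24484 (iv0 F64474)) (tt N26195 (iv2 F64370)) (tt N12699 F61474) (tt N28195 (iv4 F72998)) (tt N12697 (iv5 D40401)) (tt N26585 F292020) (tt N26209 (iv7 F64391)))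
theorem Q25552 : ∀ i, i < 25552 → P i := stepQ 25551 Q25551 (allL N25551 (tt N13575 F74584) (tt N26382 F290816) (tt N26196 (iv2 F64372)) (tt N12700 F61475) (tt N26039 (iv4 F63931)) (tt N26586 F290817) (tt N12697 (iv6 D40402)) (tt N27199 (iv7 F69220)))
theorem Q25553 : ∀ i, i < 25553 → P i := stepQ 25552 Q25552 (allL N25552 (tt N12702 (iv1 F61485)) (tt N12698 (iv0 D40404)) (tt N48542 F133355) (tt N48595 D87005) (tt N13055 (iv4 F61488)) (tt N48596 D87006) (tt N26303 F64632) (tt N12746 F63157))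
theorem Q25554 : ∀ i, i < 25554 → P i := stepQ 25553 Q25553 (allL N25553 (tt N48597 D87007) (tt N42791 F335690) (tt N48598 D87009) (tt N12698 (iv3 D40406)) (tt N26037 (iv4 F63926)) (tt N48599 D87010) (tt N48600 D87011) (tt N26206 (iv7 F64387)))
theorem Q25555 : ∀ i, i < 25555 → P i := stepQ 25554 Q25554 (allL N25554 (tt N48601 D87012) (tt N48602 D87013) (tt N48543 (iv2 F133359)) (tt N48599 (iv3 F133543)) (tt N48603 D87014) (tt N12698 (iv5 D40407)) (tt N48604 D87015) (tt N48544 (iv7 F133366)))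
theorem Q25556 : ∀ i, i < 25556 → P i := stepQ 25555 Q25555 (allL N25555 (tt N27560 F70443) (tt N48605 D87016) (tt N27201 (iv2 F69223)) (tt N48600 (iv3 F133544)) (tt N12700 F61482) (tt N48606 D87017) (tt N12698 (iv6 D40408)) (tt N27200 (iv7 F69222)))
theorem Q25557 : ∀ i, i < 25557 → P i := stepQ 25556 Q25556 (allL N25556 (tt N12703 (iv1 F61497)) (tt N12699 (iv0 D40410)) (tt N13518 (iv2 F62478)) (tt N25556 F62183) (tt N48607 D87018) (tt N12829 F61492) (tt N14565 (iv6 F294235)) (tt N12783 F62048))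
theorem Q25558 : ∀ i, i < 25558 → P i := stepQ 25557 Q25557 (allL N25557 (tt N48608 D87019) (tt N48550 F133403) (tt N29211 (iv2 F293173)) (tt N48609 D87020) (tt N12699 (iv4 D40412)) (tt N48610 D87021) (tt N29118 F293163) (tt N26306 F64635))
theorem Q25559 : ∀ i, i < 25559 → P i := stepQ 25558 Q25558 (allL N25558 (tt N46281 (iv1 F292081)) (tt N48611 D87023) (tt N26778 (iv2 F67687)) (tt N12703 F61501) (tt N27771 (iv4 F71448)) (tt N12701 (iv5 D40420)) (tt N13147 (iv6 F61502)) (tt N26776 (iv7 F67681)))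
theorem Q25560 : ∀ i, i < 25560 → P i := stepQ 25559 Q25559 (allL N25559 (tt N48612 D87024) (tt N13622 F71757) (tt N26779 (iv2 F67690)) (tt N12704 F61504) (tt N27799 (iv4 F71548)) (tt N26609 (iv5 F66367)) (tt N12701 (iv6 D40421)) (tt N14600 (iv7 F292062)))
theorem Q25561 : ∀ i, i < 25561 → P i := stepQ 25560 Q25560 (allL N25560 (tt N28036 (iv1 F72598)) (tt N28042 (iv0 F72597)) (tt N28040 (iv2 F149747)) (tt N12702 (iv3 D40422)) (tt N27797 (iv4 F71543)) (tt N48613 D87026) (tt N48614 D87027) (tt N28039 F72593))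
theorem Q25562 : ∀ i, i < 25562 → P i := stepQ 25561 Q25561 (allL N25561 (tt N48602 (iv1 F133547)) (tt N48601 F133546) (tt N48544 (iv2 F133365)) (tt N48613 (iv3 F133583)) (tt N48615 D87028) (tt N12702 (iv5 D40423)) (tt N48616 D87029) (tt N48543 (iv7 F133360)))
theorem Q25563 : ∀ i, i < 25563 → P i := stepQ 25562 Q25562 (allL N25562 (tt N48617 D87030) (tt N25750 F292875) (tt N14599 (iv2 F293314)) (tt N48614 (iv3 F133584)) (tt N12704 F61505) (tt N48618 D87032) (tt N12702 (iv6 D40424)) (tt N14601 (iv7 F293046)))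
theorem Q25564 : ∀ i, i < 25564 → P i := stepQ 25563 Q25563 (allL N25563 (tt N48550 F133402) (tt N48608 F133559) (tt N26306 (iv2 F64633)) (tt N48619 D87033) (tt N12703 (iv4 D40425)) (tt N48620 D87034) (tt N26300 (iv6 F64590)) (tt N29211 (iv7 F293174)))
theorem Q25565 : ∀ i, i < 25565 → P i := stepQ 25564 Q25564 (allL N25564 (tt N48621 D87035) (tt N29089 (iv0 F292195)) (tt N26806 (iv2 F67786)) (tt N26311 (iv3 F64673)) (tt N48622 D87037) (tt N12705 (iv5 D40432)) (tt N47477 F326546) (tt N25568 (iv7 F61525)))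
theorem Q25566 : ∀ i, i < 25566 → P i := stepQ 25565 Q25565 (allL N25565 (tt N27090 (iv1 F75903)) (tt N27146 F75904) (tt N26807 (iv2 F67788)) (tt N25569 (iv3 F61527)) (tt N12707 F61511) (tt N26535 F65457) (tt N12705 (iv6 D40433)) (tt N27144 F69037))
theorem Q25567 : ∀ i, i < 25567 → P i := stepQ 25566 Q25566 (allL N25566 (tt N13171 (iv1 F61515)) (tt N12706 (iv0 D40434)) (tt N13483 (iv2 F61514)) (tt N48611 (iv3 F133573)) (tt N48623 D87039) (tt N12902 F61512) (tt N13288 F61513) (tt N13088 F291277))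
theorem Q25568 : ∀ i, i < 25568 → P i := stepQ 25567 Q25567 (allL N25567 (tt N48624 D87040) (tt N13618 (iv0 F63350)) (tt N26808 (iv2 F67790)) (tt N27144 F69036) (tt N12706 (iv4 D40435)) (tt N26547 (iv5 F65475)) (tt N14198 (iv6 F291869)) (tt N25569 (iv7 F61529)))
theorem Q25569 : ∀ i, i < 25569 → P i := stepQ 25568 Q25568 (allL N25568 (tt N48625 D87041) (tt N26961 (iv0 F68315)) (tt N26430 (iv2 F65120)) (tt N26312 (iv3 F64678)) (tt N48626 D87042) (tt N12708 (iv5 D40438)) (tt N32758 (iv6 F83486)) (tt N25564 F61525))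
theorem Q25570 : ∀ i, i < 25570 → P i := stepQ 25569 Q25569 (allL N25569 (tt N26772 (iv1 F291350)) (tt N27250 F69442) (tt N26404 (iv2 F65056)) (tt N25565 F61527) (tt N12709 (iv4 D40440)) (tt N26925 F68262) (tt N13102 F61528) (tt N25567 F61529))
theorem Q25571 : ∀ i, i < 25571 → P i := stepQ 25570 Q25570 (allL N25570 (tt N24210 (iv1 F61535)) (tt N24209 F61536) (tt N24211 F61533) (tt N25976 (iv3 F63798)) (tt N27736 (iv4 F71262)) (tt N25414 (iv5 F296282)) (tt N25589 (iv6 F61586)) (tt N12710 (iv7 D40445)))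
theorem Q25572 : ∀ i, i < 25572 → P i := stepQ 25571 Q25571 (allL N25571 (tt N48627 D87047) (tt N48628 D87048) (tt N39749 (iv2 F328159)) (tt N12712 (iv3 D40446)) (tt N26462 (iv4 F65257)) (tt N39187 (iv5 F328161)) (tt N27783 (iv6 F71496)) (tt N13662 F61537))
theorem Q25573 : ∀ i, i < 25573 → P i := stepQ 25572 Q25572 (allL N25572 (tt N25679 (iv1 F294463)) (tt N25676 (iv0 F294457)) (tt N25592 (iv2 F61609)) (tt N39187 F328563) (tt N27638 (iv4 F70739)) (tt N12712 (iv5 D40447)) (tt N39185 (iv6 F328986)) (tt N13663 F61538))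
theorem Q25574 : ∀ i, i < 25574 → P i := stepQ 25573 Q25573 (allL N25573 (tt N28302 (iv1 F293499)) (tt N48629 D87053) (tt N28458 (iv2 F293500)) (tt N12714 (iv3 D40448)) (tt N25573 F61539) (tt N48630 D87055) (tt N27053 (iv6 F293501)) (tt N27667 (iv7 F70864)))
theorem Q25575 : ∀ i, i < 25575 → P i := stepQ 25574 Q25574 (allL N25574 (tt N25600 (iv1 F61657)) (tt N25598 (iv0 F61651)) (tt N12723 F61540) (tt N48630 (iv3 F133643)) (tt N35528 (iv4 F92779)) (tt N12714 (iv5 D40449)) (tt N48631 D87056) (tt N27668 (iv7 F70867)))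
theorem Q25576 : ∀ i, i < 25576 → P i := stepQ 25575 Q25575 (allL N25575 (tt N24242 F61547) (tt N14677 F61548) (tt N25303 F61545) (tt N48632 D87059) (tt N12716 (iv4 D40451)) (tt N44634 (iv5 F112729)) (tt N26743 F295979) (tt N25302 F61546))
theorem Q25577 : ∀ i, i < 25577 → P i := stepQ 25576 Q25576 (allL N25576 (tt N12886 F61559) (tt N12885 F61560) (tt N22900 F61556) (tt N15532 F325943) (tt N45494 (iv4 F116030)) (tt N12717 (iv5 D40460)) (tt N45989 (iv6 F296314)) (tt N22899 F296049))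
theorem Q25578 : ∀ i, i < 25578 → P i := stepQ 25577 Q25577 (allL N25577 (tt N28101 F294732) (tt N26102 (iv0 F295197)) (tt N28100 (iv2 F295196)) (tt N12719 (iv3 D40463)) (tt N27891 F294733) (tt N48633 D87087) (tt N27188 F294734) (tt N12777 (iv7 F294929)))
theorem Q25579 : ∀ i, i < 25579 → P i := stepQ 25578 Q25578 (allL N25578 (tt N27670 (iv1 F70885)) (tt N27672 (iv0 F70893)) (tt N25596 (iv2 F61622)) (tt N48633 (iv3 F133696)) (tt N44634 (iv4 F112730)) (tt N12719 (iv5 D40464)) (tt N48634 D87089) (tt N12781 (iv7 F293624)))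
theorem Q25580 : ∀ i, i < 25580 → P i := stepQ 25579 Q25579 (allL N25579 (tt N48635 D87095) (tt N48636 D87096) (tt N48637 D87097) (tt N12720 (iv3 D40469)) (tt N48638 D87098) (tt N48639 D87099) (tt N28703 (iv6 F291462)) (tt N29469 (iv7 F76401)))
theorem Q25581 : ∀ i, i < 25581 → P i := stepQ 25580 Q25580 (allL N25580 (tt N25685 (iv1 F293491)) (tt N12732 F61570) (tt N26381 (iv2 F65029)) (tt N48639 (iv3 F133703)) (tt N27710 (iv4 F71166)) (tt N12720 (iv5 D40470)) (tt N48640 D87101) (tt N27275 F292477))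
theorem Q25582 : ∀ i, i < 25582 → P i := stepQ 25581 Q25581 (allL N25581 (tt N48641 D87104) (tt N48642 D87105) (tt N48643 D87106) (tt N12721 (iv3 D40472)) (tt N13525 F61571) (tt N19557 F327968) (tt N48644 D87108) (tt N26380 (iv7 F65028)))
theorem Q25583 : ∀ i, i < 25583 → P i := stepQ 25582 Q25582 (allL N25582 (tt N12732 F61572) (tt N25685 (iv0 F293490)) (tt N27275 F292469) (tt N19557 F327967) (tt N44619 (iv4 F112706)) (tt N12721 (iv5 D40473)) (tt N19555 (iv6 F328364)) (tt N26381 (iv7 F65030)))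
theorem Q25584 : ∀ i, i < 25584 → P i := stepQ 25583 Q25583 (allL N25583 (tt N14676 F61574) (tt N26728 (iv0 F291458)) (tt N26736 F291002) (tt N48644 (iv3 F133710)) (tt N13207 F61573) (tt N48645 D87110) (tt N12721 (iv6 D40474)) (tt N26737 (iv7 F291369)))
theorem Q25585 : ∀ i, i < 25585 → P i := stepQ 25584 Q25584 (allL N25584 (tt N24437 (iv1 F295045)) (tt N26150 (iv0 F295046)) (tt N26148 (iv2 F295044)) (tt N12723 F61576) (tt N28116 (iv4 F295047)) (tt N12722 (iv5 D40478)) (tt N48646 D87124) (tt N26147 F294400))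
theorem Q25586 : ∀ i, i < 25586 → P i := stepQ 25585 Q25585 (allL N25585 (tt N12723 (iv1 D40480)) (tt N27668 (iv0 F70868)) (tt N25598 (iv2 F61649)) (tt N31662 F327943) (tt N37757 (iv4 F328124)) (tt N13498 F61578) (tt N31664 (iv6 F328343)) (tt N25600 (iv7 F61655)))
theorem Q25587 : ∀ i, i < 25587 → P i := stepQ 25586 Q25586 (allL N25586 (tt N44635 (iv1 F112732)) (tt N44634 F112731) (tt N35528 (iv2 F92778)) (tt N48647 D87129) (tt N12723 (iv4 D40481)) (tt N27636 F70736) (tt N48648 D87130) (tt N29470 (iv7 F76412)))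
theorem Q25588 : ∀ i, i < 25588 → P i := stepQ 25587 Q25587 (allL N25587 (tt N48649 D87131) (tt N48650 D87132) (tt N48631 (iv2 F133644)) (tt N48646 (iv3 F133717)) (tt N48648 (iv4 F133720)) (tt N27060 (iv5 F294771)) (tt N12723 (iv6 D40482)) (tt N48651 D87133))
theorem Q25589 : ∀ i, i < 25589 → P i := stepQ 25588 Q25588 (allL N25588 (tt N23907 (iv1 F61587)) (tt N12725 (iv0 D40493)) (tt N23500 F296528) (tt N23522 (iv3 F91404)) (tt N27727 (iv4 F116718)) (tt N22226 F310585) (tt N34759 (iv6 F297447)) (tt N23503 F296530))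
theorem Q25590 : ∀ i, i < 25590 → P i := stepQ 25589 Q25589 (allL N25589 (tt N23503 F296558) (tt N23500 F296559) (tt N23907 F61582) (tt N13972 F61583) (tt N23084 (iv4 F61589)) (tt N13772 F61585) (tt N25570 F61586) (tt N12725 (iv7 D40495)))
theorem Q25591 : ∀ i, i < 25591 → P i := stepQ 25590 Q25590 (allL N25590 (tt N12925 (iv1 F61606)) (tt N12726 (iv0 D40496)) (tt N12927 (iv2 F61605)) (tt N13157 F61604) (tt N13140 F61603) (tt N12922 F61602) (tt N29421 (iv6 F291790)) (tt N12921 F61607))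
theorem Q25592 : ∀ i, i < 25592 → P i := stepQ 25591 Q25591 (allL N25591 (tt N48652 D87175) (tt N48653 D87176) (tt N48654 D87177) (tt N12727 (iv3 D40497)) (tt N48517 (iv4 F133276)) (tt N48655 D87178) (tt N14629 F293610) (tt N13815 F61608))
theorem Q25593 : ∀ i, i < 25593 → P i := stepQ 25592 Q25592 (allL N25592 (tt N27338 (iv1 F70084)) (tt N27337 F70083) (tt N25572 F61609) (tt N48655 (iv3 F133787)) (tt N27294 (iv4 F70028)) (tt N12727 (iv5 D40498)) (tt N48656 D87179) (tt N13816 F61610))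
theorem Q25594 : ∀ i, i < 25594 → P i := stepQ 25593 Q25593 (allL N25593 (tt N48657 D87180) (tt N48658 D87181) (tt N14027 (iv2 F295056)) (tt N12728 (iv3 D40499)) (tt N25593 F61611) (tt N48659 D87183) (tt N29234 (iv6 F75405)) (tt N25684 F294451))
theorem Q25595 : ∀ i, i < 25595 → P i := stepQ 25594 Q25594 (allL N25594 (tt N26381 (iv1 F65033)) (tt N27275 F292472) (tt N12732 F61612) (tt N48659 (iv3 F133792)) (tt N29465 (iv4 F76347)) (tt N12728 (iv5 D40500)) (tt N48660 D87184) (tt N25685 (iv7 F293492)))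
theorem Q25596 : ∀ i, i < 25596 → P i := stepQ 25595 Q25595 (allL N25595 (tt N48661 D87188) (tt N48662 D87189) (tt N48663 D87190) (tt N12729 (iv3 D40503)) (tt N26659 (iv4 F66461)) (tt N38810 F337817) (tt N25627 F294774) (tt N25524 F294775))
theorem Q25597 : ∀ i, i < 25597 → P i := stepQ 25596 Q25596 (allL N25596 (tt N25682 F293621) (tt N25681 F293622) (tt N25578 F61622) (tt N38810 (iv3 F337808)) (tt N48292 (iv4 F132093)) (tt N12729 (iv5 D40504)) (tt N38808 F337801) (tt N25527 F293623))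
theorem Q25598 : ∀ i, i < 25598 → P i := stepQ 25597 Q25597 (allL N25597 (tt N48664 D87213) (tt N48665 D87214) (tt N48666 D87215) (tt N12730 (iv3 D40516)) (tt N26010 (iv4 F63888)) (tt N48667 D87216) (tt N27040 F293724) (tt N25535 F293189))
theorem Q25599 : ∀ i, i < 25599 → P i := stepQ 25598 Q25598 (allL N25598 (tt N25574 F61651) (tt N14680 F61652) (tt N25585 F61649) (tt N48667 (iv3 F133870)) (tt N48288 (iv4 F132076)) (tt N12730 (iv5 D40517)) (tt N48668 D87218) (tt N25536 (iv7 F294302)))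
theorem Q25600 : ∀ i, i < 25600 → P i := stepQ 25599 Q25599 (allL N25599 (tt N48669 D87223) (tt N48670 D87224) (tt N24361 F294746) (tt N12731 (iv3 D40519)) (tt N12982 F294747) (tt N48671 D87226) (tt N12976 F294748) (tt N27022 (iv7 F68474)))
theorem Q25601 : ∀ i, i < 25601 → P i := stepQ 25600 Q25600 (allL N25600 (tt N14680 F61656) (tt N25574 F61657) (tt N25536 (iv2 F294301)) (tt N48671 (iv3 F133877)) (tt N48285 (iv4 F132067)) (tt N12731 (iv5 D40520)) (tt N25827 (iv6 F294439)) (tt N25585 F61655))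
theorem Q25602 : ∀ i, i < 25602 → P i := stepQ 25601 Q25601 (allL N25601 (tt N27638 F70741) (tt N27677 (iv0 F70910)) (tt N29465 (iv2 F76345)) (tt N48672 D87244) (tt N12732 (iv4 D40526)) (tt N27665 (iv5 F70838)) (tt N48673 D87245) (tt N27276 F294428))
theorem Q25603 : ∀ i, i < 25603 → P i := stepQ 25602 Q25602 (allL N25602 (tt N48674 D87246) (tt N38735 (iv0 F332721)) (tt N48660 (iv2 F133793)) (tt N27574 (iv3 F295048)) (tt N48673 (iv4 F133890)) (tt N29324 (iv5 F75625)) (tt N12732 (iv6 D40527)) (tt N48675 D87248))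
theorem Q25604 : ∀ i, i < 25604 → P i := stepQ 25603 Q25603 (allL N25603 (tt N48676 D87289) (tt N48677 D87290) (tt N48678 D87291) (tt N12733 (iv3 D40538)) (tt N25603 F61663) (tt N48679 D87292) (tt N29354 (iv6 F75811)) (tt N26366 (iv7 F64943)))
theorem Q25605 : ∀ i, i < 25605 → P i := stepQ 25604 Q25604 (allL N25604 (tt N26374 (iv1 F64998)) (tt N26373 F64995) (tt N12892 F61664) (tt N48679 (iv3 F133983)) (tt N24033 F61665) (tt N12733 (iv5 D40539)) (tt N48680 D87293) (tt N26367 (iv7 F64946)))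
theorem Q25606 : ∀ i, i < 25606 → P i := stepQ 25605 Q25605 (allL N25605 (tt N12735 (iv1 D40541)) (tt N13389 F61666) (tt N13388 F63478) (tt N13148 (iv3 F63474)) (tt N25961 F63715) (tt N27956 (iv5 F291140)) (tt N26573 (iv6 F291291)) (tt N13387 (iv7 F63479)))
theorem Q25607 : ∀ i, i < 25607 → P i := stepQ 25606 Q25606 (allL N25606 (tt N13388 (iv1 F61673)) (tt N13387 F61674) (tt N13389 F61669) (tt N25649 (iv3 F61799)) (tt N14001 F61670) (tt N13522 F290847) (tt N24432 F61671) (tt N12735 (iv7 D40543)))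
theorem Q25608 : ∀ i, i < 25608 → P i := stepQ 25607 Q25607 (allL N25607 (tt N26573 F291682) (tt N26585 F291683) (tt N24439 F66303) (tt N13489 F66300) (tt N14019 F66299) (tt N13487 (iv5 F66301)) (tt N12736 (iv6 D40548)) (tt N26272 F291684))
theorem Q25609 : ∀ i, i < 25609 → P i := stepQ 25608 Q25608 (allL N25608 (tt N13345 (iv1 F293882)) (tt N28875 (iv0 F74582)) (tt N13574 F66292) (tt N26606 (iv3 F66285)) (tt N28113 (iv4 F72678)) (tt N12737 (iv5 D40552)) (tt N14271 (iv6 F61677)) (tt N24438 F66293))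
theorem Q25610 : ∀ i, i < 25610 → P i := stepQ 25609 Q25609 (allL N25609 (tt N27199 (iv1 F74588)) (tt N26196 (iv0 F66265)) (tt N13575 (iv2 F66298)) (tt N27942 (iv3 F291232)) (tt N14022 F66279) (tt N13392 F290804) (tt N12737 (iv6 D40553)) (tt N26382 F290805))
theorem Q25611 : ∀ i, i < 25611 → P i := stepQ 25610 Q25610 (allL N25610 (tt N23495 F61686) (tt N23729 F61687) (tt N27699 (iv2 F71119)) (tt N35832 F326752) (tt N12740 (iv4 D40560)) (tt N48681 D87312) (tt N35306 (iv6 F297278)) (tt N46152 (iv7 F122219)))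
theorem Q25612 : ∀ i, i < 25612 → P i := stepQ 25611 Q25611 (allL N25611 (tt N26089 (iv1 F64173)) (tt N12744 (iv0 D40590)) (tt N27414 F71573) (tt N28050 F72606) (tt N27446 (iv4 F70288)) (tt N46949 (iv5 F127860)) (tt N48682 D87334) (tt N27413 F71571))
theorem Q25613 : ∀ i, i < 25613 → P i := stepQ 25612 Q25612 (allL N25612 (tt N12744 (iv1 D40591)) (tt N26089 F64172) (tt N27413 (iv2 F71572)) (tt N26057 (iv3 F70307)) (tt N27465 (iv4 F70306)) (tt N46947 (iv5 F127855)) (tt N48683 D87335) (tt N27414 (iv7 F71574)))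
theorem Q25614 : ∀ i, i < 25614 → P i := stepQ 25613 Q25613 (allL N25613 (tt N44757 F113366) (tt N44755 (iv0 F113356)) (tt N28143 (iv2 F72911)) (tt N12745 F61713) (tt N28592 (iv4 F74247)) (tt N12744 (iv5 D40592)) (tt N48684 D87336) (tt N22216 F302141))
theorem Q25615 : ∀ i, i < 25615 → P i := stepQ 25614 Q25614 (allL N25614 (tt N48685 D87337) (tt N48686 D87338) (tt N28144 (iv2 F72923)) (tt N12746 F61714) (tt N13875 F61715) (tt N48687 D87339) (tt N12744 (iv6 D40593)) (tt N48595 (iv7 F133539)))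
theorem Q25616 : ∀ i, i < 25616 → P i := stepQ 25615 Q25615 (allL N25615 (tt N22260 (iv1 F306517)) (tt N22259 (iv0 F306516)) (tt N22262 F304606) (tt N48684 (iv3 F134096)) (tt N22148 F304607) (tt N48688 D87342) (tt N12745 (iv6 D40594)) (tt N22222 (iv7 F305580)))
theorem Q25617 : ∀ i, i < 25617 → P i := stepQ 25616 Q25616 (allL N25616 (tt N48689 D87344) (tt N25884 F63563) (tt N48545 (iv2 F133367)) (tt N48687 (iv3 F134097)) (tt N48690 D87345) (tt N12746 (iv5 D40597)) (tt N48688 (iv6 F134098)) (tt N48596 (iv7 F133540)))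
theorem Q25618 : ∀ i, i < 25618 → P i := stepQ 25617 Q25617 (allL N25617 (tt N27330 (iv1 F292362)) (tt N48691 D87351) (tt N22220 F307546) (tt N28150 (iv3 F72927)) (tt N48692 D87352) (tt N12748 (iv5 D40602)) (tt N22169 F307547) (tt N48693 D87353))
theorem Q25619 : ∀ i, i < 25619 → P i := stepQ 25618 Q25618 (allL N25618 (tt N26301 F64602) (tt N26300 (iv0 F64592)) (tt N26303 F64629) (tt N26273 F64491) (tt N13941 F61717) (tt N48693 (iv5 F134109)) (tt N48542 F133358) (tt N12748 (iv7 D40603)))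
theorem Q25620 : ∀ i, i < 25620 → P i := stepQ 25619 Q25619 (allL N25619 (tt N48598 F335586) (tt N26206 (iv0 F335590)) (tt N42791 (iv2 F107129)) (tt N17624 F61718) (tt N25621 (iv4 F61723)) (tt N48694 D87356) (tt N12749 (iv6 D40604)) (tt N48597 F335692))
theorem Q25621 : ∀ i, i < 25621 → P i := stepQ 25620 Q25620 (allL N25620 (tt N28016 F72565) (tt N28050 F72604) (tt N24375 F61719) (tt N12750 (iv3 D40605)) (tt N24375 F61720) (tt N21765 F61721) (tt N48695 D87358) (tt N28051 (iv7 F72608)))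
theorem Q25622 : ∀ i, i < 25622 → P i := stepQ 25621 Q25621 (allL N25621 (tt N26304 (iv1 F335593)) (tt N48696 D87360) (tt N21786 F61722) (tt N48695 (iv3 F134116)) (tt N25619 F61723) (tt N48697 D87361) (tt N12750 (iv6 D40606)) (tt N48698 D87362))
theorem Q25623 : ∀ i, i < 25623 → P i := stepQ 25622 Q25622 (allL N25622 (tt N48699 D87363) (tt N48700 D87364) (tt N12753 F61724) (tt N28035 (iv3 F72587)) (tt N26137 (iv4 F64276)) (tt N48701 D87365) (tt N12751 (iv6 D40607)) (tt N48702 D87366))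
theorem Q25624 : ∀ i, i < 25624 → P i := stepQ 25623 Q25623 (allL N25623 (tt N17962 (iv1 F232488)) (tt N25237 (iv0 F232487)) (tt N21595 F61725) (tt N12756 F61726) (tt N21911 F61727) (tt N48703 D87369) (tt N12752 (iv6 D40608)) (tt N25236 F232425))
theorem Q25625 : ∀ i, i < 25625 → P i := stepQ 25624 Q25624 (allL N25624 (tt N48702 (iv1 F134135)) (tt N12753 (iv0 D40609)) (tt N48699 (iv2 F152063)) (tt N26064 F72621) (tt N48662 F295255) (tt N48704 D87373) (tt N48705 D87374) (tt N48700 (iv7 F152060)))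
theorem Q25626 : ∀ i, i < 25626 → P i := stepQ 25625 Q25625 (allL N25625 (tt N12753 (iv1 D40610)) (tt N48702 F134133) (tt N48700 (iv2 F152059)) (tt N48706 D87376) (tt N48661 F295455) (tt N48707 D87378) (tt N48708 D87379) (tt N48699 (iv7 F152064)))
theorem Q25627 : ∀ i, i < 25627 → P i := stepQ 25626 Q25626 (allL N25626 (tt N48709 D87380) (tt N48710 D87381) (tt N48701 (iv2 F134129)) (tt N12759 F61728) (tt N48711 D87382) (tt N12753 (iv5 D40611)) (tt N48703 (iv6 F134139)) (tt N48712 D87383))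
theorem Q25628 : ∀ i, i < 25628 → P i := stepQ 25627 Q25627 (allL N25627 (tt N48700 (iv1 F134126)) (tt N48699 F134132) (tt N48702 (iv2 F134131)) (tt N12760 F61729) (tt N26142 (iv4 F64282)) (tt N48712 (iv5 F134154)) (tt N25595 (iv6 F294774)) (tt N12753 (iv7 D40612)))
theorem Q25629 : ∀ i, i < 25629 → P i := stepQ 25628 Q25628 (allL N25628 (tt N46949 (iv1 F127862)) (tt N46947 (iv0 F127856)) (tt N28152 (iv2 F72935)) (tt N12754 (iv3 D40613)) (tt N47065 (iv4 F128201)) (tt N12796 F61730) (tt N48713 D87384) (tt N27344 (iv7 F70104)))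
theorem Q25630 : ∀ i, i < 25630 → P i := stepQ 25629 Q25629 (allL N25629 (tt N48472 (iv1 F286202)) (tt N48475 (iv0 F286203)) (tt N29330 (iv2 F75722)) (tt N48713 (iv3 F134155)) (tt N22397 F306139) (tt N48714 D87387) (tt N12754 (iv6 D40614)) (tt N22390 (iv7 F308105)))
theorem Q25631 : ∀ i, i < 25631 → P i := stepQ 25630 Q25630 (allL N25630 (tt N48556 (iv1 F133435)) (tt N12756 (iv0 D40616)) (tt N48553 (iv2 F281940)) (tt N48715 D87394) (tt N17922 F305066) (tt N48716 D87396) (tt N17920 (iv6 F307012)) (tt N48554 (iv7 F281945)))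
theorem Q25632 : ∀ i, i < 25632 → P i := stepQ 25631 Q25631 (allL N25631 (tt N12756 (iv1 D40617)) (tt N48556 F133434) (tt N48554 (iv2 F281944)) (tt N28158 (iv3 F281930)) (tt N48161 F305065) (tt N48717 D87401) (tt N48718 D87402) (tt N48553 (iv7 F281941)))
theorem Q25633 : ∀ i, i < 25633 → P i := stepQ 25632 Q25632 (allL N25632 (tt N48719 D87403) (tt N48720 D87404) (tt N48555 (iv2 F133429)) (tt N48703 (iv3 F134138)) (tt N48721 D87405) (tt N12756 (iv5 D40618)) (tt N12759 F61731) (tt N48722 D87406))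
theorem Q25634 : ∀ i, i < 25634 → P i := stepQ 25633 Q25633 (allL N25633 (tt N48554 (iv1 F133428)) (tt N48553 F133433) (tt N48556 (iv2 F133431)) (tt N25236 F232424) (tt N48471 (iv4 F132855)) (tt N48722 (iv5 F134161)) (tt N22312 (iv6 F306395)) (tt N12756 (iv7 D40619)))
theorem Q25635 : ∀ i, i < 25635 → P i := stepQ 25634 Q25634 (allL N25634 (tt N48723 D87407) (tt N48683 (iv0 F157233)) (tt N28161 (iv2 F72944)) (tt N12757 (iv3 D40621)) (tt N27385 (iv4 F70174)) (tt N48724 D87409) (tt N48725 D87410) (tt N27558 (iv7 F70437)))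
theorem Q25636 : ∀ i, i < 25636 → P i := stepQ 25635 Q25635 (allL N25635 (tt N25907 (iv1 F63092)) (tt N48726 D87411) (tt N48557 (iv2 F133436)) (tt N48724 (iv3 F134162)) (tt N48727 D87412) (tt N12757 (iv5 D40623)) (tt N48728 D87413) (tt N27559 (iv7 F70439)))
theorem Q25637 : ∀ i, i < 25637 → P i := stepQ 25636 Q25636 (allL N25636 (tt N26310 (iv1 F133568)) (tt N29118 (iv0 F293041)) (tt N29194 (iv2 F293124)) (tt N48725 (iv3 F134163)) (tt N13950 F66310) (tt N25769 F62143) (tt N12757 (iv6 D40624)) (tt N29193 F292853))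
theorem Q25638 : ∀ i, i < 25638 → P i := stepQ 25637 Q25637 (allL N25637 (tt N48726 (iv1 F134164)) (tt N25907 F70440) (tt N27559 (iv2 F70438)) (tt N28164 (iv3 F72945)) (tt N48729 D87415) (tt N12758 (iv5 D40628)) (tt N48730 D87416) (tt N48557 (iv7 F133437)))
theorem Q25639 : ∀ i, i < 25639 → P i := stepQ 25638 Q25638 (allL N25638 (tt N27200 F69724) (tt N27201 (iv0 F134173)) (tt N27560 (iv2 F70441)) (tt N28165 (iv3 F72946)) (tt N13953 F66305) (tt N48731 D87418) (tt N12758 (iv6 D40629)) (tt N48605 (iv7 F133550)))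
theorem Q25640 : ∀ i, i < 25640 → P i := stepQ 25639 Q25639 (allL N25639 (tt N27189 (iv1 F69184)) (tt N12759 (iv0 D40630)) (tt N48558 F133449) (tt N48732 D87419) (tt N48733 D87420) (tt N26753 F294368) (tt N48734 D87421) (tt N48559 (iv7 F133452)))
theorem Q25641 : ∀ i, i < 25641 → P i := stepQ 25640 Q25640 (allL N25640 (tt N12759 (iv1 D40631)) (tt N27189 F69183) (tt N48559 F133454) (tt N28167 (iv3 F139514)) (tt N48735 D87423) (tt N26754 F294356) (tt N48736 D87424) (tt N48558 F133450))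
theorem Q25642 : ∀ i, i < 25642 → P i := stepQ 25641 Q25641 (allL N25641 (tt N48737 D87425) (tt N26703 F295288) (tt N48560 (iv2 F133455)) (tt N48738 D87427) (tt N12759 (iv4 D40632)) (tt N48739 D87428) (tt N48721 (iv6 F134160)) (tt N48740 D87429))
theorem Q25643 : ∀ i, i < 25643 → P i := stepQ 25642 Q25642 (allL N25642 (tt N48559 (iv1 F133451)) (tt N48558 F133448) (tt N27189 (iv2 F69181)) (tt N48712 (iv3 F134153)) (tt N48740 (iv4 F134185)) (tt N12760 F61734) (tt N48741 D87430) (tt N12759 (iv7 D40633)))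
theorem Q25644 : ∀ i, i < 25644 → P i := stepQ 25643 Q25643 (allL N25643 (tt N28193 (iv1 F72991)) (tt N26022 F157259) (tt N13421 F293941) (tt N12761 (iv3 D40649)) (tt N25643 F66326) (tt N48742 D87431) (tt N48743 D87432) (tt N27190 (iv7 F69187)))
theorem Q25645 : ∀ i, i < 25645 → P i := stepQ 25644 Q25644 (allL N25644 (tt N25855 F66322) (tt N27194 F69210) (tt N13507 F294997) (tt N48742 (iv3 F134188)) (tt N48744 D87433) (tt N12761 (iv5 D40650)) (tt N48745 D87434) (tt N27191 (iv7 F69189)))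
theorem Q25646 : ∀ i, i < 25646 → P i := stepQ 25645 Q25645 (allL N25645 (tt N26165 (iv1 F68685)) (tt N48746 D87435) (tt N13493 F293709) (tt N48743 (iv3 F134189)) (tt N12763 F61747) (tt N25818 F66321) (tt N12761 (iv6 D40651)) (tt N29192 F293228))
theorem Q25647 : ∀ i, i < 25647 → P i := stepQ 25646 Q25646 (allL N25646 (tt N13312 (iv1 F293960)) (tt N13311 F293660) (tt N13315 F293661) (tt N48747 D87437) (tt N12762 (iv4 D40653)) (tt N48748 D87438) (tt N27327 F291549) (tt N13313 (iv7 F293890)))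
theorem Q25648 : ∀ i, i < 25648 → P i := stepQ 25647 Q25647 (allL N25647 (tt N13150 (iv1 F61801)) (tt N12766 (iv0 D40686)) (tt N13147 F63699) (tt N13387 (iv3 F63698)) (tt N13707 (iv4 F63701)) (tt N26243 (iv5 F290863)) (tt N26778 (iv6 F67689)) (tt N13148 F63700))
theorem Q25649 : ∀ i, i < 25649 → P i := stepQ 25648 Q25648 (allL N25648 (tt N13521 F291126) (tt N13792 F291127) (tt N13149 F61794) (tt N13593 F291128) (tt N14315 (iv4 F291779)) (tt N12766 (iv5 D40688)) (tt N13146 F61796) (tt N13790 F291129))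
theorem Q25650 : ∀ i, i < 25650 → P i := stepQ 25649 Q25649 (allL N25649 (tt N13148 (iv1 F61802)) (tt N13147 F61805) (tt N13150 F61798) (tt N25606 F61799) (tt N13887 F61800) (tt N13790 (iv5 F290864)) (tt N26320 (iv6 F64752)) (tt N12766 (iv7 D40689)))
theorem Q25651 : ∀ i, i < 25651 → P i := stepQ 25650 Q25650 (allL N25650 (tt N27751 (iv1 F71397)) (tt N12767 (iv0 D40690)) (tt N27750 F71399) (tt N27365 (iv3 F70133)) (tt N26117 F64234) (tt N48749 D87457) (tt N48750 D87458) (tt N27749 F71393))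
theorem Q25652 : ∀ i, i < 25652 → P i := stepQ 25651 Q25651 (allL N25651 (tt N12767 (iv1 D40691)) (tt N27751 F71403) (tt N27749 (iv2 F71401)) (tt N27750 F71402) (tt N27943 (iv4 F72299)) (tt N48751 D87459) (tt N48752 D87460) (tt N27750 F71400))
theorem Q25653 : ∀ i, i < 25653 → P i := stepQ 25652 Q25652 (allL N25652 (tt N27750 (iv1 F71398)) (tt N27749 F71392) (tt N12767 (iv2 D40692)) (tt N13702 F61806) (tt N12775 F61807) (tt N48753 D87461) (tt N48754 D87462) (tt N27751 (iv7 F71396)))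
theorem Q25654 : ∀ i, i < 25654 → P i := stepQ 25653 Q25653 (allL N25653 (tt N42584 F106447) (tt N48755 D87463) (tt N48753 (iv2 F134275)) (tt N12768 F61808) (tt N48756 D87464) (tt N12767 (iv5 D40693)) (tt N48757 D87465) (tt N27608 (iv7 F70630)))
theorem Q25655 : ∀ i, i < 25655 → P i := stepQ 25654 Q25654 (allL N25654 (tt N48758 D87466) (tt N48759 D87467) (tt N48754 (iv2 F134277)) (tt N12769 F61809) (tt N12777 F61810) (tt N48760 D87468) (tt N12767 (iv6 D40694)) (tt N27891 (iv7 F71744)))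
theorem Q25656 : ∀ i, i < 25656 → P i := stepQ 25655 Q25655 (allL N25655 (tt N13830 F61814) (tt N13825 F61815) (tt N24233 F61811) (tt N44597 F308123) (tt N12768 (iv4 D40695)) (tt N13632 F61812) (tt N48761 D87470) (tt N24232 F61813))
theorem Q25657 : ∀ i, i < 25657 → P i := stepQ 25656 Q25656 (allL N25656 (tt N46612 (iv1 F332548)) (tt N46616 (iv0 F332549)) (tt N27610 (iv2 F70632)) (tt N48757 (iv3 F134283)) (tt N48761 (iv4 F134288)) (tt N48762 D87473) (tt N12768 (iv6 D40696)) (tt N48763 D87474))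
theorem Q25658 : ∀ i, i < 25658 → P i := stepQ 25657 Q25657 (allL N25657 (tt N25914 F293595) (tt N25508 F293596) (tt N27754 (iv2 F71409)) (tt N48760 (iv3 F134284)) (tt N48764 D87476) (tt N12769 (iv5 D40699)) (tt N48762 (iv6 F134289)) (tt N27892 (iv7 F71745)))
theorem Q25659 : ∀ i, i < 25659 → P i := stepQ 25658 Q25658 (allL N25658 (tt N26779 (iv1 F74004)) (tt N14600 F293133) (tt N13622 (iv2 F62922)) (tt N14200 F293134) (tt N13906 F62908) (tt N13789 F293135) (tt N12770 (iv6 D40705)) (tt N48612 (iv7 F133578)))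
theorem Q25660 : ∀ i, i < 25660 → P i := stepQ 25659 Q25659 (allL N25659 (tt N26776 (iv1 F67682)) (tt N26778 (iv0 F67688)) (tt N46281 (iv2 F292082)) (tt N13088 F291303) (tt N13909 F62927) (tt N25897 (iv5 F63081)) (tt N12771 (iv6 D40710)) (tt N48611 (iv7 F133569)))
theorem Q25661 : ∀ i, i < 25661 → P i := stepQ 25660 Q25660 (allL N25660 (tt N21933 (iv1 F61833)) (tt N12772 (iv0 D40718)) (tt N34834 F89981) (tt N48765 D87493) (tt N44558 (iv4 F112541)) (tt N18533 F61832) (tt N48766 D87494) (tt N34833 F89977))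
theorem Q25662 : ∀ i, i < 25662 → P i := stepQ 25661 Q25661 (allL N25661 (tt N12772 (iv1 D40719)) (tt N21933 (iv0 F61835)) (tt N34833 F89976) (tt N36416 F305288) (tt N44559 (iv4 F112543)) (tt N21975 F61834) (tt N15249 (iv6 F307247)) (tt N34834 (iv7 F89979)))
theorem Q25663 : ∀ i, i < 25663 → P i := stepQ 25662 Q25662 (allL N25662 (tt N34834 (iv1 F89978)) (tt N34833 F89975) (tt N12772 (iv2 D40720)) (tt N19497 F300133) (tt N34483 (iv4 F87646)) (tt N17106 F61836) (tt N27681 F297838) (tt N21933 F61837))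
theorem Q25664 : ∀ i, i < 25664 → P i := stepQ 25663 Q25663 (allL N25663 (tt N21782 (iv1 F61854)) (tt N14616 F61853) (tt N14176 F61852) (tt N28021 (iv3 F72569)) (tt N48767 D87536) (tt N12774 (iv5 D40744)) (tt N48768 D87537) (tt N25754 (iv7 F62136)))
theorem Q25665 : ∀ i, i < 25665 → P i := stepQ 25664 Q25664 (allL N25664 (tt N48769 D87538) (tt N26308 (iv0 F136299)) (tt N26062 (iv2 F64057)) (tt N28022 (iv3 F72571)) (tt N27451 (iv4 F70297)) (tt N48770 D87540) (tt N12774 (iv6 D40745)) (tt N48771 D87541))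
theorem Q25666 : ∀ i, i < 25666 → P i := stepQ 25665 Q25665 (allL N25665 (tt N26069 F64073) (tt N28074 F72639) (tt N12776 F61855) (tt N17019 F61856) (tt N25423 F61858) (tt N12775 (iv5 D40746)) (tt N48772 D87542) (tt N21594 F61857))
theorem Q25667 : ∀ i, i < 25667 → P i := stepQ 25666 Q25666 (allL N25666 (tt N26102 (iv1 F72653)) (tt N28101 F72657) (tt N12777 F61859) (tt N48546 (iv3 F133371)) (tt N48754 (iv4 F134279)) (tt N48773 D87543) (tt N12775 (iv6 D40747)) (tt N28100 (iv7 F72651)))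
theorem Q25668 : ∀ i, i < 25668 → P i := stepQ 25667 Q25667 (allL N25667 (tt N21594 (iv1 F61860)) (tt N12776 (iv0 D40748)) (tt N26069 (iv2 F64074)) (tt N28069 (iv3 F72631)) (tt N48420 (iv4 F132575)) (tt N12819 F64075) (tt N48774 D87544) (tt N28074 (iv7 F72637)))
theorem Q25669 : ∀ i, i < 25669 → P i := stepQ 25668 Q25668 (allL N25668 (tt N23931 (iv1 F61864)) (tt N25390 (iv0 F61863)) (tt N25423 F61861) (tt N48468 (iv3 F132845)) (tt N12776 (iv4 D40749)) (tt N17258 F301356) (tt N48775 D87545) (tt N25422 F61862))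
theorem Q25670 : ∀ i, i < 25670 → P i := stepQ 25669 Q25669 (allL N25669 (tt N48776 D87546) (tt N28085 (iv0 F232589)) (tt N48772 (iv2 F134438)) (tt N12778 F61865) (tt N48775 (iv4 F134443)) (tt N48777 D87548) (tt N12776 (iv6 D40750)) (tt N48778 D87549))
theorem Q25671 : ∀ i, i < 25671 → P i := stepQ 25670 Q25670 (allL N25670 (tt N28100 (iv1 F72654)) (tt N12777 (iv0 D40751)) (tt N26102 (iv2 F66278)) (tt N28094 (iv3 F72646)) (tt N27516 (iv4 F70361)) (tt N48779 D87550) (tt N48780 D87551) (tt N28101 (iv7 F72655)))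
theorem Q25672 : ∀ i, i < 25672 → P i := stepQ 25671 Q25671 (allL N25671 (tt N48781 D87552) (tt N28111 (iv0 F136896)) (tt N48773 (iv2 F134441)) (tt N12781 F61866) (tt N48782 D87554) (tt N12777 (iv5 D40753)) (tt N48777 (iv6 F134445)) (tt N48633 F294521))
theorem Q25673 : ∀ i, i < 25673 → P i := stepQ 25672 Q25672 (allL N25672 (tt N22312 (iv1 F306393)) (tt N12778 (iv0 D40755)) (tt N22314 (iv2 F306399)) (tt N48783 D87557) (tt N17914 (iv4 F305176)) (tt N48784 D87559) (tt N22336 (iv6 F306400)) (tt N17911 (iv7 F306403)))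
theorem Q25674 : ∀ i, i < 25674 → P i := stepQ 25673 Q25673 (allL N25673 (tt N48785 D87566) (tt N48786 D87567) (tt N48549 (iv2 F133376)) (tt N48777 (iv3 F134444)) (tt N48787 D87568) (tt N12778 (iv5 D40757)) (tt N12781 F61868) (tt N48788 D87569))
theorem Q25675 : ∀ i, i < 25675 → P i := stepQ 25674 Q25674 (allL N25674 (tt N17911 (iv1 F306402)) (tt N22314 (iv0 F306397)) (tt N22312 (iv2 F306394)) (tt N48778 (iv3 F134446)) (tt N33824 F305067) (tt N48788 (iv5 F134452)) (tt N48556 (iv6 F133432)) (tt N12778 (iv7 D40758)))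
theorem Q25676 : ∀ i, i < 25676 → P i := stepQ 25675 Q25675 (allL N25675 (tt N26097 F65969) (tt N26092 (iv0 F135032)) (tt N26094 F65961) (tt N12779 (iv3 D40760)) (tt N13613 (iv4 F62855)) (tt N48789 D87571) (tt N48790 D87572) (tt N26095 (iv7 F65960)))
theorem Q25677 : ∀ i, i < 25677 → P i := stepQ 25676 Q25676 (allL N25676 (tt N25572 F294457) (tt N13816 F294458) (tt N27337 F294459) (tt N48789 (iv3 F134453)) (tt N46548 F294460) (tt N12779 (iv5 D40762)) (tt N48791 D87576) (tt N27338 F294461))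
theorem Q25678 : ∀ i, i < 25678 → P i := stepQ 25677 Q25677 (allL N25677 (tt N14599 (iv1 F293313)) (tt N14601 (iv0 F293045)) (tt N25750 F292833) (tt N48790 (iv3 F134454)) (tt N25738 F292834) (tt N25731 F62008) (tt N12779 (iv6 D40763)) (tt N48617 F133587))
theorem Q25679 : ∀ i, i < 25679 → P i := stepQ 25678 Q25678 (allL N25678 (tt N48682 (iv1 F157628)) (tt N48792 D87578) (tt N48793 D87579) (tt N12780 (iv3 D40765)) (tt N13919 F63048) (tt N48794 D87580) (tt N48795 D87581) (tt N48525 F294511))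
theorem Q25680 : ∀ i, i < 25680 → P i := stepQ 25679 Q25679 (allL N25679 (tt N13816 F294462) (tt N25572 F294463) (tt N27338 F294464) (tt N48794 (iv3 F134463)) (tt N46547 F294465) (tt N12780 (iv5 D40767)) (tt N48796 D87583) (tt N27337 F294466))
theorem Q25681 : ∀ i, i < 25681 → P i := stepQ 25680 Q25680 (allL N25680 (tt N29211 (iv1 F293172)) (tt N26306 F64636) (tt N48550 (iv2 F133400)) (tt N48795 (iv3 F134464)) (tt N13918 F63049) (tt N25880 F63431) (tt N12780 (iv6 D40768)) (tt N48608 (iv7 F133560)))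
theorem Q25682 : ∀ i, i < 25682 → P i := stepQ 25681 Q25681 (allL N25681 (tt N25596 (iv1 F293622)) (tt N12781 (iv0 D40769)) (tt N27672 F292535) (tt N48797 D87584) (tt N48798 D87585) (tt N13661 F292536) (tt N48799 D87586) (tt N27670 F292537))
theorem Q25683 : ∀ i, i < 25683 → P i := stepQ 25682 Q25682 (allL N25682 (tt N12781 (iv1 D40770)) (tt N25596 (iv0 F293621)) (tt N27670 F293568) (tt N48800 D87587) (tt N48801 D87588) (tt N13660 F293569) (tt N48802 D87589) (tt N27672 F293570))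
theorem Q25684 : ∀ i, i < 25684 → P i := stepQ 25683 Q25683 (allL N25683 (tt N29470 F294440) (tt N35528 F294441) (tt N44635 (iv2 F294508)) (tt N48803 D87592) (tt N12781 (iv4 D40771)) (tt N25302 (iv5 F295055)) (tt N48787 (iv6 F134451)) (tt N44634 (iv7 F294510)))
theorem Q25685 : ∀ i, i < 25685 → P i := stepQ 25684 Q25684 (allL N25684 (tt N26025 F157592) (tt N28120 F72691) (tt N26112 F65957) (tt N12782 (iv3 D40807)) (tt N25684 F62204) (tt N48804 D87596) (tt N48805 D87597) (tt N25593 (iv7 F294451)))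
theorem Q25686 : ∀ i, i < 25686 → P i := stepQ 25685 Q25685 (allL N25685 (tt N25582 F293490) (tt N25580 F293491) (tt N13630 (iv2 F63061)) (tt N48804 (iv3 F134468)) (tt N25305 (iv4 F294431)) (tt N12782 (iv5 D40808)) (tt N48806 D87599) (tt N25594 F293492))
theorem Q25687 : ∀ i, i < 25687 → P i := stepQ 25686 Q25686 (allL N25686 (tt N26241 (iv1 F64444)) (tt N26162 F64445) (tt N13631 (iv2 F63062)) (tt N48805 (iv3 F134469)) (tt N12783 F61898) (tt N25843 (iv5 F62360)) (tt N12782 (iv6 D40809)) (tt N48607 (iv7 F133554)))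
theorem Q25688 : ∀ i, i < 25688 → P i := stepQ 25687 Q25687 (allL N25687 (tt N28289 (iv1 F73556)) (tt N28288 F73555) (tt N24754 F61940) (tt N29799 (iv3 F77350)) (tt N12784 (iv4 D40843)) (tt N48807 D87666) (tt N43793 (iv6 F305997)) (tt N28276 (iv7 F73535)))
theorem Q25689 : ∀ i, i < 25689 → P i := stepQ 25688 Q25688 (allL N25688 (tt N27921 (iv1 F72132)) (tt N12785 (iv0 D40845)) (tt N27918 F160539) (tt N48808 D87673) (tt N48809 D87674) (tt N48810 D87675) (tt N48811 D87676) (tt N27919 F160540))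
theorem Q25690 : ∀ i, i < 25690 → P i := stepQ 25689 Q25689 (allL N25689 (tt N12785 (iv1 D40846)) (tt N27921 F72131) (tt N27919 (iv2 F160537)) (tt N48812 D87678) (tt N48813 D87679) (tt N48814 D87680) (tt N26467 F294914) (tt N27918 (iv7 F160538)))
theorem Q25691 : ∀ i, i < 25691 → P i := stepQ 25690 Q25690 (allL N25690 (tt N48815 D87682) (tt N48816 D87683) (tt N27920 (iv2 F72124)) (tt N12787 F61943) (tt N48817 D87684) (tt N12785 (iv5 D40847)) (tt N43794 (iv6 F308270)) (tt N48818 D87685))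
theorem Q25692 : ∀ i, i < 25692 → P i := stepQ 25691 Q25691 (allL N25691 (tt N27919 (iv1 F72123)) (tt N27918 F72130) (tt N27921 (iv2 F72126)) (tt N12788 F61944) (tt N25691 F61945) (tt N48818 (iv5 F134595)) (tt N28281 (iv6 F73544)) (tt N12785 (iv7 D40848)))
theorem Q25693 : ∀ i, i < 25693 → P i := stepQ 25692 Q25692 (allL N25692 (tt N28637 F290189) (tt N48819 D87701) (tt N48820 D87702) (tt N12786 (iv3 D40853)) (tt N26883 (iv4 F68113)) (tt N48821 D87703) (tt N26695 F292620) (tt N12856 F61953))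
theorem Q25694 : ∀ i, i < 25694 → P i := stepQ 25693 Q25693 (allL N25693 (tt N28959 (iv1 F74688)) (tt N27278 F69720) (tt N12860 F61954) (tt N48821 (iv3 F134613)) (tt N48822 D87705) (tt N12786 (iv5 D40854)) (tt N48823 D87706) (tt N12857 F61955))
theorem Q25695 : ∀ i, i < 25695 → P i := stepQ 25694 Q25694 (allL N25694 (tt N12865 (iv1 F61961)) (tt N12787 (iv0 D40856)) (tt N12862 F64347) (tt N48824 D87707) (tt N48825 D87708) (tt N26241 (iv5 F64443)) (tt N48826 D87709) (tt N12863 F64348))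
theorem Q25696 : ∀ i, i < 25696 → P i := stepQ 25695 Q25695 (allL N25695 (tt N12787 (iv1 D40857)) (tt N12865 F61957) (tt N12863 F64344) (tt N48827 D87710) (tt N48828 D87711) (tt N26162 (iv5 F64343)) (tt N48829 D87712) (tt N12862 F64345))
theorem Q25697 : ∀ i, i < 25697 → P i := stepQ 25696 Q25696 (allL N25696 (tt N48830 D87713) (tt N48831 D87714) (tt N12864 F61958) (tt N48832 D87715) (tt N12787 (iv4 D40858)) (tt N48593 (iv5 F133522)) (tt N43796 (iv6 F308277)) (tt N48592 (iv7 F133517)))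
theorem Q25698 : ∀ i, i < 25698 → P i := stepQ 25697 Q25697 (allL N25697 (tt N12863 (iv1 F61962)) (tt N12862 F61963) (tt N12865 F61959) (tt N48818 (iv3 F134594)) (tt N48592 (iv4 F133516)) (tt N12788 F61960) (tt N48833 D87716) (tt N12787 (iv7 D40859)))
theorem Q25699 : ∀ i, i < 25699 → P i := stepQ 25698 Q25698 (allL N25698 (tt N29421 (iv1 F76113)) (tt N25747 (iv0 F64839)) (tt N28874 (iv2 F74571)) (tt N12791 F61964) (tt N29424 (iv4 F76127)) (tt N12789 (iv5 D40860)) (tt N13347 F294833) (tt N12879 F61965))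
theorem Q25700 : ∀ i, i < 25700 → P i := stepQ 25699 Q25699 (allL N25699 (tt N12792 (iv1 F61968)) (tt N12790 (iv0 D40861)) (tt N12869 (iv2 F61967)) (tt N28486 (iv3 F74043)) (tt N13933 (iv4 F63106)) (tt N48834 D87717) (tt N27782 F292406) (tt N12798 F63098))
theorem Q25701 : ∀ i, i < 25701 → P i := stepQ 25700 Q25700 (allL N25700 (tt N48835 D87718) (tt N28196 (iv0 F73263)) (tt N48836 D87719) (tt N12790 (iv3 D40862)) (tt N27617 (iv4 F70646)) (tt N48837 D87720) (tt N25908 (iv6 F63569)) (tt N12881 F61970))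
theorem Q25702 : ∀ i, i < 25702 → P i := stepQ 25701 Q25701 (allL N25701 (tt N48838 D87721) (tt N48839 D87722) (tt N12871 F61971) (tt N48837 (iv3 F134641)) (tt N48840 D87723) (tt N12790 (iv5 D40863)) (tt N48840 F329948) (tt N12882 F61972))
theorem Q25703 : ∀ i, i < 25703 → P i := stepQ 25702 Q25702 (allL N25702 (tt N25883 (iv1 F62417)) (tt N25767 (iv0 F63247)) (tt N12874 F61973) (tt N48841 D87725) (tt N12791 (iv4 D40864)) (tt N48689 (iv5 F134099)) (tt N13348 F294836) (tt N12884 F61974))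
theorem Q25704 : ∀ i, i < 25704 → P i := stepQ 25703 Q25703 (allL N25703 (tt N48839 (iv1 F134647)) (tt N48838 F134644) (tt N12882 F61975) (tt N28894 (iv3 F74619)) (tt N48842 D87726) (tt N12792 (iv5 D40865)) (tt N48843 D87727) (tt N12871 F61976))
theorem Q25705 : ∀ i, i < 25705 → P i := stepQ 25704 Q25704 (allL N25704 (tt N28480 (iv1 F290823)) (tt N13748 (iv0 F290824)) (tt N26813 (iv2 F290806)) (tt N13085 (iv3 F290814)) (tt N26825 F290655) (tt N12793 (iv5 D40870)) (tt N13083 F290656) (tt N13279 F66075))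
theorem Q25706 : ∀ i, i < 25706 → P i := stepQ 25705 Q25705 (allL N25705 (tt N13142 F66063) (tt N13267 F66064) (tt N13198 F66065) (tt N12794 (iv3 D40872)) (tt N14503 F66066) (tt N48844 D87731) (tt N48845 D87732) (tt N13268 F66067))
theorem Q25707 : ∀ i, i < 25707 → P i := stepQ 25706 Q25706 (allL N25706 (tt N13748 F291240) (tt N28480 F291241) (tt N13279 F66069) (tt N48844 (iv3 F134675)) (tt N27172 F291242) (tt N12794 (iv5 D40874)) (tt N26780 F291243) (tt N26813 F291244))
theorem Q25708 : ∀ i, i < 25708 → P i := stepQ 25707 Q25707 (allL N25707 (tt N13496 F290901) (tt N26889 F134005) (tt N13280 F66070) (tt N48845 (iv3 F134680)) (tt N14187 F66071) (tt N26781 F290902) (tt N12794 (iv6 D40875)) (tt N27070 F290903))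
theorem Q25709 : ∀ i, i < 25709 → P i := stepQ 25708 Q25708 (allL N25708 (tt N27343 (iv1 F70101)) (tt N12796 (iv0 D40880)) (tt N27342 F72107) (tt N14104 F61985) (tt N28565 F74190) (tt N28002 F72915) (tt N48846 D87740) (tt N27341 (iv7 F72106)))
theorem Q25710 : ∀ i, i < 25710 → P i := stepQ 25709 Q25709 (allL N25709 (tt N12796 (iv1 D40881)) (tt N27343 F70102) (tt N27341 (iv2 F72108)) (tt N26503 F72109) (tt N28564 (iv4 F74186)) (tt N27999 F72500) (tt N48847 D87741) (tt N27342 F72110))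
theorem Q25711 : ∀ i, i < 25711 → P i := stepQ 25710 Q25710 (allL N25710 (tt N48848 D87742) (tt N48849 D87743) (tt N28482 (iv2 F74038)) (tt N12797 F61986) (tt N13803 F61987) (tt N48850 D87744) (tt N12796 (iv6 D40882)) (tt N29355 (iv7 F75826)))
theorem Q25712 : ∀ i, i < 25712 → P i := stepQ 25711 Q25711 (allL N25711 (tt N48851 D87745) (tt N48606 (iv0 F133552)) (tt N29331 (iv2 F75723)) (tt N48850 (iv3 F134708)) (tt N48852 D87746) (tt N12797 (iv5 D40885)) (tt N48714 (iv6 F134156)) (tt N29356 (iv7 F75827)))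
theorem Q25713 : ∀ i, i < 25713 → P i := stepQ 25712 Q25712 (allL N25712 (tt N48610 (iv1 F133562)) (tt N48620 (iv0 F133591)) (tt N27346 (iv2 F70110)) (tt N28485 (iv3 F74042)) (tt N48853 D87747) (tt N12798 (iv5 D40889)) (tt N22404 F306632) (tt N48834 (iv7 F134631)))
theorem Q25714 : ∀ i, i < 25714 → P i := stepQ 25713 Q25713 (allL N25713 (tt N29357 (iv1 F289720)) (tt N27783 F293729) (tt N28647 (iv2 F74329)) (tt N17843 F61990) (tt N25715 (iv4 F61997)) (tt N48854 D87750) (tt N12799 (iv6 D40891)) (tt N28969 (iv7 F289722)))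
theorem Q25715 : ∀ i, i < 25715 → P i := stepQ 25714 Q25714 (allL N25714 (tt N14108 F61994) (tt N14104 (iv0 F61995)) (tt N24998 F61991) (tt N12800 (iv3 D40892)) (tt N24998 F61992) (tt N21582 F61993) (tt N48855 D87752) (tt N28395 (iv7 F73791)))
theorem Q25716 : ∀ i, i < 25716 → P i := stepQ 25715 Q25715 (allL N25715 (tt N12870 (iv1 F289749)) (tt N28891 (iv0 F289750)) (tt N21597 F61996) (tt N48855 (iv3 F134718)) (tt N25713 F61997) (tt N48856 D87755) (tt N12800 (iv6 D40893)) (tt N28893 (iv7 F289751)))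
theorem Q25717 : ∀ i, i < 25717 → P i := stepQ 25716 Q25716 (allL N25716 (tt N48857 D87757) (tt N48858 D87758) (tt N12802 F61998) (tt N28389 (iv3 F73781)) (tt N28234 (iv4 F73439)) (tt N48859 D87759) (tt N12801 (iv6 D40894)) (tt N48860 D87760))
theorem Q25718 : ∀ i, i < 25718 → P i := stepQ 25717 Q25717 (allL N25717 (tt N48860 (iv1 F134736)) (tt N12802 (iv0 D40895)) (tt N48857 (iv2 F154190)) (tt N28217 F73805) (tt N48861 D87762) (tt N48862 D87763) (tt N48863 D87764) (tt N48858 (iv7 F154187)))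
theorem Q25719 : ∀ i, i < 25719 → P i := stepQ 25718 Q25718 (allL N25718 (tt N12802 (iv1 D40896)) (tt N48860 F134734) (tt N48858 (iv2 F154186)) (tt N48864 D87766) (tt N48865 D87767) (tt N48866 D87768) (tt N48867 D87769) (tt N48857 (iv7 F154191)))
theorem Q25720 : ∀ i, i < 25720 → P i := stepQ 25719 Q25719 (allL N25719 (tt N48868 D87770) (tt N48869 D87771) (tt N48859 (iv2 F134731)) (tt N12807 F61999) (tt N48870 D87772) (tt N12802 (iv5 D40897)) (tt N42789 (iv6 F107127)) (tt N48871 D87773))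
theorem Q25721 : ∀ i, i < 25721 → P i := stepQ 25720 Q25720 (allL N25720 (tt N48858 (iv1 F134728)) (tt N48857 F134733) (tt N48860 (iv2 F134732)) (tt N12808 F62000) (tt N28238 (iv4 F73442)) (tt N48871 (iv5 F134744)) (tt N27051 (iv6 F68582)) (tt N12802 (iv7 D40898)))
theorem Q25722 : ∀ i, i < 25722 → P i := stepQ 25721 Q25721 (allL N25721 (tt N29348 (iv1 F75772)) (tt N12804 (iv0 D40902)) (tt N29345 F308497) (tt N48872 D87785) (tt N35403 F304664) (tt N48873 D87787) (tt N48874 D87788) (tt N29346 F308498))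
theorem Q25723 : ∀ i, i < 25723 → P i := stepQ 25722 Q25722 (allL N25722 (tt N12804 (iv1 D40903)) (tt N29348 F75771) (tt N29346 F308503) (tt N28500 (iv3 F265226)) (tt N35406 F304666) (tt N48875 D87792) (tt N43456 (iv6 F306691)) (tt N29345 F308504))
theorem Q25724 : ∀ i, i < 25724 → P i := stepQ 25723 Q25723 (allL N25723 (tt N48876 D87794) (tt N48877 D87795) (tt N29347 (iv2 F75766)) (tt N42789 (iv3 F107126)) (tt N48878 D87796) (tt N12804 (iv5 D40904)) (tt N12807 F62005) (tt N48879 D87797))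
theorem Q25725 : ∀ i, i < 25725 → P i := stepQ 25724 Q25724 (allL N25724 (tt N29346 (iv1 F75765)) (tt N29345 F75770) (tt N29348 (iv2 F75768)) (tt N42790 (iv3 F107128)) (tt N44319 F309285) (tt N48879 (iv5 F134771)) (tt N29336 (iv6 F75731)) (tt N12804 (iv7 D40905)))
theorem Q25726 : ∀ i, i < 25726 → P i := stepQ 25725 Q25725 (allL N25725 (tt N48880 D87798) (tt N48847 (iv0 F177361)) (tt N28503 (iv2 F74086)) (tt N12805 (iv3 D40907)) (tt N29114 (iv4 F75048)) (tt N48881 D87800) (tt N48882 D87801) (tt N29197 (iv7 F75166)))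
theorem Q25727 : ∀ i, i < 25727 → P i := stepQ 25726 Q25726 (allL N25726 (tt N48618 (iv1 F133588)) (tt N48883 D87802) (tt N29349 (iv2 F75773)) (tt N48881 (iv3 F134772)) (tt N48884 D87803) (tt N12805 (iv5 D40909)) (tt N48885 D87804) (tt N29198 (iv7 F75168)))
theorem Q25728 : ∀ i, i < 25728 → P i := stepQ 25727 Q25727 (allL N25727 (tt N12883 F66267) (tt N25890 F66268) (tt N26754 F294354) (tt N48882 (iv3 F134773)) (tt N13756 F66269) (tt N48559 (iv5 F133453)) (tt N12805 (iv6 D40910)) (tt N26753 F294355))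
theorem Q25729 : ∀ i, i < 25729 → P i := stepQ 25728 Q25728 (allL N25728 (tt N48883 (iv1 F134775)) (tt N48618 F133589) (tt N29198 (iv2 F75167)) (tt N28505 (iv3 F74087)) (tt N48886 D87805) (tt N12806 (iv5 D40914)) (tt N48887 D87806) (tt N29349 (iv7 F75774)))
theorem Q25730 : ∀ i, i < 25730 → P i := stepQ 25729 Q25729 (allL N25729 (tt N13659 (iv1 F291477)) (tt N26742 (iv0 F137635)) (tt N27662 (iv2 F291026)) (tt N28506 (iv3 F74088)) (tt N14155 F66351) (tt N48888 D87808) (tt N12806 (iv6 D40915)) (tt N27661 (iv7 F291023)))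
theorem Q25731 : ∀ i, i < 25731 → P i := stepQ 25730 Q25730 (allL N25730 (tt N26725 (iv1 F66964)) (tt N12807 (iv0 D40916)) (tt N29350 F133396) (tt N48889 D87809) (tt N48890 D87810) (tt N29313 F293843) (tt N48891 D87812) (tt N29351 F133394))
theorem Q25732 : ∀ i, i < 25732 → P i := stepQ 25731 Q25731 (allL N25731 (tt N12807 (iv1 D40917)) (tt N26725 F66963) (tt N29351 (iv2 F133393)) (tt N28508 (iv3 F135030)) (tt N48892 D87814) (tt N25677 (iv5 F62008)) (tt N48893 D87815) (tt N29350 (iv7 F133395)))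
theorem Q25733 : ∀ i, i < 25733 → P i := stepQ 25732 Q25732 (allL N25732 (tt N29295 F294319) (tt N29323 F294320) (tt N29352 (iv2 F75777)) (tt N48894 D87818) (tt N12807 (iv4 D40918)) (tt N29309 F294321) (tt N48878 (iv6 F134770)) (tt N48895 D87820))
theorem Q25734 : ∀ i, i < 25734 → P i := stepQ 25733 Q25733 (allL N25733 (tt N29351 (iv1 F75776)) (tt N29350 F75775) (tt N26725 (iv2 F66961)) (tt N48871 (iv3 F134743)) (tt N48895 (iv4 F134788)) (tt N12808 F62009) (tt N48896 D87821) (tt N12807 (iv7 D40919)))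
theorem Q25735 : ∀ i, i < 25735 → P i := stepQ 25734 Q25734 (allL N25734 (tt N28275 F177418) (tt N27914 F177419) (tt N26460 F293976) (tt N12809 (iv3 D40935)) (tt N25734 F66116) (tt N48897 D87822) (tt N26469 (iv6 F294663)) (tt N26726 (iv7 F66975)))
theorem Q25736 : ∀ i, i < 25736 → P i := stepQ 25735 Q25735 (allL N25735 (tt N26733 (iv1 F66999)) (tt N26732 F66998) (tt N13321 F66117) (tt N48897 (iv3 F134789)) (tt N48898 D87824) (tt N12809 (iv5 D40936)) (tt N48899 D87825) (tt N26727 (iv7 F66977)))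
theorem Q25737 : ∀ i, i < 25737 → P i := stepQ 25736 Q25736 (allL N25736 (tt N26740 (iv1 F67026)) (tt N13739 (iv0 F291401)) (tt N13324 F66352) (tt N48900 D87826) (tt N12810 (iv4 D40940)) (tt N29279 (iv5 F291406)) (tt N13711 F290893) (tt N26729 (iv7 F66983)))
theorem Q25738 : ∀ i, i < 25738 → P i := stepQ 25737 Q25737 (allL N25737 (tt N12811 (iv1 D40971)) (tt N12818 F62114) (tt N12816 (iv2 F62967)) (tt N13476 (iv3 F62952)) (tt N14559 F62947) (tt N14146 F291893) (tt N25896 F63020) (tt N12815 F62966))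
theorem Q25739 : ∀ i, i < 25739 → P i := stepQ 25738 Q25738 (allL N25738 (tt N13484 F68408) (tt N48901 D87848) (tt N12817 F62115) (tt N14038 F291792) (tt N25677 (iv4 F292834)) (tt N12811 (iv5 D40972)) (tt N13151 F62117) (tt N48902 D87849))
theorem Q25740 : ∀ i, i < 25740 → P i := stepQ 25739 Q25739 (allL N25739 (tt N12816 (iv1 F62120)) (tt N12815 F62121) (tt N12818 F62118) (tt N26650 (iv3 F291888)) (tt N27596 (iv4 F70595)) (tt N48902 (iv5 F134832)) (tt N26377 (iv6 F65015)) (tt N12811 (iv7 D40973)))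
theorem Q25741 : ∀ i, i < 25741 → P i := stepQ 25740 Q25740 (allL N25740 (tt N27591 (iv1 F70585)) (tt N12812 (iv0 D40974)) (tt N27590 F73474) (tt N29099 (iv3 F75020)) (tt N28246 (iv4 F73473)) (tt N42584 (iv5 F106446)) (tt N48903 D87850) (tt N27589 F73475))
theorem Q25742 : ∀ i, i < 25742 → P i := stepQ 25741 Q25741 (allL N25741 (tt N12812 (iv1 D40975)) (tt N27591 F70586) (tt N27589 (iv2 F73476)) (tt N27590 (iv3 F73513)) (tt N28261 (iv4 F73512)) (tt N48755 (iv5 F134280)) (tt N48904 D87851) (tt N27590 (iv7 F73477)))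
theorem Q25743 : ∀ i, i < 25743 → P i := stepQ 25742 Q25742 (allL N25742 (tt N27590 F70581) (tt N27589 F70579) (tt N12812 (iv2 D40976)) (tt N13669 F62122) (tt N12820 F62123) (tt N48905 D87852) (tt N48906 D87853) (tt N27591 (iv7 F70584)))
theorem Q25744 : ∀ i, i < 25744 → P i := stepQ 25743 Q25743 (allL N25743 (tt N42590 F106461) (tt N48907 D87854) (tt N48905 (iv2 F134835)) (tt N12813 F62124) (tt N34108 F304283) (tt N12812 (iv5 D40977)) (tt N48908 D87856) (tt N27397 (iv7 F70194)))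
theorem Q25745 : ∀ i, i < 25745 → P i := stepQ 25744 Q25744 (allL N25744 (tt N48909 D87857) (tt N48910 D87858) (tt N48906 (iv2 F134839)) (tt N12814 F62125) (tt N12822 F62126) (tt N48911 D87859) (tt N12812 (iv6 D40978)) (tt N29298 (iv7 F75551)))
theorem Q25746 : ∀ i, i < 25746 → P i := stepQ 25745 Q25745 (allL N25745 (tt N47711 (iv1 F346807)) (tt N47714 F346804) (tt N27400 (iv2 F70200)) (tt N48908 (iv3 F134847)) (tt N46572 (iv4 F125484)) (tt N48912 D87862) (tt N12813 (iv6 D40979)) (tt N48913 D87863))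
theorem Q25747 : ∀ i, i < 25747 → P i := stepQ 25746 Q25746 (allL N25746 (tt N48914 D87864) (tt N27553 (iv0 F70413)) (tt N27595 (iv2 F70593)) (tt N48911 (iv3 F134848)) (tt N48915 D87865) (tt N12814 (iv5 D40982)) (tt N48912 (iv6 F134849)) (tt N29299 (iv7 F75552)))
theorem Q25748 : ∀ i, i < 25748 → P i := stepQ 25747 Q25747 (allL N25747 (tt N25698 F64839) (tt N25891 (iv0 F62976)) (tt N25896 (iv2 F63014)) (tt N12902 F62973) (tt N14587 F62971) (tt N48611 (iv5 F133570)) (tt N12816 (iv6 D40993)) (tt N25897 (iv7 F63078)))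
theorem Q25749 : ∀ i, i < 25749 → P i := stepQ 25748 Q25748 (allL N25748 (tt N48902 (iv1 F134834)) (tt N12817 (iv0 D40994)) (tt N13484 (iv2 F66319)) (tt N26264 F291796) (tt N14603 (iv4 F68411)) (tt N28370 F291797) (tt N25970 F291798) (tt N48901 (iv7 F134825)))
theorem Q25750 : ∀ i, i < 25750 → P i := stepQ 25749 Q25749 (allL N25749 (tt N12817 (iv1 D40995)) (tt N48902 F134833) (tt N48901 (iv2 F134828)) (tt N13418 F66316) (tt N14604 F66318) (tt N13568 (iv5 F66315)) (tt N26245 F290765) (tt N13484 (iv7 F66317)))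
theorem Q25751 : ∀ i, i < 25751 → P i := stepQ 25750 Q25750 (allL N25750 (tt N25562 (iv1 F292875)) (tt N27557 (iv0 F70435)) (tt N25677 (iv2 F292833)) (tt N48916 D87873) (tt N12817 (iv4 D40996)) (tt N29351 (iv5 F292876)) (tt N25509 F62130) (tt N29313 F75596))
theorem Q25752 : ∀ i, i < 25752 → P i := stepQ 25751 Q25751 (allL N25751 (tt N48901 (iv1 F134824)) (tt N13484 F75595) (tt N48902 (iv2 F134830)) (tt N12832 F62131) (tt N29313 (iv4 F75593)) (tt N12818 F62132) (tt N26240 F291793) (tt N12817 (iv7 D40997)))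
theorem Q25753 : ∀ i, i < 25753 → P i := stepQ 25752 Q25752 (allL N25752 (tt N48836 (iv1 F134638)) (tt N12881 F73265) (tt N28196 (iv2 F73260)) (tt N28380 (iv3 F73766)) (tt N29122 (iv4 F75092)) (tt N48917 D87876) (tt N12819 (iv6 D40999)) (tt N48835 (iv7 F134634)))
theorem Q25754 : ∀ i, i < 25754 → P i := stepQ 25753 Q25753 (allL N25753 (tt N28209 (iv1 F73864)) (tt N28442 F73868) (tt N12822 F62133) (tt N28642 (iv3 F74321)) (tt N48906 (iv4 F134841)) (tt N48918 D87877) (tt N12820 (iv6 D41000)) (tt N28441 (iv7 F73862)))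
theorem Q25755 : ∀ i, i < 25755 → P i := stepQ 25754 Q25754 (allL N25754 (tt N28388 (iv1 F73778)) (tt N12821 (iv0 D41001)) (tt N13997 (iv2 F62135)) (tt N28411 (iv3 F73826)) (tt N48919 D87878) (tt N13996 F62134) (tt N48920 D87879) (tt N25663 F62136))
theorem Q25756 : ∀ i, i < 25756 → P i := stepQ 25755 Q25755 (allL N25755 (tt N48921 D87880) (tt N28426 (iv0 F232748)) (tt N42786 (iv2 F107124)) (tt N12823 F62137) (tt N42722 F297893) (tt N48922 D87882) (tt N12821 (iv6 D41002)) (tt N44540 (iv7 F309599)))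
theorem Q25757 : ∀ i, i < 25757 → P i := stepQ 25756 Q25756 (allL N25756 (tt N28441 (iv1 F73865)) (tt N12822 (iv0 D41003)) (tt N28209 (iv2 F73299)) (tt N28435 (iv3 F73857)) (tt N29155 (iv4 F75113)) (tt N48923 D87884) (tt N27673 F293521) (tt N28442 (iv7 F73866)))
theorem Q25758 : ∀ i, i < 25758 → P i := stepQ 25757 Q25757 (allL N25757 (tt N48924 D87886) (tt N28452 (iv0 F134921)) (tt N48918 (iv2 F134887)) (tt N12826 F62138) (tt N48925 D87888) (tt N12822 (iv5 D41005)) (tt N48922 (iv6 F134894)) (tt N48926 D87889))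
theorem Q25759 : ∀ i, i < 25759 → P i := stepQ 25758 Q25758 (allL N25758 (tt N28442 (iv1 F73867)) (tt N28209 (iv0 F73298)) (tt N28441 F73863) (tt N12827 F62139) (tt N29298 (iv4 F75549)) (tt N48926 (iv5 F134897)) (tt N26724 (iv6 F66958)) (tt N12822 (iv7 D41006)))
theorem Q25760 : ∀ i, i < 25760 → P i := stepQ 25759 Q25759 (allL N25759 (tt N29336 (iv1 F75734)) (tt N12823 (iv0 D41007)) (tt N29333 F307373) (tt N46750 (iv3 F264017)) (tt N34547 (iv4 F305359)) (tt N48927 D87893) (tt N34546 (iv6 F305361)) (tt N29334 F307374))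
theorem Q25761 : ∀ i, i < 25761 → P i := stepQ 25760 Q25760 (allL N25760 (tt N12823 (iv1 D41008)) (tt N29336 F75733) (tt N29334 F307378) (tt N48928 D87896) (tt N42164 (iv4 F305362)) (tt N48929 D87898) (tt N42163 (iv6 F305363)) (tt N29333 F307379))
theorem Q25762 : ∀ i, i < 25762 → P i := stepQ 25761 Q25761 (allL N25761 (tt N22335 (iv1 F304611)) (tt N48930 D87901) (tt N29335 (iv2 F75728)) (tt N48922 (iv3 F134893)) (tt N48931 D87902) (tt N12823 (iv5 D41009)) (tt N12826 F62140) (tt N48932 D87903))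
theorem Q25763 : ∀ i, i < 25763 → P i := stepQ 25762 Q25762 (allL N25762 (tt N29334 (iv1 F75727)) (tt N29333 F75732) (tt N29336 (iv2 F75730)) (tt N44540 (iv3 F309598)) (tt N23660 (iv4 F305353)) (tt N48932 (iv5 F134902)) (tt N29348 (iv6 F75769)) (tt N12823 (iv7 D41010)))
theorem Q25764 : ∀ i, i < 25764 → P i := stepQ 25763 Q25763 (allL N25763 (tt N26996 F292316) (tt N28199 (iv0 F135038)) (tt N28202 F73281) (tt N12824 (iv3 D41012)) (tt N13462 F62984) (tt N34374 (iv5 F328908)) (tt N27669 F293584) (tt N28203 (iv7 F73280)))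
theorem Q25765 : ∀ i, i < 25765 → P i := stepQ 25764 Q25764 (allL N25764 (tt N29196 (iv1 F293857)) (tt N29210 (iv0 F293853)) (tt N29338 (iv2 F75737)) (tt N34374 F329252) (tt N34376 (iv4 F329561)) (tt N12824 (iv5 D41014)) (tt N48933 D87909) (tt N29339 (iv7 F75743)))
theorem Q25766 : ∀ i, i < 25766 → P i := stepQ 25765 Q25765 (allL N25765 (tt N48846 (iv1 F157774)) (tt N48934 D87911) (tt N48935 D87912) (tt N12825 (iv3 D41017)) (tt N14595 F63055) (tt N48936 D87913) (tt N48937 D87914) (tt N29337 (iv7 F75736)))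
theorem Q25767 : ∀ i, i < 25767 → P i := stepQ 25766 Q25766 (allL N25766 (tt N29210 F294687) (tt N29196 F294688) (tt N29339 (iv2 F75742)) (tt N48936 (iv3 F134909)) (tt N44079 (iv4 F329792)) (tt N12825 (iv5 D41019)) (tt N48938 D87916) (tt N29338 (iv7 F75738)))
theorem Q25768 : ∀ i, i < 25768 → P i := stepQ 25767 Q25767 (allL N25767 (tt N25702 F63247) (tt N12872 F63248) (tt N25887 F63342) (tt N48937 (iv3 F134910)) (tt N14427 F63249) (tt N48601 (iv5 F133545)) (tt N12825 (iv6 D41020)) (tt N25886 F63336))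
theorem Q25769 : ∀ i, i < 25769 → P i := stepQ 25768 Q25768 (allL N25768 (tt N27052 (iv1 F68587)) (tt N12826 (iv0 D41021)) (tt N29340 F133446) (tt N22533 F328504) (tt N22537 F328505) (tt N48939 D87919) (tt N48940 D87920) (tt N29341 F133444))
theorem Q25770 : ∀ i, i < 25770 → P i := stepQ 25769 Q25769 (allL N25769 (tt N12826 (iv1 D41022)) (tt N27052 F68586) (tt N29341 (iv2 F133441)) (tt N48941 D87921) (tt N48942 D87922) (tt N25636 (iv5 F62143)) (tt N48943 D87923) (tt N29340 (iv7 F133445)))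
theorem Q25771 : ∀ i, i < 25771 → P i := stepQ 25770 Q25770 (allL N25770 (tt N48944 D87924) (tt N48945 D87925) (tt N29342 (iv2 F75746)) (tt N48946 D87926) (tt N12826 (iv4 D41023)) (tt N29174 F294119) (tt N48931 (iv6 F134901)) (tt N48947 D87928))
theorem Q25772 : ∀ i, i < 25772 → P i := stepQ 25771 Q25771 (allL N25771 (tt N29341 (iv1 F75745)) (tt N29340 F75744) (tt N27052 (iv2 F68584)) (tt N48926 (iv3 F134896)) (tt N48947 (iv4 F134924)) (tt N12827 F62144) (tt N48948 D87929) (tt N12826 (iv7 D41024)))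
theorem Q25773 : ∀ i, i < 25773 → P i := stepQ 25772 Q25772 (allL N25772 (tt N27917 F157750) (tt N28268 (iv0 F157763)) (tt N28214 (iv2 F73316)) (tt N12828 (iv3 D41048)) (tt N25772 F62205) (tt N48949 D87930) (tt N48950 D87931) (tt N27053 (iv7 F68595)))
theorem Q25774 : ∀ i, i < 25774 → P i := stepQ 25773 Q25773 (allL N25773 (tt N27058 (iv1 F68622)) (tt N27057 F68621) (tt N13516 (iv2 F63074)) (tt N48949 (iv3 F134925)) (tt N29177 F293907) (tt N12828 (iv5 D41049)) (tt N48951 D87933) (tt N27054 (iv7 F68597)))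
theorem Q25775 : ∀ i, i < 25775 → P i := stepQ 25774 Q25774 (allL N25774 (tt N14425 (iv1 F62157)) (tt N12858 F62379) (tt N13517 (iv2 F62474)) (tt N48950 (iv3 F134926)) (tt N12829 F62156) (tt N48575 (iv5 F133495)) (tt N12828 (iv6 D41050)) (tt N25885 (iv7 F62420)))
theorem Q25776 : ∀ i, i < 25776 → P i := stepQ 25775 Q25775 (allL N25775 (tt N26353 F292239) (tt N26352 F292240) (tt N13519 (iv2 F66335)) (tt N48952 D87936) (tt N12830 (iv4 D41058)) (tt N48953 D87937) (tt N48954 D87938) (tt N26343 F292241))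
theorem Q25777 : ∀ i, i < 25777 → P i := stepQ 25776 Q25776 (allL N25776 (tt N13115 F291771) (tt N13114 F291772) (tt N13116 F291773) (tt N25776 F66328) (tt N48954 (iv4 F134936)) (tt N13658 F291774) (tt N12830 (iv6 D41059)) (tt N13107 (iv7 F292157)))
theorem Q25778 : ∀ i, i < 25778 → P i := stepQ 25777 Q25777 (allL N25777 (tt N26361 (iv1 F293332)) (tt N12831 (iv0 D41060)) (tt N27799 F293144) (tt N48955 D87939) (tt N26779 F293145) (tt N48956 D87940) (tt N13695 F293146) (tt N27901 F293147))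
theorem Q25779 : ∀ i, i < 25779 → P i := stepQ 25778 Q25778 (allL N25778 (tt N12831 (iv1 D41061)) (tt N26361 (iv0 F293331)) (tt N27901 F293161) (tt N44091 F326522) (tt N14600 F68591) (tt N44090 (iv5 F327289)) (tt N48957 D87944) (tt N27799 F293162))
theorem Q25780 : ∀ i, i < 25780 → P i := stepQ 25779 Q25779 (allL N25779 (tt N48958 D87945) (tt N48959 D87946) (tt N48960 D87947) (tt N12831 (iv3 D41062)) (tt N48916 (iv4 F134883)) (tt N48961 D87948) (tt N25512 F62300) (tt N48962 D87949))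
theorem Q25781 : ∀ i, i < 25781 → P i := stepQ 25780 Q25780 (allL N25780 (tt N27296 F293875) (tt N29181 F293876) (tt N27902 (iv2 F293903)) (tt N48961 (iv3 F134941)) (tt N29175 F293877) (tt N12831 (iv5 D41063)) (tt N48963 D87953) (tt N48964 D87954))
theorem Q25782 : ∀ i, i < 25782 → P i := stepQ 25781 Q25781 (allL N25781 (tt N27901 F293239) (tt N27799 F293240) (tt N26361 (iv2 F293333)) (tt N48962 (iv3 F134942)) (tt N12832 F62301) (tt N48964 (iv5 F134945)) (tt N26356 F293241) (tt N12831 (iv7 D41064)))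
theorem Q25783 : ∀ i, i < 25783 → P i := stepQ 25782 Q25782 (allL N25782 (tt N21677 (iv1 F68209)) (tt N26523 F65440) (tt N26432 F65136) (tt N28635 (iv3 F74307)) (tt N12833 (iv4 D41066)) (tt N32514 F83058) (tt N48965 D87956) (tt N28635 (iv7 F74308)))
theorem Q25784 : ∀ i, i < 25784 → P i := stepQ 25783 Q25783 (allL N25783 (tt N28735 (iv1 F290140)) (tt N28703 (iv0 F290141)) (tt N28685 (iv2 F74369)) (tt N28233 (iv3 F73435)) (tt N48965 (iv4 F134948)) (tt N48966 D87959) (tt N12833 (iv6 D41067)) (tt N28734 (iv7 F290142)))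
theorem Q25785 : ∀ i, i < 25785 → P i := stepQ 25784 Q25784 (allL N25784 (tt N26908 (iv1 F68200)) (tt N26911 (iv0 F68213)) (tt N28231 (iv2 F73427)) (tt N12834 (iv3 D41068)) (tt N26868 (iv4 F68064)) (tt N46693 (iv5 F125883)) (tt N48967 D87961) (tt N28269 (iv7 F73527)))
theorem Q25786 : ∀ i, i < 25786 → P i := stepQ 25785 Q25785 (allL N25785 (tt N26523 (iv1 F65441)) (tt N21677 F62303) (tt N28635 (iv2 F74306)) (tt N13409 F62304) (tt N12834 (iv4 D41069)) (tt N32512 F83051) (tt N48968 D87962) (tt N26432 F65137))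
theorem Q25787 : ∀ i, i < 25787 → P i := stepQ 25786 Q25786 (allL N25786 (tt N12856 (iv1 F290202)) (tt N48820 (iv0 F290203)) (tt N28637 (iv2 F74318)) (tt N48967 (iv3 F134949)) (tt N48968 (iv4 F134951)) (tt N48969 D87965) (tt N12834 (iv6 D41070)) (tt N48819 (iv7 F290201)))
theorem Q25788 : ∀ i, i < 25788 → P i := stepQ 25787 Q25787 (allL N25787 (tt N48970 D87967) (tt N28660 (iv0 F153159)) (tt N12838 F62306) (tt N24391 F62307) (tt N26890 (iv4 F68139)) (tt N48971 D87969) (tt N12835 (iv6 D41071)) (tt N48972 D87970))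
theorem Q25789 : ∀ i, i < 25789 → P i := stepQ 25788 Q25788 (allL N25788 (tt N26855 F68016) (tt N26989 (iv0 F140421)) (tt N26890 (iv2 F68138)) (tt N13209 F62308) (tt N12838 F62309) (tt N48973 D87972) (tt N12836 (iv6 D41072)) (tt N26988 (iv7 F68393)))
theorem Q25790 : ∀ i, i < 25790 → P i := stepQ 25789 Q25789 (allL N25789 (tt N17618 (iv1 F62311)) (tt N12837 (iv0 D41073)) (tt N24388 F62315) (tt N21771 F62310) (tt N22191 (iv4 F62313)) (tt N25533 F62312) (tt N45332 (iv6 F299055)) (tt N24389 (iv7 F62314)))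
theorem Q25791 : ∀ i, i < 25791 → P i := stepQ 25790 Q25790 (allL N25790 (tt N12837 (iv1 D41074)) (tt N17618 F62316) (tt N24389 (iv2 F62318)) (tt N43506 (iv3 F109122)) (tt N48974 D87974) (tt N25534 F64305) (tt N48975 D87975) (tt N24388 F62317))
theorem Q25792 : ∀ i, i < 25792 → P i := stepQ 25791 Q25791 (allL N25791 (tt N28025 (iv1 F72577)) (tt N48976 D87976) (tt N24385 F62319) (tt N36482 (iv3 F94691)) (tt N12837 (iv4 D41075)) (tt N48977 D87977) (tt N48978 D87978) (tt N28687 (iv7 F74373)))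
theorem Q25793 : ∀ i, i < 25793 → P i := stepQ 25792 Q25792 (allL N25792 (tt N48979 D87979) (tt N48980 D87980) (tt N24390 F62320) (tt N12840 F62321) (tt N48978 (iv4 F134985)) (tt N48981 D87981) (tt N12837 (iv6 D41076)) (tt N48982 D87982))
theorem Q25794 : ∀ i, i < 25794 → P i := stepQ 25793 Q25793 (allL N25793 (tt N48972 (iv1 F134960)) (tt N12838 (iv0 D41077)) (tt N48970 (iv2 F155679)) (tt N28643 (iv3 F153142)) (tt N48983 D87985) (tt N48984 D87986) (tt N48985 D87987) (tt N28660 (iv7 F155662)))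
theorem Q25795 : ∀ i, i < 25795 → P i := stepQ 25794 Q25794 (allL N25794 (tt N12838 (iv1 D41078)) (tt N48972 F134959) (tt N28660 (iv2 F155661)) (tt N48986 D87989) (tt N48987 D87990) (tt N48988 D87991) (tt N48989 D87992) (tt N48970 (iv7 F155680)))
theorem Q25796 : ∀ i, i < 25796 → P i := stepQ 25795 Q25795 (allL N25795 (tt N48990 D87993) (tt N48991 D87994) (tt N48971 (iv2 F134953)) (tt N12841 F62322) (tt N48992 D87995) (tt N12838 (iv5 D41079)) (tt N48981 (iv6 F134989)) (tt N48993 D87996))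
theorem Q25797 : ∀ i, i < 25797 → P i := stepQ 25796 Q25796 (allL N25796 (tt N28660 (iv1 F153160)) (tt N48970 F134958) (tt N48972 (iv2 F134956)) (tt N12842 F62323) (tt N26988 F68392) (tt N48993 (iv5 F134999)) (tt N27055 (iv6 F68608)) (tt N12838 (iv7 D41080)))
theorem Q25798 : ∀ i, i < 25798 → P i := stepQ 25797 Q25797 (allL N25797 (tt N27916 (iv1 F75462)) (tt N27913 (iv0 F75472)) (tt N12961 F62324) (tt N12839 (iv3 D41081)) (tt N48994 D87997) (tt N12960 F62325) (tt N22852 (iv6 F302940)) (tt N25514 F62326))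
theorem Q25799 : ∀ i, i < 25799 → P i := stepQ 25798 Q25798 (allL N25798 (tt N28366 (iv1 F73707)) (tt N12840 (iv0 D41083)) (tt N28363 F155816) (tt N48995 D88004) (tt N44321 F309278) (tt N48996 D88006) (tt N48997 D88007) (tt N28364 (iv7 F155818)))
theorem Q25800 : ∀ i, i < 25800 → P i := stepQ 25799 Q25799 (allL N25799 (tt N12840 (iv1 D41084)) (tt N28366 F73706) (tt N28364 (iv2 F155817)) (tt N28256 F155409) (tt N44320 F309276) (tt N48998 D88011) (tt N22855 (iv6 F303363)) (tt N28363 F155809))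
theorem Q25801 : ∀ i, i < 25801 → P i := stepQ 25800 Q25800 (allL N25800 (tt N35109 (iv1 F304651)) (tt N35106 (iv0 F304654)) (tt N28365 (iv2 F73701)) (tt N48981 (iv3 F134988)) (tt N48999 D88015) (tt N12840 (iv5 D41085)) (tt N12841 F62329) (tt N49000 D88016))
theorem Q25802 : ∀ i, i < 25802 → P i := stepQ 25801 Q25801 (allL N25801 (tt N28364 (iv1 F73700)) (tt N28363 F73705) (tt N28366 (iv2 F73703)) (tt N48982 (iv3 F134991)) (tt N48444 (iv4 F132730)) (tt N49000 (iv5 F135019)) (tt N28694 (iv6 F74383)) (tt N12840 (iv7 D41086)))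
theorem Q25803 : ∀ i, i < 25803 → P i := stepQ 25802 Q25802 (allL N25802 (tt N26731 (iv1 F66997)) (tt N12841 (iv0 D41097)) (tt N28367 (iv2 F73712)) (tt N49001 D88017) (tt N29295 (iv4 F293873)) (tt N29235 F292866) (tt N49002 D88018) (tt N28368 (iv7 F73714)))
theorem Q25804 : ∀ i, i < 25804 → P i := stepQ 25803 Q25803 (allL N25803 (tt N49003 D88020) (tt N49004 D88021) (tt N28369 (iv2 F73717)) (tt N49005 D88022) (tt N12841 (iv4 D41099)) (tt N29286 F294313) (tt N48999 (iv6 F135018)) (tt N49006 D88024))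
theorem Q25805 : ∀ i, i < 25805 → P i := stepQ 25804 Q25804 (allL N25804 (tt N28368 (iv1 F73713)) (tt N28367 F73709) (tt N26731 (iv2 F66994)) (tt N48993 (iv3 F134998)) (tt N49006 (iv4 F135027)) (tt N12842 F62332) (tt N49007 D88025) (tt N12841 (iv7 D41100)))
theorem Q25806 : ∀ i, i < 25806 → P i := stepQ 25805 Q25805 (allL N25805 (tt N27911 F72100) (tt N28262 F73518) (tt N28246 (iv2 F73471)) (tt N12843 (iv3 D41101)) (tt N27590 F70580) (tt N25418 F62333) (tt N49008 D88026) (tt N28261 (iv7 F73511)))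
theorem Q25807 : ∀ i, i < 25807 → P i := stepQ 25806 Q25806 (allL N25806 (tt N28956 (iv1 F289632)) (tt N12859 (iv0 F289633)) (tt N28359 (iv2 F73696)) (tt N49008 (iv3 F135034)) (tt N28358 (iv4 F73695)) (tt N49009 D88029) (tt N12843 (iv6 D41102)) (tt N28955 (iv7 F289631)))
theorem Q25808 : ∀ i, i < 25808 → P i := stepQ 25807 Q25807 (allL N25807 (tt N28701 (iv1 F289582)) (tt N28744 (iv0 F289583)) (tt N28358 (iv2 F73694)) (tt N28245 (iv3 F73470)) (tt N28359 (iv4 F73698)) (tt N49010 D88033) (tt N12844 (iv6 D41103)) (tt N28743 (iv7 F289584)))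
theorem Q25809 : ∀ i, i < 25809 → P i := stepQ 25808 Q25808 (allL N25808 (tt N28598 F126434) (tt N49011 D88035) (tt N12846 F62334) (tt N28686 (iv3 F74371)) (tt N25010 F62335) (tt N49012 D88036) (tt N12845 (iv6 D41104)) (tt N49013 D88037))
theorem Q25810 : ∀ i, i < 25810 → P i := stepQ 25809 Q25809 (allL N25809 (tt N49013 (iv1 F135045)) (tt N12846 (iv0 D41105)) (tt N28598 F154981) (tt N49014 D88039) (tt N28360 (iv4 F135046)) (tt N44394 (iv5 F329834)) (tt N48641 F294424) (tt N49011 (iv7 F154985)))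
theorem Q25811 : ∀ i, i < 25811 → P i := stepQ 25810 Q25810 (allL N25810 (tt N12846 (iv1 D41106)) (tt N49013 F135044) (tt N49011 (iv2 F154984)) (tt N28581 (iv3 F142705)) (tt N28361 (iv4 F142704)) (tt N44392 (iv5 F329833)) (tt N49015 D88046) (tt N28598 F154975))
theorem Q25812 : ∀ i, i < 25812 → P i := stepQ 25811 Q25811 (allL N25811 (tt N20344 (iv1 F329679)) (tt N20341 (iv0 F329510)) (tt N49012 (iv2 F135039)) (tt N12848 F62336) (tt N31412 F329500) (tt N12846 (iv5 D41107)) (tt N24380 F62337) (tt N31409 F329501))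
theorem Q25813 : ∀ i, i < 25813 → P i := stepQ 25812 Q25812 (allL N25812 (tt N49011 (iv1 F135036)) (tt N28598 (iv0 F126435)) (tt N49013 (iv2 F135041)) (tt N12849 F62338) (tt N26646 F294395) (tt N31409 F329612) (tt N26730 (iv6 F66992)) (tt N12846 (iv7 D41108)))
theorem Q25814 : ∀ i, i < 25814 → P i := stepQ 25813 Q25813 (allL N25813 (tt N28694 (iv1 F74386)) (tt N12847 (iv0 D41109)) (tt N28692 (iv2 F156874)) (tt N28239 F155502) (tt N42720 (iv4 F304412)) (tt N49016 D88054) (tt N49017 D88055) (tt N28619 F156866))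
theorem Q25815 : ∀ i, i < 25815 → P i := stepQ 25814 Q25814 (allL N25814 (tt N12847 (iv1 D41110)) (tt N28694 F74385) (tt N28619 F156873) (tt N49018 D88057) (tt N42721 (iv4 F304417)) (tt N49019 D88059) (tt N49020 D88060) (tt N28692 (iv7 F156875)))
theorem Q25816 : ∀ i, i < 25816 → P i := stepQ 25815 Q25815 (allL N25815 (tt N35082 (iv1 F304418)) (tt N43761 (iv0 F304419)) (tt N28693 (iv2 F74380)) (tt N24380 F62339) (tt N49021 D88063) (tt N12847 (iv5 D41111)) (tt N12848 F62340) (tt N43759 (iv7 F304422)))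
theorem Q25817 : ∀ i, i < 25817 → P i := stepQ 25816 Q25816 (allL N25816 (tt N28619 F155087) (tt N28692 F74384) (tt N28694 (iv2 F74382)) (tt N24381 F62341) (tt N43721 (iv4 F304234)) (tt N43759 (iv5 F304421)) (tt N28366 (iv6 F73704)) (tt N12847 (iv7 D41112)))
theorem Q25818 : ∀ i, i < 25818 → P i := stepQ 25817 Q25817 (allL N25817 (tt N27056 (iv1 F68620)) (tt N12848 (iv0 D41123)) (tt N28695 F74387) (tt N27021 F292956) (tt N48944 (iv4 F134920)) (tt N26362 F292859) (tt N49022 D88065) (tt N27017 (iv7 F293710)))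
theorem Q25819 : ∀ i, i < 25819 → P i := stepQ 25818 Q25818 (allL N25818 (tt N12848 (iv1 D41124)) (tt N27056 (iv0 F68619)) (tt N27017 F294647) (tt N49023 D88066) (tt N48945 (iv4 F134923)) (tt N25645 (iv5 F66321)) (tt N49024 D88067) (tt N28695 (iv7 F74389)))
theorem Q25820 : ∀ i, i < 25820 → P i := stepQ 25819 Q25819 (allL N25819 (tt N44064 F329031) (tt N34362 F329032) (tt N28696 (iv2 F74390)) (tt N49025 D88070) (tt N12848 (iv4 D41125)) (tt N29169 F294116) (tt N49021 (iv6 F135055)) (tt N44063 F329033))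
theorem Q25821 : ∀ i, i < 25821 → P i := stepQ 25820 Q25820 (allL N25820 (tt N27017 F294649) (tt N28695 F74388) (tt N27056 (iv2 F68617)) (tt N31409 (iv3 F329371)) (tt N44063 F329039) (tt N12849 F62344) (tt N31407 (iv6 F329372)) (tt N12848 (iv7 D41126)))
theorem Q25822 : ∀ i, i < 25822 → P i := stepQ 25821 Q25821 (allL N25821 (tt N46685 (iv1 F125804)) (tt N46684 F125802) (tt N34778 F89586) (tt N46135 (iv3 F121953)) (tt N12850 (iv4 D41127)) (tt N42587 (iv5 F106453)) (tt N49026 D88074) (tt N28709 (iv7 F74423)))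
theorem Q25823 : ∀ i, i < 25823 → P i := stepQ 25822 Q25822 (allL N25822 (tt N38878 F319745) (tt N38893 F319746) (tt N34780 (iv2 F89605)) (tt N12851 F62345) (tt N49026 (iv4 F135070)) (tt N49027 D88075) (tt N12850 (iv6 D41128)) (tt N48166 (iv7 F131683)))
theorem Q25824 : ∀ i, i < 25824 → P i := stepQ 25823 Q25823 (allL N25823 (tt N27953 (iv1 F72318)) (tt N12851 (iv0 D41129)) (tt N27950 F156444) (tt N22009 F314408) (tt N48469 (iv4 F232506)) (tt N49028 D88079) (tt N35091 F305228) (tt N27951 (iv7 F156446)))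
theorem Q25825 : ∀ i, i < 25825 → P i := stepQ 25824 Q25824 (allL N25824 (tt N12851 (iv1 D41130)) (tt N27953 F72317) (tt N27951 (iv2 F156445)) (tt N26130 F155420) (tt N48470 (iv4 F232509)) (tt N49029 D88084) (tt N49030 D88085) (tt N27950 F156437))
theorem Q25826 : ∀ i, i < 25826 → P i := stepQ 25825 Q25825 (allL N25825 (tt N49031 D88086) (tt N49032 D88087) (tt N27952 (iv2 F72310)) (tt N49027 (iv3 F135071)) (tt N49033 D88088) (tt N12851 (iv5 D41131)) (tt N26154 (iv6 F64310)) (tt N49034 D88089))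
theorem Q25827 : ∀ i, i < 25827 → P i := stepQ 25826 Q25826 (allL N25826 (tt N27951 (iv1 F72309)) (tt N27950 F72316) (tt N27953 (iv2 F72313)) (tt N48166 (iv3 F131682)) (tt N35362 (iv4 F306141)) (tt N49034 (iv5 F135078)) (tt N28713 (iv6 F74431)) (tt N12851 (iv7 D41132)))
theorem Q25828 : ∀ i, i < 25828 → P i := stepQ 25827 Q25827 (allL N25827 (tt N49035 D88100) (tt N49036 D88101) (tt N28712 (iv2 F74428)) (tt N34770 (iv3 F89554)) (tt N49037 D88102) (tt N12852 (iv5 D41135)) (tt N25600 F294439) (tt N38769 F328103))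
theorem Q25829 : ∀ i, i < 25829 → P i := stepQ 25828 Q25828 (allL N25828 (tt N28717 (iv1 F74447)) (tt N12853 (iv0 D41137)) (tt N28716 (iv2 F116279)) (tt N34996 (iv3 F90633)) (tt N23533 F62346) (tt N37611 (iv5 F305094)) (tt N49038 D88104) (tt N28715 F116275))
theorem Q25830 : ∀ i, i < 25830 → P i := stepQ 25829 Q25829 (allL N25829 (tt N12853 (iv1 D41138)) (tt N28717 F74449) (tt N28715 F116280) (tt N49039 D88105) (tt N23532 (iv4 F62347)) (tt N45498 (iv5 F116039)) (tt N42551 (iv6 F305092)) (tt N28716 F116278))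
theorem Q25831 : ∀ i, i < 25831 → P i := stepQ 25830 Q25830 (allL N25830 (tt N28716 (iv1 F74448)) (tt N28715 F74442) (tt N12853 (iv2 D41139)) (tt N23920 F62348) (tt N24540 F62349) (tt N29780 (iv5 F77281)) (tt N29808 (iv6 F305830)) (tt N28717 (iv7 F74446)))
theorem Q25832 : ∀ i, i < 25832 → P i := stepQ 25831 Q25831 (allL N25831 (tt N33843 (iv1 F308724)) (tt N49040 D88109) (tt N29808 F306894) (tt N12854 F62350) (tt N24544 F62351) (tt N49041 D88110) (tt N12853 (iv6 D41140)) (tt N43786 (iv7 F308726)))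
theorem Q25833 : ∀ i, i < 25833 → P i := stepQ 25832 Q25832 (allL N25832 (tt N29804 F306890) (tt N12854 (iv0 D41141)) (tt N33818 (iv2 F308381)) (tt N22435 (iv3 F308383)) (tt N22303 F306891) (tt N49042 D88115) (tt N22184 (iv6 F308375)) (tt N43785 (iv7 F308385)))
theorem Q25834 : ∀ i, i < 25834 → P i := stepQ 25833 Q25833 (allL N25833 (tt N12854 (iv1 D41142)) (tt N29804 F306892) (tt N43785 (iv2 F308384)) (tt N22701 F310862) (tt N22387 F306893) (tt N49043 D88120) (tt N22699 (iv6 F312243)) (tt N33818 (iv7 F308382)))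
theorem Q25835 : ∀ i, i < 25835 → P i := stepQ 25834 Q25834 (allL N25834 (tt N49044 D88122) (tt N49045 D88123) (tt N43795 F306895) (tt N49041 (iv3 F135093)) (tt N49046 D88124) (tt N12854 (iv5 D41143)) (tt N35298 F297826) (tt N43787 (iv7 F308728)))
theorem Q25836 : ∀ i, i < 25836 → P i := stepQ 25835 Q25835 (allL N25835 (tt N43612 (iv1 F308279)) (tt N12855 (iv0 D41155)) (tt N43789 (iv2 F308272)) (tt N49047 D88171) (tt N49048 D88172) (tt N49049 D88173) (tt N49050 D88174) (tt N43788 (iv7 F308275)))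
theorem Q25837 : ∀ i, i < 25837 → P i := stepQ 25836 Q25836 (allL N25836 (tt N12855 (iv1 D41156)) (tt N43612 (iv0 F308278)) (tt N43788 (iv2 F308274)) (tt N49051 D88176) (tt N25859 F337935) (tt N49052 D88178) (tt N25857 (iv6 F337938)) (tt N43789 (iv7 F308273)))
theorem Q25838 : ∀ i, i < 25838 → P i := stepQ 25837 Q25837 (allL N25837 (tt N49053 D88180) (tt N49054 D88181) (tt N43796 (iv2 F308276)) (tt N49055 D88182) (tt N12855 (iv4 D41157)) (tt N49056 D88183) (tt N12864 F62355) (tt N43790 (iv7 F308730)))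
theorem Q25839 : ∀ i, i < 25839 → P i := stepQ 25838 Q25838 (allL N25838 (tt N48820 (iv1 F134610)) (tt N12856 (iv0 D41159)) (tt N48819 (iv2 F156162)) (tt N28641 F290196) (tt N49057 D88187) (tt N49058 D88188) (tt N28734 (iv6 F290200)) (tt N28637 F290197))
theorem Q25840 : ∀ i, i < 25840 → P i := stepQ 25839 Q25839 (allL N25839 (tt N48819 (iv1 F134611)) (tt N28637 F290188) (tt N12856 (iv2 D41161)) (tt N28956 (iv3 F74675)) (tt N26892 (iv4 F68143)) (tt N49059 D88195) (tt N49060 D88196) (tt N48820 (iv7 F134609)))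
theorem Q25841 : ∀ i, i < 25841 → P i := stepQ 25840 Q25840 (allL N25840 (tt N26894 F68147) (tt N26891 (iv0 F73768)) (tt N26892 F68142) (tt N13230 F62357) (tt N12856 (iv4 D41162)) (tt N19611 F323567) (tt N49061 D88198) (tt N26883 (iv7 F68114)))
theorem Q25842 : ∀ i, i < 25842 → P i := stepQ 25841 Q25841 (allL N25841 (tt N49062 D88199) (tt N49063 D88200) (tt N49059 (iv2 F135134)) (tt N12857 F62358) (tt N49064 D88201) (tt N12856 (iv5 D41163)) (tt N49065 D88202) (tt N48821 (iv7 F134614)))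
theorem Q25843 : ∀ i, i < 25843 → P i := stepQ 25842 Q25842 (allL N25842 (tt N49066 D88203) (tt N49067 D88204) (tt N49060 (iv2 F135135)) (tt N12858 F62359) (tt N49061 (iv4 F135138)) (tt N49068 D88205) (tt N12856 (iv6 D41164)) (tt N49069 D88206))
theorem Q25844 : ∀ i, i < 25844 → P i := stepQ 25843 Q25843 (allL N25843 (tt N12860 (iv1 F62363)) (tt N12857 (iv0 D41165)) (tt N27278 (iv2 F69717)) (tt N49070 D88207) (tt N49071 D88208) (tt N25686 F62360) (tt N49072 D88209) (tt N28959 (iv7 F74689)))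
theorem Q25845 : ∀ i, i < 25845 → P i := stepQ 25844 Q25844 (allL N25844 (tt N12857 (iv1 D41166)) (tt N12860 F62371) (tt N28959 F74690) (tt N28938 F74659) (tt N49073 D88210) (tt N27066 (iv5 F68707)) (tt N49074 D88211) (tt N27278 (iv7 F69718)))
theorem Q25846 : ∀ i, i < 25846 → P i := stepQ 25845 Q25845 (allL N25845 (tt N49075 D88212) (tt N49076 D88213) (tt N25846 (iv2 F337958)) (tt N49077 D88214) (tt N12857 (iv4 D41167)) (tt N48588 (iv5 F133507)) (tt N14421 (iv6 F337962)) (tt N48822 (iv7 F134617)))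
theorem Q25847 : ∀ i, i < 25847 → P i := stepQ 25846 Q25846 (allL N25846 (tt N49078 D88216) (tt N49079 D88217) (tt N25845 F337958) (tt N49065 (iv3 F135140)) (tt N14421 (iv4 F337961)) (tt N49080 D88218) (tt N12857 (iv6 D41168)) (tt N25853 F337959))
theorem Q25848 : ∀ i, i < 25848 → P i := stepQ 25847 Q25847 (allL N25847 (tt N25518 F62375) (tt N25549 F62376) (tt N25547 F62374) (tt N49068 (iv3 F135141)) (tt N49080 F337957) (tt N12858 (iv5 D41171)) (tt N49080 (iv6 F135157)) (tt N25546 (iv7 F63560)))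
theorem Q25849 : ∀ i, i < 25849 → P i := stepQ 25848 Q25848 (allL N25848 (tt N25885 (iv1 F62422)) (tt N13517 (iv0 F62472)) (tt N14425 F62377) (tt N49069 (iv3 F135143)) (tt N14418 F62378) (tt N25546 F63559) (tt N26698 F294382) (tt N12858 (iv7 D41172)))
theorem Q25850 : ∀ i, i < 25850 → P i := stepQ 25849 Q25849 (allL N25849 (tt N12859 (iv1 D41174)) (tt N28956 F74680) (tt N28955 (iv2 F156219)) (tt N28571 (iv3 F289635)) (tt N28743 (iv4 F74682)) (tt N49081 D88226) (tt N28743 (iv6 F289636)) (tt N28359 F289621))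
theorem Q25851 : ∀ i, i < 25851 → P i := stepQ 25850 Q25850 (allL N25850 (tt N28359 F289619) (tt N28955 F74674) (tt N12859 (iv2 D41175)) (tt N48820 (iv3 F134608)) (tt N28352 (iv4 F73663)) (tt N49082 D88228) (tt N49083 D88229) (tt N28956 (iv7 F74677)))
theorem Q25852 : ∀ i, i < 25852 → P i := stepQ 25851 Q25851 (allL N25851 (tt N49084 D88230) (tt N49085 D88231) (tt N49082 (iv2 F135163)) (tt N12860 F62380) (tt N49086 D88232) (tt N12859 (iv5 D41176)) (tt N49087 D88233) (tt N28957 (iv7 F74685)))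
theorem Q25853 : ∀ i, i < 25853 → P i := stepQ 25852 Q25852 (allL N25852 (tt N49088 D88234) (tt N49089 D88235) (tt N49083 (iv2 F135164)) (tt N12861 F62381) (tt N28354 (iv4 F73671)) (tt N49090 D88236) (tt N12859 (iv6 D41177)) (tt N26699 (iv7 F294494)))
theorem Q25854 : ∀ i, i < 25854 → P i := stepQ 25853 Q25853 (allL N25853 (tt N49076 (iv1 F135153)) (tt N49075 F135152) (tt N48822 (iv2 F134616)) (tt N49091 D88238) (tt N12860 (iv4 D41178)) (tt N48585 (iv5 F133505)) (tt N49092 D88239) (tt N25846 (iv7 F337959)))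
theorem Q25855 : ∀ i, i < 25855 → P i := stepQ 25854 Q25854 (allL N25854 (tt N49093 D88240) (tt N43804 F312616) (tt N48823 (iv2 F134618)) (tt N49087 (iv3 F135165)) (tt N49092 (iv4 F135170)) (tt N49094 D88242) (tt N12860 (iv6 D41179)) (tt N49095 D88243))
theorem Q25856 : ∀ i, i < 25856 → P i := stepQ 25855 Q25855 (allL N25855 (tt N13586 F66260) (tt N25644 (iv0 F66322)) (tt N26697 F294394) (tt N49090 (iv3 F135166)) (tt N49096 D88244) (tt N12861 (iv5 D41182)) (tt N49094 (iv6 F135171)) (tt N26700 (iv7 F294839)))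
theorem Q25857 : ∀ i, i < 25857 → P i := stepQ 25856 Q25856 (allL N25856 (tt N49058 (iv1 F285653)) (tt N48969 F290229) (tt N49097 D88247) (tt N12862 (iv3 D41185)) (tt N49098 D88248) (tt N49099 D88249) (tt N49100 D88250) (tt N48827 (iv7 F134623)))
theorem Q25858 : ∀ i, i < 25858 → P i := stepQ 25857 Q25857 (allL N25857 (tt N49101 D88251) (tt N49102 D88252) (tt N48825 (iv2 F134620)) (tt N49103 D88253) (tt N12862 (iv4 D41186)) (tt N48582 (iv5 F133504)) (tt N25836 F337938) (tt N48828 (iv7 F134625)))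
theorem Q25859 : ∀ i, i < 25859 → P i := stepQ 25858 Q25858 (allL N25858 (tt N48607 (iv1 F133557)) (tt N13631 (iv0 F63070)) (tt N26241 (iv2 F64441)) (tt N49099 (iv3 F135172)) (tt N26235 (iv4 F64428)) (tt N12862 (iv5 D41187)) (tt N48746 F134196) (tt N26162 F64346))
theorem Q25860 : ∀ i, i < 25860 → P i := stepQ 25859 Q25859 (allL N25859 (tt N49104 D88255) (tt N49105 D88256) (tt N48826 (iv2 F134622)) (tt N49100 (iv3 F135173)) (tt N25836 (iv4 F337935)) (tt N49106 D88257) (tt N12862 (iv6 D41188)) (tt N49107 D88258))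
theorem Q25861 : ∀ i, i < 25861 → P i := stepQ 25860 Q25860 (allL N25860 (tt N49009 (iv1 F356381)) (tt N49081 (iv0 F356382)) (tt N49108 D88261) (tt N12863 (iv3 D41190)) (tt N49109 D88262) (tt N49110 D88263) (tt N49111 D88264) (tt N48824 (iv7 F134619)))
theorem Q25862 : ∀ i, i < 25862 → P i := stepQ 25861 Q25861 (allL N25861 (tt N49102 (iv1 F135178)) (tt N49101 F135176) (tt N48828 (iv2 F134624)) (tt N49112 D88265) (tt N12863 (iv4 D41191)) (tt N48576 (iv5 F133501)) (tt N49113 D88266) (tt N48825 (iv7 F134621)))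
theorem Q25863 : ∀ i, i < 25863 → P i := stepQ 25862 Q25862 (allL N25862 (tt N13631 F63984) (tt N48607 (iv0 F133556)) (tt N26162 (iv2 F64342)) (tt N49110 (iv3 F135183)) (tt N26052 (iv4 F63982)) (tt N12863 (iv5 D41192)) (tt N26155 (iv6 F64318)) (tt N26241 (iv7 F64442)))
theorem Q25864 : ∀ i, i < 25864 → P i := stepQ 25863 Q25863 (allL N25863 (tt N43776 F352352) (tt N43779 F352353) (tt N48829 (iv2 F134626)) (tt N49111 (iv3 F135184)) (tt N49113 (iv4 F135185)) (tt N49114 D88269) (tt N12863 (iv6 D41193)) (tt N49115 D88270))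
theorem Q25865 : ∀ i, i < 25865 → P i := stepQ 25864 Q25864 (allL N25864 (tt N48592 (iv1 F133519)) (tt N12864 (iv0 D41194)) (tt N48830 (iv2 F137691)) (tt N49116 D88272) (tt N48610 (iv4 F133563)) (tt N48615 (iv5 F133585)) (tt N49117 D88273) (tt N48831 (iv7 F137690)))
theorem Q25866 : ∀ i, i < 25866 → P i := stepQ 25865 Q25865 (allL N25865 (tt N12864 (iv1 D41195)) (tt N48592 F133518) (tt N48831 (iv2 F137689)) (tt N49118 D88275) (tt N48620 (iv4 F133590)) (tt N48603 (iv5 F133549)) (tt N49119 D88276) (tt N48830 (iv7 F137692)))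
theorem Q25867 : ∀ i, i < 25867 → P i := stepQ 25866 Q25866 (allL N25866 (tt N49120 D88277) (tt N49121 D88278) (tt N49122 D88279) (tt N12864 (iv3 D41196)) (tt N28953 (iv4 F74673)) (tt N49123 D88280) (tt N49055 (iv6 F135129)) (tt N49124 D88281))
theorem Q25868 : ∀ i, i < 25868 → P i := stepQ 25867 Q25867 (allL N25867 (tt N48590 (iv1 F133512)) (tt N48589 F133511) (tt N48593 (iv2 F133520)) (tt N49123 (iv3 F135188)) (tt N48541 (iv4 F133350)) (tt N12864 (iv5 D41197)) (tt N49125 D88282) (tt N48540 F133348))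
theorem Q25869 : ∀ i, i < 25869 → P i := stepQ 25868 Q25868 (allL N25868 (tt N48831 (iv1 F134628)) (tt N48830 F134627) (tt N48592 (iv2 F133515)) (tt N49124 (iv3 F135189)) (tt N12865 F62386) (tt N48540 (iv5 F133347)) (tt N49126 D88283) (tt N12864 (iv7 D41198)))
theorem Q25870 : ∀ i, i < 25870 → P i := stepQ 25869 Q25869 (allL N25869 (tt N49127 D88284) (tt N49128 D88285) (tt N48833 (iv2 F134629)) (tt N28933 (iv3 F74646)) (tt N49126 (iv4 F135190)) (tt N28759 (iv5 F74485)) (tt N12865 (iv6 D41199)) (tt N43791 F310899))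
theorem Q25871 : ∀ i, i < 25871 → P i := stepQ 25870 Q25870 (allL N25870 (tt N12867 (iv1 D41201)) (tt N14381 F62389) (tt N13478 (iv2 F63013)) (tt N25896 (iv3 F62467)) (tt N14444 (iv4 F62390)) (tt N46878 (iv5 F127435)) (tt N13476 F63016) (tt N25873 F63017))
theorem Q25872 : ∀ i, i < 25872 → P i := stepQ 25871 Q25871 (allL N25871 (tt N13320 (iv1 F292742)) (tt N14244 F62393) (tt N14387 F62391) (tt N49129 D88286) (tt N12867 (iv4 D41202)) (tt N26042 (iv5 F63937)) (tt N14394 (iv6 F62395)) (tt N14127 F62392))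
theorem Q25873 : ∀ i, i < 25873 → P i := stepQ 25872 Q25872 (allL N25872 (tt N13574 (iv1 F66076)) (tt N24438 (iv0 F62401)) (tt N28875 (iv2 F74577)) (tt N12875 F62396) (tt N14394 F62397) (tt N13345 (iv5 F293884)) (tt N12867 (iv6 D41203)) (tt N13345 (iv7 F293885)))
theorem Q25874 : ∀ i, i < 25874 → P i := stepQ 25873 Q25873 (allL N25873 (tt N12868 (iv1 D41205)) (tt N14380 F62404) (tt N14486 F292397) (tt N29421 (iv3 F76109)) (tt N14439 F62405) (tt N24484 F62406) (tt N13157 F292398) (tt N25870 (iv7 F63017)))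
theorem Q25875 : ∀ i, i < 25875 → P i := stepQ 25874 Q25874 (allL N25874 (tt N49130 D88288) (tt N49131 D88289) (tt N49132 D88290) (tt N12869 (iv3 D41206)) (tt N14661 F62408) (tt N49133 D88291) (tt N29355 (iv6 F75825)) (tt N27345 F70108))
theorem Q25876 : ∀ i, i < 25876 → P i := stepQ 25875 Q25875 (allL N25875 (tt N48620 (iv1 F133592)) (tt N48610 (iv0 F133561)) (tt N48834 (iv2 F134630)) (tt N49133 (iv3 F135203)) (tt N49134 D88292) (tt N12869 (iv5 D41207)) (tt N49135 D88293) (tt N27346 (iv7 F70111)))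
theorem Q25877 : ∀ i, i < 25877 → P i := stepQ 25876 Q25876 (allL N25876 (tt N28891 (iv1 F74614)) (tt N12870 (iv0 D41212)) (tt N28893 (iv2 F157340)) (tt N25014 F289765) (tt N49136 D88295) (tt N49137 D88296) (tt N28969 (iv6 F289784)) (tt N21597 F289766))
theorem Q25878 : ∀ i, i < 25878 → P i := stepQ 25877 Q25877 (allL N25877 (tt N28893 (iv1 F74618)) (tt N21597 F289763) (tt N12870 (iv2 D41214)) (tt N48836 (iv3 F134636)) (tt N28320 (iv4 F73579)) (tt N49138 D88303) (tt N49139 D88304) (tt N28891 (iv7 F74611)))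
theorem Q25879 : ∀ i, i < 25879 → P i := stepQ 25878 Q25878 (allL N25878 (tt N49140 D88305) (tt N49141 D88306) (tt N49138 (iv2 F135215)) (tt N12871 F62411) (tt N44201 (iv4 F329340)) (tt N12870 (iv5 D41215)) (tt N49142 D88308) (tt N28894 (iv7 F74620)))
theorem Q25880 : ∀ i, i < 25880 → P i := stepQ 25879 Q25879 (allL N25879 (tt N49143 D88309) (tt N49144 D88310) (tt N49139 (iv2 F135216)) (tt N12872 F62412) (tt N28321 (iv4 F73587)) (tt N49145 D88311) (tt N12870 (iv6 D41216)) (tt N25888 (iv7 F62454)))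
theorem Q25881 : ∀ i, i < 25881 → P i := stepQ 25880 Q25880 (allL N25880 (tt N12882 (iv1 F62413)) (tt N12871 (iv0 D41217)) (tt N48838 F134645) (tt N49146 D88312) (tt N49078 F337984) (tt N25680 (iv5 F63431)) (tt N49147 D88314) (tt N48839 (iv7 F134648)))
theorem Q25882 : ∀ i, i < 25882 → P i := stepQ 25881 Q25881 (allL N25881 (tt N12871 (iv1 D41218)) (tt N12882 F62414) (tt N48839 F134650) (tt N49148 D88315) (tt N49079 F337978) (tt N49149 D88317) (tt N49150 D88318) (tt N48838 F134646))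
theorem Q25883 : ∀ i, i < 25883 → P i := stepQ 25882 Q25882 (allL N25882 (tt N49071 (iv1 F135147)) (tt N49073 (iv0 F135149)) (tt N48840 (iv2 F134651)) (tt N49142 F329855) (tt N12871 (iv4 D41219)) (tt N48590 (iv5 F133514)) (tt N12871 (iv6 F329915)) (tt N48842 (iv7 F134657)))
theorem Q25884 : ∀ i, i < 25884 → P i := stepQ 25883 Q25883 (allL N25883 (tt N12872 (iv1 D41222)) (tt N25702 F62417) (tt N25886 F63339) (tt N49151 D88325) (tt N14428 F62418) (tt N48602 (iv5 F133548)) (tt N13661 F292538) (tt N25887 (iv7 F63341)))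
theorem Q25885 : ∀ i, i < 25885 → P i := stepQ 25884 Q25884 (allL N25884 (tt N25616 (iv1 F63563)) (tt N49152 D88326) (tt N25909 (iv2 F63570)) (tt N49145 (iv3 F135218)) (tt N49153 D88327) (tt N12872 (iv5 D41223)) (tt N48590 F329950) (tt N25889 (iv7 F62455)))
theorem Q25886 : ∀ i, i < 25886 → P i := stepQ 25885 Q25885 (allL N25885 (tt N14422 F62421) (tt N25848 F62422) (tt N14681 F293437) (tt N49154 D88328) (tt N12873 (iv4 D41224)) (tt N49155 D88329) (tt N13812 F293438) (tt N25774 F62420))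
theorem Q25887 : ∀ i, i < 25887 → P i := stepQ 25886 Q25886 (allL N25886 (tt N12884 (iv1 F62449)) (tt N12874 (iv0 D41229)) (tt N25883 (iv2 F63339)) (tt N49156 D88331) (tt N14423 F62450) (tt N49157 D88332) (tt N13814 F292516) (tt N25767 (iv7 F63336)))
theorem Q25888 : ∀ i, i < 25888 → P i := stepQ 25887 Q25887 (allL N25887 (tt N12874 (iv1 D41230)) (tt N12884 F62451) (tt N25767 (iv2 F63342)) (tt N49158 D88334) (tt N14424 F62452) (tt N49159 D88335) (tt N14614 F63343) (tt N25883 F63341))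
theorem Q25889 : ∀ i, i < 25889 → P i := stepQ 25888 Q25888 (allL N25888 (tt N49160 D88336) (tt N49161 D88337) (tt N49162 D88338) (tt N12874 (iv3 D41231)) (tt N49129 (iv4 F135191)) (tt N49163 D88339) (tt N49164 D88340) (tt N25879 F62454))
theorem Q25890 : ∀ i, i < 25890 → P i := stepQ 25889 Q25889 (allL N25889 (tt N48596 (iv1 F133542)) (tt N48545 (iv0 F133368)) (tt N48689 F134100) (tt N49163 (iv3 F135282)) (tt N48589 (iv4 F133509)) (tt N12874 (iv5 D41232)) (tt N49165 D88341) (tt N25884 F62455))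
theorem Q25891 : ∀ i, i < 25891 → P i := stepQ 25890 Q25890 (allL N25890 (tt N25727 (iv1 F66268)) (tt N25906 F63568) (tt N13348 (iv2 F293957)) (tt N49164 (iv3 F135284)) (tt N12875 F62456) (tt N48726 (iv5 F134165)) (tt N12874 (iv6 D41233)) (tt N13346 (iv7 F293887)))
theorem Q25892 : ∀ i, i < 25892 → P i := stepQ 25891 Q25891 (allL N25891 (tt N25747 F62976) (tt N29421 (iv0 F76112)) (tt N12879 F62460) (tt N14381 F62461) (tt N27361 (iv4 F70127)) (tt N12877 (iv5 D41235)) (tt N14379 (iv6 F62462)) (tt N28874 (iv7 F74574)))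
theorem Q25893 : ∀ i, i < 25893 → P i := stepQ 25892 Q25892 (allL N25892 (tt N13567 (iv1 F66290)) (tt N26606 F66289) (tt N12880 F62463) (tt N26752 F294013) (tt N27554 (iv4 F70425)) (tt N26611 (iv5 F66275)) (tt N12877 (iv6 D41236)) (tt N26611 (iv7 F66273)))
theorem Q25894 : ∀ i, i < 25894 → P i := stepQ 25893 Q25893 (allL N25893 (tt N48903 F289683) (tt N49166 D88343) (tt N49167 D88344) (tt N12878 (iv3 D41237)) (tt N12881 F62464) (tt N49168 D88345) (tt N49169 D88346) (tt N27617 (iv7 F70647)))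
theorem Q25895 : ∀ i, i < 25895 → P i := stepQ 25894 Q25894 (allL N25894 (tt N49170 D88347) (tt N49171 D88348) (tt N27620 (iv2 F70653)) (tt N49168 (iv3 F135288)) (tt N49172 D88349) (tt N12878 (iv5 D41238)) (tt N49173 D88350) (tt N27618 (iv7 F70649)))
theorem Q25896 : ∀ i, i < 25896 → P i := stepQ 25895 Q25895 (allL N25895 (tt N25956 F294667) (tt N14541 (iv0 F66341)) (tt N27554 F70426) (tt N49169 (iv3 F135289)) (tt N12880 F62465) (tt N27548 (iv5 F70410)) (tt N12878 (iv6 D41239)) (tt N26757 F294668))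
theorem Q25897 : ∀ i, i < 25897 → P i := stepQ 25896 Q25896 (allL N25896 (tt N28874 (iv1 F74576)) (tt N12879 (iv0 D41240)) (tt N25747 F63014) (tt N25870 F62467) (tt N14653 F62466) (tt N49174 D88351) (tt N25737 (iv6 F63020)) (tt N29421 (iv7 F76111)))
theorem Q25898 : ∀ i, i < 25898 → P i := stepQ 25897 Q25897 (allL N25897 (tt N12879 (iv1 D41241)) (tt N28874 (iv0 F74575)) (tt N29421 (iv2 F76108)) (tt N12900 (iv3 F63080)) (tt N14654 F63079) (tt N25659 F63081) (tt N12927 F292086) (tt N25747 F63078))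
theorem Q25899 : ∀ i, i < 25899 → P i := stepQ 25898 Q25898 (allL N25898 (tt N14597 (iv1 F63232)) (tt N14656 F63083) (tt N27361 (iv2 F70126)) (tt N49175 D88352) (tt N12879 (iv4 D41242)) (tt N27801 (iv5 F71552)) (tt N13786 (iv6 F63175)) (tt N29424 (iv7 F76130)))
theorem Q25900 : ∀ i, i < 25900 → P i := stepQ 25899 Q25899 (allL N25899 (tt N26611 (iv1 F66276)) (tt N12880 (iv0 D41243)) (tt N13567 F66249) (tt N24438 F66250) (tt N14673 F66251) (tt N13565 (iv5 F66248)) (tt N27625 F290763) (tt N26606 (iv7 F66271)))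
theorem Q25901 : ∀ i, i < 25901 → P i := stepQ 25900 Q25900 (allL N25900 (tt N12881 (iv1 D41247)) (tt N48836 F134639) (tt N48835 F134632) (tt N26406 F291465) (tt N29126 (iv4 F75095)) (tt N49176 D88354) (tt N28341 (iv6 F73634)) (tt N28196 F73264))
theorem Q25902 : ∀ i, i < 25902 → P i := stepQ 25901 Q25901 (allL N25901 (tt N28196 (iv1 F134635)) (tt N48835 F134633) (tt N12881 (iv2 D41248)) (tt N28891 F74613) (tt N49167 (iv4 F135287)) (tt N49177 D88355) (tt N49178 D88356) (tt N48836 (iv7 F134637)))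
theorem Q25903 : ∀ i, i < 25903 → P i := stepQ 25902 Q25902 (allL N25902 (tt N49179 D88357) (tt N49180 D88358) (tt N49177 (iv2 F135320)) (tt N12882 F63089) (tt N49181 D88359) (tt N12881 (iv5 D41249)) (tt N49182 D88360) (tt N48837 (iv7 F134642)))
theorem Q25904 : ∀ i, i < 25904 → P i := stepQ 25903 Q25903 (allL N25903 (tt N49183 D88361) (tt N26410 F293668) (tt N49178 (iv2 F135321)) (tt N12883 F63090) (tt N49169 (iv4 F135290)) (tt N49184 D88362) (tt N12881 (iv6 D41250)) (tt N26758 F293669))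
theorem Q25905 : ∀ i, i < 25905 → P i := stepQ 25904 Q25904 (allL N25904 (tt N49073 (iv1 F135150)) (tt N49071 (iv0 F135146)) (tt N48842 (iv2 F134656)) (tt N49185 D88364) (tt N12882 (iv4 D41251)) (tt N48589 F133510) (tt N49186 D88365) (tt N48840 (iv7 F134652)))
theorem Q25906 : ∀ i, i < 25906 → P i := stepQ 25905 Q25905 (allL N25905 (tt N49187 D88366) (tt N49188 D88367) (tt N48843 (iv2 F134658)) (tt N49182 (iv3 F135322)) (tt N49186 (iv4 F135327)) (tt N49189 D88368) (tt N12882 (iv6 D41252)) (tt N49186 F329982))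
theorem Q25907 : ∀ i, i < 25907 → P i := stepQ 25906 Q25906 (allL N25906 (tt N25890 (iv1 F63568)) (tt N12883 (iv0 D41253)) (tt N26753 (iv2 F293405)) (tt N26670 F292355) (tt N27935 (iv4 F72229)) (tt N48558 (iv5 F133447)) (tt N27661 F291570) (tt N26754 (iv7 F293394)))
theorem Q25908 : ∀ i, i < 25908 → P i := stepQ 25907 Q25907 (allL N25907 (tt N25637 (iv1 F70440)) (tt N25635 F63092) (tt N26756 (iv2 F294764)) (tt N49184 (iv3 F135323)) (tt N49190 D88371) (tt N12883 (iv5 D41255)) (tt N49189 (iv6 F135328)) (tt N26759 (iv7 F294835)))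
theorem Q25909 : ∀ i, i < 25909 → P i := stepQ 25908 Q25908 (allL N25908 (tt N49191 D88373) (tt N49192 D88374) (tt N49193 D88375) (tt N12884 (iv3 D41257)) (tt N49175 (iv4 F135313)) (tt N49194 D88376) (tt N25700 F63569) (tt N48841 (iv7 F134654)))
theorem Q25910 : ∀ i, i < 25910 → P i := stepQ 25909 Q25909 (allL N25909 (tt N48545 (iv1 F133369)) (tt N48596 (iv0 F133541)) (tt N25884 F63570) (tt N49194 (iv3 F135343)) (tt N48590 F133513) (tt N12884 (iv5 D41258)) (tt N49153 F329949) (tt N48689 (iv7 F134101)))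
theorem Q25911 : ∀ i, i < 25911 → P i := stepQ 25910 Q25910 (allL N25910 (tt N23731 F63577) (tt N13338 F63578) (tt N23736 F63575) (tt N49195 D88378) (tt N12885 (iv4 D41261)) (tt N27907 F294073) (tt N35505 (iv6 F296415)) (tt N23735 F63576))
theorem Q25912 : ∀ i, i < 25912 → P i := stepQ 25911 Q25911 (allL N25911 (tt N13338 F63589) (tt N23731 F63590) (tt N23735 F63587) (tt N49196 D88391) (tt N12886 (iv4 D41267)) (tt N27899 F294069) (tt N49197 D88392) (tt N23736 F63588))
theorem Q25913 : ∀ i, i < 25913 → P i := stepQ 25912 Q25912 (allL N25912 (tt N31300 F324414) (tt N15525 F324415) (tt N18209 F324416) (tt N23413 F63591) (tt N49197 (iv4 F135383)) (tt N18142 F324417) (tt N12886 (iv6 D41268)) (tt N18205 F324418))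
theorem Q25914 : ∀ i, i < 25914 → P i := stepQ 25913 Q25913 (allL N25913 (tt N49198 D88408) (tt N49199 D88409) (tt N49200 D88410) (tt N12888 (iv3 D41274)) (tt N27671 (iv4 F70889)) (tt N49201 D88411) (tt N29427 (iv6 F293832)) (tt N26364 (iv7 F64939)))
theorem Q25915 : ∀ i, i < 25915 → P i := stepQ 25914 Q25914 (allL N25914 (tt N48523 (iv1 F133289)) (tt N25657 (iv0 F293595)) (tt N26371 (iv2 F64974)) (tt N49201 (iv3 F135403)) (tt N45835 (iv4 F119743)) (tt N12888 (iv5 D41275)) (tt N49202 D88413) (tt N26365 (iv7 F64941)))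
theorem Q25916 : ∀ i, i < 25916 → P i := stepQ 25915 Q25915 (allL N25915 (tt N49203 D88427) (tt N49204 D88428) (tt N49205 D88429) (tt N12889 (iv3 D41280)) (tt N26410 (iv4 F65098)) (tt N49206 D88430) (tt N14583 (iv6 F293051)) (tt N26372 (iv7 F64980)))
theorem Q25917 : ∀ i, i < 25917 → P i := stepQ 25916 Q25916 (allL N25916 (tt N13822 (iv1 F292278)) (tt N13344 F63603) (tt N13911 F291932) (tt N49206 (iv3 F135419)) (tt N45816 (iv4 F119712)) (tt N12889 (iv5 D41281)) (tt N49207 D88432) (tt N13910 F291933))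
theorem Q25918 : ∀ i, i < 25918 → P i := stepQ 25917 Q25917 (allL N25917 (tt N49208 D88434) (tt N49209 D88435) (tt N49210 D88436) (tt N12890 (iv3 D41283)) (tt N25997 (iv4 F63860)) (tt N49211 D88437) (tt N29417 (iv6 F292443)) (tt N25973 (iv7 F63787)))
theorem Q25919 : ∀ i, i < 25919 → P i := stepQ 25918 Q25918 (allL N25918 (tt N13344 F63606) (tt N13822 (iv0 F292277)) (tt N13910 F291935) (tt N49211 (iv3 F135424)) (tt N45492 (iv4 F116025)) (tt N12890 (iv5 D41284)) (tt N49212 D88439) (tt N13911 F291936))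
theorem Q25920 : ∀ i, i < 25920 → P i := stepQ 25919 Q25919 (allL N25919 (tt N12891 (iv1 D41287)) (tt N14665 (iv0 F293020)) (tt N14673 (iv2 F293019)) (tt N49213 D88447) (tt N13567 (iv4 F293035)) (tt N27380 (iv5 F293036)) (tt N29054 (iv6 F293037)) (tt N14674 (iv7 F293017)))
theorem Q25921 : ∀ i, i < 25921 → P i := stepQ 25920 Q25920 (allL N25920 (tt N14674 (iv1 F293016)) (tt N14673 (iv0 F293018)) (tt N12891 (iv2 D41288)) (tt N48678 (iv3 F133981)) (tt N12910 F63607) (tt N49214 D88450) (tt N14644 F291908) (tt N14665 (iv7 F293021)))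
theorem Q25922 : ∀ i, i < 25922 → P i := stepQ 25921 Q25921 (allL N25921 (tt N13738 (iv1 F293038)) (tt N13741 (iv0 F293039)) (tt N49214 (iv2 F135429)) (tt N12892 F63608) (tt N49215 D88453) (tt N12891 (iv5 D41289)) (tt N49216 D88454) (tt N14675 (iv7 F293034)))
theorem Q25923 : ∀ i, i < 25923 → P i := stepQ 25922 Q25922 (allL N25922 (tt N27899 (iv1 F293071)) (tt N27907 (iv0 F293072)) (tt N24033 F63611) (tt N49217 D88459) (tt N12892 (iv4 D41292)) (tt N24023 F63612) (tt N49218 D88460) (tt N26375 (iv7 F65004)))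
theorem Q25924 : ∀ i, i < 25924 → P i := stepQ 25923 Q25923 (allL N25923 (tt N49219 D88461) (tt N49220 D88462) (tt N48680 (iv2 F133984)) (tt N49216 (iv3 F135430)) (tt N49218 (iv4 F135435)) (tt N29373 (iv5 F75899)) (tt N12892 (iv6 D41293)) (tt N49221 D88463))
theorem Q25925 : ∀ i, i < 25925 → P i := stepQ 25924 Q25924 (allL N25924 (tt N49222 D88464) (tt N49223 D88465) (tt N49224 D88466) (tt N12893 (iv3 D41294)) (tt N14666 F63613) (tt N32485 (iv5 F82937)) (tt N26479 (iv6 F65286)) (tt N13430 F63614))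
theorem Q25926 : ∀ i, i < 25926 → P i := stepQ 25925 Q25925 (allL N25925 (tt N26519 (iv1 F65434)) (tt N26518 F65433) (tt N25943 (iv2 F63663)) (tt N32485 (iv3 F82936)) (tt N49225 D88467) (tt N12893 (iv5 D41295)) (tt N38121 F323243) (tt N13433 F63615))
theorem Q25927 : ∀ i, i < 25927 → P i := stepQ 25926 Q25926 (allL N25926 (tt N49226 D88469) (tt N26435 F290219) (tt N26495 F66685) (tt N12894 (iv3 D41296)) (tt N25926 F63616) (tt N49227 D88471) (tt N49228 D88472) (tt N25944 (iv7 F63666)))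
theorem Q25928 : ∀ i, i < 25928 → P i := stepQ 25927 Q25927 (allL N25927 (tt N25950 (iv1 F63678)) (tt N25949 F63677) (tt N12898 F63617) (tt N49227 (iv3 F135450)) (tt N47597 (iv4 F327293)) (tt N12894 (iv5 D41297)) (tt N44806 F326533) (tt N25945 (iv7 F63668)))
theorem Q25929 : ∀ i, i < 25929 → P i := stepQ 25928 Q25928 (allL N25928 (tt N13466 F63620) (tt N25939 F63635) (tt N12899 F63618) (tt N49228 (iv3 F135451)) (tt N12896 F63619) (tt N27228 F69395) (tt N12894 (iv6 D41298)) (tt N25929 (iv7 F63622)))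
theorem Q25930 : ∀ i, i < 25930 → P i := stepQ 25929 Q25929 (allL N25929 (tt N14494 (iv1 F291755)) (tt N25936 F63626) (tt N12901 F63621) (tt N49229 D88475) (tt N12895 (iv4 D41299)) (tt N27108 (iv5 F68970)) (tt N14496 (iv6 F291746)) (tt N25928 F63622))
theorem Q25931 : ∀ i, i < 25931 → P i := stepQ 25930 Q25930 (allL N25930 (tt N49230 D88476) (tt N49231 D88477) (tt N49232 D88478) (tt N12897 (iv3 D41300)) (tt N28486 (iv4 F74044)) (tt N49233 D88479) (tt N26530 (iv6 F65450)) (tt N13450 F63623))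
theorem Q25932 : ∀ i, i < 25932 → P i := stepQ 25931 Q25931 (allL N25931 (tt N26548 (iv1 F65478)) (tt N26547 F65476) (tt N25948 (iv2 F63675)) (tt N49233 (iv3 F135463)) (tt N37428 F317741) (tt N12897 (iv5 D41301)) (tt N37426 F317742) (tt N13452 F63624))
theorem Q25933 : ∀ i, i < 25933 → P i := stepQ 25932 Q25932 (allL N25932 (tt N25945 (iv1 F63670)) (tt N12898 (iv0 D41302)) (tt N25950 (iv2 F69276)) (tt N49234 D88482) (tt N49235 D88483) (tt N26772 F292142) (tt N49236 D88484) (tt N25949 (iv7 F69280)))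
theorem Q25934 : ∀ i, i < 25934 → P i := stepQ 25933 Q25933 (allL N25933 (tt N12898 (iv1 D41303)) (tt N25945 F63669) (tt N25949 F69281) (tt N49237 D88485) (tt N49238 D88486) (tt N27250 (iv5 F69441)) (tt N49239 D88487) (tt N25950 F69279))
theorem Q25935 : ∀ i, i < 25935 → P i := stepQ 25934 Q25934 (allL N25934 (tt N49240 D88488) (tt N49241 D88489) (tt N47597 F327754) (tt N38601 (iv3 F328223)) (tt N12898 (iv4 D41304)) (tt N24852 (iv5 F327763)) (tt N24844 F327755) (tt N25951 (iv7 F63680)))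
theorem Q25936 : ∀ i, i < 25936 → P i := stepQ 25935 Q25935 (allL N25935 (tt N38019 F326528) (tt N38017 F326529) (tt N44806 F326530) (tt N29377 (iv3 F75909)) (tt N24844 (iv4 F327291)) (tt N47025 (iv5 F327292)) (tt N12898 (iv6 D41305)) (tt N38619 F326531))
theorem Q25937 : ∀ i, i < 25937 → P i := stepQ 25936 Q25936 (allL N25936 (tt N25929 (iv1 F63626)) (tt N12899 (iv0 D41306)) (tt N13466 (iv2 F63627)) (tt N49242 D88497) (tt N14453 F63625) (tt N48621 (iv5 F133593)) (tt N13412 (iv6 F63628)) (tt N25939 (iv7 F63636)))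
theorem Q25938 : ∀ i, i < 25938 → P i := stepQ 25937 Q25937 (allL N25937 (tt N13543 F63632) (tt N27230 F69403) (tt N27228 (iv2 F69396)) (tt N27219 (iv3 F69367)) (tt N47026 (iv4 F327760)) (tt N12899 (iv5 D41308)) (tt N47025 F327756) (tt N25940 (iv7 F63639)))
theorem Q25939 : ∀ i, i < 25939 → P i := stepQ 25938 Q25938 (allL N25938 (tt N14455 F63633) (tt N26994 F68399) (tt N14489 F290994) (tt N49243 D88501) (tt N12900 (iv4 D41309)) (tt N49244 D88502) (tt N12947 F290995) (tt N25941 (iv7 F63645)))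
theorem Q25940 : ∀ i, i < 25940 → P i := stepQ 25939 Q25939 (allL N25939 (tt N25928 (iv1 F63635)) (tt N12901 (iv0 D41310)) (tt N14494 (iv2 F291756)) (tt N49245 D88503) (tt N26811 (iv4 F292547)) (tt N48625 (iv5 F133610)) (tt N13089 (iv6 F292549)) (tt N25936 F63636))
theorem Q25941 : ∀ i, i < 25941 → P i := stepQ 25940 Q25940 (allL N25940 (tt N27110 F68973) (tt N13607 F63640) (tt N27108 F68971) (tt N14480 F291115) (tt N49246 D88506) (tt N12901 (iv5 D41312)) (tt N49247 D88507) (tt N25937 F63639))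
theorem Q25942 : ∀ i, i < 25942 → P i := stepQ 25941 Q25941 (allL N25941 (tt N28340 (iv1 F73632)) (tt N26517 F65432) (tt N13481 F63643) (tt N49248 D88508) (tt N12902 (iv4 D41314)) (tt N49249 D88509) (tt N13417 F63644) (tt N25938 F63645))
theorem Q25943 : ∀ i, i < 25943 → P i := stepQ 25942 Q25942 (allL N25942 (tt N49250 D88513) (tt N26897 (iv0 F68156)) (tt N49251 D88514) (tt N12903 (iv3 D41320)) (tt N14429 F63661) (tt N49252 D88515) (tt N26894 (iv6 F68146)) (tt N13228 F63662))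
theorem Q25944 : ∀ i, i < 25944 → P i := stepQ 25943 Q25943 (allL N25943 (tt N26887 (iv1 F68123)) (tt N26886 F68122) (tt N25925 F63663) (tt N49252 (iv3 F135537)) (tt N49253 D88516) (tt N12903 (iv5 D41321)) (tt N37405 F322859) (tt N13231 F63664))
theorem Q25945 : ∀ i, i < 25945 → P i := stepQ 25944 Q25944 (allL N25944 (tt N26841 F290235) (tt N49254 D88519) (tt N26906 (iv2 F68188)) (tt N12904 (iv3 D41322)) (tt N25944 F63665) (tt N49255 D88520) (tt N49256 D88521) (tt N25926 F63666))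
theorem Q25946 : ∀ i, i < 25946 → P i := stepQ 25945 Q25945 (allL N25945 (tt N25933 (iv1 F63669)) (tt N25932 F63670) (tt N12907 F63667) (tt N49255 (iv3 F135548)) (tt N49257 D88522) (tt N12904 (iv5 D41323)) (tt N49258 D88523) (tt N25927 F63668))
theorem Q25947 : ∀ i, i < 25947 → P i := stepQ 25946 Q25946 (allL N25946 (tt N14495 F292714) (tt N13258 F65552) (tt N12908 F63671) (tt N49256 (iv3 F135550)) (tt N12905 F63672) (tt N27134 (iv5 F69018)) (tt N12904 (iv6 D41324)) (tt N14496 F292715))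
theorem Q25948 : ∀ i, i < 25948 → P i := stepQ 25947 Q25947 (allL N25947 (tt N49259 D88524) (tt N49260 D88525) (tt N49261 D88526) (tt N12906 (iv3 D41325)) (tt N14639 F63673) (tt N49262 D88527) (tt N26930 (iv6 F68269)) (tt N13244 F63674))
theorem Q25949 : ∀ i, i < 25949 → P i := stepQ 25948 Q25948 (allL N25948 (tt N26925 (iv1 F68260)) (tt N26924 F68257) (tt N25931 F63675) (tt N49262 (iv3 F135568)) (tt N38142 F319152) (tt N12906 (iv5 D41326)) (tt N38141 F319153) (tt N13246 F63676))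
theorem Q25950 : ∀ i, i < 25950 → P i := stepQ 25949 Q25949 (allL N25949 (tt N25927 (iv1 F63677)) (tt N12907 (iv0 D41327)) (tt N25933 (iv2 F69281)) (tt N49263 D88530) (tt N37139 F323375) (tt N48624 (iv5 F133604)) (tt N49264 D88532) (tt N25932 F69280))
theorem Q25951 : ∀ i, i < 25951 → P i := stepQ 25950 Q25950 (allL N25950 (tt N12907 (iv1 D41328)) (tt N25927 F63678) (tt N25932 F69276) (tt N49265 D88533) (tt N37138 F323383) (tt N13618 F63679) (tt N49266 D88535) (tt N25933 (iv7 F69279)))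
theorem Q25952 : ∀ i, i < 25952 → P i := stepQ 25951 Q25951 (allL N25951 (tt N49267 D88536) (tt N49268 D88537) (tt N49257 (iv2 F135552)) (tt N49269 D88538) (tt N12907 (iv4 D41329)) (tt N47570 (iv5 F328234)) (tt N49270 D88540) (tt N25934 F63680))
theorem Q25953 : ∀ i, i < 25953 → P i := stepQ 25952 Q25952 (allL N25952 (tt N49271 D88541) (tt N49272 D88542) (tt N49258 (iv2 F135557)) (tt N29380 (iv3 F75936)) (tt N49270 (iv4 F135599)) (tt N49273 D88543) (tt N12907 (iv6 D41330)) (tt N49274 D88544))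
theorem Q25954 : ∀ i, i < 25954 → P i := stepQ 25953 Q25953 (allL N25953 (tt N14496 F292719) (tt N12908 (iv0 D41331)) (tt N14495 F292720) (tt N49275 D88545) (tt N14456 (iv4 F65919)) (tt N13560 F65920) (tt N14479 F291096) (tt N13258 F65923))
theorem Q25955 : ∀ i, i < 25955 → P i := stepQ 25954 Q25954 (allL N25954 (tt N12908 (iv1 D41332)) (tt N14496 F292716) (tt N13258 (iv2 F63683)) (tt N49276 D88546) (tt N14457 (iv4 F65928)) (tt N13561 F63684) (tt N13193 F63682) (tt N14495 F292717))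
theorem Q25956 : ∀ i, i < 25956 → P i := stepQ 25955 Q25955 (allL N25955 (tt N27089 (iv1 F68927)) (tt N27087 (iv0 F68922)) (tt N27134 F69020) (tt N13091 F292770) (tt N49277 D88547) (tt N12908 (iv5 D41333)) (tt N49273 (iv6 F135600)) (tt N14497 F292771))
theorem Q25957 : ∀ i, i < 25957 → P i := stepQ 25956 Q25956 (allL N25956 (tt N29190 (iv1 F294874)) (tt N25895 (iv0 F294667)) (tt N13753 F294006) (tt N49278 D88580) (tt N12909 (iv4 D41341)) (tt N49279 D88581) (tt N29208 (iv6 F294879)) (tt N13761 F294007))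
theorem Q25958 : ∀ i, i < 25958 → P i := stepQ 25957 Q25957 (allL N25957 (tt N12960 (iv1 F63687)) (tt N12911 (iv0 D41344)) (tt N12959 F68967) (tt N27447 (iv3 F70290)) (tt N28050 (iv4 F72602)) (tt N14113 F74225) (tt N48658 F295396) (tt N12958 F68968))
theorem Q25959 : ∀ i, i < 25959 → P i := stepQ 25958 Q25958 (allL N25958 (tt N12911 (iv1 D41345)) (tt N12960 F63688) (tt N12958 F68965) (tt N27103 (iv3 F68963)) (tt N28016 (iv4 F72562)) (tt N14114 F74235) (tt N26865 F294820) (tt N12959 F68966))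
theorem Q25960 : ∀ i, i < 25960 → P i := stepQ 25959 Q25959 (allL N25959 (tt N49280 D88591) (tt N49281 D88592) (tt N25515 F63689) (tt N12912 F63690) (tt N25959 F63691) (tt N49282 D88593) (tt N12911 (iv6 D41346)) (tt N49283 D88594))
theorem Q25961 : ∀ i, i < 25961 → P i := stepQ 25960 Q25960 (allL N25960 (tt N13051 F63693) (tt N12912 (iv0 D41347)) (tt N13052 F63696) (tt N49284 D88595) (tt N13095 (iv4 F63694)) (tt N49285 D88596) (tt N14401 F63692) (tt N13053 F63695))
theorem Q25962 : ∀ i, i < 25962 → P i := stepQ 25961 Q25961 (allL N25961 (tt N12912 (iv1 D41348)) (tt N13051 F63713) (tt N13053 F63716) (tt N49286 D88597) (tt N25605 (iv4 F63715)) (tt N49287 D88598) (tt N27575 (iv6 F73007)) (tt N13052 F63714))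
theorem Q25963 : ∀ i, i < 25963 → P i := stepQ 25962 Q25962 (allL N25962 (tt N26693 F292653) (tt N28941 (iv0 F74663)) (tt N13054 F63717) (tt N49282 (iv3 F135742)) (tt N49288 D88600) (tt N12912 (iv5 D41349)) (tt N28614 (iv6 F74283)) (tt N49289 D88601))
theorem Q25964 : ∀ i, i < 25964 → P i := stepQ 25963 Q25963 (allL N25963 (tt N13053 (iv1 F63721)) (tt N13052 F63722) (tt N13051 F63718) (tt N49283 (iv3 F135744)) (tt N12915 F63719) (tt N49289 (iv5 F135767)) (tt N12967 F63720) (tt N12912 (iv7 D41350)))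
theorem Q25965 : ∀ i, i < 25965 → P i := stepQ 25964 Q25964 (allL N25964 (tt N14001 F63726) (tt N12979 (iv0 F63727)) (tt N13081 F63723) (tt N49290 D88602) (tt N12913 (iv4 D41351)) (tt N49291 D88603) (tt N13078 F63724) (tt N13084 F63725))
theorem Q25966 : ∀ i, i < 25966 → P i := stepQ 25965 Q25965 (allL N25965 (tt N12979 F63735) (tt N14001 (iv0 F63736)) (tt N13084 F63733) (tt N34802 F335606) (tt N12914 (iv4 D41353)) (tt N49292 D88606) (tt N13277 (iv6 F291843)) (tt N13081 F63734))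
theorem Q25967 : ∀ i, i < 25967 → P i := stepQ 25966 Q25966 (allL N25966 (tt N49293 D88614) (tt N49294 D88615) (tt N49256 (iv2 F293650)) (tt N12916 (iv3 D41359)) (tt N25966 F63761) (tt N47667 (iv5 F129395)) (tt N26906 F292601) (tt N13930 F63762))
theorem Q25968 : ∀ i, i < 25968 → P i := stepQ 25967 Q25967 (allL N25967 (tt N12947 (iv1 F63765)) (tt N12919 (iv0 D41360)) (tt N12943 (iv2 F63764)) (tt N48638 (iv3 F133700)) (tt N13386 F63763) (tt N26016 (iv5 F63892)) (tt N13216 (iv6 F290692)) (tt N12944 F63766))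
theorem Q25969 : ∀ i, i < 25969 → P i := stepQ 25968 Q25968 (allL N25968 (tt N49295 D88617) (tt N49296 D88618) (tt N49297 D88619) (tt N12919 (iv3 D41361)) (tt N26833 (iv4 F67949)) (tt N49298 D88620) (tt N26855 (iv6 F291524)) (tt N14487 F63767))
theorem Q25970 : ∀ i, i < 25970 → P i := stepQ 25969 Q25969 (allL N25969 (tt N26385 (iv1 F291393)) (tt N26658 (iv0 F66455)) (tt N12946 F63768) (tt N49298 (iv3 F135823)) (tt N27258 (iv4 F291529)) (tt N12919 (iv5 D41362)) (tt N49299 D88621) (tt N14488 F63769))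
theorem Q25971 : ∀ i, i < 25971 → P i := stepQ 25970 Q25970 (allL N25970 (tt N12920 (iv1 D41363)) (tt N13055 F63770) (tt N12972 F63773) (tt N13071 (iv3 F63772)) (tt N25517 (iv4 F63774)) (tt N27417 (iv5 F70221)) (tt N25748 (iv6 F291798)) (tt N13056 F63771))
theorem Q25972 : ∀ i, i < 25972 → P i := stepQ 25971 Q25971 (allL N25971 (tt N12972 (iv1 F63779)) (tt N13056 F63780) (tt N13055 F63775) (tt N13368 F63776) (tt N48542 (iv4 F133354)) (tt N13933 F63777) (tt N13941 F63778) (tt N12920 (iv7 D41364)))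
theorem Q25973 : ∀ i, i < 25973 → P i := stepQ 25972 Q25972 (allL N25972 (tt N14477 F74929) (tt N48845 (iv0 F290752)) (tt N13791 F63783) (tt N13523 F63784) (tt N29206 (iv4 F290762)) (tt N13521 F63785) (tt N12925 (iv6 D41366)) (tt N46520 (iv7 F290757)))
theorem Q25974 : ∀ i, i < 25974 → P i := stepQ 25973 Q25973 (allL N25973 (tt N49300 D88627) (tt N49301 D88628) (tt N49302 D88629) (tt N12926 (iv3 D41367)) (tt N12945 F63786) (tt N27885 (iv5 F291603)) (tt N26976 (iv6 F291604)) (tt N25917 F63787))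
theorem Q25975 : ∀ i, i < 25975 → P i := stepQ 25974 Q25974 (allL N25974 (tt N12928 (iv1 D41371)) (tt N13978 F63793) (tt N13976 F114039) (tt N23508 F114040) (tt N44679 F114041) (tt N34633 (iv5 F298093)) (tt N34761 (iv6 F298489)) (tt N13975 F114042))
theorem Q25976 : ∀ i, i < 25976 → P i := stepQ 25975 Q25975 (allL N25975 (tt N23447 F296270) (tt N23645 (iv0 F296604)) (tt N13977 F63794) (tt N23699 F296271) (tt N47059 (iv4 F297242)) (tt N12928 (iv5 D41372)) (tt N12929 F63796) (tt N23695 (iv7 F296601)))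
theorem Q25977 : ∀ i, i < 25977 → P i := stepQ 25976 Q25976 (allL N25976 (tt N13976 (iv1 F63802)) (tt N13975 F63803) (tt N13978 F63797) (tt N25570 F63798) (tt N24450 F63799) (tt N23695 F296891) (tt N13972 F63800) (tt N12928 (iv7 D41373)))
theorem Q25978 : ∀ i, i < 25978 → P i := stepQ 25977 Q25977 (allL N25977 (tt N22943 F63806) (tt N22933 F63807) (tt N22940 F63804) (tt N49303 D88640) (tt N12929 (iv4 D41374)) (tt N44707 (iv5 F112909)) (tt N47059 (iv6 F297243)) (tt N13958 F63805))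
theorem Q25979 : ∀ i, i < 25979 → P i := stepQ 25978 Q25978 (allL N25978 (tt N17848 F118769) (tt N17851 F118770) (tt N24349 F63808) (tt N24698 F63809) (tt N12931 F63810) (tt N49304 D88641) (tt N12930 (iv6 D41375)) (tt N49305 D88642))
theorem Q25980 : ∀ i, i < 25980 → P i := stepQ 25979 Q25979 (allL N25979 (tt N12931 (iv1 D41377)) (tt N23596 F118761) (tt N23544 F118762) (tt N23605 F118763) (tt N34981 (iv4 F299212)) (tt N40510 F325844) (tt N23605 (iv6 F298279)) (tt N23597 F118765))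
theorem Q25981 : ∀ i, i < 25981 → P i := stepQ 25980 Q25980 (allL N25980 (tt N23610 F118759) (tt N31211 F326980) (tt N31212 F326981) (tt N12937 F63811) (tt N46710 (iv4 F126255)) (tt N12931 (iv5 D41378)) (tt N12933 F63812) (tt N31196 F326982))
theorem Q25982 : ∀ i, i < 25982 → P i := stepQ 25981 Q25981 (allL N25981 (tt N23544 F118771) (tt N23597 F118772) (tt N23596 F118773) (tt N12938 F63813) (tt N49305 (iv4 F135899)) (tt N31196 (iv5 F326124)) (tt N23633 (iv6 F298102)) (tt N12931 (iv7 D41379)))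
theorem Q25983 : ∀ i, i < 25983 → P i := stepQ 25982 Q25982 (allL N25982 (tt N23613 F63817) (tt N23496 F63818) (tt N17568 F63814) (tt N23614 F63815) (tt N22919 F63819) (tt N12932 (iv5 D41380)) (tt N49306 D88647) (tt N23612 F63816))
theorem Q25984 : ∀ i, i < 25984 → P i := stepQ 25983 Q25983 (allL N25983 (tt N45423 (iv1 F298136)) (tt N45425 F298070) (tt N24005 F298071) (tt N47724 (iv3 F129572)) (tt N49307 D88650) (tt N12935 (iv5 D41384)) (tt N24003 F298072) (tt N45449 F298073))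
theorem Q25985 : ∀ i, i < 25985 → P i := stepQ 25984 Q25984 (allL N25984 (tt N45425 F299334) (tt N45423 F299335) (tt N45449 F299336) (tt N17475 F118783) (tt N49308 D88652) (tt N12936 (iv5 D41389)) (tt N29068 (iv6 F74970)) (tt N24005 F299337))
theorem Q25986 : ∀ i, i < 25986 → P i := stepQ 25985 Q25985 (allL N25985 (tt N23474 (iv1 F296740)) (tt N12937 (iv0 D41391)) (tt N23476 (iv2 F296747)) (tt N46285 F296274) (tt N46922 (iv4 F127738)) (tt N23455 (iv5 F296638)) (tt N26003 F63880) (tt N23454 (iv7 F296595)))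
theorem Q25987 : ∀ i, i < 25987 → P i := stepQ 25986 Q25986 (allL N25986 (tt N23454 (iv1 F296594)) (tt N23476 (iv0 F296745)) (tt N23474 (iv2 F296741)) (tt N31196 (iv3 F326123)) (tt N47643 (iv4 F129379)) (tt N12938 F63824) (tt N31193 F325198) (tt N12937 (iv7 D41393)))
theorem Q25988 : ∀ i, i < 25988 → P i := stepQ 25987 Q25987 (allL N25987 (tt N49309 D88662) (tt N45453 (iv0 F296610)) (tt N26656 (iv2 F66447)) (tt N17479 F63835) (tt N47626 (iv4 F129323)) (tt N25987 F63836) (tt N12941 (iv6 D41398)) (tt N17503 F296268))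
theorem Q25989 : ∀ i, i < 25989 → P i := stepQ 25988 Q25988 (allL N25988 (tt N49310 D88678) (tt N49311 D88679) (tt N49312 D88680) (tt N12943 (iv3 D41405)) (tt N13407 F63851) (tt N49313 D88681) (tt N26900 F290954) (tt N26665 (iv7 F66478)))
theorem Q25990 : ∀ i, i < 25990 → P i := stepQ 25989 Q25989 (allL N25989 (tt N13628 F290991) (tt N13624 F290992) (tt N26016 F63893) (tt N49313 (iv3 F136021)) (tt N44708 (iv4 F112915)) (tt N12943 (iv5 D41406)) (tt N49314 D88683) (tt N26017 (iv7 F63895)))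
theorem Q25991 : ∀ i, i < 25991 → P i := stepQ 25990 Q25990 (allL N25990 (tt N27186 (iv1 F290709)) (tt N49315 D88687) (tt N49316 D88688) (tt N12944 (iv3 D41408)) (tt N29469 (iv4 F76400)) (tt N49317 D88689) (tt N49318 D88690) (tt N48638 (iv7 F133701)))
theorem Q25992 : ∀ i, i < 25992 → P i := stepQ 25991 Q25991 (allL N25991 (tt N13624 (iv1 F290717)) (tt N13628 (iv0 F290718)) (tt N26017 F63897) (tt N49317 (iv3 F136031)) (tt N44707 (iv4 F112910)) (tt N12944 (iv5 D41409)) (tt N49319 D88691) (tt N26016 F63894))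
theorem Q25993 : ∀ i, i < 25993 → P i := stepQ 25992 Q25992 (allL N25992 (tt N14478 (iv1 F72201)) (tt N13283 (iv0 F290575)) (tt N26666 (iv2 F66479)) (tt N49318 (iv3 F136032)) (tt N24427 F63857) (tt N26826 (iv5 F290583)) (tt N12944 (iv6 D41410)) (tt N26899 (iv7 F290578)))
theorem Q25994 : ∀ i, i < 25994 → P i := stepQ 25993 Q25993 (allL N25993 (tt N49320 D88694) (tt N12945 (iv0 D41411)) (tt N49321 D88695) (tt N49322 D88696) (tt N49323 D88697) (tt N49324 D88698) (tt N49325 D88699) (tt N49326 D88700))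
theorem Q25995 : ∀ i, i < 25995 → P i := stepQ 25994 Q25994 (allL N25994 (tt N12945 (iv1 D41412)) (tt N49320 F136043) (tt N49326 (iv2 F136046)) (tt N49327 D88701) (tt N49328 D88702) (tt N49329 D88703) (tt N32605 (iv6 F291601)) (tt N49321 F136044))
theorem Q25996 : ∀ i, i < 25996 → P i := stepQ 25995 Q25995 (allL N25995 (tt N49321 F288942) (tt N49326 (iv0 F288943)) (tt N12945 (iv2 D41413)) (tt N49297 (iv3 F135818)) (tt N49302 (iv4 F135858)) (tt N49330 D88707) (tt N26981 (iv6 F291602)) (tt N49320 (iv7 F136042)))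
theorem Q25997 : ∀ i, i < 25997 → P i := stepQ 25996 Q25996 (allL N25996 (tt N32170 (iv1 F291605)) (tt N49331 D88709) (tt N49330 (iv2 F136049)) (tt N12946 F63858) (tt N49332 D88710) (tt N12945 (iv5 D41414)) (tt N49333 D88711) (tt N49334 D88712))
theorem Q25998 : ∀ i, i < 25998 → P i := stepQ 25997 Q25997 (allL N25997 (tt N49326 (iv1 F288944)) (tt N49321 F288941) (tt N49320 F136039) (tt N12947 F63859) (tt N25917 F63860) (tt N49334 (iv5 F136052)) (tt N49243 (iv6 F291531)) (tt N12945 (iv7 D41415)))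
theorem Q25999 : ∀ i, i < 25999 → P i := stepQ 25998 Q25998 (allL N25998 (tt N12946 (iv1 D41417)) (tt N14488 F63863) (tt N26658 (iv2 F66453)) (tt N49335 D88716) (tt N47628 (iv4 F129326)) (tt N12955 F63864) (tt N49336 D88717) (tt N26385 (iv7 F291394)))
theorem Q26000 : ∀ i, i < 26000 → P i := stepQ 25999 Q25999 (allL N25999 (tt N49337 D88718) (tt N49338 D88719) (tt N49299 (iv2 F135825)) (tt N49333 (iv3 F136050)) (tt N47648 (iv4 F129384)) (tt N26986 (iv5 F291270)) (tt N12946 (iv6 D41418)) (tt N49339 D88720))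
theorem Q26001 : ∀ i, i < 26001 → P i := stepQ 26000 Q26000 (allL N26000 (tt N26658 (iv1 F66456)) (tt N26385 (iv0 F291392)) (tt N14488 F63865) (tt N49334 (iv3 F136051)) (tt N27257 (iv4 F291533)) (tt N12947 F63866) (tt N49340 D88721) (tt N12946 (iv7 D41419)))
theorem Q26002 : ∀ i, i < 26002 → P i := stepQ 26001 Q26001 (allL N26001 (tt N49341 D88735) (tt N49342 D88736) (tt N49343 D88737) (tt N12950 (iv3 D41424)) (tt N12956 F63875) (tt N49344 D88738) (tt N28481 (iv6 F74035)) (tt N14064 F292910))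
theorem Q26003 : ∀ i, i < 26003 → P i := stepQ 26002 Q26002 (allL N26002 (tt N13408 F63876) (tt N13526 F63877) (tt N14062 (iv2 F293269)) (tt N49344 (iv3 F136083)) (tt N14065 F294282) (tt N12950 (iv5 D41425)) (tt N49345 D88739) (tt N14065 (iv7 F293266)))
theorem Q26004 : ∀ i, i < 26004 → P i := stepQ 26003 Q26003 (allL N26003 (tt N23637 (iv1 F298019)) (tt N23636 (iv0 F298018)) (tt N23639 (iv2 F298020)) (tt N45865 F296734) (tt N49346 D88746) (tt N12951 (iv5 D41434)) (tt N25985 (iv6 F63880)) (tt N23628 F296735))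
theorem Q26005 : ∀ i, i < 26005 → P i := stepQ 26004 Q26004 (allL N26004 (tt N23635 (iv1 F297222)) (tt N12952 (iv0 D41436)) (tt N29065 F118983) (tt N22504 (iv3 F297257)) (tt N46939 (iv4 F127825)) (tt N34763 (iv5 F297258)) (tt N24061 (iv6 F296606)) (tt N23655 (iv7 F297220)))
theorem Q26006 : ∀ i, i < 26006 → P i := stepQ 26005 Q26005 (allL N26005 (tt N12952 (iv1 D41437)) (tt N23635 (iv0 F297221)) (tt N23655 (iv2 F297219)) (tt N46490 (iv3 F296825)) (tt N46940 (iv4 F127832)) (tt N13987 (iv5 F63881)) (tt N23647 (iv6 F297259)) (tt N29065 (iv7 F118982)))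
theorem Q26007 : ∀ i, i < 26007 → P i := stepQ 26006 Q26006 (allL N26006 (tt N24681 F119055) (tt N24683 F113509) (tt N29064 (iv2 F74945)) (tt N49347 D88751) (tt N12952 (iv4 D41438)) (tt N49348 D88752) (tt N12954 F63882) (tt N49349 D88753))
theorem Q26008 : ∀ i, i < 26008 → P i := stepQ 26007 Q26007 (allL N26007 (tt N23655 (iv1 F297218)) (tt N29065 F74951) (tt N23635 (iv2 F297223)) (tt N23959 F118517) (tt N49349 (iv4 F136144)) (tt N12953 F63883) (tt N29070 (iv6 F74971)) (tt N12952 (iv7 D41439)))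
theorem Q26009 : ∀ i, i < 26009 → P i := stepQ 26008 Q26008 (allL N26008 (tt N49350 D88754) (tt N49351 D88755) (tt N49352 D88756) (tt N12954 (iv3 D41440)) (tt N48489 (iv4 F133001)) (tt N49353 D88757) (tt N49347 (iv6 F136140)) (tt N29066 (iv7 F74968)))
theorem Q26010 : ∀ i, i < 26010 → P i := stepQ 26009 Q26009 (allL N26009 (tt N23051 F63886) (tt N24418 F63887) (tt N24909 F63884) (tt N49353 (iv3 F136147)) (tt N26293 (iv4 F64541)) (tt N12954 (iv5 D41441)) (tt N49354 D88758) (tt N24910 F63885))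
theorem Q26011 : ∀ i, i < 26011 → P i := stepQ 26010 Q26010 (allL N26010 (tt N13576 (iv1 F292497)) (tt N49355 D88760) (tt N49356 D88761) (tt N12955 (iv3 D41442)) (tt N25597 F63888) (tt N49335 (iv5 F136056)) (tt N27268 F292088) (tt N26383 F292089))
theorem Q26012 : ∀ i, i < 26012 → P i := stepQ 26011 Q26011 (allL N26011 (tt N13538 (iv1 F291175)) (tt N13536 F291090) (tt N13569 F291091) (tt N27268 (iv3 F291700)) (tt N26079 (iv4 F291701)) (tt N49357 D88765) (tt N12955 (iv6 D41443)) (tt N13370 F291092))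
theorem Q26013 : ∀ i, i < 26013 → P i := stepQ 26012 Q26012 (allL N26012 (tt N27269 F293474) (tt N12956 (iv0 D41446)) (tt N27268 F293475) (tt N49358 D88774) (tt N49359 D88775) (tt N49360 D88776) (tt N49356 (iv6 F293723)) (tt N26416 F293476))
theorem Q26014 : ∀ i, i < 26014 → P i := stepQ 26013 Q26013 (allL N26013 (tt N12956 (iv1 D41447)) (tt N27269 F293477) (tt N26416 F293478) (tt N13370 (iv3 F293540)) (tt N26153 (iv4 F294390)) (tt N49361 D88781) (tt N13369 (iv6 F294392)) (tt N27268 F293479))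
theorem Q26015 : ∀ i, i < 26015 → P i := stepQ 26014 Q26014 (allL N26014 (tt N27268 F293480) (tt N26416 F293481) (tt N12956 (iv2 D41448)) (tt N27262 F293482) (tt N49343 (iv4 F136082)) (tt N49362 D88783) (tt N28559 (iv6 F74178)) (tt N27269 F293483))
theorem Q26016 : ∀ i, i < 26016 → P i := stepQ 26015 Q26015 (allL N26015 (tt N49363 D88784) (tt N49364 D88785) (tt N49362 (iv2 F136164)) (tt N12957 F63891) (tt N49365 D88786) (tt N12956 (iv5 D41449)) (tt N49366 D88787) (tt N27270 F291535))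
theorem Q26017 : ∀ i, i < 26017 → P i := stepQ 26016 Q26016 (allL N26016 (tt N26293 (iv1 F64544)) (tt N12957 (iv0 D41450)) (tt N25989 (iv2 F63893)) (tt N49367 D88788) (tt N27964 (iv4 F72389)) (tt N25967 F63892) (tt N49368 D88789) (tt N25991 (iv7 F63894)))
theorem Q26018 : ∀ i, i < 26018 → P i := stepQ 26017 Q26017 (allL N26017 (tt N12957 (iv1 D41451)) (tt N26293 (iv0 F64543)) (tt N25991 (iv2 F63897)) (tt N49369 D88790) (tt N44691 (iv4 F112880)) (tt N13298 F63896) (tt N49370 D88791) (tt N25989 F63895))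
theorem Q26019 : ∀ i, i < 26019 → P i := stepQ 26018 Q26018 (allL N26018 (tt N24418 F63901) (tt N23051 F63902) (tt N24910 F63898) (tt N49371 D88792) (tt N12957 (iv4 D41452)) (tt N23813 F63900) (tt N49372 D88793) (tt N24909 F63899))
theorem Q26020 : ∀ i, i < 26020 → P i := stepQ 26019 Q26019 (allL N26019 (tt N49373 D88794) (tt N49374 D88795) (tt N27265 F291539) (tt N49366 (iv3 F136165)) (tt N49372 (iv4 F136175)) (tt N28562 (iv5 F74182)) (tt N12957 (iv6 D41453)) (tt N49375 D88796))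
theorem Q26021 : ∀ i, i < 26021 → P i := stepQ 26020 Q26020 (allL N26020 (tt N46799 F127118) (tt N48413 (iv0 F132440)) (tt N27443 (iv2 F70283)) (tt N12958 (iv3 D41455)) (tt N13881 F63904) (tt N47448 (iv5 F128824)) (tt N49376 D88797) (tt N27447 (iv7 F70289)))
theorem Q26022 : ∀ i, i < 26022 → P i := stepQ 26021 Q26021 (allL N26021 (tt N28051 (iv1 F72609)) (tt N24375 (iv0 F63905)) (tt N28016 (iv2 F72561)) (tt N27413 (iv3 F70210)) (tt N12958 (iv4 D41456)) (tt N24996 F71579) (tt N49377 D88798) (tt N28050 (iv7 F72605)))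
theorem Q26023 : ∀ i, i < 26023 → P i := stepQ 26022 Q26022 (allL N26022 (tt N25643 (iv1 F157259)) (tt N14069 (iv0 F157260)) (tt N26865 F294809) (tt N49376 (iv3 F136176)) (tt N49377 (iv4 F136178)) (tt N49378 D88801) (tt N12958 (iv6 D41458)) (tt N26864 F294810))
theorem Q26024 : ∀ i, i < 26024 → P i := stepQ 26023 Q26023 (allL N26023 (tt N49379 D88803) (tt N43507 F109130) (tt N27100 (iv2 F68958)) (tt N12959 (iv3 D41460)) (tt N13599 F63907) (tt N43682 (iv5 F109447)) (tt N49380 D88804) (tt N27103 (iv7 F68962)))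
theorem Q26025 : ∀ i, i < 26025 → P i := stepQ 26024 Q26024 (allL N26024 (tt N24375 F63908) (tt N28051 F72611) (tt N28050 F72603) (tt N26056 (iv3 F64041)) (tt N12959 (iv4 D41461)) (tt N24997 (iv5 F74237)) (tt N49381 D88805) (tt N28016 (iv7 F72563)))
theorem Q26026 : ∀ i, i < 26026 → P i := stepQ 26025 Q26025 (allL N26025 (tt N14027 (iv1 F157591)) (tt N25684 (iv0 F157592)) (tt N48658 F295387) (tt N49380 (iv3 F136185)) (tt N49381 (iv4 F136187)) (tt N49382 D88808) (tt N12959 (iv6 D41463)) (tt N48657 F295388))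
theorem Q26027 : ∀ i, i < 26027 → P i := stepQ 26026 Q26026 (allL N26026 (tt N49383 D88810) (tt N49384 D88811) (tt N12962 F63909) (tt N13025 F63910) (tt N26026 F63911) (tt N49385 D88812) (tt N12960 (iv6 D41464)) (tt N49386 D88813))
theorem Q26028 : ∀ i, i < 26028 → P i := stepQ 26027 Q26027 (allL N26027 (tt N46719 (iv1 F126264)) (tt N46721 (iv0 F126265)) (tt N48994 (iv2 F135000)) (tt N27712 F71175) (tt N12961 (iv4 D41467)) (tt N49387 D88814) (tt N21994 F300209) (tt N28610 (iv7 F74279)))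
theorem Q26029 : ∀ i, i < 26029 → P i := stepQ 26028 Q26028 (allL N26028 (tt N49388 D88816) (tt N49389 D88817) (tt N22852 (iv2 F302939)) (tt N12963 F63915) (tt N21994 F300208) (tt N21955 (iv5 F302952)) (tt N12961 (iv6 D41468)) (tt N49390 D88819))
theorem Q26030 : ∀ i, i < 26030 → P i := stepQ 26029 Q26029 (allL N26029 (tt N49386 (iv1 F136197)) (tt N12962 (iv0 D41469)) (tt N49383 (iv2 F147452)) (tt N49391 D88821) (tt N49392 D88822) (tt N49393 D88823) (tt N49394 D88824) (tt N49384 (iv7 F147451)))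
theorem Q26031 : ∀ i, i < 26031 → P i := stepQ 26030 Q26030 (allL N26030 (tt N12962 (iv1 D41470)) (tt N49386 F136196) (tt N49384 (iv2 F147450)) (tt N49395 D88826) (tt N49396 D88827) (tt N49397 D88828) (tt N49398 D88829) (tt N49383 (iv7 F147453)))
theorem Q26032 : ∀ i, i < 26032 → P i := stepQ 26031 Q26031 (allL N26031 (tt N49399 D88830) (tt N49400 D88831) (tt N49385 (iv2 F136189)) (tt N12966 F63916) (tt N21956 (iv4 F307282)) (tt N12962 (iv5 D41471)) (tt N21955 F305325) (tt N49401 D88833))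
theorem Q26033 : ∀ i, i < 26033 → P i := stepQ 26032 Q26032 (allL N26032 (tt N49384 (iv1 F136188)) (tt N49383 F136195) (tt N49386 (iv2 F136191)) (tt N12967 F63917) (tt N26032 F63918) (tt N49401 (iv5 F136208)) (tt N49283 (iv6 F135746)) (tt N12962 (iv7 D41472)))
theorem Q26034 : ∀ i, i < 26034 → P i := stepQ 26033 Q26033 (allL N26033 (tt N13037 (iv1 F63923)) (tt N12963 (iv0 D41473)) (tt N13034 F156378) (tt N21788 (iv3 F286798)) (tt N46357 F303259) (tt N27643 (iv5 F305470)) (tt N28840 F74549) (tt N13035 F156379))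
theorem Q26035 : ∀ i, i < 26035 → P i := stepQ 26034 Q26034 (allL N26034 (tt N12963 (iv1 D41474)) (tt N13037 F63919) (tt N13035 (iv2 F156371)) (tt N34873 F300574) (tt N46819 F270623) (tt N43732 (iv5 F303370)) (tt N49402 D88842) (tt N13034 (iv7 F156377)))
theorem Q26036 : ∀ i, i < 26036 → P i := stepQ 26035 Q26035 (allL N26035 (tt N27422 (iv1 F305472)) (tt N49403 D88844) (tt N13036 F63920) (tt N21955 F303260) (tt N46066 (iv4 F305473)) (tt N12963 (iv5 D41475)) (tt N12966 F63921) (tt N49404 D88846))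
theorem Q26037 : ∀ i, i < 26037 → P i := stepQ 26036 Q26036 (allL N26036 (tt N13035 (iv1 F63924)) (tt N13034 F63925) (tt N13037 F63922) (tt N49390 (iv3 F136202)) (tt N24094 F302397) (tt N49404 (iv5 F136216)) (tt N28615 (iv6 F74286)) (tt N12963 (iv7 D41476)))
theorem Q26038 : ∀ i, i < 26038 → P i := stepQ 26037 Q26037 (allL N26037 (tt N49405 D88847) (tt N46877 F337260) (tt N49406 D88849) (tt N12964 (iv3 D41477)) (tt N25553 F63926) (tt N49407 D88850) (tt N49408 D88851) (tt N13043 F63927))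
theorem Q26039 : ∀ i, i < 26039 → P i := stepQ 26038 Q26038 (allL N26038 (tt N28999 (iv1 F74776)) (tt N28998 (iv0 F74760)) (tt N13041 F63928) (tt N49407 (iv3 F136227)) (tt N49409 D88852) (tt N12964 (iv5 D41478)) (tt N49410 D88853) (tt N13045 F63929))
theorem Q26040 : ∀ i, i < 26040 → P i := stepQ 26039 Q26039 (allL N26039 (tt N13766 F66327) (tt N26405 F291149) (tt N13042 F63930) (tt N49408 (iv3 F136229)) (tt N25551 F63931) (tt N14416 F63932) (tt N12964 (iv6 D41479)) (tt N27014 F291150))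
theorem Q26041 : ∀ i, i < 26041 → P i := stepQ 26040 Q26040 (allL N26040 (tt N46798 F335724) (tt N49411 D88857) (tt N49412 D88858) (tt N12965 (iv3 D41480)) (tt N27408 (iv4 F70203)) (tt N49413 D88859) (tt N27010 F293194) (tt N13039 F63933))
theorem Q26042 : ∀ i, i < 26042 → P i := stepQ 26041 Q26041 (allL N26041 (tt N28998 (iv1 F74761)) (tt N28999 (iv0 F74775)) (tt N13045 F63934) (tt N49413 (iv3 F136254)) (tt N49414 D88861) (tt N12965 (iv5 D41481)) (tt N49415 D88862) (tt N13041 F63935))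
theorem Q26043 : ∀ i, i < 26043 → P i := stepQ 26042 Q26042 (allL N26042 (tt N13050 (iv1 F63940)) (tt N12966 (iv0 D41483)) (tt N13047 (iv2 F63938)) (tt N49416 D88864) (tt N49417 D88865) (tt N25871 F63937) (tt N49418 D88866) (tt N13048 F63939))
theorem Q26044 : ∀ i, i < 26044 → P i := stepQ 26043 Q26043 (allL N26043 (tt N49419 D88867) (tt N28996 (iv0 F74754)) (tt N13049 F63941) (tt N46067 (iv3 F309543)) (tt N12966 (iv4 D41484)) (tt N14407 F63942) (tt N46066 F307503) (tt N14406 (iv7 F63943)))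
theorem Q26045 : ∀ i, i < 26045 → P i := stepQ 26044 Q26044 (allL N26044 (tt N13048 (iv1 F63947)) (tt N13047 F63948) (tt N13050 F63944) (tt N49401 (iv3 F136207)) (tt N14406 F63945) (tt N12967 F63946) (tt N49420 D88869) (tt N12966 (iv7 D41485)))
theorem Q26046 : ∀ i, i < 26046 → P i := stepQ 26045 Q26045 (allL N26045 (tt N29019 F74826) (tt N14039 (iv0 F65477)) (tt N26780 (iv2 F67706)) (tt N12970 F63949) (tt N49421 D88870) (tt N12968 (iv5 D41486)) (tt N13279 F291265) (tt N13073 F63950))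
theorem Q26047 : ∀ i, i < 26047 → P i := stepQ 26046 Q26046 (allL N26046 (tt N27956 F74808) (tt N26302 (iv0 F291321)) (tt N26781 (iv2 F67711)) (tt N12971 F63951) (tt N26798 (iv4 F67764)) (tt N13280 F290904) (tt N12968 (iv6 D41487)) (tt N27005 F290905))
theorem Q26048 : ∀ i, i < 26048 → P i := stepQ 26047 Q26047 (allL N26047 (tt N12973 (iv1 F63956)) (tt N12969 (iv0 D41488)) (tt N13060 (iv2 F63955)) (tt N49422 D88873) (tt N24432 F63954) (tt N28995 (iv5 F74749)) (tt N14001 (iv6 F63958)) (tt N12981 F63957))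
theorem Q26049 : ∀ i, i < 26049 → P i := stepQ 26048 Q26048 (allL N26048 (tt N49423 D88874) (tt N14048 (iv0 F64326)) (tt N46755 F335664) (tt N12969 (iv3 D41489)) (tt N26796 (iv4 F67759)) (tt N43919 F337107) (tt N49424 D88877) (tt N13075 F63959))
theorem Q26050 : ∀ i, i < 26050 → P i := stepQ 26049 Q26049 (allL N26049 (tt N29003 F74793) (tt N29001 (iv0 F74780)) (tt N13062 F63960) (tt N43919 F337106) (tt N49425 D88878) (tt N12969 (iv5 D41490)) (tt N49426 D88879) (tt N13076 F63961))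
theorem Q26051 : ∀ i, i < 26051 → P i := stepQ 26050 Q26050 (allL N26050 (tt N14022 F72662) (tt N49427 D88880) (tt N13063 F63962) (tt N49424 (iv3 F136314)) (tt N12971 F63963) (tt N49428 D88881) (tt N12969 (iv6 D41491)) (tt N27008 F290906))
theorem Q26052 : ∀ i, i < 26052 → P i := stepQ 26051 Q26051 (allL N26051 (tt N28986 (iv1 F74742)) (tt N14066 F63997) (tt N13065 F63964) (tt N49429 D88883) (tt N12970 (iv4 D41492)) (tt N49430 D88884) (tt N13284 F292290) (tt N13078 F63965))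
theorem Q26053 : ∀ i, i < 26053 → P i := stepQ 26052 Q26052 (allL N26052 (tt N13918 F69721) (tt N28960 (iv0 F74700)) (tt N27417 (iv2 F70218)) (tt N12974 F63980) (tt N25862 F63982) (tt N12972 (iv5 D41496)) (tt N13080 F63983) (tt N13058 F63981))
theorem Q26054 : ∀ i, i < 26054 → P i := stepQ 26053 Q26053 (allL N26053 (tt N29001 (iv1 F74781)) (tt N29003 (iv0 F74792)) (tt N13076 F63989) (tt N46759 F335653) (tt N49431 D88891) (tt N12973 (iv5 D41499)) (tt N49432 D88892) (tt N13062 F63990))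
theorem Q26055 : ∀ i, i < 26055 → P i := stepQ 26054 Q26054 (allL N26054 (tt N14066 F63996) (tt N28986 (iv0 F74743)) (tt N13078 F63993) (tt N49433 D88895) (tt N12974 (iv4 D41501)) (tt N49434 D88896) (tt N13081 F63994) (tt N13065 F63995))
theorem Q26056 : ∀ i, i < 26056 → P i := stepQ 26055 Q26055 (allL N26055 (tt N13058 F68710) (tt N27417 F70223) (tt N13918 F64029) (tt N26268 (iv3 F67701)) (tt N48550 (iv4 F133401)) (tt N14428 (iv5 F64030)) (tt N12977 (iv6 D41511)) (tt N28960 (iv7 F74699)))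
theorem Q26057 : ∀ i, i < 26057 → P i := stepQ 26056 Q26056 (allL N26056 (tt N13990 (iv1 F64042)) (tt N12978 (iv0 D41516)) (tt N13989 F69351) (tt N26024 F64041) (tt N27211 (iv4 F69348)) (tt N47816 (iv5 F129797)) (tt N49435 D88910) (tt N13988 (iv7 F69350)))
theorem Q26058 : ∀ i, i < 26058 → P i := stepQ 26057 Q26057 (allL N26057 (tt N12978 (iv1 D41517)) (tt N13990 F64047) (tt N13988 (iv2 F69352)) (tt N25612 F70307) (tt N27222 (iv4 F69380)) (tt N49436 D88911) (tt N49342 F294790) (tt N13989 F69353))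
theorem Q26059 : ∀ i, i < 26059 → P i := stepQ 26058 Q26058 (allL N26058 (tt N13989 (iv1 F64048)) (tt N13988 F64046) (tt N12978 (iv2 D41518)) (tt N13996 F64043) (tt N13396 F64044) (tt N28411 (iv5 F73827)) (tt N49437 D88913) (tt N13990 F64045))
theorem Q26060 : ∀ i, i < 26060 → P i := stepQ 26059 Q26059 (allL N26059 (tt N49438 D88914) (tt N49439 D88915) (tt N49437 (iv2 F136436)) (tt N12979 F64049) (tt N13398 F64050) (tt N49440 D88916) (tt N12978 (iv6 D41519)) (tt N49441 D88917))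
theorem Q26061 : ∀ i, i < 26061 → P i := stepQ 26060 Q26060 (allL N26060 (tt N26676 F291981) (tt N29050 (iv0 F74884)) (tt N14000 F64051) (tt N49440 (iv3 F136460)) (tt N49442 D88919) (tt N12979 (iv5 D41520)) (tt N28416 (iv6 F73836)) (tt N49443 D88920))
theorem Q26062 : ∀ i, i < 26062 → P i := stepQ 26061 Q26061 (allL N26061 (tt N13084 (iv1 F64055)) (tt N13081 F64056) (tt N14001 F64052) (tt N49441 (iv3 F136461)) (tt N13389 F64053) (tt N49443 (iv5 F136469)) (tt N13060 F64054) (tt N12979 (iv7 D41521)))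
theorem Q26063 : ∀ i, i < 26063 → P i := stepQ 26062 Q26062 (allL N26062 (tt N49444 D88921) (tt N49445 D88922) (tt N25664 F64057) (tt N12981 F64058) (tt N13716 F64059) (tt N49446 D88923) (tt N12980 (iv6 D41522)) (tt N49422 (iv7 F136297)))
theorem Q26064 : ∀ i, i < 26064 → P i := stepQ 26063 Q26063 (allL N26063 (tt N14446 F64061) (tt N14469 F64062) (tt N13994 F64060) (tt N49446 (iv3 F136482)) (tt N49447 D88924) (tt N12981 (iv5 D41523)) (tt N28420 (iv6 F73846)) (tt N28995 (iv7 F74748)))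
theorem Q26065 : ∀ i, i < 26065 → P i := stepQ 26064 Q26064 (allL N26064 (tt N27025 (iv1 F294842)) (tt N12982 (iv0 D41524)) (tt N27024 (iv2 F294935)) (tt N25624 (iv3 F72621)) (tt N28056 F72620) (tt N49448 D88926) (tt N49449 D88927) (tt N27023 (iv7 F294933)))
theorem Q26066 : ∀ i, i < 26066 → P i := stepQ 26065 Q26065 (allL N26065 (tt N12982 (iv1 D41525)) (tt N27025 (iv0 F294841)) (tt N27023 (iv2 F294932)) (tt N49450 D88929) (tt N28057 (iv4 F72615)) (tt N49451 D88930) (tt N49452 D88931) (tt N27024 (iv7 F294936)))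
theorem Q26067 : ∀ i, i < 26067 → P i := stepQ 26066 Q26066 (allL N26066 (tt N49453 D88932) (tt N49454 D88933) (tt N46754 (iv2 F126448)) (tt N12987 F64063) (tt N49455 D88934) (tt N12982 (iv5 D41526)) (tt N35250 (iv6 F91730)) (tt N27026 (iv7 F294937)))
theorem Q26068 : ∀ i, i < 26068 → P i := stepQ 26067 Q26067 (allL N26067 (tt N47816 F129801) (tt N49436 (iv0 F136431)) (tt N49456 D88936) (tt N12983 (iv3 D41528)) (tt N46685 F125806) (tt N13223 F64066) (tt N49457 D88937) (tt N14009 F64067))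
theorem Q26069 : ∀ i, i < 26069 → P i := stepQ 26068 Q26068 (allL N26068 (tt N47484 F275097) (tt N35254 F311709) (tt N14012 F64068) (tt N49457 (iv3 F136501)) (tt N24458 F64069) (tt N49458 D88940) (tt N12983 (iv6 D41529)) (tt N49459 D88941))
theorem Q26070 : ∀ i, i < 26070 → P i := stepQ 26069 Q26069 (allL N26069 (tt N25528 F64072) (tt N25665 (iv0 F64073)) (tt N25667 F64074) (tt N12984 (iv3 D41530)) (tt N42806 F305755) (tt N14071 F64070) (tt N49460 D88943) (tt N14011 F64071))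
theorem Q26071 : ∀ i, i < 26071 → P i := stepQ 26070 Q26070 (allL N26070 (tt N34957 F310383) (tt N46997 (iv0 F274513)) (tt N14010 F64076) (tt N49460 (iv3 F136516)) (tt N24459 F64077) (tt N49461 D88946) (tt N12984 (iv6 D41531)) (tt N47462 (iv7 F154540)))
theorem Q26072 : ∀ i, i < 26072 → P i := stepQ 26071 Q26071 (allL N26071 (tt N14060 (iv1 F64083)) (tt N12985 (iv0 D41532)) (tt N14057 F272703) (tt N49462 D88949) (tt N24460 F155435) (tt N49463 D88951) (tt N49464 D88952) (tt N14058 (iv7 F272707)))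
theorem Q26073 : ∀ i, i < 26073 → P i := stepQ 26072 Q26072 (allL N26072 (tt N12985 (iv1 D41533)) (tt N14060 F64078) (tt N14058 (iv2 F272706)) (tt N49465 D88954) (tt N24461 F155439) (tt N49466 D88956) (tt N49467 D88957) (tt N14057 F272704))
theorem Q26074 : ∀ i, i < 26074 → P i := stepQ 26073 Q26073 (allL N26073 (tt N49468 D88958) (tt N49469 D88959) (tt N14059 F64079) (tt N35250 (iv3 F91729)) (tt N26707 (iv4 F295114)) (tt N12985 (iv5 D41534)) (tt N12987 F64080) (tt N48172 (iv7 F131706)))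
theorem Q26075 : ∀ i, i < 26075 → P i := stepQ 26074 Q26074 (allL N26074 (tt N25529 F66332) (tt N49470 D88969) (tt N49471 D88970) (tt N12986 (iv3 D41539)) (tt N26748 F294112) (tt N49472 D88971) (tt N49473 D88972) (tt N14061 F64091))
theorem Q26076 : ∀ i, i < 26076 → P i := stepQ 26075 Q26075 (allL N26075 (tt N13526 F293450) (tt N13408 F293451) (tt N14065 F64092) (tt N49472 (iv3 F136558)) (tt N14062 (iv4 F294374)) (tt N12986 (iv5 D41540)) (tt N49474 D88974) (tt N14062 F64093))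
theorem Q26077 : ∀ i, i < 26077 → P i := stepQ 26076 Q26076 (allL N26076 (tt N13065 (iv1 F64097)) (tt N13078 (iv0 F64096)) (tt N14066 F64094) (tt N49473 (iv3 F136560)) (tt N24484 F64095) (tt N28346 (iv5 F73649)) (tt N12986 (iv6 D41541)) (tt N28986 (iv7 F74741)))
theorem Q26078 : ∀ i, i < 26078 → P i := stepQ 26077 Q26077 (allL N26077 (tt N13297 (iv1 F293674)) (tt N12987 (iv0 D41542)) (tt N14067 F72983) (tt N49475 D88975) (tt N14068 F294577) (tt N13174 F292625) (tt N49476 D88977) (tt N14068 F72984))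
theorem Q26079 : ∀ i, i < 26079 → P i := stepQ 26078 Q26078 (allL N26078 (tt N12987 (iv1 D41543)) (tt N13297 (iv0 F293673)) (tt N14068 F72982) (tt N49477 D88978) (tt N14067 F294576) (tt N13175 F293263) (tt N49478 D88980) (tt N14067 (iv7 F72981)))
theorem Q26080 : ∀ i, i < 26080 → P i := stepQ 26079 Q26079 (allL N26079 (tt N12993 (iv1 F64143)) (tt N12992 F64144) (tt N12994 F64138) (tt N13935 F64139) (tt N26011 F291701) (tt N26079 F64140) (tt N13291 (iv6 F292072)) (tt N12988 (iv7 D41559)))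
theorem Q26081 : ∀ i, i < 26081 → P i := stepQ 26080 Q26080 (allL N26080 (tt N14033 (iv1 F64146)) (tt N12989 (iv0 D41560)) (tt N14032 (iv2 F64148)) (tt N27204 (iv3 F69252)) (tt N49379 (iv4 F136180)) (tt N23270 F64147) (tt N44008 F317607) (tt N14031 (iv7 F64149)))
theorem Q26082 : ∀ i, i < 26082 → P i := stepQ 26081 Q26081 (allL N26081 (tt N12989 (iv1 D41561)) (tt N14033 (iv0 F64154)) (tt N14031 (iv2 F64152)) (tt N14032 (iv3 F64153)) (tt N43507 (iv4 F109128)) (tt N23372 F64151) (tt N49479 D89014) (tt N14032 F64150))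
theorem Q26083 : ∀ i, i < 26083 → P i := stepQ 26082 Q26082 (allL N26082 (tt N14032 (iv1 F64159)) (tt N14031 F64158) (tt N12989 (iv2 D41562)) (tt N13179 F64155) (tt N12997 F64156) (tt N33654 (iv5 F85370)) (tt N49480 D89015) (tt N14033 F64157))
theorem Q26084 : ∀ i, i < 26084 → P i := stepQ 26083 Q26083 (allL N26083 (tt N29724 F77092) (tt N36304 (iv0 F94338)) (tt N33654 (iv2 F85366)) (tt N12990 F64160) (tt N30509 (iv4 F78731)) (tt N12989 (iv5 D41563)) (tt N29757 (iv6 F77199)) (tt N14034 F64161))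
theorem Q26085 : ∀ i, i < 26085 → P i := stepQ 26084 Q26084 (allL N26084 (tt N49481 D89016) (tt N49482 D89017) (tt N49480 (iv2 F136652)) (tt N12991 F64162) (tt N12999 F64163) (tt N49483 D89018) (tt N12989 (iv6 D41564)) (tt N27162 (iv7 F69070)))
theorem Q26086 : ∀ i, i < 26086 → P i := stepQ 26085 Q26085 (allL N26085 (tt N27231 F69409) (tt N15178 (iv0 F69002)) (tt N26481 (iv2 F65293)) (tt N29757 (iv3 F77198)) (tt N14036 F64164) (tt N49484 D89019) (tt N12990 (iv6 D41565)) (tt N31361 (iv7 F80510)))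
theorem Q26087 : ∀ i, i < 26087 → P i := stepQ 26086 Q26086 (allL N26086 (tt N29474 F293532) (tt N26623 (iv0 F65984)) (tt N26782 (iv2 F67717)) (tt N49483 (iv3 F136655)) (tt N49485 D89021) (tt N12991 (iv5 D41568)) (tt N49484 (iv6 F136656)) (tt N27163 (iv7 F69071)))
theorem Q26088 : ∀ i, i < 26088 → P i := stepQ 26087 Q26087 (allL N26087 (tt N26813 (iv1 F73954)) (tt N13279 F291238) (tt N13748 (iv2 F65932)) (tt N26610 (iv3 F291991)) (tt N13556 F65918) (tt N28467 F73948) (tt N12992 (iv6 D41573)) (tt N28480 (iv7 F74021)))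
theorem Q26089 : ∀ i, i < 26089 → P i := stepQ 26088 Q26088 (allL N26088 (tt N27005 F291071) (tt N26781 F69035) (tt N27956 (iv2 F72351)) (tt N13114 F65911) (tt N13559 F65912) (tt N13388 (iv5 F291227)) (tt N12993 (iv6 D41578)) (tt N26302 (iv7 F291322)))
theorem Q26090 : ∀ i, i < 26090 → P i := stepQ 26089 Q26089 (allL N26089 (tt N25612 (iv1 F64172)) (tt N25611 F64173) (tt N13697 F64169) (tt N12995 (iv3 D41579)) (tt N13703 F64170) (tt N28492 (iv5 F74064)) (tt N49486 D89022) (tt N14044 F64171))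
theorem Q26091 : ∀ i, i < 26091 → P i := stepQ 26090 Q26090 (allL N26090 (tt N46755 F335663) (tt N13075 F64493) (tt N14048 F64174) (tt N49486 (iv3 F136664)) (tt N27213 (iv4 F69358)) (tt N49487 D89023) (tt N12995 (iv6 D41580)) (tt N49423 (iv7 F136305)))
theorem Q26092 : ∀ i, i < 26092 → P i := stepQ 26091 Q26091 (allL N26091 (tt N49290 F135773) (tt N49488 D89024) (tt N14046 F64175) (tt N25522 F64176) (tt N13542 F64177) (tt N49489 D89025) (tt N12996 (iv6 D41581)) (tt N49490 D89026))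
theorem Q26093 : ∀ i, i < 26093 → P i := stepQ 26092 Q26092 (allL N26092 (tt N25675 F135032) (tt N49491 D89027) (tt N12999 F64178) (tt N14004 F64179) (tt N49480 (iv4 F136654)) (tt N49492 D89028) (tt N12997 (iv6 D41582)) (tt N49493 D89029))
theorem Q26094 : ∀ i, i < 26094 → P i := stepQ 26093 Q26093 (allL N26093 (tt N49494 D89030) (tt N35357 (iv0 F304375)) (tt N35013 F301615) (tt N13000 F64180) (tt N43692 (iv4 F109463)) (tt N49495 D89032) (tt N12998 (iv6 D41583)) (tt N49496 D89033))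
theorem Q26095 : ∀ i, i < 26095 → P i := stepQ 26094 Q26094 (allL N26094 (tt N49493 (iv1 F136700)) (tt N12999 (iv0 D41584)) (tt N25675 (iv2 F65961)) (tt N49497 D89034) (tt N27241 (iv4 F69421)) (tt N49498 D89035) (tt N49499 D89036) (tt N49491 (iv7 F136690)))
theorem Q26096 : ∀ i, i < 26096 → P i := stepQ 26095 Q26095 (allL N26095 (tt N12999 (iv1 D41585)) (tt N49493 F136699) (tt N49491 F136691) (tt N25526 (iv3 F65959)) (tt N26771 F294175) (tt N49500 D89037) (tt N49501 D89038) (tt N25675 F65960))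
theorem Q26097 : ∀ i, i < 26097 → P i := stepQ 26096 Q26096 (allL N26096 (tt N49502 D89039) (tt N49503 D89040) (tt N49492 (iv2 F136694)) (tt N13003 F64181) (tt N49504 D89041) (tt N12999 (iv5 D41586)) (tt N49495 (iv6 F136702)) (tt N49505 D89042))
theorem Q26098 : ∀ i, i < 26098 → P i := stepQ 26097 Q26097 (allL N26097 (tt N49491 (iv1 F136689)) (tt N25675 (iv0 F65969)) (tt N49493 (iv2 F136696)) (tt N13004 F64182) (tt N27162 (iv4 F69069)) (tt N49505 (iv5 F136719)) (tt N13296 (iv6 F292997)) (tt N12999 (iv7 D41587)))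
theorem Q26099 : ∀ i, i < 26099 → P i := stepQ 26098 Q26098 (allL N26098 (tt N14016 (iv1 F64189)) (tt N13000 (iv0 D41588)) (tt N14013 F268263) (tt N49506 D89044) (tt N24497 (iv4 F184760)) (tt N49507 D89046) (tt N49508 D89047) (tt N14014 F268264))
theorem Q26100 : ∀ i, i < 26100 → P i := stepQ 26099 Q26099 (allL N26099 (tt N13000 (iv1 D41589)) (tt N14016 F64184) (tt N14014 (iv2 F268258)) (tt N46971 (iv3 F310447)) (tt N24498 (iv4 F184766)) (tt N49509 D89051) (tt N34954 F308350) (tt N14013 (iv7 F268262)))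
theorem Q26101 : ∀ i, i < 26101 → P i := stepQ 26100 Q26100 (allL N26100 (tt N49510 D89053) (tt N49511 D89054) (tt N14015 F64185) (tt N49495 (iv3 F136701)) (tt N49512 D89055) (tt N13000 (iv5 D41590)) (tt N13003 F64186) (tt N49513 D89056))
theorem Q26102 : ∀ i, i < 26102 → P i := stepQ 26101 Q26101 (allL N26101 (tt N14014 (iv1 F64190)) (tt N14013 F64191) (tt N14016 F64187) (tt N49496 (iv3 F136703)) (tt N44763 (iv4 F113383)) (tt N49513 (iv5 F136728)) (tt N14060 F64188) (tt N13000 (iv7 D41591)))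
theorem Q26103 : ∀ i, i < 26103 → P i := stepQ 26102 Q26102 (allL N26102 (tt N25577 F295197) (tt N25666 F72653) (tt N25670 F66278) (tt N13001 (iv3 D41593)) (tt N13737 (iv4 F65900)) (tt N49514 D89057) (tt N49515 D89058) (tt N14020 F65845))
theorem Q26104 : ∀ i, i < 26104 → P i := stepQ 26103 Q26103 (allL N26103 (tt N28357 (iv1 F73678)) (tt N29038 F74855) (tt N14018 F65851) (tt N49514 (iv3 F136733)) (tt N49516 D89059) (tt N13001 (iv5 D41595)) (tt N49517 D89060) (tt N14021 F65846))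
theorem Q26105 : ∀ i, i < 26105 → P i := stepQ 26104 Q26104 (allL N26104 (tt N13277 F292066) (tt N13284 F292067) (tt N14019 (iv2 F65899)) (tt N49515 (iv3 F136736)) (tt N24439 (iv4 F66304)) (tt N28229 F73381) (tt N13001 (iv6 D41596)) (tt N28535 (iv7 F74123)))
theorem Q26106 : ∀ i, i < 26106 → P i := stepQ 26105 Q26105 (allL N26105 (tt N49435 (iv1 F157573)) (tt N49518 D89062) (tt N49519 D89063) (tt N13002 (iv3 D41598)) (tt N13576 F65933) (tt N49520 D89064) (tt N49521 D89065) (tt N14017 (iv7 F65849)))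
theorem Q26107 : ∀ i, i < 26107 → P i := stepQ 26106 Q26106 (allL N26106 (tt N29038 (iv1 F74856)) (tt N28357 (iv0 F73677)) (tt N14021 F65847) (tt N49520 (iv3 F136751)) (tt N49522 D89066) (tt N13002 (iv5 D41600)) (tt N49523 D89067) (tt N14018 (iv7 F65850)))
theorem Q26108 : ∀ i, i < 26108 → P i := stepQ 26107 Q26107 (allL N26107 (tt N27008 F290818) (tt N13063 F65935) (tt N14022 F65848) (tt N49521 (iv3 F136753)) (tt N13575 F65934) (tt N29046 (iv5 F74875)) (tt N13002 (iv6 D41601)) (tt N49427 (iv7 F136324)))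
theorem Q26109 : ∀ i, i < 26109 → P i := stepQ 26108 Q26108 (allL N26108 (tt N14026 (iv1 F64202)) (tt N13003 (iv0 D41602)) (tt N14023 F72673) (tt N49524 D89068) (tt N49525 D89069) (tt N14465 F64204) (tt N49526 D89070) (tt N14024 F72674))
theorem Q26110 : ∀ i, i < 26110 → P i := stepQ 26109 Q26109 (allL N26109 (tt N13003 (iv1 D41603)) (tt N14026 F64194) (tt N14024 F72672) (tt N49527 D89071) (tt N49528 D89072) (tt N14184 (iv5 F64198)) (tt N49529 D89073) (tt N14023 (iv7 F72671)))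
theorem Q26111 : ∀ i, i < 26111 → P i := stepQ 26110 Q26110 (allL N26110 (tt N49530 D89074) (tt N49531 D89075) (tt N14025 F64199) (tt N49532 D89076) (tt N13003 (iv4 D41604)) (tt N28119 (iv5 F72689)) (tt N49512 (iv6 F136726)) (tt N28118 (iv7 F72685)))
theorem Q26112 : ∀ i, i < 26112 → P i := stepQ 26111 Q26111 (allL N26111 (tt N14024 (iv1 F64203)) (tt N14023 F64205) (tt N14026 F64200) (tt N49505 (iv3 F136718)) (tt N28118 (iv4 F72684)) (tt N13004 F64201) (tt N38802 F325746) (tt N13003 (iv7 D41605)))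
theorem Q26113 : ∀ i, i < 26113 → P i := stepQ 26112 Q26112 (allL N26112 (tt N48658 (iv1 F295058)) (tt N48657 (iv0 F295057)) (tt N25684 (iv2 F65957)) (tt N13005 (iv3 D41621)) (tt N26112 F65941) (tt N49533 D89080) (tt N49534 D89081) (tt N14027 F64229))
theorem Q26114 : ∀ i, i < 26114 → P i := stepQ 26113 Q26113 (allL N26113 (tt N27572 (iv1 F70471)) (tt N27571 F70469) (tt N13765 (iv2 F65759)) (tt N49533 (iv3 F136788)) (tt N49535 D89082) (tt N13005 (iv5 D41622)) (tt N49536 D89083) (tt N14028 F64231))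
theorem Q26115 : ∀ i, i < 26115 → P i := stepQ 26114 Q26114 (allL N26114 (tt N27014 (iv1 F290962)) (tt N13042 F64385) (tt N13766 (iv2 F65756)) (tt N49534 (iv3 F136791)) (tt N13006 F64233) (tt N28937 (iv5 F74652)) (tt N13005 (iv6 D41623)) (tt N26405 F290852))
theorem Q26116 : ∀ i, i < 26116 → P i := stepQ 26115 Q26115 (allL N26115 (tt N27827 F71632) (tt N27806 (iv0 F71578)) (tt N27682 F70952) (tt N46797 (iv3 F127107)) (tt N13007 (iv4 D41624)) (tt N49537 D89084) (tt N49538 D89085) (tt N46797 (iv7 F127108)))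
theorem Q26117 : ∀ i, i < 26117 → P i := stepQ 26116 Q26116 (allL N26116 (tt N49539 D89086) (tt N49286 (iv0 F335745)) (tt N46800 (iv2 F127119)) (tt N27977 (iv3 F72422)) (tt N49538 (iv4 F136800)) (tt N49540 D89088) (tt N13007 (iv6 D41625)) (tt N49541 D89089))
theorem Q26118 : ∀ i, i < 26118 → P i := stepQ 26117 Q26117 (allL N26117 (tt N27443 F70285) (tt N27447 F70291) (tt N48413 (iv2 F132435)) (tt N13008 (iv3 D41626)) (tt N25650 (iv4 F64234)) (tt N28590 (iv5 F74223)) (tt N49542 D89090) (tt N46799 (iv7 F127116)))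
theorem Q26119 : ∀ i, i < 26119 → P i := stepQ 26118 Q26118 (allL N26118 (tt N27806 F71576) (tt N27827 (iv0 F71631)) (tt N46797 (iv2 F127106)) (tt N13676 F64235) (tt N13008 (iv4 D41627)) (tt N49543 D89091) (tt N49544 D89092) (tt N27682 F70953))
theorem Q26120 : ∀ i, i < 26120 → P i := stepQ 26119 Q26119 (allL N26119 (tt N13039 (iv1 F289521)) (tt N49412 (iv0 F289522)) (tt N46798 (iv2 F127111)) (tt N49542 (iv3 F136801)) (tt N49544 (iv4 F136808)) (tt N49545 D89095) (tt N13008 (iv6 D41628)) (tt N49411 (iv7 F335726)))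
theorem Q26121 : ∀ i, i < 26121 → P i := stepQ 26120 Q26120 (allL N26120 (tt N14258 (iv1 F64239)) (tt N14254 F64240) (tt N13011 F64236) (tt N14343 F64237) (tt N34176 (iv4 F86861)) (tt N13009 (iv5 D41629)) (tt N49546 D89097) (tt N14336 F64238))
theorem Q26122 : ∀ i, i < 26122 → P i := stepQ 26121 Q26121 (allL N26121 (tt N27029 (iv1 F294965)) (tt N27028 (iv0 F294964)) (tt N13012 F64241) (tt N27038 (iv3 F295161)) (tt N27418 (iv4 F70243)) (tt N49547 D89100) (tt N13009 (iv6 D41630)) (tt N27030 (iv7 F294963)))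
theorem Q26123 : ∀ i, i < 26123 → P i := stepQ 26122 Q26122 (allL N26122 (tt N13802 F64243) (tt N27350 (iv0 F70119)) (tt N27352 F70122) (tt N13783 F64242) (tt N49548 D89102) (tt N13010 (iv5 D41631)) (tt N49549 D89103) (tt N27309 (iv7 F70050)))
theorem Q26124 : ∀ i, i < 26124 → P i := stepQ 26123 Q26123 (allL N26123 (tt N27385 F70176) (tt N27562 (iv0 F145497)) (tt N27418 (iv2 F70242)) (tt N13858 F64244) (tt N13012 F64245) (tt N49550 D89105) (tt N13010 (iv6 D41632)) (tt N27031 (iv7 F294726)))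
theorem Q26125 : ∀ i, i < 26125 → P i := stepQ 26124 Q26124 (allL N26124 (tt N13011 (iv1 D41633)) (tt N14336 F64246) (tt N14254 (iv2 F64249)) (tt N46140 (iv3 F121995)) (tt N24096 F64248) (tt N14097 (iv5 F64250)) (tt N49551 D89106) (tt N14258 F64247))
theorem Q26126 : ∀ i, i < 26126 → P i := stepQ 26125 Q26125 (allL N26125 (tt N24804 (iv1 F155164)) (tt N49552 D89108) (tt N49546 (iv2 F136809)) (tt N13013 F64257) (tt N47173 (iv4 F128476)) (tt N49553 D89109) (tt N13011 (iv6 D41634)) (tt N49554 D89110))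
theorem Q26127 : ∀ i, i < 26127 → P i := stepQ 26126 Q26126 (allL N26126 (tt N27030 (iv1 F294962)) (tt N13012 (iv0 D41635)) (tt N27029 F295335) (tt N49555 D89112) (tt N49556 D89113) (tt N49557 D89114) (tt N49558 D89115) (tt N27028 F295336))
theorem Q26128 : ∀ i, i < 26128 → P i := stepQ 26127 Q26127 (allL N26127 (tt N13012 (iv1 D41636)) (tt N27030 (iv0 F294961)) (tt N27028 F295331) (tt N49559 D89117) (tt N47623 F335318) (tt N49560 D89119) (tt N47622 (iv6 F335326)) (tt N27029 F295332))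
theorem Q26129 : ∀ i, i < 26129 → P i := stepQ 26128 Q26128 (allL N26128 (tt N49561 D89121) (tt N49562 D89122) (tt N49547 (iv2 F136812)) (tt N13014 F64258) (tt N49563 D89123) (tt N13012 (iv5 D41637)) (tt N49553 (iv6 F136825)) (tt N27032 (iv7 F294966)))
theorem Q26130 : ∀ i, i < 26130 → P i := stepQ 26129 Q26129 (allL N26129 (tt N14348 (iv1 F64265)) (tt N13013 (iv0 D41639)) (tt N14345 (iv2 F156428)) (tt N43012 F315650) (tt N44767 (iv4 F155416)) (tt N49564 D89128) (tt N49565 D89129) (tt N14346 (iv7 F156434)))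
theorem Q26131 : ∀ i, i < 26131 → P i := stepQ 26130 Q26130 (allL N26130 (tt N13013 (iv1 D41640)) (tt N14348 F64260) (tt N14346 F156435) (tt N25824 (iv3 F155420)) (tt N44768 F155419) (tt N49566 D89133) (tt N49567 D89134) (tt N14345 F156436))
theorem Q26132 : ∀ i, i < 26132 → P i := stepQ 26131 Q26131 (allL N26131 (tt N49568 D89135) (tt N49569 D89136) (tt N14347 F64261) (tt N49553 (iv3 F136824)) (tt N26664 (iv4 F295269)) (tt N13013 (iv5 D41641)) (tt N13014 F64262) (tt N49570 D89138))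
theorem Q26133 : ∀ i, i < 26133 → P i := stepQ 26132 Q26132 (allL N26132 (tt N14346 (iv1 F64266)) (tt N14345 F64267) (tt N14348 F64263) (tt N49554 (iv3 F136826)) (tt N44746 (iv4 F113299)) (tt N49570 (iv5 F136843)) (tt N14342 F64264) (tt N13013 (iv7 D41642)))
theorem Q26134 : ∀ i, i < 26134 → P i := stepQ 26133 Q26133 (allL N26133 (tt N27103 F68964) (tt N27100 (iv0 F68959)) (tt N49379 F136182) (tt N13015 (iv3 D41647)) (tt N14032 F64270) (tt N28651 (iv5 F74336)) (tt N43930 (iv6 F304674)) (tt N43507 (iv7 F109127)))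
theorem Q26135 : ∀ i, i < 26135 → P i := stepQ 26134 Q26134 (allL N26134 (tt N49406 (iv1 F337225)) (tt N13043 (iv0 F337226)) (tt N46877 (iv2 F127380)) (tt N43930 F306704) (tt N43509 (iv4 F109134)) (tt N41825 F314946) (tt N13015 (iv6 D41648)) (tt N49405 F337261))
theorem Q26136 : ∀ i, i < 26136 → P i := stepQ 26135 Q26135 (allL N26135 (tt N24359 F64273) (tt N13023 (iv0 F64274)) (tt N25534 F64304) (tt N13016 (iv3 D41649)) (tt N45155 (iv4 F114648)) (tt N24389 F64271) (tt N49571 D89151) (tt N25533 F64272))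
theorem Q26137 : ∀ i, i < 26137 → P i := stepQ 26136 Q26136 (allL N26136 (tt N49284 (iv1 F337269)) (tt N49572 D89153) (tt N43509 (iv2 F109133)) (tt N49571 (iv3 F136854)) (tt N46877 (iv4 F127381)) (tt N49573 D89154) (tt N13016 (iv6 D41650)) (tt N49574 D89155))
theorem Q26138 : ∀ i, i < 26138 → P i := stepQ 26137 Q26137 (allL N26137 (tt N49575 D89156) (tt N49576 D89157) (tt N13019 F64275) (tt N46801 (iv3 F127121)) (tt N25622 F64276) (tt N49577 D89158) (tt N13017 (iv6 D41651)) (tt N49578 D89159))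
theorem Q26139 : ∀ i, i < 26139 → P i := stepQ 26138 Q26138 (allL N26138 (tt N43617 (iv1 F184575)) (tt N43841 (iv0 F184576)) (tt N21593 F64277) (tt N13020 F64278) (tt N17016 F64279) (tt N49579 D89162) (tt N13018 (iv6 D41652)) (tt N43844 (iv7 F184612)))
theorem Q26140 : ∀ i, i < 26140 → P i := stepQ 26139 Q26139 (allL N26139 (tt N49578 (iv1 F136862)) (tt N13019 (iv0 D41653)) (tt N49575 (iv2 F344252)) (tt N49580 D89165) (tt N27036 F295298) (tt N49581 D89166) (tt N49582 D89167) (tt N49576 (iv7 F344261)))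
theorem Q26141 : ∀ i, i < 26141 → P i := stepQ 26140 Q26140 (allL N26140 (tt N13019 (iv1 D41654)) (tt N49578 F136861) (tt N49576 (iv2 F344260)) (tt N48664 F294952) (tt N27037 (iv4 F295160)) (tt N49583 D89171) (tt N49584 D89172) (tt N49575 (iv7 F344253)))
theorem Q26142 : ∀ i, i < 26142 → P i := stepQ 26141 Q26141 (allL N26141 (tt N49585 D89173) (tt N49586 D89174) (tt N49577 (iv2 F136856)) (tt N13021 F64280) (tt N49587 D89175) (tt N13019 (iv5 D41655)) (tt N49579 (iv6 F136867)) (tt N49588 D89176))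
theorem Q26143 : ∀ i, i < 26143 → P i := stepQ 26142 Q26142 (allL N26142 (tt N49576 (iv1 F136855)) (tt N49575 F136860) (tt N49578 (iv2 F136858)) (tt N13022 F64281) (tt N25627 F64282) (tt N49588 (iv5 F136878)) (tt N26659 (iv6 F293931)) (tt N13019 (iv7 D41656)))
theorem Q26144 : ∀ i, i < 26144 → P i := stepQ 26143 Q26143 (allL N26143 (tt N14342 (iv1 F64288)) (tt N13020 (iv0 D41657)) (tt N14339 F156751) (tt N22356 F304957) (tt N44760 F184700) (tt N49589 D89180) (tt N49590 D89181) (tt N14340 F156752))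
theorem Q26145 : ∀ i, i < 26145 → P i := stepQ 26144 Q26144 (allL N26144 (tt N13020 (iv1 D41658)) (tt N14342 F64283) (tt N14340 (iv2 F156744)) (tt N49591 D89183) (tt N44761 (iv4 F184696)) (tt N49592 D89185) (tt N22349 (iv6 F307522)) (tt N14339 (iv7 F156750)))
theorem Q26146 : ∀ i, i < 26146 → P i := stepQ 26145 Q26145 (allL N26145 (tt N49593 D89187) (tt N49594 D89188) (tt N14341 F64284) (tt N49579 (iv3 F136866)) (tt N49595 D89189) (tt N13020 (iv5 D41659)) (tt N13021 F64285) (tt N49596 D89190))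
theorem Q26147 : ∀ i, i < 26147 → P i := stepQ 26146 Q26146 (allL N26146 (tt N14340 (iv1 F64289)) (tt N14339 F64290) (tt N14342 F64286) (tt N43844 (iv3 F184610)) (tt N44025 (iv4 F184603)) (tt N49596 (iv5 F136886)) (tt N14348 F64287) (tt N13020 (iv7 D41660)))
theorem Q26148 : ∀ i, i < 26148 → P i := stepQ 26147 Q26147 (allL N26147 (tt N27035 F293272) (tt N13021 (iv0 D41671)) (tt N28127 (iv2 F72707)) (tt N14680 F293502) (tt N49530 (iv4 F136774)) (tt N13764 F66311) (tt N49597 D89191) (tt N25584 (iv7 F294400)))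
theorem Q26149 : ∀ i, i < 26149 → P i := stepQ 26148 Q26148 (allL N26148 (tt N13021 (iv1 D41672)) (tt N27035 F293209) (tt N25584 F295044) (tt N49598 D89192) (tt N49531 (iv4 F136780)) (tt N14194 (iv5 F66130)) (tt N49599 D89193) (tt N28127 (iv7 F72708)))
theorem Q26150 : ∀ i, i < 26150 → P i := stepQ 26149 Q26149 (allL N26149 (tt N28108 F72666) (tt N28112 (iv0 F72676)) (tt N46805 (iv2 F127125)) (tt N49600 D89194) (tt N13021 (iv4 D41673)) (tt N49601 D89195) (tt N49595 (iv6 F136884)) (tt N49602 D89196))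
theorem Q26151 : ∀ i, i < 26151 → P i := stepQ 26150 Q26150 (allL N26150 (tt N25584 F295046) (tt N28127 (iv0 F72709)) (tt N27035 (iv2 F293202)) (tt N49588 (iv3 F136877)) (tt N49602 (iv4 F136899)) (tt N13022 F64294) (tt N49603 D89197) (tt N13021 (iv7 D41674)))
theorem Q26152 : ∀ i, i < 26152 → P i := stepQ 26151 Q26151 (allL N26151 (tt N13023 (iv1 D41675)) (tt N24359 F64300) (tt N25533 (iv2 F64301)) (tt N49379 (iv3 F136181)) (tt N27203 (iv4 F69245)) (tt N24388 F64302) (tt N49604 D89198) (tt N25534 (iv7 F64303)))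
theorem Q26153 : ∀ i, i < 26153 → P i := stepQ 26152 Q26152 (allL N26152 (tt N25534 (iv1 F64306)) (tt N25533 F64299) (tt N13023 (iv2 D41676)) (tt N13944 F64295) (tt N13179 F64296) (tt N17611 F64297) (tt N49605 D89199) (tt N24359 F64298))
theorem Q26154 : ∀ i, i < 26154 → P i := stepQ 26153 Q26153 (allL N26153 (tt N49606 D89200) (tt N49607 D89201) (tt N49605 (iv2 F136905)) (tt N13024 F64307) (tt N26013 F294390) (tt N49608 D89202) (tt N13023 (iv6 D41677)) (tt N27040 F294391))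
theorem Q26155 : ∀ i, i < 26155 → P i := stepQ 26154 Q26154 (allL N26154 (tt N48748 (iv1 F134208)) (tt N13314 F294740) (tt N13948 F64309) (tt N49608 (iv3 F136909)) (tt N49609 D89203) (tt N13024 (iv5 D41680)) (tt N25825 F64310) (tt N27041 F294741))
theorem Q26156 : ∀ i, i < 26156 → P i := stepQ 26155 Q26155 (allL N26155 (tt N13031 F64319) (tt N13025 (iv0 D41682)) (tt N13028 (iv2 F64320)) (tt N49610 D89204) (tt N13080 F64317) (tt N49611 D89205) (tt N25862 F64318) (tt N13029 (iv7 F64321)))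
theorem Q26157 : ∀ i, i < 26157 → P i := stepQ 26156 Q26156 (allL N26156 (tt N13025 (iv1 D41683)) (tt N13031 F64322) (tt N13029 F64325) (tt N49612 D89206) (tt N13940 (iv4 F64324)) (tt N49613 D89207) (tt N27015 F294637) (tt N13028 F64323))
theorem Q26158 : ∀ i, i < 26158 → P i := stepQ 26157 Q26157 (allL N26157 (tt N48645 F292330) (tt N28742 (iv0 F74478)) (tt N13030 F64327) (tt N49385 (iv3 F136190)) (tt N49614 D89209) (tt N13025 (iv5 D41684)) (tt N17775 F305547) (tt N49615 D89210))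
theorem Q26159 : ∀ i, i < 26159 → P i := stepQ 26158 Q26158 (allL N26158 (tt N13029 (iv1 F64331)) (tt N13028 F64332) (tt N13031 F64328) (tt N49386 (iv3 F136192)) (tt N13094 F64329) (tt N49615 (iv5 F136930)) (tt N25519 F64330) (tt N13025 (iv7 D41685)))
theorem Q26160 : ∀ i, i < 26160 → P i := stepQ 26159 Q26159 (allL N26159 (tt N21787 (iv1 F303950)) (tt N46354 (iv0 F122964)) (tt N42462 (iv2 F302899)) (tt N13026 (iv3 D41686)) (tt N13032 F64333) (tt N23498 F64334) (tt N18505 (iv6 F302898)) (tt N25537 F64335))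
theorem Q26161 : ∀ i, i < 26161 → P i := stepQ 26160 Q26160 (allL N26160 (tt N49616 D89230) (tt N49604 (iv0 F290312)) (tt N49617 D89232) (tt N13028 (iv3 D41692)) (tt N26820 (iv4 F67866)) (tt N49618 D89233) (tt N49619 D89234) (tt N49612 (iv7 F136921)))
theorem Q26162 : ∀ i, i < 26162 → P i := stepQ 26161 Q26161 (allL N26161 (tt N49620 D89235) (tt N29463 (iv0 F292054)) (tt N49611 (iv2 F136916)) (tt N49618 (iv3 F136952)) (tt N49621 D89237) (tt N13028 (iv5 D41693)) (tt N49622 D89238) (tt N49613 (iv7 F136923)))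
theorem Q26163 : ∀ i, i < 26163 → P i := stepQ 26162 Q26162 (allL N26162 (tt N25686 (iv1 F64445)) (tt N27066 (iv0 F68708)) (tt N25862 F64342) (tt N49619 (iv3 F136953)) (tt N27417 (iv4 F70220)) (tt N25695 F64343) (tt N13028 (iv6 D41694)) (tt N25858 (iv7 F64346)))
theorem Q26164 : ∀ i, i < 26164 → P i := stepQ 26163 Q26163 (allL N26163 (tt N48414 (iv1 F289540)) (tt N49623 D89240) (tt N49624 D89241) (tt N13029 (iv3 D41695)) (tt N34802 F335607) (tt N49625 D89242) (tt N49626 D89243) (tt N49610 (iv7 F136915)))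
theorem Q26165 : ∀ i, i < 26165 → P i := stepQ 26164 Q26164 (allL N26164 (tt N29463 F293123) (tt N49620 F136957) (tt N49613 (iv2 F136922)) (tt N49625 (iv3 F136965)) (tt N49627 D89244) (tt N13029 (iv5 D41696)) (tt N43755 (iv6 F308486)) (tt N49611 (iv7 F136918)))
theorem Q26166 : ∀ i, i < 26166 → P i := stepQ 26165 Q26165 (allL N26165 (tt N26362 F292854) (tt N25645 F68685) (tt N27015 F294631) (tt N49626 (iv3 F136966)) (tt N13270 F292855) (tt N27062 (iv5 F68684)) (tt N13029 (iv6 D41697)) (tt N27016 F294632))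
theorem Q26167 : ∀ i, i < 26167 → P i := stepQ 26166 Q26166 (allL N26166 (tt N49615 (iv1 F136932)) (tt N13030 (iv0 D41698)) (tt N48645 (iv2 F291550)) (tt N49628 D89246) (tt N49629 D89247) (tt N26736 (iv5 F75202)) (tt N49630 D89248) (tt N28742 (iv7 F75204)))
theorem Q26168 : ∀ i, i < 26168 → P i := stepQ 26167 Q26167 (allL N26167 (tt N13030 (iv1 D41699)) (tt N49615 F136931) (tt N28742 (iv2 F74477)) (tt N49631 D89249) (tt N49632 D89250) (tt N26737 (iv5 F67005)) (tt N49633 D89251) (tt N48645 F292174))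
theorem Q26169 : ∀ i, i < 26169 → P i := stepQ 26168 Q26168 (allL N26168 (tt N46253 (iv1 F324808)) (tt N49634 D89253) (tt N49614 (iv2 F136928)) (tt N49635 D89254) (tt N13030 (iv4 D41700)) (tt N49636 D89255) (tt N18539 F306547) (tt N49637 D89256))
theorem Q26170 : ∀ i, i < 26170 → P i := stepQ 26169 Q26169 (allL N26169 (tt N28742 (iv1 F74479)) (tt N48645 F292331) (tt N49615 (iv2 F136929)) (tt N13050 F64349) (tt N49637 (iv4 F136969)) (tt N13031 F64350) (tt N49638 D89257) (tt N13030 (iv7 D41701)))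
theorem Q26171 : ∀ i, i < 26171 → P i := stepQ 26170 Q26170 (allL N26170 (tt N44716 (iv1 F112934)) (tt N13032 (iv0 D41702)) (tt N24538 (iv2 F113269)) (tt N49639 D89258) (tt N17079 F302403) (tt N24405 (iv5 F122975)) (tt N43985 (iv6 F304840)) (tt N24534 (iv7 F113272)))
theorem Q26172 : ∀ i, i < 26172 → P i := stepQ 26171 Q26171 (allL N26171 (tt N13032 (iv1 D41703)) (tt N44716 F112933) (tt N24534 F113270) (tt N44734 (iv3 F113245)) (tt N17080 F302404) (tt N24406 (iv5 F122972)) (tt N49640 D89260) (tt N24538 F113266))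
theorem Q26173 : ∀ i, i < 26173 → P i := stepQ 26172 Q26172 (allL N26172 (tt N24538 (iv1 F113263)) (tt N24534 F108916) (tt N13032 (iv2 D41704)) (tt N24732 F64351) (tt N42462 (iv4 F302900)) (tt N34095 (iv5 F86730)) (tt N22101 F301224) (tt N44716 (iv7 F112932)))
theorem Q26174 : ∀ i, i < 26174 → P i := stepQ 26173 Q26173 (allL N26173 (tt N17392 F298837) (tt N28591 (iv0 F286817)) (tt N34872 F298838) (tt N13034 (iv3 D41711)) (tt N43530 F298839) (tt N35066 (iv5 F301487)) (tt N49641 D89290) (tt N34873 F298840))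
theorem Q26175 : ∀ i, i < 26175 → P i := stepQ 26174 Q26174 (allL N26174 (tt N46397 (iv1 F300388)) (tt N24605 (iv0 F272778)) (tt N46357 (iv2 F301491)) (tt N46809 F298843) (tt N13034 (iv4 D41712)) (tt N28761 (iv5 F301492)) (tt N49642 D89296) (tt N46819 (iv7 F270622)))
theorem Q26176 : ∀ i, i < 26176 → P i := stepQ 26175 Q26175 (allL N26175 (tt N43731 (iv1 F306309)) (tt N35077 (iv0 F304532)) (tt N27643 (iv2 F305469)) (tt N35066 F304276) (tt N27640 (iv4 F306310)) (tt N13034 (iv5 D41713)) (tt N49643 D89301) (tt N43732 F304277))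
theorem Q26177 : ∀ i, i < 26177 → P i := stepQ 26176 Q26176 (allL N26176 (tt N28671 (iv1 F155791)) (tt N49644 D89304) (tt N28840 (iv2 F156385)) (tt N49641 (iv3 F136999)) (tt N49642 (iv4 F137002)) (tt N28316 F73569) (tt N13034 (iv6 D41714)) (tt N28836 (iv7 F156392)))
theorem Q26178 : ∀ i, i < 26178 → P i := stepQ 26177 Q26177 (allL N26177 (tt N28652 (iv1 F286783)) (tt N49645 D89308) (tt N21792 (iv2 F286790)) (tt N13035 (iv3 D41716)) (tt N21767 (iv4 F286791)) (tt N46607 (iv5 F306799)) (tt N49646 D89312) (tt N21788 (iv7 F286799)))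
theorem Q26179 : ∀ i, i < 26179 → P i := stepQ 26178 Q26178 (allL N26178 (tt N24605 F272779) (tt N46397 F303187) (tt N46819 (iv2 F270621)) (tt N33942 F286775) (tt N13035 (iv4 D41717)) (tt N28762 (iv5 F305100)) (tt N49647 D89315) (tt N46357 F303188))
theorem Q26180 : ∀ i, i < 26180 → P i := stepQ 26179 Q26179 (allL N26179 (tt N35077 F305558) (tt N43731 (iv0 F306308)) (tt N43732 F305559) (tt N46607 (iv3 F306798)) (tt N13671 (iv4 F307584)) (tt N13035 (iv5 D41718)) (tt N49648 D89317) (tt N27643 F305560))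
theorem Q26181 : ∀ i, i < 26181 → P i := stepQ 26180 Q26180 (allL N26180 (tt N49649 D89318) (tt N28618 F156395) (tt N49402 (iv2 F156370)) (tt N49646 (iv3 F137013)) (tt N49647 (iv4 F137014)) (tt N49650 D89320) (tt N13035 (iv6 D41719)) (tt N49651 D89321))
theorem Q26182 : ∀ i, i < 26182 → P i := stepQ 26181 Q26181 (allL N26181 (tt N49404 (iv1 F136219)) (tt N13036 (iv0 D41720)) (tt N27422 F306542) (tt N49652 D89323) (tt N27419 F306543) (tt N22347 (iv5 F307516)) (tt N49653 D89326) (tt N49403 (iv7 F274785)))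
theorem Q26183 : ∀ i, i < 26183 → P i := stepQ 26182 Q26182 (allL N26182 (tt N13036 (iv1 D41721)) (tt N49404 F136218) (tt N49403 (iv2 F274784)) (tt N45284 (iv3 F308362)) (tt N13874 F306544) (tt N22348 (iv5 F307514)) (tt N49654 D89330) (tt N27422 F306545))
theorem Q26184 : ∀ i, i < 26184 → P i := stepQ 26183 Q26183 (allL N26183 (tt N49655 D89331) (tt N42595 (iv0 F307536)) (tt N46066 F306546) (tt N27453 (iv3 F308366)) (tt N13036 (iv4 D41722)) (tt N29237 (iv5 F308367)) (tt N13049 F64356) (tt N49656 D89335))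
theorem Q26185 : ∀ i, i < 26185 → P i := stepQ 26184 Q26184 (allL N26184 (tt N49403 (iv1 F136211)) (tt N27422 (iv0 F305471)) (tt N49404 (iv2 F136215)) (tt N17774 (iv3 F303360)) (tt N49656 (iv4 F137020)) (tt N13037 F64357) (tt N49657 D89336) (tt N13036 (iv7 D41723)))
theorem Q26186 : ∀ i, i < 26186 → P i := stepQ 26185 Q26185 (allL N26185 (tt N28613 (iv1 F74281)) (tt N28612 F74287) (tt N28615 (iv2 F74284)) (tt N22851 (iv3 F303361)) (tt N44722 (iv4 F112947)) (tt N49658 D89337) (tt N13037 (iv6 D41724)) (tt N13038 F64359))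
theorem Q26187 : ∀ i, i < 26187 → P i := stepQ 26186 Q26186 (allL N26186 (tt N28615 (iv1 F74289)) (tt N13038 (iv0 D41725)) (tt N28612 F311781) (tt N49659 D89339) (tt N46814 (iv4 F271105)) (tt N49660 D89341) (tt N49661 D89342) (tt N28613 (iv7 F314199)))
theorem Q26188 : ∀ i, i < 26188 → P i := stepQ 26187 Q26187 (allL N26187 (tt N13038 (iv1 D41726)) (tt N28615 F74288) (tt N28613 (iv2 F314198)) (tt N43511 (iv3 F309567)) (tt N43326 F311775) (tt N49662 D89346) (tt N49663 D89347) (tt N28612 F311776))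
theorem Q26189 : ∀ i, i < 26189 → P i := stepQ 26188 Q26188 (allL N26188 (tt N49664 D89348) (tt N49665 D89349) (tt N28614 (iv2 F74282)) (tt N25539 F64360) (tt N49666 D89350) (tt N13038 (iv5 D41727)) (tt N13054 F64361) (tt N49658 (iv7 F137023)))
theorem Q26190 : ∀ i, i < 26190 → P i := stepQ 26189 Q26189 (allL N26189 (tt N49412 (iv1 F136251)) (tt N13039 (iv0 D41728)) (tt N49411 (iv2 F335725)) (tt N49623 (iv3 F137162)) (tt N49667 D89353) (tt N49668 D89354) (tt N49541 (iv6 F289531)) (tt N46798 F289527))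
theorem Q26191 : ∀ i, i < 26191 → P i := stepQ 26190 Q26190 (allL N26190 (tt N49411 (iv1 F136252)) (tt N46798 F335723) (tt N13039 (iv2 D41730)) (tt N49406 (iv3 F136221)) (tt N27424 (iv4 F70253)) (tt N49669 D89361) (tt N49670 D89362) (tt N49412 (iv7 F136250)))
theorem Q26192 : ∀ i, i < 26192 → P i := stepQ 26191 Q26191 (allL N26191 (tt N27426 F70257) (tt N27420 (iv0 F136666)) (tt N27424 F70252) (tt N13877 F64368) (tt N13039 (iv4 D41731)) (tt N49671 D89363) (tt N49672 D89364) (tt N27408 (iv7 F70204)))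
theorem Q26193 : ∀ i, i < 26193 → P i := stepQ 26192 Q26192 (allL N26192 (tt N49673 D89365) (tt N49674 D89366) (tt N49669 (iv2 F137033)) (tt N13041 F64362) (tt N49675 D89367) (tt N13039 (iv5 D41732)) (tt N49676 D89368) (tt N49413 (iv7 F136255)))
theorem Q26194 : ∀ i, i < 26194 → P i := stepQ 26193 Q26193 (allL N26193 (tt N49677 D89369) (tt N49678 D89370) (tt N49670 (iv2 F137034)) (tt N13042 F64363) (tt N49672 (iv4 F137037)) (tt N49679 D89371) (tt N13039 (iv6 D41733)) (tt N49680 D89372))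
theorem Q26195 : ∀ i, i < 26195 → P i := stepQ 26194 Q26194 (allL N26194 (tt N13364 F64366) (tt N13361 (iv0 F64369)) (tt N13362 F64364) (tt N13040 (iv3 D41734)) (tt N13877 F64367) (tt N28373 (iv5 F291366)) (tt N28374 (iv6 F290956)) (tt N13363 F64365))
theorem Q26196 : ∀ i, i < 26196 → P i := stepQ 26195 Q26195 (allL N26195 (tt N46878 (iv1 F127437)) (tt N13626 F64378) (tt N25550 F64370) (tt N28373 F291487) (tt N14397 F64371) (tt N13040 (iv5 D41735)) (tt N28371 F291488) (tt N26810 F67814))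
theorem Q26197 : ∀ i, i < 26197 → P i := stepQ 26196 Q26196 (allL N26196 (tt N25609 F66265) (tt N26812 (iv0 F290819)) (tt N25551 F64372) (tt N28374 (iv3 F290955)) (tt N13042 F64373) (tt N28372 F290694) (tt N13040 (iv6 D41736)) (tt N27177 (iv7 F74587)))
theorem Q26198 : ∀ i, i < 26198 → P i := stepQ 26197 Q26197 (allL N26197 (tt N13045 (iv1 F64375)) (tt N13041 (iv0 D41737)) (tt N28999 (iv2 F74772)) (tt N49681 D89375) (tt N49682 D89376) (tt N14244 F64374) (tt N49683 D89377) (tt N28998 (iv7 F74759)))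
theorem Q26199 : ∀ i, i < 26199 → P i := stepQ 26198 Q26198 (allL N26198 (tt N13041 (iv1 D41738)) (tt N13045 F64376) (tt N28998 (iv2 F74758)) (tt N29463 F293159) (tt N49684 D89378) (tt N13320 F293372) (tt N49685 D89379) (tt N28999 (iv7 F74774)))
theorem Q26200 : ∀ i, i < 26200 → P i := stepQ 26199 Q26199 (allL N26199 (tt N49686 D89380) (tt N49687 D89381) (tt N49409 (iv2 F136232)) (tt N49688 D89382) (tt N13041 (iv4 D41739)) (tt N14400 (iv5 F64379)) (tt N49689 D89383) (tt N49414 (iv7 F136259)))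
theorem Q26201 : ∀ i, i < 26201 → P i := stepQ 26200 Q26200 (allL N26200 (tt N49690 D89384) (tt N49691 D89385) (tt N49410 (iv2 F136235)) (tt N49676 (iv3 F137039)) (tt N49689 (iv4 F137069)) (tt N49692 D89386) (tt N13041 (iv6 D41740)) (tt N49693 D89387))
theorem Q26202 : ∀ i, i < 26202 → P i := stepQ 26201 Q26201 (allL N26201 (tt N13042 (iv1 D41742)) (tt N27014 (iv0 F290961)) (tt N26405 F290855) (tt N27066 (iv3 F68704)) (tt N13067 F64382) (tt N28938 F74660) (tt N26723 (iv6 F291355)) (tt N13766 F65789))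
theorem Q26203 : ∀ i, i < 26203 → P i := stepQ 26202 Q26202 (allL N26202 (tt N13926 F64381) (tt N14409 (iv0 F64383)) (tt N14416 F64380) (tt N49679 (iv3 F137040)) (tt N49694 D89388) (tt N13042 (iv5 D41743)) (tt N49692 (iv6 F137071)) (tt N14415 (iv7 F72161)))
theorem Q26204 : ∀ i, i < 26204 → P i := stepQ 26203 Q26203 (allL N26203 (tt N26405 F291151) (tt N13766 F72164) (tt N27014 F291152) (tt N49680 (iv3 F137042)) (tt N27177 F74590) (tt N14415 F72162) (tt N26860 (iv6 F291832)) (tt N13042 (iv7 D41744)))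
theorem Q26205 : ∀ i, i < 26205 → P i := stepQ 26204 Q26204 (allL N26204 (tt N13043 (iv1 D41746)) (tt N49406 F136226) (tt N49405 F337262) (tt N49616 (iv3 F137139)) (tt N49574 (iv4 F337239)) (tt N49695 D89397) (tt N49574 (iv6 F337240)) (tt N46877 F337232))
theorem Q26206 : ∀ i, i < 26206 → P i := stepQ 26205 Q26205 (allL N26205 (tt N46877 (iv1 F337259)) (tt N49405 F136220) (tt N13043 (iv2 D41747)) (tt N49412 (iv3 F136249)) (tt N49696 D89399) (tt N49697 D89400) (tt N49698 D89401) (tt N49406 (iv7 F136223)))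
theorem Q26207 : ∀ i, i < 26207 → P i := stepQ 26206 Q26206 (allL N26206 (tt N25619 F335590) (tt N49699 D89403) (tt N49696 (iv2 F137077)) (tt N25521 F64386) (tt N13043 (iv4 D41748)) (tt N49700 D89404) (tt N29314 F294173) (tt N25553 F64387))
theorem Q26208 : ∀ i, i < 26208 → P i := stepQ 26207 Q26207 (allL N26207 (tt N49701 D89406) (tt N49702 D89407) (tt N49697 (iv2 F137082)) (tt N13045 F64388) (tt N49703 D89408) (tt N13043 (iv5 D41749)) (tt N49704 D89409) (tt N49407 (iv7 F136228)))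
theorem Q26209 : ∀ i, i < 26209 → P i := stepQ 26208 Q26208 (allL N26208 (tt N49705 D89410) (tt N49706 D89411) (tt N49698 (iv2 F137083)) (tt N13046 F64389) (tt N29314 (iv4 F293940)) (tt N49707 D89412) (tt N13043 (iv6 D41750)) (tt N27012 F292919))
theorem Q26210 : ∀ i, i < 26210 → P i := stepQ 26209 Q26209 (allL N26209 (tt N13626 F64393) (tt N46878 F127436) (tt N26810 (iv2 F67810)) (tt N13098 F64390) (tt N14401 F64392) (tt N13044 (iv5 D41751)) (tt N13095 F64394) (tt N25550 F64391))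
theorem Q26211 : ∀ i, i < 26211 → P i := stepQ 26210 Q26210 (allL N26210 (tt N49687 (iv1 F137065)) (tt N49686 F137064) (tt N49414 (iv2 F136257)) (tt N49708 D89414) (tt N13045 (iv4 D41753)) (tt N14396 F64398) (tt N49709 D89415) (tt N49409 (iv7 F136233)))
theorem Q26212 : ∀ i, i < 26212 → P i := stepQ 26211 Q26211 (allL N26211 (tt N49710 D89416) (tt N49711 D89417) (tt N49415 (iv2 F136260)) (tt N49704 (iv3 F137090)) (tt N49709 (iv4 F137094)) (tt N49712 D89418) (tt N13045 (iv6 D41754)) (tt N49713 D89419))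
theorem Q26213 : ∀ i, i < 26213 → P i := stepQ 26212 Q26212 (allL N26212 (tt N14196 (iv1 F73321)) (tt N14193 (iv0 F66129)) (tt N27011 (iv2 F293148)) (tt N49707 (iv3 F137091)) (tt N49714 D89420) (tt N13046 (iv5 D41757)) (tt N49712 (iv6 F137095)) (tt N27013 F292920))
theorem Q26214 : ∀ i, i < 26214 → P i := stepQ 26213 Q26213 (allL N26213 (tt N49668 (iv1 F289949)) (tt N49545 (iv0 F289945)) (tt N49715 D89423) (tt N13047 (iv3 D41759)) (tt N49716 D89424) (tt N28873 (iv5 F74570)) (tt N49717 D89425) (tt N28872 F74568))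
theorem Q26215 : ∀ i, i < 26215 → P i := stepQ 26214 Q26214 (allL N26214 (tt N49718 D89426) (tt N28034 (iv0 F72584)) (tt N49417 (iv2 F136268)) (tt N39665 (iv3 F329768)) (tt N13047 (iv4 D41760)) (tt N14392 F64402) (tt N49719 D89428) (tt N28889 (iv7 F74605)))
theorem Q26216 : ∀ i, i < 26216 → P i := stepQ 26215 Q26215 (allL N26215 (tt N49720 D89429) (tt N49721 D89430) (tt N49418 (iv2 F136271)) (tt N49717 (iv3 F137096)) (tt N49719 (iv4 F137102)) (tt N49722 D89431) (tt N13047 (iv6 D41761)) (tt N49723 D89432))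
theorem Q26217 : ∀ i, i < 26217 → P i := stepQ 26216 Q26216 (allL N26216 (tt N41825 (iv1 F329751)) (tt N49695 (iv0 F337241)) (tt N49724 D89435) (tt N13048 (iv3 D41762)) (tt N36287 (iv4 F329756)) (tt N28321 F73588) (tt N36286 F329604) (tt N49416 (iv7 F136267)))
theorem Q26218 : ∀ i, i < 26218 → P i := stepQ 26217 Q26217 (allL N26217 (tt N28034 (iv1 F72585)) (tt N49718 F137099) (tt N28889 (iv2 F74604)) (tt N36298 (iv3 F329916)) (tt N13048 (iv4 D41763)) (tt N14384 F64403) (tt N36296 F329864) (tt N49417 (iv7 F136270)))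
theorem Q26219 : ∀ i, i < 26219 → P i := stepQ 26218 Q26218 (allL N26218 (tt N49725 D89440) (tt N49726 D89441) (tt N28887 (iv2 F74602)) (tt N36286 F329603) (tt N36296 (iv4 F329750)) (tt N28324 (iv5 F73596)) (tt N13048 (iv6 D41764)) (tt N49727 D89442))
theorem Q26220 : ∀ i, i < 26220 → P i := stepQ 26219 Q26219 (allL N26219 (tt N14406 (iv1 F64406)) (tt N13049 (iv0 D41765)) (tt N49419 F136273) (tt N49728 D89443) (tt N14446 F64404) (tt N14463 (iv5 F64405)) (tt N49729 D89444) (tt N28996 (iv7 F74752)))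
theorem Q26221 : ∀ i, i < 26221 → P i := stepQ 26220 Q26220 (allL N26220 (tt N13049 (iv1 D41766)) (tt N14406 F64407) (tt N28996 (iv2 F74751)) (tt N42577 F340925) (tt N14469 (iv4 F64408)) (tt N14437 F64409) (tt N49730 D89446) (tt N49419 (iv7 F136275)))
theorem Q26222 : ∀ i, i < 26222 → P i := stepQ 26221 Q26221 (allL N26221 (tt N29265 F346910) (tt N49731 D89448) (tt N49732 D89449) (tt N13049 (iv3 D41767)) (tt N49635 (iv4 F136968)) (tt N49733 D89450) (tt N27453 F310448) (tt N49734 D89451))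
theorem Q26223 : ∀ i, i < 26223 → P i := stepQ 26222 Q26222 (allL N26222 (tt N14404 (iv1 F64413)) (tt N14403 F64414) (tt N14407 F64410) (tt N49733 (iv3 F137111)) (tt N14135 F64411) (tt N13049 (iv5 D41768)) (tt N49735 D89452) (tt N14134 F64412))
theorem Q26224 : ∀ i, i < 26224 → P i := stepQ 26223 Q26223 (allL N26223 (tt N28996 (iv1 F74755)) (tt N49419 F136274) (tt N14406 F64415) (tt N49734 (iv3 F137113)) (tt N13050 F64416) (tt N14134 F64417) (tt N49736 D89453) (tt N13049 (iv7 D41769)))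
theorem Q26225 : ∀ i, i < 26225 → P i := stepQ 26224 Q26224 (allL N26224 (tt N49737 D89454) (tt N49738 D89455) (tt N49420 (iv2 F136279)) (tt N49638 (iv3 F136970)) (tt N49736 (iv4 F137118)) (tt N49739 D89456) (tt N13050 (iv6 D41770)) (tt N49657 (iv7 F137021)))
theorem Q26226 : ∀ i, i < 26226 → P i := stepQ 26225 Q26225 (allL N26225 (tt N28941 F74664) (tt N26693 F292650) (tt N49289 (iv2 F135766)) (tt N25549 F64418) (tt N49740 D89457) (tt N13051 (iv5 D41771)) (tt N49739 (iv6 F137120)) (tt N13054 F64419))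
theorem Q26227 : ∀ i, i < 26227 → P i := stepQ 26226 Q26226 (allL N26226 (tt N49541 F289551) (tt N46800 (iv0 F289555)) (tt N49539 (iv2 F335741)) (tt N13052 (iv3 D41772)) (tt N27431 (iv4 F70259)) (tt N49741 D89461) (tt N49742 D89462) (tt N49286 (iv7 F135758)))
theorem Q26228 : ∀ i, i < 26228 → P i := stepQ 26227 Q26227 (allL N26227 (tt N49743 D89463) (tt N29381 (iv0 F292189)) (tt N49285 (iv2 F135753)) (tt N49741 (iv3 F137123)) (tt N49744 D89465) (tt N13052 (iv5 D41773)) (tt N49745 D89466) (tt N49287 (iv7 F135760)))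
theorem Q26229 : ∀ i, i < 26229 → P i := stepQ 26228 Q26228 (allL N26228 (tt N14070 (iv1 F64795)) (tt N26338 (iv0 F64794)) (tt N14401 F64420) (tt N49742 (iv3 F137124)) (tt N26810 (iv4 F67812)) (tt N14133 F64421) (tt N13052 (iv6 D41774)) (tt N14397 (iv7 F64424)))
theorem Q26230 : ∀ i, i < 26230 → P i := stepQ 26229 Q26229 (allL N26229 (tt N43509 F337234) (tt N49574 (iv0 F337236)) (tt N49572 (iv2 F337270)) (tt N13053 (iv3 D41775)) (tt N42793 F335688) (tt N49746 D89471) (tt N49747 D89472) (tt N49284 (iv7 F135752)))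
theorem Q26231 : ∀ i, i < 26231 → P i := stepQ 26230 Q26230 (allL N26230 (tt N29381 F292734) (tt N49743 F137128) (tt N49287 (iv2 F135759)) (tt N49746 (iv3 F137140)) (tt N49748 D89473) (tt N13053 (iv5 D41776)) (tt N49749 D89474) (tt N49285 (iv7 F135755)))
theorem Q26232 : ∀ i, i < 26232 → P i := stepQ 26231 Q26231 (allL N26231 (tt N26723 F292148) (tt N14029 F72703) (tt N27575 F73005) (tt N49747 (iv3 F137141)) (tt N14537 F292149) (tt N29326 (iv5 F75650)) (tt N13053 (iv6 D41777)) (tt N27576 (iv7 F73004)))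
theorem Q26233 : ∀ i, i < 26233 → P i := stepQ 26232 Q26232 (allL N26232 (tt N49289 (iv1 F135769)) (tt N13054 (iv0 D41778)) (tt N26693 F291784) (tt N49750 D89475) (tt N49751 D89476) (tt N26466 F291785) (tt N49752 D89477) (tt N28941 (iv7 F74662)))
theorem Q26234 : ∀ i, i < 26234 → P i := stepQ 26233 Q26233 (allL N26233 (tt N13054 (iv1 D41779)) (tt N49289 F135768) (tt N28941 (iv2 F74661)) (tt N49753 D89478) (tt N49754 D89479) (tt N26694 F292285) (tt N49755 D89480) (tt N26693 F292286))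
theorem Q26235 : ∀ i, i < 26235 → P i := stepQ 26234 Q26234 (allL N26234 (tt N49756 D89481) (tt N49757 D89482) (tt N49288 (iv2 F135765)) (tt N49758 D89483) (tt N13054 (iv4 D41780)) (tt N49759 D89484) (tt N49666 (iv6 F137029)) (tt N49740 (iv7 F137121)))
theorem Q26236 : ∀ i, i < 26236 → P i := stepQ 26235 Q26235 (allL N26235 (tt N28960 F74701) (tt N13918 F69722) (tt N13058 F64427) (tt N26780 (iv3 F67707)) (tt N25858 F64428) (tt N13056 (iv5 D41781)) (tt N48844 (iv6 F291770)) (tt N27417 F70222))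
theorem Q26237 : ∀ i, i < 26237 → P i := stepQ 26236 Q26236 (allL N26236 (tt N13953 F69723) (tt N26335 F69725) (tt N13059 F64429) (tt N26781 (iv3 F67712)) (tt N25542 F64430) (tt N48845 F291116) (tt N13056 (iv6 D41782)) (tt N27561 (iv7 F72332)))
theorem Q26238 : ∀ i, i < 26238 → P i := stepQ 26237 Q26237 (allL N26237 (tt N49760 D89486) (tt N27977 F335735) (tt N46756 (iv2 F335622)) (tt N13057 (iv3 D41783)) (tt N13061 F64431) (tt N49761 D89489) (tt N49762 D89490) (tt N25543 F64432))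
theorem Q26239 : ∀ i, i < 26239 → P i := stepQ 26238 Q26238 (allL N26238 (tt N27065 (iv1 F68687)) (tt N49155 (iv0 F135250)) (tt N25541 F64433) (tt N49761 (iv3 F137165)) (tt N49763 D89491) (tt N13057 (iv5 D41784)) (tt N49764 D89492) (tt N25544 F64434))
theorem Q26240 : ∀ i, i < 26240 → P i := stepQ 26239 Q26239 (allL N26239 (tt N13587 F65938) (tt N27781 (iv0 F291429)) (tt N25542 F64435) (tt N49762 (iv3 F137167)) (tt N13059 F64436) (tt N14333 F64437) (tt N13057 (iv6 D41785)) (tt N29322 F291144))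
theorem Q26241 : ∀ i, i < 26241 → P i := stepQ 26240 Q26240 (allL N26240 (tt N27417 (iv1 F70224)) (tt N13058 (iv0 D41786)) (tt N28960 (iv2 F74698)) (tt N13128 (iv3 F64439)) (tt N48608 (iv4 F133558)) (tt N14427 F64438) (tt N25751 (iv6 F291793)) (tt N13918 (iv7 F64440)))
theorem Q26242 : ∀ i, i < 26242 → P i := stepQ 26241 Q26241 (allL N26241 (tt N27066 F68709) (tt N25686 F64444) (tt N25858 F64441) (tt N49765 D89495) (tt N13058 (iv4 D41788)) (tt N25694 F64443) (tt N27016 F294646) (tt N25862 F64442))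
theorem Q26243 : ∀ i, i < 26243 → P i := stepQ 26242 Q26242 (allL N26242 (tt N13950 F70664) (tt N49766 D89496) (tt N48844 (iv2 F291769)) (tt N13066 F64446) (tt N27016 F294644) (tt N13198 F291148) (tt N13058 (iv6 D41789)) (tt N13270 (iv7 F291808)))
theorem Q26244 : ∀ i, i < 26244 → P i := stepQ 26243 Q26243 (allL N26243 (tt N13059 (iv1 D41791)) (tt N27561 F72336) (tt N26335 F72334) (tt N26809 (iv3 F291069)) (tt N48605 F133551) (tt N25647 F290863) (tt N49766 F137195) (tt N13953 F72329))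
theorem Q26245 : ∀ i, i < 26245 → P i := stepQ 26244 Q26244 (allL N26244 (tt N13791 F64448) (tt N46520 (iv0 F290755)) (tt N48845 (iv2 F290753)) (tt N13068 F64447) (tt N14532 F290636) (tt N13059 (iv5 D41792)) (tt N13198 (iv6 F290766)) (tt N14477 (iv7 F64449)))
theorem Q26246 : ∀ i, i < 26246 → P i := stepQ 26245 Q26245 (allL N26245 (tt N26335 (iv1 F69726)) (tt N13953 F72333) (tt N27561 F72330) (tt N13069 F64451) (tt N29322 (iv4 F290764)) (tt N14477 F64452) (tt N25749 (iv6 F290765)) (tt N13059 (iv7 D41793)))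
theorem Q26247 : ∀ i, i < 26247 → P i := stepQ 26246 Q26246 (allL N26246 (tt N49767 D89498) (tt N49768 D89499) (tt N49769 D89500) (tt N13060 (iv3 D41794)) (tt N26420 (iv4 F65113)) (tt N49770 D89501) (tt N49441 (iv6 F136463)) (tt N13992 F64453))
theorem Q26248 : ∀ i, i < 26248 → P i := stepQ 26247 Q26247 (allL N26247 (tt N14469 F64455) (tt N14446 F64456) (tt N28995 F74750) (tt N49770 (iv3 F137210)) (tt N49771 D89502) (tt N13060 (iv5 D41795)) (tt N49772 D89503) (tt N13994 F64454))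
theorem Q26249 : ∀ i, i < 26249 → P i := stepQ 26248 Q26248 (allL N26248 (tt N49773 D89516) (tt N49774 D89517) (tt N46757 (iv2 F335624)) (tt N13062 F64457) (tt N49775 D89518) (tt N13061 (iv5 D41799)) (tt N49776 D89519) (tt N46759 (iv7 F335619)))
theorem Q26250 : ∀ i, i < 26250 → P i := stepQ 26249 Q26249 (allL N26249 (tt N49777 D89520) (tt N49778 D89521) (tt N46758 (iv2 F335625)) (tt N13063 F64458) (tt N49762 (iv4 F137168)) (tt N47847 (iv5 F335645)) (tt N13061 (iv6 D41800)) (tt N49779 D89523))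
theorem Q26251 : ∀ i, i < 26251 → P i := stepQ 26250 Q26250 (allL N26250 (tt N13076 (iv1 F64460)) (tt N13062 (iv0 D41801)) (tt N29003 (iv2 F74790)) (tt N49780 D89524) (tt N49781 D89525) (tt N14237 F64459) (tt N49782 D89526) (tt N29001 (iv7 F74779)))
theorem Q26252 : ∀ i, i < 26252 → P i := stepQ 26251 Q26251 (allL N26251 (tt N13062 (iv1 D41802)) (tt N13076 F64461) (tt N29001 (iv2 F74778)) (tt N41867 F346303) (tt N49783 D89528) (tt N14439 F64462) (tt N41865 (iv6 F346308)) (tt N29003 (iv7 F74791)))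
theorem Q26253 : ∀ i, i < 26253 → P i := stepQ 26252 Q26252 (allL N26252 (tt N49682 (iv1 F137058)) (tt N49684 (iv0 F137060)) (tt N49425 (iv2 F136315)) (tt N49784 D89530) (tt N13062 (iv4 D41803)) (tt N14404 F64463) (tt N49785 D89531) (tt N49431 (iv7 F136363)))
theorem Q26254 : ∀ i, i < 26254 → P i := stepQ 26253 Q26253 (allL N26253 (tt N49786 D89532) (tt N49787 D89533) (tt N49426 (iv2 F136322)) (tt N49776 (iv3 F137227)) (tt N49785 (iv4 F137245)) (tt N49788 D89534) (tt N13062 (iv6 D41804)) (tt N49789 D89535))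
theorem Q26255 : ∀ i, i < 26255 → P i := stepQ 26254 Q26254 (allL N26254 (tt N13063 (iv1 D41806)) (tt N27008 F290833) (tt N49427 (iv2 F136327)) (tt N49790 D89536) (tt N26382 F290834) (tt N29047 F74880) (tt N28535 (iv6 F74125)) (tt N14022 F65936))
theorem Q26256 : ∀ i, i < 26256 → P i := stepQ 26255 Q26255 (allL N26255 (tt N14160 F64464) (tt N49791 D89537) (tt N49428 (iv2 F136328)) (tt N47847 F335669) (tt N49792 D89538) (tt N13063 (iv5 D41807)) (tt N49788 (iv6 F137246)) (tt N49793 D89539))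
theorem Q26257 : ∀ i, i < 26257 → P i := stepQ 26256 Q26256 (allL N26256 (tt N49427 (iv1 F136323)) (tt N14022 F127091) (tt N27008 (iv2 F290734)) (tt N49779 (iv3 F137229)) (tt N13069 F64465) (tt N49793 (iv5 F137258)) (tt N26859 (iv6 F290767)) (tt N13063 (iv7 D41808)))
theorem Q26258 : ∀ i, i < 26258 → P i := stepQ 26257 Q26257 (allL N26257 (tt N14401 F64467) (tt N14397 F64468) (tt N26338 (iv2 F64790)) (tt N49794 D89540) (tt N13064 (iv4 D41809)) (tt N28322 F73592) (tt N26863 F292713) (tt N14070 F64466))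
theorem Q26259 : ∀ i, i < 26259 → P i := stepQ 26258 Q26258 (allL N26258 (tt N13078 (iv1 F64469)) (tt N13065 (iv0 D41810)) (tt N28986 (iv2 F74740)) (tt N49795 D89541) (tt N26987 (iv4 F68389)) (tt N28347 (iv5 F73655)) (tt N27000 F292091) (tt N14066 F64470))
theorem Q26260 : ∀ i, i < 26260 → P i := stepQ 26259 Q26259 (allL N26259 (tt N49796 D89542) (tt N49452 (iv0 F335667)) (tt N49797 D89544) (tt N13065 (iv3 D41811)) (tt N49765 (iv4 F137186)) (tt N49798 D89545) (tt N49799 D89546) (tt N49433 (iv7 F136378)))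
theorem Q26261 : ∀ i, i < 26261 → P i := stepQ 26260 Q26260 (allL N26260 (tt N14430 (iv1 F64473)) (tt N14165 F64471) (tt N49430 (iv2 F136341)) (tt N49798 (iv3 F137268)) (tt N14403 F64472) (tt N13065 (iv5 D41812)) (tt N49800 D89547) (tt N49434 (iv7 F136381)))
theorem Q26262 : ∀ i, i < 26262 → P i := stepQ 26261 Q26261 (allL N26261 (tt N14019 F64476) (tt N28535 F74126) (tt N13284 (iv2 F291445)) (tt N49799 (iv3 F137269)) (tt N13066 F64475) (tt N49801 D89548) (tt N13065 (iv6 D41813)) (tt N13277 (iv7 F291844)))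
theorem Q26263 : ∀ i, i < 26263 → P i := stepQ 26262 Q26262 (allL N26262 (tt N26666 F66481) (tt N26899 (iv0 F290577)) (tt N13283 (iv2 F290576)) (tt N49802 D89549) (tt N13068 (iv4 D41815)) (tt N49803 D89550) (tt N13199 (iv6 F290598)) (tt N14478 F64479))
theorem Q26264 : ∀ i, i < 26264 → P i := stepQ 26263 Q26263 (allL N26263 (tt N14039 F64481) (tt N29019 (iv0 F74825)) (tt N13073 F64480) (tt N27417 (iv3 F70219)) (tt N26822 (iv4 F67873)) (tt N13071 (iv5 D41816)) (tt N13154 F64482) (tt N26780 (iv7 F67708)))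
theorem Q26265 : ∀ i, i < 26265 → P i := stepQ 26264 Q26264 (allL N26264 (tt N26360 F73995) (tt N14038 F73996) (tt N13074 F64483) (tt N25748 (iv3 F291796)) (tt N14248 F291292) (tt N46806 F291293) (tt N13071 (iv6 D41817)) (tt N27004 (iv7 F291671)))
theorem Q26266 : ∀ i, i < 26266 → P i := stepQ 26265 Q26265 (allL N26265 (tt N44008 F317604) (tt N49804 D89553) (tt N49805 D89554) (tt N13072 (iv3 D41818)) (tt N13075 F64484) (tt N42210 F317605) (tt N49806 D89556) (tt N26796 (iv7 F67760)))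
theorem Q26267 : ∀ i, i < 26267 → P i := stepQ 26266 Q26266 (allL N26266 (tt N29077 (iv1 F290888)) (tt N49249 (iv0 F135510)) (tt N26800 (iv2 F67767)) (tt N42210 F318926) (tt N49807 D89557) (tt N13072 (iv5 D41819)) (tt N42209 F318927) (tt N26797 (iv7 F67762)))
theorem Q26268 : ∀ i, i < 26268 → P i := stepQ 26267 Q26267 (allL N26267 (tt N14252 (iv1 F290843)) (tt N13625 (iv0 F64486)) (tt N14248 (iv2 F290849)) (tt N49806 (iv3 F137287)) (tt N13074 F64485) (tt N26618 (iv5 F65635)) (tt N13072 (iv6 D41820)) (tt N14249 (iv7 F290892)))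
theorem Q26269 : ∀ i, i < 26269 → P i := stepQ 26268 Q26268 (allL N26268 (tt N26780 (iv1 F67710)) (tt N13073 (iv0 D41821)) (tt N14039 (iv2 F67700)) (tt N26055 F67701) (tt N26772 (iv4 F291352)) (tt N26811 F291266) (tt N13293 (iv6 F291596)) (tt N29019 (iv7 F74824)))
theorem Q26270 : ∀ i, i < 26270 → P i := stepQ 26269 Q26269 (allL N26269 (tt N13073 (iv1 D41822)) (tt N26780 (iv0 F67709)) (tt N29019 (iv2 F74821)) (tt N13112 F67696) (tt N27250 (iv4 F69440)) (tt N14210 F67697) (tt N26360 F67698) (tt N14039 F67699))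
theorem Q26271 : ∀ i, i < 26271 → P i := stepQ 26270 Q26270 (allL N26270 (tt N13629 F64488) (tt N48623 (iv0 F133602)) (tt N26822 (iv2 F67872)) (tt N49808 D89561) (tt N13073 (iv4 D41823)) (tt N26519 F65435) (tt N13165 F64487) (tt N49421 (iv7 F136282)))
theorem Q26272 : ∀ i, i < 26272 → P i := stepQ 26271 Q26271 (allL N26271 (tt N27004 (iv1 F291669)) (tt N13074 (iv0 D41824)) (tt N26360 (iv2 F71737)) (tt N48902 F291299) (tt N26593 (iv4 F71740)) (tt N26650 F71738) (tt N29019 (iv6 F74823)) (tt N14038 F71739))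
theorem Q26273 : ∀ i, i < 26273 → P i := stepQ 26272 Q26272 (allL N26272 (tt N28371 F73729) (tt N14537 F65636) (tt N46806 F291261) (tt N13079 F64489) (tt N26625 (iv4 F65986)) (tt N13074 (iv5 D41826)) (tt N26812 (iv6 F67835)) (tt N25607 (iv7 F291684)))
theorem Q26274 : ∀ i, i < 26274 → P i := stepQ 26273 Q26273 (allL N26273 (tt N13075 (iv1 D41829)) (tt N46755 F335662) (tt N49423 F136303) (tt N25618 (iv3 F64491)) (tt N27217 (iv4 F69362)) (tt N49809 D89563) (tt N49490 (iv6 F136686)) (tt N14048 F64492))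
theorem Q26275 : ∀ i, i < 26275 → P i := stepQ 26274 Q26274 (allL N26274 (tt N14048 F136307) (tt N49423 F136304) (tt N13075 (iv2 D41830)) (tt N46724 F335612) (tt N49805 (iv4 F137285)) (tt N43922 F337110) (tt N42917 F329250) (tt N46755 (iv7 F335621)))
theorem Q26276 : ∀ i, i < 26276 → P i := stepQ 26275 Q26275 (allL N26275 (tt N49810 D89566) (tt N49811 D89567) (tt N43922 F337108) (tt N13076 F64494) (tt N43903 (iv4 F337111)) (tt N13075 (iv5 D41831)) (tt N49812 D89569) (tt N43919 F337109))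
theorem Q26277 : ∀ i, i < 26277 → P i := stepQ 26276 Q26276 (allL N26276 (tt N49813 D89570) (tt N49814 D89571) (tt N42917 F329197) (tt N13077 F64495) (tt N49806 (iv4 F137288)) (tt N42908 (iv5 F329251)) (tt N13075 (iv6 D41832)) (tt N27006 (iv7 F291689)))
theorem Q26278 : ∀ i, i < 26278 → P i := stepQ 26277 Q26277 (allL N26277 (tt N49684 (iv1 F137061)) (tt N49682 (iv0 F137057)) (tt N49431 (iv2 F136362)) (tt N49815 D89574) (tt N13076 (iv4 D41833)) (tt N14403 F64496) (tt N49816 D89575) (tt N49425 (iv7 F136316)))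
theorem Q26279 : ∀ i, i < 26279 → P i := stepQ 26278 Q26278 (allL N26278 (tt N49817 D89576) (tt N49818 D89577) (tt N49432 (iv2 F136365)) (tt N49812 (iv3 F137314)) (tt N49816 (iv4 F137323)) (tt N49819 D89578) (tt N13076 (iv6 D41834)) (tt N49820 D89579))
theorem Q26280 : ∀ i, i < 26280 → P i := stepQ 26279 Q26279 (allL N26279 (tt N26859 F291164) (tt N13077 (iv0 D41835)) (tt N27000 (iv2 F291688)) (tt N49821 D89580) (tt N28468 (iv4 F291498)) (tt N28211 (iv5 F73311)) (tt N28986 F74744) (tt N14063 F73312))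
theorem Q26281 : ∀ i, i < 26281 → P i := stepQ 26280 Q26280 (allL N26280 (tt N14186 (iv1 F66001)) (tt N14183 F64497) (tt N27002 F292698) (tt N42908 F329560) (tt N49822 D89582) (tt N13077 (iv5 D41837)) (tt N49819 (iv6 F137324)) (tt N27007 F292699))
theorem Q26282 : ∀ i, i < 26282 → P i := stepQ 26281 Q26281 (allL N26281 (tt N49823 D89584) (tt N49824 D89585) (tt N49825 D89586) (tt N13078 (iv3 D41839)) (tt N49808 (iv4 F137300)) (tt N49826 D89587) (tt N49290 (iv6 F135771)) (tt N49429 (iv7 F136339)))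
theorem Q26283 : ∀ i, i < 26283 → P i := stepQ 26282 Q26282 (allL N26282 (tt N14165 F64503) (tt N14430 F64502) (tt N49434 (iv2 F136379)) (tt N49826 (iv3 F137345)) (tt N14404 F64501) (tt N13078 (iv5 D41840)) (tt N49827 D89588) (tt N49430 (iv7 F136342)))
theorem Q26284 : ∀ i, i < 26284 → P i := stepQ 26283 Q26283 (allL N26283 (tt N27172 (iv1 F290811)) (tt N26825 F290657) (tt N27003 (iv2 F290808)) (tt N49828 D89589) (tt N13079 (iv4 D41841)) (tt N28478 (iv5 F290825)) (tt N27185 (iv6 F290826)) (tt N27009 (iv7 F290810)))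
theorem Q26285 : ∀ i, i < 26285 → P i := stepQ 26284 Q26284 (allL N26284 (tt N26777 F291281) (tt N49829 D89592) (tt N27416 (iv2 F70216)) (tt N13082 F64511) (tt N26328 (iv4 F292056)) (tt N13080 (iv5 D41844)) (tt N26999 (iv6 F291825)) (tt N27096 (iv7 F291482)))
theorem Q26286 : ∀ i, i < 26286 → P i := stepQ 26285 Q26285 (allL N26285 (tt N34804 F335670) (tt N14003 F335671) (tt N34801 F335599) (tt N13081 (iv3 D41845)) (tt N49610 (iv4 F136913)) (tt N49830 D89597) (tt N49433 (iv6 F136377)) (tt N34802 F335600))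
theorem Q26287 : ∀ i, i < 26287 → P i := stepQ 26286 Q26286 (allL N26286 (tt N49831 D89598) (tt N49832 D89599) (tt N49291 (iv2 F135774)) (tt N49830 (iv3 F137362)) (tt N49833 D89600) (tt N13081 (iv5 D41846)) (tt N49834 D89601) (tt N49292 (iv7 F135784)))
theorem Q26288 : ∀ i, i < 26288 → P i := stepQ 26287 Q26287 (allL N26287 (tt N26798 F290985) (tt N27183 F290986) (tt N27185 F290987) (tt N49835 D89606) (tt N13082 (iv4 D41849)) (tt N49836 D89607) (tt N27003 F290988) (tt N27099 F290989))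
theorem Q26289 : ∀ i, i < 26289 → P i := stepQ 26288 Q26288 (allL N26288 (tt N14046 F136449) (tt N49490 F136687) (tt N49488 F136671) (tt N13084 (iv3 D41852)) (tt N26823 (iv4 F67874)) (tt N49837 D89611) (tt N49838 D89612) (tt N49290 (iv7 F135772)))
theorem Q26290 : ∀ i, i < 26290 → P i := stepQ 26289 Q26289 (allL N26289 (tt N49832 (iv1 F137366)) (tt N49831 F137364) (tt N49292 (iv2 F135783)) (tt N49837 (iv3 F137393)) (tt N49839 D89613) (tt N13084 (iv5 D41853)) (tt N49840 D89614) (tt N49291 (iv7 F135775)))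
theorem Q26291 : ∀ i, i < 26291 → P i := stepQ 26290 Q26290 (allL N26290 (tt N28535 (iv1 F74124)) (tt N14019 F70501) (tt N13277 (iv2 F291842)) (tt N49838 (iv3 F137394)) (tt N13085 F64523) (tt N49841 D89615) (tt N13084 (iv6 D41854)) (tt N13284 (iv7 F291446)))
theorem Q26292 : ∀ i, i < 26292 → P i := stepQ 26291 Q26291 (allL N26291 (tt N49842 D89645) (tt N31352 F323031) (tt N14485 F64537) (tt N15617 (iv3 F324433)) (tt N45966 (iv4 F120001)) (tt N15615 (iv5 F323961)) (tt N13086 (iv6 D41870)) (tt N45661 (iv7 F296278)))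
theorem Q26293 : ∀ i, i < 26293 → P i := stepQ 26292 Q26292 (allL N26292 (tt N26783 (iv1 F292075)) (tt N49843 D89648) (tt N49844 D89649) (tt N13087 (iv3 D41871)) (tt N13907 (iv4 F292074)) (tt N49845 D89650) (tt N49846 D89651) (tt N13623 (iv7 F291634)))
theorem Q26294 : ∀ i, i < 26294 → P i := stepQ 26293 Q26293 (allL N26293 (tt N26017 F64543) (tt N26016 F64544) (tt N13628 F290998) (tt N49845 (iv3 F137445)) (tt N26009 F64541) (tt N13087 (iv5 D41872)) (tt N49847 D89652) (tt N13624 F290999))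
theorem Q26295 : ∀ i, i < 26295 → P i := stepQ 26294 Q26294 (allL N26294 (tt N49421 (iv1 F290829)) (tt N26822 F290659) (tt N13629 (iv2 F290831)) (tt N49846 (iv3 F137447)) (tt N13088 F64546) (tt N29016 (iv5 F290841)) (tt N13087 (iv6 D41873)) (tt N48623 (iv7 F290832)))
theorem Q26296 : ∀ i, i < 26296 → P i := stepQ 26295 Q26295 (allL N26295 (tt N49848 D89658) (tt N49849 D89659) (tt N49850 D89660) (tt N13089 (iv3 D41877)) (tt N27332 (iv4 F70076)) (tt N27251 (iv5 F292544)) (tt N49245 (iv6 F292545)) (tt N14490 F64561))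
theorem Q26297 : ∀ i, i < 26297 → P i := stepQ 26296 Q26296 (allL N26296 (tt N49851 D89668) (tt N49852 D89669) (tt N49853 D89670) (tt N13090 (iv3 D41880)) (tt N25507 F64566) (tt N27254 (iv5 F292529)) (tt N26846 (iv6 F292530)) (tt N14492 F64567))
theorem Q26298 : ∀ i, i < 26298 → P i := stepQ 26297 Q26297 (allL N26297 (tt N13931 (iv1 F64582)) (tt N13091 (iv0 D41886)) (tt N13617 (iv2 F291762)) (tt N49854 D89685) (tt N22947 F64581) (tt N13358 F64580) (tt N49855 D89686) (tt N13614 (iv7 F291760)))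
theorem Q26299 : ∀ i, i < 26299 → P i := stepQ 26298 Q26298 (allL N26298 (tt N13091 (iv1 D41887)) (tt N13931 F64585) (tt N13614 (iv2 F291758)) (tt N49856 D89687) (tt N44848 (iv4 F113673)) (tt N13359 F64587) (tt N49857 D89688) (tt N13617 (iv7 F291764)))
theorem Q26300 : ∀ i, i < 26300 → P i := stepQ 26299 Q26299 (allL N26299 (tt N49858 D89689) (tt N49859 D89690) (tt N47668 (iv2 F129397)) (tt N49273 (iv3 F293768)) (tt N46785 (iv4 F126987)) (tt N29380 (iv5 F293441)) (tt N13091 (iv6 D41888)) (tt N49860 D89691))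
theorem Q26301 : ∀ i, i < 26301 → P i := stepQ 26300 Q26300 (allL N26300 (tt N25618 F64592) (tt N13698 (iv0 F64593)) (tt N13096 F64589) (tt N49444 (iv3 F136472)) (tt N13092 (iv4 D41889)) (tt N49861 D89692) (tt N25563 F64590) (tt N13100 F64591))
theorem Q26302 : ∀ i, i < 26302 → P i := stepQ 26301 Q26301 (allL N26301 (tt N13698 F64601) (tt N25618 (iv0 F64602)) (tt N13100 F64599) (tt N42793 F335687) (tt N13093 (iv4 D41891)) (tt N49862 D89694) (tt N14543 (iv6 F292849)) (tt N13096 F64600))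
theorem Q26303 : ∀ i, i < 26303 → P i := stepQ 26302 Q26302 (allL N26302 (tt N26046 F291321) (tt N49863 D89701) (tt N26809 (iv2 F67809)) (tt N13097 F64627) (tt N27146 (iv4 F292108)) (tt N13095 (iv5 D41897)) (tt N26631 F66358) (tt N26088 F291322))
theorem Q26304 : ∀ i, i < 26304 → P i := stepQ 26303 Q26303 (allL N26303 (tt N13100 (iv1 F64630)) (tt N13096 (iv0 D41898)) (tt N25618 (iv2 F64629)) (tt N49864 D89703) (tt N13701 F64628) (tt N43486 (iv5 F309400)) (tt N25552 (iv6 F64632)) (tt N13698 F64631))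
theorem Q26305 : ∀ i, i < 26305 → P i := stepQ 26304 Q26304 (allL N26304 (tt N42794 F335592) (tt N25621 F335593) (tt N42792 F335676) (tt N13096 (iv3 D41899)) (tt N49284 (iv4 F135750)) (tt N49865 D89707) (tt N49866 D89708) (tt N42793 F335677))
theorem Q26306 : ∀ i, i < 26306 → P i := stepQ 26305 Q26305 (allL N26305 (tt N49867 D89709) (tt N49868 D89710) (tt N49861 (iv2 F137625)) (tt N49865 (iv3 F137674)) (tt N47937 (iv4 F333966)) (tt N13096 (iv5 D41900)) (tt N49869 D89712) (tt N49862 (iv7 F137633)))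
theorem Q26307 : ∀ i, i < 26307 → P i := stepQ 26306 Q26306 (allL N26306 (tt N25680 (iv1 F64636)) (tt N49149 (iv0 F135233)) (tt N25563 F64633) (tt N49866 (iv3 F137675)) (tt N13098 F64634) (tt N49870 D89713) (tt N13096 (iv6 D41901)) (tt N25557 (iv7 F64635)))
theorem Q26308 : ∀ i, i < 26308 → P i := stepQ 26307 Q26307 (allL N26307 (tt N27407 F292505) (tt N27567 F292506) (tt N26336 F292507) (tt N49871 D89718) (tt N13097 (iv4 D41904)) (tt N49872 D89719) (tt N26718 (iv6 F66933)) (tt N26334 F292508))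
theorem Q26309 : ∀ i, i < 26309 → P i := stepQ 26308 Q26308 (allL N26308 (tt N25664 F136299) (tt N49422 (iv0 F136298)) (tt N49445 F136480) (tt N13100 (iv3 D41908)) (tt N27434 (iv4 F70264)) (tt N49873 D89723) (tt N49874 D89724) (tt N49444 F136475))
theorem Q26310 : ∀ i, i < 26310 → P i := stepQ 26309 Q26309 (allL N26309 (tt N49868 (iv1 F137681)) (tt N49867 F137679) (tt N49862 (iv2 F137632)) (tt N49873 (iv3 F137718)) (tt N49875 D89725) (tt N13100 (iv5 D41909)) (tt N49876 D89726) (tt N49861 (iv7 F137626)))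
theorem Q26311 : ∀ i, i < 26311 → P i := stepQ 26310 Q26310 (allL N26310 (tt N48939 (iv1 F134914)) (tt N25636 F133568) (tt N14543 (iv2 F292848)) (tt N49874 (iv3 F137719)) (tt N13101 F64653) (tt N49877 D89727) (tt N13100 (iv6 D41910)) (tt N14550 (iv7 F292847)))
theorem Q26312 : ∀ i, i < 26312 → P i := stepQ 26311 Q26311 (allL N26311 (tt N49878 D89756) (tt N49879 D89757) (tt N26403 (iv2 F65055)) (tt N25564 F64673) (tt N49880 D89758) (tt N13102 (iv5 D41927)) (tt N49881 D89759) (tt N26312 (iv7 F64679)))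
theorem Q26313 : ∀ i, i < 26313 → P i := stepQ 26312 Q26312 (allL N26312 (tt N29058 F291316) (tt N26589 F67896) (tt N26831 (iv2 F67894)) (tt N25568 F64678) (tt N49882 D89768) (tt N13103 (iv5 D41931)) (tt N49883 D89769) (tt N26311 F64679))
theorem Q26314 : ∀ i, i < 26314 → P i := stepQ 26313 Q26313 (allL N26313 (tt N45151 (iv1 F114617)) (tt N45150 F114623) (tt N45153 (iv2 F114621)) (tt N13104 (iv3 D41958)) (tt N27227 (iv4 F69387)) (tt N49884 D89819) (tt N27764 (iv6 F71435)) (tt N13690 F64729))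
theorem Q26315 : ∀ i, i < 26315 → P i := stepQ 26314 Q26314 (allL N26314 (tt N27801 (iv1 F71551)) (tt N27800 F71550) (tt N26340 (iv2 F64804)) (tt N49884 (iv3 F137856)) (tt N49885 D89820) (tt N13104 (iv5 D41959)) (tt N49886 D89821) (tt N13696 F64730))
theorem Q26316 : ∀ i, i < 26316 → P i := stepQ 26315 Q26315 (allL N26315 (tt N49887 D89822) (tt N27684 F289565) (tt N27779 (iv2 F71479)) (tt N13105 (iv3 D41960)) (tt N26315 F64731) (tt N49888 D89824) (tt N49889 D89825) (tt N26341 (iv7 F64807)))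
theorem Q26317 : ∀ i, i < 26317 → P i := stepQ 26316 Q26316 (allL N26316 (tt N26349 (iv1 F64849)) (tt N26348 F64845) (tt N13110 F64732) (tt N49888 (iv3 F137864)) (tt N49890 D89826) (tt N13105 (iv5 D41961)) (tt N49891 D89827) (tt N26342 (iv7 F64809)))
theorem Q26318 : ∀ i, i < 26318 → P i := stepQ 26317 Q26317 (allL N26317 (tt N13742 F70372) (tt N49892 D89828) (tt N13111 F64733) (tt N49889 (iv3 F137865)) (tt N13107 F64734) (tt N29254 F75453) (tt N13105 (iv6 D41962)) (tt N48954 (iv7 F292802)))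
theorem Q26319 : ∀ i, i < 26319 → P i := stepQ 26318 Q26318 (allL N26318 (tt N26358 (iv1 F64877)) (tt N26357 F64868) (tt N13113 F64735) (tt N49893 D89830) (tt N13106 (iv4 D41963)) (tt N29243 (iv5 F75423)) (tt N26729 (iv6 F291407)) (tt N26344 (iv7 F64816)))
theorem Q26320 : ∀ i, i < 26320 → P i := stepQ 26319 Q26319 (allL N26319 (tt N49894 D89833) (tt N49895 D89834) (tt N49896 D89835) (tt N13108 (iv3 D41967)) (tt N49422 (iv4 F136295)) (tt N49897 D89836) (tt N27818 (iv6 F71606)) (tt N13716 F64750))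
theorem Q26321 : ∀ i, i < 26321 → P i := stepQ 26320 Q26320 (allL N26320 (tt N13363 (iv1 F64757)) (tt N13362 (iv0 F64756)) (tt N13364 F64751) (tt N24432 F64755) (tt N13108 (iv4 D41968)) (tt N14646 F64754) (tt N25649 F64752) (tt N13361 F64753))
theorem Q26322 : ∀ i, i < 26322 → P i := stepQ 26321 Q26321 (allL N26321 (tt N27838 (iv1 F71656)) (tt N14658 F64838) (tt N26346 (iv2 F64835)) (tt N49897 (iv3 F137898)) (tt N49898 D89837) (tt N13108 (iv5 D41969)) (tt N49899 D89838) (tt N13718 F64758))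
theorem Q26323 : ∀ i, i < 26323 → P i := stepQ 26322 Q26322 (allL N26322 (tt N49900 D89839) (tt N49901 D89840) (tt N27780 (iv2 F71482)) (tt N13110 F64759) (tt N49902 D89841) (tt N13109 (iv5 D41970)) (tt N49903 D89842) (tt N26347 (iv7 F64841)))
theorem Q26324 : ∀ i, i < 26324 → P i := stepQ 26323 Q26323 (allL N26323 (tt N26342 (iv1 F64810)) (tt N13110 (iv0 D41971)) (tt N26349 F64852) (tt N49904 D89843) (tt N49905 D89844) (tt N14653 F64760) (tt N49906 D89845) (tt N26348 F64848))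
theorem Q26325 : ∀ i, i < 26325 → P i := stepQ 26324 Q26324 (allL N26324 (tt N13110 (iv1 D41972)) (tt N26342 F64811) (tt N26348 F64847) (tt N49907 D89846) (tt N49908 D89847) (tt N14654 F64761) (tt N49909 D89848) (tt N26349 (iv7 F64850)))
theorem Q26326 : ∀ i, i < 26326 → P i := stepQ 26325 Q26325 (allL N26325 (tt N49910 D89849) (tt N49911 D89850) (tt N49890 (iv2 F137867)) (tt N49912 D89851) (tt N13110 (iv4 D41973)) (tt N49913 D89852) (tt N49914 D89853) (tt N26350 (iv7 F64853)))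
theorem Q26327 : ∀ i, i < 26327 → P i := stepQ 26326 Q26326 (allL N26326 (tt N49915 D89854) (tt N49916 D89855) (tt N49891 (iv2 F137868)) (tt N49903 (iv3 F137908)) (tt N49914 (iv4 F137920)) (tt N45805 F340624) (tt N13110 (iv6 D41974)) (tt N49917 D89857))
theorem Q26328 : ∀ i, i < 26328 → P i := stepQ 26327 Q26327 (allL N26327 (tt N48954 (iv1 F292799)) (tt N13111 (iv0 D41975)) (tt N13742 F76059) (tt N49918 D89858) (tt N27942 F291989) (tt N29398 F76060) (tt N13680 F76061) (tt N49892 (iv7 F137870)))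
theorem Q26329 : ∀ i, i < 26329 → P i := stepQ 26328 Q26328 (allL N26328 (tt N13111 (iv1 D41976)) (tt N48954 (iv0 F292798)) (tt N49892 F137873) (tt N49919 D89859) (tt N26284 F292056) (tt N29399 F76066) (tt N26740 F292057) (tt N13742 F76063))
theorem Q26330 : ∀ i, i < 26330 → P i := stepQ 26329 Q26329 (allL N26329 (tt N14514 F64762) (tt N29256 F75458) (tt N29254 (iv2 F75454)) (tt N26359 (iv3 F64881)) (tt N45806 (iv4 F340626)) (tt N13111 (iv5 D41977)) (tt N45805 F340625) (tt N29253 F75448))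
theorem Q26331 : ∀ i, i < 26331 → P i := stepQ 26330 Q26330 (allL N26330 (tt N49892 (iv1 F137869)) (tt N13742 (iv0 F68951)) (tt N48954 (iv2 F292800)) (tt N13113 F64763) (tt N13116 F64764) (tt N29253 (iv5 F75446)) (tt N13519 F292063) (tt N13111 (iv7 D41978)))
theorem Q26332 : ∀ i, i < 26332 → P i := stepQ 26331 Q26331 (allL N26331 (tt N27771 F71451) (tt N27909 F71799) (tt N26356 (iv2 F64865)) (tt N49920 D89863) (tt N13112 (iv4 D41980)) (tt N49921 D89864) (tt N26361 (iv6 F64888)) (tt N26355 (iv7 F64864)))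
theorem Q26333 : ∀ i, i < 26333 → P i := stepQ 26332 Q26332 (allL N26332 (tt N26344 (iv1 F64818)) (tt N13113 (iv0 D41981)) (tt N26358 F64879) (tt N49922 D89865) (tt N49174 (iv4 F135311)) (tt N14669 F64767) (tt N26352 (iv6 F64854)) (tt N26357 F64872))
theorem Q26334 : ∀ i, i < 26334 → P i := stepQ 26333 Q26333 (allL N26333 (tt N14647 (iv1 F64769)) (tt N14520 F64768) (tt N29243 F75424) (tt N29253 F75447) (tt N49923 D89866) (tt N13113 (iv5 D41982)) (tt N49924 D89867) (tt N26359 (iv7 F64882)))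
theorem Q26335 : ∀ i, i < 26335 → P i := stepQ 26334 Q26334 (allL N26334 (tt N48957 F292365) (tt N27796 F71538) (tt N13760 F64778) (tt N49925 D89870) (tt N13114 (iv4 D41986)) (tt N49926 D89871) (tt N13684 F64779) (tt N26307 (iv7 F292508)))
theorem Q26336 : ∀ i, i < 26336 → P i := stepQ 26335 Q26335 (allL N26335 (tt N26236 (iv1 F69725)) (tt N26245 F69726) (tt N26243 (iv2 F72334)) (tt N13115 (iv3 D41987)) (tt N49927 D89872) (tt N13147 (iv5 F290862)) (tt N26609 (iv6 F291138)) (tt N13757 F64780))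
theorem Q26337 : ∀ i, i < 26337 → P i := stepQ 26336 Q26336 (allL N26336 (tt N27796 F71537) (tt N48957 (iv0 F292058)) (tt N26307 (iv2 F292507)) (tt N46224 F327382) (tt N13115 (iv4 D41988)) (tt N46223 (iv5 F327916)) (tt N26739 (iv6 F292166)) (tt N13760 F64781))
theorem Q26338 : ∀ i, i < 26338 → P i := stepQ 26337 Q26337 (allL N26337 (tt N25542 (iv1 F291767)) (tt N29322 F134881) (tt N27781 (iv2 F71484)) (tt N26338 (iv3 F291813)) (tt N13117 (iv4 D41991)) (tt N28739 (iv5 F291815)) (tt N26362 (iv6 F64892)) (tt N13587 (iv7 F291416)))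
theorem Q26339 : ∀ i, i < 26339 → P i := stepQ 26338 Q26338 (allL N26338 (tt N26228 F64794) (tt N28195 F73000) (tt N26257 F64790) (tt N26337 F291813) (tt N13118 (iv4 D41993)) (tt N14383 F64793) (tt N13495 (iv6 F292955)) (tt N13511 (iv7 F292964)))
theorem Q26340 : ∀ i, i < 26340 → P i := stepQ 26339 Q26339 (allL N26339 (tt N49928 D89882) (tt N27431 (iv0 F70260)) (tt N49929 D89883) (tt N13119 (iv3 D41998)) (tt N48595 (iv4 F133538)) (tt N49930 D89884) (tt N27426 (iv6 F70256)) (tt N13875 F64803))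
theorem Q26341 : ∀ i, i < 26341 → P i := stepQ 26340 Q26340 (allL N26340 (tt N27411 (iv1 F70208)) (tt N27410 F70207) (tt N26314 F64804) (tt N49930 (iv3 F137983)) (tt N49931 D89885) (tt N13119 (iv5 D41999)) (tt N49932 D89886) (tt N13879 F64805))
theorem Q26342 : ∀ i, i < 26342 → P i := stepQ 26341 Q26341 (allL N26341 (tt N27367 F289535) (tt N49933 D89888) (tt N27441 (iv2 F70269)) (tt N13120 (iv3 D42000)) (tt N26341 F64806) (tt N49934 D89889) (tt N49935 D89890) (tt N26315 F64807))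
theorem Q26343 : ∀ i, i < 26343 → P i := stepQ 26342 Q26342 (allL N26342 (tt N26324 (iv1 F64811)) (tt N26323 F64810) (tt N13125 F64808) (tt N49934 (iv3 F137994)) (tt N49936 D89891) (tt N13120 (iv5 D42001)) (tt N49937 D89892) (tt N26316 F64809))
theorem Q26344 : ∀ i, i < 26344 → P i := stepQ 26343 Q26343 (allL N26343 (tt N27067 (iv1 F292235)) (tt N13906 F71718) (tt N13126 F64812) (tt N49935 (iv3 F137996)) (tt N13122 F64813) (tt N29158 (iv5 F75116)) (tt N13120 (iv6 D42002)) (tt N25775 (iv7 F292241)))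
theorem Q26345 : ∀ i, i < 26345 → P i := stepQ 26344 Q26344 (allL N26344 (tt N13909 F64817) (tt N26332 F64818) (tt N13129 F64814) (tt N49938 D89895) (tt N13121 (iv4 D42003)) (tt N29136 F75104) (tt N13869 F64815) (tt N26318 F64816))
theorem Q26346 : ∀ i, i < 26346 → P i := stepQ 26345 Q26345 (allL N26345 (tt N49939 D89897) (tt N49940 D89898) (tt N49941 D89899) (tt N13123 (iv3 D42006)) (tt N26790 (iv4 F67736)) (tt N49942 D89900) (tt N27477 (iv6 F70335)) (tt N13891 F64834))
theorem Q26347 : ∀ i, i < 26347 → P i := stepQ 26346 Q26346 (allL N26346 (tt N14655 F64837) (tt N27463 F70305) (tt N26321 F64835) (tt N49942 (iv3 F138036)) (tt N49943 D89901) (tt N13123 (iv5 D42007)) (tt N49944 D89902) (tt N13893 F64836))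
theorem Q26348 : ∀ i, i < 26348 → P i := stepQ 26347 Q26347 (allL N26347 (tt N29371 F290677) (tt N29167 F75125) (tt N27442 (iv2 F70271)) (tt N13125 F64840) (tt N49945 D89904) (tt N13124 (iv5 D42008)) (tt N49946 D89905) (tt N26322 F64841))
theorem Q26349 : ∀ i, i < 26349 → P i := stepQ 26348 Q26348 (allL N26348 (tt N26316 (iv1 F64845)) (tt N13125 (iv0 D42010)) (tt N26324 (iv2 F64847)) (tt N49947 D89907) (tt N49948 D89908) (tt N14657 F64846) (tt N49949 D89909) (tt N26323 (iv7 F64848)))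
theorem Q26350 : ∀ i, i < 26350 → P i := stepQ 26349 Q26349 (allL N26349 (tt N13125 (iv1 D42011)) (tt N26316 F64849) (tt N26323 (iv2 F64852)) (tt N49950 D89910) (tt N49951 D89911) (tt N14587 F64851) (tt N49952 D89912) (tt N26324 F64850))
theorem Q26351 : ∀ i, i < 26351 → P i := stepQ 26350 Q26350 (allL N26350 (tt N49953 D89913) (tt N49954 D89914) (tt N49936 (iv2 F137998)) (tt N49955 D89915) (tt N13125 (iv4 D42012)) (tt N49956 D89916) (tt N49957 D89917) (tt N26325 F64853))
theorem Q26352 : ∀ i, i < 26352 → P i := stepQ 26351 Q26351 (allL N26351 (tt N49958 D89918) (tt N49959 D89919) (tt N49937 (iv2 F138003)) (tt N49946 (iv3 F138047)) (tt N49957 (iv4 F138083)) (tt N49960 D89920) (tt N13125 (iv6 D42013)) (tt N49961 D89921))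
theorem Q26353 : ∀ i, i < 26353 → P i := stepQ 26352 Q26352 (allL N26352 (tt N25775 (iv1 F292240)) (tt N13126 (iv0 D42014)) (tt N27067 (iv2 F292236)) (tt N49962 D89922) (tt N48612 F133579) (tt N14533 F75046) (tt N26332 F64854) (tt N13906 (iv7 F64874)))
theorem Q26354 : ∀ i, i < 26354 → P i := stepQ 26353 Q26353 (allL N26353 (tt N13126 (iv1 D42015)) (tt N25775 (iv0 F292239)) (tt N13906 F64856) (tt N49963 D89923) (tt N13622 (iv4 F64855)) (tt N14534 F64858) (tt N13343 (iv6 F291959)) (tt N27067 (iv7 F292238)))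
theorem Q26355 : ∀ i, i < 26355 → P i := stepQ 26354 Q26354 (allL N26354 (tt N29109 (iv1 F75036)) (tt N26608 (iv0 F65627)) (tt N29158 F75118) (tt N26722 F291408) (tt N49964 D89924) (tt N13126 (iv5 D42016)) (tt N49960 (iv6 F138084)) (tt N27068 (iv7 F292246)))
theorem Q26356 : ∀ i, i < 26356 → P i := stepQ 26355 Q26355 (allL N26355 (tt N49965 D89925) (tt N27433 F70263) (tt N13921 F64862) (tt N49966 D89926) (tt N13127 (iv4 D42018)) (tt N49171 (iv5 F135301)) (tt N13137 (iv6 F293170)) (tt N26331 F64864))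
theorem Q26357 : ∀ i, i < 26357 → P i := stepQ 26356 Q26356 (allL N26356 (tt N27433 F70262) (tt N49965 F138096) (tt N26331 F64865) (tt N49967 D89927) (tt N13128 (iv4 D42019)) (tt N49170 (iv5 F135292)) (tt N25781 (iv6 F293241)) (tt N13921 F64866))
theorem Q26358 : ∀ i, i < 26358 → P i := stepQ 26357 Q26357 (allL N26357 (tt N26318 (iv1 F64868)) (tt N13129 (iv0 D42020)) (tt N13909 (iv2 F64870)) (tt N49968 D89928) (tt N46281 (iv4 F292083)) (tt N14649 F64867) (tt N13342 (iv6 F291964)) (tt N26332 (iv7 F64872)))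
theorem Q26359 : ∀ i, i < 26359 → P i := stepQ 26358 Q26358 (allL N26358 (tt N13129 (iv1 D42021)) (tt N26318 F64877) (tt N26332 (iv2 F64879)) (tt N49969 D89929) (tt N48611 (iv4 F133571)) (tt N14650 (iv5 F64880)) (tt N27067 (iv6 F292237)) (tt N13909 F64878))
theorem Q26360 : ∀ i, i < 26360 → P i := stepQ 26359 Q26359 (allL N26359 (tt N14570 F64884) (tt N14667 F64883) (tt N29136 (iv2 F75105)) (tt N26329 F64881) (tt N49970 D89930) (tt N13129 (iv5 D42022)) (tt N49971 D89931) (tt N26333 F64882))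
theorem Q26361 : ∀ i, i < 26361 → P i := stepQ 26360 Q26360 (allL N26360 (tt N13487 F291681) (tt N26264 (iv0 F73995)) (tt N26271 F71737) (tt N13130 (iv3 D42023)) (tt N29329 (iv4 F292146)) (tt N13475 (iv5 F292288)) (tt N26269 (iv6 F67698)) (tt N13913 F64887))
theorem Q26362 : ∀ i, i < 26362 → P i := stepQ 26361 Q26361 (allL N26361 (tt N25778 F293331) (tt N25777 F293332) (tt N25781 F293333) (tt N49972 D89934) (tt N13130 (iv4 D42024)) (tt N49973 D89935) (tt N26331 F64888) (tt N13917 F64889))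
theorem Q26363 : ∀ i, i < 26363 → P i := stepQ 26362 Q26362 (allL N26362 (tt N48746 (iv1 F292796)) (tt N26165 (iv0 F292854)) (tt N29192 (iv2 F75155)) (tt N13495 (iv3 F292954)) (tt N13131 (iv4 D42026)) (tt N25817 (iv5 F292859)) (tt N26337 F64892) (tt N13493 (iv7 F292860)))
theorem Q26364 : ∀ i, i < 26364 → P i := stepQ 26363 Q26363 (allL N26363 (tt N13139 (iv1 F64937)) (tt N13134 (iv0 D42059)) (tt N25505 (iv2 F64936)) (tt N26682 (iv3 F66888)) (tt N13153 F64935) (tt N48529 (iv5 F133320)) (tt N13653 F291789) (tt N25506 F64938))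
theorem Q26365 : ∀ i, i < 26365 → P i := stepQ 26364 Q26364 (allL N26364 (tt N49974 D89988) (tt N49975 D89989) (tt N49976 D89990) (tt N13134 (iv3 D42060)) (tt N27331 (iv4 F70072)) (tt N49977 D89991) (tt N28586 (iv6 F294077)) (tt N25913 F64939))
theorem Q26366 : ∀ i, i < 26366 → P i := stepQ 26365 Q26365 (allL N26365 (tt N27754 (iv1 F294079)) (tt N27892 (iv0 F293896)) (tt N25508 F64940) (tt N49977 (iv3 F138237)) (tt N27889 (iv4 F294083)) (tt N13134 (iv5 D42061)) (tt N49978 D89992) (tt N25914 F64941))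
theorem Q26367 : ∀ i, i < 26367 → P i := stepQ 26366 Q26366 (allL N26366 (tt N49979 D89993) (tt N49980 D89994) (tt N29436 (iv2 F291946)) (tt N13135 (iv3 D42062)) (tt N26366 F64942) (tt N49981 D89996) (tt N27659 (iv6 F291907)) (tt N25603 F64943))
theorem Q26368 : ∀ i, i < 26368 → P i := stepQ 26367 Q26367 (allL N26367 (tt N13908 (iv1 F291943)) (tt N13905 (iv0 F291938)) (tt N13141 F64944) (tt N49981 (iv3 F138247)) (tt N23759 F64945) (tt N13135 (iv5 D42063)) (tt N49982 D89997) (tt N25604 F64946))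
theorem Q26369 : ∀ i, i < 26369 → P i := stepQ 26368 Q26368 (allL N26368 (tt N27390 (iv1 F294586)) (tt N49983 D90002) (tt N49984 D90003) (tt N13137 (iv3 D42065)) (tt N13616 F294185) (tt N49985 D90004) (tt N49966 F294186) (tt N13915 (iv7 F294530)))
theorem Q26370 : ∀ i, i < 26370 → P i := stepQ 26369 Q26369 (allL N26369 (tt N27628 (iv1 F70693)) (tt N48529 F133322) (tt N13920 F293817) (tt N49985 (iv3 F138270)) (tt N45828 (iv4 F119734)) (tt N13137 (iv5 D42066)) (tt N49986 D90006) (tt N13916 F293818))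
theorem Q26371 : ∀ i, i < 26371 → P i := stepQ 26370 Q26370 (allL N26370 (tt N49987 D90014) (tt N49988 D90015) (tt N49989 D90016) (tt N13139 (iv3 D42072)) (tt N14492 F64972) (tt N49990 D90017) (tt N29418 (iv6 F293776)) (tt N25507 F64973))
theorem Q26372 : ∀ i, i < 26372 → P i := stepQ 26371 Q26371 (allL N26371 (tt N27892 (iv1 F293897)) (tt N27754 (iv0 F294078)) (tt N25914 F64974) (tt N49990 (iv3 F138312)) (tt N27888 (iv4 F294089)) (tt N13139 (iv5 D42073)) (tt N49991 D90019) (tt N25508 F64975))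
theorem Q26373 : ∀ i, i < 26373 → P i := stepQ 26372 Q26372 (allL N26372 (tt N49992 D90031) (tt N49993 D90032) (tt N49994 D90033) (tt N13140 (iv3 D42077)) (tt N26832 (iv4 F67939)) (tt N27882 (iv5 F291955)) (tt N29420 (iv6 F291956)) (tt N25915 F64980))
theorem Q26374 : ∀ i, i < 26374 → P i := stepQ 26373 Q26373 (allL N26373 (tt N25604 (iv1 F64995)) (tt N13141 (iv0 D42084)) (tt N13908 (iv2 F291944)) (tt N49995 D90052) (tt N45497 (iv4 F116036)) (tt N13342 F64994) (tt N49996 D90053) (tt N13905 (iv7 F291941)))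
theorem Q26375 : ∀ i, i < 26375 → P i := stepQ 26374 Q26374 (allL N26374 (tt N13141 (iv1 D42085)) (tt N25604 F64998) (tt N13905 (iv2 F291940)) (tt N49997 D90054) (tt N45823 (iv4 F119727)) (tt N13343 F65000) (tt N49998 D90055) (tt N13908 (iv7 F291945)))
theorem Q26376 : ∀ i, i < 26376 → P i := stepQ 26375 Q26375 (allL N26375 (tt N45828 (iv1 F119736)) (tt N45826 (iv0 F119730)) (tt N23759 F65002) (tt N49999 D90056) (tt N13141 (iv4 D42086)) (tt N23754 F65003) (tt N50000 D90057) (tt N25922 F65004))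
theorem Q26377 : ∀ i, i < 26377 → P i := stepQ 26376 Q26376 (allL N26376 (tt N50001 D90058) (tt N50002 D90059) (tt N49982 (iv2 F138249)) (tt N29458 (iv3 F294011)) (tt N50000 (iv4 F138387)) (tt N29446 F293049) (tt N13141 (iv6 D42087)) (tt N50003 D90060))
theorem Q26378 : ∀ i, i < 26378 → P i := stepQ 26377 Q26377 (allL N26377 (tt N13198 (iv1 F66028)) (tt N13268 (iv0 F66029)) (tt N13267 F66022) (tt N14272 F65014) (tt N27297 (iv4 F70030)) (tt N14083 (iv5 F291831)) (tt N25739 F65015) (tt N13142 (iv7 D42101)))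
theorem Q26379 : ∀ i, i < 26379 → P i := stepQ 26378 Q26378 (allL N26378 (tt N26999 (iv1 F71465)) (tt N27159 F69171) (tt N14152 F291359) (tt N26573 F291360) (tt N27774 (iv4 F71461)) (tt N14145 (iv5 F291486)) (tt N13148 (iv6 D42104)) (tt N14154 (iv7 F291485)))
theorem Q26380 : ∀ i, i < 26380 → P i := stepQ 26379 Q26379 (allL N26379 (tt N13149 (iv1 D42106)) (tt N13790 F290975) (tt N13792 F290976) (tt N13524 F290977) (tt N27782 F125248) (tt N46520 (iv5 F125246)) (tt N13933 (iv6 F291513)) (tt N13521 F290978))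
theorem Q26381 : ∀ i, i < 26381 → P i := stepQ 26380 Q26380 (allL N26380 (tt N50004 D90090) (tt N50005 D90091) (tt N50006 D90092) (tt N13152 (iv3 D42109)) (tt N13176 F65027) (tt N38455 F327603) (tt N14330 F293244) (tt N25581 F65028))
theorem Q26382 : ∀ i, i < 26382 → P i := stepQ 26381 Q26381 (allL N26381 (tt N13630 F293245) (tt N25594 F65033) (tt N25580 F65029) (tt N38455 F327602) (tt N24246 F65031) (tt N13152 (iv5 D42110)) (tt N50007 D90094) (tt N25582 F65030))
theorem Q26383 : ∀ i, i < 26383 → P i := stepQ 26382 Q26382 (allL N26382 (tt N25551 (iv1 F290816)) (tt N27177 (iv0 F290815)) (tt N26812 (iv2 F67833)) (tt N27416 (iv3 F70217)) (tt N26254 (iv4 F290834)) (tt N13154 (iv5 D42111)) (tt N46806 (iv6 F290835)) (tt N25609 (iv7 F290805)))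
theorem Q26384 : ∀ i, i < 26384 → P i := stepQ 26383 Q26383 (allL N26383 (tt N27094 F68939) (tt N27178 (iv0 F136750)) (tt N26814 (iv2 F67849)) (tt N13160 F65038) (tt N25535 F65039) (tt N50008 D90103) (tt N13158 (iv6 D42117)) (tt N26010 (iv7 F292089)))
theorem Q26385 : ∀ i, i < 26385 → P i := stepQ 26384 Q26384 (allL N26384 (tt N16160 (iv1 F65045)) (tt N16158 F65043) (tt N14036 F65040) (tt N30505 (iv3 F78713)) (tt N26481 (iv4 F65295)) (tt N50009 D90104) (tt N13159 (iv6 D42118)) (tt N16157 (iv7 F65041)))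
theorem Q26386 : ∀ i, i < 26386 → P i := stepQ 26385 Q26385 (allL N26385 (tt N26000 F291392) (tt N25969 F291393) (tt N14037 F65046) (tt N50008 (iv3 F138530)) (tt N44698 (iv4 F292217)) (tt N13160 (iv5 D42119)) (tt N50009 (iv6 F138534)) (tt N25998 F291394))
theorem Q26387 : ∀ i, i < 26387 → P i := stepQ 26386 Q26386 (allL N26386 (tt N27165 (iv1 F205495)) (tt N27097 (iv0 F205496)) (tt N26785 (iv2 F67728)) (tt N26783 (iv3 F67724)) (tt N27757 (iv4 F71420)) (tt N50010 D90111) (tt N13161 (iv6 D42121)) (tt N27164 F178337))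
theorem Q26388 : ∀ i, i < 26388 → P i := stepQ 26387 Q26387 (allL N26387 (tt N27204 F69253) (tt N27204 (iv0 F69251)) (tt N26784 (iv2 F67725)) (tt N13162 (iv3 D42122)) (tt N26784 (iv4 F67726)) (tt N32127 F82388) (tt N50011 D90113) (tt N26784 (iv7 F67727)))
theorem Q26389 : ∀ i, i < 26389 → P i := stepQ 26388 Q26388 (allL N26388 (tt N13623 F178357) (tt N49844 F292634) (tt N26783 (iv2 F67723)) (tt N50011 (iv3 F138555)) (tt N27755 (iv4 F71412)) (tt N32128 (iv5 F82389)) (tt N13162 (iv6 D42123)) (tt N49843 F292635))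
theorem Q26390 : ∀ i, i < 26390 → P i := stepQ 26389 Q26389 (allL N26389 (tt N32612 (iv1 F83217)) (tt N13163 (iv0 D42124)) (tt N32610 F178245) (tt N26787 (iv3 F114626)) (tt N45150 F114625) (tt N50012 D90118) (tt N50013 D90119) (tt N32611 F178246))
theorem Q26391 : ∀ i, i < 26391 → P i := stepQ 26390 Q26390 (allL N26390 (tt N13163 (iv1 D42125)) (tt N32612 F83214) (tt N32611 (iv2 F178237)) (tt N50014 D90121) (tt N45151 (iv4 F114618)) (tt N36389 (iv5 F94471)) (tt N50015 D90122) (tt N32610 (iv7 F178240)))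
theorem Q26392 : ∀ i, i < 26392 → P i := stepQ 26391 Q26391 (allL N26391 (tt N32611 (iv1 F83203)) (tt N32610 F83213) (tt N32612 (iv2 F83211)) (tt N13168 F65051) (tt N27477 (iv4 F70334)) (tt N29559 (iv5 F76693)) (tt N26790 (iv6 F67737)) (tt N13163 (iv7 D42126)))
theorem Q26393 : ∀ i, i < 26393 → P i := stepQ 26392 Q26392 (allL N26392 (tt N38200 F97641) (tt N50016 D90123) (tt N26791 (iv2 F67738)) (tt N32424 F82822) (tt N26793 (iv4 F67747)) (tt N50017 D90124) (tt N13164 (iv6 D42127)) (tt N50018 D90125))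
theorem Q26394 : ∀ i, i < 26394 → P i := stepQ 26393 Q26393 (allL N26393 (tt N50019 D90126) (tt N49479 (iv0 F337229)) (tt N50020 D90128) (tt N13165 (iv3 D42128)) (tt N49290 (iv4 F135770)) (tt N50021 D90129) (tt N49808 (iv6 F137301)) (tt N26823 (iv7 F67875)))
theorem Q26395 : ∀ i, i < 26395 → P i := stepQ 26394 Q26394 (allL N26394 (tt N26640 (iv1 F66009)) (tt N29056 F290589) (tt N26821 (iv2 F67870)) (tt N50021 (iv3 F138573)) (tt N50022 D90131) (tt N13165 (iv5 D42129)) (tt N50023 D90132) (tt N26824 (iv7 F67877)))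
theorem Q26396 : ∀ i, i < 26396 → P i := stepQ 26395 Q26395 (allL N26395 (tt N13182 F65052) (tt N50024 D90133) (tt N50025 D90134) (tt N13166 (iv3 D42130)) (tt N49612 (iv4 F136920)) (tt N50026 D90135) (tt N50027 D90136) (tt N26820 (iv7 F67867)))
theorem Q26397 : ∀ i, i < 26397 → P i := stepQ 26396 Q26396 (allL N26396 (tt N29056 F290590) (tt N26640 F67878) (tt N26824 (iv2 F67876)) (tt N50026 (iv3 F138583)) (tt N50028 D90137) (tt N13166 (iv5 D42131)) (tt N50029 D90138) (tt N26821 (iv7 F67871)))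
theorem Q26398 : ∀ i, i < 26398 → P i := stepQ 26397 Q26397 (allL N26397 (tt N27003 (iv1 F73955)) (tt N27009 (iv0 F137196)) (tt N26825 (iv2 F67879)) (tt N50027 (iv3 F138585)) (tt N26813 (iv4 F67840)) (tt N50030 D90139) (tt N13166 (iv6 D42132)) (tt N27172 (iv7 F69078)))
theorem Q26399 : ∀ i, i < 26399 → P i := stepQ 26398 Q26398 (allL N26398 (tt N26829 (iv1 F67890)) (tt N13167 (iv0 D42133)) (tt N26826 (iv2 F68167)) (tt N50031 D90140) (tt N50032 D90141) (tt N26666 F290619) (tt N50033 D90143) (tt N26827 F68166))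
theorem Q26400 : ∀ i, i < 26400 → P i := stepQ 26399 Q26399 (allL N26399 (tt N13167 (iv1 D42134)) (tt N26829 F67888) (tt N26827 F68162) (tt N50034 D90144) (tt N50035 D90145) (tt N26899 (iv5 F68161)) (tt N50036 D90146) (tt N26826 (iv7 F68165)))
theorem Q26401 : ∀ i, i < 26401 → P i := stepQ 26400 Q26400 (allL N26400 (tt N50037 D90147) (tt N50038 D90148) (tt N26828 (iv2 F67884)) (tt N34686 (iv3 F88583)) (tt N13167 (iv4 D42135)) (tt N50039 D90149) (tt N29556 (iv6 F76687)) (tt N50040 D90150))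
theorem Q26402 : ∀ i, i < 26402 → P i := stepQ 26401 Q26401 (allL N26401 (tt N26827 (iv1 F67882)) (tt N26826 F67887) (tt N26829 (iv2 F67885)) (tt N29559 (iv3 F76691)) (tt N50040 (iv4 F138601)) (tt N13168 F65053) (tt N32636 (iv6 F83263)) (tt N13167 (iv7 D42136)))
theorem Q26403 : ∀ i, i < 26403 → P i := stepQ 26402 Q26402 (allL N26402 (tt N50041 D90151) (tt N27078 (iv0 F333358)) (tt N26805 (iv2 F67783)) (tt N13169 (iv3 D42137)) (tt N26402 F65054) (tt N50042 D90153) (tt N50043 D90154) (tt N26830 (iv7 F67893)))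
theorem Q26404 : ∀ i, i < 26404 → P i := stepQ 26403 Q26403 (allL N26403 (tt N26589 F65565) (tt N29058 F291320) (tt N26311 F65055) (tt N50042 (iv3 F138604)) (tt N50044 D90155) (tt N13169 (iv5 D42138)) (tt N50045 D90156) (tt N26831 (iv7 F67895)))
theorem Q26405 : ∀ i, i < 26405 → P i := stepQ 26404 Q26404 (allL N26404 (tt N13618 (iv1 F65058)) (tt N48624 F133608) (tt N25569 F65056) (tt N50043 (iv3 F138605)) (tt N13171 F65057) (tt N26548 F65479) (tt N13169 (iv6 D42139)) (tt N26808 (iv7 F67791)))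
theorem Q26406 : ∀ i, i < 26406 → P i := stepQ 26405 Q26405 (allL N26405 (tt N26039 (iv1 F291149)) (tt N26203 (iv0 F291151)) (tt N26201 (iv2 F290855)) (tt N50046 D90157) (tt N13170 (iv4 D42140)) (tt N50047 D90158) (tt N26624 (iv6 F65985)) (tt N26114 (iv7 F290852)))
theorem Q26407 : ∀ i, i < 26407 → P i := stepQ 26406 Q26406 (allL N26406 (tt N13172 (iv1 D42151)) (tt N13928 F290930) (tt N14161 F290931) (tt N25900 (iv3 F291465)) (tt N24428 F290932) (tt N49791 (iv5 F291466)) (tt N14137 (iv6 F291467)) (tt N14072 F290933))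
theorem Q26408 : ∀ i, i < 26408 → P i := stepQ 26407 Q26407 (allL N26407 (tt N50048 D90173) (tt N28106 F291373) (tt N14476 F291374) (tt N47845 (iv3 F292177)) (tt N50049 D90175) (tt N13172 (iv5 D42153)) (tt N50050 D90176) (tt N14473 F291375))
theorem Q26409 : ∀ i, i < 26409 → P i := stepQ 26408 Q26408 (allL N26408 (tt N50051 D90187) (tt N50052 D90188) (tt N48747 (iv2 F294296)) (tt N13173 (iv3 D42159)) (tt N26408 F65082) (tt N26708 (iv5 F66919)) (tt N28997 (iv6 F294297)) (tt N13203 F65083))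
theorem Q26410 : ∀ i, i < 26410 → P i := stepQ 26409 Q26409 (allL N26409 (tt N50053 D90201) (tt N50054 D90202) (tt N50055 D90203) (tt N13174 (iv3 D42164)) (tt N14487 F65094) (tt N49475 (iv5 F291613)) (tt N29000 (iv6 F291615)) (tt N26833 (iv7 F67950)))
theorem Q26411 : ∀ i, i < 26411 → P i := stepQ 26410 Q26410 (allL N26410 (tt N25903 (iv1 F293668)) (tt N50056 D90211) (tt N50057 D90212) (tt N13175 (iv3 D42167)) (tt N25915 F65098) (tt N49477 (iv5 F294040)) (tt N14232 (iv6 F293362)) (tt N26832 (iv7 F67940)))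
theorem Q26412 : ∀ i, i < 26412 → P i := stepQ 26411 Q26411 (allL N26411 (tt N27073 (iv1 F68895)) (tt N13176 (iv0 D42170)) (tt N27072 (iv2 F254747)) (tt N50058 D90219) (tt N50059 D90220) (tt N49453 (iv5 F294272)) (tt N29004 (iv6 F294273)) (tt N27071 (iv7 F254748)))
theorem Q26413 : ∀ i, i < 26413 → P i := stepQ 26412 Q26412 (allL N26412 (tt N13176 (iv1 D42171)) (tt N27073 F68897) (tt N27071 F254749) (tt N50060 D90224) (tt N28406 (iv4 F294274)) (tt N49454 (iv5 F294275)) (tt N28404 (iv6 F294276)) (tt N27072 F254750))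
theorem Q26414 : ∀ i, i < 26414 → P i := stepQ 26413 Q26413 (allL N26413 (tt N27072 (iv1 F68896)) (tt N27071 F68892) (tt N13176 (iv2 D42172)) (tt N26836 (iv3 F67962)) (tt N50006 (iv4 F138488)) (tt N50061 D90228) (tt N47821 F293254) (tt N27073 (iv7 F68894)))
theorem Q26415 : ∀ i, i < 26415 → P i := stepQ 26414 Q26414 (allL N26414 (tt N50062 D90229) (tt N50063 D90230) (tt N50061 (iv2 F138793)) (tt N13177 F65101) (tt N30950 F327616) (tt N13176 (iv5 D42173)) (tt N50064 D90232) (tt N27074 (iv7 F68899)))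
theorem Q26416 : ∀ i, i < 26416 → P i := stepQ 26415 Q26415 (allL N26415 (tt N50065 D90237) (tt N50066 D90238) (tt N26838 (iv2 F67969)) (tt N50064 (iv3 F138794)) (tt N26692 (iv4 F66896)) (tt N50050 (iv5 F138619)) (tt N13177 (iv6 D42176)) (tt N50067 D90239))
theorem Q26417 : ∀ i, i < 26417 → P i := stepQ 26416 Q26416 (allL N26416 (tt N26014 (iv1 F293481)) (tt N13627 F69480) (tt N26013 (iv2 F293478)) (tt N49480 (iv3 F136653)) (tt N49605 (iv4 F136907)) (tt N50068 D90241) (tt N13179 (iv6 D42177)) (tt N26012 (iv7 F293476)))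
theorem Q26418 : ∀ i, i < 26418 → P i := stepQ 26417 Q26417 (allL N26417 (tt N26820 F136300) (tt N50025 F138582) (tt N13182 F65109) (tt N26786 (iv3 F67730)) (tt N28022 (iv4 F72572)) (tt N42393 (iv5 F106107)) (tt N13180 (iv6 D42178)) (tt N50024 (iv7 F138576)))
theorem Q26419 : ∀ i, i < 26419 → P i := stepQ 26418 Q26418 (allL N26418 (tt N50024 F138579) (tt N13182 (iv0 D42179)) (tt N26820 (iv2 F67869)) (tt N50020 (iv3 F138571)) (tt N49617 (iv4 F136951)) (tt N50069 D90243) (tt N50070 D90244) (tt N50025 (iv7 F138580)))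
theorem Q26420 : ∀ i, i < 26420 → P i := stepQ 26419 Q26419 (allL N26419 (tt N41639 (iv1 F315227)) (tt N50034 (iv0 F142983)) (tt N42393 (iv2 F106105)) (tt N13185 F65110) (tt N32859 (iv4 F83667)) (tt N13182 (iv5 D42180)) (tt N17354 F65111) (tt N50071 D90247))
theorem Q26421 : ∀ i, i < 26421 → P i := stepQ 26420 Q26420 (allL N26420 (tt N50025 (iv1 F138581)) (tt N26820 (iv0 F67868)) (tt N50024 (iv2 F138578)) (tt N13186 F65112) (tt N26246 F65113) (tt N50071 (iv5 F138810)) (tt N26818 (iv6 F67858)) (tt N13182 (iv7 D42181)))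
theorem Q26422 : ∀ i, i < 26422 → P i := stepQ 26421 Q26421 (allL N26421 (tt N32591 F83174) (tt N32637 F83266) (tt N26795 (iv2 F67754)) (tt N17354 F65114) (tt N50072 D90248) (tt N13183 (iv5 D42182)) (tt N13185 F65115) (tt N32625 (iv7 F83245)))
theorem Q26423 : ∀ i, i < 26423 → P i := stepQ 26422 Q26422 (allL N26422 (tt N26818 F67859) (tt N26815 (iv0 F136439)) (tt N26816 F67853) (tt N13184 (iv3 D42183)) (tt N25540 F65116) (tt N50073 D90249) (tt N50074 D90250) (tt N26799 (iv7 F67765)))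
theorem Q26424 : ∀ i, i < 26424 → P i := stepQ 26423 Q26423 (allL N26423 (tt N49249 (iv1 F135511)) (tt N29077 (iv0 F290887)) (tt N26797 (iv2 F67761)) (tt N50073 (iv3 F138815)) (tt N50075 D90251) (tt N13184 (iv5 D42184)) (tt N50076 D90252) (tt N26800 (iv7 F67768)))
theorem Q26425 : ∀ i, i < 26425 → P i := stepQ 26424 Q26424 (allL N26424 (tt N27099 (iv1 F69122)) (tt N27185 F69121) (tt N26798 (iv2 F67763)) (tt N50074 (iv3 F138817)) (tt N26781 (iv4 F67713)) (tt N26492 F65313) (tt N13184 (iv6 D42185)) (tt N27183 F69117))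
theorem Q26426 : ∀ i, i < 26426 → P i := stepQ 26425 Q26425 (allL N26425 (tt N26804 (iv1 F67782)) (tt N13185 (iv0 D42186)) (tt N26801 (iv2 F67780)) (tt N32600 (iv3 F142456)) (tt N47509 F319805) (tt N26994 (iv5 F68398)) (tt N50077 D90255) (tt N26802 F67781))
theorem Q26427 : ∀ i, i < 26427 → P i := stepQ 26426 Q26426 (allL N26426 (tt N13185 (iv1 D42187)) (tt N26804 F67778) (tt N26802 F67773) (tt N44007 F333307) (tt N37140 F320210) (tt N14455 F65117) (tt N47006 (iv6 F321706)) (tt N26801 (iv7 F67779)))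
theorem Q26428 : ∀ i, i < 26428 → P i := stepQ 26427 Q26427 (allL N26427 (tt N49246 (iv1 F135504)) (tt N24852 F328228) (tt N26803 (iv2 F67774)) (tt N50078 D90259) (tt N13185 (iv4 D42188)) (tt N49225 (iv5 F135447)) (tt N50072 (iv6 F138811)) (tt N50079 D90260))
theorem Q26429 : ∀ i, i < 26429 → P i := stepQ 26428 Q26428 (allL N26428 (tt N26802 (iv1 F67771)) (tt N26801 F67777) (tt N26804 (iv2 F67775)) (tt N50071 (iv3 F138809)) (tt N50079 (iv4 F138824)) (tt N13186 F65118) (tt N50080 D90261) (tt N13185 (iv7 D42189)))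
theorem Q26430 : ∀ i, i < 26430 → P i := stepQ 26429 Q26429 (allL N26429 (tt N27078 (iv1 F333359)) (tt N50041 F138602) (tt N26830 (iv2 F67891)) (tt N13187 (iv3 D42190)) (tt N26429 F65119) (tt N50081 D90262) (tt N50082 D90263) (tt N26805 (iv7 F67785)))
theorem Q26431 : ∀ i, i < 26431 → P i := stepQ 26430 Q26430 (allL N26430 (tt N29089 (iv1 F292196)) (tt N48621 F133594) (tt N25568 F65120) (tt N50081 (iv3 F138828)) (tt N50083 D90264) (tt N13187 (iv5 D42191)) (tt N50084 D90265) (tt N26806 (iv7 F67787)))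
theorem Q26432 : ∀ i, i < 26432 → P i := stepQ 26431 Q26431 (allL N26431 (tt N29329 (iv1 F292144)) (tt N13615 (iv0 F69429)) (tt N14245 F293197) (tt N50082 (iv3 F138829)) (tt N13188 F65122) (tt N26575 (iv5 F65549)) (tt N13187 (iv6 D42192)) (tt N14246 (iv7 F292199)))
theorem Q26433 : ∀ i, i < 26433 → P i := stepQ 26432 Q26432 (allL N26432 (tt N26910 F68208) (tt N23249 (iv0 F65138)) (tt N25782 (iv2 F65136)) (tt N13189 (iv3 D42196)) (tt N14307 F65135) (tt N50085 D90267) (tt N50086 D90268) (tt N25785 (iv7 F65137)))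
theorem Q26434 : ∀ i, i < 26434 → P i := stepQ 26433 Q26433 (allL N26433 (tt N23259 (iv1 F67972)) (tt N23259 (iv0 F65141)) (tt N26839 (iv2 F67970)) (tt N14202 (iv3 F65142)) (tt N13189 (iv4 D42197)) (tt N29873 F77506) (tt N50087 D90269) (tt N26839 (iv7 F67971)))
theorem Q26435 : ∀ i, i < 26435 → P i := stepQ 26434 Q26434 (allL N26434 (tt N13529 F77511) (tt N13529 F77512) (tt N26840 (iv2 F67973)) (tt N50085 (iv3 F138840)) (tt N50088 D90270) (tt N13189 (iv5 D42198)) (tt N50089 D90271) (tt N26840 (iv7 F67974)))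
theorem Q26436 : ∀ i, i < 26436 → P i := stepQ 26435 Q26435 (allL N26435 (tt N25926 (iv1 F290219)) (tt N26906 (iv0 F290220)) (tt N26841 (iv2 F67975)) (tt N50086 (iv3 F138847)) (tt N50087 (iv4 F138850)) (tt N50090 D90274) (tt N13189 (iv6 D42199)) (tt N49254 (iv7 F290222)))
theorem Q26437 : ∀ i, i < 26437 → P i := stepQ 26436 Q26436 (allL N26436 (tt N13190 (iv1 F65143)) (tt N13190 (iv0 D42200)) (tt N26551 F65485) (tt N17333 (iv3 F65144)) (tt N32575 (iv4 F83121)) (tt N13595 F68081) (tt N17332 F65145) (tt N26551 F65487))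
theorem Q26438 : ∀ i, i < 26438 → P i := stepQ 26437 Q26437 (allL N26437 (tt N50091 D90276) (tt N50092 D90277) (tt N26552 (iv2 F65488)) (tt N13192 F65146) (tt N26552 (iv4 F65490)) (tt N50093 D90278) (tt N13190 (iv6 D42201)) (tt N50094 D90279))
theorem Q26439 : ∀ i, i < 26439 → P i := stepQ 26438 Q26438 (allL N26438 (tt N26845 (iv1 F67985)) (tt N13191 (iv0 D42202)) (tt N26842 F155671) (tt N50095 D90281) (tt N50096 D90282) (tt N50097 D90283) (tt N49294 F294553) (tt N26843 (iv7 F155674)))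
theorem Q26440 : ∀ i, i < 26440 → P i := stepQ 26439 Q26439 (allL N26439 (tt N13191 (iv1 D42203)) (tt N26845 F67984) (tt N26843 (iv2 F155673)) (tt N50098 D90286) (tt N50099 D90287) (tt N50100 D90288) (tt N50101 D90289) (tt N26842 F155672))
theorem Q26441 : ∀ i, i < 26441 → P i := stepQ 26440 Q26440 (allL N26440 (tt N50102 D90290) (tt N50103 D90291) (tt N26844 (iv2 F67977)) (tt N13195 F65147) (tt N50104 D90292) (tt N13191 (iv5 D42204)) (tt N50093 (iv6 F138865)) (tt N50105 D90293))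
theorem Q26442 : ∀ i, i < 26442 → P i := stepQ 26441 Q26441 (allL N26441 (tt N26843 (iv1 F67976)) (tt N26842 F67983) (tt N26845 (iv2 F67979)) (tt N13196 F65148) (tt N26441 F65149) (tt N50105 (iv5 F138873)) (tt N26845 (iv6 F67982)) (tt N13191 (iv7 D42205)))
theorem Q26443 : ∀ i, i < 26443 → P i := stepQ 26442 Q26442 (allL N26442 (tt N13254 (iv1 F65156)) (tt N13192 (iv0 D42206)) (tt N13251 F82983) (tt N15015 F82968) (tt N29987 F82969) (tt N42940 (iv5 F107771)) (tt N15013 F82970) (tt N13252 F82984))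
theorem Q26444 : ∀ i, i < 26444 → P i := stepQ 26443 Q26443 (allL N26443 (tt N13192 (iv1 D42207)) (tt N13254 F65150) (tt N13252 F82975) (tt N36243 (iv3 F94169)) (tt N50106 D90294) (tt N50107 D90295) (tt N29823 F82973) (tt N13251 F82976))
theorem Q26445 : ∀ i, i < 26445 → P i := stepQ 26444 Q26444 (allL N26444 (tt N16458 F65153) (tt N50108 D90296) (tt N13253 F65151) (tt N50093 (iv3 F138864)) (tt N50109 D90297) (tt N13192 (iv5 D42208)) (tt N13195 F65152) (tt N50110 D90298))
theorem Q26446 : ∀ i, i < 26446 → P i := stepQ 26445 Q26445 (allL N26445 (tt N13252 (iv1 F65157)) (tt N13251 F65158) (tt N13254 F65154) (tt N50094 (iv3 F138866)) (tt N13461 F65155) (tt N50110 (iv5 F138891)) (tt N26556 (iv6 F65496)) (tt N13192 (iv7 D42209)))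
theorem Q26447 : ∀ i, i < 26447 → P i := stepQ 26446 Q26446 (allL N26446 (tt N42657 F157741) (tt N23247 F157742) (tt N42656 (iv2 F157724)) (tt N13193 (iv3 D42210)) (tt N14539 F65159) (tt N50111 D90302) (tt N49276 (iv6 F135607)) (tt N13259 F65160))
theorem Q26448 : ∀ i, i < 26448 → P i := stepQ 26447 Q26447 (allL N26447 (tt N28548 F292728) (tt N28550 F292729) (tt N13257 F65161) (tt N50111 (iv3 F138905)) (tt N50112 D90304) (tt N13193 (iv5 D42211)) (tt N50113 D90305) (tt N13261 F65162))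
theorem Q26449 : ∀ i, i < 26449 → P i := stepQ 26448 Q26448 (allL N26448 (tt N26909 F177369) (tt N50114 D90307) (tt N50115 D90308) (tt N13194 (iv3 D42212)) (tt N14225 F65164) (tt N50116 D90309) (tt N50117 D90310) (tt N13255 F65163))
theorem Q26450 : ∀ i, i < 26450 → P i := stepQ 26449 Q26449 (allL N26449 (tt N28550 (iv1 F292369)) (tt N28548 (iv0 F292371)) (tt N13261 F65171) (tt N50116 (iv3 F138922)) (tt N50118 D90311) (tt N13194 (iv5 D42214)) (tt N50119 D90312) (tt N13257 F65172))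
theorem Q26451 : ∀ i, i < 26451 → P i := stepQ 26450 Q26450 (allL N26450 (tt N13929 (iv1 F290727)) (tt N14470 (iv0 F290721)) (tt N13262 F65173) (tt N50117 (iv3 F138924)) (tt N28372 (iv4 F73732)) (tt N49878 (iv5 F137747)) (tt N13194 (iv6 D42215)) (tt N14479 (iv7 F290742)))
theorem Q26452 : ∀ i, i < 26452 → P i := stepQ 26451 Q26451 (allL N26451 (tt N13266 (iv1 F65179)) (tt N13195 (iv0 D42216)) (tt N13263 F65576) (tt N50120 D90313) (tt N50121 D90314) (tt N29329 F292987) (tt N50122 D90315) (tt N13264 F65577))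
theorem Q26453 : ∀ i, i < 26453 → P i := stepQ 26452 Q26452 (allL N26452 (tt N13195 (iv1 D42217)) (tt N13266 F65174) (tt N13264 F65573) (tt N50123 D90316) (tt N50124 D90317) (tt N13615 (iv5 F65175)) (tt N50125 D90318) (tt N13263 F65574))
theorem Q26454 : ∀ i, i < 26454 → P i := stepQ 26453 Q26453 (allL N26453 (tt N50126 D90319) (tt N50127 D90320) (tt N13265 F65176) (tt N50128 D90321) (tt N13195 (iv4 D42218)) (tt N29327 (iv5 F293969)) (tt N50109 (iv6 F138889)) (tt N50129 D90323))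
theorem Q26455 : ∀ i, i < 26455 → P i := stepQ 26454 Q26454 (allL N26454 (tt N13264 (iv1 F65180)) (tt N13263 F65181) (tt N13266 F65177) (tt N50105 (iv3 F138872)) (tt N50129 (iv4 F138946)) (tt N13196 F65178) (tt N50130 D90324) (tt N13195 (iv7 D42219)))
theorem Q26456 : ∀ i, i < 26456 → P i := stepQ 26455 Q26455 (allL N26455 (tt N13199 (iv1 F65198)) (tt N13197 (iv0 D42225)) (tt N13272 F65868) (tt N26988 F68391) (tt N26572 F65869) (tt N50131 D90325) (tt N26854 (iv6 F68013)) (tt N13209 F65870))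
theorem Q26457 : ∀ i, i < 26457 → P i := stepQ 26456 Q26456 (allL N26456 (tt N50132 D90326) (tt N26873 (iv0 F68092)) (tt N50133 D90327) (tt N13197 (iv3 D42227)) (tt N14182 (iv4 F65950)) (tt N50134 D90328) (tt N27186 (iv6 F69123)) (tt N13281 F65202))
theorem Q26458 : ∀ i, i < 26458 → P i := stepQ 26457 Q26457 (allL N26457 (tt N28553 F290916) (tt N28555 F290917) (tt N13274 F65203) (tt N50134 (iv3 F138964)) (tt N50135 D90331) (tt N13197 (iv5 D42228)) (tt N50136 D90332) (tt N13282 F65204))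
theorem Q26459 : ∀ i, i < 26459 → P i := stepQ 26458 Q26458 (allL N26458 (tt N26875 F176025) (tt N45176 (iv0 F176031)) (tt N45174 (iv2 F205429)) (tt N13199 (iv3 D42236)) (tt N14530 F65227) (tt N50137 D90343) (tt N49802 F290574) (tt N13273 F65228))
theorem Q26460 : ∀ i, i < 26460 → P i := stepQ 26459 Q26459 (allL N26459 (tt N28555 (iv1 F290770)) (tt N28553 (iv0 F290771)) (tt N13282 F65229) (tt N50137 (iv3 F139015)) (tt N50138 D90345) (tt N13199 (iv5 D42237)) (tt N50139 D90346) (tt N13274 F65230))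
theorem Q26461 : ∀ i, i < 26461 → P i := stepQ 26460 Q26460 (allL N26460 (tt N50140 D90361) (tt N14110 (iv0 F293975)) (tt N25734 (iv2 F293976)) (tt N13200 (iv3 D42246)) (tt N26460 F65248) (tt N50141 D90364) (tt N13203 F65249) (tt N14242 (iv7 F293351)))
theorem Q26462 : ∀ i, i < 26462 → P i := stepQ 26461 Q26461 (allL N26461 (tt N29326 (iv1 F293221)) (tt N29325 F292990) (tt N13290 F65250) (tt N50141 (iv3 F139057)) (tt N50142 D90368) (tt N13200 (iv5 D42247)) (tt N50143 D90369) (tt N14243 (iv7 F293354)))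
theorem Q26463 : ∀ i, i < 26463 → P i := stepQ 26462 Q26462 (allL N26462 (tt N50144 D90371) (tt N50145 D90372) (tt N50146 D90373) (tt N13201 (iv3 D42249)) (tt N25571 F65257) (tt N50147 D90374) (tt N14413 F292733) (tt N13308 F65258))
theorem Q26464 : ∀ i, i < 26464 → P i := stepQ 26463 Q26463 (allL N26463 (tt N13510 F65262) (tt N13422 F65263) (tt N13306 F65259) (tt N50147 (iv3 F139080)) (tt N13526 F65261) (tt N13201 (iv5 D42250)) (tt N50148 D90376) (tt N13309 F65260))
theorem Q26465 : ∀ i, i < 26465 → P i := stepQ 26464 Q26464 (allL N26464 (tt N50149 D90378) (tt N50150 D90379) (tt N50151 D90380) (tt N13202 (iv3 D42252)) (tt N48518 (iv4 F133281)) (tt N50152 D90381) (tt N50153 D90382) (tt N13305 F65266))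
theorem Q26466 : ∀ i, i < 26466 → P i := stepQ 26465 Q26465 (allL N26465 (tt N13422 F65270) (tt N13510 F65271) (tt N13309 F65267) (tt N50152 (iv3 F139094)) (tt N13408 F65268) (tt N13202 (iv5 D42253)) (tt N50154 D90383) (tt N13306 F65269))
theorem Q26467 : ∀ i, i < 26467 → P i := stepQ 26466 Q26466 (allL N26466 (tt N26498 (iv1 F66867)) (tt N14197 F291132) (tt N13310 F65272) (tt N50153 (iv3 F139096)) (tt N13523 F65273) (tt N26232 (iv5 F291785)) (tt N13202 (iv6 D42254)) (tt N14412 F291133))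
theorem Q26468 : ∀ i, i < 26468 → P i := stepQ 26467 Q26467 (allL N26467 (tt N48747 (iv1 F294295)) (tt N13203 (iv0 D42255)) (tt N50052 (iv2 F294908)) (tt N50155 D90386) (tt N50156 D90387) (tt N50157 D90388) (tt N25689 (iv6 F294914)) (tt N50051 (iv7 F294916)))
theorem Q26469 : ∀ i, i < 26469 → P i := stepQ 26468 Q26468 (allL N26468 (tt N13203 (iv1 D42256)) (tt N48747 F294662) (tt N50051 (iv2 F294915)) (tt N50158 D90391) (tt N50159 D90392) (tt N50160 D90393) (tt N50161 D90394) (tt N50052 (iv7 F294909)))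
theorem Q26470 : ∀ i, i < 26470 → P i := stepQ 26469 Q26469 (allL N26469 (tt N50052 (iv1 F138656)) (tt N50051 F138651) (tt N13203 (iv2 D42257)) (tt N13313 F65274) (tt N26469 F65275) (tt N50162 D90395) (tt N25734 F294663) (tt N48747 F294664))
theorem Q26471 : ∀ i, i < 26471 → P i := stepQ 26470 Q26470 (allL N26470 (tt N49378 (iv1 F295170)) (tt N50163 D90397) (tt N50162 (iv2 F139105)) (tt N13204 F65276) (tt N50164 D90398) (tt N13203 (iv5 D42258)) (tt N50165 D90399) (tt N26708 (iv7 F66920)))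
theorem Q26472 : ∀ i, i < 26472 → P i := stepQ 26471 Q26471 (allL N26471 (tt N50166 D90400) (tt N50167 D90401) (tt N13318 F65277) (tt N50165 (iv3 F139107)) (tt N26713 (iv4 F66923)) (tt N50143 (iv5 F139067)) (tt N13204 (iv6 D42259)) (tt N50168 D90402))
theorem Q26473 : ∀ i, i < 26473 → P i := stepQ 26472 Q26472 (allL N26472 (tt N48845 F134682) (tt N14477 F290634) (tt N46520 (iv2 F125243)) (tt N13335 F66621) (tt N27317 (iv4 F70053)) (tt N13792 (iv5 F290758)) (tt N13205 (iv6 D42264)) (tt N13791 (iv7 F290759)))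
theorem Q26474 : ∀ i, i < 26474 → P i := stepQ 26473 Q26473 (allL N26473 (tt N27624 F290920) (tt N13207 (iv0 D42270)) (tt N28375 F290921) (tt N14552 F290922) (tt N27328 (iv4 F70829)) (tt N29316 (iv5 F291282)) (tt N13949 (iv6 F291464)) (tt N14546 F290923))
theorem Q26475 : ∀ i, i < 26475 → P i := stepQ 26474 Q26474 (allL N26474 (tt N50169 D90410) (tt N14251 (iv0 F291450)) (tt N26872 (iv2 F68087)) (tt N48973 (iv3 F134962)) (tt N50170 D90412) (tt N13209 (iv5 D42275)) (tt N50017 (iv6 F138564)) (tt N50131 (iv7 F138953)))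
theorem Q26476 : ∀ i, i < 26476 → P i := stepQ 26475 Q26475 (allL N26475 (tt N50171 D90413) (tt N49325 F292572) (tt N13212 F65283) (tt N26891 (iv3 F68141)) (tt N29248 (iv4 F75441)) (tt N45048 (iv5 F114428)) (tt N13210 (iv6 D42277)) (tt N50172 D90415))
theorem Q26477 : ∀ i, i < 26477 → P i := stepQ 26476 Q26476 (allL N26476 (tt N50172 (iv1 F139167)) (tt N13212 (iv0 D42278)) (tt N50171 (iv2 F160259)) (tt N26879 (iv3 F76029)) (tt N29383 F76028) (tt N50173 D90417) (tt N32608 F83202) (tt N49325 F292574))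
theorem Q26478 : ∀ i, i < 26478 → P i := stepQ 26477 Q26477 (allL N26477 (tt N13212 (iv1 D42279)) (tt N50172 F139165) (tt N49325 F292440) (tt N50174 D90419) (tt N29382 (iv4 F76026)) (tt N50175 D90420) (tt N49321 F292441) (tt N50171 (iv7 F160260)))
theorem Q26479 : ∀ i, i < 26479 → P i := stepQ 26478 Q26478 (allL N26478 (tt N50176 D90422) (tt N50177 D90423) (tt N45048 (iv2 F114426)) (tt N13217 F65284) (tt N50178 D90424) (tt N13212 (iv5 D42280)) (tt N29825 (iv6 F77420)) (tt N50179 D90425))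
theorem Q26480 : ∀ i, i < 26480 → P i := stepQ 26479 Q26479 (allL N26479 (tt N49325 F292573) (tt N50171 F139164) (tt N50172 (iv2 F139162)) (tt N13218 F65285) (tt N29252 (iv4 F75444)) (tt N50179 (iv5 F139172)) (tt N25924 F65286) (tt N13212 (iv7 D42281)))
theorem Q26481 : ∀ i, i < 26481 → P i := stepQ 26480 Q26480 (allL N26480 (tt N13227 F65289) (tt N16927 (iv0 F65290)) (tt N21251 F65291) (tt N13213 (iv3 D42282)) (tt N37534 (iv4 F96217)) (tt N13369 F65287) (tt N16130 (iv6 F65292)) (tt N21250 F65288))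
theorem Q26482 : ∀ i, i < 26482 → P i := stepQ 26481 Q26481 (allL N26481 (tt N15713 F65297) (tt N17168 (iv0 F65296)) (tt N26085 F65293) (tt N16130 F65294) (tt N26384 F65295) (tt N50180 D90426) (tt N13213 (iv6 D42283)) (tt N30410 (iv7 F78489)))
theorem Q26483 : ∀ i, i < 26483 → P i := stepQ 26482 Q26482 (allL N26482 (tt N16919 F65301) (tt N13214 (iv0 D42284)) (tt N21242 F65302) (tt N21168 F65298) (tt N16308 (iv4 F65299)) (tt N50181 D90427) (tt N16409 (iv6 F65300)) (tt N26895 (iv7 F68149)))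
theorem Q26484 : ∀ i, i < 26484 → P i := stepQ 26483 Q26483 (allL N26483 (tt N13214 (iv1 D42285)) (tt N16919 F65303) (tt N26895 (iv2 F68151)) (tt N16295 (iv3 F65305)) (tt N16309 F65306) (tt N50182 D90428) (tt N16419 (iv6 F82924)) (tt N21242 F65304))
theorem Q26485 : ∀ i, i < 26485 → P i := stepQ 26484 Q26484 (allL N26484 (tt N50183 D90429) (tt N32622 (iv0 F83239)) (tt N26896 (iv2 F68152)) (tt N29825 (iv3 F77419)) (tt N39629 (iv4 F100513)) (tt N13214 (iv5 D42286)) (tt N13217 F65307) (tt N45049 (iv7 F114431)))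
theorem Q26486 : ∀ i, i < 26486 → P i := stepQ 26485 Q26485 (allL N26485 (tt N26895 (iv1 F68148)) (tt N21242 F65415) (tt N16919 F65308) (tt N14716 F65309) (tt N26546 (iv4 F65473)) (tt N45049 (iv5 F114430)) (tt N14714 F65310) (tt N13214 (iv7 D42287)))
theorem Q26487 : ∀ i, i < 26487 → P i := stepQ 26486 Q26486 (allL N26486 (tt N50184 D90430) (tt N28470 F290210) (tt N50185 D90432) (tt N13215 (iv3 D42289)) (tt N27927 (iv4 F72171)) (tt N50186 D90433) (tt N50187 D90434) (tt N26900 (iv7 F68170)))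
theorem Q26488 : ∀ i, i < 26488 → P i := stepQ 26487 Q26487 (allL N26487 (tt N27184 (iv1 F69118)) (tt N49836 (iv0 F290704)) (tt N26898 (iv2 F68158)) (tt N50186 (iv3 F139191)) (tt N50188 D90436) (tt N13215 (iv5 D42291)) (tt N50189 D90437) (tt N26901 (iv7 F68172)))
theorem Q26489 : ∀ i, i < 26489 → P i := stepQ 26488 Q26488 (allL N26488 (tt N13283 F69099) (tt N14478 F290569) (tt N26899 (iv2 F68160)) (tt N50187 (iv3 F139192)) (tt N26668 (iv4 F290580)) (tt N26827 F67883) (tt N13215 (iv6 D42292)) (tt N26666 (iv7 F290582)))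
theorem Q26490 : ∀ i, i < 26490 → P i := stepQ 26489 Q26489 (allL N26489 (tt N13228 F66848) (tt N49251 F135533) (tt N49250 F135525) (tt N13216 (iv3 D42294)) (tt N28703 (iv4 F74405)) (tt N50190 D90438) (tt N48638 F290937) (tt N26897 (iv7 F68155)))
theorem Q26491 : ∀ i, i < 26491 → P i := stepQ 26490 Q26490 (allL N26490 (tt N49836 F290938) (tt N27184 F69119) (tt N26901 (iv2 F68171)) (tt N50190 (iv3 F139194)) (tt N50191 D90440) (tt N13216 (iv5 D42296)) (tt N50192 D90441) (tt N26898 (iv7 F68159)))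
theorem Q26492 : ∀ i, i < 26492 → P i := stepQ 26491 Q26491 (allL N26491 (tt N26905 (iv1 F68187)) (tt N13217 (iv0 D42298)) (tt N26902 (iv2 F68185)) (tt N50193 D90443) (tt N50194 D90444) (tt N28556 (iv5 F291075)) (tt N50195 D90446) (tt N26903 F68186))
theorem Q26493 : ∀ i, i < 26493 → P i := stepQ 26492 Q26492 (allL N26492 (tt N13217 (iv1 D42299)) (tt N26905 F68183) (tt N26903 (iv2 F68178)) (tt N50196 D90447) (tt N50197 D90448) (tt N26424 (iv5 F65313)) (tt N50198 D90449) (tt N26902 (iv7 F68184)))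
theorem Q26494 : ∀ i, i < 26494 → P i := stepQ 26493 Q26493 (allL N26493 (tt N50199 D90450) (tt N50200 D90451) (tt N26904 (iv2 F68179)) (tt N50201 D90452) (tt N13217 (iv4 D42300)) (tt N49757 (iv5 F291470)) (tt N39629 F100514) (tt N50202 D90454))
theorem Q26495 : ∀ i, i < 26495 → P i := stepQ 26494 Q26494 (allL N26494 (tt N26903 (iv1 F68176)) (tt N26902 F68182) (tt N26905 (iv2 F68180)) (tt N50179 (iv3 F139171)) (tt N50202 (iv4 F139213)) (tt N13218 F65314) (tt N50203 D90455) (tt N13217 (iv7 D42301)))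
theorem Q26496 : ∀ i, i < 26496 → P i := stepQ 26495 Q26495 (allL N26495 (tt N49254 (iv1 F135547)) (tt N26841 F290234) (tt N25926 (iv2 F66685)) (tt N13219 (iv3 D42316)) (tt N26495 F66687) (tt N50204 D90456) (tt N50205 D90457) (tt N26906 (iv7 F68190)))
theorem Q26497 : ∀ i, i < 26497 → P i := stepQ 26496 Q26496 (allL N26496 (tt N27145 F69038) (tt N29378 F75933) (tt N14636 (iv2 F66686)) (tt N50204 (iv3 F139216)) (tt N49759 (iv4 F291719)) (tt N13219 (iv5 D42317)) (tt N50206 D90459) (tt N26907 (iv7 F68192)))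
theorem Q26498 : ∀ i, i < 26498 → P i := stepQ 26497 Q26497 (allL N26497 (tt N13262 F67897) (tt N14479 (iv0 F290740)) (tt N14470 (iv2 F290723)) (tt N50205 (iv3 F139218)) (tt N13220 F65356) (tt N27115 F68980) (tt N13219 (iv6 D42318)) (tt N13929 (iv7 F290728)))
theorem Q26499 : ∀ i, i < 26499 → P i := stepQ 26498 Q26498 (allL N26498 (tt N26694 (iv1 F66898)) (tt N26466 F66867) (tt N14638 F65367) (tt N50207 D90463) (tt N13221 (iv4 D42333)) (tt N50208 D90464) (tt N14030 (iv6 F291504)) (tt N26678 (iv7 F66706)))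
theorem Q26500 : ∀ i, i < 26500 → P i := stepQ 26499 Q26499 (allL N26499 (tt N26677 (iv1 F66704)) (tt N13222 (iv0 D42336)) (tt N26675 F68459) (tt N50209 D90468) (tt N26633 F290733) (tt N50210 D90469) (tt N28109 (iv6 F291067)) (tt N26630 (iv7 F290898)))
theorem Q26501 : ∀ i, i < 26501 → P i := stepQ 26500 Q26500 (allL N26500 (tt N50211 D90473) (tt N28410 (iv0 F292667)) (tt N50212 D90475) (tt N13222 (iv3 D42338)) (tt N48644 (iv4 F133711)) (tt N50213 D90476) (tt N13525 F65377) (tt N29045 F291672))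
theorem Q26502 : ∀ i, i < 26502 → P i := stepQ 26501 Q26501 (allL N26501 (tt N49443 F291673) (tt N14000 F291674) (tt N26676 (iv2 F66699)) (tt N50213 (iv3 F139242)) (tt N49756 (iv4 F292675)) (tt N13222 (iv5 D42339)) (tt N50214 D90481) (tt N29050 F291675))
theorem Q26503 : ∀ i, i < 26503 → P i := stepQ 26502 Q26502 (allL N26502 (tt N14158 (iv1 F65380)) (tt N13223 (iv0 D42341)) (tt N14157 (iv2 F65384)) (tt N27915 (iv3 F72115)) (tt N26910 (iv4 F68207)) (tt N28023 (iv5 F72573)) (tt N50215 D90483) (tt N14156 (iv7 F65386)))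
theorem Q26504 : ∀ i, i < 26504 → P i := stepQ 26503 Q26503 (allL N26503 (tt N13223 (iv1 D42342)) (tt N14158 F65383) (tt N14156 F65385) (tt N25709 (iv3 F72109)) (tt N23249 (iv4 F65381)) (tt N28024 (iv5 F72574)) (tt N50216 D90484) (tt N14157 F65382))
theorem Q26505 : ∀ i, i < 26505 → P i := stepQ 26504 Q26504 (allL N26504 (tt N14157 (iv1 F65391)) (tt N14156 F65390) (tt N13223 (iv2 D42343)) (tt N14163 F65387) (tt N13226 F65388) (tt N49456 (iv5 F136497)) (tt N50217 D90485) (tt N14158 F65389))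
theorem Q26506 : ∀ i, i < 26506 → P i := stepQ 26505 Q26505 (allL N26505 (tt N50218 D90486) (tt N50219 D90487) (tt N50217 (iv2 F139251)) (tt N13224 F65392) (tt N13228 F65393) (tt N50220 D90488) (tt N13223 (iv6 D42344)) (tt N14429 (iv7 F65394)))
theorem Q26507 : ∀ i, i < 26507 → P i := stepQ 26506 Q26506 (allL N26506 (tt N49430 (iv1 F136344)) (tt N49434 (iv0 F136382)) (tt N14165 F65395) (tt N50220 (iv3 F139259)) (tt N28903 F74636) (tt N13224 (iv5 D42345)) (tt N49458 (iv6 F136504)) (tt N14430 F65396))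
theorem Q26508 : ∀ i, i < 26508 → P i := stepQ 26507 Q26507 (allL N26507 (tt N50133 (iv1 F138962)) (tt N13281 F68094) (tt N26873 (iv2 F68089)) (tt N28471 (iv3 F73964)) (tt N28686 (iv4 F74372)) (tt N50221 D90489) (tt N13225 (iv6 D42346)) (tt N50132 (iv7 F138957)))
theorem Q26509 : ∀ i, i < 26509 → P i := stepQ 26508 Q26508 (allL N26508 (tt N26897 (iv1 F135528)) (tt N49250 F135526) (tt N13228 F65397) (tt N26878 (iv3 F68106)) (tt N50217 (iv4 F139253)) (tt N21249 F65398) (tt N13226 (iv6 D42347)) (tt N49251 (iv7 F135531)))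
theorem Q26510 : ∀ i, i < 26510 → P i := stepQ 26509 Q26509 (allL N26509 (tt N16927 (iv1 F65402)) (tt N13227 (iv0 D42348)) (tt N21250 (iv2 F65401)) (tt N22000 F65400) (tt N33593 (iv4 F85216)) (tt N13395 F65399) (tt N17175 (iv6 F65404)) (tt N21251 F65403))
theorem Q26511 : ∀ i, i < 26511 → P i := stepQ 26510 Q26510 (allL N26510 (tt N49251 (iv1 F135532)) (tt N13228 (iv0 D42349)) (tt N26897 (iv2 F68157)) (tt N50185 (iv3 F139190)) (tt N28735 (iv4 F74467)) (tt N50222 D90490) (tt N50223 D90491) (tt N49250 (iv7 F135527)))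
theorem Q26512 : ∀ i, i < 26512 → P i := stepQ 26511 Q26511 (allL N26511 (tt N50224 D90492) (tt N50196 (iv0 F139208)) (tt N21249 F65405) (tt N13231 F65406) (tt N50225 D90493) (tt N13228 (iv5 D42351)) (tt N21238 F65407) (tt N49252 (iv7 F135538)))
theorem Q26513 : ∀ i, i < 26513 → P i := stepQ 26512 Q26512 (allL N26512 (tt N14714 F65413) (tt N13229 (iv0 D42352)) (tt N16308 (iv2 F65409)) (tt N16918 (iv3 F65410)) (tt N21242 F65408) (tt N50226 D90494) (tt N14736 (iv6 F65411)) (tt N16309 (iv7 F65412)))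
theorem Q26514 : ∀ i, i < 26514 → P i := stepQ 26513 Q26513 (allL N26513 (tt N13229 (iv1 D42353)) (tt N14714 F65416) (tt N16309 (iv2 F65419)) (tt N16889 (iv3 F65418)) (tt N26895 F68150) (tt N50227 D90495) (tt N44970 F114226) (tt N16308 F65417))
theorem Q26515 : ∀ i, i < 26515 → P i := stepQ 26514 Q26514 (allL N26514 (tt N32450 (iv1 F82933)) (tt N32448 (iv0 F82858)) (tt N16310 F65420) (tt N21238 F65421) (tt N50228 D90496) (tt N13229 (iv5 D42354)) (tt N13231 F65422) (tt N50229 D90497))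
theorem Q26516 : ∀ i, i < 26516 → P i := stepQ 26515 Q26515 (allL N26515 (tt N16309 (iv1 F65427)) (tt N16308 F65428) (tt N14714 F65423) (tt N16297 F65424) (tt N21173 F65425) (tt N50229 (iv5 F139286)) (tt N16919 F65426) (tt N13229 (iv7 D42355)))
theorem Q26517 : ∀ i, i < 26517 → P i := stepQ 26516 Q26516 (allL N26516 (tt N29016 (iv1 F74818)) (tt N29015 F74816) (tt N26882 (iv2 F68111)) (tt N19611 (iv3 F323388)) (tt N18854 F321705) (tt N13230 (iv5 D42356)) (tt N18852 (iv6 F321707)) (tt N26884 (iv7 F68117)))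
theorem Q26518 : ∀ i, i < 26518 → P i := stepQ 26517 Q26517 (allL N26517 (tt N25941 (iv1 F65432)) (tt N14489 F291040) (tt N14455 F65429) (tt N49061 (iv3 F135137)) (tt N14448 F65430) (tt N26802 (iv5 F67772)) (tt N13230 (iv6 D42357)) (tt N26994 (iv7 F68400)))
theorem Q26519 : ∀ i, i < 26519 → P i := stepQ 26518 Q26518 (allL N26518 (tt N25925 (iv1 F65433)) (tt N13231 (iv0 D42358)) (tt N26886 F68128) (tt N50230 D90500) (tt N50231 D90501) (tt N27273 (iv5 F69483)) (tt N50232 D90502) (tt N26887 F68126))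
theorem Q26520 : ∀ i, i < 26520 → P i := stepQ 26519 Q26519 (allL N26519 (tt N13231 (iv1 D42359)) (tt N25925 F65434) (tt N26887 (iv2 F68125)) (tt N50233 D90503) (tt N50234 D90504) (tt N26270 (iv5 F65435)) (tt N50235 D90505) (tt N26886 (iv7 F68127)))
theorem Q26521 : ∀ i, i < 26521 → P i := stepQ 26520 Q26520 (allL N26520 (tt N50236 D90506) (tt N50237 D90507) (tt N26888 (iv2 F68129)) (tt N50238 D90508) (tt N13231 (iv4 D42360)) (tt N47569 F328615) (tt N50228 (iv6 F139277)) (tt N49253 (iv7 F135542)))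
theorem Q26522 : ∀ i, i < 26522 → P i := stepQ 26521 Q26521 (allL N26521 (tt N28231 (iv1 F73431)) (tt N28269 F73526) (tt N26911 (iv2 F68210)) (tt N28262 (iv3 F73515)) (tt N13232 (iv4 D42361)) (tt N43505 (iv5 F109121)) (tt N50239 D90510) (tt N26908 (iv7 F68199)))
theorem Q26523 : ∀ i, i < 26523 → P i := stepQ 26522 Q26522 (allL N26522 (tt N26948 (iv1 F157722)) (tt N26848 (iv0 F157721)) (tt N26912 (iv2 F68219)) (tt N23247 F65436) (tt N50239 (iv4 F139311)) (tt N50240 D90513) (tt N13232 (iv6 D42362)) (tt N26947 F157717))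
theorem Q26524 : ∀ i, i < 26524 → P i := stepQ 26523 Q26523 (allL N26523 (tt N25782 (iv1 F65440)) (tt N25785 F65441) (tt N23249 F65437) (tt N13233 (iv3 D42363)) (tt N14156 F65438) (tt N23234 F65439) (tt N50241 D90515) (tt N26910 (iv7 F68206)))
theorem Q26525 : ∀ i, i < 26525 → P i := stepQ 26524 Q26524 (allL N26524 (tt N13255 (iv1 F177383)) (tt N50115 (iv0 F177382)) (tt N26909 (iv2 F68202)) (tt N50241 (iv3 F139316)) (tt N28271 (iv4 F73531)) (tt N50242 D90518) (tt N13233 (iv6 D42364)) (tt N50114 (iv7 F177385)))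
theorem Q26526 : ∀ i, i < 26526 → P i := stepQ 26525 Q26525 (allL N26525 (tt N50243 D90520) (tt N50244 D90521) (tt N13237 F65443) (tt N26927 (iv3 F68267)) (tt N14216 F65444) (tt N33642 (iv5 F85347)) (tt N13234 (iv6 D42365)) (tt N50245 D90522))
theorem Q26527 : ∀ i, i < 26527 → P i := stepQ 26526 Q26526 (allL N26526 (tt N14138 F68110) (tt N14460 F73642) (tt N14216 F65445) (tt N14610 F65446) (tt N13237 F65447) (tt N50246 D90523) (tt N13235 (iv6 D42366)) (tt N14459 (iv7 F66884)))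
theorem Q26528 : ∀ i, i < 26528 → P i := stepQ 26527 Q26527 (allL N26527 (tt N50245 (iv1 F139325)) (tt N13237 (iv0 D42367)) (tt N50243 (iv2 F153431)) (tt N49260 (iv3 F145329)) (tt N50247 D90526) (tt N50248 D90527) (tt N50249 D90528) (tt N50244 (iv7 F153435)))
theorem Q26529 : ∀ i, i < 26529 → P i := stepQ 26528 Q26528 (allL N26528 (tt N13237 (iv1 D42368)) (tt N50245 F139324) (tt N50244 (iv2 F153433)) (tt N50250 D90530) (tt N28300 (iv4 F73563)) (tt N50251 D90531) (tt N49849 (iv6 F292541)) (tt N50243 (iv7 F153432)))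
theorem Q26530 : ∀ i, i < 26530 → P i := stepQ 26529 Q26529 (allL N26529 (tt N50252 D90533) (tt N50253 D90534) (tt N33642 (iv2 F85345)) (tt N13239 F65448) (tt N50254 D90535) (tt N13237 (iv5 D42369)) (tt N33635 (iv6 F85320)) (tt N50255 D90536))
theorem Q26531 : ∀ i, i < 26531 → P i := stepQ 26530 Q26530 (allL N26530 (tt N50244 (iv1 F139319)) (tt N50243 F139323) (tt N50245 (iv2 F139320)) (tt N13240 F65449) (tt N14459 F66883) (tt N50255 (iv5 F139334)) (tt N25930 F65450) (tt N13237 (iv7 D42370)))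
theorem Q26532 : ∀ i, i < 26532 → P i := stepQ 26531 Q26531 (allL N26531 (tt N14717 (iv1 F65451)) (tt N13238 (iv0 D42371)) (tt N16318 F83412) (tt N50256 D90537) (tt N26543 (iv4 F65464)) (tt N50257 D90538) (tt N14741 (iv6 F65467)) (tt N16319 F83413))
theorem Q26533 : ∀ i, i < 26533 → P i := stepQ 26532 Q26532 (allL N26532 (tt N13238 (iv1 D42372)) (tt N14717 F65452) (tt N16319 F83425) (tt N26921 (iv3 F68247)) (tt N26544 F65469) (tt N50258 D90539) (tt N32764 (iv6 F83491)) (tt N16318 F83426))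
theorem Q26534 : ∀ i, i < 26534 → P i := stepQ 26533 Q26533 (allL N26533 (tt N50259 D90540) (tt N39631 (iv0 F100511)) (tt N16320 F65453) (tt N33635 (iv3 F85319)) (tt N50260 D90541) (tt N13238 (iv5 D42373)) (tt N13239 F65454) (tt N41738 (iv7 F104836)))
theorem Q26535 : ∀ i, i < 26535 → P i := stepQ 26534 Q26534 (allL N26534 (tt N26934 (iv1 F68282)) (tt N13239 (iv0 D42384)) (tt N26931 (iv2 F68280)) (tt N50261 D90542) (tt N50199 F139236) (tt N28551 F292382) (tt N50262 D90543) (tt N26932 F68281))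
theorem Q26536 : ∀ i, i < 26536 → P i := stepQ 26535 Q26535 (allL N26535 (tt N13239 (iv1 D42385)) (tt N26934 F68277) (tt N26932 (iv2 F68272)) (tt N26925 (iv3 F68264)) (tt N50200 (iv4 F139212)) (tt N25565 (iv5 F65457)) (tt N50263 D90544) (tt N26931 (iv7 F68278)))
theorem Q26537 : ∀ i, i < 26537 → P i := stepQ 26536 Q26536 (allL N26536 (tt N50264 D90545) (tt N50265 D90546) (tt N26933 (iv2 F68273)) (tt N50266 D90547) (tt N13239 (iv4 D42386)) (tt N49754 (iv5 F293346)) (tt N50260 (iv6 F139357)) (tt N50267 D90549))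
theorem Q26538 : ∀ i, i < 26538 → P i := stepQ 26537 Q26537 (allL N26537 (tt N26932 (iv1 F68270)) (tt N26931 F68276) (tt N26934 (iv2 F68274)) (tt N50255 (iv3 F139333)) (tt N50267 (iv4 F139365)) (tt N13240 F65458) (tt N50268 D90550) (tt N13239 (iv7 D42387)))
theorem Q26539 : ∀ i, i < 26539 → P i := stepQ 26538 Q26538 (allL N26538 (tt N26846 (iv1 F177348)) (tt N26955 (iv0 F177349)) (tt N23251 F65459) (tt N26909 (iv3 F68203)) (tt N29247 (iv4 F75438)) (tt N50269 D90553) (tt N13241 (iv6 D42388)) (tt N26954 (iv7 F177346)))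
theorem Q26540 : ∀ i, i < 26540 → P i := stepQ 26539 Q26539 (allL N26539 (tt N49260 (iv1 F135563)) (tt N49259 F135558) (tt N13244 F65460) (tt N26914 (iv3 F68228)) (tt N27601 (iv4 F70615)) (tt N42377 (iv5 F106078)) (tt N13242 (iv6 D42389)) (tt N49261 (iv7 F135561)))
theorem Q26541 : ∀ i, i < 26541 → P i := stepQ 26540 Q26540 (allL N26540 (tt N49261 (iv1 F135562)) (tt N13244 (iv0 D42390)) (tt N49260 (iv2 F153436)) (tt N50270 D90556) (tt N29249 (iv4 F135565)) (tt N50271 D90557) (tt N23241 F65461) (tt N49259 (iv7 F153472)))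
theorem Q26542 : ∀ i, i < 26542 → P i := stepQ 26541 Q26541 (allL N26541 (tt N13244 (iv1 D42391)) (tt N49261 F135567) (tt N49259 (iv2 F153471)) (tt N50244 (iv3 F151059)) (tt N29250 (iv4 F151058)) (tt N50272 D90561) (tt N50273 D90562) (tt N49260 (iv7 F153437)))
theorem Q26543 : ∀ i, i < 26543 → P i := stepQ 26542 Q26542 (allL N26542 (tt N50274 D90563) (tt N50275 D90564) (tt N42377 (iv2 F106077)) (tt N13246 F65462) (tt N50276 D90565) (tt N13244 (iv5 D42392)) (tt N23214 F65463) (tt N49262 (iv7 F135569)))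
theorem Q26544 : ∀ i, i < 26544 → P i := stepQ 26543 Q26543 (allL N26543 (tt N26923 F68255) (tt N13245 (iv0 D42393)) (tt N26920 F83416) (tt N16318 (iv3 F65465)) (tt N26531 F65464) (tt N50277 D90566) (tt N16443 F65466) (tt N26921 (iv7 F83422)))
theorem Q26545 : ∀ i, i < 26545 → P i := stepQ 26544 Q26544 (allL N26544 (tt N13245 (iv1 D42394)) (tt N26923 F68254) (tt N26921 (iv2 F83424)) (tt N50278 D90567) (tt N26532 (iv4 F65469)) (tt N50279 D90568) (tt N16457 F83461) (tt N26920 F83423))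
theorem Q26546 : ∀ i, i < 26546 → P i := stepQ 26545 Q26545 (allL N26545 (tt N50280 D90569) (tt N50281 D90570) (tt N26922 (iv2 F68248)) (tt N23214 F65470) (tt N38251 F325868) (tt N13245 (iv5 D42395)) (tt N13246 F65471) (tt N42378 (iv7 F106080)))
theorem Q26547 : ∀ i, i < 26547 → P i := stepQ 26546 Q26546 (allL N26546 (tt N26921 (iv1 F68245)) (tt N26920 (iv0 F68244)) (tt N26923 (iv2 F68250)) (tt N14719 F65472) (tt N26485 F65473) (tt N42378 (iv5 F106079)) (tt N14717 F65474) (tt N13245 (iv7 D42396)))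
theorem Q26548 : ∀ i, i < 26548 → P i := stepQ 26547 Q26547 (allL N26547 (tt N25931 (iv1 F65476)) (tt N13246 (iv0 D42397)) (tt N26924 F68258) (tt N26931 F68279) (tt N50236 (iv4 F139300)) (tt N25567 F65475) (tt N50282 D90572) (tt N26925 (iv7 F68261)))
theorem Q26549 : ∀ i, i < 26549 → P i := stepQ 26548 Q26548 (allL N26548 (tt N13246 (iv1 D42398)) (tt N25931 F65478) (tt N26925 (iv2 F68263)) (tt N50283 D90573) (tt N50237 (iv4 F139304)) (tt N26404 (iv5 F65479)) (tt N50284 D90574) (tt N26924 F68259))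
theorem Q26550 : ∀ i, i < 26550 → P i := stepQ 26549 Q26549 (allL N26549 (tt N50285 D90575) (tt N50286 D90576) (tt N26926 (iv2 F68265)) (tt N50287 D90577) (tt N13246 (iv4 D42399)) (tt N47508 F319800) (tt N38251 F325870) (tt N38142 F319159))
theorem Q26551 : ∀ i, i < 26551 → P i := stepQ 26550 Q26550 (allL N26550 (tt N50288 D90579) (tt N32736 (iv0 F83435)) (tt N26936 (iv2 F68285)) (tt N16528 F65480) (tt N50289 D90580) (tt N13248 (iv5 D42400)) (tt N13602 F65481) (tt N29590 (iv7 F76773)))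
theorem Q26552 : ∀ i, i < 26552 → P i := stepQ 26551 Q26551 (allL N26551 (tt N13249 (iv1 F65484)) (tt N13249 (iv0 D42401)) (tt N26436 (iv2 F65485)) (tt N21676 F65483) (tt N23197 F65482) (tt N13528 (iv5 F68080)) (tt N23196 (iv6 F65486)) (tt N26436 (iv7 F65487)))
theorem Q26553 : ∀ i, i < 26553 → P i := stepQ 26552 Q26552 (allL N26552 (tt N50290 D90581) (tt N50291 D90582) (tt N26437 F65488) (tt N13250 F65489) (tt N26437 F65490) (tt N50292 D90583) (tt N13249 (iv6 D42402)) (tt N50293 D90584))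
theorem Q26554 : ∀ i, i < 26554 → P i := stepQ 26553 Q26553 (allL N26553 (tt N13461 (iv1 F65497)) (tt N13250 (iv0 D42403)) (tt N13458 F83000) (tt N19401 (iv3 F82998)) (tt N38200 (iv4 F97639)) (tt N44961 (iv5 F114196)) (tt N19400 F82999) (tt N13459 F83001))
theorem Q26555 : ∀ i, i < 26555 → P i := stepQ 26554 Q26554 (allL N26554 (tt N13250 (iv1 D42404)) (tt N13461 F65491) (tt N13459 F83005) (tt N45093 (iv3 F114518)) (tt N50016 F138561) (tt N50294 D90585) (tt N45022 (iv6 F114377)) (tt N13458 F83006))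
theorem Q26556 : ∀ i, i < 26556 → P i := stepQ 26555 Q26555 (allL N26555 (tt N32962 F83787) (tt N50295 D90586) (tt N13460 F65492) (tt N50292 (iv3 F139439)) (tt N50296 D90587) (tt N13250 (iv5 D42405)) (tt N13413 F65493) (tt N50297 D90588))
theorem Q26557 : ∀ i, i < 26557 → P i := stepQ 26556 Q26556 (allL N26556 (tt N13459 (iv1 F65498)) (tt N13458 F65499) (tt N13461 F65494) (tt N50293 (iv3 F139442)) (tt N13254 F65495) (tt N50297 (iv5 F139466)) (tt N26445 F65496) (tt N13250 (iv7 D42406)))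
theorem Q26558 : ∀ i, i < 26558 → P i := stepQ 26557 Q26557 (allL N26557 (tt N36244 (iv1 F94173)) (tt N23235 F82997) (tt N29977 F82995) (tt N13251 (iv3 D42408)) (tt N23321 F82996) (tt N50298 D90589) (tt N23223 (iv6 F82994)) (tt N36243 (iv7 F94171)))
theorem Q26559 : ∀ i, i < 26559 → P i := stepQ 26558 Q26558 (allL N26558 (tt N50299 D90590) (tt N14207 F82985) (tt N29987 F82986) (tt N37376 (iv3 F95888)) (tt N13251 (iv4 D42409)) (tt N50300 D90591) (tt N29985 F82987) (tt N50106 (iv7 F138877)))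
theorem Q26560 : ∀ i, i < 26560 → P i := stepQ 26559 Q26559 (allL N26559 (tt N32765 F83497) (tt N32762 F114353) (tt N42940 F107773) (tt N50298 (iv3 F139471)) (tt N50301 D90592) (tt N13251 (iv5 D42410)) (tt N50302 D90593) (tt N50107 (iv7 F138882)))
theorem Q26561 : ∀ i, i < 26561 → P i := stepQ 26560 Q26560 (allL N26560 (tt N23173 (iv1 F114355)) (tt N29971 F82989) (tt N15013 F82990) (tt N23223 F82991) (tt N29985 F82992) (tt N50303 D90594) (tt N13251 (iv6 D42411)) (tt N29972 F82993))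
theorem Q26562 : ∀ i, i < 26562 → P i := stepQ 26561 Q26561 (allL N26561 (tt N14207 F82978) (tt N50299 F139477) (tt N50106 (iv2 F138874)) (tt N14713 F82979) (tt N13252 (iv4 D42414)) (tt N50304 D90595) (tt N14711 F82980) (tt N29987 F82981))
theorem Q26563 : ∀ i, i < 26563 → P i := stepQ 26562 Q26562 (allL N26562 (tt N32762 F114352) (tt N32765 (iv0 F106584)) (tt N50107 (iv2 F138880)) (tt N29824 F83012) (tt N50305 D90596) (tt N13252 (iv5 D42415)) (tt N50306 D90597) (tt N42940 (iv7 F107772)))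
theorem Q26564 : ∀ i, i < 26564 → P i := stepQ 26563 Q26563 (allL N26563 (tt N50110 (iv1 F138893)) (tt N13253 (iv0 D42417)) (tt N16458 (iv2 F65503)) (tt N33988 (iv3 F86422)) (tt N50307 D90598) (tt N16451 F65502) (tt N50308 D90599) (tt N50108 (iv7 F138884)))
theorem Q26565 : ∀ i, i < 26565 → P i := stepQ 26564 Q26564 (allL N26564 (tt N13253 (iv1 D42418)) (tt N50110 F138892) (tt N50108 F138886) (tt N16467 (iv3 F65505)) (tt N50309 D90600) (tt N16459 (iv5 F65506)) (tt N50310 D90601) (tt N16458 F65504))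
theorem Q26566 : ∀ i, i < 26566 → P i := stepQ 26565 Q26565 (allL N26565 (tt N50311 D90602) (tt N50312 D90603) (tt N50109 (iv2 F138888)) (tt N43498 F109099) (tt N13253 (iv4 D42419)) (tt N43497 (iv5 F109100)) (tt N13265 F65526) (tt N50313 D90604))
theorem Q26567 : ∀ i, i < 26567 → P i := stepQ 26566 Q26566 (allL N26566 (tt N50108 (iv1 F138883)) (tt N16458 F138887) (tt N50110 (iv2 F138890)) (tt N26946 (iv3 F68293)) (tt N50313 (iv4 F139497)) (tt N13254 F65527) (tt N50314 D90605) (tt N13253 (iv7 D42420)))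
theorem Q26568 : ∀ i, i < 26568 → P i := stepQ 26567 Q26567 (allL N26567 (tt N50115 (iv1 F138919)) (tt N13255 (iv0 D42421)) (tt N50114 (iv2 F154620)) (tt N26954 (iv3 F139640)) (tt N50315 D90608) (tt N50316 D90609) (tt N26947 (iv6 F177386)) (tt N26909 F177364))
theorem Q26569 : ∀ i, i < 26569 → P i := stepQ 26568 Q26568 (allL N26568 (tt N50114 (iv1 F138920)) (tt N26909 F177368) (tt N13255 (iv2 D42423)) (tt N42656 (iv3 F157725)) (tt N14224 (iv4 F65530)) (tt N50317 D90616) (tt N50318 D90617) (tt N50115 (iv7 F138918)))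
theorem Q26570 : ∀ i, i < 26570 → P i := stepQ 26569 Q26569 (allL N26569 (tt N14227 F66350) (tt N14219 (iv0 F73966)) (tt N14224 F65529) (tt N14620 (iv3 F66347)) (tt N13255 (iv4 D42424)) (tt N50319 D90618) (tt N26835 F293398) (tt N14225 F65528))
theorem Q26571 : ∀ i, i < 26571 → P i := stepQ 26570 Q26570 (allL N26570 (tt N50320 D90620) (tt N50321 D90621) (tt N50317 (iv2 F139503)) (tt N13257 F65531) (tt N50322 D90622) (tt N13255 (iv5 D42425)) (tt N50323 D90623) (tt N50116 (iv7 F138923)))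
theorem Q26572 : ∀ i, i < 26572 → P i := stepQ 26571 Q26571 (allL N26571 (tt N50324 D90624) (tt N50325 D90625) (tt N50318 (iv2 F139504)) (tt N13258 F65532) (tt N26835 F292718) (tt N50326 D90626) (tt N13255 (iv6 D42426)) (tt N49275 (iv7 F135604)))
theorem Q26573 : ∀ i, i < 26573 → P i := stepQ 26572 Q26572 (allL N26572 (tt N13260 (iv1 F65533)) (tt N13256 (iv0 D42427)) (tt N13477 (iv2 F290911)) (tt N14146 (iv3 F65865)) (tt N26455 (iv4 F65869)) (tt N13476 (iv5 F291186)) (tt N14201 (iv6 F65867)) (tt N13365 F65863))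
theorem Q26574 : ∀ i, i < 26574 → P i := stepQ 26573 Q26573 (allL N26573 (tt N46806 F291290) (tt N25607 (iv0 F291682)) (tt N14537 F65546) (tt N26378 (iv3 F291360)) (tt N27575 (iv4 F291839)) (tt N13256 (iv5 D42430)) (tt N25605 F291291) (tt N28371 (iv7 F73728)))
theorem Q26575 : ∀ i, i < 26575 → P i := stepQ 26574 Q26574 (allL N26574 (tt N14449 (iv1 F65874)) (tt N14458 (iv0 F65860)) (tt N14457 (iv2 F65926)) (tt N13952 F65859) (tt N13258 F65548) (tt N13951 (iv5 F65858)) (tt N13256 (iv6 D42431)) (tt N14456 F65921))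
theorem Q26576 : ∀ i, i < 26576 → P i := stepQ 26575 Q26575 (allL N26575 (tt N13261 (iv1 F65551)) (tt N13257 (iv0 D42432)) (tt N28548 (iv2 F292372)) (tt N50327 D90630) (tt N50328 D90631) (tt N26431 F65549) (tt N50329 D90632) (tt N28550 (iv7 F292370)))
theorem Q26577 : ∀ i, i < 26577 → P i := stepQ 26576 Q26576 (allL N26576 (tt N13257 (iv1 D42433)) (tt N13261 F65553) (tt N28550 F292726) (tt N26951 F69435) (tt N50330 D90633) (tt N14608 F293952) (tt N50331 D90634) (tt N28548 F292727))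
theorem Q26578 : ∀ i, i < 26578 → P i := stepQ 26577 Q26577 (allL N26577 (tt N50332 D90635) (tt N50333 D90636) (tt N50112 (iv2 F138911)) (tt N50334 D90637) (tt N13257 (iv4 D42434)) (tt N50335 D90638) (tt N50336 D90639) (tt N50118 (iv7 F138927)))
theorem Q26579 : ∀ i, i < 26579 → P i := stepQ 26578 Q26578 (allL N26578 (tt N50337 D90640) (tt N50338 D90641) (tt N50113 (iv2 F138913)) (tt N50323 (iv3 F139516)) (tt N50336 (iv4 F139553)) (tt N50339 D90642) (tt N13257 (iv6 D42435)) (tt N50340 D90643))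
theorem Q26580 : ∀ i, i < 26580 → P i := stepQ 26579 Q26579 (allL N26579 (tt N13534 F65555) (tt N13563 F65556) (tt N13561 F65554) (tt N50326 (iv3 F139517)) (tt N50341 D90644) (tt N13258 (iv5 D42436)) (tt N50339 (iv6 F139555)) (tt N13560 F65925))
theorem Q26581 : ∀ i, i < 26581 → P i := stepQ 26580 Q26580 (allL N26580 (tt N13259 (iv1 D42439)) (tt N42656 (iv0 F157723)) (tt N42657 (iv2 F157728)) (tt N26947 (iv3 F138903)) (tt N29282 F138902) (tt N50342 D90651) (tt N26954 F177367) (tt N23247 (iv7 F157733)))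
theorem Q26582 : ∀ i, i < 26582 → P i := stepQ 26581 Q26581 (allL N26581 (tt N23247 F157739) (tt N42657 F157740) (tt N13259 (iv2 D42440)) (tt N50115 (iv3 F138916)) (tt N50343 D90653) (tt N50344 D90654) (tt N50345 D90655) (tt N42656 (iv7 F157727)))
theorem Q26583 : ∀ i, i < 26583 → P i := stepQ 26582 Q26582 (allL N26582 (tt N27597 F205448) (tt N41185 (iv0 F331296)) (tt N50343 (iv2 F139561)) (tt N14507 F65557) (tt N13259 (iv4 D42441)) (tt N50346 D90658) (tt N50347 D90659) (tt N14539 F65558))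
theorem Q26584 : ∀ i, i < 26584 → P i := stepQ 26583 Q26583 (allL N26583 (tt N50348 D90660) (tt N50349 D90661) (tt N50344 (iv2 F139566)) (tt N13261 F65559) (tt N30228 (iv4 F335536)) (tt N13259 (iv5 D42442)) (tt N50350 D90663) (tt N50111 (iv7 F138906)))
theorem Q26585 : ∀ i, i < 26585 → P i := stepQ 26584 Q26584 (allL N26584 (tt N50351 D90664) (tt N50352 D90665) (tt N50345 (iv2 F139567)) (tt N13262 F65560) (tt N50347 (iv4 F139576)) (tt N50353 D90666) (tt N13259 (iv6 D42443)) (tt N50354 D90667))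
theorem Q26586 : ∀ i, i < 26586 → P i := stepQ 26585 Q26585 (allL N26585 (tt N25607 (iv1 F291683)) (tt N46806 F291289) (tt N28371 (iv2 F73726)) (tt N14508 F65561) (tt N27576 (iv4 F291837)) (tt N13260 (iv5 D42444)) (tt N25550 (iv6 F292020)) (tt N14537 F65562))
theorem Q26587 : ∀ i, i < 26587 → P i := stepQ 26586 Q26586 (allL N26586 (tt N13299 F290685) (tt N27069 F68882) (tt N28372 (iv2 F73730)) (tt N14509 F65563) (tt N13262 F65564) (tt N25551 (iv5 F290817)) (tt N13260 (iv6 D42445)) (tt N14631 F290686))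
theorem Q26588 : ∀ i, i < 26588 → P i := stepQ 26587 Q26587 (allL N26587 (tt N50333 (iv1 F139550)) (tt N50332 F139549) (tt N50118 (iv2 F138926)) (tt N50355 D90670) (tt N13261 (iv4 D42446)) (tt N50356 D90671) (tt N50357 D90672) (tt N50112 (iv7 F138912)))
theorem Q26589 : ∀ i, i < 26589 → P i := stepQ 26588 Q26588 (allL N26588 (tt N50358 D90673) (tt N50359 D90674) (tt N50119 (iv2 F138928)) (tt N50350 (iv3 F139577)) (tt N50357 (iv4 F139594)) (tt N49675 (iv5 F347696)) (tt N13261 (iv6 D42447)) (tt N50360 D90676))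
theorem Q26590 : ∀ i, i < 26590 → P i := stepQ 26589 Q26589 (allL N26589 (tt N26312 (iv1 F67896)) (tt N26403 (iv0 F65565)) (tt N49878 F137749) (tt N50353 (iv3 F139578)) (tt N49676 (iv4 F347700)) (tt N13262 (iv5 D42450)) (tt N49675 (iv6 F347697)) (tt N49879 (iv7 F137751)))
theorem Q26591 : ∀ i, i < 26591 → P i := stepQ 26590 Q26590 (allL N26590 (tt N14470 (iv1 F290722)) (tt N13929 (iv0 F290726)) (tt N14479 (iv2 F290741)) (tt N50354 (iv3 F139579)) (tt N14631 F290695) (tt N49879 (iv5 F137752)) (tt N14495 F292767) (tt N13262 (iv7 D42451)))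
theorem Q26592 : ∀ i, i < 26592 → P i := stepQ 26591 Q26591 (allL N26591 (tt N50316 (iv1 F335352)) (tt N50242 (iv0 F283726)) (tt N50361 D90680) (tt N13263 (iv3 D42453)) (tt N50362 D90681) (tt N50363 D90682) (tt N50364 D90683) (tt N50123 (iv7 F138935)))
theorem Q26593 : ∀ i, i < 26593 → P i := stepQ 26592 Q26592 (allL N26592 (tt N50365 D90684) (tt N50366 D90685) (tt N50121 (iv2 F138930)) (tt N50367 D90686) (tt N13263 (iv4 D42454)) (tt N14305 (iv5 F293006)) (tt N50368 D90688) (tt N50124 (iv7 F138937)))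
theorem Q26594 : ∀ i, i < 26594 → P i := stepQ 26593 Q26593 (allL N26593 (tt N14246 (iv1 F292198)) (tt N14245 F293196) (tt N29329 (iv2 F292145)) (tt N50363 (iv3 F139596)) (tt N26271 F71740) (tt N13263 (iv5 D42455)) (tt N48624 (iv6 F133606)) (tt N13615 F65575))
theorem Q26595 : ∀ i, i < 26595 → P i := stepQ 26594 Q26594 (allL N26594 (tt N50369 D90689) (tt N50370 D90690) (tt N50122 (iv2 F138932)) (tt N50364 (iv3 F139598)) (tt N50368 (iv4 F139606)) (tt N49264 (iv5 F135578)) (tt N13263 (iv6 D42456)) (tt N50371 D90691))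
theorem Q26596 : ∀ i, i < 26596 → P i := stepQ 26595 Q26595 (allL N26595 (tt N41441 (iv1 F157293)) (tt N50342 (iv0 F157730)) (tt N50372 D90694) (tt N13264 (iv3 D42458)) (tt N50373 D90695) (tt N50374 D90696) (tt N50375 D90697) (tt N50120 (iv7 F138929)))
theorem Q26597 : ∀ i, i < 26597 → P i := stepQ 26596 Q26596 (allL N26596 (tt N50366 (iv1 F139602)) (tt N50365 F139600) (tt N50124 (iv2 F138936)) (tt N50376 D90698) (tt N13264 (iv4 D42459)) (tt N50377 D90699) (tt N50378 D90700) (tt N50121 (iv7 F138931)))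
theorem Q26598 : ∀ i, i < 26598 → P i := stepQ 26597 Q26597 (allL N26597 (tt N14245 F292208) (tt N14246 F292209) (tt N13615 (iv2 F65570)) (tt N50374 (iv3 F139607)) (tt N13913 (iv4 F65571)) (tt N13264 (iv5 D42460)) (tt N13359 (iv6 F292553)) (tt N29329 F292210))
theorem Q26599 : ∀ i, i < 26599 → P i := stepQ 26598 Q26598 (allL N26598 (tt N50379 D90701) (tt N50380 D90702) (tt N50125 (iv2 F138938)) (tt N50375 (iv3 F139610)) (tt N50378 (iv4 F139612)) (tt N49857 (iv5 F292647)) (tt N13264 (iv6 D42461)) (tt N50381 D90704))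
theorem Q26600 : ∀ i, i < 26600 → P i := stepQ 26599 Q26599 (allL N26599 (tt N50129 (iv1 F138950)) (tt N13265 (iv0 D42462)) (tt N50126 F139151) (tt N50382 D90705) (tt N50169 (iv4 F139146)) (tt N14240 (iv5 F293364)) (tt N50383 D90707) (tt N50127 F139149))
theorem Q26601 : ∀ i, i < 26601 → P i := stepQ 26600 Q26600 (allL N26600 (tt N13265 (iv1 D42463)) (tt N50129 F138949) (tt N50127 (iv2 F139150)) (tt N50384 D90708) (tt N14251 F292307) (tt N50385 D90709) (tt N50386 D90710) (tt N50126 (iv7 F139152)))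
theorem Q26602 : ∀ i, i < 26602 → P i := stepQ 26601 Q26601 (allL N26601 (tt N50387 D90711) (tt N50388 D90712) (tt N43597 (iv2 F109235)) (tt N13265 (iv3 D42464)) (tt N26972 (iv4 F68329)) (tt N50389 D90713) (tt N43498 (iv6 F109101)) (tt N50390 D90714))
theorem Q26603 : ∀ i, i < 26603 → P i := stepQ 26602 Q26602 (allL N26602 (tt N50391 D90715) (tt N50392 D90716) (tt N29327 F294349) (tt N50389 (iv3 F139617)) (tt N14243 F294350) (tt N13265 (iv5 D42465)) (tt N50393 D90717) (tt N50142 F139065))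
theorem Q26604 : ∀ i, i < 26604 → P i := stepQ 26603 Q26603 (allL N26603 (tt N50127 (iv1 F138940)) (tt N50126 F138948) (tt N50129 (iv2 F138945)) (tt N50390 (iv3 F139618)) (tt N13266 F65578) (tt N50142 (iv5 F139064)) (tt N50394 D90718) (tt N13265 (iv7 D42466)))
theorem Q26605 : ∀ i, i < 26605 → P i := stepQ 26604 Q26604 (allL N26604 (tt N50395 D90719) (tt N50396 D90720) (tt N50130 (iv2 F138951)) (tt N26975 (iv3 F68331)) (tt N50394 (iv4 F139625)) (tt N26975 (iv5 F68332)) (tt N13266 (iv6 D42467)) (tt N50314 (iv7 F139498)))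
theorem Q26606 : ∀ i, i < 26606 → P i := stepQ 26605 Q26605 (allL N26605 (tt N49766 (iv1 F291262)) (tt N13950 (iv0 F291809)) (tt N13270 F65620) (tt N26813 F291233) (tt N27015 F294635) (tt N13268 (iv5 D42474)) (tt N13940 F291234) (tt N48844 (iv7 F134676)))
theorem Q26607 : ∀ i, i < 26607 → P i := stepQ 26606 Q26606 (allL N26606 (tt N25892 (iv1 F66289)) (tt N13347 (iv0 F293953)) (tt N13271 F65621) (tt N25608 F66285) (tt N14529 F65622) (tt N24429 (iv5 F66284)) (tt N13268 (iv6 D42475)) (tt N25899 F66271))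
theorem Q26608 : ∀ i, i < 26608 → P i := stepQ 26607 Q26607 (allL N26607 (tt N50397 D90722) (tt N29247 F177357) (tt N50398 D90724) (tt N13269 (iv3 D42476)) (tt N13273 F65623) (tt N50399 D90725) (tt N29461 (iv6 F76244)) (tt N14530 F65624))
theorem Q26609 : ∀ i, i < 26609 → P i := stepQ 26608 Q26608 (allL N26608 (tt N26354 F65627) (tt N48953 (iv0 F291898)) (tt N14528 F65625) (tt N50399 (iv3 F139643)) (tt N50400 D90727) (tt N13269 (iv5 D42477)) (tt N50401 D90728) (tt N14531 F65626))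
theorem Q26610 : ∀ i, i < 26610 → P i := stepQ 26609 Q26609 (allL N26609 (tt N48844 (iv1 F134678)) (tt N13270 (iv0 D42478)) (tt N49766 (iv2 F291263)) (tt N13333 (iv3 F66368)) (tt N29193 (iv4 F75159)) (tt N25559 F66367) (tt N26335 F291138) (tt N13950 (iv7 F291811)))
theorem Q26611 : ∀ i, i < 26611 → P i := stepQ 26610 Q26610 (allL N26610 (tt N13270 (iv1 D42479)) (tt N48844 (iv0 F134677)) (tt N13950 F291990) (tt N26087 F291991) (tt N29194 F75162) (tt N27260 (iv5 F69455)) (tt N13934 F291992) (tt N49766 F291993))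
theorem Q26612 : ∀ i, i < 26612 → P i := stepQ 26611 Q26611 (allL N26611 (tt N13271 (iv1 D42483)) (tt N25899 F66276) (tt N13347 F294484) (tt N28875 (iv3 F74578)) (tt N29190 (iv4 F75149)) (tt N25892 F66275) (tt N28874 (iv6 F74573)) (tt N25892 F66273))
theorem Q26613 : ∀ i, i < 26613 → P i := stepQ 26612 Q26612 (allL N26612 (tt N50402 D90732) (tt N50403 D90733) (tt N50404 D90734) (tt N13272 (iv3 D42485)) (tt N26996 (iv4 F291454)) (tt N50405 D90735) (tt N26978 (iv6 F68348)) (tt N26871 F68086))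
theorem Q26614 : ∀ i, i < 26614 → P i := stepQ 26613 Q26613 (allL N26613 (tt N14251 (iv1 F291451)) (tt N50169 F139147) (tt N50131 (iv2 F138952)) (tt N50405 (iv3 F139664)) (tt N50406 D90736) (tt N13272 (iv5 D42486)) (tt N50407 D90737) (tt N26872 (iv7 F68088)))
theorem Q26615 : ∀ i, i < 26615 → P i := stepQ 26614 Q26614 (allL N26614 (tt N45174 F205436) (tt N13273 (iv0 D42492)) (tt N45176 F205437) (tt N26980 F139572) (tt N50408 D90739) (tt N50409 D90740) (tt N26980 F205454) (tt N26875 F205438))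
theorem Q26616 : ∀ i, i < 26616 → P i := stepQ 26615 Q26615 (allL N26615 (tt N45176 (iv1 F176032)) (tt N26875 F176024) (tt N13273 (iv2 D42494)) (tt N50133 (iv3 F138959)) (tt N50398 (iv4 F139634)) (tt N50410 D90747) (tt N50411 D90748) (tt N45174 (iv7 F205433)))
theorem Q26617 : ∀ i, i < 26617 → P i := stepQ 26616 Q26616 (allL N26616 (tt N50412 D90749) (tt N50413 D90750) (tt N50410 (iv2 F139676)) (tt N13274 F65632) (tt N50414 D90751) (tt N13273 (iv5 D42495)) (tt N50415 D90752) (tt N50137 (iv7 F139016)))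
theorem Q26618 : ∀ i, i < 26618 → P i := stepQ 26617 Q26617 (allL N26617 (tt N49322 F292481) (tt N50416 D90754) (tt N50411 (iv2 F139677)) (tt N13275 F65633) (tt N29461 (iv4 F76242)) (tt N50417 D90755) (tt N13273 (iv6 D42496)) (tt N27175 (iv7 F69089)))
theorem Q26619 : ∀ i, i < 26619 → P i := stepQ 26618 Q26618 (allL N26618 (tt N13282 (iv1 F65634)) (tt N13274 (iv0 D42497)) (tt N28553 F290890) (tt N50418 D90756) (tt N50419 D90757) (tt N26267 F65635) (tt N50420 D90758) (tt N28555 F290891))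
theorem Q26620 : ∀ i, i < 26620 → P i := stepQ 26619 Q26619 (allL N26619 (tt N13274 (iv1 D42498)) (tt N13282 F65983) (tt N28555 F290914) (tt N50421 D90759) (tt N50422 D90760) (tt N27266 (iv5 F69468)) (tt N50423 D90761) (tt N28553 F290915))
theorem Q26621 : ∀ i, i < 26621 → P i := stepQ 26620 Q26620 (allL N26620 (tt N50328 (iv1 F139544)) (tt N50330 (iv0 F139546)) (tt N50135 (iv2 F138974)) (tt N50424 D90762) (tt N13274 (iv4 D42499)) (tt N50391 (iv5 F139619)) (tt N50425 D90763) (tt N50138 (iv7 F139020)))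
theorem Q26622 : ∀ i, i < 26622 → P i := stepQ 26621 Q26621 (allL N26621 (tt N50426 D90764) (tt N50427 D90765) (tt N50136 (iv2 F138976)) (tt N50415 (iv3 F139678)) (tt N50425 (iv4 F139690)) (tt N50428 D90766) (tt N13274 (iv6 D42500)) (tt N50429 D90767))
theorem Q26623 : ∀ i, i < 26623 → P i := stepQ 26622 Q26622 (allL N26622 (tt N13275 (iv1 D42501)) (tt N14683 F292410) (tt N27174 F69086) (tt N49296 F292411) (tt N29010 (iv4 F74807)) (tt N27169 (iv5 F69077)) (tt N26994 F68401) (tt N26885 F68121))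
theorem Q26624 : ∀ i, i < 26624 → P i := stepQ 26623 Q26623 (allL N26623 (tt N26086 F65984) (tt N49357 (iv0 F290735)) (tt N27187 (iv2 F69124)) (tt N50417 (iv3 F139679)) (tt N50430 D90770) (tt N13275 (iv5 D42502)) (tt N50428 (iv6 F139691)) (tt N27176 (iv7 F69090)))
theorem Q26625 : ∀ i, i < 26625 → P i := stepQ 26624 Q26624 (allL N26624 (tt N27576 (iv1 F291836)) (tt N27575 (iv0 F291838)) (tt N26723 (iv2 F66937)) (tt N50431 D90771) (tt N13276 (iv4 D42503)) (tt N28259 (iv5 F291840)) (tt N26405 F65985) (tt N14029 (iv7 F291841)))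
theorem Q26626 : ∀ i, i < 26626 → P i := stepQ 26625 Q26625 (allL N26625 (tt N13284 (iv1 F65987)) (tt N13277 (iv0 D42505)) (tt N28535 (iv2 F291288)) (tt N50432 D90775) (tt N26272 F65986) (tt N28228 (iv5 F291849)) (tt N49427 F291163) (tt N14019 (iv7 F291850)))
theorem Q26627 : ∀ i, i < 26627 → P i := stepQ 26626 Q26626 (allL N26626 (tt N50433 D90780) (tt N50434 D90781) (tt N50435 D90782) (tt N13277 (iv3 D42507)) (tt N49626 (iv4 F293859)) (tt N50436 D90783) (tt N34802 F335610) (tt N49799 F292901))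
theorem Q26628 : ∀ i, i < 26628 → P i := stepQ 26627 Q26627 (allL N26627 (tt N14236 (iv1 F293358)) (tt N14234 (iv0 F293355)) (tt N49841 F292902) (tt N50436 (iv3 F139718)) (tt N50392 (iv4 F139624)) (tt N13277 (iv5 D42508)) (tt N50437 D90786) (tt N49801 F292903))
theorem Q26629 : ∀ i, i < 26629 → P i := stepQ 26628 Q26628 (allL N26628 (tt N50215 (iv1 F157736)) (tt N50438 D90790) (tt N50439 D90791) (tt N13278 (iv3 D42516)) (tt N13281 F65997) (tt N50440 D90792) (tt N50441 D90793) (tt N14182 F65998))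
theorem Q26630 : ∀ i, i < 26630 → P i := stepQ 26629 Q26629 (allL N26629 (tt N27007 F292281) (tt N27002 F292282) (tt N14186 F65999) (tt N50440 (iv3 F139733)) (tt N50442 D90794) (tt N13278 (iv5 D42517)) (tt N50443 D90795) (tt N14183 F66000))
theorem Q26631 : ∀ i, i < 26631 → P i := stepQ 26630 Q26630 (allL N26630 (tt N13302 (iv1 F290941)) (tt N14474 (iv0 F66675)) (tt N14187 F66002) (tt N50441 (iv3 F139735)) (tt N13280 F66003) (tt N49831 (iv5 F137363)) (tt N13278 (iv6 D42518)) (tt N26499 F290898))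
theorem Q26632 : ∀ i, i < 26632 → P i := stepQ 26631 Q26631 (allL N26631 (tt N13279 (iv1 D42520)) (tt N26813 F291235) (tt N28480 F291236) (tt N13322 F66361) (tt N28462 (iv4 F73893)) (tt N14598 (iv5 F291499)) (tt N26302 (iv6 F66358)) (tt N13748 F291237))
theorem Q26633 : ∀ i, i < 26633 → P i := stepQ 26632 Q26632 (allL N26632 (tt N27009 (iv1 F290809)) (tt N27003 (iv0 F290807)) (tt N27172 (iv2 F290812)) (tt N50444 D90800) (tt N13279 (iv4 D42521)) (tt N50445 D90801) (tt N49421 (iv6 F290830)) (tt N26825 F290658))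
theorem Q26634 : ∀ i, i < 26634 → P i := stepQ 26633 Q26633 (allL N26633 (tt N26889 F134003) (tt N13496 (iv0 F290731)) (tt N27070 (iv2 F290732)) (tt N13285 F66006) (tt N26499 (iv4 F290733)) (tt N27005 (iv5 F68437)) (tt N14682 F294489) (tt N13280 (iv7 D42526)))
theorem Q26635 : ∀ i, i < 26635 → P i := stepQ 26634 Q26634 (allL N26634 (tt N13281 (iv1 D42528)) (tt N50133 F138963) (tt N50132 F138955) (tt N26854 (iv3 F68014)) (tt N27055 (iv4 F68610)) (tt N50446 D90806) (tt N26988 F68394) (tt N26873 F68093))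
theorem Q26636 : ∀ i, i < 26636 → P i := stepQ 26635 Q26635 (allL N26635 (tt N26873 (iv1 F138958)) (tt N50132 F138956) (tt N13281 (iv2 D42529)) (tt N45174 (iv3 F205430)) (tt N50439 (iv4 F139728)) (tt N50447 D90807) (tt N50448 D90808) (tt N50133 (iv7 F138961)))
theorem Q26637 : ∀ i, i < 26637 → P i := stepQ 26636 Q26636 (allL N26636 (tt N50449 D90809) (tt N50450 D90810) (tt N50447 (iv2 F139790)) (tt N13282 F66007) (tt N50451 D90811) (tt N13281 (iv5 D42530)) (tt N50452 D90812) (tt N50134 (iv7 F138965)))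
theorem Q26638 : ∀ i, i < 26638 → P i := stepQ 26637 Q26637 (allL N26637 (tt N50453 D90813) (tt N49061 (iv0 F135139)) (tt N50448 (iv2 F139791)) (tt N13283 F66008) (tt N50441 (iv4 F139736)) (tt N50454 D90814) (tt N13281 (iv6 D42531)) (tt N50455 D90815))
theorem Q26639 : ∀ i, i < 26639 → P i := stepQ 26638 Q26638 (allL N26638 (tt N50330 (iv1 F139547)) (tt N50328 (iv0 F139543)) (tt N50138 (iv2 F139019)) (tt N50456 D90816) (tt N13282 (iv4 D42532)) (tt N50392 (iv5 F139623)) (tt N50457 D90817) (tt N50135 (iv7 F138975)))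
theorem Q26640 : ∀ i, i < 26640 → P i := stepQ 26639 Q26639 (allL N26639 (tt N50458 D90818) (tt N50459 D90819) (tt N50139 (iv2 F139021)) (tt N50452 (iv3 F139792)) (tt N50457 (iv4 F139796)) (tt N50460 D90820) (tt N13282 (iv6 D42533)) (tt N50461 D90821))
theorem Q26641 : ∀ i, i < 26641 → P i := stepQ 26640 Q26640 (allL N26640 (tt N26396 (iv1 F67878)) (tt N26394 F66009) (tt N49803 F290607) (tt N50454 (iv3 F139793)) (tt N50462 D90823) (tt N13283 (iv5 D42536)) (tt N50460 (iv6 F139797)) (tt N50463 D90824))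
theorem Q26642 : ∀ i, i < 26642 → P i := stepQ 26641 Q26641 (allL N26641 (tt N26899 F68163) (tt N26666 (iv0 F290581)) (tt N14478 F290570) (tt N50455 (iv3 F139795)) (tt N13285 F66010) (tt N50463 (iv5 F139802)) (tt N14683 F292495) (tt N13283 (iv7 D42537)))
theorem Q26643 : ∀ i, i < 26643 → P i := stepQ 26642 Q26642 (allL N26642 (tt N49499 (iv1 F292002)) (tt N50464 D90826) (tt N50465 D90827) (tt N13284 (iv3 D42538)) (tt N50444 (iv4 F139767)) (tt N50466 D90828) (tt N49429 (iv6 F292013)) (tt N49838 F291252))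
theorem Q26644 : ∀ i, i < 26644 → P i := stepQ 26643 Q26643 (allL N26643 (tt N14234 (iv1 F293356)) (tt N14236 (iv0 F293357)) (tt N49801 F292300) (tt N50466 (iv3 F139805)) (tt N50391 (iv4 F139620)) (tt N13284 (iv5 D42539)) (tt N50467 D90830) (tt N49841 F292301))
theorem Q26645 : ∀ i, i < 26645 → P i := stepQ 26644 Q26644 (allL N26644 (tt N14083 F291894) (tt N14082 F291895) (tt N13286 (iv2 D42546)) (tt N14201 F291896) (tt N13514 (iv4 F293007)) (tt N48612 (iv5 F133580)) (tt N14146 F291897) (tt N13789 (iv7 F292515)))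
theorem Q26646 : ∀ i, i < 26646 → P i := stepQ 26645 Q26645 (allL N26645 (tt N14600 F293142) (tt N26779 F74002) (tt N48612 F133576) (tt N13288 F66372) (tt N27067 F293143) (tt N13286 (iv5 D42548)) (tt N48611 F133572) (tt N13622 F66373))
theorem Q26647 : ∀ i, i < 26647 → P i := stepQ 26646 Q26646 (allL N26646 (tt N28408 (iv1 F295001)) (tt N28404 (iv0 F295002)) (tt N40131 F329521) (tt N13287 (iv3 D42551)) (tt N25812 (iv4 F294395)) (tt N40061 (iv5 F329713)) (tt N14173 F294347) (tt N14084 F294348))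
theorem Q26648 : ∀ i, i < 26648 → P i := stepQ 26647 Q26647 (allL N26647 (tt N14239 F293165) (tt N14238 F293166) (tt N14241 F293167) (tt N40061 F329788) (tt N50385 (iv4 F139616)) (tt N13287 (iv5 D42552)) (tt N40060 F329789) (tt N14088 F293168))
theorem Q26649 : ∀ i, i < 26649 → P i := stepQ 26648 Q26648 (allL N26648 (tt N14249 F291278) (tt N14248 F291279) (tt N14252 F291280) (tt N50468 D90851) (tt N13288 (iv4 D42554)) (tt N50169 (iv5 F139145)) (tt N48623 (iv6 F133600)) (tt N13625 F66379))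
theorem Q26650 : ∀ i, i < 26650 → P i := stepQ 26649 Q26649 (allL N26649 (tt N50469 D90871) (tt N50470 D90872) (tt N50471 D90873) (tt N13289 (iv3 D42567)) (tt N29200 F293986) (tt N50472 D90875) (tt N14270 F293987) (tt N14100 F293988))
theorem Q26651 : ∀ i, i < 26651 → P i := stepQ 26650 Q26650 (allL N26650 (tt N13476 F291886) (tt N13415 F291887) (tt N13475 (iv2 F292287)) (tt N25739 F291888) (tt N13289 (iv4 D42568)) (tt N26271 (iv5 F71738)) (tt N14272 F291889) (tt N13385 (iv7 F292305)))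
theorem Q26652 : ∀ i, i < 26652 → P i := stepQ 26651 Q26651 (allL N26651 (tt N14304 F293224) (tt N14303 F293225) (tt N14306 F293226) (tt N50472 (iv3 F139876)) (tt N50377 (iv4 F139611)) (tt N13289 (iv5 D42569)) (tt N50473 D90879) (tt N14102 F293227))
theorem Q26653 : ∀ i, i < 26653 → P i := stepQ 26652 Q26652 (allL N26652 (tt N14243 (iv1 F293353)) (tt N13290 (iv0 D42581)) (tt N29326 (iv2 F293222)) (tt N50474 D90912) (tt N50356 (iv4 F139593)) (tt N27575 F292898) (tt N50475 D90913) (tt N29325 F292899))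
theorem Q26654 : ∀ i, i < 26654 → P i := stepQ 26653 Q26653 (allL N26653 (tt N13290 (iv1 D42582)) (tt N14243 (iv0 F293352)) (tt N29325 F292896) (tt N50476 D90914) (tt N50335 F139552) (tt N27576 F292897) (tt N50477 D90915) (tt N29326 (iv7 F293223)))
theorem Q26655 : ∀ i, i < 26655 → P i := stepQ 26654 Q26654 (allL N26654 (tt N50392 (iv1 F139622)) (tt N50391 F139621) (tt N50142 (iv2 F139063)) (tt N50478 D90916) (tt N13290 (iv4 D42583)) (tt N50129 (iv5 F138947)) (tt N50479 D90917) (tt N29327 F294353))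
theorem Q26656 : ∀ i, i < 26656 → P i := stepQ 26655 Q26655 (allL N26655 (tt N50480 D90918) (tt N50481 D90919) (tt N50143 (iv2 F139066)) (tt N26717 (iv3 F295006)) (tt N50479 (iv4 F139922)) (tt N13318 F66418) (tt N13290 (iv6 D42584)) (tt N50482 D90920))
theorem Q26657 : ∀ i, i < 26657 → P i := stepQ 26656 Q26656 (allL N26656 (tt N34657 (iv1 F296279)) (tt N34656 (iv0 F296280)) (tt N25987 F66447) (tt N45821 (iv3 F296167)) (tt N44701 (iv4 F112905)) (tt N26656 F66448) (tt N13292 (iv6 D42619)) (tt N34652 (iv7 F296126)))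
theorem Q26658 : ∀ i, i < 26658 → P i := stepQ 26657 Q26657 (allL N26657 (tt N50483 D90990) (tt N50484 D90991) (tt N50485 D90992) (tt N13294 (iv3 D42621)) (tt N13296 F66451) (tt N50486 D90993) (tt N27162 F291883) (tt N14035 (iv7 F291984)))
theorem Q26659 : ∀ i, i < 26659 → P i := stepQ 26658 Q26658 (allL N26658 (tt N25969 F66455) (tt N26000 F66456) (tt N25998 F66453) (tt N50486 (iv3 F140027)) (tt N44697 (iv4 F112886)) (tt N13294 (iv5 D42622)) (tt N50487 D90995) (tt N14037 F291527))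
theorem Q26660 : ∀ i, i < 26660 → P i := stepQ 26659 Q26659 (allL N26659 (tt N50488 D91000) (tt N50489 D91001) (tt N50490 D91002) (tt N13295 (iv3 D42627)) (tt N25595 F66461) (tt N26706 (iv5 F66917)) (tt N26142 F293931) (tt N13504 F66462))
theorem Q26661 : ∀ i, i < 26661 → P i := stepQ 26660 Q26660 (allL N26660 (tt N14049 (iv1 F294133)) (tt N13296 (iv0 D42632)) (tt N14055 (iv2 F294139)) (tt N50491 D91009) (tt N50492 D91010) (tt N50493 D91011) (tt N49823 (iv6 F294850)) (tt N14054 (iv7 F294137)))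
theorem Q26662 : ∀ i, i < 26662 → P i := stepQ 26661 Q26661 (allL N26661 (tt N13296 (iv1 D42633)) (tt N14049 (iv0 F294132)) (tt N14054 (iv2 F294136)) (tt N25531 (iv3 F294851)) (tt N13554 (iv4 F294675)) (tt N50494 D91016) (tt N49814 (iv6 F294852)) (tt N14055 (iv7 F294140)))
theorem Q26663 : ∀ i, i < 26663 → P i := stepQ 26662 Q26662 (allL N26662 (tt N14055 (iv1 F294138)) (tt N14054 (iv0 F294135)) (tt N13296 (iv2 D42634)) (tt N27025 (iv3 F68491)) (tt N50485 (iv4 F140022)) (tt N50495 D91018) (tt N49493 F293982) (tt N14049 (iv7 F294134)))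
theorem Q26664 : ∀ i, i < 26664 → P i := stepQ 26663 Q26663 (allL N26663 (tt N50496 D91020) (tt N50497 D91021) (tt N50495 (iv2 F140066)) (tt N13297 F66469) (tt N50498 D91022) (tt N13296 (iv5 D42635)) (tt N50499 D91023) (tt N14056 (iv7 F294141)))
theorem Q26665 : ∀ i, i < 26665 → P i := stepQ 26664 Q26664 (allL N26664 (tt N50500 D91028) (tt N50501 D91029) (tt N27027 (iv2 F68499)) (tt N50499 (iv3 F140068)) (tt N26131 F295269) (tt N38802 (iv5 F324641)) (tt N13297 (iv6 D42637)) (tt N50502 D91031))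
theorem Q26666 : ∀ i, i < 26666 → P i := stepQ 26665 Q26665 (allL N26665 (tt N50503 D91045) (tt N50504 D91046) (tt N50505 D91047) (tt N13298 (iv3 D42645)) (tt N13300 F66477) (tt N49369 (iv5 F136169)) (tt N50506 D91048) (tt N25988 F66478))
theorem Q26667 : ∀ i, i < 26667 → P i := stepQ 26666 Q26666 (allL N26666 (tt N26641 F290581) (tt N26262 (iv0 F66481)) (tt N25992 F66479) (tt N50506 (iv3 F140086)) (tt N13299 F66480) (tt N26398 (iv5 F290619)) (tt N13298 (iv6 D42646)) (tt N26488 F290582))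
theorem Q26668 : ∀ i, i < 26668 → P i := stepQ 26667 Q26667 (allL N26667 (tt N27069 F290687) (tt N13299 (iv0 D42647)) (tt N14631 (iv2 F66692)) (tt N28375 (iv3 F290711)) (tt N14479 (iv4 F72216)) (tt N27177 (iv5 F74586)) (tt N14456 (iv6 F290919)) (tt N28372 F290688))
theorem Q26669 : ∀ i, i < 26669 → P i := stepQ 26668 Q26668 (allL N26668 (tt N28372 (iv1 F290617)) (tt N14631 (iv0 F74589)) (tt N27069 (iv2 F290609)) (tt N13304 F66693) (tt N26488 F290580) (tt N13435 F66694) (tt N13592 (iv6 F290618)) (tt N13299 (iv7 D42649)))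
theorem Q26670 : ∀ i, i < 26670 → P i := stepQ 26669 Q26669 (allL N26669 (tt N26836 (iv1 F67964)) (tt N13300 (iv0 D42650)) (tt N26835 (iv2 F137507)) (tt N50507 D91051) (tt N50318 (iv4 F292351)) (tt N50496 (iv5 F294854)) (tt N14224 (iv6 F292354)) (tt N26834 (iv7 F137509)))
theorem Q26671 : ∀ i, i < 26671 → P i := stepQ 26670 Q26670 (allL N26670 (tt N13300 (iv1 D42651)) (tt N26836 F67966) (tt N26834 F137508) (tt N25906 (iv3 F292355)) (tt N49275 (iv4 F292356)) (tt N50497 (iv5 F294858)) (tt N29040 (iv6 F292359)) (tt N26835 F137506))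
theorem Q26672 : ∀ i, i < 26672 → P i := stepQ 26671 Q26671 (allL N26671 (tt N26835 (iv1 F67965)) (tt N26834 F67961) (tt N13300 (iv2 D42652)) (tt N27073 (iv3 F68893)) (tt N50505 (iv4 F140081)) (tt N50508 D91058) (tt N50509 D91059) (tt N26836 (iv7 F67963)))
theorem Q26673 : ∀ i, i < 26673 → P i := stepQ 26672 Q26672 (allL N26672 (tt N28162 (iv1 F292360)) (tt N28164 (iv0 F292361)) (tt N50508 (iv2 F140102)) (tt N13301 F66695) (tt N50510 D91062) (tt N13300 (iv5 D42653)) (tt N50511 D91063) (tt N26837 (iv7 F67968)))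
theorem Q26674 : ∀ i, i < 26674 → P i := stepQ 26673 Q26673 (allL N26673 (tt N50512 D91064) (tt N49158 (iv0 F290948)) (tt N50509 (iv2 F140103)) (tt N13302 F66696) (tt N50506 (iv4 F140087)) (tt N50513 D91066) (tt N13300 (iv6 D42654)) (tt N50514 D91067))
theorem Q26675 : ∀ i, i < 26675 → P i := stepQ 26674 Q26674 (allL N26674 (tt N50515 D91068) (tt N50516 D91069) (tt N27075 (iv2 F68900)) (tt N50511 (iv3 F140105)) (tt N26685 (iv4 F66891)) (tt N50517 D91070) (tt N13301 (iv6 D42655)) (tt N50518 D91071))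
theorem Q26676 : ∀ i, i < 26676 → P i := stepQ 26675 Q26675 (allL N26675 (tt N14474 F291056) (tt N13302 (iv0 D42656)) (tt N26499 (iv2 F68459)) (tt N49192 F291057) (tt N27070 (iv4 F68883)) (tt N49832 (iv5 F291666)) (tt N14465 (iv6 F291667)) (tt N14187 F291058))
theorem Q26677 : ∀ i, i < 26677 → P i := stepQ 26676 Q26676 (allL N26676 (tt N28049 (iv1 F292110)) (tt N26060 (iv0 F291981)) (tt N26501 F66699) (tt N50513 (iv3 F140106)) (tt N50519 D91079) (tt N13302 (iv5 D42658)) (tt N50517 (iv6 F140109)) (tt N28047 F291471))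
theorem Q26678 : ∀ i, i < 26678 → P i := stepQ 26677 Q26677 (allL N26677 (tt N14187 (iv1 F290939)) (tt N26499 F66704) (tt N14474 (iv2 F290867)) (tt N50514 (iv3 F140107)) (tt N13304 F66701) (tt N28047 (iv5 F290940)) (tt N13928 (iv6 F290848)) (tt N13302 (iv7 D42659)))
theorem Q26679 : ∀ i, i < 26679 → P i := stepQ 26678 Q26678 (allL N26678 (tt N13310 (iv1 F66707)) (tt N14412 F291376) (tt N14197 F291377) (tt N50520 D91081) (tt N13303 (iv4 D42660)) (tt N49743 (iv5 F292187)) (tt N14080 (iv6 F292132)) (tt N26498 F66706))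
theorem Q26680 : ∀ i, i < 26680 → P i := stepQ 26679 Q26679 (allL N26679 (tt N50151 (iv1 F139091)) (tt N13305 (iv0 D42661)) (tt N50150 (iv2 F357549)) (tt N50521 D91084) (tt N50522 D91085) (tt N49561 (iv5 F357558)) (tt N50523 D91087) (tt N50149 (iv7 F357543)))
theorem Q26681 : ∀ i, i < 26681 → P i := stepQ 26680 Q26680 (allL N26680 (tt N13305 (iv1 D42662)) (tt N50151 F139093) (tt N50149 (iv2 F357542)) (tt N50524 D91089) (tt N50525 D91090) (tt N49562 (iv5 F357554)) (tt N50470 (iv6 F357552)) (tt N50150 (iv7 F357550)))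
theorem Q26682 : ∀ i, i < 26682 → P i := stepQ 26681 Q26681 (allL N26681 (tt N50150 (iv1 F139092)) (tt N50149 F139088) (tt N13305 (iv2 D42663)) (tt N50146 (iv3 F139074)) (tt N50526 D91093) (tt N50527 D91094) (tt N50528 D91095) (tt N50151 (iv7 F139090)))
theorem Q26683 : ∀ i, i < 26683 → P i := stepQ 26682 Q26682 (allL N26682 (tt N49278 F135733) (tt N50529 D91096) (tt N50526 (iv2 F140140)) (tt N26363 F66888) (tt N13305 (iv4 D42664)) (tt N50530 D91097) (tt N27318 F292817) (tt N48518 (iv7 F133282)))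
theorem Q26684 : ∀ i, i < 26684 → P i := stepQ 26683 Q26683 (allL N26683 (tt N50531 D91099) (tt N50532 D91100) (tt N50527 (iv2 F140142)) (tt N13306 F66889) (tt N50533 D91101) (tt N13305 (iv5 D42665)) (tt N50534 D91102) (tt N50152 (iv7 F139095)))
theorem Q26685 : ∀ i, i < 26685 → P i := stepQ 26684 Q26684 (allL N26684 (tt N14255 (iv1 F292384)) (tt N50535 D91104) (tt N50528 (iv2 F140143)) (tt N13307 F66890) (tt N27318 (iv4 F292383)) (tt N50536 D91105) (tt N13305 (iv6 D42666)) (tt N14410 (iv7 F291722)))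
theorem Q26686 : ∀ i, i < 26686 → P i := stepQ 26685 Q26685 (allL N26685 (tt N50537 D91107) (tt N50538 D91108) (tt N50148 (iv2 F139084)) (tt N50534 (iv3 F140149)) (tt N26674 F66891) (tt N50539 D91109) (tt N13306 (iv6 D42667)) (tt N50540 D91110))
theorem Q26687 : ∀ i, i < 26687 → P i := stepQ 26686 Q26686 (allL N26686 (tt N50047 (iv1 F138611)) (tt N27582 F291508) (tt N14414 (iv2 F291720)) (tt N50536 (iv3 F140150)) (tt N50541 D91111) (tt N13307 (iv5 D42668)) (tt N50539 (iv6 F140152)) (tt N14411 (iv7 F291723)))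
theorem Q26688 : ∀ i, i < 26688 → P i := stepQ 26687 Q26687 (allL N26687 (tt N50146 (iv1 F139077)) (tt N13308 (iv0 D42670)) (tt N50145 (iv2 F338433)) (tt N50542 D91114) (tt N50543 D91115) (tt N50544 D91116) (tt N14295 (iv6 F338430)) (tt N50144 (iv7 F338432)))
theorem Q26689 : ∀ i, i < 26689 → P i := stepQ 26688 Q26688 (allL N26688 (tt N13308 (iv1 D42671)) (tt N50146 F139079) (tt N50144 (iv2 F338431)) (tt N50545 D91119) (tt N50546 D91120) (tt N50547 D91121) (tt N50548 D91122) (tt N50145 (iv7 F338438)))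
theorem Q26690 : ∀ i, i < 26690 → P i := stepQ 26689 Q26689 (allL N26689 (tt N50145 (iv1 F139078)) (tt N50144 F139073) (tt N13308 (iv2 D42672)) (tt N50151 (iv3 F139089)) (tt N27335 (iv4 F70080)) (tt N50549 D91123) (tt N50550 D91124) (tt N50146 (iv7 F139076)))
theorem Q26691 : ∀ i, i < 26691 → P i := stepQ 26690 Q26690 (allL N26690 (tt N50551 D91125) (tt N50552 D91126) (tt N50549 (iv2 F140160)) (tt N13309 F66894) (tt N50553 D91127) (tt N13308 (iv5 D42673)) (tt N50554 D91128) (tt N50147 (iv7 F139081)))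
theorem Q26692 : ∀ i, i < 26692 → P i := stepQ 26691 Q26691 (allL N26691 (tt N50555 D91129) (tt N50556 D91130) (tt N50550 (iv2 F140161)) (tt N13310 F66895) (tt N27329 (iv4 F70069)) (tt N50557 D91131) (tt N13308 (iv6 D42674)) (tt N50558 D91132))
theorem Q26693 : ∀ i, i < 26693 → P i := stepQ 26692 Q26692 (allL N26692 (tt N50559 D91133) (tt N50560 D91134) (tt N50154 (iv2 F139097)) (tt N50554 (iv3 F140163)) (tt N26415 F66896) (tt N50561 D91135) (tt N13309 (iv6 D42675)) (tt N50562 D91136))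
theorem Q26694 : ∀ i, i < 26694 → P i := stepQ 26693 Q26693 (allL N26693 (tt N26225 (iv1 F292650)) (tt N25962 (iv0 F292653)) (tt N26232 (iv2 F291784)) (tt N50557 (iv3 F140164)) (tt N50563 D91138) (tt N13310 (iv5 D42676)) (tt N50561 (iv6 F140166)) (tt N26233 (iv7 F292286)))
theorem Q26695 : ∀ i, i < 26695 → P i := stepQ 26694 Q26694 (allL N26694 (tt N14197 F291436) (tt N26498 F66898) (tt N14412 F291437) (tt N50558 (iv3 F140165)) (tt N14624 F291438) (tt N26233 (iv5 F292285)) (tt N13925 F291439) (tt N13310 (iv7 D42677)))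
theorem Q26696 : ∀ i, i < 26696 → P i := stepQ 26695 Q26695 (allL N26695 (tt N50545 (iv1 F362647)) (tt N50564 D91146) (tt N50565 D91147) (tt N13311 (iv3 D42680)) (tt N29072 F74984) (tt N50566 D91148) (tt N25692 (iv6 F292620)) (tt N50567 D91150))
theorem Q26697 : ∀ i, i < 26697 → P i := stepQ 26696 Q26696 (allL N26696 (tt N27935 F293525) (tt N13756 (iv0 F294003)) (tt N14141 (iv2 F294393)) (tt N14449 F293526) (tt N13311 (iv4 D42681)) (tt N27955 (iv5 F294378)) (tt N13932 (iv6 F294483)) (tt N27955 (iv7 F294379)))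
theorem Q26698 : ∀ i, i < 26698 → P i := stepQ 26697 Q26697 (allL N26697 (tt N27191 (iv1 F294566)) (tt N13507 F140190) (tt N25855 (iv2 F294394)) (tt N50566 (iv3 F140195)) (tt N50568 D91153) (tt N13311 (iv5 D42682)) (tt N50569 D91154) (tt N27194 (iv7 F294381)))
theorem Q26699 : ∀ i, i < 26699 → P i := stepQ 26698 Q26698 (allL N26698 (tt N13313 F135694) (tt N13315 F135695) (tt N13312 F66904) (tt N50567 (iv3 F140197)) (tt N27955 (iv4 F294377)) (tt N27194 (iv5 F294380)) (tt N25848 (iv6 F294382)) (tt N13311 (iv7 D42684)))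
theorem Q26700 : ∀ i, i < 26700 → P i := stepQ 26699 Q26699 (allL N26699 (tt N50570 D91161) (tt N50521 (iv0 F288890)) (tt N50571 D91163) (tt N13312 (iv3 D42685)) (tt N29008 F294493) (tt N50572 D91165) (tt N28961 (iv6 F295082)) (tt N25852 F294494))
theorem Q26701 : ∀ i, i < 26701 → P i := stepQ 26700 Q26700 (allL N26700 (tt N13507 F133756) (tt N27191 F294837) (tt N27194 F294838) (tt N50572 (iv3 F140219)) (tt N50573 D91168) (tt N13312 (iv5 D42687)) (tt N50574 D91169) (tt N25855 F294839))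
theorem Q26702 : ∀ i, i < 26702 → P i := stepQ 26701 Q26701 (allL N26701 (tt N13948 F294767) (tt N27041 F68854) (tt N13314 F66909) (tt N50162 (iv3 F139106)) (tt N50575 D91174) (tt N13313 (iv5 D42691)) (tt N50576 D91175) (tt N48748 F294768))
theorem Q26703 : ∀ i, i < 26703 → P i := stepQ 26702 Q26702 (allL N26702 (tt N13314 (iv1 D42693)) (tt N48748 F294736) (tt N27041 (iv2 F141303)) (tt N50577 D91181) (tt N50578 D91182) (tt N13585 F294737) (tt N50579 D91183) (tt N13948 F294738))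
theorem Q26704 : ∀ i, i < 26704 → P i := stepQ 26703 Q26703 (allL N26703 (tt N25641 (iv1 F295288)) (tt N48739 (iv0 F295289)) (tt N50575 (iv2 F140223)) (tt N50580 D91186) (tt N13314 (iv4 D42694)) (tt N48744 (iv5 F295292)) (tt N50581 D91188) (tt N50582 D91189))
theorem Q26705 : ∀ i, i < 26705 → P i := stepQ 26704 Q26704 (allL N26704 (tt N50583 D91190) (tt N50584 D91191) (tt N50576 (iv2 F140225)) (tt N13318 F66910) (tt N50581 (iv4 F140235)) (tt N26717 (iv5 F295007)) (tt N13314 (iv6 D42695)) (tt N50585 D91192))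
theorem Q26706 : ∀ i, i < 26706 → P i := stepQ 26705 Q26705 (allL N26705 (tt N27041 (iv1 F68855)) (tt N13948 (iv0 F294669)) (tt N48748 (iv2 F294565)) (tt N13319 F66911) (tt N50582 (iv4 F140237)) (tt N13315 F66912) (tt N50586 D91193) (tt N13314 (iv7 D42696)))
theorem Q26707 : ∀ i, i < 26707 → P i := stepQ 26706 Q26706 (allL N26706 (tt N50544 (iv1 F338428)) (tt N50547 (iv0 F338444)) (tt N50587 D91208) (tt N13316 (iv3 D42700)) (tt N50588 D91209) (tt N26659 F66917) (tt N50589 D91210) (tt N27039 (iv7 F68561)))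
theorem Q26708 : ∀ i, i < 26708 → P i := stepQ 26707 Q26707 (allL N26707 (tt N50590 D91211) (tt N50591 D91212) (tt N27034 (iv2 F68556)) (tt N50589 (iv3 F140248)) (tt N26073 F295114) (tt N49603 F294781) (tt N13316 (iv6 D42701)) (tt N50592 D91214))
theorem Q26709 : ∀ i, i < 26709 → P i := stepQ 26708 Q26708 (allL N26708 (tt N50593 D91215) (tt N50594 D91216) (tt N50595 D91217) (tt N13317 (iv3 D42702)) (tt N50580 (iv4 F140230)) (tt N26408 F66919) (tt N50596 D91218) (tt N26470 F66920))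
theorem Q26710 : ∀ i, i < 26710 → P i := stepQ 26709 Q26709 (allL N26709 (tt N50597 D91219) (tt N50598 D91220) (tt N26713 (iv2 F66922)) (tt N50596 (iv3 F140258)) (tt N13318 F66921) (tt N50599 D91221) (tt N13317 (iv6 D42703)) (tt N50600 D91222))
theorem Q26711 : ∀ i, i < 26711 → P i := stepQ 26710 Q26710 (allL N26710 (tt N50168 (iv1 F139112)) (tt N13318 (iv0 D42704)) (tt N50166 F371037) (tt N50601 D91224) (tt N50602 D91225) (tt N50603 D91226) (tt N50604 D91227) (tt N50167 (iv7 F371039)))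
theorem Q26712 : ∀ i, i < 26712 → P i := stepQ 26711 Q26711 (allL N26711 (tt N13318 (iv1 D42705)) (tt N50168 F139111) (tt N50167 (iv2 F371038)) (tt N50605 D91229) (tt N50606 D91230) (tt N50607 D91231) (tt N50608 D91232) (tt N50166 (iv7 F371036)))
theorem Q26713 : ∀ i, i < 26713 → P i := stepQ 26712 Q26712 (allL N26712 (tt N50167 (iv1 F139108)) (tt N50166 F139110) (tt N50168 (iv2 F139109)) (tt N50585 (iv3 F140238)) (tt N50600 (iv4 F140260)) (tt N50482 (iv5 F139923)) (tt N50609 D91233) (tt N13318 (iv7 D42706)))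
theorem Q26714 : ∀ i, i < 26714 → P i := stepQ 26713 Q26713 (allL N26713 (tt N50610 D91234) (tt N50611 D91235) (tt N26709 F66922) (tt N50586 (iv3 F140239)) (tt N26471 F66923) (tt N49685 F294661) (tt N13319 (iv6 D42707)) (tt N50609 (iv7 F140266)))
theorem Q26715 : ∀ i, i < 26715 → P i := stepQ 26714 Q26714 (allL N26714 (tt N26727 (iv1 F66979)) (tt N13321 (iv0 D42721)) (tt N26733 F69661) (tt N50612 D91270) (tt N50613 D91271) (tt N14603 F293840) (tt N50614 D91272) (tt N26732 (iv7 F69662)))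
theorem Q26716 : ∀ i, i < 26716 → P i := stepQ 26715 Q26715 (allL N26715 (tt N13321 (iv1 D42722)) (tt N26727 F66978) (tt N26732 (iv2 F69664)) (tt N50615 D91273) (tt N50616 D91274) (tt N14604 F291817) (tt N50617 D91275) (tt N26733 F69663))
theorem Q26717 : ∀ i, i < 26717 → P i := stepQ 26716 Q26716 (allL N26716 (tt N50618 D91276) (tt N50619 D91277) (tt N48898 (iv2 F134793)) (tt N33301 (iv3 F331062)) (tt N13321 (iv4 D42723)) (tt N50620 D91279) (tt N33299 F331054) (tt N26734 (iv7 F67001)))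
theorem Q26718 : ∀ i, i < 26718 → P i := stepQ 26717 Q26717 (allL N26717 (tt N50621 D91281) (tt N50622 D91282) (tt N48899 (iv2 F134794)) (tt N26655 F295006) (tt N33299 F331053) (tt N26704 F295007) (tt N13321 (iv6 D42724)) (tt N40692 (iv7 F331061)))
theorem Q26719 : ∀ i, i < 26719 → P i := stepQ 26718 Q26718 (allL N26718 (tt N29199 (iv1 F75190)) (tt N27774 F292247) (tt N26739 (iv2 F67023)) (tt N50623 D91286) (tt N13322 (iv4 D42726)) (tt N50624 D91287) (tt N26307 F66933) (tt N13752 F292248))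
theorem Q26720 : ∀ i, i < 26720 → P i := stepQ 26719 Q26719 (allL N26719 (tt N27774 F292252) (tt N29199 F75191) (tt N13752 F292253) (tt N50625 D91289) (tt N13323 (iv4 D42728)) (tt N50626 D91290) (tt N13683 (iv6 F293047)) (tt N26739 (iv7 F67024)))
theorem Q26721 : ∀ i, i < 26721 → P i := stepQ 26720 Q26720 (allL N26720 (tt N26729 (iv1 F66985)) (tt N13324 (iv0 D42729)) (tt N26740 F75181) (tt N50627 D91291) (tt N28370 (iv4 F73718)) (tt N14588 (iv5 F291424)) (tt N49892 (iv6 F291285)) (tt N13739 (iv7 F291404)))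
theorem Q26722 : ∀ i, i < 26722 → P i := stepQ 26721 Q26721 (allL N26721 (tt N13324 (iv1 D42730)) (tt N26729 F66984) (tt N13739 (iv2 F291403)) (tt N41095 F299843) (tt N13568 (iv4 F291146)) (tt N14589 (iv5 F291425)) (tt N13566 (iv6 F291147)) (tt N26740 F75183))
theorem Q26723 : ∀ i, i < 26723 → P i := stepQ 26722 Q26722 (allL N26722 (tt N29227 (iv1 F291426)) (tt N26977 (iv0 F291427)) (tt N29279 (iv2 F291405)) (tt N26354 (iv3 F291408)) (tt N50628 D91302) (tt N13324 (iv5 D42732)) (tt N50629 D91303) (tt N26741 (iv7 F67029)))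
theorem Q26724 : ∀ i, i < 26724 → P i := stepQ 26723 Q26723 (allL N26723 (tt N28125 (iv1 F291489)) (tt N26231 (iv0 F292148)) (tt N26624 F66937) (tt N14606 F293220) (tt N13325 (iv4 D42734)) (tt N14303 (iv5 F292150)) (tt N26201 F291355) (tt N13763 (iv7 F292151)))
theorem Q26725 : ∀ i, i < 26725 → P i := stepQ 26724 Q26724 (allL N26724 (tt N50630 D91341) (tt N14232 (iv0 F66960)) (tt N50631 D91342) (tt N13326 (iv3 D42747)) (tt N29180 (iv4 F75137)) (tt N50632 D91343) (tt N25758 F66958) (tt N14617 F66959))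
theorem Q26726 : ∀ i, i < 26726 → P i := stepQ 26725 Q26725 (allL N26725 (tt N25731 (iv1 F66963)) (tt N25730 F66964) (tt N25733 F66961) (tt N50632 (iv3 F140427)) (tt N50633 D91344) (tt N13326 (iv5 D42748)) (tt N50634 D91345) (tt N14621 F66962))
theorem Q26727 : ∀ i, i < 26727 → P i := stepQ 26726 Q26726 (allL N26726 (tt N14110 F177417) (tt N50140 (iv0 F293970)) (tt N14242 F66973) (tt N13327 (iv3 D42750)) (tt N26726 F66974) (tt N50635 D91350) (tt N50636 D91351) (tt N25734 F66975))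
theorem Q26728 : ∀ i, i < 26728 → P i := stepQ 26727 Q26727 (allL N26727 (tt N26715 (iv1 F66978)) (tt N26714 F66979) (tt N13331 F66976) (tt N50635 (iv3 F140447)) (tt N50637 D91352) (tt N13327 (iv5 D42751)) (tt N50638 D91353) (tt N25735 F66977))
theorem Q26729 : ∀ i, i < 26729 → P i := stepQ 26728 Q26728 (allL N26728 (tt N25583 F291458) (tt N14329 F70676) (tt N13332 F66980) (tt N50636 (iv3 F140450)) (tt N13329 F66981) (tt N49620 (iv5 F136956)) (tt N13327 (iv6 D42752)) (tt N27327 F291459))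
theorem Q26730 : ∀ i, i < 26730 → P i := stepQ 26729 Q26729 (allL N26729 (tt N26721 (iv1 F66984)) (tt N26720 F66985) (tt N13334 F66982) (tt N50639 D91355) (tt N13328 (iv4 D42753)) (tt N50640 D91356) (tt N26318 F291407) (tt N25736 F66983))
theorem Q26731 : ∀ i, i < 26731 → P i := stepQ 26730 Q26730 (allL N26730 (tt N46747 (iv1 F126426)) (tt N46746 F126431) (tt N40138 F329520) (tt N13330 (iv3 D42755)) (tt N14173 F66991) (tt N50641 D91358) (tt N25812 F66992) (tt N14149 F66993))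
theorem Q26732 : ∀ i, i < 26732 → P i := stepQ 26731 Q26731 (allL N26731 (tt N14605 F293486) (tt N25802 F66997) (tt N25804 F66994) (tt N50641 (iv3 F140476)) (tt N50642 D91359) (tt N13330 (iv5 D42756)) (tt N50643 D91360) (tt N14151 F66995))
theorem Q26733 : ∀ i, i < 26733 → P i := stepQ 26732 Q26732 (allL N26732 (tt N25735 (iv1 F66998)) (tt N13331 (iv0 D42757)) (tt N26715 F69664) (tt N50644 D91361) (tt N50645 D91362) (tt N29233 F292830) (tt N50646 D91364) (tt N26714 F69662))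
theorem Q26734 : ∀ i, i < 26734 → P i := stepQ 26733 Q26733 (allL N26733 (tt N13331 (iv1 D42758)) (tt N25735 F66999) (tt N26714 (iv2 F69661)) (tt N50647 D91365) (tt N50648 D91366) (tt N25545 F67000) (tt N50649 D91367) (tt N26715 (iv7 F69663)))
theorem Q26735 : ∀ i, i < 26735 → P i := stepQ 26734 Q26734 (allL N26734 (tt N50650 D91368) (tt N50651 D91369) (tt N50637 (iv2 F140452)) (tt N50652 D91370) (tt N13331 (iv4 D42759)) (tt N50653 D91371) (tt N50654 D91372) (tt N26716 F67001))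
theorem Q26736 : ∀ i, i < 26736 → P i := stepQ 26735 Q26735 (allL N26735 (tt N50655 D91373) (tt N35103 F308579) (tt N50638 (iv2 F140457)) (tt N29328 (iv3 F75655)) (tt N50654 (iv4 F140511)) (tt N50656 D91375) (tt N13331 (iv6 D42760)) (tt N50657 D91376))
theorem Q26737 : ∀ i, i < 26737 → P i := stepQ 26736 Q26736 (allL N26736 (tt N27327 (iv1 F291001)) (tt N13332 (iv0 D42761)) (tt N25583 (iv2 F291002)) (tt N50658 D91377) (tt N24223 F290708) (tt N26166 F75202) (tt N14679 (iv6 F291003)) (tt N14329 F75203))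
theorem Q26738 : ∀ i, i < 26738 → P i := stepQ 26737 Q26737 (allL N26737 (tt N13332 (iv1 D42762)) (tt N27327 F291368) (tt N14329 (iv2 F67004)) (tt N50659 D91379) (tt N14471 (iv4 F67002)) (tt N26167 F67005) (tt N14314 F67003) (tt N25583 F291369))
theorem Q26739 : ∀ i, i < 26739 → P i := stepQ 26738 Q26738 (allL N26738 (tt N49613 (iv1 F136924)) (tt N49611 (iv0 F136919)) (tt N49620 F136958) (tt N28999 (iv3 F74773)) (tt N50660 D91380) (tt N13332 (iv5 D42763)) (tt N50656 (iv6 F140512)) (tt N29463 (iv7 F292055)))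
theorem Q26740 : ∀ i, i < 26740 → P i := stepQ 26739 Q26739 (allL N26739 (tt N27552 (iv1 F292366)) (tt N27436 F292165) (tt N26718 F67023) (tt N50661 D91385) (tt N13333 (iv4 D42769)) (tt N48914 (iv5 F293229)) (tt N26336 F292166) (tt N26719 F67024))
theorem Q26741 : ∀ i, i < 26741 → P i := stepQ 26740 Q26740 (allL N26740 (tt N13334 (iv1 D42771)) (tt N25736 F67026) (tt N26720 (iv2 F75181)) (tt N50662 D91390) (tt N26999 (iv4 F291824)) (tt N29228 (iv5 F292223)) (tt N26328 (iv6 F292057)) (tt N26721 (iv7 F75183)))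
theorem Q26742 : ∀ i, i < 26742 → P i := stepQ 26741 Q26741 (allL N26741 (tt N14584 (iv1 F292226)) (tt N14586 (iv0 F292225)) (tt N50640 (iv2 F140466)) (tt N27068 (iv3 F292245)) (tt N50663 D91398) (tt N13334 (iv5 D42773)) (tt N50664 D91399) (tt N26722 F67029))
theorem Q26743 : ∀ i, i < 26743 → P i := stepQ 26742 Q26742 (allL N26742 (tt N25729 F137635) (tt N27328 (iv0 F291463)) (tt N14628 F67043) (tt N50665 D91408) (tt N13335 (iv4 D42779)) (tt N48691 F134107) (tt N14622 F67044) (tt N13810 (iv7 F291565)))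
theorem Q26744 : ∀ i, i < 26744 → P i := stepQ 26743 Q26743 (allL N26743 (tt N23736 F67160) (tt N23735 F67161) (tt N13338 F67158) (tt N50666 D91673) (tt N13337 (iv4 D42862)) (tt N26750 (iv5 F67302)) (tt N25575 (iv6 F295979)) (tt N23731 F67159))
theorem Q26745 : ∀ i, i < 26745 → P i := stepQ 26744 Q26744 (allL N26744 (tt N50667 D91688) (tt N50668 D91689) (tt N50669 D91690) (tt N13338 (iv3 D42869)) (tt N17500 F67180) (tt N50670 D91691) (tt N48291 F296235) (tt N23737 F67181))
theorem Q26746 : ∀ i, i < 26746 → P i := stepQ 26745 Q26745 (allL N26745 (tt N27889 (iv1 F294081)) (tt N27888 (iv0 F294087)) (tt N26750 (iv2 F67301)) (tt N50670 (iv3 F140961)) (tt N26747 (iv4 F67268)) (tt N13338 (iv5 D42870)) (tt N50671 D91693) (tt N23738 F67182))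
theorem Q26747 : ∀ i, i < 26747 → P i := stepQ 26746 Q26746 (allL N26746 (tt N27371 (iv1 F294336)) (tt N27370 (iv0 F294337)) (tt N27373 (iv2 F294338)) (tt N13341 (iv3 D42931)) (tt N26746 F67265) (tt N50672 D91842) (tt N27373 F293334) (tt N13820 F293335))
theorem Q26748 : ∀ i, i < 26748 → P i := stepQ 26747 Q26747 (allL N26747 (tt N13911 F291950) (tt N13910 F291951) (tt N13344 F67267) (tt N50672 (iv3 F141179)) (tt N26745 F67268) (tt N13341 (iv5 D42932)) (tt N50673 D91844) (tt N13822 (iv7 F292279)))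
theorem Q26749 : ∀ i, i < 26749 → P i := stepQ 26748 Q26748 (allL N26748 (tt N27445 (iv1 F294106)) (tt N50674 D91849) (tt N50675 D91850) (tt N13342 (iv3 D42935)) (tt N26074 (iv4 F294112)) (tt N49995 (iv5 F138378)) (tt N49968 F293100) (tt N13904 (iv7 F294050)))
theorem Q26750 : ∀ i, i < 26750 → P i := stepQ 26749 Q26749 (allL N26749 (tt N50676 D91853) (tt N27468 (iv0 F293690)) (tt N50677 D91855) (tt N13343 (iv3 D42937)) (tt N13623 F292636) (tt N49997 (iv5 F138381)) (tt N49963 F292637) (tt N13907 F292638))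
theorem Q26751 : ∀ i, i < 26751 → P i := stepQ 26750 Q26750 (allL N26750 (tt N45836 (iv1 F119745)) (tt N45835 F119744) (tt N26745 F67301) (tt N50678 D91871) (tt N13344 (iv4 D42944)) (tt N26743 F67302) (tt N50679 D91872) (tt N13912 F294042))
theorem Q26752 : ∀ i, i < 26752 → P i := stepQ 26751 Q26751 (allL N26751 (tt N50680 D91873) (tt N50681 D91874) (tt N50673 (iv2 F141183)) (tt N27541 (iv3 F293105)) (tt N50679 (iv4 F141245)) (tt N27541 F291971) (tt N13344 (iv6 D42945)) (tt N50682 D91876))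
theorem Q26753 : ∀ i, i < 26753 → P i := stepQ 26752 Q26752 (allL N26752 (tt N24438 (iv1 F294485)) (tt N13574 F293534) (tt N13345 (iv2 D42994)) (tt N25892 (iv3 F294013)) (tt N14131 (iv4 F294397)) (tt N28875 (iv5 F294446)) (tt N14129 (iv6 F294487)) (tt N28875 (iv7 F294447)))
theorem Q26754 : ∀ i, i < 26754 → P i := stepQ 26753 Q26753 (allL N26753 (tt N13348 (iv1 F67370)) (tt N13346 (iv0 D42999)) (tt N25906 F293405) (tt N50683 D91992) (tt N13949 (iv4 F294005)) (tt N25639 (iv5 F294368)) (tt N27328 (iv6 F294369)) (tt N25727 (iv7 F294355)))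
theorem Q26755 : ∀ i, i < 26755 → P i := stepQ 26754 Q26754 (allL N26754 (tt N13346 (iv1 D43000)) (tt N13348 F67366) (tt N25727 (iv2 F294354)) (tt N26835 F133972) (tt N13952 (iv4 F293720)) (tt N25640 (iv5 F294356)) (tt N14620 (iv6 F294357)) (tt N25906 F293394))
theorem Q26756 : ∀ i, i < 26756 → P i := stepQ 26755 Q26755 (allL N26755 (tt N50058 F138790) (tt N50684 D91997) (tt N50685 D91998) (tt N13346 (iv3 D43001)) (tt N14391 F294762) (tt N50686 D91999) (tt N14390 (iv6 F295226)) (tt N49164 F294763))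
theorem Q26757 : ∀ i, i < 26757 → P i := stepQ 26756 Q26756 (allL N26756 (tt N27559 (iv1 F295228)) (tt N48557 (iv0 F295012)) (tt N25907 F294764) (tt N50686 (iv3 F141497)) (tt N50687 D92004) (tt N13346 (iv5 D43002)) (tt N50688 D92005) (tt N48726 F294765))
theorem Q26758 : ∀ i, i < 26758 → P i := stepQ 26757 Q26757 (allL N26757 (tt N13761 F294541) (tt N13753 F294542) (tt N29190 (iv2 F294875)) (tt N50689 D92032) (tt N13347 (iv4 D43018)) (tt N50690 D92033) (tt N29424 (iv6 F295131)) (tt N25895 (iv7 F294668)))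
theorem Q26759 : ∀ i, i < 26759 → P i := stepQ 26758 Q26758 (allL N26758 (tt N50057 (iv1 F138779)) (tt N26832 (iv0 F67941)) (tt N50056 (iv2 F142537)) (tt N13348 (iv3 D43021)) (tt N50689 (iv4 F141527)) (tt N50691 D92040) (tt N48841 (iv6 F294100)) (tt N25903 (iv7 F293669)))
theorem Q26760 : ∀ i, i < 26760 → P i := stepQ 26759 Q26759 (allL N26759 (tt N48557 (iv1 F295013)) (tt N27559 (iv0 F295227)) (tt N48726 F294834) (tt N50691 (iv3 F141533)) (tt N50692 D92042) (tt N13348 (iv5 D43022)) (tt N50693 D92043) (tt N25907 F294835))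
theorem Q26761 : ∀ i, i < 26761 → P i := stepQ 26760 Q26760 (allL N26760 (tt N50694 D92174) (tt N50695 D92175) (tt N50696 D92176) (tt N13349 (iv3 D43100)) (tt N13351 F67475) (tt N50697 D92177) (tt N50698 D92178) (tt N23814 F67476))
theorem Q26762 : ∀ i, i < 26762 → P i := stepQ 26761 Q26761 (allL N26761 (tt N27258 F292430) (tt N27257 F292431) (tt N26774 (iv2 F67636)) (tt N50697 (iv3 F141772)) (tt N26770 (iv4 F67599)) (tt N13349 (iv5 D43101)) (tt N50699 D92179) (tt N23815 F67477))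
theorem Q26763 : ∀ i, i < 26763 → P i := stepQ 26762 Q26762 (allL N26762 (tt N23443 (iv1 F296123)) (tt N23717 (iv0 F296124)) (tt N44657 (iv2 F296006)) (tt N50698 (iv3 F141774)) (tt N13350 F67478) (tt N50700 D92182) (tt N13349 (iv6 D43102)) (tt N44685 (iv7 F296208)))
theorem Q26764 : ∀ i, i < 26764 → P i := stepQ 26763 Q26763 (allL N26763 (tt N23822 (iv1 F67483)) (tt N13351 (iv0 D43106)) (tt N23821 F254327) (tt N50701 D92190) (tt N50702 D92191) (tt N23435 (iv5 F250805)) (tt N50703 D92193) (tt N23820 (iv7 F254335)))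
theorem Q26765 : ∀ i, i < 26765 → P i := stepQ 26764 Q26764 (allL N26764 (tt N13351 (iv1 D43107)) (tt N23822 F67488) (tt N23820 (iv2 F254334)) (tt N50704 D92195) (tt N50705 D92196) (tt N23436 (iv5 F250815)) (tt N50706 D92198) (tt N23821 F254330))
theorem Q26766 : ∀ i, i < 26766 → P i := stepQ 26765 Q26765 (allL N26765 (tt N23821 (iv1 F67489)) (tt N23820 F67487) (tt N13351 (iv2 D43108)) (tt N23807 F67484) (tt N50696 (iv4 F141767)) (tt N23807 F67485) (tt N50707 D92199) (tt N23822 F67486))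
theorem Q26767 : ∀ i, i < 26767 → P i := stepQ 26766 Q26766 (allL N26766 (tt N50708 D92200) (tt N50709 D92201) (tt N50707 (iv2 F141804)) (tt N13352 F67490) (tt N50698 (iv4 F141775)) (tt N37360 F323398) (tt N13351 (iv6 D43109)) (tt N23953 (iv7 F298626)))
theorem Q26768 : ∀ i, i < 26768 → P i := stepQ 26767 Q26767 (allL N26767 (tt N24979 F67526) (tt N17891 (iv0 F67527)) (tt N23810 F67524) (tt N17829 (iv3 F297625)) (tt N45814 (iv4 F119694)) (tt N35227 (iv5 F297604)) (tt N13354 (iv6 D43118)) (tt N17986 F67525))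
theorem Q26769 : ∀ i, i < 26769 → P i := stepQ 26768 Q26768 (allL N26768 (tt N31953 F323920) (tt N50710 D92311) (tt N15615 (iv2 F323960)) (tt N24026 F67593) (tt N24904 F67594) (tt N14485 F67595) (tt N13356 (iv6 D43167)) (tt N45455 (iv7 F296273)))
theorem Q26770 : ∀ i, i < 26770 → P i := stepQ 26769 Q26769 (allL N26769 (tt N27081 (iv1 F293965)) (tt N27080 (iv0 F293966)) (tt N27083 (iv2 F293967)) (tt N13357 (iv3 D43168)) (tt N26769 F67596) (tt N50711 D92316) (tt N27083 F292979) (tt N13596 (iv7 F293968)))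
theorem Q26771 : ∀ i, i < 26771 → P i := stepQ 26770 Q26770 (allL N26770 (tt N13620 F292531) (tt N13619 F292532) (tt N13360 F67598) (tt N50711 (iv3 F141956)) (tt N26761 F67599) (tt N13357 (iv5 D43169)) (tt N50712 D92318) (tt N13597 (iv7 F292612)))
theorem Q26772 : ∀ i, i < 26772 → P i := stepQ 26771 Q26771 (allL N26771 (tt N27101 (iv1 F294237)) (tt N50713 D92323) (tt N50714 D92324) (tt N13358 (iv3 D43173)) (tt N26095 (iv4 F294175)) (tt N49854 (iv5 F137617)) (tt N50715 D92325) (tt N13613 (iv7 F293805)))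
theorem Q26773 : ∀ i, i < 26773 → P i := stepQ 26772 Q26772 (allL N26772 (tt N26808 (iv1 F292077)) (tt N25569 F291350) (tt N13618 F291351) (tt N50715 (iv3 F141979)) (tt N26268 F291352) (tt N25932 (iv5 F292142)) (tt N13358 (iv6 D43174)) (tt N48624 F291353))
theorem Q26774 : ∀ i, i < 26774 → P i := stepQ 26773 Q26773 (allL N26773 (tt N50716 D92328) (tt N23253 (iv0 F294537)) (tt N50717 D92330) (tt N13359 (iv3 D43175)) (tt N13915 (iv4 F294529)) (tt N49856 (iv5 F137621)) (tt N50374 F293639) (tt N13616 F293640))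
theorem Q26775 : ∀ i, i < 26775 → P i := stepQ 26774 Q26774 (allL N26774 (tt N24903 F67639) (tt N24900 F67640) (tt N26761 F67636) (tt N50718 D92345) (tt N13360 (iv4 D43182)) (tt N22939 F67637) (tt N50719 D92346) (tt N13621 (iv7 F292429)))
theorem Q26776 : ∀ i, i < 26776 → P i := stepQ 26775 Q26775 (allL N26775 (tt N50720 D92347) (tt N50721 D92348) (tt N50712 (iv2 F141960)) (tt N27158 (iv3 F294561)) (tt N50719 (iv4 F142021)) (tt N27158 F293659) (tt N13360 (iv6 D43183)) (tt N50722 D92350))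
theorem Q26777 : ∀ i, i < 26777 → P i := stepQ 26776 Q26776 (allL N26776 (tt N49174 (iv1 F135312)) (tt N25659 F67682) (tt N28373 F292079) (tt N14551 (iv3 F293180)) (tt N49965 (iv4 F138094)) (tt N13362 (iv5 D43217)) (tt N14545 F292080) (tt N25558 F67681))
theorem Q26778 : ∀ i, i < 26778 → P i := stepQ 26777 Q26777 (allL N26777 (tt N27942 (iv1 F291231)) (tt N26284 (iv0 F291281)) (tt N28374 F291028) (tt N13589 F67683) (tt N27407 (iv4 F70202)) (tt N14546 F291029) (tt N13362 (iv6 D43218)) (tt N29316 (iv7 F291283)))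
theorem Q26779 : ∀ i, i < 26779 → P i := stepQ 26778 Q26778 (allL N26778 (tt N25659 F67688) (tt N49174 (iv0 F135310)) (tt N25558 F67687) (tt N26810 (iv3 F67811)) (tt N27433 (iv4 F70261)) (tt N13363 (iv5 D43219)) (tt N25647 F67689) (tt N28373 (iv7 F291367)))
theorem Q26780 : ∀ i, i < 26780 → P i := stepQ 26779 Q26779 (allL N26779 (tt N26645 (iv1 F74002)) (tt N25658 F74004) (tt N25559 F67690) (tt N14211 F292024) (tt N25777 (iv4 F293145)) (tt N49766 F292025) (tt N13363 (iv6 D43220)) (tt N27260 (iv7 F71755)))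
theorem Q26781 : ∀ i, i < 26781 → P i := stepQ 26780 Q26780 (allL N26780 (tt N26269 F67709) (tt N26268 F67710) (tt N26045 F67706) (tt N26235 F67707) (tt N27273 (iv4 F69484)) (tt N13367 (iv5 D43222)) (tt N25706 (iv6 F291243)) (tt N26263 F67708))
theorem Q26782 : ∀ i, i < 26782 → P i := stepQ 26781 Q26781 (allL N26781 (tt N26088 (iv1 F69035)) (tt N26809 (iv0 F291068)) (tt N26046 F67711) (tt N26236 F67712) (tt N26424 F67713) (tt N25707 (iv5 F290902)) (tt N13367 (iv6 D43223)) (tt N49863 (iv7 F291062)))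
theorem Q26783 : ∀ i, i < 26783 → P i := stepQ 26782 Q26782 (allL N26782 (tt N27176 (iv1 F69092)) (tt N27187 (iv0 F69125)) (tt N26086 F67717) (tt N49361 (iv3 F293539)) (tt N50723 D92418) (tt N13370 (iv5 D43225)) (tt N50180 (iv6 F139175)) (tt N49357 (iv7 F290738)))
theorem Q26784 : ∀ i, i < 26784 → P i := stepQ 26783 Q26783 (allL N26783 (tt N27262 F205487) (tt N26292 F292075) (tt N26388 F67723) (tt N26386 F67724) (tt N27392 (iv4 F70190)) (tt N32170 (iv5 F82471)) (tt N13371 (iv6 D43227)) (tt N27261 F178352))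
theorem Q26785 : ∀ i, i < 26785 → P i := stepQ 26784 Q26784 (allL N26784 (tt N27077 F68905) (tt N27077 (iv0 F68903)) (tt N26387 F67725) (tt N13372 (iv3 D43228)) (tt N26387 F67726) (tt N36280 (iv5 F94270)) (tt N50724 D92422) (tt N26387 F67727))
theorem Q26786 : ∀ i, i < 26786 → P i := stepQ 26785 Q26785 (allL N26785 (tt N13570 F178338) (tt N50725 D92424) (tt N26386 F67728) (tt N50724 (iv3 F142152)) (tt N27390 (iv4 F70188)) (tt N50726 D92425) (tt N13372 (iv6 D43229)) (tt N50727 D92426))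
theorem Q26787 : ∀ i, i < 26787 → P i := stepQ 26786 Q26786 (allL N26786 (tt N50728 D92427) (tt N50729 D92428) (tt N13374 F67729) (tt N26417 F67730) (tt N27830 (iv4 F71646)) (tt N23870 F67731) (tt N13373 (iv6 D43230)) (tt N50730 D92429))
theorem Q26788 : ∀ i, i < 26788 → P i := stepQ 26787 Q26787 (allL N26787 (tt N50730 F142173) (tt N13374 (iv0 D43231)) (tt N50728 (iv2 F178268)) (tt N26389 F114626) (tt N50731 D92431) (tt N50732 D92432) (tt N50733 D92433) (tt N50729 (iv7 F178244)))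
theorem Q26789 : ∀ i, i < 26789 → P i := stepQ 26788 Q26788 (allL N26788 (tt N13374 (iv1 D43232)) (tt N50730 F142172) (tt N50729 (iv2 F178243)) (tt N50734 D92435) (tt N50735 D92436) (tt N50736 D92437) (tt N50737 D92438) (tt N50728 (iv7 F178269)))
theorem Q26790 : ∀ i, i < 26790 → P i := stepQ 26789 Q26789 (allL N26789 (tt N50738 D92439) (tt N50739 D92440) (tt N23870 F67732) (tt N13380 F67733) (tt N50740 D92441) (tt N13374 (iv5 D43233)) (tt N16399 F67734) (tt N50741 D92442))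
theorem Q26791 : ∀ i, i < 26791 → P i := stepQ 26790 Q26790 (allL N26790 (tt N50729 (iv1 F142164)) (tt N50728 (iv0 F142163)) (tt N50730 (iv2 F142167)) (tt N13381 F67735) (tt N26345 F67736) (tt N50741 (iv5 F142192)) (tt N26391 F67737) (tt N13374 (iv7 D43234)))
theorem Q26792 : ∀ i, i < 26792 → P i := stepQ 26791 Q26791 (allL N26791 (tt N26938 F94979) (tt N26941 (iv0 F94178)) (tt N26392 F67738) (tt N23340 F67739) (tt N14207 F67740) (tt N50742 D92443) (tt N13375 (iv6 D43235)) (tt N50743 D92444))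
theorem Q26793 : ∀ i, i < 26793 → P i := stepQ 26792 Q26792 (allL N26792 (tt N13397 F67744) (tt N16371 (iv0 F67745)) (tt N16370 F67741) (tt N13376 (iv3 D43236)) (tt N42481 F106271) (tt N13425 F67742) (tt N50744 D92445) (tt N16369 F67743))
theorem Q26794 : ∀ i, i < 26794 → P i := stepQ 26793 Q26793 (allL N26793 (tt N29987 F82823) (tt N50106 (iv0 F138878)) (tt N14207 F67746) (tt N50744 (iv3 F142210)) (tt N26392 F67747) (tt N32687 F83344) (tt N13376 (iv6 D43237)) (tt N50299 (iv7 F139478)))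
theorem Q26795 : ∀ i, i < 26795 → P i := stepQ 26794 Q26794 (allL N26794 (tt N16386 (iv1 F67751)) (tt N13377 (iv0 D43238)) (tt N16360 (iv2 F67750)) (tt N17535 F67748) (tt N14731 F67749) (tt N34076 (iv5 F86686)) (tt N16290 (iv6 F67753)) (tt N16379 F67752))
theorem Q26796 : ∀ i, i < 26796 → P i := stepQ 26795 Q26795 (allL N26795 (tt N50745 D92446) (tt N22071 (iv0 F67758)) (tt N26421 F67754) (tt N16399 F67755) (tt N50746 D92447) (tt N13377 (iv5 D43239)) (tt N13380 F67756) (tt N16391 F67757))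
theorem Q26797 : ∀ i, i < 26797 → P i := stepQ 26796 Q26796 (allL N26796 (tt N50747 D92448) (tt N28130 F337227) (tt N50748 D92450) (tt N13378 (iv3 D43240)) (tt N26048 F67759) (tt N50749 D92451) (tt N50750 D92452) (tt N26265 F67760))
theorem Q26798 : ∀ i, i < 26798 → P i := stepQ 26797 Q26797 (allL N26797 (tt N26995 (iv1 F68402)) (tt N49244 (iv0 F135488)) (tt N26423 F67761) (tt N50749 (iv3 F142233)) (tt N47475 F321777) (tt N13378 (iv5 D43241)) (tt N47474 (iv6 F323483)) (tt N26266 F67762))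
theorem Q26799 : ∀ i, i < 26799 → P i := stepQ 26798 Q26798 (allL N26798 (tt N13578 F135490) (tt N26287 (iv0 F290985)) (tt N26424 F67763) (tt N50750 (iv3 F142235)) (tt N26046 F67764) (tt N26903 F68177) (tt N13378 (iv6 D43242)) (tt N28556 (iv7 F291076)))
theorem Q26800 : ∀ i, i < 26800 → P i := stepQ 26799 Q26799 (allL N26799 (tt N13398 F67766) (tt N50751 D92456) (tt N50752 D92457) (tt N13379 (iv3 D43243)) (tt N48538 (iv4 F133341)) (tt N43267 (iv5 F108436)) (tt N28552 (iv6 F291330)) (tt N26422 F67765))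
theorem Q26801 : ∀ i, i < 26801 → P i := stepQ 26800 Q26800 (allL N26800 (tt N49244 (iv1 F135489)) (tt N26995 F68403) (tt N26266 F67767) (tt N43267 F108437) (tt N50753 D92459) (tt N13379 (iv5 D43244)) (tt N43264 (iv6 F108438)) (tt N26423 F67768))
theorem Q26802 : ∀ i, i < 26802 → P i := stepQ 26801 Q26801 (allL N26801 (tt N26428 (iv1 F67777)) (tt N13380 (iv0 D43246)) (tt N26425 F67780) (tt N50754 D92460) (tt N50755 D92461) (tt N28340 (iv5 F73630)) (tt N50756 D92462) (tt N26426 F67779))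
theorem Q26803 : ∀ i, i < 26803 → P i := stepQ 26802 Q26802 (allL N26802 (tt N13380 (iv1 D43247)) (tt N26428 F67771) (tt N26426 (iv2 F67773)) (tt N38575 (iv3 F320209)) (tt N24811 F317581) (tt N26517 F67772) (tt N24810 (iv6 F319813)) (tt N26425 (iv7 F67781)))
theorem Q26804 : ∀ i, i < 26804 → P i := stepQ 26803 Q26803 (allL N26803 (tt N47570 (iv1 F328231)) (tt N47026 F328225) (tt N26427 F67774) (tt N50757 D92466) (tt N13380 (iv4 D43248)) (tt N49253 (iv5 F135543)) (tt N50746 (iv6 F142220)) (tt N47569 F328612))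
theorem Q26805 : ∀ i, i < 26805 → P i := stepQ 26804 Q26804 (allL N26804 (tt N26426 (iv1 F67778)) (tt N26425 F67782) (tt N26428 F67775) (tt N50741 (iv3 F142191)) (tt N47569 F328614) (tt N13381 F67776) (tt N50758 D92467) (tt N13380 (iv7 D43249)))
theorem Q26806 : ∀ i, i < 26806 → P i := stepQ 26805 Q26805 (allL N26805 (tt N50759 D92468) (tt N27205 F290315) (tt N26402 F67783) (tt N13382 (iv3 D43250)) (tt N26805 F67784) (tt N50760 D92470) (tt N50761 D92471) (tt N26429 F67785))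
theorem Q26807 : ∀ i, i < 26807 → P i := stepQ 26806 Q26806 (allL N26806 (tt N26961 (iv1 F68316)) (tt N48625 F133612) (tt N25564 F67786) (tt N50760 (iv3 F142284)) (tt N50762 D92472) (tt N13382 (iv5 D43251)) (tt N50763 D92473) (tt N26430 F67787))
theorem Q26808 : ∀ i, i < 26808 → P i := stepQ 26807 Q26807 (allL N26807 (tt N13559 F69040) (tt N50764 D92474) (tt N25565 F67788) (tt N50761 (iv3 F142287)) (tt N13384 F67789) (tt N26932 F68271) (tt N13382 (iv6 D43252)) (tt N28551 F292017))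
theorem Q26809 : ∀ i, i < 26809 → P i := stepQ 26808 Q26808 (allL N26808 (tt N27250 (iv1 F69443)) (tt N26772 F292077) (tt N25567 F67790) (tt N50765 D92475) (tt N13383 (iv4 D43253)) (tt N26924 (iv5 F68256)) (tt N28216 F292078) (tt N26404 F67791))
theorem Q26810 : ∀ i, i < 26810 → P i := stepQ 26809 Q26809 (allL N26809 (tt N26781 F291068) (tt N27005 (iv0 F68439)) (tt N26302 F67809) (tt N26243 F291069) (tt N50764 (iv4 F291678)) (tt N13387 (iv5 D43257)) (tt N28480 F291070) (tt N27956 (iv7 F291141)))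
theorem Q26811 : ∀ i, i < 26811 → P i := stepQ 26810 Q26810 (allL N26810 (tt N24484 (iv1 F67815)) (tt N26987 (iv0 F68390)) (tt N26209 F67810) (tt N26778 F67811) (tt N26228 F67812) (tt N24431 F67813) (tt N13387 (iv6 D43258)) (tt N26195 (iv7 F67814)))
theorem Q26812 : ∀ i, i < 26812 → P i := stepQ 26811 Q26811 (allL N26811 (tt N14448 (iv1 F291592)) (tt N14136 F291033) (tt N14454 (iv2 F291295)) (tt N14428 (iv3 F291589)) (tt N25939 F292547) (tt N26268 (iv5 F291266)) (tt N13390 (iv6 D43264)) (tt N14453 (iv7 F291298)))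
theorem Q26813 : ∀ i, i < 26813 → P i := stepQ 26812 Q26812 (allL N26812 (tt N26196 F290819) (tt N27199 F290820) (tt N26382 F67833) (tt N13581 (iv3 F291256)) (tt N49427 F290821) (tt N13391 (iv5 D43265)) (tt N26272 F67835) (tt N13575 F290822))
theorem Q26814 : ∀ i, i < 26814 → P i := stepQ 26813 Q26813 (allL N26813 (tt N26631 (iv1 F291235)) (tt N26087 F73954) (tt N25704 F290806) (tt N26605 (iv3 F291233)) (tt N26397 F67840) (tt N14271 (iv5 F291239)) (tt N13392 (iv6 D43267)) (tt N25706 (iv7 F291244)))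
theorem Q26815 : ∀ i, i < 26815 → P i := stepQ 26814 Q26814 (allL N26814 (tt N49355 (iv1 F293183)) (tt N13576 F69112) (tt N26383 F67849) (tt N28131 (iv3 F72747)) (tt N46695 (iv4 F125891)) (tt N50766 D92487) (tt N13395 (iv6 D43271)) (tt N49356 (iv7 F293188)))
theorem Q26816 : ∀ i, i < 26816 → P i := stepQ 26815 Q26815 (allL N26815 (tt N26422 F136439) (tt N50752 F142256) (tt N13398 F67850) (tt N16374 F67851) (tt N49437 (iv4 F136438)) (tt N16368 F67852) (tt N13396 (iv6 D43272)) (tt N50751 (iv7 F142247)))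
theorem Q26817 : ∀ i, i < 26817 → P i := stepQ 26816 Q26816 (allL N26816 (tt N50751 (iv1 F142252)) (tt N13398 (iv0 D43273)) (tt N26422 (iv2 F67853)) (tt N50748 (iv3 F142228)) (tt N48572 (iv4 F133492)) (tt N50767 D92489) (tt N50768 D92490) (tt N50752 (iv7 F142254)))
theorem Q26818 : ∀ i, i < 26818 → P i := stepQ 26817 Q26817 (allL N26817 (tt N50769 D92491) (tt N38575 F321882) (tt N16368 F67854) (tt N13402 F67855) (tt N50770 D92492) (tt N13398 (iv5 D43274)) (tt N16364 F67856) (tt N50771 D92493))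
theorem Q26819 : ∀ i, i < 26819 → P i := stepQ 26818 Q26818 (allL N26818 (tt N50752 (iv1 F142255)) (tt N26422 (iv0 F67859)) (tt N50751 F142248) (tt N13403 F67857) (tt N49441 (iv4 F136462)) (tt N50771 (iv5 F142381)) (tt N26420 F67858) (tt N13398 (iv7 D43275)))
theorem Q26820 : ∀ i, i < 26820 → P i := stepQ 26819 Q26819 (allL N26819 (tt N16388 (iv1 F67865)) (tt N16387 F67864) (tt N14733 F67860) (tt N16364 F67861) (tt N43479 (iv4 F108973)) (tt N13399 (iv5 D43276)) (tt N13402 F67862) (tt N16385 F67863))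
theorem Q26821 : ∀ i, i < 26821 → P i := stepQ 26820 Q26820 (allL N26820 (tt N26420 F67868) (tt N26417 (iv0 F136300)) (tt N26418 F67869) (tt N13400 (iv3 D43277)) (tt N26160 F67866) (tt N50772 D92494) (tt N50773 D92495) (tt N26395 F67867))
theorem Q26822 : ∀ i, i < 26822 → P i := stepQ 26821 Q26821 (allL N26821 (tt N49803 F290603) (tt N50463 F139803) (tt N26394 F67870) (tt N50772 (iv3 F142387)) (tt N50774 D92496) (tt N13400 (iv5 D43278)) (tt N50775 D92497) (tt N26396 F67871))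
theorem Q26823 : ∀ i, i < 26823 → P i := stepQ 26822 Q26822 (allL N26822 (tt N26294 (iv1 F290659)) (tt N26998 (iv0 F68405)) (tt N26270 F67872) (tt N50773 (iv3 F142390)) (tt N26263 F67873) (tt N26887 F68124) (tt N13400 (iv6 D43279)) (tt N27273 F69485))
theorem Q26824 : ∀ i, i < 26824 → P i := stepQ 26823 Q26823 (allL N26823 (tt N28129 F333371) (tt N50776 D92499) (tt N50777 D92500) (tt N13401 (iv3 D43280)) (tt N26288 F67874) (tt N50778 D92501) (tt N50779 D92502) (tt N26393 F67875))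
theorem Q26825 : ∀ i, i < 26825 → P i := stepQ 26824 Q26824 (allL N26824 (tt N50463 (iv1 F139804)) (tt N49803 F290602) (tt N26396 F67876) (tt N50778 (iv3 F142404)) (tt N50780 D92503) (tt N13401 (iv5 D43281)) (tt N32680 (iv6 F83340)) (tt N26394 F67877))
theorem Q26826 : ∀ i, i < 26826 → P i := stepQ 26825 Q26825 (allL N26825 (tt N26283 (iv1 F290657)) (tt N13572 (iv0 F67881)) (tt N26397 F67879) (tt N50779 (iv3 F142406)) (tt N25704 (iv4 F290655)) (tt N26983 (iv5 F68353)) (tt N13401 (iv6 D43282)) (tt N26632 (iv7 F290658)))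
theorem Q26827 : ∀ i, i < 26827 → P i := stepQ 26826 Q26826 (allL N26826 (tt N26401 (iv1 F67887)) (tt N13402 (iv0 D43283)) (tt N26398 F68167) (tt N41367 F318686) (tt N50781 D92507) (tt N25992 F290583) (tt N41365 (iv6 F320840)) (tt N26399 F68165))
theorem Q26828 : ∀ i, i < 26828 → P i := stepQ 26827 Q26827 (allL N26827 (tt N13402 (iv1 D43284)) (tt N26401 F67882) (tt N26399 (iv2 F68162)) (tt N50782 D92509) (tt N50783 D92510) (tt N26488 (iv5 F67883)) (tt N50784 D92511) (tt N26398 (iv7 F68166)))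
theorem Q26829 : ∀ i, i < 26829 → P i := stepQ 26828 Q26828 (allL N26828 (tt N29059 F290701) (tt N28954 F290702) (tt N26400 F67884) (tt N50785 D92514) (tt N13402 (iv4 D43285)) (tt N29048 (iv5 F290981)) (tt N43479 (iv6 F108976)) (tt N50786 D92516))
theorem Q26830 : ∀ i, i < 26830 → P i := stepQ 26829 Q26829 (allL N26829 (tt N26399 (iv1 F67888)) (tt N26398 F67890) (tt N26401 F67885) (tt N50771 (iv3 F142380)) (tt N50786 (iv4 F142451)) (tt N13403 F67886) (tt N50787 D92517) (tt N13402 (iv7 D43286)))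
theorem Q26831 : ∀ i, i < 26831 → P i := stepQ 26830 Q26830 (allL N26830 (tt N27205 F290316) (tt N50759 F142281) (tt N26429 F67891) (tt N13404 (iv3 D43287)) (tt N26830 F67892) (tt N50788 D92518) (tt N28463 (iv6 F291333)) (tt N26402 F67893))
theorem Q26832 : ∀ i, i < 26832 → P i := stepQ 26831 Q26831 (allL N26831 (tt N49879 (iv1 F137750)) (tt N49878 F137748) (tt N26312 F67894) (tt N50788 (iv3 F142467)) (tt N50789 D92520) (tt N13404 (iv5 D43288)) (tt N50790 D92521) (tt N26403 F67895))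
theorem Q26833 : ∀ i, i < 26833 → P i := stepQ 26832 Q26832 (allL N26832 (tt N26758 F67941) (tt N49178 (iv0 F293093)) (tt N49183 (iv2 F292622)) (tt N13405 (iv3 D43299)) (tt N26372 F67939) (tt N28189 (iv5 F293094)) (tt N28994 (iv6 F293095)) (tt N26410 F67940))
theorem Q26834 : ∀ i, i < 26834 → P i := stepQ 26833 Q26833 (allL N26833 (tt N50791 D92551) (tt N50792 D92552) (tt N50793 D92553) (tt N13406 (iv3 D43302)) (tt N25968 F67949) (tt N28191 (iv5 F292416)) (tt N28224 (iv6 F292417)) (tt N26409 F67950))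
theorem Q26835 : ∀ i, i < 26835 → P i := stepQ 26834 Q26834 (allL N26834 (tt N26671 (iv1 F67961)) (tt N13407 (iv0 D43305)) (tt N26670 (iv2 F137508)) (tt N50794 D92558) (tt N50795 D92559) (tt N28166 (iv5 F293386)) (tt N50796 D92561) (tt N26669 F137509))
theorem Q26836 : ∀ i, i < 26836 → P i := stepQ 26835 Q26835 (allL N26835 (tt N13407 (iv1 D43306)) (tt N26671 F67965) (tt N26669 F137507) (tt N26754 (iv3 F133972)) (tt N26571 (iv4 F292718)) (tt N28167 (iv5 F293396)) (tt N26569 (iv6 F293398)) (tt N26670 (iv7 F137506)))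
theorem Q26837 : ∀ i, i < 26837 → P i := stepQ 26836 Q26836 (allL N26836 (tt N26670 (iv1 F67966)) (tt N26669 F67964) (tt N13407 (iv2 D43307)) (tt N26413 F67962) (tt N49312 (iv4 F136020)) (tt N50797 D92564) (tt N28484 F292348) (tt N26671 F67963))
theorem Q26838 : ∀ i, i < 26838 → P i := stepQ 26837 Q26837 (allL N26837 (tt N50493 (iv1 F294359)) (tt N50494 (iv0 F294361)) (tt N50797 (iv2 F142588)) (tt N13408 F67967) (tt N50798 D92567) (tt N13407 (iv5 D43308)) (tt N50799 D92568) (tt N26672 F67968))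
theorem Q26839 : ∀ i, i < 26839 → P i := stepQ 26838 Q26838 (allL N26838 (tt N50800 D92569) (tt N50801 D92570) (tt N26415 F67969) (tt N50799 (iv3 F142596)) (tt N50154 (iv4 F139098)) (tt N29053 F292206) (tt N13408 (iv6 D43309)) (tt N50802 D92571))
theorem Q26840 : ∀ i, i < 26840 → P i := stepQ 26839 Q26839 (allL N26839 (tt N26876 (iv1 F68103)) (tt N26876 (iv0 F68102)) (tt N26433 F67970) (tt N26868 (iv3 F68065)) (tt N13409 (iv4 D43310)) (tt N50088 (iv5 F138854)) (tt N50803 D92572) (tt N26433 F67971))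
theorem Q26841 : ∀ i, i < 26841 → P i := stepQ 26840 Q26840 (allL N26840 (tt N13548 F77509) (tt N13548 F77510) (tt N26434 F67973) (tt N32512 (iv3 F83050)) (tt N29873 (iv4 F77507)) (tt N13409 (iv5 D43311)) (tt N29871 F77508) (tt N26434 F67974))
theorem Q26842 : ∀ i, i < 26842 → P i := stepQ 26841 Q26841 (allL N26841 (tt N26495 (iv1 F290234)) (tt N25944 (iv0 F290235)) (tt N26435 F67975) (tt N48968 (iv3 F134950)) (tt N50803 (iv4 F142604)) (tt N50804 D92575) (tt N13409 (iv6 D43312)) (tt N49226 (iv7 F290233)))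
theorem Q26843 : ∀ i, i < 26843 → P i := stepQ 26842 Q26842 (allL N26842 (tt N26441 (iv1 F67983)) (tt N13410 (iv0 D43313)) (tt N26438 (iv2 F155671)) (tt N50805 D92578) (tt N50806 D92579) (tt N50807 D92580) (tt N27930 F295517) (tt N26439 (iv7 F155672)))
theorem Q26844 : ∀ i, i < 26844 → P i := stepQ 26843 Q26843 (allL N26843 (tt N13410 (iv1 D43314)) (tt N26441 F67976) (tt N26439 F155673) (tt N48987 F134997) (tt N50808 D92583) (tt N50809 D92584) (tt N50810 D92585) (tt N26438 F155674))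
theorem Q26845 : ∀ i, i < 26845 → P i := stepQ 26844 Q26844 (allL N26844 (tt N50811 D92586) (tt N50812 D92587) (tt N26440 F67977) (tt N13413 F67978) (tt N50813 D92588) (tt N13410 (iv5 D43315)) (tt N50292 (iv6 F139440)) (tt N50814 D92589))
theorem Q26846 : ∀ i, i < 26846 → P i := stepQ 26845 Q26845 (allL N26845 (tt N26439 (iv1 F67984)) (tt N26438 F67985) (tt N26441 F67979) (tt N13414 F67980) (tt N26845 F67981) (tt N50814 (iv5 F142618)) (tt N26441 F67982) (tt N13410 (iv7 D43316)))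
theorem Q26847 : ∀ i, i < 26847 → P i := stepQ 26846 Q26846 (allL N26846 (tt N45161 F177347) (tt N26538 F177348) (tt N45159 (iv2 F177329)) (tt N13411 (iv3 D43317)) (tt N14593 F67986) (tt N50815 D92593) (tt N26296 F292530) (tt N13464 F67987))
theorem Q26848 : ∀ i, i < 26848 → P i := stepQ 26847 Q26847 (allL N26847 (tt N29214 (iv1 F292101)) (tt N50816 D92595) (tt N13463 F67988) (tt N50815 (iv3 F142630)) (tt N50817 D92596) (tt N13411 (iv5 D43318)) (tt N50818 D92597) (tt N13465 F67989))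
theorem Q26849 : ∀ i, i < 26849 → P i := stepQ 26848 Q26848 (allL N26848 (tt N26522 F157721) (tt N50819 D92600) (tt N50820 D92601) (tt N13412 (iv3 D43320)) (tt N28203 F73279) (tt N50821 D92602) (tt N49242 (iv6 F135475)) (tt N13462 F67994))
theorem Q26850 : ∀ i, i < 26850 → P i := stepQ 26849 Q26849 (allL N26849 (tt N50816 (iv1 F142635)) (tt N29214 (iv0 F292100)) (tt N13465 F67995) (tt N50821 (iv3 F142654)) (tt N50822 D92603) (tt N13412 (iv5 D43321)) (tt N50823 D92604) (tt N13463 F67996))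
theorem Q26851 : ∀ i, i < 26851 → P i := stepQ 26850 Q26850 (allL N26850 (tt N13470 (iv1 F68002)) (tt N13413 (iv0 D43322)) (tt N13467 F68327) (tt N50824 D92605) (tt N50825 D92606) (tt N28462 F292120) (tt N50826 D92607) (tt N13468 F68328))
theorem Q26852 : ∀ i, i < 26852 → P i := stepQ 26851 Q26851 (allL N26851 (tt N13413 (iv1 D43323)) (tt N13470 F67997) (tt N13468 F68324) (tt N50827 D92608) (tt N50828 D92609) (tt N13556 (iv5 F67998)) (tt N50829 D92610) (tt N13467 F68325))
theorem Q26853 : ∀ i, i < 26853 → P i := stepQ 26852 Q26852 (allL N26852 (tt N50830 D92611) (tt N50831 D92612) (tt N13469 F67999) (tt N50832 D92613) (tt N13413 (iv4 D43324)) (tt N50833 D92614) (tt N50296 (iv6 F139464)) (tt N50834 D92615))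
theorem Q26854 : ∀ i, i < 26854 → P i := stepQ 26853 Q26853 (allL N26853 (tt N13468 (iv1 F68003)) (tt N13467 F68004) (tt N13470 F68000) (tt N50814 (iv3 F142617)) (tt N50834 (iv4 F142677)) (tt N13414 F68001) (tt N50835 D92616) (tt N13413 (iv7 D43325)))
theorem Q26855 : ∀ i, i < 26855 → P i := stepQ 26854 Q26854 (allL N26854 (tt N13417 (iv1 F68010)) (tt N13416 (iv0 D43328)) (tt N13472 (iv2 F68009)) (tt N26634 F68014) (tt N14201 (iv4 F68012)) (tt N50836 D92619) (tt N26455 F68013) (tt N13426 F68011))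
theorem Q26856 : ∀ i, i < 26856 → P i := stepQ 26855 Q26855 (allL N26855 (tt N50837 D92620) (tt N25788 (iv0 F68016)) (tt N50838 D92621) (tt N13416 (iv3 D43329)) (tt N28224 (iv4 F73372)) (tt N50839 D92622) (tt N25968 F291524) (tt N13479 F68015))
theorem Q26857 : ∀ i, i < 26857 → P i := stepQ 26856 Q26856 (allL N26856 (tt N50030 (iv1 F138593)) (tt N50445 F291249) (tt N13474 F68017) (tt N50839 (iv3 F142710)) (tt N50840 D92625) (tt N13416 (iv5 D43330)) (tt N50841 D92626) (tt N13480 F68018))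
theorem Q26858 : ∀ i, i < 26858 → P i := stepQ 26857 Q26857 (allL N26857 (tt N23258 F176019) (tt N50842 D92631) (tt N50843 D92632) (tt N13417 (iv3 D43334)) (tt N14585 F68028) (tt N50844 D92633) (tt N49248 (iv6 F135506)) (tt N13473 F68029))
theorem Q26859 : ∀ i, i < 26859 → P i := stepQ 26858 Q26858 (allL N26858 (tt N50445 F291248) (tt N50030 (iv0 F138592)) (tt N13480 F68030) (tt N50844 (iv3 F142740)) (tt N50845 D92634) (tt N13417 (iv5 D43335)) (tt N50846 D92635) (tt N13474 F68031))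
theorem Q26860 : ∀ i, i < 26860 → P i := stepQ 26859 Q26859 (allL N26859 (tt N14213 F68041) (tt N26279 (iv0 F291164)) (tt N13488 F68039) (tt N50847 D92641) (tt N13418 (iv4 D43339)) (tt N28438 (iv5 F291165)) (tt N26256 F290767) (tt N13485 F68040))
theorem Q26861 : ∀ i, i < 26861 → P i := stepQ 26860 Q26860 (allL N26860 (tt N13419 (iv1 D43341)) (tt N13495 F68043) (tt N13492 (iv2 F68054)) (tt N50848 D92646) (tt N28467 (iv4 F73951)) (tt N28459 (iv5 F292895)) (tt N26203 F291832) (tt N13491 (iv7 F68057)))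
theorem Q26862 : ∀ i, i < 26862 → P i := stepQ 26861 Q26861 (allL N26861 (tt N50849 D92648) (tt N50850 D92649) (tt N48743 (iv2 F292931)) (tt N13419 (iv3 D43342)) (tt N26861 F68044) (tt N50851 D92651) (tt N13421 F68045) (tt N50852 D92652))
theorem Q26863 : ∀ i, i < 26863 → P i := stepQ 26862 Q26862 (allL N26862 (tt N14094 (iv1 F292936)) (tt N14281 (iv0 F292937)) (tt N13494 F68046) (tt N50851 (iv3 F142779)) (tt N50853 D92654) (tt N13419 (iv5 D43343)) (tt N50854 D92655) (tt N14279 (iv7 F292712)))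
theorem Q26864 : ∀ i, i < 26864 → P i := stepQ 26863 Q26863 (allL N26863 (tt N13492 (iv1 F68050)) (tt N13491 F68058) (tt N13495 F68047) (tt N50852 (iv3 F142780)) (tt N13420 F68048) (tt N14279 (iv5 F292711)) (tt N26257 (iv6 F292713)) (tt N13419 (iv7 D43344)))
theorem Q26865 : ∀ i, i < 26865 → P i := stepQ 26864 Q26864 (allL N26864 (tt N27190 (iv1 F294793)) (tt N13421 (iv0 D43345)) (tt N28193 (iv2 F294794)) (tt N50855 D92658) (tt N50856 D92659) (tt N50593 (iv5 F294991)) (tt N28120 (iv6 F294808)) (tt N26022 (iv7 F294810)))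
theorem Q26866 : ∀ i, i < 26866 → P i := stepQ 26865 Q26865 (allL N26865 (tt N13421 (iv1 D43346)) (tt N27190 (iv0 F294792)) (tt N26022 (iv2 F294809)) (tt N50857 D92663) (tt N50858 D92664) (tt N50594 (iv5 F294992)) (tt N25958 (iv6 F294820)) (tt N28193 (iv7 F294795)))
theorem Q26867 : ∀ i, i < 26867 → P i := stepQ 26866 Q26866 (allL N26866 (tt N50157 (iv1 F294913)) (tt N50160 (iv0 F366975)) (tt N48742 (iv2 F294791)) (tt N13422 F68062) (tt N50859 D92670) (tt N13421 (iv5 D43348)) (tt N50860 D92671) (tt N27044 (iv7 F68571)))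
theorem Q26868 : ∀ i, i < 26868 → P i := stepQ 26867 Q26867 (allL N26867 (tt N50861 D92672) (tt N50862 D92673) (tt N13509 F68063) (tt N50860 (iv3 F142802)) (tt N27049 (iv4 F68574)) (tt N50854 (iv5 F142790)) (tt N13422 (iv6 D43349)) (tt N50863 D92674))
theorem Q26869 : ∀ i, i < 26869 → P i := stepQ 26868 Q26868 (allL N26868 (tt N14204 (iv1 F68066)) (tt N13423 (iv0 D43350)) (tt N14203 F68072) (tt N26839 F68065) (tt N25784 F68064) (tt N29724 F77090) (tt N50864 D92675) (tt N14202 (iv7 F68067)))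
theorem Q26870 : ∀ i, i < 26870 → P i := stepQ 26869 Q26869 (allL N26869 (tt N13423 (iv1 D43351)) (tt N14204 F68069) (tt N14202 (iv2 F68070)) (tt N14203 (iv3 F68073)) (tt N14282 (iv4 F68068)) (tt N36304 F94337) (tt N50865 D92676) (tt N14203 (iv7 F68071)))
theorem Q26871 : ∀ i, i < 26871 → P i := stepQ 26870 Q26870 (allL N26870 (tt N14203 (iv1 F68079)) (tt N14202 F68078) (tt N13423 (iv2 D43352)) (tt N13436 F68074) (tt N14074 F68075) (tt N23327 F68076) (tt N50866 D92677) (tt N14204 F68077))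
theorem Q26872 : ∀ i, i < 26872 → P i := stepQ 26871 Q26871 (allL N26871 (tt N50867 D92678) (tt N50868 D92679) (tt N50866 (iv2 F142814)) (tt N13424 F68084) (tt N14076 F68085) (tt N50869 D92680) (tt N13423 (iv6 D43353)) (tt N26612 (iv7 F68086)))
theorem Q26873 : ∀ i, i < 26873 → P i := stepQ 26872 Q26872 (allL N26872 (tt N28563 (iv1 F291184)) (tt N27267 (iv0 F69469)) (tt N26474 F68087) (tt N50869 (iv3 F142823)) (tt N50366 (iv4 F139603)) (tt N13424 (iv5 D43354)) (tt N50742 (iv6 F142201)) (tt N26613 F68088))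
theorem Q26874 : ∀ i, i < 26874 → P i := stepQ 26873 Q26873 (allL N26873 (tt N26456 F68092) (tt N26635 F138958) (tt N26507 F68089) (tt N13426 F68090) (tt N14310 F68091) (tt N50870 D92682) (tt N13425 (iv6 D43355)) (tt N26634 (iv7 F68093)))
theorem Q26875 : ∀ i, i < 26875 → P i := stepQ 26874 Q26874 (allL N26874 (tt N50871 D92683) (tt N50872 D92684) (tt N14208 F68095) (tt N50870 (iv3 F142832)) (tt N50873 D92685) (tt N13426 (iv5 D43356)) (tt N32687 (iv6 F83346)) (tt N50836 (iv7 F142695)))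
theorem Q26876 : ∀ i, i < 26876 → P i := stepQ 26875 Q26875 (allL N26875 (tt N26615 (iv1 F176024)) (tt N26458 (iv0 F176025)) (tt N23261 F68096) (tt N23258 F68097) (tt N27599 (iv4 F70606)) (tt N50874 D92688) (tt N13427 (iv6 D43357)) (tt N26614 (iv7 F205438)))
theorem Q26877 : ∀ i, i < 26877 → P i := stepQ 26876 Q26876 (allL N26876 (tt N26839 F68102) (tt N26839 F68103) (tt N23259 F68098) (tt N13428 (iv3 D43358)) (tt N23259 F68099) (tt N16376 F68100) (tt N50875 D92690) (tt N23259 F68101))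
theorem Q26878 : ∀ i, i < 26878 → P i := stepQ 26877 Q26877 (allL N26877 (tt N13473 (iv1 F205450)) (tt N50843 (iv0 F205449)) (tt N23258 F68104) (tt N50875 (iv3 F142862)) (tt N27597 (iv4 F70601)) (tt N32710 (iv5 F83368)) (tt N13428 (iv6 D43359)) (tt N50842 (iv7 F176017)))
theorem Q26879 : ∀ i, i < 26879 → P i := stepQ 26878 Q26878 (allL N26878 (tt N49223 (iv1 F135444)) (tt N49222 F135437) (tt N13430 F68105) (tt N26508 F68106) (tt N29132 (iv4 F75101)) (tt N18412 F68107) (tt N13429 (iv6 D43360)) (tt N49224 (iv7 F135442)))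
theorem Q26880 : ∀ i, i < 26880 → P i := stepQ 26879 Q26879 (allL N26879 (tt N49224 (iv1 F135443)) (tt N13430 (iv0 D43361)) (tt N49223 (iv2 F160271)) (tt N26476 F76029) (tt N50876 D92695) (tt N50877 D92696) (tt N50878 D92697) (tt N49222 (iv7 F160268)))
theorem Q26881 : ∀ i, i < 26881 → P i := stepQ 26880 Q26880 (allL N26880 (tt N13430 (iv1 D43362)) (tt N49224 F135445) (tt N49222 (iv2 F160267)) (tt N50879 D92699) (tt N50880 D92700) (tt N50881 D92701) (tt N50882 D92702) (tt N49223 (iv7 F160272)))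
theorem Q26882 : ∀ i, i < 26882 → P i := stepQ 26881 Q26881 (allL N26881 (tt N50883 D92703) (tt N50865 (iv0 F290150)) (tt N50884 D92705) (tt N13431 (iv3 D43363)) (tt N14138 F68108) (tt N50885 D92706) (tt N29020 (iv6 F74828)) (tt N14450 F68109))
theorem Q26883 : ∀ i, i < 26883 → P i := stepQ 26882 Q26882 (allL N26882 (tt N27274 (iv1 F69488)) (tt N50886 D92707) (tt N26516 F68111) (tt N50885 (iv3 F142891)) (tt N37135 F319814) (tt N13431 (iv5 D43364)) (tt N37134 (iv6 F321708)) (tt N14451 F68112))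
theorem Q26884 : ∀ i, i < 26884 → P i := stepQ 26883 Q26883 (allL N26883 (tt N13439 F68115) (tt N50887 D92710) (tt N50888 D92711) (tt N13432 (iv3 D43365)) (tt N25692 F68113) (tt N38578 F323387) (tt N29072 F291611) (tt N25840 F68114))
theorem Q26885 : ∀ i, i < 26885 → P i := stepQ 26884 Q26884 (allL N26884 (tt N50886 (iv1 F142893)) (tt N27274 (iv0 F69489)) (tt N14451 F68116) (tt N38578 (iv3 F321702)) (tt N37141 F319812) (tt N13432 (iv5 D43366)) (tt N50889 D92715) (tt N26516 F68117))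
theorem Q26886 : ∀ i, i < 26886 → P i := stepQ 26885 Q26885 (allL N26885 (tt N13573 (iv1 F68120)) (tt N13579 F68947) (tt N14452 F68118) (tt N29072 F291556) (tt N14449 F68119) (tt N50890 D92716) (tt N13432 (iv6 D43367)) (tt N26622 (iv7 F68121)))
theorem Q26887 : ∀ i, i < 26887 → P i := stepQ 26886 Q26886 (allL N26886 (tt N25943 (iv1 F68122)) (tt N13433 (iv0 D43368)) (tt N26518 (iv2 F68128)) (tt N50891 D92717) (tt N50285 (iv4 F139406)) (tt N49421 (iv5 F136283)) (tt N50892 D92718) (tt N26519 F68127))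
theorem Q26888 : ∀ i, i < 26888 → P i := stepQ 26887 Q26887 (allL N26887 (tt N13433 (iv1 D43369)) (tt N25943 F68123) (tt N26519 F68125) (tt N50893 D92719) (tt N50286 (iv4 F139412)) (tt N26822 (iv5 F68124)) (tt N50894 D92720) (tt N26518 (iv7 F68126)))
theorem Q26889 : ∀ i, i < 26889 → P i := stepQ 26888 Q26888 (allL N26888 (tt N50895 D92721) (tt N50896 D92722) (tt N26520 F68129) (tt N50897 D92723) (tt N13433 (iv4 D43370)) (tt N50079 (iv5 F138825)) (tt N32482 (iv6 F82935)) (tt N49225 (iv7 F135446)))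
theorem Q26890 : ∀ i, i < 26890 → P i := stepQ 26889 Q26889 (allL N26889 (tt N25707 (iv1 F134005)) (tt N26633 (iv0 F134003)) (tt N14624 F68131) (tt N46520 (iv3 F125244)) (tt N14412 F68132) (tt N13524 F290730) (tt N13434 (iv6 D43372)) (tt N13523 (iv7 F290761)))
theorem Q26891 : ∀ i, i < 26891 → P i := stepQ 26890 Q26890 (allL N26890 (tt N50838 (iv1 F142708)) (tt N13479 F68395) (tt N25788 F68138) (tt N50866 (iv3 F142815)) (tt N25787 F68139) (tt N43288 (iv5 F108453)) (tt N13436 (iv6 D43375)) (tt N50837 (iv7 F142701)))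
theorem Q26892 : ∀ i, i < 26892 → P i := stepQ 26891 Q26891 (allL N26891 (tt N25840 F73768) (tt N50888 F142914) (tt N13439 F68140) (tt N26475 F68141) (tt N28380 (iv4 F73767)) (tt N33684 (iv5 F85441)) (tt N13437 (iv6 D43376)) (tt N50887 (iv7 F142905)))
theorem Q26893 : ∀ i, i < 26893 → P i := stepQ 26892 Q26892 (allL N26892 (tt N50887 (iv1 F142909)) (tt N13439 (iv0 D43377)) (tt N25840 (iv2 F68142)) (tt N50884 (iv3 F142886)) (tt N25839 F68143) (tt N32995 F324891) (tt N50898 D92728) (tt N50888 (iv7 F142912)))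
theorem Q26894 : ∀ i, i < 26894 → P i := stepQ 26893 Q26893 (allL N26893 (tt N50899 D92729) (tt N50893 (iv0 F142934)) (tt N33684 (iv2 F85440)) (tt N13443 F68144) (tt N50900 D92730) (tt N13439 (iv5 D43378)) (tt N33673 F85431) (tt N38120 F326341))
theorem Q26895 : ∀ i, i < 26895 → P i := stepQ 26894 Q26894 (allL N26894 (tt N50888 (iv1 F142913)) (tt N25840 (iv0 F68147)) (tt N50887 F142906) (tt N13444 F68145) (tt N28384 (iv4 F73771)) (tt N38120 (iv5 F325464)) (tt N25942 F68146) (tt N13439 (iv7 D43379)))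
theorem Q26896 : ∀ i, i < 26896 → P i := stepQ 26895 Q26895 (allL N26895 (tt N13440 (iv1 D43380)) (tt N26485 F68148) (tt N26483 F68151) (tt N29710 F77044) (tt N26513 (iv4 F68150)) (tt N50901 D92732) (tt N32671 F83324) (tt N26482 F68149))
theorem Q26897 : ∀ i, i < 26897 → P i := stepQ 26896 Q26896 (allL N26896 (tt N41884 F105040) (tt N50902 D92733) (tt N26484 F68152) (tt N33673 (iv3 F85429)) (tt N39459 F106588) (tt N13440 (iv5 D43381)) (tt N13443 F68153) (tt N33670 (iv7 F85422)))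
theorem Q26898 : ∀ i, i < 26898 → P i := stepQ 26897 Q26897 (allL N26897 (tt N25942 F68156) (tt N26508 F135528) (tt N26510 F68157) (tt N13441 (iv3 D43382)) (tt N14327 F68154) (tt N50903 D92734) (tt N50904 D92735) (tt N26489 F68155))
theorem Q26899 : ∀ i, i < 26899 → P i := stepQ 26898 Q26898 (allL N26898 (tt N50905 D92736) (tt N50906 D92737) (tt N26487 F68158) (tt N50903 (iv3 F142977)) (tt N50907 D92738) (tt N13441 (iv5 D43383)) (tt N50908 D92739) (tt N26490 F68159))
theorem Q26900 : ∀ i, i < 26900 → P i := stepQ 26899 Q26899 (allL N26899 (tt N26262 F290577) (tt N26641 (iv0 F68163)) (tt N26488 F68160) (tt N50904 (iv3 F142980)) (tt N27069 (iv4 F68880)) (tt N26399 F68161) (tt N13441 (iv6 D43384)) (tt N25992 F290578))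
theorem Q26901 : ∀ i, i < 26901 → P i := stepQ 26900 Q26900 (allL N26900 (tt N50864 (iv1 F290213)) (tt N50909 D92741) (tt N50910 D92742) (tt N13442 (iv3 D43385)) (tt N14475 F68169) (tt N50911 D92743) (tt N25988 (iv6 F290954)) (tt N26486 F68170))
theorem Q26902 : ∀ i, i < 26902 → P i := stepQ 26901 Q26901 (allL N26901 (tt N50906 (iv1 F142993)) (tt N50905 F142990) (tt N26490 F68171) (tt N50911 (iv3 F143011)) (tt N50912 D92745) (tt N13442 (iv5 D43386)) (tt N50913 D92746) (tt N26487 F68172))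
theorem Q26903 : ∀ i, i < 26903 → P i := stepQ 26902 Q26902 (allL N26902 (tt N26494 (iv1 F68182)) (tt N13443 (iv0 D43388)) (tt N26491 F68185) (tt N41894 F142375) (tt N50264 (iv4 F139363)) (tt N27183 (iv5 F69116)) (tt N50914 D92747) (tt N26492 F68184))
theorem Q26904 : ∀ i, i < 26904 → P i := stepQ 26903 Q26903 (allL N26903 (tt N13443 (iv1 D43389)) (tt N26494 F68176) (tt N26492 F68178) (tt N50915 D92748) (tt N50265 (iv4 F139359)) (tt N26798 (iv5 F68177)) (tt N50916 D92749) (tt N26491 (iv7 F68186)))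
theorem Q26905 : ∀ i, i < 26905 → P i := stepQ 26904 Q26904 (allL N26904 (tt N50917 D92750) (tt N50918 D92751) (tt N26493 F68179) (tt N50919 D92752) (tt N13443 (iv4 D43390)) (tt N50920 D92753) (tt N39459 (iv6 F106590)) (tt N50921 D92754))
theorem Q26906 : ∀ i, i < 26906 → P i := stepQ 26905 Q26905 (allL N26905 (tt N26492 (iv1 F68183)) (tt N26491 F68187) (tt N26494 F68180) (tt N38120 (iv3 F325463)) (tt N50921 (iv4 F143036)) (tt N13444 F68181) (tt N38118 F324313) (tt N13443 (iv7 D43391)))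
theorem Q26907 : ∀ i, i < 26907 → P i := stepQ 26906 Q26906 (allL N26906 (tt N26435 F290220) (tt N49226 F135448) (tt N25944 F68188) (tt N13445 (iv3 D43392)) (tt N26906 F68189) (tt N50922 D92756) (tt N25966 (iv6 F292601)) (tt N26495 F68190))
theorem Q26908 : ∀ i, i < 26908 → P i := stepQ 26907 Q26907 (allL N26907 (tt N29375 (iv1 F75906)) (tt N29374 F75902) (tt N14637 F68191) (tt N50922 (iv3 F143044)) (tt N50923 D92758) (tt N13445 (iv5 D43393)) (tt N50924 D92759) (tt N26496 F68192))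
theorem Q26909 : ∀ i, i < 26909 → P i := stepQ 26908 Q26908 (allL N26908 (tt N14282 F68201) (tt N25784 F68200) (tt N14107 F68198) (tt N29119 (iv3 F75086)) (tt N13446 (iv4 D43396)) (tt N50925 D92761) (tt N50926 D92762) (tt N26521 F68199))
theorem Q26910 : ∀ i, i < 26910 → P i := stepQ 26909 Q26909 (allL N26909 (tt N26568 (iv1 F177368)) (tt N26448 (iv0 F177369)) (tt N26524 F68202) (tt N26538 F68203) (tt N50926 (iv4 F143061)) (tt N50927 D92765) (tt N13446 (iv6 D43397)) (tt N26567 (iv7 F177364)))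
theorem Q26911 : ∀ i, i < 26911 → P i := stepQ 26910 Q26910 (allL N26910 (tt N28635 (iv1 F74310)) (tt N26432 (iv0 F68208)) (tt N21677 F68204) (tt N13447 (iv3 D43398)) (tt N26502 F68207) (tt N17447 F68205) (tt N50928 D92767) (tt N26523 F68206))
theorem Q26912 : ∀ i, i < 26912 → P i := stepQ 26911 Q26911 (allL N26911 (tt N25784 F68213) (tt N14282 F68212) (tt N26521 F68210) (tt N13923 F68214) (tt N13447 (iv4 D43399)) (tt N50929 D92768) (tt N50930 D92769) (tt N14107 F68211))
theorem Q26913 : ∀ i, i < 26913 → P i := stepQ 26912 Q26912 (allL N26912 (tt N13462 F157712) (tt N50820 (iv0 F157713)) (tt N26522 F68219) (tt N50928 (iv3 F143073)) (tt N50930 (iv4 F143083)) (tt N50931 D92772) (tt N13447 (iv6 D43400)) (tt N50819 (iv7 F157715)))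
theorem Q26914 : ∀ i, i < 26914 → P i := stepQ 26913 Q26913 (allL N26913 (tt N21970 (iv1 F68226)) (tt N19468 F68224) (tt N13449 F68220) (tt N23899 F68221) (tt N16906 F68223) (tt N13448 (iv5 D43401)) (tt N21188 F68225) (tt N16898 F68222))
theorem Q26915 : ∀ i, i < 26915 → P i := stepQ 26914 Q26914 (allL N26914 (tt N49231 F135459) (tt N49230 F135457) (tt N13450 F68227) (tt N26539 F68228) (tt N28198 (iv4 F73268)) (tt N50932 D92774) (tt N13448 (iv6 D43402)) (tt N49232 (iv7 F135460)))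
theorem Q26916 : ∀ i, i < 26916 → P i := stepQ 26915 Q26915 (allL N26915 (tt N13449 (iv1 D43403)) (tt N16898 F68229) (tt N19468 (iv2 F68233)) (tt N32518 F83070) (tt N19466 F68232) (tt N13599 F68231) (tt N19464 (iv6 F68234)) (tt N21970 F68230))
theorem Q26917 : ∀ i, i < 26917 → P i := stepQ 26916 Q26916 (allL N26916 (tt N16904 F68239) (tt N16903 (iv0 F68240)) (tt N16906 F68235) (tt N16925 F68236) (tt N13449 (iv4 D43404)) (tt N42659 (iv5 F106725)) (tt N16916 F68237) (tt N16894 F68238))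
theorem Q26918 : ∀ i, i < 26918 → P i := stepQ 26917 Q26917 (allL N26917 (tt N49232 (iv1 F135461)) (tt N13450 (iv0 D43405)) (tt N49231 (iv2 F160564)) (tt N50933 D92776) (tt N50934 D92777) (tt N50935 D92778) (tt N45118 F114563) (tt N49230 (iv7 F160563)))
theorem Q26919 : ∀ i, i < 26919 → P i := stepQ 26918 Q26918 (allL N26918 (tt N13450 (iv1 D43406)) (tt N49232 F135462) (tt N49230 (iv2 F160562)) (tt N50936 D92780) (tt N50937 D92781) (tt N50938 D92782) (tt N50939 D92783) (tt N49231 (iv7 F160565)))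
theorem Q26920 : ∀ i, i < 26920 → P i := stepQ 26919 Q26919 (allL N26919 (tt N50940 D92784) (tt N50941 D92785) (tt N50932 (iv2 F143092)) (tt N13452 F68241) (tt N50942 D92786) (tt N13450 (iv5 D43407)) (tt N29535 (iv6 F76629)) (tt N49233 (iv7 F135464)))
theorem Q26921 : ∀ i, i < 26921 → P i := stepQ 26920 Q26920 (allL N26920 (tt N26546 F68244) (tt N13451 (iv0 D43408)) (tt N26543 (iv2 F83416)) (tt N32505 F83031) (tt N16318 F68242) (tt N50943 D92787) (tt N16444 (iv6 F68243)) (tt N26544 (iv7 F83423)))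
theorem Q26922 : ∀ i, i < 26922 → P i := stepQ 26921 Q26921 (allL N26921 (tt N13451 (iv1 D43409)) (tt N26546 F68245) (tt N26544 F83424) (tt N26532 F68247) (tt N16319 (iv4 F68246)) (tt N50944 D92788) (tt N32749 (iv6 F83465)) (tt N26543 F83422))
theorem Q26923 : ∀ i, i < 26923 → P i := stepQ 26922 Q26922 (allL N26922 (tt N50945 D92789) (tt N45023 (iv0 F114383)) (tt N26545 F68248) (tt N29535 (iv3 F76628)) (tt N50946 D92790) (tt N13451 (iv5 D43410)) (tt N13452 F68249) (tt N50947 D92791))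
theorem Q26924 : ∀ i, i < 26924 → P i := stepQ 26923 Q26923 (allL N26923 (tt N26544 (iv1 F68254)) (tt N26543 (iv0 F68255)) (tt N26546 F68250) (tt N16914 F68251) (tt N16919 F68252) (tt N50947 (iv5 F143123)) (tt N21173 F68253) (tt N13451 (iv7 D43411)))
theorem Q26925 : ∀ i, i < 26925 → P i := stepQ 26924 Q26924 (allL N26924 (tt N25948 (iv1 F68257)) (tt N13452 (iv0 D43412)) (tt N26547 (iv2 F68258)) (tt N50948 D92792) (tt N50895 (iv4 F142938)) (tt N26808 F68256) (tt N50949 D92793) (tt N26548 (iv7 F68259)))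
theorem Q26926 : ∀ i, i < 26926 → P i := stepQ 26925 Q26925 (allL N26925 (tt N13452 (iv1 D43413)) (tt N25948 F68260) (tt N26548 F68263) (tt N26535 F68264) (tt N50896 (iv4 F142944)) (tt N25569 (iv5 F68262)) (tt N50950 D92794) (tt N26547 F68261))
theorem Q26927 : ∀ i, i < 26927 → P i := stepQ 26926 Q26926 (allL N26926 (tt N50231 (iv1 F139294)) (tt N50234 (iv0 F139297)) (tt N26549 F68265) (tt N50951 D92795) (tt N13452 (iv4 D43414)) (tt N50952 D92796) (tt N50946 (iv6 F143119)) (tt N37428 F317747))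
theorem Q26928 : ∀ i, i < 26928 → P i := stepQ 26927 Q26927 (allL N26927 (tt N50933 F143097) (tt N50953 D92797) (tt N13454 F68266) (tt N26525 F68267) (tt N27303 (iv4 F70043)) (tt N29534 (iv5 F76627)) (tt N13453 (iv6 D43415)) (tt N50954 D92798))
theorem Q26929 : ∀ i, i < 26929 → P i := stepQ 26928 Q26928 (allL N26928 (tt N50954 (iv1 F143150)) (tt N13454 (iv0 D43416)) (tt N50933 (iv2 F160558)) (tt N50955 D92800) (tt N29133 F135534) (tt N50956 D92801) (tt N50957 D92802) (tt N50953 (iv7 F160551)))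
theorem Q26930 : ∀ i, i < 26930 → P i := stepQ 26929 Q26929 (allL N26929 (tt N13454 (iv1 D43417)) (tt N50954 F143147) (tt N50953 (iv2 F160550)) (tt N49230 (iv3 F143149)) (tt N29134 F143148) (tt N50958 D92804) (tt N29084 F294515) (tt N50933 (iv7 F160559)))
theorem Q26931 : ∀ i, i < 26931 → P i := stepQ 26930 Q26930 (allL N26930 (tt N50953 (iv1 F143142)) (tt N50933 (iv0 F143098)) (tt N50954 (iv2 F143144)) (tt N13456 F68268) (tt N27308 (iv4 F70047)) (tt N32502 (iv5 F83016)) (tt N25947 F68269) (tt N13454 (iv7 D43418)))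
theorem Q26932 : ∀ i, i < 26932 → P i := stepQ 26931 Q26931 (allL N26931 (tt N26537 (iv1 F68276)) (tt N13455 (iv0 D43419)) (tt N26534 F68280) (tt N26547 (iv3 F68279)) (tt N50917 (iv4 F143024)) (tt N27144 (iv5 F69034)) (tt N50959 D92806) (tt N26535 F68278))
theorem Q26933 : ∀ i, i < 26933 → P i := stepQ 26932 Q26932 (allL N26932 (tt N13455 (iv1 D43420)) (tt N26537 F68270) (tt N26535 F68272) (tt N50960 D92807) (tt N50918 (iv4 F143030)) (tt N26807 (iv5 F68271)) (tt N50961 D92808) (tt N26534 (iv7 F68281)))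
theorem Q26934 : ∀ i, i < 26934 → P i := stepQ 26933 Q26933 (allL N26933 (tt N50194 F139204) (tt N50197 (iv0 F139210)) (tt N26536 F68273) (tt N50962 D92809) (tt N13455 (iv4 D43421)) (tt N50963 D92810) (tt N32499 (iv6 F83014)) (tt N50964 D92811))
theorem Q26935 : ∀ i, i < 26935 → P i := stepQ 26934 Q26934 (allL N26934 (tt N26535 (iv1 F68277)) (tt N26534 F68282) (tt N26537 F68274) (tt N32502 (iv3 F83015)) (tt N50964 (iv4 F143164)) (tt N13456 F68275) (tt N50965 D92812) (tt N13455 (iv7 D43422)))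
theorem Q26936 : ∀ i, i < 26936 → P i := stepQ 26935 Q26935 (allL N26935 (tt N13457 (iv1 D43423)) (tt N21536 F68283) (tt N23172 F106570) (tt N34395 F87464) (tt N14914 (iv4 F68284)) (tt N50966 D92813) (tt N37285 (iv6 F114363)) (tt N23169 (iv7 F106568)))
theorem Q26937 : ∀ i, i < 26937 → P i := stepQ 26936 Q26936 (allL N26936 (tt N32742 (iv1 F83452)) (tt N32737 (iv0 F83438)) (tt N26550 F68285) (tt N21748 F68286) (tt N35060 (iv4 F92116)) (tt N13457 (iv5 D43424)) (tt N13546 F68287) (tt N29891 (iv7 F77545)))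
theorem Q26938 : ∀ i, i < 26938 → P i := stepQ 26937 Q26937 (allL N26937 (tt N20993 F94978) (tt N45106 (iv0 F114554)) (tt N36662 (iv2 F94960)) (tt N13458 (iv3 D43426)) (tt N36664 (iv4 F94972)) (tt N43027 (iv5 F107967)) (tt N15181 F83009) (tt N45093 (iv7 F114520)))
theorem Q26939 : ∀ i, i < 26939 → P i := stepQ 26938 Q26938 (allL N26938 (tt N50018 (iv1 F138570)) (tt N26791 (iv0 F94979)) (tt N38200 (iv2 F97637)) (tt N41442 (iv3 F104225)) (tt N13458 (iv4 D43427)) (tt N50967 D92814) (tt N38198 F97633) (tt N50016 (iv7 F138559)))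
theorem Q26940 : ∀ i, i < 26940 → P i := stepQ 26939 Q26939 (allL N26939 (tt N50968 D92815) (tt N50969 D92816) (tt N44961 (iv2 F114195)) (tt N43027 F107970) (tt N50970 D92817) (tt N13458 (iv5 D43428)) (tt N50971 D92818) (tt N50294 (iv7 F139456)))
theorem Q26941 : ∀ i, i < 26941 → P i := stepQ 26940 Q26940 (allL N26940 (tt N37285 F95757) (tt N37284 F95754) (tt N19400 F83007) (tt N15181 F83008) (tt N38198 (iv4 F97629)) (tt N50972 D92819) (tt N13458 (iv6 D43429)) (tt N37286 (iv7 F95760)))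
theorem Q26942 : ∀ i, i < 26942 → P i := stepQ 26941 Q26941 (allL N26941 (tt N26791 F94178) (tt N50018 F138569) (tt N50016 F138560) (tt N16560 F83002) (tt N13459 (iv4 D43432)) (tt N45015 (iv5 F114336)) (tt N23264 (iv6 F83003)) (tt N38200 (iv7 F97640)))
theorem Q26943 : ∀ i, i < 26943 → P i := stepQ 26942 Q26942 (allL N26942 (tt N50969 (iv1 F143178)) (tt N50968 F143176) (tt N50294 (iv2 F139454)) (tt N16552 F83013) (tt N50973 D92820) (tt N13459 (iv5 D43433)) (tt N50974 D92821) (tt N44961 (iv7 F114197)))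
theorem Q26944 : ∀ i, i < 26944 → P i := stepQ 26943 Q26943 (allL N26943 (tt N50297 (iv1 F139468)) (tt N13460 (iv0 D43435)) (tt N32962 (iv2 F83784)) (tt N29586 (iv3 F83442)) (tt N50975 D92822) (tt N29583 F83441) (tt N50976 D92823) (tt N50295 (iv7 F139459)))
theorem Q26945 : ∀ i, i < 26945 → P i := stepQ 26944 Q26944 (allL N26944 (tt N13460 (iv1 D43436)) (tt N50297 F139467) (tt N50295 F139461) (tt N23132 F68291) (tt N50977 D92824) (tt N23131 (iv5 F68290)) (tt N50978 D92825) (tt N32962 (iv7 F83786)))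
theorem Q26946 : ∀ i, i < 26946 → P i := stepQ 26945 Q26945 (allL N26945 (tt N32688 (iv1 F83495)) (tt N50979 D92826) (tt N50296 (iv2 F139463)) (tt N43862 F110056) (tt N13460 (iv4 D43437)) (tt N43861 (iv5 F110057)) (tt N13469 F68292) (tt N50980 D92827))
theorem Q26947 : ∀ i, i < 26947 → P i := stepQ 26946 Q26946 (allL N26946 (tt N50295 (iv1 F139458)) (tt N32962 (iv0 F138894)) (tt N50297 (iv2 F139465)) (tt N26566 F68293) (tt N50980 (iv4 F143190)) (tt N13461 F68294) (tt N50981 D92828) (tt N13460 (iv7 D43438)))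
theorem Q26948 : ∀ i, i < 26948 → P i := stepQ 26947 Q26947 (allL N26947 (tt N50820 (iv1 F142651)) (tt N13462 (iv0 D43439)) (tt N50819 (iv2 F154063)) (tt N26580 F138903) (tt N50982 D92830) (tt N50983 D92831) (tt N26567 F177386) (tt N26522 (iv7 F157717)))
theorem Q26949 : ∀ i, i < 26949 → P i := stepQ 26948 Q26948 (allL N26948 (tt N50819 (iv1 F142652)) (tt N26522 F157722) (tt N13462 (iv2 D43441)) (tt N45159 (iv3 F177330)) (tt N28202 (iv4 F73282)) (tt N50984 D92838) (tt N29080 F293773) (tt N50820 (iv7 F142650)))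
theorem Q26950 : ∀ i, i < 26950 → P i := stepQ 26949 Q26949 (allL N26949 (tt N50985 D92840) (tt N42975 (iv0 F329796)) (tt N50984 (iv2 F143207)) (tt N13463 F68295) (tt N43027 (iv4 F329801)) (tt N13462 (iv5 D43442)) (tt N50986 D92843) (tt N50821 (iv7 F142655)))
theorem Q26951 : ∀ i, i < 26951 → P i := stepQ 26950 Q26950 (allL N26950 (tt N13465 (iv1 F68298)) (tt N13463 (iv0 D43444)) (tt N29214 (iv2 F292102)) (tt N50987 D92848) (tt N50988 D92849) (tt N14195 F291337) (tt N50989 D92850) (tt N50816 (iv7 F142636)))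
theorem Q26952 : ∀ i, i < 26952 → P i := stepQ 26951 Q26951 (allL N26951 (tt N13463 (iv1 D43445)) (tt N13465 F68299) (tt N50816 F142638) (tt N26576 (iv3 F69435)) (tt N50990 D92851) (tt N14198 F292969) (tt N50991 D92852) (tt N29214 F292970))
theorem Q26953 : ∀ i, i < 26953 → P i := stepQ 26952 Q26952 (allL N26952 (tt N50992 D92853) (tt N50993 D92854) (tt N50817 (iv2 F142639)) (tt N50970 (iv3 F365302)) (tt N13463 (iv4 D43446)) (tt N50994 D92856) (tt N50995 D92857) (tt N50822 (iv7 F142657)))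
theorem Q26954 : ∀ i, i < 26954 → P i := stepQ 26953 Q26953 (allL N26953 (tt N50996 D92858) (tt N50997 D92859) (tt N50818 (iv2 F142641)) (tt N50986 (iv3 F143209)) (tt N50995 (iv4 F143233)) (tt N29082 F293200) (tt N13463 (iv6 D43447)) (tt N50998 D92861))
theorem Q26955 : ∀ i, i < 26955 → P i := stepQ 26954 Q26954 (allL N26954 (tt N13464 (iv1 D43453)) (tt N45159 F177344) (tt N45161 F177345) (tt N26567 F139640) (tt N29161 F139641) (tt N50999 D92868) (tt N26580 (iv6 F177367)) (tt N26538 F177346))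
theorem Q26956 : ∀ i, i < 26956 → P i := stepQ 26955 Q26955 (allL N26955 (tt N26538 F177349) (tt N45161 F177350) (tt N13464 (iv2 D43454)) (tt N50820 (iv3 F142649)) (tt N51000 D92870) (tt N51001 D92871) (tt N45129 (iv6 F161622)) (tt N45159 (iv7 F177332)))
theorem Q26957 : ∀ i, i < 26957 → P i := stepQ 26956 Q26956 (allL N26956 (tt N27298 F205442) (tt N50408 (iv0 F139670)) (tt N51000 (iv2 F143246)) (tt N14563 F68311) (tt N13464 (iv4 D43455)) (tt N51002 D92873) (tt N29425 (iv6 F76133)) (tt N14593 F68312))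
theorem Q26958 : ∀ i, i < 26958 → P i := stepQ 26957 Q26957 (allL N26957 (tt N51003 D92874) (tt N51004 D92875) (tt N51001 (iv2 F143254)) (tt N13465 F68313) (tt N51005 D92876) (tt N13464 (iv5 D43456)) (tt N32917 (iv6 F177453)) (tt N50815 (iv7 F142631)))
theorem Q26959 : ∀ i, i < 26959 → P i := stepQ 26958 Q26958 (allL N26958 (tt N45033 (iv1 F161635)) (tt N45035 (iv0 F161632)) (tt N45129 (iv2 F161620)) (tt N13466 F68314) (tt N29425 (iv4 F76132)) (tt N51006 D92880) (tt N13464 (iv6 D43457)) (tt N29087 F292995))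
theorem Q26960 : ∀ i, i < 26960 → P i := stepQ 26959 Q26959 (allL N26959 (tt N50993 (iv1 F143230)) (tt N50992 F143226) (tt N50822 (iv2 F142656)) (tt N51007 D92881) (tt N13465 (iv4 D43458)) (tt N14280 (iv5 F293128)) (tt N51008 D92883) (tt N50817 (iv7 F142640)))
theorem Q26961 : ∀ i, i < 26961 → P i := stepQ 26960 Q26960 (allL N26960 (tt N51009 D92884) (tt N51010 D92885) (tt N50823 (iv2 F142658)) (tt N32917 (iv3 F177452)) (tt N51008 (iv4 F143261)) (tt N51011 D92886) (tt N13465 (iv6 D43459)) (tt N51012 D92887))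
theorem Q26962 : ∀ i, i < 26962 → P i := stepQ 26961 Q26961 (allL N26961 (tt N25568 F68315) (tt N26806 F68316) (tt N48621 F133595) (tt N51006 (iv3 F143259)) (tt N51013 D92888) (tt N13466 (iv5 D43460)) (tt N51011 (iv6 F143264)) (tt N29089 F292996))
theorem Q26963 : ∀ i, i < 26963 → P i := stepQ 26962 Q26962 (allL N26962 (tt N50983 (iv1 F329844)) (tt N50931 (iv0 F286267)) (tt N51014 D92891) (tt N13467 (iv3 D43462)) (tt N29586 (iv4 F329557)) (tt N51015 D92893) (tt N51016 D92894) (tt N50827 (iv7 F142664)))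
theorem Q26964 : ∀ i, i < 26964 → P i := stepQ 26963 Q26963 (allL N26963 (tt N51017 D92895) (tt N28479 (iv0 F74025)) (tt N50825 (iv2 F142660)) (tt N50975 (iv3 F349184)) (tt N13467 (iv4 D43463)) (tt N51018 D92897) (tt N51019 D92898) (tt N50828 (iv7 F142666)))
theorem Q26965 : ∀ i, i < 26965 → P i := stepQ 26964 Q26964 (allL N26964 (tt N28216 (iv1 F291339)) (tt N14554 (iv0 F291317)) (tt N28462 (iv2 F291334)) (tt N51015 (iv3 F143268)) (tt N28480 (iv4 F74022)) (tt N13467 (iv5 D43464)) (tt N50764 F142295) (tt N13556 F68326))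
theorem Q26966 : ∀ i, i < 26966 → P i := stepQ 26965 Q26965 (allL N26965 (tt N51020 D92899) (tt N51021 D92900) (tt N50826 (iv2 F142662)) (tt N51016 (iv3 F143270)) (tt N51019 (iv4 F143275)) (tt N51022 D92901) (tt N13467 (iv6 D43465)) (tt N51023 D92902))
theorem Q26967 : ∀ i, i < 26967 → P i := stepQ 26966 Q26966 (allL N26966 (tt N45160 (iv1 F157675)) (tt N50999 (iv0 F177365)) (tt N51024 D92905) (tt N13468 (iv3 D43467)) (tt N51025 D92906) (tt N51026 D92907) (tt N51027 D92908) (tt N50824 (iv7 F142659)))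
theorem Q26968 : ∀ i, i < 26968 → P i := stepQ 26967 Q26967 (allL N26967 (tt N28479 (iv1 F73972)) (tt N51017 F143272) (tt N50828 (iv2 F142665)) (tt N51028 D92909) (tt N13468 (iv4 D43468)) (tt N51029 D92910) (tt N51030 D92911) (tt N50825 (iv7 F142661)))
theorem Q26969 : ∀ i, i < 26969 → P i := stepQ 26968 Q26968 (allL N26968 (tt N14554 (iv1 F291318)) (tt N28216 (iv0 F291338)) (tt N13556 (iv2 F68321)) (tt N51026 (iv3 F143277)) (tt N13748 (iv4 F68322)) (tt N13468 (iv5 D43469)) (tt N13532 F68320) (tt N28462 (iv7 F291335)))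
theorem Q26970 : ∀ i, i < 26970 → P i := stepQ 26969 Q26969 (allL N26969 (tt N51031 D92912) (tt N51032 D92913) (tt N50829 (iv2 F142667)) (tt N51027 (iv3 F143280)) (tt N51030 (iv4 F143282)) (tt N51033 D92914) (tt N13468 (iv6 D43470)) (tt N51034 D92915))
theorem Q26971 : ∀ i, i < 26971 → P i := stepQ 26970 Q26970 (allL N26970 (tt N50834 (iv1 F142680)) (tt N13469 (iv0 D43471)) (tt N50830 F142841) (tt N51035 D92916) (tt N50871 (iv4 F142835)) (tt N51036 D92917) (tt N51037 D92918) (tt N50831 F142839))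
theorem Q26972 : ∀ i, i < 26972 → P i := stepQ 26971 Q26971 (allL N26971 (tt N13469 (iv1 D43472)) (tt N50834 F142679) (tt N50831 (iv2 F142840)) (tt N51038 D92919) (tt N50872 F142847) (tt N51039 D92920) (tt N51040 D92921) (tt N50830 (iv7 F142842)))
theorem Q26973 : ∀ i, i < 26973 → P i := stepQ 26972 Q26972 (allL N26972 (tt N51041 D92922) (tt N51042 D92923) (tt N51043 D92924) (tt N13469 (iv3 D43473)) (tt N26601 F68329) (tt N51044 D92925) (tt N43862 (iv6 F110058)) (tt N51045 D92926))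
theorem Q26974 : ∀ i, i < 26974 → P i := stepQ 26973 Q26973 (allL N26973 (tt N51046 D92927) (tt N14190 F293156) (tt N50833 (iv2 F142673)) (tt N51044 (iv3 F143289)) (tt N14279 F293157) (tt N13469 (iv5 D43474)) (tt N51047 D92929) (tt N50853 F142788))
theorem Q26975 : ∀ i, i < 26975 → P i := stepQ 26974 Q26974 (allL N26974 (tt N50831 (iv1 F142671)) (tt N50830 F142670) (tt N50834 (iv2 F142676)) (tt N51045 (iv3 F143290)) (tt N13470 F68330) (tt N50853 (iv5 F142787)) (tt N51048 D92930) (tt N13469 (iv7 D43475)))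
theorem Q26976 : ∀ i, i < 26976 → P i := stepQ 26975 Q26975 (allL N26975 (tt N51049 D92931) (tt N51050 D92932) (tt N50835 (iv2 F142681)) (tt N26604 F68331) (tt N51048 (iv4 F143298)) (tt N26604 F68332) (tt N13470 (iv6 D43476)) (tt N50981 (iv7 F143194)))
theorem Q26977 : ∀ i, i < 26977 → P i := stepQ 26976 Q26976 (allL N26976 (tt N41172 (iv1 F295844)) (tt N29131 (iv0 F157743)) (tt N51051 D92935) (tt N13471 (iv3 D43477)) (tt N13473 F68333) (tt N31481 F295723) (tt N25973 F291604) (tt N14585 F68334))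
theorem Q26978 : ∀ i, i < 26978 → P i := stepQ 26977 Q26977 (allL N26977 (tt N26722 F291427) (tt N50640 (iv0 F292229)) (tt N14584 F68335) (tt N31481 (iv3 F295629)) (tt N51052 D92939) (tt N13471 (iv5 D43478)) (tt N31483 F295524) (tt N14586 F68336))
theorem Q26979 : ∀ i, i < 26979 → P i := stepQ 26978 Q26978 (allL N26978 (tt N51053 D92948) (tt N51054 D92949) (tt N51055 D92950) (tt N13472 (iv3 D43487)) (tt N14227 F68347) (tt N51056 D92951) (tt N26612 F68348) (tt N14206 F68349))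
theorem Q26980 : ∀ i, i < 26980 → P i := stepQ 26979 Q26979 (allL N26979 (tt N50872 (iv1 F142843)) (tt N50871 F142836) (tt N50836 (iv2 F142693)) (tt N51056 (iv3 F143358)) (tt N51057 D92952) (tt N13472 (iv5 D43488)) (tt N51058 D92953) (tt N14208 F68350))
theorem Q26981 : ∀ i, i < 26981 → P i := stepQ 26980 Q26980 (allL N26980 (tt N50843 (iv1 F142737)) (tt N13473 (iv0 D43489)) (tt N50842 (iv2 F205451)) (tt N26614 (iv3 F139572)) (tt N41185 F331316) (tt N51059 D92955) (tt N26614 (iv6 F205454)) (tt N23258 F205443))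
theorem Q26982 : ∀ i, i < 26982 → P i := stepQ 26981 Q26981 (allL N26981 (tt N50842 (iv1 F142738)) (tt N23258 (iv0 F176018)) (tt N13473 (iv2 D43491)) (tt N50838 (iv3 F142706)) (tt N51051 (iv4 F143306)) (tt N51060 D92961) (tt N25995 F291602) (tt N50843 (iv7 F142736)))
theorem Q26983 : ∀ i, i < 26983 → P i := stepQ 26982 Q26982 (allL N26982 (tt N51061 D92963) (tt N51062 D92964) (tt N51060 (iv2 F143375)) (tt N13474 F68351) (tt N51063 D92965) (tt N13473 (iv5 D43492)) (tt N51064 D92966) (tt N50844 (iv7 F142741)))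
theorem Q26984 : ∀ i, i < 26984 → P i := stepQ 26983 Q26983 (allL N26983 (tt N13480 (iv1 F68354)) (tt N13474 (iv0 D43494)) (tt N50030 (iv2 F138590)) (tt N51065 D92971) (tt N51066 D92972) (tt N26825 F68353) (tt N51067 D92973) (tt N50445 (iv7 F290828)))
theorem Q26985 : ∀ i, i < 26985 → P i := stepQ 26984 Q26984 (allL N26984 (tt N13474 (iv1 D43495)) (tt N13480 F68355) (tt N50445 F291251) (tt N51068 D92974) (tt N51069 D92975) (tt N27172 (iv5 F69487)) (tt N51070 D92976) (tt N50030 (iv7 F138591)))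
theorem Q26986 : ∀ i, i < 26986 → P i := stepQ 26985 Q26985 (allL N26985 (tt N50988 (iv1 F143218)) (tt N50990 (iv0 F143220)) (tt N50840 (iv2 F142718)) (tt N51071 D92977) (tt N13474 (iv4 D43496)) (tt N51046 (iv5 F143292)) (tt N51072 D92978) (tt N50845 (iv7 F142743)))
theorem Q26987 : ∀ i, i < 26987 → P i := stepQ 26986 Q26986 (allL N26986 (tt N51073 D92979) (tt N51074 D92980) (tt N50841 (iv2 F142720)) (tt N51064 (iv3 F143377)) (tt N51072 (iv4 F143394)) (tt N25999 F291270) (tt N13474 (iv6 D43497)) (tt N51075 D92982))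
theorem Q26988 : ∀ i, i < 26988 → P i := stepQ 26987 Q26987 (allL N26987 (tt N26810 F68390) (tt N25550 F68388) (tt N46878 (iv2 F127433)) (tt N13483 F68386) (tt N26258 F68389) (tt N13478 (iv5 D43516)) (tt N14214 (iv6 F292019)) (tt N13626 F68387))
theorem Q26989 : ∀ i, i < 26989 → P i := stepQ 26988 Q26988 (allL N26988 (tt N13479 (iv1 D43518)) (tt N50838 F142709) (tt N50837 F142699) (tt N26455 (iv3 F68391)) (tt N25796 (iv4 F68392)) (tt N51076 D93010) (tt N26634 (iv6 F68394)) (tt N25788 F68393))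
theorem Q26990 : ∀ i, i < 26990 → P i := stepQ 26989 Q26989 (allL N26989 (tt N25788 F140421) (tt N50837 F142700) (tt N13479 (iv2 D43519)) (tt N50843 (iv3 F142734)) (tt N28528 (iv4 F74118)) (tt N51077 D93011) (tt N51078 D93012) (tt N50838 (iv7 F142707)))
theorem Q26991 : ∀ i, i < 26991 → P i := stepQ 26990 Q26990 (allL N26990 (tt N51079 D93013) (tt N51080 D93014) (tt N51077 (iv2 F143450)) (tt N13480 F68396) (tt N51081 D93015) (tt N13479 (iv5 D43520)) (tt N51082 D93016) (tt N50839 (iv7 F142711)))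
theorem Q26992 : ∀ i, i < 26992 → P i := stepQ 26991 Q26991 (allL N26991 (tt N51083 D93017) (tt N50904 (iv0 F142988)) (tt N51078 (iv2 F143451)) (tt N13481 F68397) (tt N28530 (iv4 F74121)) (tt N51084 D93018) (tt N13479 (iv6 D43521)) (tt N29075 F291624))
theorem Q26993 : ∀ i, i < 26993 → P i := stepQ 26992 Q26992 (allL N26992 (tt N50990 (iv1 F143221)) (tt N50988 (iv0 F143217)) (tt N50845 (iv2 F142742)) (tt N51085 D93019) (tt N13480 (iv4 D43522)) (tt N14190 (iv5 F292040)) (tt N51086 D93020) (tt N50840 (iv7 F142719)))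
theorem Q26994 : ∀ i, i < 26994 → P i := stepQ 26993 Q26993 (allL N26993 (tt N51087 D93021) (tt N51088 D93022) (tt N50846 (iv2 F142744)) (tt N51082 (iv3 F143458)) (tt N51086 (iv4 F143466)) (tt N51089 D93023) (tt N13480 (iv6 D43523)) (tt N51090 D93024))
theorem Q26995 : ∀ i, i < 26995 → P i := stepQ 26994 Q26994 (allL N26994 (tt N25938 (iv1 F68399)) (tt N13481 (iv0 D43524)) (tt N28340 (iv2 F73627)) (tt N51091 D93025) (tt N27202 (iv4 F69229)) (tt N26425 F68398) (tt N26622 (iv6 F68401)) (tt N26517 F68400))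
theorem Q26996 : ∀ i, i < 26996 → P i := stepQ 26995 Q26995 (allL N26995 (tt N26800 (iv1 F68403)) (tt N26797 F68402) (tt N49249 (iv2 F135508)) (tt N51084 (iv3 F143464)) (tt N51092 D93026) (tt N13481 (iv5 D43525)) (tt N51089 (iv6 F143468)) (tt N29077 F291332))
theorem Q26997 : ∀ i, i < 26997 → P i := stepQ 26996 Q26996 (allL N26996 (tt N51093 D93027) (tt N25763 (iv0 F292316)) (tt N40128 F328872) (tt N13482 (iv3 D43526)) (tt N26612 F291454) (tt N40122 F328873) (tt N14227 (iv6 F292326)) (tt N14076 (iv7 F292327)))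
theorem Q26998 : ∀ i, i < 26998 → P i := stepQ 26997 Q26997 (allL N26997 (tt N14189 F293150) (tt N14188 F293151) (tt N14191 F293152) (tt N40122 F328869) (tt N51046 (iv4 F143293)) (tt N13482 (iv5 D43527)) (tt N40059 (iv6 F329201)) (tt N14079 F293153))
theorem Q26999 : ∀ i, i < 26999 → P i := stepQ 26998 Q26998 (allL N26998 (tt N26822 F68405) (tt N49421 (iv0 F136284)) (tt N48623 (iv2 F133599)) (tt N51094 D93032) (tt N13483 (iv4 D43528)) (tt N29015 (iv5 F74815)) (tt N14252 (iv6 F290844)) (tt N13629 F68404))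
theorem Q27000 : ∀ i, i < 27000 → P i := stepQ 26999 Q26999 (allL N26999 (tt N14545 F291822) (tt N26378 F71465) (tt N28370 F291823) (tt N13486 F68412) (tt N26740 F291824) (tt N13484 (iv5 D43532)) (tt N26284 F291825) (tt N13568 F68413))
theorem Q27001 : ∀ i, i < 27001 → P i := stepQ 27000 Q27000 (allL N27000 (tt N13488 (iv1 F68416)) (tt N13485 (iv0 D43534)) (tt N26279 F291688) (tt N51095 D93039) (tt N14214 F68415) (tt N14188 (iv5 F292683)) (tt N26258 (iv6 F292091)) (tt N14213 (iv7 F68417)))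
theorem Q27002 : ∀ i, i < 27002 → P i := stepQ 27001 Q27001 (allL N27001 (tt N40136 (iv1 F335656)) (tt N40134 (iv0 F335657)) (tt N44390 (iv2 F335658)) (tt N13485 (iv3 D43536)) (tt N48581 (iv4 F292869)) (tt N31574 (iv5 F335659)) (tt N24401 F335620) (tt N50847 (iv7 F142761)))
theorem Q27003 : ∀ i, i < 27003 → P i := stepQ 27002 Q27002 (allL N27002 (tt N26629 (iv1 F292282)) (tt N28210 (iv0 F292692)) (tt N26280 (iv2 F292698)) (tt N31574 F335675) (tt N51039 (iv4 F143286)) (tt N13485 (iv5 D43537)) (tt N31572 (iv6 F335711)) (tt N28438 F291852))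
theorem Q27004 : ∀ i, i < 27004 → P i := stepQ 27003 Q27003 (allL N27003 (tt N26632 F290807) (tt N26397 F73955) (tt N26283 F290808) (tt N51096 D93054) (tt N13486 (iv4 D43539)) (tt N50871 (iv5 F142834)) (tt N26287 (iv6 F290988)) (tt N13572 F68423))
theorem Q27005 : ∀ i, i < 27005 → P i := stepQ 27004 Q27004 (allL N27004 (tt N13913 F291668) (tt N26271 F291669) (tt N13487 (iv2 D43542)) (tt N48901 F134827) (tt N27266 F291670) (tt N24439 F68434) (tt N49863 F137657) (tt N26264 F291671))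
theorem Q27006 : ∀ i, i < 27006 → P i := stepQ 27005 Q27005 (allL N27005 (tt N26809 F68439) (tt N26088 (iv0 F291071)) (tt N49863 (iv2 F137659)) (tt N13490 F68436) (tt N28556 (iv4 F74177)) (tt N26633 F68437) (tt N13487 (iv6 D43543)) (tt N26046 (iv7 F290905)))
theorem Q27007 : ∀ i, i < 27007 → P i := stepQ 27006 Q27006 (allL N27006 (tt N28163 (iv1 F292684)) (tt N44057 F328901) (tt N51097 D93058) (tt N13488 (iv3 D43544)) (tt N28554 (iv4 F74176)) (tt N44072 (iv5 F329249)) (tt N51098 D93060) (tt N26276 F291689))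
theorem Q27008 : ∀ i, i < 27008 → P i := stepQ 27007 Q27007 (allL N27007 (tt N28210 (iv1 F292693)) (tt N26629 (iv0 F292281)) (tt N28438 F291690) (tt N44072 F329549) (tt N51036 (iv4 F143285)) (tt N13488 (iv5 D43545)) (tt N51099 D93061) (tt N26280 (iv7 F292699)))
theorem Q27009 : ∀ i, i < 27009 → P i := stepQ 27008 Q27008 (allL N27008 (tt N26254 (iv1 F290833)) (tt N26107 (iv0 F290818)) (tt N26256 F290734) (tt N51098 (iv3 F143541)) (tt N13490 F68441) (tt N28385 (iv5 F291078)) (tt N13488 (iv6 D43546)) (tt N26050 (iv7 F290906)))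
theorem Q27010 : ∀ i, i < 27010 → P i := stepQ 27009 Q27009 (allL N27009 (tt N26397 F137196) (tt N26632 F290809) (tt N13572 F68443) (tt N51100 D93063) (tt N13489 (iv4 D43547)) (tt N50872 (iv5 F142845)) (tt N13536 F68444) (tt N26283 F290810))
theorem Q27011 : ∀ i, i < 27011 → P i := stepQ 27010 Q27010 (allL N27010 (tt N51101 D93064) (tt N51102 D93065) (tt N51103 D93066) (tt N13491 (iv3 D43548)) (tt N48955 (iv4 F134937)) (tt N51104 D93067) (tt N26040 (iv6 F293194)) (tt N50848 (iv7 F142773)))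
theorem Q27012 : ∀ i, i < 27012 → P i := stepQ 27011 Q27011 (allL N27011 (tt N28215 (iv1 F293216)) (tt N14553 (iv0 F293192)) (tt N26212 F293148) (tt N51104 (iv3 F143548)) (tt N51029 (iv4 F143281)) (tt N13491 (iv5 D43549)) (tt N51105 D93071) (tt N28459 F293149))
theorem Q27013 : ∀ i, i < 27013 → P i := stepQ 27012 Q27012 (allL N27012 (tt N51106 D93074) (tt N51107 D93075) (tt N51108 D93076) (tt N13492 (iv3 D43551)) (tt N51109 D93077) (tt N51110 D93078) (tt N51111 D93079) (tt N26208 (iv7 F292919)))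
theorem Q27014 : ∀ i, i < 27014 → P i := stepQ 27013 Q27013 (allL N27013 (tt N14553 (iv1 F293193)) (tt N28215 (iv0 F293215)) (tt N28459 (iv2 F292894)) (tt N51110 (iv3 F143568)) (tt N51018 (iv4 F143274)) (tt N13492 (iv5 D43552)) (tt N51112 D93080) (tt N26212 (iv7 F292920)))
theorem Q27015 : ∀ i, i < 27015 → P i := stepQ 27014 Q27014 (allL N27014 (tt N26201 F290961) (tt N26114 F290962) (tt N26203 (iv2 F291152)) (tt N51111 (iv3 F143569)) (tt N27199 F290963) (tt N27924 (iv5 F291497)) (tt N13492 (iv6 D43553)) (tt N26039 (iv7 F291150)))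
theorem Q27016 : ∀ i, i < 27016 → P i := stepQ 27015 Q27015 (allL N27015 (tt N29192 F293707) (tt N13493 (iv0 D43554)) (tt N26165 (iv2 F294631)) (tt N51113 D93084) (tt N26605 (iv4 F294635)) (tt N27057 (iv5 F294636)) (tt N26156 (iv6 F294637)) (tt N48746 (iv7 F294639)))
theorem Q27017 : ∀ i, i < 27017 → P i := stepQ 27016 Q27016 (allL N27016 (tt N13493 (iv1 D43555)) (tt N29192 F293708) (tt N48746 (iv2 F294638)) (tt N51114 D93089) (tt N26242 (iv4 F294644)) (tt N27058 (iv5 F294645)) (tt N26241 (iv6 F294646)) (tt N26165 (iv7 F294632)))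
theorem Q27018 : ∀ i, i < 27018 → P i := stepQ 27017 Q27017 (allL N27017 (tt N14312 (iv1 F294648)) (tt N25820 (iv0 F294649)) (tt N25818 (iv2 F294647)) (tt N13494 F68447) (tt N51115 D93098) (tt N13493 (iv5 D43557)) (tt N51116 D93099) (tt N25817 F293710))
theorem Q27019 : ∀ i, i < 27019 → P i := stepQ 27018 Q27018 (allL N27018 (tt N13494 (iv1 D43560)) (tt N14279 F293210) (tt N14281 F293211) (tt N51117 D93103) (tt N50994 (iv4 F143232)) (tt N14095 F293212) (tt N51118 D93104) (tt N14094 F293213))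
theorem Q27020 : ∀ i, i < 27020 → P i := stepQ 27019 Q27019 (allL N27019 (tt N14190 F293158) (tt N51046 F143294) (tt N50853 (iv2 F142786)) (tt N51119 D93105) (tt N13494 (iv4 D43561)) (tt N50834 (iv5 F142678)) (tt N51120 D93106) (tt N50833 F142675))
theorem Q27021 : ∀ i, i < 27021 → P i := stepQ 27020 Q27020 (allL N27020 (tt N51121 D93107) (tt N51122 D93108) (tt N50854 (iv2 F142789)) (tt N51116 (iv3 F143583)) (tt N51120 (iv4 F143587)) (tt N13509 F68450) (tt N13494 (iv6 D43562)) (tt N51123 D93109))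
theorem Q27022 : ∀ i, i < 27022 → P i := stepQ 27021 Q27021 (allL N27021 (tt N14281 (iv1 F292938)) (tt N14094 (iv0 F292935)) (tt N14279 (iv2 F292710)) (tt N25817 (iv3 F292956)) (tt N50833 (iv4 F142674)) (tt N13495 F68451) (tt N51124 D93110) (tt N13494 (iv7 D43563)))
theorem Q27023 : ∀ i, i < 27023 → P i := stepQ 27022 Q27022 (allL N27022 (tt N46699 (iv1 F294994)) (tt N46698 (iv0 F294993)) (tt N38789 F327944) (tt N13498 (iv3 D43569)) (tt N13499 F68473) (tt N31662 F327945) (tt N27193 F294930) (tt N25599 F68474))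
theorem Q27024 : ∀ i, i < 27024 → P i := stepQ 27023 Q27023 (allL N27023 (tt N24399 F294931) (tt N13499 (iv0 D43577)) (tt N26065 F294932) (tt N48700 (iv3 F295309)) (tt N14006 (iv4 F295310)) (tt N50062 (iv5 F294984)) (tt N51125 D93130) (tt N26064 F294933))
theorem Q27025 : ∀ i, i < 27025 → P i := stepQ 27024 Q27024 (allL N27024 (tt N13499 (iv1 D43578)) (tt N24399 F294934) (tt N26064 F294935) (tt N51126 D93132) (tt N14005 (iv4 F295316)) (tt N50063 (iv5 F294985)) (tt N40134 F329517) (tt N26065 F294936))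
theorem Q27026 : ∀ i, i < 27026 → P i := stepQ 27025 Q27025 (allL N27025 (tt N26065 F294841) (tt N26064 F294842) (tt N13499 (iv2 D43579)) (tt N26662 F68491) (tt N38789 F328111) (tt N51127 D93136) (tt N28059 F294843) (tt N24399 F294844))
theorem Q27027 : ∀ i, i < 27027 → P i := stepQ 27026 Q27026 (allL N27026 (tt N51128 D93138) (tt N51129 D93139) (tt N51127 (iv2 F143635)) (tt N13500 F68496) (tt N51130 D93140) (tt N13499 (iv5 D43580)) (tt N19721 F324642) (tt N26066 F294937))
theorem Q27028 : ∀ i, i < 27028 → P i := stepQ 27027 Q27027 (allL N27027 (tt N51131 D93146) (tt N51132 D93147) (tt N26664 F68499) (tt N19721 (iv3 F323233)) (tt N14347 (iv4 F295146)) (tt N19720 (iv5 F323234)) (tt N13500 (iv6 D43582)) (tt N51133 D93149))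
theorem Q27029 : ∀ i, i < 27029 → P i := stepQ 27028 Q27028 (allL N27028 (tt N26121 F294964) (tt N13501 (iv0 D43604)) (tt N26127 (iv2 F295331)) (tt N27948 (iv3 F295333)) (tt N51134 D93198) (tt N50531 (iv5 F356189)) (tt N51135 D93200) (tt N26126 (iv7 F295336)))
theorem Q27030 : ∀ i, i < 27030 → P i := stepQ 27029 Q27029 (allL N27029 (tt N13501 (iv1 D43605)) (tt N26121 F294965) (tt N26126 (iv2 F295335)) (tt N51136 D93202) (tt N51137 D93203) (tt N50532 (iv5 F356248)) (tt N51102 (iv6 F357533)) (tt N26127 (iv7 F295332)))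
theorem Q27031 : ∀ i, i < 27031 → P i := stepQ 27030 Q27030 (allL N27030 (tt N26127 F294961) (tt N26126 F294962) (tt N13501 (iv2 D43606)) (tt N50490 (iv3 F140045)) (tt N51138 D93206) (tt N51139 D93207) (tt N51140 D93208) (tt N26121 F294963))
theorem Q27032 : ∀ i, i < 27032 → P i := stepQ 27031 Q27031 (allL N27031 (tt N13758 (iv1 F295186)) (tt N51141 D93209) (tt N51138 (iv2 F143777)) (tt N25511 F68552) (tt N13501 (iv4 D43607)) (tt N51142 D93210) (tt N27903 F294725) (tt N26123 F294726))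
theorem Q27033 : ∀ i, i < 27033 → P i := stepQ 27032 Q27032 (allL N27032 (tt N51143 D93212) (tt N51144 D93213) (tt N51139 (iv2 F143779)) (tt N13502 F68553) (tt N51145 D93214) (tt N13501 (iv5 D43608)) (tt N51146 D93215) (tt N26128 F294966))
theorem Q27034 : ∀ i, i < 27034 → P i := stepQ 27033 Q27033 (allL N27033 (tt N51147 D93216) (tt N51148 D93217) (tt N51140 (iv2 F143784)) (tt N13503 F68555) (tt N27903 (iv4 F293844)) (tt N51149 D93218) (tt N13501 (iv6 D43609)) (tt N24436 F293201))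
theorem Q27035 : ∀ i, i < 27035 → P i := stepQ 27034 Q27034 (allL N27034 (tt N51150 D93220) (tt N51151 D93221) (tt N26707 F68556) (tt N51146 (iv3 F143793)) (tt N14059 F295367) (tt N51152 D93222) (tt N13502 (iv6 D43610)) (tt N51153 D93223))
theorem Q27036 : ∀ i, i < 27036 → P i := stepQ 27035 Q27035 (allL N27035 (tt N26148 (iv1 F293209)) (tt N26147 (iv0 F293272)) (tt N26150 F293202) (tt N51149 (iv3 F143794)) (tt N49601 (iv4 F294225)) (tt N13503 (iv5 D43613)) (tt N51152 (iv6 F143798)) (tt N24437 F293203))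
theorem Q27037 : ∀ i, i < 27037 → P i := stepQ 27036 Q27036 (allL N27036 (tt N50490 (iv1 F140048)) (tt N13504 (iv0 D43615)) (tt N50489 (iv2 F344254)) (tt N51154 D93229) (tt N26139 (iv4 F295298)) (tt N50551 (iv5 F357623)) (tt N51106 (iv6 F357583)) (tt N50488 (iv7 F344259)))
theorem Q27038 : ∀ i, i < 27038 → P i := stepQ 27037 Q27037 (allL N27037 (tt N13504 (iv1 D43616)) (tt N50490 F140050) (tt N50488 (iv2 F344257)) (tt N51155 D93234) (tt N26140 F295160) (tt N50552 (iv5 F356800)) (tt N39685 F339533) (tt N50489 (iv7 F344255)))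
theorem Q27039 : ∀ i, i < 27039 → P i := stepQ 27038 Q27038 (allL N27038 (tt N50489 (iv1 F140049)) (tt N50488 F140044) (tt N13504 (iv2 D43617)) (tt N26121 F295161) (tt N48546 (iv4 F295223)) (tt N51156 D93238) (tt N24483 F295162) (tt N50490 (iv7 F140047)))
theorem Q27040 : ∀ i, i < 27040 → P i := stepQ 27039 Q27039 (allL N27039 (tt N51157 D93240) (tt N51158 D93241) (tt N51156 (iv2 F143812)) (tt N13505 F68560) (tt N51159 D93242) (tt N13504 (iv5 D43618)) (tt N28780 (iv6 F295430)) (tt N26706 F68561))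
theorem Q27041 : ∀ i, i < 27041 → P i := stepQ 27040 Q27040 (allL N27040 (tt N51155 (iv1 F295435)) (tt N51160 D93257) (tt N49359 (iv2 F141310)) (tt N13506 (iv3 D43624)) (tt N27268 F293698) (tt N51161 D93258) (tt N25597 (iv6 F293724)) (tt N26153 (iv7 F294391)))
theorem Q27042 : ∀ i, i < 27042 → P i := stepQ 27041 Q27041 (allL N27041 (tt N26701 (iv1 F68854)) (tt N26705 F68855) (tt N26702 F141303) (tt N51161 (iv3 F143837)) (tt N51162 D93261) (tt N13506 (iv5 D43626)) (tt N51163 D93262) (tt N26154 (iv7 F294741)))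
theorem Q27043 : ∀ i, i < 27043 → P i := stepQ 27042 Q27042 (allL N27042 (tt N50687 (iv1 F141506)) (tt N50692 (iv0 F141535)) (tt N48744 (iv2 F295291)) (tt N51164 D93281) (tt N13507 (iv4 D43636)) (tt N50575 (iv5 F140224)) (tt N51165 D93282) (tt N27195 (iv7 F295172)))
theorem Q27044 : ∀ i, i < 27044 → P i := stepQ 27043 Q27043 (allL N27043 (tt N51166 D93283) (tt N51167 D93284) (tt N48745 (iv2 F295353)) (tt N13509 F68569) (tt N51165 (iv4 F143863)) (tt N51116 (iv5 F143584)) (tt N13507 (iv6 D43637)) (tt N51168 D93285))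
theorem Q27045 : ∀ i, i < 27045 → P i := stepQ 27044 Q27044 (allL N27044 (tt N51169 D93286) (tt N51170 D93287) (tt N51171 D93288) (tt N13508 (iv3 D43638)) (tt N51164 (iv4 F143861)) (tt N14069 F294373) (tt N51172 D93289) (tt N26866 F68571))
theorem Q27046 : ∀ i, i < 27046 → P i := stepQ 27045 Q27045 (allL N27045 (tt N51173 D93290) (tt N51174 D93291) (tt N27049 (iv2 F68573)) (tt N51172 (iv3 F143872)) (tt N13509 F68572) (tt N28878 (iv5 F294977)) (tt N13508 (iv6 D43639)) (tt N51175 D93293))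
theorem Q27047 : ∀ i, i < 27047 → P i := stepQ 27046 Q27046 (allL N27046 (tt N50863 (iv1 F142807)) (tt N13509 (iv0 D43640)) (tt N50861 F380059) (tt N51176 D93295) (tt N51177 D93296) (tt N51178 D93297) (tt N51179 D93298) (tt N50862 (iv7 F380066)))
theorem Q27048 : ∀ i, i < 27048 → P i := stepQ 27047 Q27047 (allL N27047 (tt N13509 (iv1 D43641)) (tt N50863 F142806) (tt N50862 (iv2 F380065)) (tt N51180 D93300) (tt N51181 D93301) (tt N51182 D93302) (tt N51183 D93303) (tt N50861 F380064))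
theorem Q27049 : ∀ i, i < 27049 → P i := stepQ 27048 Q27048 (allL N27048 (tt N50862 (iv1 F142803)) (tt N50861 F142805) (tt N50863 (iv2 F142804)) (tt N51168 (iv3 F143864)) (tt N51175 (iv4 F143874)) (tt N51123 (iv5 F143588)) (tt N51184 D93304) (tt N13509 (iv7 D43642)))
theorem Q27050 : ∀ i, i < 27050 → P i := stepQ 27049 Q27049 (allL N27049 (tt N51185 D93305) (tt N51186 D93306) (tt N27045 F68573) (tt N27196 (iv3 F295173)) (tt N26867 F68574) (tt N51187 D93307) (tt N13510 (iv6 D43643)) (tt N51184 (iv7 F143880)))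
theorem Q27051 : ∀ i, i < 27051 → P i := stepQ 27050 Q27050 (allL N27050 (tt N14130 (iv1 F294825)) (tt N14126 (iv0 F294826)) (tt N14382 (iv2 F294258)) (tt N27198 (iv3 F294824)) (tt N51188 D93314) (tt N13511 (iv5 D43646)) (tt N51187 (iv6 F143886)) (tt N14383 F293950))
theorem Q27052 : ∀ i, i < 27052 → P i := stepQ 27051 Q27051 (allL N27051 (tt N48865 F134740) (tt N48861 (iv0 F134738)) (tt N51189 D93320) (tt N13512 (iv3 D43651)) (tt N14298 F68581) (tt N51190 D93321) (tt N25720 F68582) (tt N14291 F68583))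
theorem Q27053 : ∀ i, i < 27053 → P i := stepQ 27052 Q27052 (allL N27052 (tt N25769 (iv1 F68586)) (tt N25768 F68587) (tt N25771 F68584) (tt N51190 (iv3 F143904)) (tt N51191 D93322) (tt N13512 (iv5 D43652)) (tt N51192 D93323) (tt N14615 F68585))
theorem Q27054 : ∀ i, i < 27054 → P i := stepQ 27053 Q27053 (allL N27053 (tt N51193 D93326) (tt N14106 F157766) (tt N14192 F68593) (tt N13513 (iv3 D43654)) (tt N27053 F68594) (tt N51194 D93328) (tt N25573 F293501) (tt N25772 F68595))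
theorem Q27055 : ∀ i, i < 27055 → P i := stepQ 27054 Q27054 (allL N27054 (tt N27062 (iv1 F68683)) (tt N27061 F68682) (tt N13515 F68596) (tt N51194 (iv3 F143922)) (tt N51195 D93330) (tt N13513 (iv5 D43655)) (tt N51196 D93331) (tt N25773 F68597))
theorem Q27056 : ∀ i, i < 27056 → P i := stepQ 27055 Q27055 (allL N27055 (tt N51197 D93335) (tt N51198 D93336) (tt N51199 D93337) (tt N13514 (iv3 D43659)) (tt N26634 F68610) (tt N51200 D93338) (tt N25796 F68608) (tt N14310 F68609))
theorem Q27057 : ∀ i, i < 27057 → P i := stepQ 27056 Q27056 (allL N27056 (tt N25818 F68619) (tt N25817 F68620) (tt N25820 F68617) (tt N51200 (iv3 F143952)) (tt N51201 D93340) (tt N13514 (iv5 D43661)) (tt N51202 D93341) (tt N14312 F68618))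
theorem Q27058 : ∀ i, i < 27058 → P i := stepQ 27057 Q27057 (allL N27057 (tt N25773 (iv1 F68621)) (tt N13515 (iv0 D43662)) (tt N27062 F69140) (tt N51203 D93342) (tt N44078 F329902) (tt N27015 F294636) (tt N51204 D93344) (tt N27061 (iv7 F69141)))
theorem Q27059 : ∀ i, i < 27059 → P i := stepQ 27058 Q27058 (allL N27058 (tt N13515 (iv1 D43663)) (tt N25773 F68622) (tt N27061 (iv2 F69143)) (tt N51205 D93345) (tt N44077 F329898) (tt N27016 F294645) (tt N51206 D93347) (tt N27062 F69142))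
theorem Q27060 : ∀ i, i < 27060 → P i := stepQ 27059 Q27059 (allL N27059 (tt N51207 D93348) (tt N51208 D93349) (tt N51195 (iv2 F143927)) (tt N22566 F329961) (tt N13515 (iv4 D43664)) (tt N51209 D93351) (tt N51210 D93352) (tt N27063 (iv7 F68686)))
theorem Q27061 : ∀ i, i < 27061 → P i := stepQ 27060 Q27060 (allL N27060 (tt N51211 D93353) (tt N51212 D93354) (tt N51196 (iv2 F143929)) (tt N29213 (iv3 F75262)) (tt N51210 (iv4 F143975)) (tt N25587 F294771) (tt N13515 (iv6 D43665)) (tt N51213 D93356))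
theorem Q27062 : ∀ i, i < 27062 → P i := stepQ 27061 Q27061 (allL N27061 (tt N27054 (iv1 F68682)) (tt N13516 (iv0 D43698)) (tt N27058 F69143) (tt N51214 D93434) (tt N51215 D93435) (tt N48746 (iv5 F134198)) (tt N49106 (iv6 F135182)) (tt N27057 F69141))
theorem Q27063 : ∀ i, i < 27063 → P i := stepQ 27062 Q27062 (allL N27062 (tt N13516 (iv1 D43699)) (tt N27054 F68683) (tt N27057 (iv2 F69140)) (tt N31582 F335384) (tt N51216 D93437) (tt N26165 F68684) (tt N31580 (iv6 F335391)) (tt N27058 (iv7 F69142)))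
theorem Q27064 : ∀ i, i < 27064 → P i := stepQ 27063 Q27063 (allL N27063 (tt N51217 D93439) (tt N51218 D93440) (tt N29177 F293996) (tt N42344 F353037) (tt N13516 (iv4 D43700)) (tt N29112 F293997) (tt N51219 D93443) (tt N27059 F68686))
theorem Q27065 : ∀ i, i < 27065 → P i := stepQ 27064 Q27064 (allL N27064 (tt N51220 D93444) (tt N51221 D93445) (tt N48951 (iv2 F134929)) (tt N28465 (iv3 F73900)) (tt N51219 (iv4 F144144)) (tt N51222 D93446) (tt N13516 (iv6 D43701)) (tt N51223 D93447))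
theorem Q27066 : ∀ i, i < 27066 → P i := stepQ 27065 Q27065 (allL N27065 (tt N48539 (iv1 F133345)) (tt N26238 F68687) (tt N48575 F133497) (tt N28466 (iv3 F73910)) (tt N51224 D93448) (tt N13517 (iv5 D43702)) (tt N51222 (iv6 F144145)) (tt N29472 F294178))
theorem Q27067 : ∀ i, i < 27067 → P i := stepQ 27066 Q27066 (allL N27066 (tt N26162 F68708) (tt N26241 (iv0 F68709)) (tt N48607 (iv2 F133553)) (tt N26201 F68704) (tt N13518 (iv4 D43711)) (tt N25844 F68707) (tt N14606 (iv6 F292829)) (tt N13631 F68706))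
theorem Q27068 : ∀ i, i < 27068 → P i := stepQ 27067 Q27067 (allL N27067 (tt N13519 (iv1 D43734)) (tt N26343 F292235) (tt N26352 F292236) (tt N51225 D93521) (tt N26645 (iv4 F293143)) (tt N29111 (iv5 F293010)) (tt N26358 F292237) (tt N26353 F292238))
theorem Q27069 : ∀ i, i < 27069 → P i := stepQ 27068 Q27068 (allL N27068 (tt N14528 (iv1 F291901)) (tt N14531 F291226) (tt N48953 (iv2 F134934)) (tt N26741 F292245) (tt N51226 D93527) (tt N13519 (iv5 D43736)) (tt N51227 D93528) (tt N26354 F292246))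
theorem Q27070 : ∀ i, i < 27070 → P i := stepQ 27069 Q27069 (allL N27069 (tt N26586 (iv1 F68882)) (tt N26667 (iv0 F290687)) (tt N26668 F290609) (tt N27624 (iv3 F70673)) (tt N26899 F68880) (tt N24428 (iv5 F290690)) (tt N13522 (iv6 D43826)) (tt N24427 F290610))
theorem Q27071 : ∀ i, i < 27071 → P i := stepQ 27070 Q27070 (allL N27070 (tt N14624 (iv1 F290899)) (tt N13523 (iv0 D43827)) (tt N26633 F290732) (tt N27625 (iv3 F70685)) (tt N26675 F68883) (tt N49863 (iv5 F291061)) (tt N24438 (iv6 F291063)) (tt N25707 (iv7 F290903)))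
theorem Q27072 : ∀ i, i < 27072 → P i := stepQ 27071 Q27071 (allL N27071 (tt N26413 (iv1 F68892)) (tt N13525 (iv0 D43829)) (tt N26412 (iv2 F254749)) (tt N48863 (iv3 F294603)) (tt N51228 D93757) (tt N51128 (iv5 F295154)) (tt N28217 (iv6 F294615)) (tt N26411 F254748))
theorem Q27073 : ∀ i, i < 27073 → P i := stepQ 27072 Q27072 (allL N27072 (tt N13525 (iv1 D43830)) (tt N26413 F68896) (tt N26411 F254747) (tt N51229 D93761) (tt N51230 D93762) (tt N51129 (iv5 F295156)) (tt N28979 (iv6 F294622)) (tt N26412 (iv7 F254750)))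
theorem Q27074 : ∀ i, i < 27074 → P i := stepQ 27073 Q27073 (allL N27073 (tt N26412 (iv1 F68897)) (tt N26411 F68895) (tt N13525 (iv2 D43831)) (tt N26671 F68893) (tt N48643 (iv4 F133708)) (tt N51231 D93765) (tt N50212 (iv6 F139241)) (tt N26413 F68894))
theorem Q27075 : ∀ i, i < 27075 → P i := stepQ 27074 Q27074 (allL N27074 (tt N49448 (iv1 F294624)) (tt N49451 (iv0 F294625)) (tt N51231 (iv2 F144526)) (tt N13526 F68898) (tt N51232 D93768) (tt N13525 (iv5 D43832)) (tt N48195 (iv6 F294628)) (tt N26414 F68899))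
theorem Q27076 : ∀ i, i < 27076 → P i := stepQ 27075 Q27075 (allL N27075 (tt N51233 D93770) (tt N51234 D93771) (tt N26674 F68900) (tt N48195 (iv3 F294627)) (tt N50148 (iv4 F139085)) (tt N50214 (iv5 F139245)) (tt N13526 (iv6 D43833)) (tt N51235 D93772))
theorem Q27077 : ∀ i, i < 27077 → P i := stepQ 27076 Q27076 (allL N27076 (tt N27211 F69354) (tt N27222 (iv0 F69379)) (tt N45155 (iv2 F114644)) (tt N13528 (iv3 D43834)) (tt N25534 F68902) (tt N21676 F68901) (tt N51236 D93773) (tt N27203 (iv7 F69244)))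
theorem Q27078 : ∀ i, i < 27078 → P i := stepQ 27077 Q27077 (allL N27077 (tt N26784 F68903) (tt N26784 (iv0 F68905)) (tt N27204 (iv2 F69248)) (tt N14031 F68904) (tt N13528 (iv4 D43835)) (tt N32575 F83123) (tt N51237 D93774) (tt N27204 (iv7 F69249)))
theorem Q27079 : ∀ i, i < 27079 → P i := stepQ 27078 Q27078 (allL N27078 (tt N26402 F333358) (tt N26429 F333359) (tt N27205 (iv2 F69254)) (tt N51236 (iv3 F144541)) (tt N51237 (iv4 F144545)) (tt N51238 D93777) (tt N13528 (iv6 D43836)) (tt N50759 (iv7 F290321)))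
theorem Q27080 : ∀ i, i < 27080 → P i := stepQ 27079 Q27079 (allL N27079 (tt N51239 D93779) (tt N16475 (iv0 F69408)) (tt N27118 (iv2 F68983)) (tt N13531 F68907) (tt N27118 (iv4 F68985)) (tt N51240 D93780) (tt N13529 (iv6 D43838)) (tt N51241 D93781))
theorem Q27081 : ∀ i, i < 27081 → P i := stepQ 27080 Q27080 (allL N27080 (tt N26769 F293966) (tt N13530 (iv0 D43839)) (tt N27206 F344275) (tt N51242 D93783) (tt N51243 D93784) (tt N51244 D93785) (tt N51245 D93786) (tt N27207 (iv7 F344278)))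
theorem Q27082 : ∀ i, i < 27082 → P i := stepQ 27081 Q27081 (allL N27081 (tt N13530 (iv1 D43840)) (tt N26769 F293965) (tt N27207 (iv2 F344277)) (tt N51246 D93788) (tt N51247 D93789) (tt N51248 D93790) (tt N51249 D93791) (tt N27206 F344276))
theorem Q27083 : ∀ i, i < 27083 → P i := stepQ 27082 Q27082 (allL N27082 (tt N51250 D93792) (tt N51251 D93793) (tt N27208 (iv2 F69256)) (tt N13534 F68908) (tt N51252 D93794) (tt N13530 (iv5 D43841)) (tt N51240 (iv6 F144557)) (tt N51253 D93795))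
theorem Q27084 : ∀ i, i < 27084 → P i := stepQ 27083 Q27083 (allL N27083 (tt N27207 (iv1 F69255)) (tt N27206 F69262) (tt N26769 F293967) (tt N13535 F68909) (tt N27083 F68910) (tt N51253 (iv5 F144571)) (tt N26769 (iv6 F292979)) (tt N13530 (iv7 D43842)))
theorem Q27085 : ∀ i, i < 27085 → P i := stepQ 27084 Q27084 (allL N27084 (tt N37287 F95763) (tt N50972 (iv0 F143185)) (tt N13552 F68911) (tt N51240 (iv3 F144556)) (tt N51254 D93796) (tt N13531 (iv5 D43843)) (tt N13534 F68912) (tt N51255 D93797))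
theorem Q27086 : ∀ i, i < 27086 → P i := stepQ 27085 Q27085 (allL N27085 (tt N13551 (iv1 F68915)) (tt N13550 F68916) (tt N13553 F68913) (tt N51241 (iv3 F144559)) (tt N13612 F68914) (tt N51255 (iv5 F144575)) (tt N27121 (iv6 F68996)) (tt N13531 (iv7 D43844)))
theorem Q27087 : ∀ i, i < 27087 → P i := stepQ 27086 Q27086 (allL N27086 (tt N45166 F157582) (tt N27224 F157583) (tt N45165 (iv2 F157576)) (tt N13532 (iv3 D43845)) (tt N13750 F68918) (tt N51256 D93801) (tt N51026 F143279) (tt N13557 F68919))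
theorem Q27088 : ∀ i, i < 27088 → P i := stepQ 27087 Q27087 (allL N27087 (tt N25955 F68922) (tt N29091 F293753) (tt N13555 F68920) (tt N51256 (iv3 F144588)) (tt N51257 D93803) (tt N13532 (iv5 D43846)) (tt N51033 (iv6 F143284)) (tt N13558 F68921))
theorem Q27089 : ∀ i, i < 27089 → P i := stepQ 27088 Q27088 (allL N27088 (tt N27210 F157266) (tt N51258 D93805) (tt N50492 F294925) (tt N13533 (iv3 D43847)) (tt N14055 F68923) (tt N51259 D93807) (tt N51260 D93808) (tt N13554 F68924))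
theorem Q27090 : ∀ i, i < 27090 → P i := stepQ 27089 Q27089 (allL N27089 (tt N29091 F293754) (tt N25955 F68927) (tt N13558 F68925) (tt N51259 (iv3 F144604)) (tt N51261 D93809) (tt N13533 (iv5 D43848)) (tt N51262 D93810) (tt N13555 F68926))
theorem Q27091 : ∀ i, i < 27091 → P i := stepQ 27090 Q27090 (allL N27090 (tt N28551 F291812) (tt N25565 F75903) (tt N13559 F68928) (tt N51260 (iv3 F144606)) (tt N27956 (iv4 F72353)) (tt N29374 (iv5 F75901)) (tt N13533 (iv6 D43849)) (tt N50764 (iv7 F142293)))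
theorem Q27092 : ∀ i, i < 27092 → P i := stepQ 27091 Q27091 (allL N27091 (tt N13563 (iv1 F68931)) (tt N13534 (iv0 D43850)) (tt N13560 (iv2 F68929)) (tt N51263 D93811) (tt N51264 D93812) (tt N14495 F292766) (tt N51265 D93813) (tt N13561 F68930))
theorem Q27093 : ∀ i, i < 27093 → P i := stepQ 27092 Q27092 (allL N27092 (tt N51266 D93814) (tt N50430 (iv0 F139698)) (tt N13562 F68932) (tt N51267 D93815) (tt N13534 (iv4 D43851)) (tt N27157 (iv5 F69048)) (tt N51254 (iv6 F144573)) (tt N27156 (iv7 F69044)))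
theorem Q27094 : ∀ i, i < 27094 → P i := stepQ 27093 Q27093 (allL N27093 (tt N13561 (iv1 F68935)) (tt N13560 F68936) (tt N13563 F68933) (tt N51253 (iv3 F144570)) (tt N27156 (iv4 F69043)) (tt N13535 F68934) (tt N51268 D93816) (tt N13534 (iv7 D43852)))
theorem Q27095 : ∀ i, i < 27095 → P i := stepQ 27094 Q27094 (allL N27094 (tt N49356 (iv1 F293187)) (tt N26383 (iv0 F68939)) (tt N49355 (iv2 F293184)) (tt N13536 (iv3 D43853)) (tt N14017 F68937) (tt N51269 D93817) (tt N51100 (iv6 F143547)) (tt N13576 F68938))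
theorem Q27096 : ∀ i, i < 27096 → P i := stepQ 27095 Q27095 (allL N27095 (tt N50890 (iv1 F142929)) (tt N51270 D93818) (tt N13571 F68940) (tt N51269 (iv3 F144622)) (tt N51271 D93819) (tt N13536 (iv5 D43854)) (tt N51272 D93820) (tt N13577 F68941))
theorem Q27097 : ∀ i, i < 27097 → P i := stepQ 27096 Q27096 (allL N27096 (tt N29316 F291478) (tt N28374 F291479) (tt N27942 F291480) (tt N13539 F68948) (tt N13742 F68949) (tt N13700 F291481) (tt N13537 (iv6 D43856)) (tt N26284 F291482))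
theorem Q27098 : ∀ i, i < 27098 → P i := stepQ 27097 Q27097 (allL N27097 (tt N26386 F205496) (tt N50727 (iv0 F205502)) (tt N50725 (iv2 F178329)) (tt N13538 (iv3 D43857)) (tt N13740 F68952) (tt N51273 D93825) (tt N51274 D93826) (tt N13570 F68953))
theorem Q27099 : ∀ i, i < 27099 → P i := stepQ 27098 Q27098 (allL N27098 (tt N51270 (iv1 F144624)) (tt N50890 (iv0 F142928)) (tt N13577 F68954) (tt N51273 (iv3 F144646)) (tt N51275 D93827) (tt N13538 (iv5 D43858)) (tt N51276 D93828) (tt N13571 F68955))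
theorem Q27100 : ∀ i, i < 27100 → P i := stepQ 27099 Q27099 (allL N27099 (tt N28556 (iv1 F291073)) (tt N26424 F69122) (tt N13578 F68956) (tt N51274 (iv3 F144648)) (tt N13539 F68957) (tt N50905 (iv5 F142989)) (tt N13538 (iv6 D43859)) (tt N26287 (iv7 F290989)))
theorem Q27101 : ∀ i, i < 27101 → P i := stepQ 27100 Q27100 (allL N27100 (tt N26133 F68959) (tt N28128 (iv0 F72745)) (tt N26023 F68958) (tt N27803 (iv3 F71559)) (tt N13540 (iv4 D43860)) (tt N51277 D93829) (tt N51278 D93830) (tt N27209 (iv7 F69344)))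
theorem Q27102 : ∀ i, i < 27102 → P i := stepQ 27101 Q27101 (allL N27101 (tt N27241 (iv1 F157568)) (tt N26771 F294237) (tt N27212 (iv2 F69355)) (tt N27224 (iv3 F69383)) (tt N51278 (iv4 F144662)) (tt N38317 (iv5 F97944)) (tt N13540 (iv6 D43861)) (tt N27240 F157562))
theorem Q27103 : ∀ i, i < 27103 → P i := stepQ 27102 Q27102 (allL N27102 (tt N45155 (iv1 F114649)) (tt N27203 F69247) (tt N27222 (iv2 F69377)) (tt N13541 (iv3 D43862)) (tt N13988 F68961) (tt N21265 F68960) (tt N51279 D93834) (tt N27211 (iv7 F69349)))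
theorem Q27104 : ∀ i, i < 27104 → P i := stepQ 27103 Q27103 (allL N27103 (tt N28128 (iv1 F72744)) (tt N26133 (iv0 F68964)) (tt N27209 (iv2 F69343)) (tt N25958 F68963) (tt N13541 (iv4 D43863)) (tt N28285 (iv5 F74236)) (tt N50857 (iv6 F294815)) (tt N26023 F68962))
theorem Q27105 : ∀ i, i < 27105 → P i := stepQ 27104 Q27104 (allL N27104 (tt N13554 (iv1 F157249)) (tt N50492 (iv0 F294847)) (tt N27210 (iv2 F69345)) (tt N51279 (iv3 F144663)) (tt N50857 (iv4 F294814)) (tt N43064 (iv5 F108014)) (tt N13541 (iv6 D43864)) (tt N51258 (iv7 F157253)))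
theorem Q27106 : ∀ i, i < 27106 → P i := stepQ 27105 Q27105 (allL N27105 (tt N45122 (iv1 F114571)) (tt N13542 (iv0 D43865)) (tt N45120 F283531) (tt N45168 F138027) (tt N51280 D93840) (tt N51281 D93841) (tt N51282 D93842) (tt N45121 (iv7 F283534)))
theorem Q27107 : ∀ i, i < 27107 → P i := stepQ 27106 Q27106 (allL N27106 (tt N13542 (iv1 D43866)) (tt N45122 F114570) (tt N45121 (iv2 F283533)) (tt N51283 D93844) (tt N51284 D93845) (tt N51285 D93846) (tt N51286 D93847) (tt N45120 F283532))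
theorem Q27108 : ∀ i, i < 27108 → P i := stepQ 27107 Q27107 (allL N27107 (tt N45121 (iv1 F114564)) (tt N45120 F114569) (tt N45122 (iv2 F114565)) (tt N13544 F68969) (tt N49490 (iv4 F136685)) (tt N45105 (iv5 F114547)) (tt N27217 (iv6 F69363)) (tt N13542 (iv7 D43867)))
theorem Q27109 : ∀ i, i < 27109 → P i := stepQ 27108 Q27108 (allL N27108 (tt N27230 (iv1 F69404)) (tt N13543 (iv0 D43868)) (tt N25940 (iv2 F68971)) (tt N51287 D93848) (tt N47570 (iv4 F328233)) (tt N25929 F68970) (tt N51288 D93849) (tt N27228 (iv7 F69394)))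
theorem Q27110 : ∀ i, i < 27110 → P i := stepQ 27109 Q27109 (allL N27109 (tt N47509 F319803) (tt N37140 F319804) (tt N27229 (iv2 F69397)) (tt N51289 D93850) (tt N13543 (iv4 D43869)) (tt N38142 F319158) (tt N45028 (iv6 F114403)) (tt N47508 (iv7 F317578)))
theorem Q27111 : ∀ i, i < 27111 → P i := stepQ 27110 Q27110 (allL N27110 (tt N27228 (iv1 F69393)) (tt N25940 (iv0 F68973)) (tt N27230 (iv2 F69400)) (tt N45105 (iv3 F114546)) (tt N47508 F319799) (tt N13544 F68972) (tt N51290 D93851) (tt N13543 (iv7 D43870)))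
theorem Q27112 : ∀ i, i < 27112 → P i := stepQ 27111 Q27111 (allL N27111 (tt N45154 (iv1 F114638)) (tt N13545 (iv0 D43871)) (tt N45168 F283535) (tt N51291 D93853) (tt N27831 F142174) (tt N51292 D93854) (tt N51293 D93855) (tt N45169 (iv7 F283540)))
theorem Q27113 : ∀ i, i < 27113 → P i := stepQ 27112 Q27112 (allL N27112 (tt N13545 (iv1 D43872)) (tt N45154 F114637) (tt N45169 (iv2 F283539)) (tt N45121 (iv3 F138035)) (tt N27832 (iv4 F138034)) (tt N51294 D93857) (tt N51295 D93858) (tt N45168 F283538))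
theorem Q27114 : ∀ i, i < 27114 → P i := stepQ 27113 Q27113 (allL N27113 (tt N51296 D93859) (tt N45116 (iv0 F251646)) (tt N34701 (iv2 F88599)) (tt N13546 F68975) (tt N45167 (iv4 F114670)) (tt N13545 (iv5 D43873)) (tt N21748 F68976) (tt N51297 D93861))
theorem Q27115 : ∀ i, i < 27115 → P i := stepQ 27114 Q27114 (allL N27114 (tt N45169 (iv1 F114672)) (tt N45168 F114671) (tt N45154 (iv2 F114635)) (tt N13547 F68977) (tt N27764 (iv4 F71434)) (tt N51297 (iv5 F144680)) (tt N27227 (iv6 F69389)) (tt N13545 (iv7 D43874)))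
theorem Q27116 : ∀ i, i < 27116 → P i := stepQ 27115 Q27115 (allL N27115 (tt N13546 (iv1 D43876)) (tt N27221 F69375) (tt N27219 (iv2 F69366)) (tt N51298 D93863) (tt N28954 F290743) (tt N26497 (iv5 F68980)) (tt N51299 D93864) (tt N27218 F69370))
theorem Q27117 : ∀ i, i < 27117 → P i := stepQ 27116 Q27116 (allL N27116 (tt N50032 (iv1 F139587)) (tt N50035 (iv0 F138598)) (tt N27220 (iv2 F69372)) (tt N51300 D93865) (tt N13546 (iv4 D43877)) (tt N28939 (iv5 F291468)) (tt N35060 (iv6 F92117)) (tt N51301 D93867))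
theorem Q27118 : ∀ i, i < 27118 → P i := stepQ 27117 Q27117 (allL N27117 (tt N27219 (iv1 F69364)) (tt N27218 F69371) (tt N27221 (iv2 F69373)) (tt N51297 (iv3 F144679)) (tt N51301 (iv4 F144687)) (tt N13547 F68981) (tt N51302 D93868) (tt N13546 (iv7 D43878)))
theorem Q27119 : ∀ i, i < 27119 → P i := stepQ 27118 Q27118 (allL N27118 (tt N32798 F83554) (tt N29897 (iv0 F77571)) (tt N27079 F68983) (tt N13549 F68984) (tt N27079 F68985) (tt N51303 D93869) (tt N13548 (iv6 D43880)) (tt N32796 (iv7 F83549)))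
theorem Q27120 : ∀ i, i < 27120 → P i := stepQ 27119 Q27119 (allL N27119 (tt N13549 (iv1 D43881)) (tt N13612 F68986) (tt N13610 (iv2 F68988)) (tt N17157 (iv3 F68989)) (tt N17168 F68990) (tt N51304 D93870) (tt N17155 F68991) (tt N13609 F68987))
theorem Q27121 : ∀ i, i < 27121 → P i := stepQ 27120 Q27120 (allL N27120 (tt N29973 F86647) (tt N50303 (iv0 F139486)) (tt N13611 F68992) (tt N51303 (iv3 F144695)) (tt N45972 F293656) (tt N13549 (iv5 D43882)) (tt N13597 F68993) (tt N51305 D93872))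
theorem Q27122 : ∀ i, i < 27122 → P i := stepQ 27121 Q27121 (allL N27121 (tt N13610 (iv1 F68997)) (tt N13609 F68998) (tt N13612 F68994) (tt N32796 F83550) (tt N13553 F68995) (tt N51305 (iv5 F144703)) (tt N27085 F68996) (tt N13549 (iv7 D43883)))
theorem Q27123 : ∀ i, i < 27123 → P i := stepQ 27122 Q27122 (allL N27122 (tt N16157 (iv1 F69003)) (tt N14036 (iv0 F69001)) (tt N16160 F68999) (tt N32129 (iv3 F82391)) (tt N13550 (iv4 D43884)) (tt N51306 D93873) (tt N32673 (iv6 F83331)) (tt N16158 F69000))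
theorem Q27124 : ∀ i, i < 27124 → P i := stepQ 27123 Q27123 (allL N27123 (tt N51307 D93874) (tt N51308 D93875) (tt N38209 (iv2 F97663)) (tt N30416 F78510) (tt N51309 D93876) (tt N13550 (iv5 D43885)) (tt N51310 D93877) (tt N42999 (iv7 F107879)))
theorem Q27125 : ∀ i, i < 27125 → P i := stepQ 27124 Q27124 (allL N27124 (tt N16457 (iv1 F69006)) (tt N16456 F69007) (tt N16459 F69004) (tt N33989 (iv3 F86424)) (tt N32673 (iv4 F83330)) (tt N50108 (iv5 F138885)) (tt N13550 (iv6 D43886)) (tt N16451 F69005))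
theorem Q27126 : ∀ i, i < 27126 → P i := stepQ 27125 Q27125 (allL N27125 (tt N51308 (iv1 F144712)) (tt N51307 F144711) (tt N42999 (iv2 F107877)) (tt N14744 F69008) (tt N51311 D93878) (tt N13551 (iv5 D43887)) (tt N51312 D93879) (tt N38209 (iv7 F97665)))
theorem Q27127 : ∀ i, i < 27127 → P i := stepQ 27126 Q27126 (allL N27126 (tt N51255 (iv1 F144577)) (tt N13552 (iv0 D43888)) (tt N37287 (iv2 F95764)) (tt N43062 (iv3 F108013)) (tt N51313 D93880) (tt N37286 F95765) (tt N51314 D93881) (tt N50972 (iv7 F143184)))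
theorem Q27128 : ∀ i, i < 27128 → P i := stepQ 27127 Q27127 (allL N27127 (tt N13552 (iv1 D43889)) (tt N51255 F144576) (tt N50972 (iv2 F143182)) (tt N19017 F83011) (tt N51315 D93882) (tt N19400 (iv5 F83010)) (tt N51316 D93883) (tt N37287 (iv7 F95762)))
theorem Q27129 : ∀ i, i < 27129 → P i := stepQ 27128 Q27128 (allL N27128 (tt N51317 D93884) (tt N51318 D93885) (tt N51254 (iv2 F144572)) (tt N51319 D93886) (tt N13552 (iv4 D43890)) (tt N51320 D93887) (tt N13562 F69009) (tt N51321 D93888))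
theorem Q27130 : ∀ i, i < 27130 → P i := stepQ 27129 Q27129 (allL N27129 (tt N50972 F143186) (tt N37287 (iv0 F143174)) (tt N51255 (iv2 F144574)) (tt N27239 (iv3 F69419)) (tt N51321 (iv4 F144719)) (tt N13553 F69010) (tt N51322 D93889) (tt N13552 (iv7 D43891)))
theorem Q27131 : ∀ i, i < 27131 → P i := stepQ 27130 Q27130 (allL N27130 (tt N50492 (iv1 F294848)) (tt N13554 (iv0 D43892)) (tt N51258 (iv2 F152544)) (tt N27245 (iv3 F144799)) (tt N51323 D93892) (tt N51324 D93893) (tt N27240 F157567) (tt N27210 F157264))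
theorem Q27132 : ∀ i, i < 27132 → P i := stepQ 27131 Q27131 (allL N27131 (tt N51258 (iv1 F144602)) (tt N27210 F157265) (tt N13554 (iv2 D43894)) (tt N45165 (iv3 F157577)) (tt N14054 (iv4 F69014)) (tt N51325 D93900) (tt N51326 D93901) (tt N50492 F294924))
theorem Q27133 : ∀ i, i < 27133 → P i := stepQ 27132 Q27132 (allL N27132 (tt N51327 D93903) (tt N51328 D93904) (tt N51325 (iv2 F144726)) (tt N13555 F69016) (tt N51329 D93905) (tt N13554 (iv5 D43896)) (tt N51330 D93906) (tt N51259 (iv7 F144605)))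
theorem Q27134 : ∀ i, i < 27134 → P i := stepQ 27133 Q27133 (allL N27133 (tt N51331 D93907) (tt N51332 D93908) (tt N51326 (iv2 F144727)) (tt N13556 F69017) (tt N49814 F137316) (tt N50827 (iv5 F142663)) (tt N13554 (iv6 D43897)) (tt N51015 (iv7 F143269)))
theorem Q27135 : ∀ i, i < 27135 → P i := stepQ 27134 Q27134 (allL N27134 (tt N13558 (iv1 F69019)) (tt N13555 (iv0 D43898)) (tt N25955 (iv2 F69020)) (tt N51333 D93909) (tt N51334 D93910) (tt N25946 F69018) (tt N51335 D93911) (tt N29091 F293715))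
theorem Q27136 : ∀ i, i < 27136 → P i := stepQ 27135 Q27135 (allL N27135 (tt N51336 D93914) (tt N51337 D93915) (tt N51257 (iv2 F144594)) (tt N51338 D93916) (tt N13555 (iv4 D43900)) (tt N27151 (iv5 F69042)) (tt N51339 D93917) (tt N51261 (iv7 F144609)))
theorem Q27137 : ∀ i, i < 27137 → P i := stepQ 27136 Q27136 (allL N27136 (tt N51340 D93918) (tt N51341 D93919) (tt N51033 (iv2 F143283)) (tt N51330 (iv3 F144732)) (tt N51339 (iv4 F144748)) (tt N50829 (iv5 F142668)) (tt N13555 (iv6 D43901)) (tt N51342 D93920))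
theorem Q27138 : ∀ i, i < 27138 → P i := stepQ 27137 Q27137 (allL N27137 (tt N13557 (iv1 D43904)) (tt N45165 (iv0 F157575)) (tt N45166 (iv2 F157580)) (tt N27240 (iv3 F144586)) (tt N27876 F144585) (tt N51343 D93927) (tt N27245 (iv6 F157581)) (tt N27224 (iv7 F157570)))
theorem Q27139 : ∀ i, i < 27139 → P i := stepQ 27138 Q27138 (allL N27138 (tt N27224 F157584) (tt N45166 F157585) (tt N13557 (iv2 D43905)) (tt N50492 (iv3 F294849)) (tt N51344 D93929) (tt N51345 D93930) (tt N51346 D93931) (tt N45165 (iv7 F157579)))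
theorem Q27140 : ∀ i, i < 27140 → P i := stepQ 27139 Q27139 (allL N27139 (tt N27755 (iv1 F178361)) (tt N51347 D93933) (tt N51344 (iv2 F144752)) (tt N13684 F69029) (tt N13557 (iv4 D43906)) (tt N51348 D93934) (tt N49925 (iv6 F137956)) (tt N13750 F69030))
theorem Q27141 : ∀ i, i < 27141 → P i := stepQ 27140 Q27140 (allL N27140 (tt N51349 D93935) (tt N51350 D93936) (tt N51345 (iv2 F144757)) (tt N13558 F69031) (tt N51351 D93937) (tt N13557 (iv5 D43907)) (tt N51352 D93938) (tt N51256 (iv7 F144589)))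
theorem Q27142 : ∀ i, i < 27142 → P i := stepQ 27141 Q27141 (allL N27141 (tt N51353 D93939) (tt N45146 (iv0 F251945)) (tt N51346 (iv2 F144758)) (tt N13559 F69032) (tt N49925 (iv4 F137955)) (tt N51354 D93941) (tt N13557 (iv6 D43908)) (tt N51355 D93942))
theorem Q27143 : ∀ i, i < 27143 → P i := stepQ 27142 Q27142 (allL N27142 (tt N51337 (iv1 F144746)) (tt N51336 F144745) (tt N51261 (iv2 F144608)) (tt N51356 D93943) (tt N13558 (iv4 D43909)) (tt N27148 (iv5 F69041)) (tt N51357 D93944) (tt N51257 (iv7 F144595)))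
theorem Q27144 : ∀ i, i < 27144 → P i := stepQ 27143 Q27143 (allL N27143 (tt N51358 D93945) (tt N51359 D93946) (tt N51262 (iv2 F144610)) (tt N51352 (iv3 F144766)) (tt N51357 (iv4 F144769)) (tt N51360 D93947) (tt N13558 (iv6 D43910)) (tt N51361 D93948))
theorem Q27145 : ∀ i, i < 27145 → P i := stepQ 27144 Q27144 (allL N27144 (tt N50764 (iv1 F142292)) (tt N13559 (iv0 D43911)) (tt N28551 F292014) (tt N25567 (iv3 F69036)) (tt N13580 F69033) (tt N26931 F69034) (tt N14608 (iv6 F293132)) (tt N25565 (iv7 F69037)))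
theorem Q27146 : ∀ i, i < 27146 → P i := stepQ 27145 Q27145 (allL N27145 (tt N14637 (iv1 F69039)) (tt N26496 (iv0 F69038)) (tt N29374 F75905) (tt N51354 (iv3 F144767)) (tt N51362 D93949) (tt N13559 (iv5 D43913)) (tt N51360 (iv6 F144770)) (tt N29375 (iv7 F75907)))
theorem Q27147 : ∀ i, i < 27147 → P i := stepQ 27146 Q27146 (allL N27146 (tt N25565 (iv1 F75904)) (tt N28551 F292107) (tt N50764 F142297) (tt N51355 (iv3 F144768)) (tt N26302 F292108) (tt N29375 F75908) (tt N28462 F292109) (tt N13559 (iv7 D43914)))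
theorem Q27148 : ∀ i, i < 27148 → P i := stepQ 27147 Q27147 (allL N27147 (tt N51324 (iv1 F238552)) (tt N43064 (iv0 F157251)) (tt N51363 D93952) (tt N13560 (iv3 D43915)) (tt N51364 D93953) (tt N49275 (iv5 F135603)) (tt N51365 D93954) (tt N50326 (iv7 F139518)))
theorem Q27149 : ∀ i, i < 27149 → P i := stepQ 27148 Q27148 (allL N27148 (tt N51366 D93955) (tt N49485 (iv0 F136661)) (tt N51264 (iv2 F144612)) (tt N51367 D93956) (tt N13560 (iv4 D43916)) (tt N27142 F69041) (tt N51368 D93957) (tt N50341 (iv7 F139557)))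
theorem Q27150 : ∀ i, i < 27150 → P i := stepQ 27149 Q27149 (allL N27149 (tt N51369 D93958) (tt N51370 D93959) (tt N51265 (iv2 F144616)) (tt N51365 (iv3 F144773)) (tt N51368 (iv4 F144779)) (tt N51371 D93960) (tt N13560 (iv6 D43917)) (tt N51372 D93961))
theorem Q27151 : ∀ i, i < 27151 → P i := stepQ 27150 Q27150 (allL N27150 (tt N19019 F157805) (tt N51343 (iv0 F157806)) (tt N51373 D93964) (tt N13561 (iv3 D43918)) (tt N51374 D93965) (tt N49276 (iv5 F135606)) (tt N51375 D93966) (tt N51263 (iv7 F144611)))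
theorem Q27152 : ∀ i, i < 27152 → P i := stepQ 27151 Q27151 (allL N27151 (tt N49485 (iv1 F136662)) (tt N51366 F144776) (tt N50341 (iv2 F139556)) (tt N51376 D93967) (tt N13561 (iv4 D43919)) (tt N27135 F69042) (tt N51377 D93968) (tt N51264 (iv7 F144614)))
theorem Q27153 : ∀ i, i < 27153 → P i := stepQ 27152 Q27152 (allL N27152 (tt N51378 D93969) (tt N51379 D93970) (tt N50339 (iv2 F139554)) (tt N51375 (iv3 F144781)) (tt N51377 (iv4 F144783)) (tt N50113 (iv5 F138914)) (tt N13561 (iv6 D43920)) (tt N51380 D93971))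
theorem Q27154 : ∀ i, i < 27154 → P i := stepQ 27153 Q27153 (allL N27153 (tt N27156 (iv1 F69049)) (tt N13562 (iv0 D43921)) (tt N51266 F144618) (tt N51381 D93972) (tt N27176 (iv4 F69093)) (tt N27181 (iv5 F69115)) (tt N51382 D93973) (tt N50430 (iv7 F139697)))
theorem Q27155 : ∀ i, i < 27155 → P i := stepQ 27154 Q27154 (allL N27154 (tt N13562 (iv1 D43922)) (tt N27156 F69045) (tt N50430 (iv2 F139696)) (tt N51383 D93974) (tt N27187 (iv4 F69127)) (tt N27170 (iv5 F69128)) (tt N51384 D93975) (tt N51266 (iv7 F144620)))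
theorem Q27156 : ∀ i, i < 27156 → P i := stepQ 27155 Q27155 (allL N27155 (tt N51385 D93976) (tt N51386 D93977) (tt N51387 D93978) (tt N13562 (iv3 D43923)) (tt N27259 (iv4 F69444)) (tt N51388 D93979) (tt N51319 (iv6 F144718)) (tt N51389 D93980))
theorem Q27157 : ∀ i, i < 27157 → P i := stepQ 27156 Q27156 (allL N27156 (tt N27154 (iv1 F69045)) (tt N27153 F69049) (tt N27157 (iv2 F69046)) (tt N51388 (iv3 F144784)) (tt N27093 F69043) (tt N13562 (iv5 D43924)) (tt N51390 D93981) (tt N27092 F69044))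
theorem Q27158 : ∀ i, i < 27158 → P i := stepQ 27157 Q27157 (allL N27157 (tt N50430 (iv1 F139699)) (tt N51266 F144619) (tt N27156 F69046) (tt N51389 (iv3 F144786)) (tt N13563 F69047) (tt N27092 F69048) (tt N51391 D93982) (tt N13562 (iv7 D43925)))
theorem Q27159 : ∀ i, i < 27159 → P i := stepQ 27158 Q27158 (allL N27158 (tt N51392 D93983) (tt N51393 D93984) (tt N51268 (iv2 F144621)) (tt N26775 F294561) (tt N51391 (iv4 F144790)) (tt N26775 (iv5 F293659)) (tt N13563 (iv6 D43926)) (tt N51322 (iv7 F144720)))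
theorem Q27160 : ∀ i, i < 27160 → P i := stepQ 27159 Q27159 (allL N27159 (tt N26378 (iv1 F69171)) (tt N14545 F291794) (tt N13568 F69050) (tt N24439 F69051) (tt N13739 F69052) (tt N48901 (iv5 F134826)) (tt N13565 (iv6 D43927)) (tt N28370 F291795))
theorem Q27161 : ∀ i, i < 27161 → P i := stepQ 27160 Q27160 (allL N27160 (tt N51394 D93985) (tt N27829 F157280) (tt N41167 (iv2 F302690)) (tt N13566 (iv3 D43928)) (tt N13570 F69053) (tt N41093 (iv5 F302691)) (tt N41095 F299847) (tt N13740 F69054))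
theorem Q27162 : ∀ i, i < 27162 → P i := stepQ 27161 Q27161 (allL N27161 (tt N14675 F69057) (tt N49214 F294000) (tt N13738 F69055) (tt N41093 F305027) (tt N51395 D93991) (tt N13566 (iv5 D43929)) (tt N41092 F305028) (tt N13741 F69056))
theorem Q27163 : ∀ i, i < 27163 → P i := stepQ 27162 Q27162 (allL N27162 (tt N51396 D93994) (tt N51397 D93995) (tt N49358 F295036) (tt N13569 (iv3 D43935)) (tt N26097 F69069) (tt N51398 D93997) (tt N26657 (iv6 F291883)) (tt N26084 F69070))
theorem Q27164 : ∀ i, i < 27164 → P i := stepQ 27163 Q27163 (allL N27163 (tt N27187 (iv1 F69126)) (tt N27176 (iv0 F69091)) (tt N49357 (iv2 F290737)) (tt N51398 (iv3 F144826)) (tt N51399 D93998) (tt N13569 (iv5 D43936)) (tt N51400 D93999) (tt N26086 F69071))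
theorem Q27165 : ∀ i, i < 27165 → P i := stepQ 27164 Q27164 (allL N27164 (tt N50725 (iv1 F178328)) (tt N13570 (iv0 D43937)) (tt N50727 (iv2 F178333)) (tt N27261 F144763) (tt N49983 (iv4 F294583)) (tt N51401 D94002) (tt N27261 F178327) (tt N26386 (iv7 F178337)))
theorem Q27166 : ∀ i, i < 27166 → P i := stepQ 27165 Q27165 (allL N27165 (tt N50727 (iv1 F205503)) (tt N26386 F205495) (tt N13570 (iv2 D43939)) (tt N49355 F294190) (tt N41167 F305030) (tt N51402 D94009) (tt N41176 F305031) (tt N50725 (iv7 F178332)))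
theorem Q27167 : ∀ i, i < 27167 → P i := stepQ 27166 Q27166 (allL N27166 (tt N51403 D94011) (tt N51404 D94012) (tt N51402 (iv2 F144840)) (tt N13571 F69072) (tt N51405 D94013) (tt N13570 (iv5 D43940)) (tt N51406 D94014) (tt N51273 (iv7 F144647)))
theorem Q27168 : ∀ i, i < 27168 → P i := stepQ 27167 Q27167 (allL N27167 (tt N51407 D94015) (tt N51408 D94016) (tt N41176 (iv2 F302689)) (tt N13572 F69073) (tt N41095 F299846) (tt N51409 D94017) (tt N13570 (iv6 D43941)) (tt N51096 (iv7 F143535)))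
theorem Q27169 : ∀ i, i < 27169 → P i := stepQ 27168 Q27168 (allL N27168 (tt N13577 (iv1 F69075)) (tt N13571 (iv0 D43942)) (tt N50890 (iv2 F142926)) (tt N51410 D94018) (tt N51411 D94019) (tt N14452 F69074) (tt N51412 D94020) (tt N51270 (iv7 F144625)))
theorem Q27170 : ∀ i, i < 27170 → P i := stepQ 27169 Q27169 (allL N27169 (tt N13571 (iv1 D43943)) (tt N13577 F69076) (tt N51270 F144627) (tt N49364 F293457) (tt N51413 D94022) (tt N26622 F69077) (tt N51414 D94023) (tt N50890 (iv7 F142927)))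
theorem Q27171 : ∀ i, i < 27171 → P i := stepQ 27170 Q27170 (allL N27170 (tt N51334 (iv1 F144737)) (tt N29092 F293766) (tt N51271 (iv2 F144628)) (tt N51415 D94024) (tt N13571 (iv4 D43944)) (tt N27154 F69128) (tt N51416 D94025) (tt N51275 (iv7 F144652)))
theorem Q27172 : ∀ i, i < 27172 → P i := stepQ 27171 Q27171 (allL N27171 (tt N51417 D94026) (tt N51418 D94027) (tt N51272 (iv2 F144632)) (tt N51406 (iv3 F144842)) (tt N51416 (iv4 F144859)) (tt N51419 D94028) (tt N13571 (iv6 D43945)) (tt N51420 D94029))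
theorem Q27173 : ∀ i, i < 27173 → P i := stepQ 27172 Q27172 (allL N27172 (tt N13572 (iv1 D43946)) (tt N26283 F290811) (tt N26632 F290812) (tt N28558 F294200) (tt N25706 (iv4 F291242)) (tt N26984 F69487) (tt N27273 (iv6 F69486)) (tt N26397 F69078))
theorem Q27174 : ∀ i, i < 27174 → P i := stepQ 27173 Q27173 (allL N27173 (tt N14208 F69079) (tt N50836 (iv0 F142696)) (tt N50872 F142846) (tt N51409 (iv3 F144843)) (tt N50831 F142672) (tt N13572 (iv5 D43947)) (tt N51419 (iv6 F144860)) (tt N50871 F142838))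
theorem Q27175 : ∀ i, i < 27175 → P i := stepQ 27174 Q27174 (allL N27174 (tt N13579 (iv1 F69087)) (tt N13573 (iv0 D43949)) (tt N26622 (iv2 F69086)) (tt N51421 D94032) (tt N14458 F69085) (tt N51270 (iv5 F144626)) (tt N28340 (iv6 F73628)) (tt N14452 F69088))
theorem Q27176 : ∀ i, i < 27176 → P i := stepQ 27175 Q27175 (allL N27175 (tt N51422 D94033) (tt N50882 (iv0 F251870)) (tt N51423 D94035) (tt N13573 (iv3 D43950)) (tt N49213 F293507) (tt N51424 D94036) (tt N29055 F290553) (tt N26617 F69089))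
theorem Q27177 : ∀ i, i < 27177 → P i := stepQ 27176 Q27176 (allL N27176 (tt N27163 F69091) (tt N26782 F69092) (tt N29474 F293524) (tt N51424 (iv3 F144874)) (tt N27153 F69093) (tt N13573 (iv5 D43951)) (tt N51425 D94038) (tt N26623 F69090))
theorem Q27178 : ∀ i, i < 27178 → P i := stepQ 27177 Q27177 (allL N27177 (tt N26382 F290815) (tt N13575 (iv0 D43954)) (tt N27199 (iv2 F74585)) (tt N49829 (iv3 F291024)) (tt N26203 (iv4 F74590)) (tt N26667 F74586) (tt N28467 (iv6 F291259)) (tt N26196 F74587))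
theorem Q27179 : ∀ i, i < 27179 → P i := stepQ 27178 Q27178 (allL N27178 (tt N26383 F136750) (tt N49356 (iv0 F293186)) (tt N13576 (iv2 D43960)) (tt N50725 (iv3 F178330)) (tt N49519 (iv4 F136745)) (tt N51426 D94041) (tt N51427 D94042) (tt N49355 (iv7 F293185)))
theorem Q27180 : ∀ i, i < 27180 → P i := stepQ 27179 Q27179 (allL N27179 (tt N51428 D94043) (tt N49367 F291561) (tt N51426 (iv2 F144888)) (tt N13577 F69113) (tt N51429 D94045) (tt N13576 (iv5 D43961)) (tt N51430 D94046) (tt N51269 (iv7 F144623)))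
theorem Q27181 : ∀ i, i < 27181 → P i := stepQ 27180 Q27180 (allL N27180 (tt N51431 D94047) (tt N50773 (iv0 F142392)) (tt N51427 (iv2 F144889)) (tt N13578 F69114) (tt N49521 (iv4 F136754)) (tt N38576 F325803) (tt N13576 (iv6 D43962)) (tt N51432 D94049))
theorem Q27182 : ∀ i, i < 27182 → P i := stepQ 27181 Q27181 (allL N27181 (tt N29092 F293543) (tt N51334 (iv0 F144736)) (tt N51275 (iv2 F144650)) (tt N51433 D94050) (tt N13577 (iv4 D43963)) (tt N27153 F69115) (tt N51434 D94051) (tt N51271 (iv7 F144629)))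
theorem Q27183 : ∀ i, i < 27183 → P i := stepQ 27182 Q27182 (allL N27182 (tt N51435 D94052) (tt N51436 D94053) (tt N51276 (iv2 F144654)) (tt N51430 (iv3 F144890)) (tt N51434 (iv4 F144895)) (tt N51437 D94054) (tt N13577 (iv6 D43964)) (tt N51438 D94055))
theorem Q27184 : ∀ i, i < 27184 → P i := stepQ 27183 Q27183 (allL N27183 (tt N26287 (iv1 F290986)) (tt N13578 (iv0 D43965)) (tt N28556 (iv2 F291074)) (tt N51439 D94056) (tt N49863 (iv4 F291060)) (tt N26902 F69116) (tt N27266 F69467) (tt N26424 (iv7 F69117)))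
theorem Q27185 : ∀ i, i < 27185 → P i := stepQ 27184 Q27184 (allL N27184 (tt N26490 (iv1 F69119)) (tt N26487 F69118) (tt N50905 F142991) (tt N38576 F325802) (tt N51440 D94057) (tt N13578 (iv5 D43967)) (tt N51437 (iv6 F144896)) (tt N50906 (iv7 F142994)))
theorem Q27186 : ∀ i, i < 27186 → P i := stepQ 27185 Q27185 (allL N27185 (tt N26424 (iv1 F69121)) (tt N28556 (iv0 F291072)) (tt N26287 (iv2 F290987)) (tt N51432 (iv3 F144893)) (tt N13581 F69120) (tt N50906 (iv5 F142995)) (tt N26283 F290826) (tt N13578 (iv7 D43968)))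
theorem Q27187 : ∀ i, i < 27187 → P i := stepQ 27186 Q27186 (allL N27186 (tt N51441 D94058) (tt N25990 F290709) (tt N51442 D94059) (tt N13579 (iv3 D43969)) (tt N28437 (iv4 F73860)) (tt N51443 D94060) (tt N26456 F69123) (tt N29473 (iv7 F291014)))
theorem Q27188 : ∀ i, i < 27188 → P i := stepQ 27187 Q27187 (allL N27187 (tt N26782 F69125) (tt N27163 F69126) (tt N26623 F69124) (tt N51443 (iv3 F144907)) (tt N27154 F69127) (tt N13579 (iv5 D43970)) (tt N51444 D94061) (tt N29474 (iv7 F292494)))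
theorem Q27189 : ∀ i, i < 27189 → P i := stepQ 27188 Q27188 (allL N27188 (tt N49471 (iv1 F136555)) (tt N14061 (iv0 F69180)) (tt N49470 F136549) (tt N13582 (iv3 D43988)) (tt N27542 (iv4 F70407)) (tt N51445 D94097) (tt N25577 (iv6 F294734)) (tt N25529 F69179))
theorem Q27190 : ∀ i, i < 27190 → P i := stepQ 27189 Q27189 (allL N27189 (tt N25640 (iv1 F69183)) (tt N25639 F69184) (tt N25642 F69181) (tt N51445 (iv3 F145002)) (tt N48739 (iv4 F134181)) (tt N13582 (iv5 D43989)) (tt N51446 D94098) (tt N25532 F69182))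
theorem Q27191 : ∀ i, i < 27191 → P i := stepQ 27190 Q27190 (allL N27190 (tt N26865 F294792) (tt N26864 F294793) (tt N14069 F69185) (tt N13583 (iv3 D43990)) (tt N27190 F69186) (tt N51171 (iv5 F295022)) (tt N51447 D94100) (tt N25643 F69187))
theorem Q27192 : ∀ i, i < 27192 → P i := stepQ 27191 Q27191 (allL N27191 (tt N26700 (iv1 F294837)) (tt N26697 F294566) (tt N13586 F69188) (tt N51171 (iv3 F295021)) (tt N51448 D94101) (tt N13583 (iv5 D43991)) (tt N51449 D94102) (tt N25644 F69189))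
theorem Q27193 : ∀ i, i < 27193 → P i := stepQ 27192 Q27192 (allL N27192 (tt N29322 F291142) (tt N25542 F69218) (tt N13587 F69192) (tt N51447 (iv3 F145011)) (tt N13584 F69193) (tt N28738 (iv5 F74470)) (tt N13583 (iv6 D43992)) (tt N27781 (iv7 F291431)))
theorem Q27194 : ∀ i, i < 27194 → P i := stepQ 27193 Q27193 (allL N27193 (tt N51450 D94104) (tt N49555 (iv0 F136830)) (tt N51451 D94105) (tt N13585 (iv3 D43995)) (tt N14008 F69204) (tt N50577 (iv5 F295198)) (tt N27022 (iv6 F294930)) (tt N13945 F69205))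
theorem Q27195 : ∀ i, i < 27195 → P i := stepQ 27194 Q27194 (allL N27194 (tt N25644 (iv1 F69210)) (tt N13586 (iv0 D43997)) (tt N26700 (iv2 F294838)) (tt N51452 D94109) (tt N51453 D94110) (tt N26698 F294380) (tt N51454 D94111) (tt N26697 F294381))
theorem Q27196 : ∀ i, i < 27196 → P i := stepQ 27195 Q27195 (allL N27195 (tt N51455 D94112) (tt N49190 (iv0 F135330)) (tt N51448 (iv2 F145013)) (tt N50859 (iv3 F295369)) (tt N13586 (iv4 D43998)) (tt N48737 F134210) (tt N51456 D94114) (tt N27042 F295172))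
theorem Q27197 : ∀ i, i < 27197 → P i := stepQ 27196 Q27196 (allL N27196 (tt N51457 D94115) (tt N51458 D94116) (tt N51449 (iv2 F145018)) (tt N27049 F295173) (tt N51456 (iv4 F145055)) (tt N51459 D94117) (tt N13586 (iv6 D43999)) (tt N51460 D94118))
theorem Q27198 : ∀ i, i < 27198 → P i := stepQ 27197 Q27197 (allL N27197 (tt N27781 (iv1 F291430)) (tt N13587 (iv0 D44000)) (tt N29322 F291136) (tt N51461 D94119) (tt N27561 F72337) (tt N14332 F72338) (tt N29233 (iv6 F291791)) (tt N25542 (iv7 F72339)))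
theorem Q27199 : ∀ i, i < 27199 → P i := stepQ 27198 Q27198 (allL N27198 (tt N28704 (iv1 F74409)) (tt N28702 (iv0 F74404)) (tt N28738 F74472) (tt N27050 F294824) (tt N51462 D94120) (tt N13587 (iv5 D44001)) (tt N51459 (iv6 F145056)) (tt N28739 (iv7 F74474)))
theorem Q27200 : ∀ i, i < 27200 → P i := stepQ 27199 Q27199 (allL N27199 (tt N26812 (iv1 F290820)) (tt N25609 F74588) (tt N27177 F74585) (tt N13588 (iv3 D44003)) (tt N27014 (iv4 F290963)) (tt N14631 F69219) (tt N14212 (iv6 F290964)) (tt N25551 F69220))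
theorem Q27201 : ∀ i, i < 27201 → P i := stepQ 27200 Q27200 (allL N27200 (tt N49927 F137964) (tt N25638 (iv0 F69724)) (tt N29319 (iv2 F291922)) (tt N51463 D94121) (tt N13588 (iv4 D44004)) (tt N51464 D94122) (tt N27557 (iv6 F292376)) (tt N25555 F69222))
theorem Q27202 : ∀ i, i < 27202 → P i := stepQ 27201 Q27201 (allL N27201 (tt N25638 F134173) (tt N49927 (iv0 F137963)) (tt N25555 F69223) (tt N51465 D94123) (tt N13589 (iv4 D44005)) (tt N51466 D94124) (tt N25520 F69224) (tt N29319 (iv7 F291923)))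
theorem Q27203 : ∀ i, i < 27203 → P i := stepQ 27202 Q27202 (allL N27202 (tt N14454 F69228) (tt N14453 (iv0 F69230)) (tt N14136 F69225) (tt N14418 F69226) (tt N26994 F69229) (tt N13590 (iv5 D44006)) (tt N29010 (iv6 F74805)) (tt N14448 F69227))
theorem Q27204 : ∀ i, i < 27204 → P i := stepQ 27203 Q27203 (allL N27203 (tt N27102 (iv1 F69247)) (tt N23254 (iv0 F69246)) (tt N42347 (iv2 F106029)) (tt N13595 (iv3 D44011)) (tt N26151 F69245) (tt N17333 F69243) (tt N32847 (iv6 F83652)) (tt N27076 F69244))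
theorem Q27205 : ∀ i, i < 27205 → P i := stepQ 27204 Q27204 (allL N27204 (tt N26387 F69251) (tt N26387 (iv0 F69253)) (tt N27077 F69248) (tt N26080 F69252) (tt N13595 (iv4 D44012)) (tt N23197 F69250) (tt N51467 D94126) (tt N27077 F69249))
theorem Q27206 : ∀ i, i < 27206 → P i := stepQ 27205 Q27205 (allL N27205 (tt N26805 (iv1 F290315)) (tt N26830 (iv0 F290316)) (tt N27078 F69254) (tt N32847 (iv3 F83651)) (tt N51467 (iv4 F145080)) (tt N32842 (iv5 F83645)) (tt N13595 (iv6 D44013)) (tt N50041 (iv7 F333357)))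
theorem Q27207 : ∀ i, i < 27207 → P i := stepQ 27206 Q27206 (allL N27206 (tt N27083 (iv1 F69262)) (tt N13596 (iv0 D44014)) (tt N27080 (iv2 F344275)) (tt N51468 D94131) (tt N51469 D94132) (tt N51470 D94133) (tt N51471 D94134) (tt N27081 (iv7 F344276)))
theorem Q27208 : ∀ i, i < 27208 → P i := stepQ 27207 Q27207 (allL N27207 (tt N13596 (iv1 D44015)) (tt N27083 F69255) (tt N27081 F344277) (tt N51472 D94136) (tt N51473 D94137) (tt N51474 D94138) (tt N51475 D94139) (tt N27080 F344278))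
theorem Q27209 : ∀ i, i < 27209 → P i := stepQ 27208 Q27208 (allL N27208 (tt N51476 D94140) (tt N51477 D94141) (tt N27082 F69256) (tt N13597 F69257) (tt N51478 D94142) (tt N13596 (iv5 D44016)) (tt N51303 (iv6 F144696)) (tt N50711 F293655))
theorem Q27210 : ∀ i, i < 27210 → P i := stepQ 27209 Q27209 (allL N27209 (tt N43507 (iv1 F109129)) (tt N49379 F136183) (tt N27103 F69343) (tt N27443 (iv3 F70284)) (tt N13598 (iv4 D44045)) (tt N43683 (iv5 F109450)) (tt N51479 D94218) (tt N27100 F69344))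
theorem Q27211 : ∀ i, i < 27211 → P i := stepQ 27210 Q27210 (allL N27210 (tt N27131 (iv1 F157265)) (tt N27088 (iv0 F157266)) (tt N27104 F69345) (tt N23253 F69346) (tt N51479 (iv4 F145261)) (tt N51480 D94221) (tt N13598 (iv6 D44046)) (tt N27130 (iv7 F157264)))
theorem Q27212 : ∀ i, i < 27212 → P i := stepQ 27211 Q27211 (allL N27211 (tt N42347 (iv1 F106032)) (tt N27076 (iv0 F69354)) (tt N23254 F69347) (tt N13599 (iv3 D44047)) (tt N26056 F69348) (tt N32518 (iv5 F83067)) (tt N51481 D94223) (tt N27102 F69349))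
theorem Q27213 : ∀ i, i < 27213 → P i := stepQ 27212 Q27212 (allL N27212 (tt N13613 (iv1 F157561)) (tt N50714 F294682) (tt N27101 F69355) (tt N51481 (iv3 F145273)) (tt N49380 (iv4 F136186)) (tt N51482 D94226) (tt N13599 (iv6 D44048)) (tt N50713 (iv7 F294241)))
theorem Q27214 : ∀ i, i < 27214 → P i := stepQ 27213 Q27213 (allL N27213 (tt N51483 D94228) (tt N51484 D94229) (tt N13601 F69356) (tt N23257 F69357) (tt N26090 F69358) (tt N29589 (iv5 F76771)) (tt N13600 (iv6 D44049)) (tt N51485 D94230))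
theorem Q27215 : ∀ i, i < 27215 → P i := stepQ 27214 Q27214 (allL N27214 (tt N51485 F145291) (tt N13601 (iv0 D44050)) (tt N51483 (iv2 F145357)) (tt N23243 F136452) (tt N51486 D94232) (tt N42285 F321217) (tt N51487 D94234) (tt N51484 (iv7 F145356)))
theorem Q27216 : ∀ i, i < 27216 → P i := stepQ 27215 Q27215 (allL N27215 (tt N13601 (iv1 D44051)) (tt N51485 F145290) (tt N51484 (iv2 F145355)) (tt N51488 D94236) (tt N49395 (iv4 F136206)) (tt N41737 F319128) (tt N51489 D94238) (tt N51483 (iv7 F145358)))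
theorem Q27217 : ∀ i, i < 27217 → P i := stepQ 27216 Q27216 (allL N27216 (tt N23237 F142436) (tt N44004 F322017) (tt N29589 (iv2 F76770)) (tt N13602 F69359) (tt N51490 D94240) (tt N13601 (iv5 D44052)) (tt N16528 F69360) (tt N51491 D94241))
theorem Q27218 : ∀ i, i < 27218 → P i := stepQ 27217 Q27217 (allL N27217 (tt N51484 (iv1 F145283)) (tt N51483 F145289) (tt N51485 (iv2 F145285)) (tt N13603 F69361) (tt N26273 F69362) (tt N51491 (iv5 F145313)) (tt N27107 F69363) (tt N13601 (iv7 D44053)))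
theorem Q27219 : ∀ i, i < 27219 → P i := stepQ 27218 Q27218 (allL N27218 (tt N27117 (iv1 F69371)) (tt N13602 (iv0 D44054)) (tt N14480 F291053) (tt N51492 D94242) (tt N50037 (iv4 F138599)) (tt N13929 F291054) (tt N51493 D94243) (tt N27115 (iv7 F69370)))
theorem Q27220 : ∀ i, i < 27220 → P i := stepQ 27219 Q27219 (allL N27219 (tt N13602 (iv1 D44055)) (tt N27117 F69364) (tt N27115 F69366) (tt N25937 F69367) (tt N50038 (iv4 F138600)) (tt N14470 F291047) (tt N51494 D94244) (tt N14480 F291048))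
theorem Q27221 : ∀ i, i < 27221 → P i := stepQ 27220 Q27220 (allL N27220 (tt N50781 (iv1 F142427)) (tt N50783 (iv0 F142435)) (tt N27116 F69372) (tt N51495 D94245) (tt N13602 (iv4 D44056)) (tt N51496 D94246) (tt N50289 (iv6 F139423)) (tt N51497 D94247))
theorem Q27222 : ∀ i, i < 27222 → P i := stepQ 27221 Q27221 (allL N27221 (tt N27115 (iv1 F69375)) (tt N14480 F291098) (tt N27117 F69373) (tt N51491 (iv3 F145312)) (tt N51497 (iv4 F145322)) (tt N13603 F69374) (tt N51498 D94248) (tt N13602 (iv7 D44057)))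
theorem Q27223 : ∀ i, i < 27223 → P i := stepQ 27222 Q27222 (allL N27222 (tt N27076 F69379) (tt N42347 (iv0 F106030)) (tt N27102 F69377) (tt N13604 (iv3 D44058)) (tt N26057 F69380) (tt N32486 (iv5 F82940)) (tt N51499 D94249) (tt N23254 F69378))
theorem Q27224 : ∀ i, i < 27224 → P i := stepQ 27223 Q27223 (allL N27223 (tt N50717 (iv1 F294539)) (tt N13616 (iv0 F157256)) (tt N23253 F69381) (tt N51499 (iv3 F145333)) (tt N27466 (iv4 F70308)) (tt N38216 (iv5 F97674)) (tt N13604 (iv6 D44059)) (tt N50716 (iv7 F294536)))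
theorem Q27225 : ∀ i, i < 27225 → P i := stepQ 27224 Q27224 (allL N27224 (tt N27086 (iv1 F157583)) (tt N27138 (iv0 F157584)) (tt N23255 F69382) (tt N27101 F69383) (tt N27468 (iv4 F70313)) (tt N32125 (iv5 F82384)) (tt N13605 (iv6 D44060)) (tt N27137 F157570))
theorem Q27226 : ∀ i, i < 27226 → P i := stepQ 27225 Q27225 (allL N27225 (tt N23246 (iv1 F69390)) (tt N13606 (iv0 D44061)) (tt N23243 (iv2 F145352)) (tt N51500 D94257) (tt N27474 (iv4 F137982)) (tt N51501 D94258) (tt N51502 D94259) (tt N23244 F145351))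
theorem Q27227 : ∀ i, i < 27227 → P i := stepQ 27226 Q27226 (allL N27226 (tt N13606 (iv1 D44062)) (tt N23246 F69384) (tt N23244 F145353) (tt N51484 (iv3 F145284)) (tt N27475 F136673) (tt N44608 (iv5 F112691)) (tt N51503 D94260) (tt N23243 F145354))
theorem Q27228 : ∀ i, i < 27228 → P i := stepQ 27227 Q27227 (allL N27227 (tt N23244 (iv1 F69391)) (tt N23243 F69392) (tt N23246 F69385) (tt N13608 F69386) (tt N26313 F69387) (tt N23180 F69388) (tt N27114 F69389) (tt N13606 (iv7 D44063)))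
theorem Q27229 : ∀ i, i < 27229 → P i := stepQ 27228 Q27228 (allL N27228 (tt N13607 (iv1 D44064)) (tt N27110 F69393) (tt N25937 F69396) (tt N51504 D94261) (tt N24852 (iv4 F327762)) (tt N25928 (iv5 F69395)) (tt N24851 F327294) (tt N27108 F69394))
theorem Q27230 : ∀ i, i < 27230 → P i := stepQ 27229 Q27229 (allL N27229 (tt N50755 (iv1 F142265)) (tt N24811 (iv0 F315366)) (tt N27109 F69397) (tt N23848 F69398) (tt N13607 (iv4 D44065)) (tt N37428 F317746) (tt N23177 F69399) (tt N50952 (iv7 F143138)))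
theorem Q27231 : ∀ i, i < 27231 → P i := stepQ 27230 Q27230 (allL N27230 (tt N25937 (iv1 F69403)) (tt N27108 F69404) (tt N27110 F69400) (tt N23180 F69401) (tt N50952 (iv4 F143137)) (tt N13608 F69402) (tt N32894 (iv6 F83717)) (tt N13607 (iv7 D44066)))
theorem Q27232 : ∀ i, i < 27232 → P i := stepQ 27231 Q27231 (allL N27231 (tt N30410 (iv1 F78488)) (tt N26085 (iv0 F69409)) (tt N15713 F69405) (tt N17178 F69406) (tt N13609 (iv4 D44067)) (tt N51505 D94263) (tt N44971 (iv6 F114229)) (tt N17168 F69407))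
theorem Q27233 : ∀ i, i < 27233 → P i := stepQ 27232 Q27232 (allL N27232 (tt N45027 F114400) (tt N51506 D94264) (tt N30057 (iv2 F77915)) (tt N37515 (iv3 F96180)) (tt N51507 D94265) (tt N13609 (iv5 D44068)) (tt N51508 D94266) (tt N51304 (iv7 F144699)))
theorem Q27234 : ∀ i, i < 27234 → P i := stepQ 27233 Q27233 (allL N27233 (tt N32496 (iv1 F83433)) (tt N29569 F76727) (tt N23131 F69410) (tt N21923 F69411) (tt N44971 (iv4 F114228)) (tt N50295 (iv5 F139460)) (tt N13609 (iv6 D44069)) (tt N29583 (iv7 F76761)))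
theorem Q27235 : ∀ i, i < 27235 → P i := stepQ 27234 Q27234 (allL N27234 (tt N51506 (iv1 F145398)) (tt N45027 (iv0 F114399)) (tt N51304 (iv2 F144697)) (tt N14959 F69412) (tt N51509 D94267) (tt N13610 (iv5 D44070)) (tt N51510 D94268) (tt N30057 (iv7 F77917)))
theorem Q27236 : ∀ i, i < 27236 → P i := stepQ 27235 Q27235 (allL N27235 (tt N16447 F69417) (tt N16444 (iv0 F69416)) (tt N17155 F69413) (tt N14960 F69414) (tt N17166 F69415) (tt N46112 (iv5 F120341)) (tt N13610 (iv6 D44071)) (tt N29581 (iv7 F76754)))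
theorem Q27237 : ∀ i, i < 27237 → P i := stepQ 27236 Q27236 (allL N27236 (tt N51305 (iv1 F144705)) (tt N13611 (iv0 D44072)) (tt N29973 (iv2 F82964)) (tt N37516 F96185) (tt N51511 D94269) (tt N29972 F82956) (tt N51512 D94270) (tt N50303 (iv7 F139485)))
theorem Q27238 : ∀ i, i < 27238 → P i := stepQ 27237 Q27237 (allL N27237 (tt N13611 (iv1 D44073)) (tt N51305 F144704) (tt N50303 (iv2 F139483)) (tt N15014 F82965) (tt N51513 D94271) (tt N15013 F82966) (tt N51514 D94272) (tt N29973 F82967))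
theorem Q27239 : ∀ i, i < 27239 → P i := stepQ 27238 Q27238 (allL N27238 (tt N51515 D94273) (tt N51516 D94274) (tt N45972 F293461) (tt N51517 D94275) (tt N13611 (iv4 D44074)) (tt N51518 D94276) (tt N13621 F69418) (tt N51519 D94277))
theorem Q27240 : ∀ i, i < 27240 → P i := stepQ 27239 Q27239 (allL N27239 (tt N50303 F139487) (tt N29973 (iv0 F114374)) (tt N51305 (iv2 F144702)) (tt N27129 F69419) (tt N51519 (iv4 F145406)) (tt N13612 F69420) (tt N50722 (iv6 F294564)) (tt N13611 (iv7 D44075)))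
theorem Q27241 : ∀ i, i < 27241 → P i := stepQ 27240 Q27240 (allL N27240 (tt N50714 F294681) (tt N13613 (iv0 D44076)) (tt N50713 (iv2 F294238)) (tt N27137 F144586) (tt N51520 D94280) (tt N51521 D94281) (tt N27130 (iv6 F157567)) (tt N27101 (iv7 F157562)))

end Cfsg.Agent.Helper17.ONTC
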